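import Mathlib
import Cfsg.Prelude.Def_OddOrderLocal
import Cfsg.Prelude.Def_OddOrder
import Cfsg.Agent.Lib.Helper7.SylowLib
import Cfsg.Agent.Lib.Lead.Conj

/-!
# Bender–Glauberman Section 10, part A: conjugation utilities, the hypothesis `UniqThm`
(the statement of the Uniqueness Theorem), and basic facts on `σ(M)`.
-/

set_option autoImplicit false
set_option linter.unusedVariables false
set_option linter.unusedSectionVars false

namespace Cfsg.Agent.Lib.Helper8.BGTen

open Cfsg Cfsg.Agent.Lib.Helper7 Cfsg.Agent.Lib.Lead.Conj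

universe u

variable {G : Type u} [Group G]

/-- the conjugate `g X g⁻¹` -/
abbrev cj (g : G) (X : Subgroup G) : Subgroup G := X.map (MulAut.conj g).toMonoidHom

/-- the statement of the Uniqueness Theorem (S1403), as a hypothesis -/
def UniqThm (G : Type u) [Group G] : Prop :=
  ∀ K : Subgroup G, K ≠ ⊤ → ¬ Cfsg.RankLE 1 K →
    (¬ Cfsg.RankLE 2 K ∨ ¬ Cfsg.RankLE 2 (Subgroup.centralizer (K : Set G))) →
    Cfsg.InUniqueMaximal K

theorem mem_cj {g x : G} {X : Subgroup G} : x ∈ cj g X ↔ g⁻¹ * x * g ∈ X :=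
  mem_map_conj X g x

theorem conj_mem_cj {g x : G} {X : Subgroup G} (hx : x ∈ X) : g * x * g⁻¹ ∈ cj g X :=
  conj_mem_map_conj X g hx

theorem cj_one (X : Subgroup G) : cj 1 X = X := by
  ext x
  rw [mem_cj]
  simp

theorem cj_mul (a b : G) (X : Subgroup G) : cj (a * b) X = cj a (cj b X) := by
  ext x
  rw [mem_cj, mem_cj, mem_cj]
  have : (a * b)⁻¹ * x * (a * b) = b⁻¹ * (a⁻¹ * x * a) * b := by group
  rw [this]

theorem cj_inv_cj (a : G) (X : Subgroup G) : cj a⁻¹ (cj a X) = X := by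
  rw [← cj_mul, inv_mul_cancel, cj_one]

theorem cj_cj_inv (a : G) (X : Subgroup G) : cj a (cj a⁻¹ X) = X := by
  rw [← cj_mul, mul_inv_cancel, cj_one]

theorem cj_mono (g : G) {X Y : Subgroup G} (h : X ≤ Y) : cj g X ≤ cj g Y := Subgroup.map_mono h

theorem cj_le_iff {g : G} {X Y : Subgroup G} : cj g X ≤ Y ↔ X ≤ cj g⁻¹ Y := by
  constructor
  · intro h
    have := cj_mono g⁻¹ h
    rwa [cj_inv_cj] at this
  · intro h
    have := cj_mono g h
    rwa [cj_cj_inv] at this

theorem card_cj (g : G) (X : Subgroup G) : Nat.card ↥(cj g X) = Nat.card ↥X := card_map_conj X g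

theorem cj_eq_of_mem_normalizer {g : G} {X : Subgroup G}
    (hg : g ∈ Subgroup.normalizer (X : Set G)) : cj g X = X :=
  Subgroup.mem_normalizer_iff_map_conj_eq.mp hg

theorem mem_normalizer_of_cj_eq {g : G} {X : Subgroup G} (h : cj g X = X) :
    g ∈ Subgroup.normalizer (X : Set G) :=
  Subgroup.mem_normalizer_iff_map_conj_eq.mpr h

theorem cj_eq_of_mem {g : G} {X : Subgroup G} (hg : g ∈ X) : cj g X = X :=
  cj_eq_of_mem_normalizer (Subgroup.le_normalizer hg)

theorem cj_eq_of_mem_centralizer {g : G} {X : Subgroup G}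
    (hg : g ∈ Subgroup.centralizer (X : Set G)) : cj g X = X :=
  cj_eq_of_mem_normalizer (Subgroup.centralizer_le_normalizer _ hg)

theorem cj_normalizer (g : G) (X : Subgroup G) :
    cj g (Subgroup.normalizer (X : Set G)) = Subgroup.normalizer ((cj g X : Subgroup G) : Set G) :=
  Subgroup.map_equiv_normalizer_eq X (MulAut.conj g)

theorem cj_centralizer (g : G) (X : Subgroup G) :
    cj g (Subgroup.centralizer (X : Set G)) = Subgroup.centralizer ((cj g X : Subgroup G) : Set G) := by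
  ext x
  rw [mem_cj, Subgroup.mem_centralizer_iff, Subgroup.mem_centralizer_iff]
  constructor
  · intro h y hy
    rw [SetLike.mem_coe, mem_cj] at hy
    have := h _ hy
    have e : y * x = g * ((g⁻¹ * y * g) * (g⁻¹ * x * g)) * g⁻¹ := by group
    rw [e, this]
    group
  · intro h y hy
    have hy' : g * y * g⁻¹ ∈ cj g X := conj_mem_cj hy
    have := h _ hy'
    have e : y * (g⁻¹ * x * g) = g⁻¹ * ((g * y * g⁻¹) * x) * g := by group
    rw [e, this]
    group

theorem isPGroup_cj {p : ℕ} (g : G) {X : Subgroup G} (h : IsPGroup p ↥X) : IsPGroup p ↥(cj g X) :=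
  h.map _

theorem cj_ne_bot {g : G} {X : Subgroup G} (h : X ≠ ⊥) : cj g X ≠ ⊥ := by
  intro h'
  apply h
  rw [Subgroup.map_eq_bot_iff_of_injective _ (MulAut.conj g).injective] at h'
  exact h'

theorem centralizer_le_of_le {X Y : Subgroup G} (h : X ≤ Y) :
    Subgroup.centralizer (Y : Set G) ≤ Subgroup.centralizer (X : Set G) :=
  Subgroup.centralizer_le h

section Sylow

variable [Finite G]

theorem sylIn_cj {p : ℕ} {P H : Subgroup G} (h : IsSylowIn p P H) (g : G) :
    IsSylowIn p (cj g P) (cj g H) :=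
  ⟨cj_mono g h.1, by rw [card_cj, card_cj]; exact h.2⟩

theorem sylIn_cj_mem {p : ℕ} {P H : Subgroup G} (h : IsSylowIn p P H) {g : G} (hg : g ∈ H) :
    IsSylowIn p (cj g P) H := by
  have := sylIn_cj h g
  rwa [cj_eq_of_mem hg] at this

/-- a `p`-subgroup of `H` whose order is at least that of a Sylow `p`-subgroup of `H` -/
theorem sylIn_of_card_ge {p : ℕ} [Fact p.Prime] {P Q H : Subgroup G} (hP : IsSylowIn p P H)
    (hQH : Q ≤ H) (hQ : IsPGroup p ↥Q) (hc : Nat.card ↥P ≤ Nat.card ↥Q) : IsSylowIn p Q H := by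
  obtain ⟨R, hR, hQR⟩ := exists_isSylowIn_ge hQ hQH
  have hcard : Nat.card ↥R = Nat.card ↥P := by rw [hR.2, hP.2]
  have : Q = R := Subgroup.eq_of_le_of_card_ge hQR (by rw [hcard]; exact hc)
  rw [this]
  exact hR

/-- a Sylow subgroup of `H` contains every `p`-subgroup of `H` that contains it -/
theorem sylIn_eq_of_le {p : ℕ} [Fact p.Prime] {P Q H : Subgroup G} (hP : IsSylowIn p P H)
    (hQH : Q ≤ H) (hQ : IsPGroup p ↥Q) (hPQ : P ≤ Q) : Q = P := by
  have hQs : IsSylowIn p Q H := sylIn_of_card_ge hP hQH hQ (Subgroup.card_le_of_le hPQ)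
  exact (Subgroup.eq_of_le_of_card_ge hPQ (by rw [hQs.2, hP.2])).symm

/-- a normal `p`-subgroup of `H` lies in every Sylow `p`-subgroup of `H` -/
theorem sylIn_normal_le {p : ℕ} [Fact p.Prime] {P X H : Subgroup G} (hP : IsSylowIn p P H)
    (hXH : X ≤ H) (hX : IsPGroup p ↥X) (hn : H ≤ Subgroup.normalizer (X : Set G)) : X ≤ P := by
  obtain ⟨R, hR, hXR⟩ := exists_isSylowIn_ge hX hXH
  obtain ⟨h, hh, hPR⟩ := hR.conj hP
  rw [hPR]
  have : cj h X = X := cj_eq_of_mem_normalizer (hn hh)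
  rw [← this]
  exact cj_mono h hXR

end Sylow

end Cfsg.Agent.Lib.Helper8.BGTen
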