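import Mathlib
import Cfsg.Agent.Lib.Helper8.BGTenA
import Cfsg.Agent.Lib.Lead.PSolvable
import Cfsg.Agent.H1.Cores

/-!
# Bender–Glauberman Section 10, part B: a Frattini factorisation `H = N_H(R) O_{p'}(H)` when
`O_{p',p}(H)` has index prime to `p`, and normalizer growth in `p`-groups.
-/

set_option autoImplicit false
set_option linter.unusedVariables false
set_option linter.style.haveILetI false
set_option linter.unusedSectionVars false

namespace Cfsg.Agent.Lib.Helper8.BGTen

open Cfsg Cfsg.Agent.Lib.Helper7 Cfsg.Agent.Lib.Lead.Conj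

universe u

section Frattini

variable {H : Type u} [Group H] [Finite H]

/-- `O_{p'}(H)` centralizes every normal `p`-subgroup -/
theorem pPrimeCore_le_centralizer {p : ℕ} [Fact p.Prime] (X : Subgroup H) [X.Normal]
    (hX : IsPGroup p ↥X) : pPrimeCore p H ≤ Subgroup.centralizer (X : Set H) := by
  haveI : (pPrimeCore p H).Normal := Cfsg.Agent.H1.pPrimeCore_normal p
  have hcop : (Nat.card ↥(pPrimeCore p H)).Coprime (Nat.card ↥X) := by
    obtain ⟨k, hk⟩ := IsPGroup.iff_card.mp hX
    rw [hk]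
    exact Nat.Coprime.pow_right k (Cfsg.Agent.H1.pPrimeCore_coprime p)
  have hbot : pPrimeCore p H ⊓ X = ⊥ := (Subgroup.disjoint_of_coprime_natCard hcop).eq_bot
  intro u hu
  rw [Subgroup.mem_centralizer_iff]
  intro x hx
  have h1 : u * x * u⁻¹ * x⁻¹ ∈ pPrimeCore p H ⊓ X := by
    refine ⟨?_, ?_⟩
    · have : x * u⁻¹ * x⁻¹ ∈ pPrimeCore p H :=
        Subgroup.Normal.conj_mem inferInstance _ (Subgroup.inv_mem _ hu) x
      have h2 := Subgroup.mul_mem _ hu this
      have e : u * (x * u⁻¹ * x⁻¹) = u * x * u⁻¹ * x⁻¹ := by group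
      rwa [e] at h2
    · have : u * x * u⁻¹ ∈ X := Subgroup.Normal.conj_mem inferInstance _ hx u
      exact Subgroup.mul_mem _ this (Subgroup.inv_mem _ hx)
  rw [hbot, Subgroup.mem_bot] at h1
  have : u * x = x * u := by
    have e : u * x = (u * x * u⁻¹ * x⁻¹) * (x * u) := by group
    rw [e, h1, one_mul]
  exact this.symm

/-- if `O_{p',p}(H)` has index prime to `p` then `H = N_H(R) O_{p'}(H)` for each Sylow `p`-subgroup `R` -/
theorem normalizer_sup_pPrimeCore_eq_top {p : ℕ} [hp : Fact p.Prime]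
    (hidx : ((pPrimePCore p H).index).Coprime p) (R : Sylow p H) :
    Subgroup.normalizer ((R : Subgroup H) : Set H) ⊔ pPrimeCore p H = ⊤ := by
  haveI : (pPrimeCore p H).Normal := Cfsg.Agent.H1.pPrimeCore_normal p
  haveI : (pPrimePCore p H).Normal := Cfsg.Agent.Lib.Lead.PSolvable.pPrimePCore_normal
  set K := pPrimePCore p H with hK
  obtain ⟨P⟩ : Nonempty (Sylow p ↥K) := inferInstance
  set P' : Subgroup H := (P : Subgroup ↥K).map K.subtype with hP'
  have hfrat : Subgroup.normalizer (P' : Set H) ⊔ K = ⊤ := Sylow.normalizer_sup_eq_top P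
  have hKeq : P' ⊔ pPrimeCore p H = K := Cfsg.Agent.Lib.Lead.PSolvable.sylow_sup_pPrimeCore P
  have h1 : Subgroup.normalizer (P' : Set H) ⊔ pPrimeCore p H = ⊤ := by
    rw [← hKeq, ← sup_assoc] at hfrat
    have : Subgroup.normalizer (P' : Set H) ⊔ P' = Subgroup.normalizer (P' : Set H) :=
      sup_eq_left.mpr Subgroup.le_normalizer
    rwa [this] at hfrat
  -- P' is a Sylow subgroup of H
  have hP'card : Nat.card ↥P' = p ^ (Nat.card H).factorization p := by
    rw [hP', Subgroup.card_map_of_injective K.subtype_injective, P.card_eq_multiplicity]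
    have hmul : Nat.card ↥K * K.index = Nat.card H := Subgroup.card_mul_index K
    have hnd : ¬ p ∣ K.index := (Nat.Prime.coprime_iff_not_dvd hp.out).1 hidx.symm
    rw [← hmul, Nat.factorization_mul Nat.card_pos.ne' (Subgroup.index_ne_zero_of_finite),
      Finsupp.add_apply, Nat.factorization_eq_zero_of_not_dvd hnd, add_zero]
  have hs1 : IsSylowIn p P' ⊤ := ⟨le_top, by rw [hP'card, Subgroup.card_top]⟩
  have hs2 : IsSylowIn p (R : Subgroup H) ⊤ := IsSylowIn.of_sylow_top R
  obtain ⟨h, -, hR⟩ := hs1.conj hs2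
  have h2 : cj h (Subgroup.normalizer (P' : Set H)) ⊔ cj h (pPrimeCore p H) = cj h ⊤ := by
    have := congrArg (cj h) h1
    rw [← this]
    exact (Subgroup.map_sup _ _ _).symm
  have hR' : (R : Subgroup H) = cj h P' := hR
  rw [cj_normalizer, ← hR'] at h2
  have h3 : cj h (pPrimeCore p H) = pPrimeCore p H :=
    cj_eq_of_mem_normalizer (by rw [Subgroup.normalizer_eq_top]; trivial)
  have h4 : cj h (⊤ : Subgroup H) = ⊤ :=
    cj_eq_of_mem_normalizer (by rw [Subgroup.normalizer_eq_top]; trivial)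
  rw [h3] at h2
  rw [h2]
  exact h4

end Frattini

section Ambient

variable {G : Type u} [Group G] [Finite G]

/-- normalizers grow in `p`-groups -/
theorem exists_mem_normalizer_not_mem {p : ℕ} [Fact p.Prime] {S T : Subgroup G} (hT : IsPGroup p ↥T)
    (hST : S ≤ T) (hne : S ≠ T) : ∃ t ∈ T, t ∈ Subgroup.normalizer (S : Set G) ∧ t ∉ S := by
  haveI : Group.IsNilpotent ↥T := hT.isNilpotent
  have hnc : NormalizerCondition ↥T := Group.normalizerCondition_of_isNilpotent
  rw [normalizerCondition_iff_only_full_group_self_normalizing] at hnc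
  by_contra hcon
  push Not at hcon
  apply hne
  apply le_antisymm hST
  have h1 : Subgroup.normalizer ((S.subgroupOf T : Subgroup ↥T) : Set ↥T) = S.subgroupOf T := by
    apply le_antisymm _ Subgroup.le_normalizer
    intro t ht
    rw [← Subgroup.subgroupOf_normalizer_eq hST, Subgroup.mem_subgroupOf] at ht
    rw [Subgroup.mem_subgroupOf]
    exact hcon t.1 t.2 ht
  have h2 := hnc _ h1
  intro t ht
  have : (⟨t, ht⟩ : ↥T) ∈ S.subgroupOf T := by rw [h2]; trivial
  exact Subgroup.mem_subgroupOf.mp this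

/-- ambient Frattini: if `N` is a subgroup with Sylow `p`-subgroup `R₀` and `O_{p',p}(N)` has index prime
to `p`, then each `n ∈ N` is `w * u` with `w ∈ N_N(R₀)` and `u` centralizing every `p`-subgroup `X ⊴ N` -/
theorem exists_mul_of_index_coprime {p : ℕ} [Fact p.Prime] {N R₀ : Subgroup G}
    (hR₀ : IsSylowIn p R₀ N) (hidx : ((pPrimePCore p ↥N).index).Coprime p) {n : G} (hn : n ∈ N) :
    ∃ w ∈ N ⊓ Subgroup.normalizer (R₀ : Set G), ∃ u ∈ N,
      (∀ X : Subgroup G, X ≤ N → N ≤ Subgroup.normalizer (X : Set G) → IsPGroup p ↥X →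
        u ∈ Subgroup.centralizer (X : Set G)) ∧ n = w * u := by
  obtain ⟨R, hR⟩ := hR₀.exists_sylow
  have h1 := normalizer_sup_pPrimeCore_eq_top hidx R
  haveI : (pPrimeCore p ↥N).Normal := Cfsg.Agent.H1.pPrimeCore_normal p
  have h2 : (⟨n, hn⟩ : ↥N) ∈ Subgroup.normalizer ((R : Subgroup ↥N) : Set ↥N) ⊔ pPrimeCore p ↥N := by
    rw [h1]; trivial
  obtain ⟨w, hw, u, hu, hwu⟩ := Subgroup.mem_sup_of_normal_right.mp h2
  refine ⟨w.1, ⟨w.2, ?_⟩, u.1, u.2, ?_, ?_⟩
  · rw [hR, ← Subgroup.subgroupOf_normalizer_eq hR₀.1, Subgroup.mem_subgroupOf] at hw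
    exact hw
  · intro X hXN hXn hXp
    haveI : (X.subgroupOf N).Normal := (Subgroup.normal_subgroupOf_iff_le_normalizer hXN).mpr hXn
    have hXp' : IsPGroup p ↥(X.subgroupOf N) := hXp.comap_subtype
    have h3 := pPrimeCore_le_centralizer (X.subgroupOf N) hXp' hu
    rw [Subgroup.mem_centralizer_iff] at h3 ⊢
    intro x hx
    have := h3 ⟨x, hXN hx⟩ (Subgroup.mem_subgroupOf.mpr hx)
    exact congrArg Subtype.val this
  · have := congrArg Subtype.val hwu
    simpa using this.symm

end Ambient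

end Cfsg.Agent.Lib.Helper8.BGTen
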