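import Mathlib
import Cfsg.Agent.Lib.Helper8.BGTenB
import Cfsg.Agent.Lib.Helper4.ThreeStepB
import Cfsg.Agent.Lib.Helper4.NarrowSolv
import Cfsg.Agent.Lib.Helper4.Rank2Fit
import Cfsg.Agent.S1450

/-!
# Bender–Glauberman Section 10, part C: Lemma 10.1 (control of fusion of `p`-subgroups, `p ∈ σ(M)`),
conditional on the statement `UniqThm` of the Uniqueness Theorem.
-/

set_option autoImplicit false
set_option linter.unusedVariables false
set_option linter.style.haveILetI false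
set_option linter.unusedSectionVars false

namespace Cfsg.Agent.Lib.Helper8.BGTen

open Cfsg Cfsg.Agent.Lib.Helper7 Cfsg.Agent.Lib.Lead.Conj

universe u

variable {G : Type u} [Group G] [Finite G]

/-- for `p ∈ σ(M)`, every Sylow `p`-subgroup `S` of `M` has `N_G(S) ≤ M` -/
theorem sigma_normalizer_le {M : Subgroup G} {p : ℕ} [Fact p.Prime] (hp : p ∈ Cfsg.sigma M)
    {S : Subgroup G} (hS : IsSylowIn p S M) : Subgroup.normalizer (S : Set G) ≤ M := by
  obtain ⟨-, -, P0, hP0⟩ := hp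
  have h0 : IsSylowIn p ((P0 : Subgroup M).map M.subtype) M := IsSylowIn.of_sylow P0
  obtain ⟨m, hm, hSm⟩ := h0.conj hS
  have hSm' : S = cj m ((P0 : Subgroup M).map M.subtype) := hSm
  rw [hSm', ← cj_normalizer]
  intro x hx
  rw [mem_cj] at hx
  have h1 := hP0 hx
  have h2 := M.mul_mem (M.mul_mem hm h1) (M.inv_mem hm)
  have e : m * (m⁻¹ * x * m) * m⁻¹ = x := by group
  rwa [e] at h2

/-- for `p ∈ σ(M)`, every Sylow `p`-subgroup of `M` is a Sylow `p`-subgroup of `G` -/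
theorem sigma_sylow_top {M : Subgroup G} {p : ℕ} [Fact p.Prime] (hp : p ∈ Cfsg.sigma M)
    {S : Subgroup G} (hS : IsSylowIn p S M) : IsSylowIn p S ⊤ := by
  obtain ⟨T, hT⟩ := hS.isPGroup.exists_le_sylow
  have hTs : IsSylowIn p (T : Subgroup G) ⊤ := IsSylowIn.of_sylow_top T
  by_cases hne : S = (T : Subgroup G)
  · rw [hne]; exact hTs
  · exfalso
    obtain ⟨t, htT, htN, htS⟩ := exists_mem_normalizer_not_mem T.2 hT hne
    have hN := sigma_normalizer_le hp hS
    -- the p-group T ⊓ N(S) lies in M and contains S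
    have h1 : (T : Subgroup G) ⊓ Subgroup.normalizer (S : Set G) = S :=
      sylIn_eq_of_le hS (inf_le_right.trans hN) (T.2.to_inf_left) (le_inf hT Subgroup.le_normalizer)
    apply htS
    rw [← h1]
    exact ⟨htT, htN⟩

/-- `M` controls the fusion of `X` up to `C(X)` -/
def Ctl (M X : Subgroup G) : Prop :=
  ∀ g : G, cj g X ≤ M → ∃ m ∈ M, ∃ c ∈ Subgroup.centralizer (X : Set G), g = m * c

theorem ctl_of_sylow {M : Subgroup G} {p : ℕ} [Fact p.Prime] (hp : p ∈ Cfsg.sigma M)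
    {S : Subgroup G} (hS : IsSylowIn p S M) : Ctl M S := by
  intro g hg
  have hgS : IsSylowIn p (cj g S) M := ⟨hg, by rw [card_cj]; exact hS.2⟩
  obtain ⟨m, hm, hSm⟩ := hS.conj hgS
  have hSm' : cj g S = cj m S := hSm
  have h1 : cj (m⁻¹ * g) S = S := by rw [cj_mul, hSm', cj_inv_cj]
  have h2 : m⁻¹ * g ∈ M := sigma_normalizer_le hp hS (mem_normalizer_of_cj_eq h1)
  refine ⟨g, ?_, 1, Subgroup.one_mem _, (mul_one g).symm⟩
  have := M.mul_mem hm h2
  rwa [mul_inv_cancel_left] at this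

/-- Step 1: a Sylow `p`-subgroup of `N(X)` inside `M`, strictly larger than `X` -/
theorem exists_sylow_normalizer_le {M : Subgroup G} {p : ℕ} [Fact p.Prime] (hp : p ∈ Cfsg.sigma M)
    {X : Subgroup G} (hXM : X ≤ M) (hXp : IsPGroup p ↥X) (hnS : ¬ IsSylowIn p X M)
    (IH : ∀ Y : Subgroup G, Y ≤ M → IsPGroup p ↥Y → Nat.card ↥X < Nat.card ↥Y → Ctl M Y) :
    ∃ R₀ : Subgroup G, IsSylowIn p R₀ (Subgroup.normalizer (X : Set G)) ∧ R₀ ≤ M ∧
      Nat.card ↥X < Nat.card ↥R₀ := by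
  obtain ⟨S, hS, hXS⟩ := exists_isSylowIn_ge hXp hXM
  have hne : X ≠ S := fun h => hnS (h ▸ hS)
  obtain ⟨t, htS, htN, htX⟩ := exists_mem_normalizer_not_mem hS.isPGroup hXS hne
  set P : Subgroup G := S ⊓ Subgroup.normalizer (X : Set G) with hP
  have hXP : X ≤ P := le_inf hXS Subgroup.le_normalizer
  have hPM : P ≤ M := inf_le_left.trans hS.1
  have hPp : IsPGroup p ↥P := hS.isPGroup.to_inf_left
  have hcard : Nat.card ↥X < Nat.card ↥P := by
    by_contra hle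
    push Not at hle
    have h := Subgroup.eq_of_le_of_card_ge hXP hle
    apply htX
    rw [h]
    exact ⟨htS, htN⟩
  obtain ⟨R, hR, hPR⟩ := exists_isSylowIn_ge hPp (inf_le_right : P ≤ Subgroup.normalizer (X : Set G))
  obtain ⟨T, hT⟩ := hR.isPGroup.exists_le_sylow
  have hTs : IsSylowIn p (T : Subgroup G) ⊤ := IsSylowIn.of_sylow_top T
  have hStop := sigma_sylow_top hp hS
  obtain ⟨h, -, hTh⟩ := hStop.conj hTs
  have hTh' : (T : Subgroup G) = cj h S := hTh
  -- P ≤ cj h S, so cj h⁻¹ P ≤ S ≤ M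
  have h1 : cj h⁻¹ P ≤ M := by
    have : P ≤ cj h S := by rw [← hTh']; exact hPR.trans hT
    have h2 := cj_mono h⁻¹ this
    rw [cj_inv_cj] at h2
    exact h2.trans hS.1
  obtain ⟨m, hm, c, hc, hhmc⟩ := IH P hPM hPp hcard h⁻¹ h1
  -- h = c⁻¹ m⁻¹
  have hh : h = c⁻¹ * m⁻¹ := by
    have : h = (h⁻¹)⁻¹ := (inv_inv h).symm
    rw [this, hhmc, mul_inv_rev]
  have hcX : c ∈ Subgroup.centralizer (X : Set G) := centralizer_le_of_le hXP hc
  have hcN : c ∈ Subgroup.normalizer (X : Set G) := Subgroup.centralizer_le_normalizer _ hcX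
  refine ⟨cj c R, sylIn_cj_mem hR hcN, ?_, ?_⟩
  · -- R ≤ T = cj c⁻¹ (cj m⁻¹ S) ≤ cj c⁻¹ M
    have h3 : R ≤ cj c⁻¹ M := by
      refine hT.trans ?_
      rw [hTh', hh, cj_mul]
      apply cj_mono
      have : cj m⁻¹ S ≤ cj m⁻¹ M := cj_mono _ hS.1
      rwa [cj_eq_of_mem (M.inv_mem hm)] at this
    have h4 := cj_mono c h3
    rwa [cj_cj_inv] at h4
  · rw [card_cj]
    exact lt_of_lt_of_le hcard (Subgroup.card_le_of_le hPR)

end Cfsg.Agent.Lib.Helper8.BGTen
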