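import Mathlib
import Cfsg.Agent.Lib.Helper8.BGTenC

/-!
# Bender–Glauberman Section 10, part D: Lemma 10.1 (conclusion).
-/

set_option autoImplicit false
set_option linter.unusedVariables false
set_option linter.style.haveILetI false
set_option linter.unusedSectionVars false

namespace Cfsg.Agent.Lib.Helper8.BGTen

open Cfsg Cfsg.Agent.Lib.Helper7 Cfsg.Agent.Lib.Lead.Conj

universe u

variable {G : Type u} [Group G] [Finite G]

theorem pRankLE_succ {p k : ℕ} (hp : p.Prime) {H : Type*} [Group H] (h : Cfsg.PRankLE p k H) :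
    Cfsg.PRankLE p (k + 1) H := by
  intro A hA hAe
  exact (h A hA hAe).trans (Nat.pow_le_pow_right hp.pos (Nat.le_succ k))

theorem odd_card_subgroup (hG : Cfsg.IsMinSimpleOddOrder G) (H : Subgroup G) : Odd (Nat.card ↥H) := by
  have h := hG.1
  exact Odd.of_dvd_nat h (Subgroup.card_subgroup_dvd_card H)

theorem coatom_ne_top {M : Subgroup G} (hM : IsCoatom M) : M ≠ ⊤ := hM.1

theorem exists_coatom_ge {N : Subgroup G} (hN : N ≠ ⊤) : ∃ L : Subgroup G, IsCoatom L ∧ N ≤ L := by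
  rcases eq_top_or_exists_le_coatom N with h | h
  · exact absurd h hN
  · exact h

theorem ne_top_of_le_coatom {M X : Subgroup G} (hM : IsCoatom M) (hXM : X ≤ M) : X ≠ ⊤ := by
  intro h
  apply hM.1
  rw [h] at hXM
  exact top_le_iff.mp hXM

theorem normalizer_ne_top' (hG : Cfsg.IsMinSimpleOddOrder G) {X : Subgroup G} (hX1 : X ≠ ⊥)
    (hXt : X ≠ ⊤) : Subgroup.normalizer (X : Set G) ≠ ⊤ :=
  Cfsg.Agent.Lib.Helper4.ThreeStep.normalizer_ne_top hG.2 X hX1 (hG.2.2.2 X hXt)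

/-- if `R₀ ≤ M` is a uniqueness subgroup then every proper subgroup containing `R₀` lies in `M` -/
theorem le_of_inUniqueMaximal {M R₀ N : Subgroup G} (hM : IsCoatom M) (hR₀M : R₀ ≤ M)
    (hu : Cfsg.InUniqueMaximal R₀) (hN : N ≠ ⊤) (hR₀N : R₀ ≤ N) : N ≤ M := by
  obtain ⟨L, ⟨hL, hR₀L⟩, huniq⟩ := hu
  have hML : M = L := huniq M ⟨hM, hR₀M⟩
  obtain ⟨L', hL', hNL'⟩ := exists_coatom_ge hN
  have : L' = L := huniq L' ⟨hL', hR₀N.trans hNL'⟩
  rw [hML, ← this]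
  exact hNL'

/-- a subgroup of `p`-rank at least 3 is a uniqueness subgroup -/
theorem inUniqueMaximal_of_rank_three (hU : UniqThm G) {p : ℕ} (hp : p.Prime) {K : Subgroup G}
    (hK : K ≠ ⊤) (hr : ¬ Cfsg.PRankLE p 2 ↥K) : Cfsg.InUniqueMaximal K := by
  apply hU K hK
  · intro h
    exact hr (pRankLE_succ hp (h p hp))
  · left
    intro h
    exact hr (h p hp)

/-- Step 2: `N(X) ⊆ M C(X)` -/
theorem normalizer_ctl (hG : Cfsg.IsMinSimpleOddOrder G) (hU : UniqThm G) {M : Subgroup G}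
    (hM : IsCoatom M) {p : ℕ} [hpp : Fact p.Prime] (hp : p ∈ Cfsg.sigma M)
    {X : Subgroup G} (hXM : X ≤ M) (hXp : IsPGroup p ↥X) (hX1 : X ≠ ⊥) (hnS : ¬ IsSylowIn p X M)
    (IH : ∀ Y : Subgroup G, Y ≤ M → IsPGroup p ↥Y → Nat.card ↥X < Nat.card ↥Y → Ctl M Y) :
    ∀ n ∈ Subgroup.normalizer (X : Set G), ∃ m ∈ M, ∃ c ∈ Subgroup.centralizer (X : Set G),
      n = m * c := by
  obtain ⟨R₀, hR₀, hR₀M, hcard⟩ := exists_sylow_normalizer_le hp hXM hXp hnS IH
  set N : Subgroup G := Subgroup.normalizer (X : Set G) with hN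
  have hXN : X ≤ N := Subgroup.le_normalizer
  have hXR₀ : X ≤ R₀ := sylIn_normal_le hR₀ hXN hXp le_rfl
  have hXt : X ≠ ⊤ := ne_top_of_le_coatom hM hXM
  have hNtop : N ≠ ⊤ := normalizer_ne_top' hG hX1 hXt
  by_cases hr : Cfsg.PRankLE p 2 ↥R₀
  · haveI : Group.IsSolvable ↥N := hG.2.2.2 N hNtop
    have hodd : Odd (Nat.card ↥N) := odd_card_subgroup hG N
    have hpN : p ∣ Nat.card ↥N := by
      have h1 : p ∣ Nat.card ↥X := by
        obtain ⟨k, hk⟩ := IsPGroup.iff_card.mp hXp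
        have hk0 : k ≠ 0 := by
          intro h0
          rw [h0, pow_zero] at hk
          exact hX1 (Subgroup.card_eq_one.mp hk)
        rw [hk]
        exact dvd_pow_self p hk0
      exact h1.trans (Subgroup.card_dvd_of_le hXN)
    have hrN : Cfsg.PRankLE p 2 ↥N := by
      obtain ⟨R, hR⟩ := hR₀.exists_sylow
      apply Cfsg.Agent.Lib.Helper4.NarrowSolv.pRankLE_of_sylow R
      rw [hR]
      exact Cfsg.Agent.Lib.Helper4.Rank2Fit.pRankLE_of_injective
        (Subgroup.subgroupOfEquivOfLe hR₀.1).toMonoidHom (Subgroup.subgroupOfEquivOfLe hR₀.1).injective hr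
    have hidx := (Cfsg.Agent.S1450.result hodd p hpN hrN).2.2.2.2.2
    intro n hn
    obtain ⟨w, hw, u, huN, hu, hnwu⟩ := exists_mul_of_index_coprime hR₀ hidx hn
    have huX : u ∈ Subgroup.centralizer (X : Set G) := hu X hXN le_rfl hXp
    have hwR : cj w R₀ ≤ M := by
      rw [cj_eq_of_mem_normalizer hw.2]
      exact hR₀M
    obtain ⟨m, hm, c, hc, hwmc⟩ := IH R₀ hR₀M hR₀.isPGroup hcard w hwR
    refine ⟨m, hm, c * u, Subgroup.mul_mem _ (centralizer_le_of_le hXR₀ hc) huX, ?_⟩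
    rw [hnwu, hwmc, mul_assoc]
  · have hR₀t : R₀ ≠ ⊤ := ne_top_of_le_coatom hM hR₀M
    have hu := inUniqueMaximal_of_rank_three hU hpp.out hR₀t hr
    have hNM : N ≤ M := le_of_inUniqueMaximal hM hR₀M hu hNtop hR₀.1
    intro n hn
    exact ⟨n, hNM hn, 1, Subgroup.one_mem _, (mul_one n).symm⟩

/-- Step 3 -/
theorem ctl_step (hG : Cfsg.IsMinSimpleOddOrder G) (hU : UniqThm G) {M : Subgroup G}
    (hM : IsCoatom M) {p : ℕ} [hpp : Fact p.Prime] (hp : p ∈ Cfsg.sigma M)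
    {X : Subgroup G} (hXM : X ≤ M) (hXp : IsPGroup p ↥X) (hX1 : X ≠ ⊥) (hnS : ¬ IsSylowIn p X M)
    (IH : ∀ Y : Subgroup G, Y ≤ M → IsPGroup p ↥Y → Nat.card ↥X < Nat.card ↥Y → Ctl M Y) :
    Ctl M X := by
  intro g hg
  have hX'p : IsPGroup p ↥(cj g X) := isPGroup_cj g hXp
  have hnS' : ¬ IsSylowIn p (cj g X) M := by
    intro h
    apply hnS
    refine ⟨hXM, ?_⟩
    rw [← card_cj g X]
    exact h.2
  have IH' : ∀ Y : Subgroup G, Y ≤ M → IsPGroup p ↥Y → Nat.card ↥(cj g X) < Nat.card ↥Y → Ctl M Y := by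
    rw [card_cj]
    exact IH
  obtain ⟨R₀, hR₀, hR₀M, hc⟩ := exists_sylow_normalizer_le hp hXM hXp hnS IH
  obtain ⟨R₀', hR₀', hR₀'M, hc'⟩ := exists_sylow_normalizer_le hp hg hX'p hnS' IH'
  have h1 : IsSylowIn p (cj g⁻¹ R₀') (Subgroup.normalizer (X : Set G)) := by
    have := sylIn_cj hR₀' g⁻¹
    rwa [cj_normalizer, cj_inv_cj] at this
  obtain ⟨n, hn, hconj⟩ := hR₀.conj h1
  have hconj' : cj g⁻¹ R₀' = cj n R₀ := hconj
  have h2 : cj (g * n) R₀ ≤ M := by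
    rw [cj_mul, ← hconj', cj_cj_inv]
    exact hR₀'M
  obtain ⟨m, hm, c, hcc, hgn⟩ := IH R₀ hR₀M hR₀.isPGroup hc (g * n) h2
  have hXR₀ : X ≤ R₀ := sylIn_normal_le hR₀ Subgroup.le_normalizer hXp le_rfl
  have hcX : c ∈ Subgroup.centralizer (X : Set G) := centralizer_le_of_le hXR₀ hcc
  have hcn : c * n⁻¹ ∈ Subgroup.normalizer (X : Set G) :=
    Subgroup.mul_mem _ (Subgroup.centralizer_le_normalizer _ hcX) (Subgroup.inv_mem _ hn)
  obtain ⟨m', hm', c', hc'', hcn'⟩ := normalizer_ctl hG hU hM hp hXM hXp hX1 hnS IH (c * n⁻¹) hcn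
  refine ⟨m * m', M.mul_mem hm hm', c', hc'', ?_⟩
  have e : g = (g * n) * n⁻¹ := by group
  rw [e, hgn, mul_assoc, hcn', mul_assoc]

/-- **Lemma 10.1(a)** of Bender–Glauberman -/
theorem ctl_of_sigma (hG : Cfsg.IsMinSimpleOddOrder G) (hU : UniqThm G) {M : Subgroup G}
    (hM : IsCoatom M) {p : ℕ} [hpp : Fact p.Prime] (hp : p ∈ Cfsg.sigma M) :
    ∀ X : Subgroup G, X ≤ M → IsPGroup p ↥X → X ≠ ⊥ → Ctl M X := by
  intro X
  induction h : Nat.card G - Nat.card ↥X using Nat.strong_induction_on generalizing X with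
  | _ d ih =>
    intro hXM hXp hX1
    by_cases hS : IsSylowIn p X M
    · exact ctl_of_sylow hp hS
    · apply ctl_step hG hU hM hp hXM hXp hX1 hS
      intro Y hYM hYp hlt
      have hYG : Nat.card ↥Y ≤ Nat.card G := Subgroup.card_le_card_group Y
      apply ih (Nat.card G - Nat.card ↥Y) (by omega) Y rfl hYM hYp
      intro hY
      rw [hY, Subgroup.card_bot] at hlt
      have : 0 < Nat.card ↥X := Nat.card_pos
      omega

/-- **Lemma 10.1(b)** of Bender–Glauberman: `N_G(X) = N_M(X) C_G(X)` -/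
theorem normalizer_eq_of_sigma (hG : Cfsg.IsMinSimpleOddOrder G) (hU : UniqThm G) {M : Subgroup G}
    (hM : IsCoatom M) {p : ℕ} [hpp : Fact p.Prime] (hp : p ∈ Cfsg.sigma M)
    {X : Subgroup G} (hXM : X ≤ M) (hXp : IsPGroup p ↥X) (hX1 : X ≠ ⊥) :
    Subgroup.normalizer (X : Set G) =
      (M ⊓ Subgroup.normalizer (X : Set G)) ⊔ Subgroup.centralizer (X : Set G) := by
  apply le_antisymm
  · intro n hn
    have hle : cj n X ≤ M := by rw [cj_eq_of_mem_normalizer hn]; exact hXM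
    obtain ⟨m, hm, c, hc, hnmc⟩ := ctl_of_sigma hG hU hM hp X hXM hXp hX1 n hle
    have hmN : m ∈ Subgroup.normalizer (X : Set G) := by
      have : m = n * c⁻¹ := by rw [hnmc]; group
      rw [this]
      exact Subgroup.mul_mem _ hn (Subgroup.inv_mem _ (Subgroup.centralizer_le_normalizer _ hc))
    rw [hnmc]
    exact Subgroup.mul_mem _ (Subgroup.mem_sup_left ⟨hm, hmN⟩) (Subgroup.mem_sup_right hc)
  · exact sup_le inf_le_right (Subgroup.centralizer_le_normalizer _)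

end Cfsg.Agent.Lib.Helper8.BGTen
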