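import Mathlib
import Cfsg.Agent.Lib.Helper8.BGTenD

/-!
# Bender–Glauberman Section 10, part E: for `p ∈ σ(M)` the Sylow `p`-subgroups of `M` lie in `M'`
(focal subgroup theorem + Lemma 10.1), and `α(M) ⊆ σ(M)`.
-/

set_option autoImplicit false
set_option linter.unusedVariables false
set_option linter.style.haveILetI false
set_option linter.unusedSectionVars false

open scoped commutatorElement

namespace Cfsg.Agent.Lib.Helper8.BGTen

open Cfsg Cfsg.Agent.Lib.Helper7 Cfsg.Agent.Lib.Lead.Conj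

universe u

variable {G : Type u} [Group G] [Finite G]

theorem commutator_eq_top (hG : Cfsg.IsMinSimpleOddOrder G) : _root_.commutator G = ⊤ := by
  haveI : IsSimpleGroup G := hG.2.1
  rcases (inferInstance : (_root_.commutator G).Normal).eq_bot_or_eq_top with h | h
  · exfalso
    apply hG.2.2.1
    refine ⟨⟨fun a b => ?_⟩⟩
    have h1 : ⁅a, b⁆ ∈ _root_.commutator G := by
      rw [commutator_def]
      exact Subgroup.commutator_mem_commutator (Subgroup.mem_top a) (Subgroup.mem_top b)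
    rw [h, Subgroup.mem_bot] at h1
    exact commutatorElement_eq_one_iff_mul_comm.mp h1
  · exact h

/-- for `p ∈ σ(M)` every Sylow `p`-subgroup of `M` lies in `M'` -/
theorem sylow_le_commutator_of_sigma (hG : Cfsg.IsMinSimpleOddOrder G) (hU : UniqThm G)
    {M : Subgroup G} (hM : IsCoatom M) {p : ℕ} [hpp : Fact p.Prime] (hp : p ∈ Cfsg.sigma M)
    {S : Subgroup G} (hS : IsSylowIn p S M) : S ≤ ⁅M, M⁆ := by
  have hStop := sigma_sylow_top hp hS
  let T : Sylow p G := Sylow.ofCard S (by rw [hStop.2, Subgroup.card_top])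
  have hTS : (T : Subgroup G) = S := rfl
  have hfoc := Subgroup.commutator_inf_eq_focalSubgroup T
  rw [commutator_eq_top hG, top_inf_eq, hTS] at hfoc
  rw [hfoc, Subgroup.focalSubgroup_def, Subgroup.closure_le]
  rintro g ⟨hgS, x, hxS, u, rfl⟩
  -- g = ⁅x, u⁆ = x u x⁻¹ u⁻¹ ∈ S
  by_cases hx1 : x = 1
  · rw [hx1]
    have : ⁅(1 : G), u⁆ = 1 := by simp [commutatorElement_def]
    rw [this]
    exact Subgroup.one_mem _
  set X : Subgroup G := Subgroup.zpowers x with hX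
  have hXS : X ≤ S := by
    rw [hX, Subgroup.zpowers_le]
    exact hxS
  have hXM : X ≤ M := hXS.trans hS.1
  have hXp : IsPGroup p ↥X := hS.isPGroup.to_le hXS
  have hX1 : X ≠ ⊥ := by
    intro h
    apply hx1
    have : x ∈ X := Subgroup.mem_zpowers x
    rw [h, Subgroup.mem_bot] at this
    exact this
  -- u x u⁻¹ ∈ S
  have hux : u * x * u⁻¹ ∈ S := by
    have h1 : x⁻¹ * ⁅x, u⁆ ∈ S := S.mul_mem (S.inv_mem hxS) hgS
    have e : x⁻¹ * ⁅x, u⁆ = (u * x * u⁻¹)⁻¹ := by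
      rw [commutatorElement_def]; group
    rw [e] at h1
    have h2 := S.inv_mem h1
    rwa [inv_inv] at h2
  have hle : cj u X ≤ M := by
    have : cj u X ≤ S := by
      rintro _ ⟨y, hy, rfl⟩
      obtain ⟨k, rfl⟩ := Subgroup.mem_zpowers_iff.mp hy
      show u * x ^ k * u⁻¹ ∈ S
      have e : u * x ^ k * u⁻¹ = (u * x * u⁻¹) ^ k := by
        rw [conj_zpow]
      rw [e]
      exact S.zpow_mem hux k
    exact this.trans hS.1
  obtain ⟨m, hm, c, hc, humc⟩ := ctl_of_sigma hG hU hM hp X hXM hXp hX1 u hle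
  have hcx : c * x = x * c := by
    rw [Subgroup.mem_centralizer_iff] at hc
    exact (hc x (Subgroup.mem_zpowers x)).symm
  have e : ⁅x, u⁆ = ⁅x, m⁆ := by
    rw [humc, commutatorElement_def, commutatorElement_def]
    have h1 : c * x⁻¹ = x⁻¹ * c := by
      have : x⁻¹ * (c * x) * x⁻¹ = x⁻¹ * (x * c) * x⁻¹ := by rw [hcx]
      have e1 : x⁻¹ * (c * x) * x⁻¹ = x⁻¹ * c := by group
      have e2 : x⁻¹ * (x * c) * x⁻¹ = c * x⁻¹ := by group
      rw [e1, e2] at this
      exact this.symm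
    calc x * (m * c) * x⁻¹ * (m * c)⁻¹ = x * m * (c * x⁻¹) * c⁻¹ * m⁻¹ := by group
      _ = x * m * (x⁻¹ * c) * c⁻¹ * m⁻¹ := by rw [h1]
      _ = x * m * x⁻¹ * m⁻¹ := by group
  rw [e]
  exact Subgroup.commutator_mem_commutator (hS.1 hxS) hm

/-- a nontrivial elementary abelian witness: a group with `¬ PRankLE p k` is nontrivial -/
theorem ne_bot_of_not_pRankLE {p k : ℕ} (hp : p.Prime) {K : Subgroup G} (h : ¬ Cfsg.PRankLE p k ↥K) :
    K ≠ ⊥ := by
  intro hK
  apply h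
  intro A hA hAe
  have h1 : Nat.card ↥A ≤ Nat.card ↥K := Subgroup.card_le_card_group A
  have h2 : Nat.card ↥K = 1 := by rw [hK]; exact Subgroup.card_bot
  rw [h2] at h1
  exact h1.trans (Nat.one_le_pow _ _ hp.pos)

/-- the Sylow `p`-subgroups of a group of `p`-rank at least 3 have `p`-rank at least 3 -/
theorem not_pRankLE_sylowIn {p k : ℕ} [Fact p.Prime] {M S : Subgroup G} (hS : IsSylowIn p S M)
    (h : ¬ Cfsg.PRankLE p k ↥M) : ¬ Cfsg.PRankLE p k ↥S := by
  intro hr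
  apply h
  obtain ⟨R, hR⟩ := hS.exists_sylow
  apply Cfsg.Agent.Lib.Helper4.NarrowSolv.pRankLE_of_sylow R
  rw [hR]
  exact Cfsg.Agent.Lib.Helper4.Rank2Fit.pRankLE_of_injective
    (Subgroup.subgroupOfEquivOfLe hS.1).toMonoidHom (Subgroup.subgroupOfEquivOfLe hS.1).injective hr

/-- `α(M) ⊆ σ(M)` -/
theorem alpha_subset_sigma (hG : Cfsg.IsMinSimpleOddOrder G) (hU : UniqThm G)
    {M : Subgroup G} (hM : IsCoatom M) {p : ℕ} (hp : p ∈ Cfsg.alpha M) : p ∈ Cfsg.sigma M := by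
  obtain ⟨hpp, hr⟩ := hp
  haveI : Fact p.Prime := ⟨hpp⟩
  obtain ⟨P0⟩ : Nonempty (Sylow p ↥M) := inferInstance
  have hS : IsSylowIn p ((P0 : Subgroup M).map M.subtype) M := IsSylowIn.of_sylow P0
  set S : Subgroup G := (P0 : Subgroup M).map M.subtype with hSdef
  have hrS : ¬ Cfsg.PRankLE p 2 ↥S := not_pRankLE_sylowIn hS hr
  have hS1 : S ≠ ⊥ := ne_bot_of_not_pRankLE hpp hrS
  have hSt : S ≠ ⊤ := ne_top_of_le_coatom hM hS.1
  have hu := inUniqueMaximal_of_rank_three hU hpp hSt hrS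
  have hN : Subgroup.normalizer (S : Set G) ≤ M :=
    le_of_inUniqueMaximal hM hS.1 hu (normalizer_ne_top' hG hS1 hSt) Subgroup.le_normalizer
  refine ⟨hpp, ?_, P0, hN⟩
  -- p ∣ |M|
  have h1 : p ∣ Nat.card ↥S := by
    obtain ⟨k, hk⟩ := IsPGroup.iff_card.mp hS.isPGroup
    have hk0 : k ≠ 0 := by
      intro h0
      rw [h0, pow_zero] at hk
      exact hS1 (Subgroup.card_eq_one.mp hk)
    rw [hk]
    exact dvd_pow_self p hk0
  exact h1.trans (Subgroup.card_dvd_of_le hS.1)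

end Cfsg.Agent.Lib.Helper8.BGTen
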