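import Mathlib
import Cfsg.Agent.Lib.Helper8.BGTenE
import Cfsg.Agent.Lib.Helper4.Rank2Solv
import Cfsg.Agent.Lib.Helper4.Rank2Aut
import Cfsg.Agent.S1451

/-!
# Bender–Glauberman Section 10, part F: the abstract Hall-core lemma behind Theorem 10.2.
-/

set_option autoImplicit false
set_option linter.unusedVariables false
set_option linter.style.haveILetI false
set_option linter.unusedSectionVars false

open scoped commutatorElement

namespace Cfsg.Agent.Lib.Helper8.BGTen

open Cfsg Cfsg.Agent.Lib.Helper7 Cfsg.Agent.Lib.Lead.Conj Cfsg.Agent.Lib.Lead.PiCore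

universe u

section Abstract

variable {H : Type u} [Group H] [Finite H]

theorem pRankLE_of_not_dvd {q k : ℕ} (hq : q.Prime) (h : ¬ q ∣ Nat.card H) : Cfsg.PRankLE q k H := by
  intro A hA hAe
  haveI : Fact q.Prime := ⟨hq⟩
  have hAp : IsPGroup q ↥A := by
    intro a
    refine ⟨1, ?_⟩
    rw [pow_one]
    apply Subtype.ext
    rw [Subgroup.coe_pow, Subgroup.coe_one]
    exact hAe a.1 a.2
  obtain ⟨j, hj⟩ := IsPGroup.iff_card.mp hAp
  have hj0 : j = 0 := by
    by_contra hne
    apply h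
    have h1 : q ∣ Nat.card ↥A := by rw [hj]; exact dvd_pow_self q hne
    exact h1.trans (Subgroup.card_subgroup_dvd_card A)
  rw [hj, hj0, pow_zero]
  exact Nat.one_le_pow _ _ hq.pos

theorem coprime_of_isPiNat {π : Set ℕ} {n q : ℕ} (hq : q.Prime) (hn : IsPiNat π n) (hqπ : q ∉ π) :
    n.Coprime q := by
  rw [Nat.coprime_comm, Nat.Prime.coprime_iff_not_dvd hq]
  intro h
  exact hqπ (hn q hq h)

/-- the abstract Hall-core lemma -/
theorem hall_core [hsolv : Group.IsSolvable H] (hodd : Odd (Nat.card H)) (π : Set ℕ)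
    (ha : ∀ q : ℕ, q.Prime → q ∉ π → Cfsg.PRankLE q 2 H)
    (hb : ∀ (p : ℕ) [Fact p.Prime], p ∈ π → ∀ S : Sylow p H, (S : Subgroup H) ≤ _root_.commutator H) :
    (∀ (p : ℕ) [Fact p.Prime], p ∈ π → ∀ S : Sylow p H, (S : Subgroup H) ≤ piCore π H) ∧
      Group.IsNilpotent ↥(_root_.commutator (H ⧸ piCore π H)) ∧ Cfsg.RankLE 2 (H ⧸ piCore π H) := by
  set K := piCore π H with hK
  have hbot : piCore π (H ⧸ K) = ⊥ := piCore_quotient_eq_bot π
  have hKπ : IsPiNat π (Nat.card ↥K) := piCore_isPiNat π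
  haveI : Group.IsSolvable (H ⧸ K) := inferInstance
  have hoddQ : Odd (Nat.card (H ⧸ K)) := by
    apply Odd.of_dvd_nat hodd
    rw [← Subgroup.index_eq_card]
    exact Subgroup.index_dvd_card K
  have hquot : ∀ q : ℕ, q.Prime → q ∉ π → Cfsg.PRankLE q 2 (H ⧸ K) := by
    intro q hq hqπ
    haveI : Fact q.Prime := ⟨hq⟩
    exact Cfsg.Agent.Lib.Helper4.Rank2Solv.pRankLE_quotient (ha q hq hqπ) K
      (coprime_of_isPiNat hq hKπ hqπ)
  have hFr : Cfsg.RankLE 2 ↥(Cfsg.fittingSubgroup (H ⧸ K)) := by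
    intro q hq
    by_cases hqπ : q ∈ π
    · haveI : Group.IsNilpotent ↥(Cfsg.fittingSubgroup (H ⧸ K)) := Cfsg.Agent.H1.fittingSubgroup_nilpotent
      exact pRankLE_of_not_dvd hq
        (not_dvd_card_of_normal_nilpotent hbot (Cfsg.fittingSubgroup (H ⧸ K)) hq hqπ)
    · haveI : Fact q.Prime := ⟨hq⟩
      exact Cfsg.Agent.Lib.Helper4.Rank2Aut.pRankLE_subgroup (hquot q hq hqπ) _
  have hnil : Group.IsNilpotent ↥(_root_.commutator (H ⧸ K)) :=
    (Cfsg.Agent.S1451.result hoddQ (Or.inr hFr)).1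
  have h1 : ∀ (p : ℕ) [Fact p.Prime], p ∈ π → ∀ S : Sylow p H, (S : Subgroup H) ≤ K := by
    intro p hpp hpπ S
    have hS := hb p hpπ S
    have himg : (S : Subgroup H).map (QuotientGroup.mk' K) ≤ _root_.commutator (H ⧸ K) := by
      refine (Subgroup.map_mono hS).trans ?_
      rw [commutator_def, commutator_def, Subgroup.map_commutator]
      exact Subgroup.commutator_mono le_top le_top
    haveI := hnil
    have hnd : ¬ p ∣ Nat.card ↥(_root_.commutator (H ⧸ K)) :=
      not_dvd_card_of_normal_nilpotent hbot (_root_.commutator (H ⧸ K)) hpp.out hpπ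
    have hp' : IsPGroup p ↥((S : Subgroup H).map (QuotientGroup.mk' K)) := S.2.map _
    obtain ⟨j, hj⟩ := IsPGroup.iff_card.mp hp'
    have hj0 : j = 0 := by
      by_contra hne
      apply hnd
      have h2 : p ∣ Nat.card ↥((S : Subgroup H).map (QuotientGroup.mk' K)) := by
        rw [hj]; exact dvd_pow_self p hne
      exact h2.trans (Subgroup.card_dvd_of_le himg)
    rw [hj0, pow_zero] at hj
    have hbot' : (S : Subgroup H).map (QuotientGroup.mk' K) = ⊥ := Subgroup.card_eq_one.mp hj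
    intro x hx
    have : QuotientGroup.mk' K x ∈ (S : Subgroup H).map (QuotientGroup.mk' K) :=
      Subgroup.mem_map_of_mem _ hx
    rw [hbot', Subgroup.mem_bot] at this
    exact (QuotientGroup.eq_one_iff x).mp this
  refine ⟨h1, hnil, ?_⟩
  intro q hq
  by_cases hqπ : q ∈ π
  · haveI : Fact q.Prime := ⟨hq⟩
    apply pRankLE_of_not_dvd hq
    obtain ⟨S⟩ : Nonempty (Sylow q H) := inferInstance
    have hSK := h1 q hqπ S
    rw [← Subgroup.index_eq_card]
    intro hdvd
    have : q ∣ (S : Subgroup H).index := hdvd.trans (Subgroup.index_dvd_of_le hSK)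
    exact S.not_dvd_index this
  · exact hquot q hq hqπ

end Abstract

end Cfsg.Agent.Lib.Helper8.BGTen
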