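import Mathlib
import Cfsg.Agent.Lib.Helper8.BGTenF

/-!
# Bender–Glauberman Section 10, part G: Theorem 10.2 (`M_α`, `M_σ` are Hall subgroups),
conditional on `UniqThm`.
-/

set_option autoImplicit false
set_option linter.unusedVariables false
set_option linter.style.haveILetI false
set_option linter.unusedSectionVars false

open scoped commutatorElement

namespace Cfsg.Agent.Lib.Helper8.BGTen

open Cfsg Cfsg.Agent.Lib.Helper7 Cfsg.Agent.Lib.Lead.Conj Cfsg.Agent.Lib.Lead.PiCore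

universe u

variable {G : Type u} [Group G] [Finite G]

theorem relIndex_map_subtype_self (M : Subgroup G) (K : Subgroup ↥M) :
    (K.map M.subtype).relIndex M = K.index := by
  have h := Subgroup.relIndex_map_map_of_injective K (⊤ : Subgroup ↥M) M.subtype_injective
  rw [Subgroup.relIndex_top_right] at h
  rw [← h]
  congr 1
  rw [← MonoidHom.range_eq_map, Subgroup.range_subtype]

/-- for `p ∈ σ(M)`, `p` does not divide `|G : M|` -/
theorem not_dvd_index_of_sigma {M : Subgroup G} {p : ℕ} [hpp : Fact p.Prime] (hp : p ∈ Cfsg.sigma M) :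
    ¬ p ∣ M.index := by
  obtain ⟨P0⟩ : Nonempty (Sylow p ↥M) := inferInstance
  have hS : IsSylowIn p ((P0 : Subgroup M).map M.subtype) M := IsSylowIn.of_sylow P0
  have hStop := sigma_sylow_top hp hS
  intro hdvd
  have h1 : Nat.card ↥((P0 : Subgroup M).map M.subtype) ∣ Nat.card ↥M := Subgroup.card_dvd_of_le hS.1
  have h2 : Nat.card ↥((P0 : Subgroup M).map M.subtype) * p ∣ Nat.card ↥M * M.index :=
    Nat.mul_dvd_mul h1 hdvd
  rw [Subgroup.card_mul_index, hStop.2, Subgroup.card_top, ← pow_succ] at h2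
  exact Nat.pow_succ_factorization_not_dvd Nat.card_pos.ne' hpp.out h2

/-- Sylow subgroups of `↥M` lie in the derived subgroup, for `p ∈ σ(M)` -/
theorem sylow_le_commutator_sub (hG : Cfsg.IsMinSimpleOddOrder G) (hU : UniqThm G)
    {M : Subgroup G} (hM : IsCoatom M) {p : ℕ} [hpp : Fact p.Prime] (hp : p ∈ Cfsg.sigma M)
    (S : Sylow p ↥M) : (S : Subgroup ↥M) ≤ _root_.commutator ↥M := by
  have h := sylow_le_commutator_of_sigma hG hU hM hp (IsSylowIn.of_sylow S)
  rw [← Subgroup.map_subtype_commutator] at h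
  exact (Subgroup.map_le_map_iff_of_injective M.subtype_injective).mp h

theorem pRankLE_of_not_mem_alpha {M : Subgroup G} {q : ℕ} (hq : q.Prime) (h : q ∉ Cfsg.alpha M) :
    Cfsg.PRankLE q 2 ↥M := by
  by_contra hr
  exact h ⟨hq, hr⟩

/-- the data of Theorem 10.2 for a set of primes `π` with `α(M) ⊆ π ⊆ σ(M)` -/
theorem hall_of_between (hG : Cfsg.IsMinSimpleOddOrder G) (hU : UniqThm G)
    {M : Subgroup G} (hM : IsCoatom M) (π : Set ℕ) (h1 : ∀ q, q ∈ Cfsg.alpha M → q ∈ π)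
    (h2 : ∀ q, q ∈ π → q ∈ Cfsg.sigma M) :
    Cfsg.IsPiHallOf π ((piCore π ↥M).map M.subtype) M ∧ Cfsg.IsPiHall π ((piCore π ↥M).map M.subtype) ∧
      Cfsg.RankLE 2 (↥M ⧸ piCore π ↥M) ∧
      Group.IsNilpotent ↥((_root_.commutator ↥M).map (QuotientGroup.mk' (piCore π ↥M))) := by
  haveI : Group.IsSolvable ↥M := hG.2.2.2 M hM.1
  have hodd : Odd (Nat.card ↥M) := odd_card_subgroup hG M
  obtain ⟨hS, hnil, hrank⟩ := hall_core (H := ↥M) hodd π
    (fun q hq hqπ => pRankLE_of_not_mem_alpha hq (fun h => hqπ (h1 q h)))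
    (fun p _ hpπ S => sylow_le_commutator_sub hG hU hM (h2 p hpπ) S)
  have hπ : ∀ p : ℕ, p.Prime → p ∣ Nat.card ↥((piCore π ↥M).map M.subtype) → p ∈ π := by
    intro p hp hdvd
    rw [Subgroup.card_map_of_injective M.subtype_injective] at hdvd
    exact piCore_isPiNat π p hp hdvd
  have hrel : ∀ p : ℕ, p.Prime → p ∈ π → ¬ p ∣ ((piCore π ↥M).map M.subtype).relIndex M := by
    intro p hp hpπ
    haveI : Fact p.Prime := ⟨hp⟩
    rw [relIndex_map_subtype_self]
    obtain ⟨S⟩ : Nonempty (Sylow p ↥M) := inferInstance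
    intro hdvd
    exact S.not_dvd_index (hdvd.trans (Subgroup.index_dvd_of_le (hS p hpπ S)))
  refine ⟨⟨Subgroup.map_subtype_le _, hπ, hrel⟩, ⟨hπ, ?_⟩, hrank, ?_⟩
  · intro p hp hpπ
    haveI : Fact p.Prime := ⟨hp⟩
    rw [← Subgroup.relIndex_mul_index (Subgroup.map_subtype_le (piCore π ↥M))]
    intro hdvd
    rcases (Nat.Prime.dvd_mul hp).mp hdvd with h | h
    · exact hrel p hp hpπ h
    · exact not_dvd_index_of_sigma (h2 p hpπ) h
  · have e : (_root_.commutator ↥M).map (QuotientGroup.mk' (piCore π ↥M)) =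
        _root_.commutator (↥M ⧸ piCore π ↥M) := by
      rw [commutator_def, commutator_def, Subgroup.map_commutator,
        Subgroup.map_top_of_surjective _ (QuotientGroup.mk'_surjective _)]
    rw [e]
    exact hnil

/-- **Theorem 10.2 (a), (c), (d)** (the statement of S1405) -/
theorem alphaCore_hall (hG : Cfsg.IsMinSimpleOddOrder G) (hU : UniqThm G)
    (M : Subgroup G) (hM : IsCoatom M) :
    Cfsg.IsPiHallOf (Cfsg.alpha M) (Cfsg.alphaCore M) M ∧ Cfsg.IsPiHall (Cfsg.alpha M) (Cfsg.alphaCore M) ∧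
      Cfsg.alphaCore M ≤ Cfsg.sigmaCore M ∧ Cfsg.RankLE 2 (↥M ⧸ Cfsg.piCore (Cfsg.alpha M) ↥M) ∧
      Group.IsNilpotent ↥((_root_.commutator ↥M).map (QuotientGroup.mk' (Cfsg.piCore (Cfsg.alpha M) ↥M))) := by
  obtain ⟨h1, h2, h3, h4⟩ := hall_of_between hG hU hM (Cfsg.alpha M) (fun q h => h)
    (fun q h => alpha_subset_sigma hG hU hM h)
  refine ⟨h1, h2, ?_, h3, h4⟩
  apply Subgroup.map_mono
  apply le_piCore inferInstance
  intro p hp hdvd
  exact alpha_subset_sigma hG hU hM (piCore_isPiNat (Cfsg.alpha M) p hp hdvd)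

/-- a normal Hall `π`-subgroup of `M` is `O_π(M)` -/
theorem eq_piCore_of_normal_hall {M : Subgroup G} (π : Set ℕ) {N : Subgroup G}
    (hN : M ≤ Subgroup.normalizer (N : Set G)) (hH : Cfsg.IsPiHallOf π N M)
    (hK : Cfsg.IsPiHallOf π ((piCore π ↥M).map M.subtype) M) :
    N = (piCore π ↥M).map M.subtype := by
  obtain ⟨hNM, hNπ, hNidx⟩ := hH
  have hle : N ≤ (piCore π ↥M).map M.subtype := by
    have h0 : N.subgroupOf M ≤ piCore π ↥M := by
      apply le_piCore ((Subgroup.normal_subgroupOf_iff_le_normalizer hNM).mpr hN)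
      intro p hp hdvd
      rw [card_subgroupOf_of_le hNM] at hdvd
      exact hNπ p hp hdvd
    intro x hx
    exact ⟨⟨x, hNM hx⟩, h0 (Subgroup.mem_subgroupOf.mpr hx), rfl⟩
  -- the relative index of N in K is a π-number and a π'-number
  set K := (piCore π ↥M).map M.subtype with hKdef
  have h1 : N.relIndex K = 1 := by
    by_contra hne
    obtain ⟨p, hp, hdvd⟩ := Nat.exists_prime_and_dvd hne
    have hpπ : p ∈ π := hK.2.1 p hp (hdvd.trans (Subgroup.relIndex_dvd_card N K))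
    apply hNidx p hp hpπ
    exact hdvd.trans (Dvd.intro _ (Subgroup.relIndex_mul_relIndex N K M hle hK.1))
  exact le_antisymm hle (Subgroup.relIndex_eq_one.mp h1)

/-- **Theorem 10.2 (b)** (the statement of S1350) -/
theorem sigmaCore_hall (hG : Cfsg.IsMinSimpleOddOrder G) (hU : UniqThm G)
    (M : Subgroup G) (hM : IsCoatom M) :
    Cfsg.IsPiHallOf (Cfsg.sigma M) (Cfsg.sigmaCore M) M ∧ Cfsg.IsPiHall (Cfsg.sigma M) (Cfsg.sigmaCore M) ∧
      ∀ N : Subgroup G, M ≤ Subgroup.normalizer (N : Set G) → Cfsg.IsPiHallOf (Cfsg.sigma M) N M →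
        N = Cfsg.sigmaCore M := by
  obtain ⟨h1, h2, h3, h4⟩ := hall_of_between hG hU hM (Cfsg.sigma M)
    (fun q h => alpha_subset_sigma hG hU hM h) (fun q h => h)
  refine ⟨h1, h2, ?_⟩
  intro N hN hH
  exact eq_piCore_of_normal_hall (Cfsg.sigma M) hN hH h1

end Cfsg.Agent.Lib.Helper8.BGTen
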