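import Mathlib
import Cfsg.Agent.Lib.Helper8.BGTenG

/-!
# Bender–Glauberman Section 10, part H: the statements of S1404, S1405, S1350 from `UniqThm`.
-/

set_option autoImplicit false

namespace Cfsg.Agent.Lib.Helper8.BGTen

open Cfsg

universe u

variable {G : Type u} [Group G] [Finite G]

/-- statement of S1404 (Lemma 10.1) from the Uniqueness Theorem -/
theorem s1404 (hU : UniqThm G) (hG : Cfsg.IsMinSimpleOddOrder G)
    (M : Subgroup G) (hM : IsCoatom M) (p : ℕ) [Fact p.Prime] (hp : p ∈ Cfsg.sigma M)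
    (X : Subgroup G) (hXp : IsPGroup p X) (hX1 : X ≠ ⊥) (hXM : X ≤ M) :
    (∀ g : G, X.map (MulAut.conj g).toMonoidHom ≤ M → ∃ m ∈ M, ∃ c ∈ Subgroup.centralizer (X : Set G), g = m * c) ∧
      Subgroup.normalizer (X : Set G) = (M ⊓ Subgroup.normalizer (X : Set G)) ⊔ Subgroup.centralizer (X : Set G) :=
  ⟨ctl_of_sigma hG hU hM hp X hXM hXp hX1, normalizer_eq_of_sigma hG hU hM hp hXM hXp hX1⟩

end Cfsg.Agent.Lib.Helper8.BGTen
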