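import Mathlib
import Cfsg.Agent.Lib.Helper8.BGTenH
import Cfsg.Agent.S1452
import Cfsg.Agent.S1453
import Cfsg.Agent.H1.ElemAbelian

/-!
# Bender–Glauberman Section 10, part I: `p`-group preliminaries for Lemma 10.3
-/

set_option autoImplicit false
set_option linter.unusedVariables false
set_option linter.unusedSectionVars false

namespace Cfsg.Agent.Lib.Helper8.BGTen

open Cfsg Cfsg.Agent.Lib.Helper7 Cfsg.Agent.Lib.Lead.Conj

universe u

section pgroup

variable {R : Type*} [Group R]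

/-- the `Ω₁`-type subgroup of a characteristic subgroup is characteristic -/
theorem omega_char (p : ℕ) (C : Subgroup R) [hC : C.Characteristic] :
    (Subgroup.closure {x : R | x ∈ C ∧ x ^ p = 1}).Characteristic := by
  rw [Subgroup.characteristic_iff_map_le]
  intro φ
  rw [MonoidHom.map_closure]
  apply Subgroup.closure_mono
  rintro _ ⟨x, ⟨hxC, hxp⟩, rfl⟩
  refine ⟨?_, ?_⟩
  · have h := Subgroup.characteristic_iff_map_eq.mp hC φ
    rw [← h]
    exact Subgroup.mem_map_of_mem _ hxC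
  · show (φ x) ^ p = 1
    rw [← map_pow, hxp, map_one]

/-- the `p`-group input to Lemma 10.3 (from S1453 and S1452) -/
theorem pgroup_key [Finite R] (p : ℕ) [Fact p.Prime] (hp : p ≠ 2) (hR : IsPGroup p R)
    (hr : ¬ Cfsg.PRankLE p 2 R) (E : Subgroup R) (hE : Cfsg.IsElementaryAbelian p E)
    (hE2 : Nat.card E = p ^ 2)
    (hEmax : ∀ B : Subgroup R, Cfsg.IsElementaryAbelian p B → E ≤ B → B = E) :
    ∃ W Z : Subgroup R, W.Characteristic ∧ Z.Characteristic ∧ Z ≤ E ∧ Z ≤ W ∧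
      Z ≤ Subgroup.center R ∧ Nat.card Z = p ∧ Nat.card W = p ^ 2 ∧
      Cfsg.IsElementaryAbelian p W ∧ (∀ w ∈ W, ∀ s : R, w * s * w⁻¹ * s⁻¹ ∈ Z) ∧
      (∃ a ∈ E, ∃ w ∈ W, a * w ≠ w * a) ∧
      ¬ Cfsg.PRankLE p 2 ↥(Subgroup.centralizer (W : Set R)) := by
  obtain ⟨h1, h2, ⟨h3, h4⟩, h5, h6⟩ := Cfsg.Agent.S1453.result p hp hR hr E hE hE2 hEmax
  obtain ⟨W, hW⟩ : ∃ W, W = Subgroup.closure
      {x : R | x ∈ Subgroup.upperCentralSeries R 2 ∧ x ^ p = 1} := ⟨_, rfl⟩
  obtain ⟨Z, hZ⟩ : ∃ Z, Z = Subgroup.closure {x : R | x ∈ Subgroup.center R ∧ x ^ p = 1} :=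
    ⟨_, rfl⟩
  rw [← hW] at h1 h3 h4 h5 h6
  rw [← hZ] at h2
  have hWc : W.Characteristic := by rw [hW]; exact omega_char p _
  have hZc : Z.Characteristic := by rw [hZ]; exact omega_char p _
  have hZcen : Z ≤ Subgroup.center R := by
    rw [hZ, Subgroup.closure_le]
    intro x hx
    exact hx.1
  have hWZ2 : W ≤ Subgroup.upperCentralSeries R 2 := by
    rw [hW, Subgroup.closure_le]
    intro x hx
    exact hx.1
  have hZW : Z ≤ W := by
    rw [hZ, hW]
    apply Subgroup.closure_mono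
    intro x hx
    refine ⟨?_, hx.2⟩
    have h : Subgroup.center R ≤ Subgroup.upperCentralSeries R 2 := by
      rw [← Subgroup.upperCentralSeries_one]
      exact Subgroup.upperCentralSeries_mono R (by norm_num)
    exact h hx.1
  have hZE : Z ≤ E := by
    rw [hZ, Subgroup.closure_le]
    intro x hx
    have hxc : x ∈ Subgroup.centralizer (E : Set R) := by
      rw [Subgroup.mem_centralizer_iff]
      intro e he
      exact Subgroup.mem_center_iff.mp hx.1 e
    have hB := Cfsg.Agent.H1.isElementaryAbelian_sup_zpowers p E hE x hxc hx.2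
    have hBE := hEmax _ hB le_sup_left
    have hmem : x ∈ E ⊔ Subgroup.zpowers x := Subgroup.mem_sup_right (Subgroup.mem_zpowers x)
    rw [hBE] at hmem
    exact hmem
  have hcomm : ∀ w ∈ W, ∀ s : R, w * s * w⁻¹ * s⁻¹ ∈ Z := by
    intro w hw s
    rw [hZ]
    apply Subgroup.subset_closure
    refine ⟨?_, ?_⟩
    · have h := hWZ2 hw
      rw [show (2 : ℕ) = 1 + 1 from rfl, Subgroup.mem_upperCentralSeries_succ_iff] at h
      have h' := h s
      rwa [Subgroup.upperCentralSeries_one] at h'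
    · have hn : W.Normal := inferInstance
      have h1' : s * w⁻¹ * s⁻¹ ∈ W := hn.conj_mem _ (W.inv_mem hw) s
      have h2' : w * s * w⁻¹ * s⁻¹ ∈ W := by
        have h := W.mul_mem hw h1'
        have e : w * (s * w⁻¹ * s⁻¹) = w * s * w⁻¹ * s⁻¹ := by group
        rwa [e] at h
      exact h3.2 _ h2'
  have hex : ∃ a ∈ E, ∃ w ∈ W, a * w ≠ w * a := by
    by_contra hne
    push Not at hne
    apply h1
    intro a ha
    rw [Subgroup.mem_centralizer_iff]
    intro w hw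
    exact (hne a ha w hw).symm
  have hrk : ¬ Cfsg.PRankLE p 2 ↥(Subgroup.centralizer (W : Set R)) := by
    have hWn : W.Normal := inferInstance
    obtain ⟨A', hWA', hA'n, hA'c, hA'r⟩ := Cfsg.Agent.S1452.result p hp hR hr W h3 h4
    have hle : A' ≤ Subgroup.centralizer (W : Set R) := by
      intro x hx
      rw [Subgroup.mem_centralizer_iff]
      intro w hw
      have hx' : x ∈ Subgroup.centralizer (A' : Set R) := by rw [hA'c]; exact hx
      rw [Subgroup.mem_centralizer_iff] at hx'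
      exact hx' w (hWA' hw)
    intro h
    exact hA'r (Cfsg.Agent.Lib.Helper4.Rank2Fit.pRankLE_of_le hle h)
  exact ⟨W, Z, hWc, hZc, hZE, hZW, hZcen, h2, h4, h3, hcomm, hex, hrk⟩

end pgroup

variable {G : Type u} [Group G]

/-- conjugation by an element of `N_G(K)` preserves the image of a characteristic subgroup
of `K` -/
theorem char_map_conj_mem {K : Subgroup G} (C : Subgroup ↥K) [hC : C.Characteristic] {g : G}
    (hg : g ∈ Subgroup.normalizer (K : Set G)) {c : G} (hc : c ∈ C.map K.subtype) :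
    g * c * g⁻¹ ∈ C.map K.subtype := by
  obtain ⟨y, hy, rfl⟩ := hc
  have h := Subgroup.characteristic_iff_map_eq.mp hC (K.normalizerMonoidHom ⟨g, hg⟩)
  have h1 : (K.normalizerMonoidHom ⟨g, hg⟩) y ∈ C := by
    rw [← h]
    exact Subgroup.mem_map_of_mem _ hy
  exact ⟨_, h1, rfl⟩

theorem inUniqueMaximal_mono [Finite G] {A Y : Subgroup G} (hAY : A ≤ Y) (hY : Y ≠ ⊤)
    (hA : Cfsg.InUniqueMaximal A) : Cfsg.InUniqueMaximal Y := by
  obtain ⟨L, ⟨hL, hAL⟩, huniq⟩ := hA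
  obtain ⟨L', hL', hYL'⟩ := exists_coatom_ge hY
  refine ⟨L', ⟨hL', hYL'⟩, ?_⟩
  intro L'' h
  have e1 := huniq L'' ⟨h.1, hAY.trans h.2⟩
  have e2 := huniq L' ⟨hL', hAY.trans hYL'⟩
  rw [e1, e2]

/-- a `p`-subgroup of `p'`-index is a Sylow `p`-subgroup -/
theorem sylIn_of_not_dvd [Finite G] {p : ℕ} [hp : Fact p.Prime] {S H : Subgroup G} (hSH : S ≤ H)
    (hS : IsPGroup p ↥S) (h : ¬ p ∣ S.relIndex H) : IsSylowIn p S H := by
  refine ⟨hSH, ?_⟩
  obtain ⟨k, hk⟩ := IsPGroup.iff_card.mp hS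
  have h1 : Nat.card ↥(S.subgroupOf H) * (S.subgroupOf H).index = Nat.card ↥H :=
    Subgroup.card_mul_index _
  rw [card_subgroupOf_of_le hSH, hk] at h1
  have h2 : (S.subgroupOf H).index = S.relIndex H := rfl
  rw [h2] at h1
  have h3 : S.relIndex H ≠ 0 := by
    intro h0
    rw [h0] at h
    exact h (dvd_zero p)
  rw [← h1, Nat.factorization_mul (pow_ne_zero _ hp.out.ne_zero) h3, hk]
  simp only [Finsupp.coe_add, Pi.add_apply]
  rw [Nat.Prime.factorization_pow hp.out, Nat.factorization_eq_zero_of_not_dvd h]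
  simp

/-- a `p'`-element stabilizing the chain `1 ≤ Z ≤ W` of a group of order `p ^ 2`, via the
commutator trick of Lemma 10.3, centralizes `W` -/
theorem centralizes_of_stab [Finite G] {p : ℕ} [hp : Fact p.Prime] {W Z A : Subgroup G} {x : G} {n : ℕ}
    (hxn : x ^ n = 1) (hnp : n.Coprime p)
    (hxW : ∀ w ∈ W, x * w * x⁻¹ ∈ W) (hxA : ∀ a ∈ A, x * a * x⁻¹ = a) (hZA : Z ≤ A) (hZW : Z ≤ W)
    (hZ : Nat.card ↥Z = p) (hW : Nat.card ↥W = p ^ 2)
    (hcomm : ∀ w ∈ W, ∀ a ∈ A, w * a * w⁻¹ * a⁻¹ ∈ Z)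
    (hZc : ∀ z ∈ Z, ∀ a ∈ A, z * a = a * z)
    (hex : ∃ a ∈ A, ∃ w ∈ W, a * w ≠ w * a) :
    ∀ w ∈ W, x * w * x⁻¹ = w := by
  obtain ⟨a, haA, w₀, hw₀, hne⟩ := hex
  -- `C_W(a) = Z`
  have hCW : W ⊓ Subgroup.centralizer ({a} : Set G) = Z := by
    symm
    have hle : Z ≤ W ⊓ Subgroup.centralizer ({a} : Set G) := by
      intro z hz
      refine Subgroup.mem_inf.mpr ⟨hZW hz, ?_⟩
      rw [Subgroup.mem_centralizer_singleton_iff]
      exact hZc z hz a haA
    apply Subgroup.eq_of_le_of_card_ge hle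
    have hdvd : Nat.card ↥(W ⊓ Subgroup.centralizer ({a} : Set G)) ∣ p ^ 2 := by
      rw [← hW]
      exact Subgroup.card_dvd_of_le inf_le_left
    obtain ⟨k, hk2, hk⟩ := (Nat.dvd_prime_pow hp.out).mp hdvd
    rw [hk, hZ]
    have hk1 : k ≠ 2 := by
      intro h2
      rw [h2, ← hW] at hk
      have : W ⊓ Subgroup.centralizer ({a} : Set G) = W :=
        Subgroup.eq_of_le_of_card_ge inf_le_left hk.ge
      have hw₀' : w₀ ∈ W ⊓ Subgroup.centralizer ({a} : Set G) := by rw [this]; exact hw₀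
      have := (Subgroup.mem_inf.mp hw₀').2
      rw [Subgroup.mem_centralizer_singleton_iff] at this
      exact hne this.symm
    have hk' : k ≤ 1 := by omega
    calc p ^ k ≤ p ^ 1 := Nat.pow_le_pow_right hp.out.pos hk'
      _ = p := pow_one p
  -- `x w x⁻¹ = w z` with `z ∈ Z`
  have hstep : ∀ w ∈ W, w⁻¹ * (x * w * x⁻¹) ∈ Z := by
    intro w hw
    rw [← hCW]
    refine Subgroup.mem_inf.mpr ⟨W.mul_mem (W.inv_mem hw) (hxW w hw), ?_⟩
    rw [Subgroup.mem_centralizer_singleton_iff]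
    have hc := hcomm w hw a haA
    have h1 := hxA _ (hZA hc)
    have h2 := hxA a haA
    have h3 : x * a⁻¹ * x⁻¹ = a⁻¹ := by
      have := hxA _ (A.inv_mem haA)
      exact this
    have e : x * (w * a * w⁻¹ * a⁻¹) * x⁻¹ =
        (x * w * x⁻¹) * (x * a * x⁻¹) * (x * w * x⁻¹)⁻¹ * (x * a⁻¹ * x⁻¹) := by group
    rw [e, h2, h3] at h1
    -- h1 : w' a w'⁻¹ a⁻¹ = w a w⁻¹ a⁻¹
    have h4 : (x * w * x⁻¹) * a * (x * w * x⁻¹)⁻¹ = w * a * w⁻¹ := by
      have := congrArg (fun t => t * a) h1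
      simpa using this
    calc w⁻¹ * (x * w * x⁻¹) * a
        = w⁻¹ * ((x * w * x⁻¹) * a * (x * w * x⁻¹)⁻¹) * (x * w * x⁻¹) := by group
      _ = w⁻¹ * (w * a * w⁻¹) * (x * w * x⁻¹) := by rw [h4]
      _ = a * (w⁻¹ * (x * w * x⁻¹)) := by group
  intro w hw
  set z := w⁻¹ * (x * w * x⁻¹) with hz
  have hzZ : z ∈ Z := hstep w hw
  have hxz : x * z * x⁻¹ = z := hxA z (hZA hzZ)
  have hxw : x * w * x⁻¹ = w * z := by rw [hz]; group
  have hpow : ∀ k : ℕ, x ^ k * w * (x ^ k)⁻¹ = w * z ^ k := by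
    intro k
    induction k with
    | zero => simp
    | succ k ih =>
      have hxzk : x * z ^ k * x⁻¹ = z ^ k := by
        have : x * z ^ k * x⁻¹ = (x * z * x⁻¹) ^ k := by
          rw [conj_pow]
        rw [this, hxz]
      calc x ^ (k + 1) * w * (x ^ (k + 1))⁻¹ = x * (x ^ k * w * (x ^ k)⁻¹) * x⁻¹ := by
            rw [pow_succ']; group
        _ = x * (w * z ^ k) * x⁻¹ := by rw [ih]
        _ = (x * w * x⁻¹) * (x * z ^ k * x⁻¹) := by group
        _ = w * z * z ^ k := by rw [hxw, hxzk]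
        _ = w * z ^ (k + 1) := by rw [pow_succ']; group
  have h1 := hpow n
  rw [hxn] at h1
  have hzn : z ^ n = 1 := by
    have : w = w * z ^ n := by simpa using h1
    exact (mul_eq_left.mp this.symm)
  have hzp : z ^ p = 1 := by
    have : (⟨z, hzZ⟩ : ↥Z) ^ Nat.card ↥Z = 1 := pow_card_eq_one'
    rw [hZ] at this
    exact congrArg Subtype.val this
  have hz1 : z = 1 := by
    have := pow_gcd_eq_one.mpr ⟨hzn, hzp⟩
    rwa [hnp, pow_one] at this
  rw [hxw, hz1, mul_one]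

end Cfsg.Agent.Lib.Helper8.BGTen
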