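import Mathlib
import Cfsg.Agent.Lib.Helper8.BGTenI
import Cfsg.Agent.H1.CoprimeSylow

/-!
# Bender–Glauberman Section 10, part J: Lemma 10.3 (the statement of S1406), conditional on
the Uniqueness Theorem
-/

set_option autoImplicit false
set_option linter.unusedVariables false
set_option linter.unusedSectionVars false
set_option maxHeartbeats 1000000

namespace Cfsg.Agent.Lib.Helper8.BGTen

open Cfsg Cfsg.Agent.Lib.Helper7 Cfsg.Agent.Lib.Lead.Conj Cfsg.Agent.Lib.Lead.PiCore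

universe u

variable {G : Type u} [Group G] [Finite G]

theorem alphaCore_le (M : Subgroup G) : Cfsg.alphaCore M ≤ M := by
  unfold Cfsg.alphaCore
  exact Subgroup.map_subtype_le _

theorem le_normalizer_alphaCore (M : Subgroup G) :
    M ≤ Subgroup.normalizer ((Cfsg.alphaCore M : Subgroup G) : Set G) := by
  have h := Subgroup.le_normalizer_map (H := Cfsg.piCore (Cfsg.alpha M) ↥M) M.subtype
  rw [Subgroup.normalizer_eq_top, ← MonoidHom.range_eq_map, Subgroup.range_subtype] at h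
  exact h

theorem card_alphaCore (M : Subgroup G) :
    Nat.card ↥(Cfsg.alphaCore M) = Nat.card ↥(Cfsg.piCore (Cfsg.alpha M) ↥M) := by
  unfold Cfsg.alphaCore
  exact Subgroup.card_map_of_injective (Subgroup.subtype_injective _)

theorem mem_alpha_of_dvd_alphaCore (M : Subgroup G) {q : ℕ} (hq : q.Prime)
    (h : q ∣ Nat.card ↥(Cfsg.alphaCore M)) : q ∈ Cfsg.alpha M := by
  rw [card_alphaCore] at h
  exact piCore_isPiNat (Cfsg.alpha M) q hq h

/-- an elementary abelian group of order `> p` has rank `≥ 2` -/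
theorem not_rankLE_one_of_elem {p : ℕ} (hpp : p.Prime) {A : Subgroup G}
    (hAcomm : ∀ a ∈ A, ∀ b ∈ A, a * b = b * a) (hAe : ∀ a ∈ A, a ^ p = 1)
    (hAcard : p < Nat.card ↥A) : ¬ Cfsg.RankLE 1 ↥A := by
  intro h
  have hc : IsMulCommutative ↥(⊤ : Subgroup ↥A) :=
    ⟨⟨fun a b => Subtype.ext (Subtype.ext (hAcomm _ a.1.2 _ b.1.2))⟩⟩
  have := h p hpp ⊤ hc (by
    intro a _
    exact Subtype.ext (by simpa using hAe a a.2))
  rw [Subgroup.card_top, pow_one] at this
  omega

/-- **Lemma 10.3** (the statement of S1406) -/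
theorem s1406 (hU : UniqThm G) (hG : Cfsg.IsMinSimpleOddOrder G)
    (M : Subgroup G) (hM : IsCoatom M) (X : Subgroup G) (hXM : X ≤ M)
    (hXα : ∀ p : ℕ, p.Prime → p ∣ Nat.card X → p ∉ Cfsg.alpha M)
    (hr : ¬ Cfsg.RankLE 1 ↥(Cfsg.alphaCore M ⊓ Subgroup.centralizer (X : Set G))) :
    Cfsg.InUniqueMaximal (M ⊓ Subgroup.centralizer (X : Set G)) := by
  classical
  have hCne : M ⊓ Subgroup.centralizer (X : Set G) ≠ ⊤ := ne_top_of_le_coatom hM inf_le_left
  obtain ⟨K, hK⟩ : ∃ K : Subgroup G, K = Cfsg.alphaCore M ⊓ Subgroup.centralizer (X : Set G) :=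
    ⟨_, rfl⟩
  rw [← hK] at hr
  unfold Cfsg.RankLE at hr
  push Not at hr
  obtain ⟨p, hpp, hr⟩ := hr
  have hfact : Fact p.Prime := ⟨hpp⟩
  unfold Cfsg.PRankLE at hr
  push Not at hr
  obtain ⟨A₀, hA₀c, hA₀e, hA₀card⟩ := hr
  obtain ⟨A, hAdef⟩ : ∃ A : Subgroup G, A = A₀.map K.subtype := ⟨_, rfl⟩
  have hAK : A ≤ K := by rw [hAdef]; exact Subgroup.map_subtype_le _
  have hAα : A ≤ Cfsg.alphaCore M := by
    refine hAK.trans ?_
    rw [hK]
    exact inf_le_left
  have hAX : A ≤ Subgroup.centralizer (X : Set G) := by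
    refine hAK.trans ?_
    rw [hK]
    exact inf_le_right
  have hαM : Cfsg.alphaCore M ≤ M := alphaCore_le M
  have hAM : A ≤ M := hAα.trans hαM
  have hAcomm : ∀ a ∈ A, ∀ b ∈ A, a * b = b * a := by
    rw [hAdef]
    rintro _ ⟨a, ha, rfl⟩ _ ⟨b, hb, rfl⟩
    have h1 := hA₀c.is_comm.comm ⟨a, ha⟩ ⟨b, hb⟩
    have h2 := congrArg Subtype.val h1
    have h3 : a * b = b * a := h2
    show (a : G) * (b : G) = (b : G) * (a : G)
    exact congrArg Subtype.val h3
  have hAe : ∀ a ∈ A, a ^ p = 1 := by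
    rw [hAdef]
    rintro _ ⟨b, hb, rfl⟩
    have := hA₀e b hb
    rw [← map_pow, this, map_one]
  have hAcard : p < Nat.card ↥A := by
    rw [hAdef, Subgroup.card_map_of_injective (Subgroup.subtype_injective _)]
    simpa using hA₀card
  have hAle : A ≤ M ⊓ Subgroup.centralizer (X : Set G) := le_inf hAM hAX
  have hAcen : A ≤ Subgroup.centralizer (A : Set G) := by
    intro a ha
    rw [Subgroup.mem_centralizer_iff]
    intro b hb
    exact hAcomm b hb a ha
  have hAnr1 : ¬ Cfsg.RankLE 1 ↥A := not_rankLE_one_of_elem hpp hAcomm hAe hAcard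
  by_cases hC2 : Cfsg.PRankLE p 2 ↥(Subgroup.centralizer (A : Set G))
  swap
  · have hu : Cfsg.InUniqueMaximal A := by
      apply hU A (ne_top_of_le_coatom hM hAM) hAnr1
      right
      intro h
      exact hC2 (h p hpp)
    exact inUniqueMaximal_mono hAle hCne hu
  -- now `r_p(C(A)) ≤ 2`
  have hAp : IsPGroup p ↥A := fun a =>
    ⟨1, by rw [pow_one]; exact Subtype.ext (by simpa using hAe a a.2)⟩
  obtain ⟨k, hk⟩ := IsPGroup.iff_card.mp hAp
  have hbound : ∀ B : Subgroup G, A ≤ B → (∀ a ∈ B, ∀ b ∈ B, a * b = b * a) →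
      (∀ a ∈ B, a ^ p = 1) → Nat.card ↥B ≤ p ^ 2 := by
    intro B hAB hBc hBe
    have hBcen : B ≤ Subgroup.centralizer (A : Set G) := by
      intro b hb
      rw [Subgroup.mem_centralizer_iff]
      intro a ha
      exact hBc a (hAB ha) b hb
    have hc : IsMulCommutative ↥(B.subgroupOf (Subgroup.centralizer (A : Set G))) :=
      ⟨⟨fun a b => Subtype.ext (Subtype.ext (hBc _ a.2 _ b.2))⟩⟩
    have := hC2 (B.subgroupOf (Subgroup.centralizer (A : Set G))) hc (by
      intro a ha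
      exact Subtype.ext (by simpa using hBe a ha))
    rwa [card_subgroupOf_of_le hBcen] at this
  have hA2 : Nat.card ↥A = p ^ 2 := by
    have h1 : Nat.card ↥A ≤ p ^ 2 := hbound A le_rfl hAcomm hAe
    rw [hk] at h1 hAcard ⊢
    have h2 : 1 < k := by
      have : p ^ 1 < p ^ k := by simpa using hAcard
      exact (Nat.pow_lt_pow_iff_right hpp.one_lt).mp this
    have h3 : k ≤ 2 := (Nat.pow_le_pow_iff_right hpp.one_lt).mp h1
    have : k = 2 := by omega
    rw [this]
  have hpA : p ∣ Nat.card ↥A := by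
    rw [hA2]
    exact dvd_pow_self p (by norm_num)
  have hpα : p ∈ Cfsg.alpha M :=
    mem_alpha_of_dvd_alphaCore M hpp (hpA.trans (Subgroup.card_dvd_of_le hAα))
  have hp2 : p ≠ 2 := by
    intro h2
    have hodd := odd_card_subgroup hG A
    rw [h2] at hpA
    exact (Nat.not_even_iff_odd.mpr hodd) (even_iff_two_dvd.mpr hpA)
  -- an `X`-invariant Sylow `p`-subgroup of `M_α` containing `A`
  have hXN : X ≤ Subgroup.normalizer ((Cfsg.alphaCore M : Subgroup G) : Set G) :=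
    hXM.trans (le_normalizer_alphaCore M)
  have hcop : (Nat.card ↥X).Coprime (Nat.card ↥(Cfsg.alphaCore M)) := by
    apply Nat.coprime_of_dvd
    intro q hq hqX hqα
    exact hXα q hq hqX (mem_alpha_of_dvd_alphaCore M hq hqα)
  have hXsolv : Group.IsSolvable ↥X := hG.2.2.2 X (ne_top_of_le_coatom hM hXM)
  have hXA : X ≤ Subgroup.normalizer ((A : Subgroup G) : Set G) := by
    intro x hx
    apply Subgroup.centralizer_le_normalizer
    rw [Subgroup.mem_centralizer_iff]
    intro a ha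
    exact (Subgroup.mem_centralizer_iff.mp (hAX ha) x hx).symm
  obtain ⟨S, hSα, hAS, hSp, hXS, hSidx⟩ :=
    Cfsg.Agent.H1.invariant_pgroup_le_invariant_sylow_aux X (Cfsg.alphaCore M) hXN hcop
      (Or.inl hXsolv) p _ A hAα hAp hXA rfl
  have hallα := (alphaCore_hall hG hU M hM).1
  have hSM : S ≤ M := hSα.trans hαM
  have hSidxM : ¬ p ∣ S.relIndex M := by
    rw [← Subgroup.relIndex_mul_relIndex S (Cfsg.alphaCore M) M hSα hαM]
    intro h
    rcases (Nat.Prime.dvd_mul hpp).mp h with h | h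
    · exact hSidx h
    · exact hallα.2.2 p hpp hpα h
  have hSsyl : IsSylowIn p S M := sylIn_of_not_dvd hSM hSp hSidxM
  have hSr : ¬ Cfsg.PRankLE p 2 ↥S := not_pRankLE_sylowIn hSsyl hpα.2
  -- the `p`-group input
  have hEc : IsMulCommutative ↥(A.subgroupOf S) :=
    ⟨⟨fun a b => Subtype.ext (Subtype.ext (hAcomm _ a.2 _ b.2))⟩⟩
  have hE : Cfsg.IsElementaryAbelian p (A.subgroupOf S) := by
    refine ⟨hEc, ?_⟩
    intro a ha
    exact Subtype.ext (by simpa using hAe a ha)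
  have hE2 : Nat.card ↥(A.subgroupOf S) = p ^ 2 := by
    rw [card_subgroupOf_of_le hAS, hA2]
  have hEmax : ∀ B : Subgroup ↥S, Cfsg.IsElementaryAbelian p B → A.subgroupOf S ≤ B →
      B = A.subgroupOf S := by
    intro B hB hEB
    symm
    apply Subgroup.eq_of_le_of_card_ge hEB
    rw [hE2]
    have hAB : A ≤ B.map S.subtype := by
      intro a ha
      exact ⟨⟨a, hAS ha⟩, hEB (Subgroup.mem_subgroupOf.mpr ha), rfl⟩
    have h1 := hbound (B.map S.subtype) hAB (by
      rintro _ ⟨a, ha, rfl⟩ _ ⟨b, hb, rfl⟩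
      have h1 := hB.1.is_comm.comm ⟨a, ha⟩ ⟨b, hb⟩
      have h2 : a * b = b * a := congrArg Subtype.val h1
      exact congrArg Subtype.val h2) (by
      rintro _ ⟨b, hb, rfl⟩
      have := hB.2 b hb
      rw [← map_pow, this, map_one])
    rwa [Subgroup.card_map_of_injective (Subgroup.subtype_injective _)] at h1
  obtain ⟨W, Z, hWc, hZc, hZE, hZW, hZcen, hZcard, hWcard, hWel, hcomm, hex, hrk⟩ :=
    pgroup_key p hp2 hSp hSr (A.subgroupOf S) hE hE2 hEmax
  obtain ⟨Wg, hWg⟩ : ∃ Wg : Subgroup G, Wg = W.map S.subtype := ⟨_, rfl⟩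
  obtain ⟨Zg, hZg⟩ : ∃ Zg : Subgroup G, Zg = Z.map S.subtype := ⟨_, rfl⟩
  have hWgS : Wg ≤ S := by rw [hWg]; exact Subgroup.map_subtype_le _
  have hWgcard : Nat.card ↥Wg = p ^ 2 := by
    rw [hWg, Subgroup.card_map_of_injective (Subgroup.subtype_injective _), hWcard]
  have hZgcard : Nat.card ↥Zg = p := by
    rw [hZg, Subgroup.card_map_of_injective (Subgroup.subtype_injective _), hZcard]
  have hZgA : Zg ≤ A := by
    rw [hZg]
    rintro _ ⟨z, hz, rfl⟩
    exact Subgroup.mem_subgroupOf.mp (hZE hz)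
  have hZgWg : Zg ≤ Wg := by
    rw [hZg, hWg]
    exact Subgroup.map_mono hZW
  have hcommg : ∀ w ∈ Wg, ∀ a ∈ A, w * a * w⁻¹ * a⁻¹ ∈ Zg := by
    rw [hWg, hZg]
    rintro _ ⟨w, hw, rfl⟩ a ha
    exact ⟨_, hcomm w hw ⟨a, hAS ha⟩, rfl⟩
  have hZcg : ∀ z ∈ Zg, ∀ a ∈ A, z * a = a * z := by
    rw [hZg]
    rintro _ ⟨z, hz, rfl⟩ a ha
    have h1 := Subgroup.mem_center_iff.mp (hZcen hz) ⟨a, hAS ha⟩
    exact (congrArg Subtype.val h1).symm
  have hexg : ∃ a ∈ A, ∃ w ∈ Wg, a * w ≠ w * a := by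
    obtain ⟨a, ha, w, hw, hne⟩ := hex
    refine ⟨a, Subgroup.mem_subgroupOf.mp ha, w, ?_, ?_⟩
    · rw [hWg]
      exact ⟨w, hw, rfl⟩
    · intro h
      exact hne (Subtype.ext h)
  have hXcent : ∀ x ∈ X, ∀ w ∈ Wg, x * w * x⁻¹ = w := by
    intro x hx
    have hxn : x ^ Nat.card ↥X = 1 := by
      have : (⟨x, hx⟩ : ↥X) ^ Nat.card ↥X = 1 := pow_card_eq_one'
      exact congrArg Subtype.val this
    have hnp : (Nat.card ↥X).Coprime p := by
      apply Nat.Coprime.symm
      rw [Nat.Prime.coprime_iff_not_dvd hpp]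
      intro h
      exact hXα p hpp h hpα
    have hxW : ∀ w ∈ Wg, x * w * x⁻¹ ∈ Wg := by
      intro w hw
      rw [hWg] at hw ⊢
      exact char_map_conj_mem W (hXS hx) hw
    have hxA : ∀ a ∈ A, x * a * x⁻¹ = a := by
      intro a ha
      have := Subgroup.mem_centralizer_iff.mp (hAX ha) x hx
      rw [this]
      group
    exact centralizes_of_stab hxn hnp hxW hxA hZgA hZgWg hZgcard hWgcard hcommg hZcg hexg
  have hWgX : Wg ≤ Subgroup.centralizer (X : Set G) := by
    intro w hw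
    rw [Subgroup.mem_centralizer_iff]
    intro x hx
    have := hXcent x hx w hw
    calc x * w = (x * w * x⁻¹) * x := by group
      _ = w * x := by rw [this]
  have hWgle : Wg ≤ M ⊓ Subgroup.centralizer (X : Set G) := le_inf (hWgS.trans hSM) hWgX
  have hWgcomm : ∀ a ∈ Wg, ∀ b ∈ Wg, a * b = b * a := by
    rw [hWg]
    rintro _ ⟨a, ha, rfl⟩ _ ⟨b, hb, rfl⟩
    have h1 := hWel.1.is_comm.comm ⟨a, ha⟩ ⟨b, hb⟩
    have h2 : a * b = b * a := congrArg Subtype.val h1
    exact congrArg Subtype.val h2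
  have hWge : ∀ a ∈ Wg, a ^ p = 1 := by
    rw [hWg]
    rintro _ ⟨b, hb, rfl⟩
    have := hWel.2 b hb
    rw [← map_pow, this, map_one]
  have hWgnr1 : ¬ Cfsg.RankLE 1 ↥Wg := by
    apply not_rankLE_one_of_elem hpp hWgcomm hWge
    rw [hWgcard]
    calc p = p ^ 1 := (pow_one p).symm
      _ < p ^ 2 := Nat.pow_lt_pow_right hpp.one_lt (by norm_num)
  have hWgrk : ¬ Cfsg.PRankLE p 2 ↥(Subgroup.centralizer (Wg : Set G)) := by
    intro h
    apply hrk
    have hmem : ∀ t : ↥(Subgroup.centralizer (W : Set ↥S)),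
        ((t : ↥S) : G) ∈ Subgroup.centralizer (Wg : Set G) := by
      intro t
      rw [Subgroup.mem_centralizer_iff, hWg]
      rintro _ ⟨w, hw, rfl⟩
      have := Subgroup.mem_centralizer_iff.mp t.2 w hw
      exact congrArg Subtype.val this
    exact Cfsg.Agent.Lib.Helper4.Rank2Fit.pRankLE_of_injective
      ((S.subtype.comp (Subgroup.centralizer (W : Set ↥S)).subtype).codRestrict
        (Subgroup.centralizer (Wg : Set G)) hmem)
      (by
        intro a b hab
        have h1 := congrArg Subtype.val hab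
        exact Subtype.ext (Subtype.ext h1)) h
  have hu : Cfsg.InUniqueMaximal Wg := by
    apply hU Wg (ne_top_of_le_coatom hM (hWgS.trans hSM)) hWgnr1
    right
    intro h
    exact hWgrk (h p hpp)
  exact inUniqueMaximal_mono hWgle hCne hu

end Cfsg.Agent.Lib.Helper8.BGTen
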