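import Mathlib
import Cfsg.Agent.Lib.Helper8.BGTenJ
import Cfsg.Agent.Lib.Helper4.BGUniqB

/-!
# Bender–Glauberman Section 10, part K: Lemma 10.4 (the statement of S1407), conditional on
the Uniqueness Theorem
-/

set_option autoImplicit false
set_option linter.unusedVariables false
set_option linter.unusedSectionVars false
set_option maxHeartbeats 1000000

namespace Cfsg.Agent.Lib.Helper8.BGTen

open Cfsg Cfsg.Agent.Lib.Helper7 Cfsg.Agent.Lib.Lead.Conj Cfsg.Agent.Lib.Lead.PiCore

universe u

variable {G : Type u} [Group G] [Finite G]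

theorem centralizer_zpowers_eq (x : G) :
    Subgroup.centralizer ((Subgroup.zpowers x : Subgroup G) : Set G) =
      Subgroup.centralizer ({x} : Set G) := by
  apply le_antisymm
  · apply Subgroup.centralizer_le
    intro y hy
    rw [Set.mem_singleton_iff] at hy
    rw [hy]
    exact Subgroup.mem_zpowers x
  · intro g hg
    rw [Subgroup.mem_centralizer_singleton_iff] at hg
    rw [Subgroup.mem_centralizer_iff]
    rintro _ ⟨k, rfl⟩
    have hc : Commute g x := hg
    exact ((hc.zpow_right k).eq).symm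

theorem isCoatom_cj {M : Subgroup G} (hM : IsCoatom M) (g : G) : IsCoatom (cj g M) := by
  have h := (OrderIso.isCoatom_iff (MulEquiv.mapSubgroup (MulAut.conj g)) M).mpr hM
  exact h

/-- a maximal subgroup of a minimal simple group is self-normalizing -/
theorem normalizer_coatom (hG : Cfsg.IsMinSimpleOddOrder G) {M : Subgroup G} (hM : IsCoatom M)
    (hM1 : M ≠ ⊥) : Subgroup.normalizer (M : Set G) = M := by
  have h1 : Subgroup.normalizer (M : Set G) ≠ ⊤ := normalizer_ne_top' hG hM1 hM.1
  rcases eq_or_lt_of_le (Subgroup.le_normalizer (H := M)) with h | h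
  · exact h.symm
  · exact absurd (hM.2 _ h) h1

/-- **Lemma 10.4** (the statement of S1407, without the superfluous hypothesis `M_α ≠ 1`) -/
theorem s1407 (hU : UniqThm G) (hG : Cfsg.IsMinSimpleOddOrder G)
    (M : Subgroup G) (hM : IsCoatom M) (p : ℕ) [hpf : Fact p.Prime] (hpM : p ∣ Nat.card M)
    (hp : p ∉ Cfsg.sigma M) (P : Sylow p M) :
    ∃ x : G, x ∈ ((Subgroup.center ↥(P : Subgroup M)).map (P : Subgroup M).subtype).map M.subtype ∧
      orderOf x = p ∧
      IsZGroup ↥(Cfsg.alphaCore M ⊓ Subgroup.centralizer ({x} : Set G)) ∧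
      ¬ (Subgroup.centralizer ({x} : Set G) ≤ M ∧ ∀ L : Subgroup G, IsCoatom L →
        Subgroup.centralizer ({x} : Set G) ≤ L → L = M) := by
  classical
  have hpp : p.Prime := hpf.out
  by_contra hcon
  push Not at hcon
  obtain ⟨Zc, hZc⟩ : ∃ Zc : Subgroup G, Zc =
      ((Subgroup.center ↥(P : Subgroup M)).map (P : Subgroup M).subtype).map M.subtype := ⟨_, rfl⟩
  obtain ⟨Pg, hPg⟩ : ∃ Pg : Subgroup G, Pg = (P : Subgroup M).map M.subtype := ⟨_, rfl⟩
  rw [← hZc] at hcon
  have hPgM : Pg ≤ M := by rw [hPg]; exact Subgroup.map_subtype_le _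
  -- elementwise description of `Zc`
  have hZmem : ∀ z : G, z ∈ Zc ↔ z ∈ Pg ∧ ∀ g ∈ Pg, g * z = z * g := by
    intro z
    rw [hZc, hPg]
    constructor
    · rintro ⟨_, ⟨c, hc, rfl⟩, rfl⟩
      refine ⟨⟨c.1, c.2, rfl⟩, ?_⟩
      rintro _ ⟨g, hg, rfl⟩
      have h1 := Subgroup.mem_center_iff.mp hc ⟨g, hg⟩
      have h2 : g * (c : ↥M) = (c : ↥M) * g := congrArg Subtype.val h1
      exact congrArg Subtype.val h2
    · rintro ⟨⟨z', hz', rfl⟩, hcomm⟩
      refine ⟨z', ⟨⟨z', hz'⟩, ?_, rfl⟩, rfl⟩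
      refine Subgroup.mem_center_iff.mpr ?_
      intro g
      apply Subtype.ext
      apply Subtype.ext
      exact hcomm _ ⟨g.1, g.2, rfl⟩
  have hZcM : Zc ≤ M := fun z hz => hPgM ((hZmem z).mp hz).1
  have hM1 : M ≠ ⊥ := by
    intro h
    rw [h, Subgroup.card_bot] at hpM
    exact hpp.one_lt.ne' (Nat.dvd_one.mp hpM)
  have hpα : p ∉ Cfsg.alpha M := fun h => hp (alpha_subset_sigma hG hU hM h)
  -- Claim 1
  have claim1 : ∀ x ∈ Zc, orderOf x = p →
      Subgroup.centralizer ({x} : Set G) ≤ M ∧ ∀ L : Subgroup G, IsCoatom L →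
        Subgroup.centralizer ({x} : Set G) ≤ L → L = M := by
    intro x hx hox
    by_cases hz : IsZGroup ↥(Cfsg.alphaCore M ⊓ Subgroup.centralizer ({x} : Set G))
    · exact hcon x hx hox hz
    · obtain ⟨K, hK⟩ : ∃ K : Subgroup G,
          K = Cfsg.alphaCore M ⊓ Subgroup.centralizer ({x} : Set G) := ⟨_, rfl⟩
      rw [← hK] at hz
      rw [isZGroup_iff] at hz
      push Not at hz
      obtain ⟨q, hq, Q, hQ⟩ := hz
      have hqf : Fact q.Prime := ⟨hq⟩
      have hx1 : x ≠ 1 := by
        intro h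
        rw [h, orderOf_one] at hox
        exact hpp.one_lt.ne hox
      obtain ⟨X, hX⟩ : ∃ X : Subgroup G, X = Subgroup.zpowers x := ⟨_, rfl⟩
      have hCX : Subgroup.centralizer ((X : Subgroup G) : Set G) =
          Subgroup.centralizer ({x} : Set G) := by rw [hX]; exact centralizer_zpowers_eq x
      have hXM : X ≤ M := by
        rw [hX, Subgroup.zpowers_le]
        exact hZcM hx
      have hXcard : Nat.card ↥X = p := by rw [hX, Nat.card_zpowers, hox]
      have hXα : ∀ r : ℕ, r.Prime → r ∣ Nat.card ↥X → r ∉ Cfsg.alpha M := by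
        intro r hr hdvd
        rw [hXcard] at hdvd
        have : r = p := (Nat.prime_dvd_prime_iff_eq hr hpp).mp hdvd
        rw [this]
        exact hpα
      have hrk : ¬ Cfsg.RankLE 1 ↥K := by
        have hq2 : q ≠ 2 := by
          intro h2
          have hodd := odd_card_subgroup hG ((Q : Subgroup ↥K).map K.subtype)
          have hnt : (Q : Subgroup ↥K) ≠ ⊥ := by
            intro hb
            apply hQ
            rw [hb]
            infer_instance
          have hdvd : q ∣ Nat.card ↥((Q : Subgroup ↥K).map K.subtype) := by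
            rw [Subgroup.card_map_of_injective (Subgroup.subtype_injective _)]
            obtain ⟨n, hn⟩ := IsPGroup.iff_card.mp Q.2
            rw [hn]
            apply dvd_pow_self
            intro h0
            rw [h0, pow_zero] at hn
            exact hnt ((Subgroup.card_eq_one).mp hn)
          subst h2
          exact (Nat.not_even_iff_odd.mpr hodd) (even_iff_two_dvd.mpr hdvd)
        have hQ' : IsPGroup q ↥((Q : Subgroup ↥K).map K.subtype) := Q.2.map _
        have hnc : ¬ IsCyclic ↥((Q : Subgroup ↥K).map K.subtype) := by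
          intro hc
          apply hQ
          have e : ↥(Q : Subgroup ↥K) ≃* ↥((Q : Subgroup ↥K).map K.subtype) :=
            (Q : Subgroup ↥K).equivMapOfInjective K.subtype (Subgroup.subtype_injective _)
          exact isCyclic_of_surjective e.symm.toMonoidHom e.symm.surjective
        have h1 := Cfsg.Agent.Lib.Helper4.BGUniq.not_rankLE_one_of_not_isCyclic hq2 hQ' hnc
        intro h
        apply h1
        intro r hr
        exact Cfsg.Agent.Lib.Helper4.Rank2Fit.pRankLE_of_le (Subgroup.map_subtype_le _) (h r hr)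
      have hrk' : ¬ Cfsg.RankLE 1
          ↥(Cfsg.alphaCore M ⊓ Subgroup.centralizer ((X : Subgroup G) : Set G)) := by
        rw [hCX, ← hK]
        exact hrk
      have hu := s1406 hU hG M hM X hXM hXα hrk'
      rw [hCX] at hu
      have hCne : Subgroup.centralizer ({x} : Set G) ≠ ⊤ :=
        Cfsg.Agent.Lib.Helper4.BGUniq.centralizer_singleton_ne_top hG hx1
      refine ⟨le_of_inUniqueMaximal hM inf_le_left hu hCne inf_le_right, ?_⟩
      intro L hL hCL
      obtain ⟨L0, ⟨hL0, h0⟩, huniq⟩ := hu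
      have e1 := huniq M ⟨hM, inf_le_left⟩
      have e2 := huniq L ⟨hL, inf_le_right.trans hCL⟩
      rw [e1, e2]
  -- `Zc` has an element of order `p`
  have hPnt : Nontrivial ↥(P : Subgroup ↥M) := by
    have hcard := P.card_eq_multiplicity
    have hpos : 0 < (Nat.card ↥M).factorization p :=
      Nat.Prime.factorization_pos_of_dvd hpp Nat.card_pos.ne' hpM
    rw [← Finite.one_lt_card_iff_nontrivial, hcard]
    exact Nat.one_lt_pow hpos.ne' hpp.one_lt
  have hcn : Nontrivial ↥(Subgroup.center ↥(P : Subgroup ↥M)) := P.2.center_nontrivial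
  have hpc : p ∣ Nat.card ↥(Subgroup.center ↥(P : Subgroup ↥M)) := by
    have hpg : IsPGroup p ↥(Subgroup.center ↥(P : Subgroup ↥M)) := P.2.to_subgroup _
    obtain ⟨n, hn⟩ := IsPGroup.iff_card.mp hpg
    rw [hn]
    apply dvd_pow_self
    intro h0
    rw [h0, pow_zero] at hn
    have := Finite.one_lt_card_iff_nontrivial.mpr hcn
    omega
  obtain ⟨c, hc⟩ := exists_prime_orderOf_dvd_card' p hpc
  obtain ⟨x, hxdef⟩ : ∃ x : G, x = ((c : ↥(P : Subgroup ↥M)) : ↥M) := ⟨_, rfl⟩
  have hxZ : x ∈ Zc := by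
    rw [hZc, hxdef]
    exact ⟨_, ⟨c, c.2, rfl⟩, rfl⟩
  have hox : orderOf x = p := by
    rw [hxdef, Subgroup.orderOf_coe, Subgroup.orderOf_coe, Subgroup.orderOf_coe, hc]
  -- Claim 2
  have claim2 : Subgroup.normalizer ((Pg : Subgroup G) : Set G) ≤ M := by
    intro n hn
    have hnP : ∀ g : G, g ∈ Pg ↔ n * g * n⁻¹ ∈ Pg := fun g =>
      Subgroup.mem_normalizer_iff.mp hn g
    have hyZ : n * x * n⁻¹ ∈ Zc := by
      rw [hZmem]
      obtain ⟨hxP, hxc⟩ := (hZmem x).mp hxZ
      refine ⟨(hnP x).mp hxP, ?_⟩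
      intro g hg
      have hg' : n⁻¹ * g * n ∈ Pg := by
        rw [hnP]
        have e : n * (n⁻¹ * g * n) * n⁻¹ = g := by group
        rw [e]
        exact hg
      have h1 := hxc _ hg'
      calc g * (n * x * n⁻¹) = n * ((n⁻¹ * g * n) * x) * n⁻¹ := by group
        _ = n * (x * (n⁻¹ * g * n)) * n⁻¹ := by rw [h1]
        _ = n * x * n⁻¹ * g := by group
    have hoy : orderOf (n * x * n⁻¹) = p := by
      have := MulEquiv.orderOf_eq (MulAut.conj n) x
      rw [MulAut.conj_apply] at this
      rw [this, hox]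
    obtain ⟨hy1, hy2⟩ := claim1 _ hyZ hoy
    obtain ⟨hx1, hx2⟩ := claim1 x hxZ hox
    have hcent : Subgroup.centralizer ({n * x * n⁻¹} : Set G) ≤ cj n M := by
      intro g hg
      rw [mem_cj]
      apply hx1
      rw [Subgroup.mem_centralizer_singleton_iff] at hg ⊢
      calc n⁻¹ * g * n * x = n⁻¹ * (g * (n * x * n⁻¹)) * n := by group
        _ = n⁻¹ * ((n * x * n⁻¹) * g) * n := by rw [hg]
        _ = x * (n⁻¹ * g * n) := by group
    have hcjM : cj n M = M := hy2 _ (isCoatom_cj hM n) hcent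
    have hnN : n ∈ Subgroup.normalizer ((M : Subgroup G) : Set G) := mem_normalizer_of_cj_eq hcjM
    rw [normalizer_coatom hG hM hM1] at hnN
    exact hnN
  apply hp
  refine ⟨hpp, hpM, P, ?_⟩
  rw [← hPg]
  exact claim2

end Cfsg.Agent.Lib.Helper8.BGTen
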