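import Mathlib
import Cfsg.Agent.Lib.Helper8.BGTenK
import Cfsg.Agent.Lib.Lead.PSolvable
import Cfsg.Agent.H1.PLength
import Cfsg.Agent.H1.Hall
import Cfsg.Agent.S1450
import Cfsg.Agent.S1459

/-!
# Bender–Glauberman Section 10, part L: Theorem 10.6 (`p`-length one; the statement of S1410),
conditional on the Uniqueness Theorem (S1403) and on B&G Theorem 3.6 (S1444)
-/

set_option autoImplicit false
set_option linter.unusedVariables false
set_option linter.unusedSectionVars false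
set_option maxHeartbeats 1000000

namespace Cfsg.Agent.Lib.Helper8.BGTen

open Cfsg Cfsg.Agent.Lib.Helper7 Cfsg.Agent.Lib.Lead.Conj Cfsg.Agent.Lib.Lead.PiCore
open Cfsg.Agent.H1 Cfsg.Agent.Lib.Lead.PSolvable
open scoped Pointwise

universe u

/-- the statement of B&G Theorem 3.6 (S1444), in universe `u` -/
def Thm36 : Prop :=
  ∀ (K : Type u) [Group K] [Finite K] [Group.IsSolvable K], Odd (Nat.card K) →
    ∀ (H R R₀ : Subgroup K) [H.Normal], (Nat.card H).Coprime H.index →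
      Subgroup.IsComplement' H R → R₀ ≤ R → (Nat.card R₀).Prime →
      IsZGroup ↥(H ⊓ Subgroup.centralizer (R₀ : Set K)) →
      ∀ (p : ℕ) [Fact p.Prime], Cfsg.PLengthLE p 1 ↥⁅H, R⁆

section general

variable {K : Type u} [Group K] [Finite K]

/-- if `|K : O_{p',p}(K)|` is prime to `p` then `K` has `p`-length at most one -/
theorem plength_one_of_index_coprime (p : ℕ) [hp : Fact p.Prime]
    (h : ((pPrimePCore p K).index).Coprime p) : Cfsg.PLengthLE p 1 K := by
  obtain ⟨N, hN⟩ : ∃ N : Subgroup K, N = pPrimePCore p K := ⟨_, rfl⟩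
  have hNn : N.Normal := by rw [hN]; infer_instance
  rw [← hN] at h
  have hb : Cfsg.PLengthLE p 0 (K ⧸ N) := by
    apply plength_zero_of_coprime
    rw [← Subgroup.index_eq_card]
    exact h
  have hle : pPrimeCore p K ≤ N := by rw [hN]; exact pPrimeCore_le_pPrimePCore
  obtain ⟨N', hN'⟩ : ∃ N' : Subgroup ↥N, N' = (pPrimeCore p K).subgroupOf N := ⟨_, rfl⟩
  have hN'n : N'.Normal := by rw [hN']; infer_instance
  have ha0 : Cfsg.PLengthLE p 0 ↥N' := by
    apply plength_zero_of_coprime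
    rw [hN', Cfsg.Agent.Lib.Helper7.card_subgroupOf_of_le hle]
    exact pPrimeCore_coprime p
  have ha1 : Cfsg.PLengthLE p 1 (↥N ⧸ N') := by
    apply plength_one_of_isPGroup
    intro y
    obtain ⟨x, rfl⟩ := QuotientGroup.mk_surjective y
    have hx : (x : K) ∈ pPrimePCore p K := by rw [← hN]; exact x.2
    unfold pPrimePCore at hx
    rw [Subgroup.mem_comap] at hx
    obtain ⟨a, ha⟩ := (Cfsg.Agent.H1.pCore_isPGroup (G := K ⧸ pPrimeCore p K) p) ⟨_, hx⟩
    refine ⟨a, ?_⟩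
    have h2 := congrArg Subtype.val ha
    rw [Subgroup.coe_pow, Subgroup.coe_one, ← map_pow] at h2
    have h3 : (x : K) ^ p ^ a ∈ pPrimeCore p K := (QuotientGroup.eq_one_iff _).mp h2
    rw [← QuotientGroup.mk_pow, QuotientGroup.eq_one_iff, hN', Subgroup.mem_subgroupOf]
    exact h3
  have ha : Cfsg.PLengthLE p 1 ↥N := by
    have := plength_extension N' ha0 ha1
    simpa using this
  have := plength_extension N ha hb
  simpa using this

/-- a normal subgroup whose order is prime to `|K : K'|` lies in `K'` -/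
theorem le_commutator_of_coprime (N : Subgroup K)
    (h : (Nat.card ↥N).Coprime (_root_.commutator K).index) : N ≤ _root_.commutator K := by
  intro x hx
  have h1 : (QuotientGroup.mk' (_root_.commutator K) x) ^ Nat.card ↥N = 1 := by
    rw [← map_pow]
    have : x ^ Nat.card ↥N = 1 := by
      have h' : (⟨x, hx⟩ : ↥N) ^ Nat.card ↥N = 1 := pow_card_eq_one'
      exact congrArg Subtype.val h'
    rw [this, map_one]
  have h2 : (QuotientGroup.mk' (_root_.commutator K) x) ^ (_root_.commutator K).index = 1 := by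
    rw [Subgroup.index_eq_card]
    exact pow_card_eq_one'
  have h3 := pow_gcd_eq_one.mpr ⟨h1, h2⟩
  rw [h, pow_one] at h3
  exact (QuotientGroup.eq_one_iff x).mp h3

end general

variable {G : Type u} [Group G] [Finite G]

/-- for `π ⊆ σ(M)`, `O_π(M) ≤ M'` -/
theorem piCore_le_commutator (hG : Cfsg.IsMinSimpleOddOrder G) (hU : UniqThm G)
    {M : Subgroup G} (hM : IsCoatom M) (π : Set ℕ) (h2 : ∀ q, q ∈ π → q ∈ Cfsg.sigma M) :
    piCore π ↥M ≤ _root_.commutator ↥M := by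
  apply le_commutator_of_coprime
  apply Nat.coprime_of_dvd
  intro q hq hqN hqi
  have hqf : Fact q.Prime := ⟨hq⟩
  have hqσ : q ∈ Cfsg.sigma M := h2 q (piCore_isPiNat π q hq hqN)
  obtain ⟨S⟩ : Nonempty (Sylow q ↥M) := inferInstance
  have hS := sylow_le_commutator_sub hG hU hM hqσ S
  exact S.not_dvd_index (hqi.trans (Subgroup.index_dvd_of_le hS))

/-- **Theorem 10.6** (the statement of S1410) -/
theorem s1410 (hU : UniqThm G) (h36 : Thm36.{u}) (hG : Cfsg.IsMinSimpleOddOrder G)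
    (p : ℕ) [hpf : Fact p.Prime] (H : Subgroup G) (hH : H ≠ ⊤) : Cfsg.PLengthLE p 1 ↥H := by
  classical
  have hpp : p.Prime := hpf.out
  obtain ⟨M, hM, hHM⟩ := exists_coatom_ge hH
  suffices hMp : Cfsg.PLengthLE p 1 ↥M by
    have h1 := plength_subgroup (H.subgroupOf M) hMp
    exact plength_of_mulEquiv (Subgroup.subgroupOfEquivOfLe hHM) h1
  have hsolv : Group.IsSolvable ↥M := hG.2.2.2 M hM.1
  have hodd : Odd (Nat.card ↥M) := odd_card_subgroup hG M
  by_cases hpM : p ∣ Nat.card ↥M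
  swap
  · have h0 : Cfsg.PLengthLE p 0 ↥M := by
      apply plength_zero_of_coprime
      exact (Nat.Coprime.symm ((Nat.Prime.coprime_iff_not_dvd hpp).mpr hpM))
    exact plength_mono (by norm_num) h0
  by_cases hr : Cfsg.PRankLE p 2 ↥M
  · obtain ⟨-, -, -, -, -, h6⟩ := Cfsg.Agent.S1450.result hodd p hpM hr
    exact plength_one_of_index_coprime p h6
  -- now `p ∈ α(M)`
  have hpα : p ∈ Cfsg.alpha M := ⟨hpp, hr⟩
  have hM1 : M ≠ ⊥ := by
    intro h
    rw [h, Subgroup.card_bot] at hpM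
    exact hpp.one_lt.ne' (Nat.dvd_one.mp hpM)
  have hMnt : Nontrivial ↥M := (Subgroup.nontrivial_iff_ne_bot M).mpr hM1
  obtain ⟨Hα, hHα⟩ : ∃ Hα : Subgroup ↥M, Hα = piCore (Cfsg.alpha M) ↥M := ⟨_, rfl⟩
  have hHαn : Hα.Normal := by rw [hHα]; infer_instance
  have hασ : ∀ q, q ∈ Cfsg.alpha M → q ∈ Cfsg.sigma M := fun q h => alpha_subset_sigma hG hU hM h
  obtain ⟨hallα, -, -, -⟩ := hall_of_between hG hU hM (Cfsg.alpha M) (fun q h => h) hασ
  obtain ⟨hallσ, -, -, -⟩ := hall_of_between hG hU hM (Cfsg.sigma M) hασ (fun q h => h)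
  rw [← hHα] at hallα
  have hHαidx : ∀ q : ℕ, q.Prime → q ∈ Cfsg.alpha M → ¬ q ∣ Hα.index := by
    intro q hq hqα
    have := hallα.2.2 q hq hqα
    rwa [relIndex_map_subtype_self] at this
  have hHαπ : ∀ q : ℕ, q.Prime → q ∣ Nat.card ↥Hα → q ∈ Cfsg.alpha M := by
    intro q hq hdvd
    rw [hHα] at hdvd
    exact piCore_isPiNat (Cfsg.alpha M) q hq hdvd
  have hHall : (Nat.card ↥Hα).Coprime Hα.index := by
    apply Nat.coprime_of_dvd
    intro q hq h1 h2
    exact hHαidx q hq (hHαπ q hq h1) h2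
  have hHαcomm : Hα ≤ _root_.commutator ↥M := by
    rw [hHα]
    exact piCore_le_commutator hG hU hM (Cfsg.alpha M) hασ
  -- a prime `q ∈ π(M) ∖ σ(M)`
  obtain ⟨Hσ, hHσ⟩ : ∃ Hσ : Subgroup ↥M, Hσ = piCore (Cfsg.sigma M) ↥M := ⟨_, rfl⟩
  have hHσcomm : Hσ ≤ _root_.commutator ↥M := by
    rw [hHσ]
    exact piCore_le_commutator hG hU hM (Cfsg.sigma M) (fun q h => h)
  have hHσidx : Hσ.index ≠ 1 := by
    intro h1
    have htop : Hσ = ⊤ := Subgroup.index_eq_one.mp h1
    have hlt : _root_.commutator ↥M < ⊤ := Group.IsSolvable.commutator_lt_top_of_nontrivial ↥M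
    rw [htop] at hHσcomm
    exact (lt_irrefl _ (lt_of_lt_of_le hlt hHσcomm))
  obtain ⟨q, hq, hqidx⟩ := Nat.exists_prime_and_dvd hHσidx
  have hqf : Fact q.Prime := ⟨hq⟩
  have hqσ : q ∉ Cfsg.sigma M := by
    intro hqs
    have := hallσ.2.2 q hq hqs
    rw [← hHσ, relIndex_map_subtype_self] at this
    exact this hqidx
  have hqM : q ∣ Nat.card ↥M := hqidx.trans (Subgroup.index_dvd_card Hσ)
  obtain ⟨Q⟩ : Nonempty (Sylow q ↥M) := inferInstance
  obtain ⟨x, hxZ, hox, hZx, -⟩ := s1407 hU hG M hM q hqM hqσ Q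
  have hxM : x ∈ M := by
    obtain ⟨y, -, rfl⟩ := hxZ
    exact y.2
  obtain ⟨R₀, hR₀⟩ : ∃ R₀ : Subgroup ↥M, R₀ = Subgroup.zpowers (⟨x, hxM⟩ : ↥M) := ⟨_, rfl⟩
  have hR₀card : Nat.card ↥R₀ = q := by
    rw [hR₀, Nat.card_zpowers, ← hox]
    exact (Subgroup.orderOf_mk x hxM)
  -- a complement containing `R₀`
  have hqα : q ∉ Cfsg.alpha M := fun h => hqσ (hασ q h)
  have hcard : Nat.card ↥M = Hα.index * Nat.card ↥Hα := by
    rw [mul_comm]
    exact (Subgroup.card_mul_index Hα).symm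
  obtain ⟨H₀, hH₀⟩ := hall_exists (G := ↥M) Hα.index (Nat.card ↥Hα) hcard hHall.symm
  have hR₀cop : (Nat.card ↥R₀).Coprime (Nat.card ↥Hα) := by
    rw [hR₀card, Nat.Prime.coprime_iff_not_dvd hq]
    intro hdvd
    exact hqα (hHαπ q hq hdvd)
  obtain ⟨g, hg⟩ := hall_dominance (G := ↥M) Hα.index (Nat.card ↥Hα) hcard hHall.symm H₀ R₀ hH₀
    hR₀cop
  obtain ⟨R, hR⟩ : ∃ R : Subgroup ↥M, R = MulAut.conj g • H₀ := ⟨_, rfl⟩
  rw [← hR] at hg
  have hRcard : Nat.card ↥R = Hα.index := by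
    rw [hR, Cfsg.Agent.H1.card_conj_smul, hH₀]
  have hcompl : Subgroup.IsComplement' Hα R := by
    apply Subgroup.isComplement'_of_coprime
    · rw [hRcard]
      exact Subgroup.card_mul_index Hα
    · rw [hRcard]
      exact hHall
  have hR₀p : (Nat.card ↥R₀).Prime := by rw [hR₀card]; exact hq
  -- the Z-group hypothesis
  have hZ : IsZGroup ↥(Hα ⊓ Subgroup.centralizer (R₀ : Set ↥M)) := by
    have hmem : ∀ y : ↥(Hα ⊓ Subgroup.centralizer (R₀ : Set ↥M)),
        (((y : ↥M) : G)) ∈ Cfsg.alphaCore M ⊓ Subgroup.centralizer ({x} : Set G) := by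
      intro y
      obtain ⟨hy1, hy2⟩ := Subgroup.mem_inf.mp y.2
      refine Subgroup.mem_inf.mpr ⟨?_, ?_⟩
      · unfold Cfsg.alphaCore
        rw [← hHα]
        exact ⟨_, hy1, rfl⟩
      · rw [Subgroup.mem_centralizer_singleton_iff]
        have h1 := Subgroup.mem_centralizer_iff.mp hy2 ⟨x, hxM⟩ (by
          rw [hR₀]
          exact Subgroup.mem_zpowers _)
        have h2 := congrArg Subtype.val h1
        exact h2.symm
    have hZx' := hZx
    exact IsZGroup.of_injective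
      (f := (M.subtype.comp (Hα ⊓ Subgroup.centralizer (R₀ : Set ↥M)).subtype).codRestrict
        (Cfsg.alphaCore M ⊓ Subgroup.centralizer ({x} : Set G)) hmem)
      (by
        intro a b hab
        have h1 := congrArg Subtype.val hab
        exact Subtype.ext (Subtype.ext h1))
  have hpl := h36 ↥M hodd Hα R R₀ hHall hcompl hg hR₀p hZ p
  have hcommeq := ((Cfsg.Agent.S1459.result (G := ↥M)).1 Hα R hHαn hHall hcompl hHαcomm).1
  have ha : Cfsg.PLengthLE p 1 ↥Hα :=
    plength_of_mulEquiv (MulEquiv.subgroupCongr hcommeq.symm) hpl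
  have hb : Cfsg.PLengthLE p 0 (↥M ⧸ Hα) := by
    apply plength_zero_of_coprime
    rw [← Subgroup.index_eq_card]
    exact (Nat.Coprime.symm ((Nat.Prime.coprime_iff_not_dvd hpp).mpr (hHαidx p hpp hpα)))
  have := plength_extension Hα ha hb
  simpa using this

end Cfsg.Agent.Lib.Helper8.BGTen
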