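import Mathlib
import Cfsg.Agent.H1.PLength

/-!
# `p`-length of subdirect products

If `N₁ ⊓ N₂ = ⊥` and both `G ⧸ N₁`, `G ⧸ N₂` have `p`-length at most `k`, then so has `G`.
-/

set_option autoImplicit false
set_option linter.unusedVariables false
set_option linter.unusedSectionVars false

namespace Cfsg.Agent.Lib.Helper8.PLenSub

open Cfsg Cfsg.Agent.H1

variable {G : Type*} [Group G] [Finite G]

theorem plength_of_inf_eq_bot {p : ℕ} [hp : Fact p.Prime] (N₁ N₂ : Subgroup G) [h1n : N₁.Normal]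
    [h2n : N₂.Normal] (h : N₁ ⊓ N₂ = ⊥) {k : ℕ} (h₁ : Cfsg.PLengthLE p k (G ⧸ N₁))
    (h₂ : Cfsg.PLengthLE p k (G ⧸ N₂)) : Cfsg.PLengthLE p k G := by
  unfold Cfsg.PLengthLE at h₁ h₂ ⊢
  obtain ⟨C, hC⟩ : ∃ C : ℕ → Subgroup G, C = fun j =>
      (upperPSeries p (G ⧸ N₁) j).1.comap (QuotientGroup.mk' N₁) ⊓
        (upperPSeries p (G ⧸ N₂) j).1.comap (QuotientGroup.mk' N₂) := ⟨_, rfl⟩
  have hCj : ∀ j, C j = (upperPSeries p (G ⧸ N₁) j).1.comap (QuotientGroup.mk' N₁) ⊓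
        (upperPSeries p (G ⧸ N₂) j).1.comap (QuotientGroup.mk' N₂) := by
    intro j; rw [hC]
  have h0 : C 0 ≤ (upperPSeries p G 0).1 := by
    rw [hCj, ups_zero, ups_zero, ups_zero]
    intro x hx
    obtain ⟨hx1, hx2⟩ := Subgroup.mem_inf.mp hx
    rw [Subgroup.mem_comap, Subgroup.mem_bot] at hx1 hx2
    have hx1' : x ∈ N₁ := (QuotientGroup.eq_one_iff x).mp hx1
    have hx2' : x ∈ N₂ := (QuotientGroup.eq_one_iff x).mp hx2
    rw [← h]
    exact Subgroup.mem_inf.mpr ⟨hx1', hx2'⟩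
  have hn : ∀ j, (C (j + 1)).Normal := by
    intro j
    rw [hCj]
    have a1 : ((upperPSeries p (G ⧸ N₁) (j + 1)).1.comap (QuotientGroup.mk' N₁)).Normal :=
      Subgroup.Normal.comap inferInstance _
    have a2 : ((upperPSeries p (G ⧸ N₂) (j + 1)).1.comap (QuotientGroup.mk' N₂)).Normal :=
      Subgroup.Normal.comap inferInstance _
    infer_instance
  have hs : ∀ j, StepFactor p (0 + j) (C j) (C (j + 1)) := by
    intro j
    rw [zero_add, hCj, hCj]
    have s1 := (ups_stepFactor (G := G ⧸ N₁) p j).comap (QuotientGroup.mk' N₁)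
    have s2 := (ups_stepFactor (G := G ⧸ N₂) p j).comap (QuotientGroup.mk' N₂)
    constructor
    · intro hj x hx
      obtain ⟨hx1, hx2⟩ := Subgroup.mem_inf.mp hx
      obtain ⟨m1, hm1, hxm1⟩ := s1.1 hj x hx1
      obtain ⟨m2, hm2, hxm2⟩ := s2.1 hj x hx2
      refine ⟨m1 * m2, Nat.Coprime.mul_left hm1 hm2, Subgroup.mem_inf.mpr ⟨?_, ?_⟩⟩
      · rw [pow_mul]
        exact Subgroup.pow_mem _ hxm1 m2
      · rw [mul_comm, pow_mul]
        exact Subgroup.pow_mem _ hxm2 m1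
    · intro hj x hx
      obtain ⟨hx1, hx2⟩ := Subgroup.mem_inf.mp hx
      obtain ⟨a1, hxa1⟩ := s1.2 hj x hx1
      obtain ⟨a2, hxa2⟩ := s2.2 hj x hx2
      refine ⟨a1 + a2, Subgroup.mem_inf.mpr ⟨?_, ?_⟩⟩
      · rw [pow_add, pow_mul]
        exact Subgroup.pow_mem _ hxa1 _
      · rw [add_comm, pow_add, pow_mul]
        exact Subgroup.pow_mem _ hxa2 _
  have key := chain_le_ups (G := G) (p := p) 0 C h0 hn hs (2 * k + 1)
  rw [zero_add, hCj, h₁, h₂, Subgroup.comap_top, Subgroup.comap_top, top_inf_eq] at key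
  exact top_le_iff.mp key

end Cfsg.Agent.Lib.Helper8.PLenSub
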