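import Mathlib
import Cfsg.Agent.H1.PLength
import Cfsg.Agent.S0022
import Cfsg.Agent.S0027
import Cfsg.Agent.Lib.Helper8.PLenSub

/-!
# Bender–Glauberman Theorem 3.6 (S1444): transport of the hypotheses to quotients

`Cfg H R R₀` packages the hypotheses of Theorem 3.6 (besides `G` solvable of odd order).
-/

set_option autoImplicit false
set_option linter.unusedVariables false
set_option linter.unusedSectionVars false

namespace Cfsg.Agent.Lib.Helper8.BGZ

open Cfsg Cfsg.Agent.H1

universe u

/-- the hypotheses of B&G Theorem 3.6 on `H, R, R₀` -/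
structure Cfg {G : Type u} [Group G] (H R R₀ : Subgroup G) : Prop where
  normal : H.Normal
  hall : (Nat.card H).Coprime H.index
  compl : Subgroup.IsComplement' H R
  le : R₀ ≤ R
  prime : (Nat.card R₀).Prime
  zgroup : IsZGroup ↥(H ⊓ Subgroup.centralizer (R₀ : Set G))

variable {G : Type u} [Group G] [Finite G]

theorem Cfg.card_R {H R R₀ : Subgroup G} (c : Cfg H R R₀) : Nat.card ↥R = H.index := by
  have h1 := c.compl.card_mul_card
  have h2 := H.card_mul_index
  have hpos : 0 < Nat.card ↥H := Nat.card_pos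
  exact Nat.eq_of_mul_eq_mul_left hpos (h1.trans h2.symm)

theorem Cfg.coprime {H R R₀ : Subgroup G} (c : Cfg H R R₀) :
    (Nat.card ↥H).Coprime (Nat.card ↥R) := by
  rw [c.card_R]
  exact c.hall

theorem Cfg.disjoint {H R R₀ : Subgroup G} (c : Cfg H R R₀) : H ⊓ R = ⊥ :=
  c.compl.disjoint.eq_bot

theorem Cfg.le_normalizer {H R R₀ : Subgroup G} (c : Cfg H R R₀) (X : Subgroup G) :
    X ≤ Subgroup.normalizer ((H : Subgroup G) : Set G) := by
  have hn := c.normal
  rw [Subgroup.normalizer_eq_top]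
  exact le_top

/-- the cardinality of the image of a subgroup meeting the kernel trivially -/
theorem card_map_of_inf_eq_bot {G' : Type*} [Group G'] (f : G →* G') (X : Subgroup G)
    (h : X ⊓ f.ker = ⊥) : Nat.card ↥(X.map f) = Nat.card ↥X := by
  have hinj : Function.Injective (f.comp X.subtype) := by
    rw [← MonoidHom.ker_eq_bot_iff, eq_bot_iff]
    intro x hx
    rw [MonoidHom.mem_ker, MonoidHom.comp_apply] at hx
    have : (x : G) ∈ X ⊓ f.ker := Subgroup.mem_inf.mpr ⟨x.2, hx⟩
    rw [h, Subgroup.mem_bot] at this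
    exact Subgroup.mem_bot.mpr (Subtype.ext this)
  have hr : (f.comp X.subtype).range = X.map f := by
    rw [MonoidHom.range_comp, Subgroup.range_subtype]
  rw [← hr]
  exact (Nat.card_congr (MonoidHom.ofInjective hinj).toEquiv).symm

/-- the hypotheses pass to the quotient by a normal subgroup of `G` contained in `H` -/
theorem Cfg.quotient [Group.IsSolvable G] {H R R₀ : Subgroup G} (c : Cfg H R R₀)
    (N : Subgroup G) [hN : N.Normal] (hNH : N ≤ H) :
    Cfg (H.map (QuotientGroup.mk' N)) (R.map (QuotientGroup.mk' N))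
      (R₀.map (QuotientGroup.mk' N)) := by
  have hsurj : Function.Surjective (QuotientGroup.mk' N) := QuotientGroup.mk'_surjective N
  have hker : (QuotientGroup.mk' N).ker = N := QuotientGroup.ker_mk' N
  have hidx : (H.map (QuotientGroup.mk' N)).index = H.index :=
    Subgroup.index_map_eq H hsurj (by rw [hker]; exact hNH)
  have hRN : R ⊓ (QuotientGroup.mk' N).ker = ⊥ := by
    rw [hker, eq_bot_iff, ← c.disjoint]
    exact le_inf (inf_le_right.trans hNH) inf_le_left
  have hR₀N : R₀ ⊓ (QuotientGroup.mk' N).ker = ⊥ := by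
    rw [eq_bot_iff, ← hRN]
    exact inf_le_inf_right _ c.le
  have hcardR : Nat.card ↥(R.map (QuotientGroup.mk' N)) = Nat.card ↥R :=
    card_map_of_inf_eq_bot _ R hRN
  have hcardR₀ : Nat.card ↥(R₀.map (QuotientGroup.mk' N)) = Nat.card ↥R₀ :=
    card_map_of_inf_eq_bot _ R₀ hR₀N
  have hHn : (H.map (QuotientGroup.mk' N)).Normal := Subgroup.Normal.map c.normal _ hsurj
  have hcop : (Nat.card ↥(H.map (QuotientGroup.mk' N))).Coprime
      (H.map (QuotientGroup.mk' N)).index := by
    rw [hidx]
    exact Nat.Coprime.coprime_dvd_left (Subgroup.card_map_dvd H _) c.hall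
  refine ⟨hHn, hcop, ?_, Subgroup.map_mono c.le, by rw [hcardR₀]; exact c.prime, ?_⟩
  · apply Subgroup.isComplement'_of_coprime
    · rw [hcardR, c.card_R, ← hidx]
      exact Subgroup.card_mul_index _
    · rw [hcardR, c.card_R, ← hidx]
      exact hcop
  · -- the Z-group hypothesis
    have hz := c.zgroup
    have hmem : ∀ y : ↥(H ⊓ Subgroup.centralizer (R₀ : Set G)),
        QuotientGroup.mk' N (y : G) ∈ H.map (QuotientGroup.mk' N) ⊓
          Subgroup.centralizer ((R₀.map (QuotientGroup.mk' N) : Subgroup (G ⧸ N)) : Set (G ⧸ N)) := by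
      intro y
      obtain ⟨hy1, hy2⟩ := Subgroup.mem_inf.mp y.2
      refine Subgroup.mem_inf.mpr ⟨Subgroup.mem_map_of_mem _ hy1, ?_⟩
      rw [Subgroup.mem_centralizer_iff]
      rintro _ ⟨a, ha, rfl⟩
      have := Subgroup.mem_centralizer_iff.mp hy2 a ha
      rw [← map_mul, ← map_mul, this]
    apply IsZGroup.of_surjective
      (f := ((QuotientGroup.mk' N).comp
        (H ⊓ Subgroup.centralizer (R₀ : Set G)).subtype).codRestrict _ hmem)
    rintro ⟨ybar, hybar⟩
    obtain ⟨hyH, hyC⟩ := Subgroup.mem_inf.mp hybar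
    obtain ⟨k, hk, rfl⟩ := hyH
    -- lift a fixed point
    have hfix : ∀ a ∈ R₀, a * k * a⁻¹ * k⁻¹ ∈ N := by
      intro a ha
      have h1 := Subgroup.mem_centralizer_iff.mp hyC (QuotientGroup.mk' N a)
        (Subgroup.mem_map_of_mem _ ha)
      rw [← QuotientGroup.eq_one_iff]
      have h2 : ((a * k * a⁻¹ * k⁻¹ : G) : G ⧸ N) =
          (QuotientGroup.mk' N a) * (QuotientGroup.mk' N k) * (QuotientGroup.mk' N a)⁻¹ *
            (QuotientGroup.mk' N k)⁻¹ := by
        simp
      rw [h2, h1]
      group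
    have hR₀H : R₀ ≤ Subgroup.normalizer ((H : Subgroup G) : Set G) := c.le_normalizer R₀
    have hcopR₀ : (Nat.card ↥R₀).Coprime (Nat.card ↥H) :=
      Nat.Coprime.coprime_dvd_left (Subgroup.card_dvd_of_le c.le) c.coprime.symm
    have hsolvH : Group.IsSolvable ↥H := inferInstance
    have hNn : ∀ X : Subgroup G, X ≤ Subgroup.normalizer ((N : Subgroup G) : Set G) := by
      intro X
      rw [Subgroup.normalizer_eq_top]
      exact le_top
    obtain ⟨c', hc', hkc⟩ := Cfsg.Agent.S0022.result R₀ H hR₀H hcopR₀ (Or.inr hsolvH) N hNH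
      (hNn H) (hNn R₀) k hk hfix
    refine ⟨⟨c', hc'⟩, ?_⟩
    apply Subtype.ext
    show QuotientGroup.mk' N c' = QuotientGroup.mk' N k
    have : (QuotientGroup.mk' N (k⁻¹ * c')) = 1 := (QuotientGroup.eq_one_iff _).mpr hkc
    rw [map_mul, map_inv] at this
    exact (inv_mul_eq_one.mp this).symm

theorem map_commutator_mk (H R N : Subgroup G) [N.Normal] :
    ⁅H.map (QuotientGroup.mk' N), R.map (QuotientGroup.mk' N)⁆ =
      ⁅H, R⁆.map (QuotientGroup.mk' N) :=
  (Subgroup.map_commutator H R (QuotientGroup.mk' N)).symm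

end Cfsg.Agent.Lib.Helper8.BGZ
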