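import Mathlib
import Cfsg.Agent.Lib.Helper8.BGZRedA

/-!
# Bender–Glauberman Theorem 3.6 (S1444): reduction to `H = [H, R]` with all proper
`G`-quotients of `H` of `p`-length one
-/

set_option autoImplicit false
set_option linter.unusedVariables false
set_option linter.unusedSectionVars false
set_option maxHeartbeats 1000000

namespace Cfsg.Agent.Lib.Helper8.BGZ

open Cfsg Cfsg.Agent.H1
open scoped commutatorElement

universe u

variable {G : Type u} [Group G] [Finite G]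

/-- `[H, R]` is normal in `G = HR` -/
theorem commutator_normal_of_compl {H R R₀ : Subgroup G} (c : Cfg H R R₀) : (⁅H, R⁆).Normal := by
  have hn := c.normal
  have h1 : H ≤ Subgroup.normalizer ((⁅H, R⁆ : Subgroup G) : Set G) := by
    intro h hh
    rw [Subgroup.mem_normalizer_iff]
    intro x
    have hcj : ∀ y ∈ ⁅H, R⁆, ∀ g ∈ H, g * y * g⁻¹ ∈ ⁅H, R⁆ := by
      intro y hy g hg
      -- `⁅H, R⁆` is normal in `H ⊔ R`; do it by closure induction
      rw [Subgroup.commutator_def] at hy ⊢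
      induction hy using Subgroup.closure_induction with
      | mem z hz =>
        obtain ⟨a, ha, b, hb, rfl⟩ := hz
        -- g [a,b] g⁻¹ = [g a, b] [g, b]⁻¹
        have e : g * ⁅a, b⁆ * g⁻¹ = ⁅g * a, b⁆ * ⁅g, b⁆⁻¹ := by
          simp only [commutatorElement_def]; group
        rw [e]
        apply Subgroup.mul_mem
        · exact Subgroup.subset_closure ⟨g * a, H.mul_mem hg ha, b, hb, rfl⟩
        · apply Subgroup.inv_mem
          exact Subgroup.subset_closure ⟨g, hg, b, hb, rfl⟩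
      | one => simp
      | mul y z _ _ ihy ihz =>
        have e : g * (y * z) * g⁻¹ = (g * y * g⁻¹) * (g * z * g⁻¹) := by group
        rw [e]
        exact Subgroup.mul_mem _ ihy ihz
      | inv y _ ihy =>
        have e : g * y⁻¹ * g⁻¹ = (g * y * g⁻¹)⁻¹ := by group
        rw [e]
        exact Subgroup.inv_mem _ ihy
    constructor
    · intro hx
      exact hcj x hx h hh
    · intro hx
      have := hcj _ hx h⁻¹ (H.inv_mem hh)
      have e : h⁻¹ * (h * x * h⁻¹) * h⁻¹⁻¹ = x := by group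
      rwa [e] at this
  have h2 : R ≤ Subgroup.normalizer ((⁅H, R⁆ : Subgroup G) : Set G) := by
    intro r hr
    rw [Subgroup.mem_normalizer_iff]
    intro x
    have hcj : ∀ y ∈ ⁅H, R⁆, ∀ g ∈ R, g * y * g⁻¹ ∈ ⁅H, R⁆ := by
      intro y hy g hg
      rw [Subgroup.commutator_def] at hy ⊢
      induction hy using Subgroup.closure_induction with
      | mem z hz =>
        obtain ⟨a, ha, b, hb, rfl⟩ := hz
        have e : g * ⁅a, b⁆ * g⁻¹ = ⁅g * a * g⁻¹, g * b * g⁻¹⁆ := by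
          simp only [commutatorElement_def]; group
        rw [e]
        exact Subgroup.subset_closure ⟨g * a * g⁻¹, hn.conj_mem a ha g, g * b * g⁻¹,
          R.mul_mem (R.mul_mem hg hb) (R.inv_mem hg), rfl⟩
      | one => simp
      | mul y z _ _ ihy ihz =>
        have e : g * (y * z) * g⁻¹ = (g * y * g⁻¹) * (g * z * g⁻¹) := by group
        rw [e]
        exact Subgroup.mul_mem _ ihy ihz
      | inv y _ ihy =>
        have e : g * y⁻¹ * g⁻¹ = (g * y * g⁻¹)⁻¹ := by group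
        rw [e]
        exact Subgroup.inv_mem _ ihy
    constructor
    · intro hx
      exact hcj x hx r hr
    · intro hx
      have := hcj _ hx r⁻¹ (R.inv_mem hr)
      have e : r⁻¹ * (r * x * r⁻¹) * r⁻¹⁻¹ = x := by group
      rwa [e] at this
  have h3 : H ⊔ R ≤ Subgroup.normalizer ((⁅H, R⁆ : Subgroup G) : Set G) := sup_le h1 h2
  rw [c.compl.sup_eq_top] at h3
  exact Subgroup.normalizer_eq_top_iff.mp (top_le_iff.mp h3)

theorem commutator_le_left {H R R₀ : Subgroup G} (c : Cfg H R R₀) : ⁅H, R⁆ ≤ H := by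
  have hn := c.normal
  exact Subgroup.commutator_le_left H R

/-- `[[H, R], R] = [H, R]` -/
theorem commutator_commutator_eq [Group.IsSolvable G] {H R R₀ : Subgroup G} (c : Cfg H R R₀) :
    ⁅⁅H, R⁆, R⁆ = ⁅H, R⁆ :=
  Cfsg.Agent.S0027.result R H (c.le_normalizer R) c.coprime.symm (Or.inr inferInstance)

/-- the hypotheses pass to the subgroup `[H, R] R` -/
theorem Cfg.sub [Group.IsSolvable G] {H R R₀ : Subgroup G} (c : Cfg H R R₀) :
    Cfg ((⁅H, R⁆).subgroupOf (⁅H, R⁆ ⊔ R)) (R.subgroupOf (⁅H, R⁆ ⊔ R))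
      (R₀.subgroupOf (⁅H, R⁆ ⊔ R)) := by
  obtain ⟨X, hX⟩ : ∃ X : Subgroup G, X = ⁅H, R⁆ := ⟨_, rfl⟩
  rw [← hX]
  have hXn : X.Normal := by rw [hX]; exact commutator_normal_of_compl c
  have hXH : X ≤ H := by rw [hX]; exact commutator_le_left c
  obtain ⟨G₁, hG₁⟩ : ∃ G₁ : Subgroup G, G₁ = X ⊔ R := ⟨_, rfl⟩
  rw [← hG₁]
  have hXG₁ : X ≤ G₁ := by rw [hG₁]; exact le_sup_left
  have hRG₁ : R ≤ G₁ := by rw [hG₁]; exact le_sup_right
  have hR₀G₁ : R₀ ≤ G₁ := c.le.trans hRG₁
  have hXR : X ⊓ R = ⊥ := by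
    rw [eq_bot_iff, ← c.disjoint]
    exact inf_le_inf_right _ hXH
  have hH₁n : (X.subgroupOf G₁).Normal := inferInstance
  have hcompl : Subgroup.IsComplement' (X.subgroupOf G₁) (R.subgroupOf G₁) := by
    apply Subgroup.isComplement'_of_disjoint_and_mul_eq_univ
    · rw [disjoint_iff, eq_bot_iff]
      intro y hy
      obtain ⟨h1, h2⟩ := Subgroup.mem_inf.mp hy
      have h3 : (y : G) ∈ X ⊓ R :=
        Subgroup.mem_inf.mpr ⟨Subgroup.mem_subgroupOf.mp h1, Subgroup.mem_subgroupOf.mp h2⟩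
      rw [hXR, Subgroup.mem_bot] at h3
      exact Subgroup.mem_bot.mpr (Subtype.ext h3)
    · rw [Set.eq_univ_iff_forall]
      rintro ⟨g, hg⟩
      have hg' : g ∈ X ⊔ R := by rw [← hG₁]; exact hg
      have hset : g ∈ ((X ⊔ R : Subgroup G) : Set G) := hg'
      rw [Subgroup.normal_mul] at hset
      obtain ⟨x, hx, r, hr, hxr⟩ := hset
      refine ⟨⟨x, hXG₁ hx⟩, Subgroup.mem_subgroupOf.mpr hx, ⟨r, hRG₁ hr⟩,
        Subgroup.mem_subgroupOf.mpr hr, ?_⟩
      exact Subtype.ext hxr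
  have hcardX : Nat.card ↥(X.subgroupOf G₁) = Nat.card ↥X :=
    Nat.card_congr (Subgroup.subgroupOfEquivOfLe hXG₁).toEquiv
  have hcardR : Nat.card ↥(R.subgroupOf G₁) = Nat.card ↥R :=
    Nat.card_congr (Subgroup.subgroupOfEquivOfLe hRG₁).toEquiv
  have hcardR₀ : Nat.card ↥(R₀.subgroupOf G₁) = Nat.card ↥R₀ :=
    Nat.card_congr (Subgroup.subgroupOfEquivOfLe hR₀G₁).toEquiv
  have hidx : (X.subgroupOf G₁).index = Nat.card ↥R := by
    have h1 := hcompl.card_mul_card
    have h2 := (X.subgroupOf G₁).card_mul_index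
    have hpos : 0 < Nat.card ↥(X.subgroupOf G₁) := Nat.card_pos
    rw [← hcardR]
    exact (Nat.eq_of_mul_eq_mul_left hpos (h1.trans h2.symm)).symm
  refine ⟨hH₁n, ?_, hcompl, ?_, by rw [hcardR₀]; exact c.prime, ?_⟩
  · rw [hidx, hcardX]
    exact Nat.Coprime.coprime_dvd_left (Subgroup.card_dvd_of_le hXH) c.coprime
  · intro x hx
    exact Subgroup.mem_subgroupOf.mpr (c.le (Subgroup.mem_subgroupOf.mp hx))
  · have hz := c.zgroup
    have hmem : ∀ y : ↥(X.subgroupOf G₁ ⊓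
        Subgroup.centralizer ((R₀.subgroupOf G₁ : Subgroup ↥G₁) : Set ↥G₁)),
        (((y : ↥G₁) : G)) ∈ H ⊓ Subgroup.centralizer (R₀ : Set G) := by
      intro y
      obtain ⟨hy1, hy2⟩ := Subgroup.mem_inf.mp y.2
      refine Subgroup.mem_inf.mpr ⟨hXH (Subgroup.mem_subgroupOf.mp hy1), ?_⟩
      rw [Subgroup.mem_centralizer_iff]
      intro a ha
      have := Subgroup.mem_centralizer_iff.mp hy2 ⟨a, hR₀G₁ ha⟩ (Subgroup.mem_subgroupOf.mpr ha)
      exact congrArg Subtype.val this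
    exact IsZGroup.of_injective
      (f := (G₁.subtype.comp (X.subgroupOf G₁ ⊓
        Subgroup.centralizer ((R₀.subgroupOf G₁ : Subgroup ↥G₁) : Set ↥G₁)).subtype).codRestrict
        (H ⊓ Subgroup.centralizer (R₀ : Set G)) hmem)
      (by
        intro a b hab
        have h1 := congrArg Subtype.val hab
        exact Subtype.ext (Subtype.ext h1))

/-- the commutator in `[H, R] R` maps onto `[H, R]` -/
theorem sub_commutator_map [Group.IsSolvable G] {H R R₀ : Subgroup G} (c : Cfg H R R₀) :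
    (⁅(⁅H, R⁆).subgroupOf (⁅H, R⁆ ⊔ R), R.subgroupOf (⁅H, R⁆ ⊔ R)⁆).map (⁅H, R⁆ ⊔ R).subtype =
      ⁅H, R⁆ := by
  rw [Subgroup.map_commutator, Subgroup.subgroupOf_map_subtype, Subgroup.subgroupOf_map_subtype,
    inf_eq_left.mpr le_sup_left, inf_eq_left.mpr le_sup_right]
  exact commutator_commutator_eq c

/-- `p`-length of `H / N` in the two forms -/
theorem plength_quotient_of_map {p : ℕ} [Fact p.Prime] {k : ℕ} {H N : Subgroup G} [N.Normal]
    (hNH : N ≤ H) (h : Cfsg.PLengthLE p k ↥(H.map (QuotientGroup.mk' N))) :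
    Cfsg.PLengthLE p k (↥H ⧸ N.subgroupOf H) := by
  have hmem : ∀ y : ↥H, QuotientGroup.mk' N (y : G) ∈ H.map (QuotientGroup.mk' N) :=
    fun y => Subgroup.mem_map_of_mem _ y.2
  obtain ⟨φ, hφ⟩ : ∃ φ : ↥H →* ↥(H.map (QuotientGroup.mk' N)),
      φ = ((QuotientGroup.mk' N).comp H.subtype).codRestrict _ hmem := ⟨_, rfl⟩
  have hsurj : Function.Surjective φ := by
    rintro ⟨_, ⟨y, hy, rfl⟩⟩
    refine ⟨⟨y, hy⟩, ?_⟩
    rw [hφ]
    rfl
  have hker : φ.ker = N.subgroupOf H := by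
    ext y
    rw [MonoidHom.mem_ker, Subgroup.mem_subgroupOf, hφ]
    constructor
    · intro hy
      have := congrArg Subtype.val hy
      exact (QuotientGroup.eq_one_iff _).mp this
    · intro hy
      apply Subtype.ext
      exact (QuotientGroup.eq_one_iff _).mpr hy
  have e1 : ↥H ⧸ φ.ker ≃* ↥(H.map (QuotientGroup.mk' N)) :=
    QuotientGroup.quotientKerEquivOfSurjective φ hsurj
  have e2 : ↥H ⧸ φ.ker ≃* ↥H ⧸ N.subgroupOf H := QuotientGroup.quotientMulEquivOfEq hker
  exact plength_of_mulEquiv (e1.symm.trans e2) h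

end Cfsg.Agent.Lib.Helper8.BGZ
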