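import Mathlib
import Cfsg.Agent.Lib.Helper8.BGZRedB

/-!
# Bender–Glauberman Theorem 3.6 (S1444): the induction wrapper

`thm36_of_core` reduces Theorem 3.6 to the minimal situation: `H = [H, R]`, every quotient of `H`
by a nontrivial normal subgroup of `G` has `p`-length at most one, and the theorem holds for all
groups of smaller order.
-/

set_option autoImplicit false
set_option linter.unusedVariables false
set_option linter.unusedSectionVars false
set_option maxHeartbeats 1000000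

namespace Cfsg.Agent.Lib.Helper8.BGZ

open Cfsg Cfsg.Agent.H1
open scoped commutatorElement

universe u

/-- Theorem 3.6 (for the prime `p`) for all groups of order `< n` in the universe `u` -/
def IH (p : ℕ) (n : ℕ) : Prop :=
  ∀ (G' : Type u) [Group G'] [Finite G'] [Group.IsSolvable G'], Nat.card G' < n →
    Odd (Nat.card G') → ∀ (H' R' R₀' : Subgroup G'), Cfg H' R' R₀' →
      Cfsg.PLengthLE p 1 ↥⁅H', R'⁆

/-- the minimal situation -/
def Core (p : ℕ) : Prop :=
  ∀ (G : Type u) [Group G] [Finite G] [Group.IsSolvable G], IH.{u} p (Nat.card G) →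
    Odd (Nat.card G) → ∀ (H R R₀ : Subgroup G), Cfg H R R₀ → ⁅H, R⁆ = H →
      (∀ (N : Subgroup G) [N.Normal], N ≤ H → N ≠ ⊥ →
        Cfsg.PLengthLE p 1 ↥(H.map (QuotientGroup.mk' N))) →
      Cfsg.PLengthLE p 1 ↥H

variable {G : Type u} [Group G] [Finite G]

theorem card_quotient_lt (N : Subgroup G) [N.Normal] (hN : N ≠ ⊥) :
    Nat.card (G ⧸ N) < Nat.card G := by
  have h1 := Subgroup.card_eq_card_quotient_mul_card_subgroup N
  have h2 : 1 < Nat.card ↥N := N.one_lt_card_iff_ne_bot.mpr hN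
  have h3 : 0 < Nat.card (G ⧸ N) := Nat.card_pos
  rw [h1]
  nlinarith

theorem reduce [Group.IsSolvable G] {p : ℕ} [Fact p.Prime] (hcore : Core.{u} p)
    (ih : IH.{u} p (Nat.card G)) (hodd : Odd (Nat.card G)) {H R R₀ : Subgroup G}
    (c : Cfg H R R₀) : Cfsg.PLengthLE p 1 ↥⁅H, R⁆ := by
  by_cases hX : ⁅H, R⁆ = H
  · have key := hcore G ih hodd H R R₀ c hX (by
      intro N hNn hNH hN1
      have hlt := card_quotient_lt N hN1
      have hodd' : Odd (Nat.card (G ⧸ N)) :=
        Odd.of_dvd_nat hodd (Subgroup.card_quotient_dvd_card N)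
      have h := ih (G ⧸ N) hlt hodd' _ _ _ (c.quotient N hNH)
      rw [map_commutator_mk, hX] at h
      exact h)
    exact plength_of_mulEquiv (MulEquiv.subgroupCongr hX.symm) key
  · -- pass to `[H, R] R`
    obtain ⟨G₁, hG₁⟩ : ∃ G₁ : Subgroup G, G₁ = ⁅H, R⁆ ⊔ R := ⟨_, rfl⟩
    have csub := c.sub
    have hmap := sub_commutator_map c
    rw [← hG₁] at csub hmap
    have hXH : ⁅H, R⁆ ≤ H := commutator_le_left c
    have hXG₁ : ⁅H, R⁆ ≤ G₁ := by rw [hG₁]; exact le_sup_left
    have hRG₁ : R ≤ G₁ := by rw [hG₁]; exact le_sup_right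
    have hlt : Nat.card ↥G₁ < Nat.card G := by
      have h1 := csub.compl.card_mul_card
      rw [Nat.card_congr (Subgroup.subgroupOfEquivOfLe hXG₁).toEquiv,
        Nat.card_congr (Subgroup.subgroupOfEquivOfLe hRG₁).toEquiv] at h1
      have h2 := c.compl.card_mul_card
      have h3 : Nat.card ↥⁅H, R⁆ < Nat.card ↥H := by
        rcases (Subgroup.card_le_of_le hXH).lt_or_eq with h | h
        · exact h
        · exact absurd (Subgroup.eq_of_le_of_card_ge hXH h.ge) hX
      have h4 : 0 < Nat.card ↥R := Nat.card_pos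
      rw [← h1, ← h2]
      exact Nat.mul_lt_mul_of_pos_right h3 h4
    have hodd₁ : Odd (Nat.card ↥G₁) := Odd.of_dvd_nat hodd (Subgroup.card_subgroup_dvd_card G₁)
    have h := ih ↥G₁ hlt hodd₁ _ _ _ csub
    exact plength_of_mulEquiv
      ((Subgroup.equivMapOfInjective _ G₁.subtype G₁.subtype_injective).trans
        (MulEquiv.subgroupCongr hmap)) h

/-- **Theorem 3.6** from the minimal situation -/
theorem thm36_of_core {p : ℕ} [Fact p.Prime] (hcore : Core.{u} p) : ∀ n : ℕ, IH.{u} p n := by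
  intro n
  induction n using Nat.strong_induction_on with
  | _ n ihn =>
    intro G' _ _ _ hlt hodd H' R' R₀' c
    exact reduce hcore (ihn (Nat.card G') hlt) hodd c

/-- (F1): a nontrivial normal `p'`-subgroup of `G` inside `H` finishes the proof -/
theorem plength_of_normal_pprime {p : ℕ} [Fact p.Prime] {H N : Subgroup G} [N.Normal]
    (hNH : N ≤ H) (hN : (Nat.card ↥N).Coprime p)
    (h : Cfsg.PLengthLE p 1 ↥(H.map (QuotientGroup.mk' N))) : Cfsg.PLengthLE p 1 ↥H := by
  have h1 := plength_quotient_of_map hNH h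
  have h0 : Cfsg.PLengthLE p 0 ↥(N.subgroupOf H) := by
    apply plength_zero_of_coprime
    rw [Nat.card_congr (Subgroup.subgroupOfEquivOfLe hNH).toEquiv]
    exact hN
  have := plength_extension (N.subgroupOf H) h0 h1
  simpa using this

/-- (F2): two normal subgroups of `G` inside `H` meeting trivially finish the proof -/
theorem plength_of_disjoint_normals {p : ℕ} [Fact p.Prime] {H N₁ N₂ : Subgroup G} [N₁.Normal]
    [N₂.Normal] (h1 : N₁ ≤ H) (h2 : N₂ ≤ H) (hd : N₁ ⊓ N₂ = ⊥)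
    (q1 : Cfsg.PLengthLE p 1 ↥(H.map (QuotientGroup.mk' N₁)))
    (q2 : Cfsg.PLengthLE p 1 ↥(H.map (QuotientGroup.mk' N₂))) : Cfsg.PLengthLE p 1 ↥H := by
  apply Cfsg.Agent.Lib.Helper8.PLenSub.plength_of_inf_eq_bot (N₁.subgroupOf H) (N₂.subgroupOf H) _
    (plength_quotient_of_map h1 q1) (plength_quotient_of_map h2 q2)
  rw [eq_bot_iff]
  intro y hy
  obtain ⟨a, b⟩ := Subgroup.mem_inf.mp hy
  have h3 : (y : G) ∈ N₁ ⊓ N₂ :=
    Subgroup.mem_inf.mpr ⟨Subgroup.mem_subgroupOf.mp a, Subgroup.mem_subgroupOf.mp b⟩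
  rw [hd, Subgroup.mem_bot] at h3
  exact Subgroup.mem_bot.mpr (Subtype.ext h3)

/-- the statement of S1444 from the minimal situation -/
theorem s1444_of_core {p : ℕ} [Fact p.Prime] (hcore : Core.{u} p) [Group.IsSolvable G]
    (hodd : Odd (Nat.card G)) (H R R₀ : Subgroup G) [hn : H.Normal]
    (hHall : (Nat.card H).Coprime H.index) (hR : Subgroup.IsComplement' H R) (hR₀ : R₀ ≤ R)
    (hR₀p : (Nat.card R₀).Prime) (hZ : IsZGroup ↥(H ⊓ Subgroup.centralizer (R₀ : Set G))) :
    Cfsg.PLengthLE p 1 ↥⁅H, R⁆ :=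
  thm36_of_core hcore (Nat.card G + 1) G (Nat.lt_succ_self _) hodd H R R₀
    ⟨hn, hHall, hR, hR₀, hR₀p, hZ⟩

end Cfsg.Agent.Lib.Helper8.BGZ
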