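import Mathlib
import Cfsg.Agent.Lib.Helper8.BGZRedC
import Cfsg.Agent.S1445
import Cfsg.Agent.S0026
import Cfsg.Agent.Lib.Helper4.LBalB
import Cfsg.Agent.H2.Equivariant
import Cfsg.Agent.Lib.Lead.ExpSix
import Cfsg.Agent.Lib.Lead.PiCore
import Cfsg.Agent.Lib.Helper7.Core

/-!
# Bender–Glauberman Theorem 3.6 (S1444): Case A (`C_{O_p(H)}(R₀) = 1`)
-/

set_option autoImplicit false
set_option linter.unusedVariables false
set_option linter.unusedSectionVars false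
set_option maxHeartbeats 1000000

namespace Cfsg.Agent.Lib.Helper8.BGZ

open Cfsg Cfsg.Agent.H1
open scoped commutatorElement

universe u

section general

variable {X : Type*} [Group X]

theorem centralizer_zpowers_eq' (x : X) :
    Subgroup.centralizer ((Subgroup.zpowers x : Subgroup X) : Set X) =
      Subgroup.centralizer ({x} : Set X) := by
  apply le_antisymm
  · apply Subgroup.centralizer_le
    intro y hy
    rw [Set.mem_singleton_iff] at hy
    rw [hy]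
    exact Subgroup.mem_zpowers x
  · intro g hg
    rw [Subgroup.mem_centralizer_singleton_iff] at hg
    rw [Subgroup.mem_centralizer_iff]
    rintro _ ⟨k, rfl⟩
    have hc : Commute g x := hg
    exact ((hc.zpow_right k).eq).symm

/-- the derived subgroup centralizes every cyclic normal subgroup -/
theorem commutator_le_centralizer_of_isCyclic (D : Subgroup X) [hDn : D.Normal] (hD : IsCyclic ↥D) :
    _root_.commutator X ≤ Subgroup.centralizer (D : Set X) := by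
  -- elementwise: conjugations act on `D` as power maps
  obtain ⟨d₀, hd₀⟩ := hD.exists_generator
  have hpow : ∀ g : X, ∃ n : ℤ, ∀ d ∈ D, g * d * g⁻¹ = d ^ n := by
    intro g
    have h1 : g * (d₀ : X) * g⁻¹ ∈ D := hDn.conj_mem _ d₀.2 g
    obtain ⟨n, hn⟩ := Subgroup.mem_zpowers_iff.mp (hd₀ ⟨_, h1⟩)
    have hn' : (d₀ : X) ^ n = g * (d₀ : X) * g⁻¹ := by
      have := congrArg Subtype.val hn
      simpa using this
    refine ⟨n, ?_⟩
    intro d hd
    obtain ⟨k, hk⟩ := Subgroup.mem_zpowers_iff.mp (hd₀ ⟨d, hd⟩)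
    have hk' : (d₀ : X) ^ k = d := by
      have := congrArg Subtype.val hk
      simpa using this
    rw [← hk', ← conj_zpow, ← hn', ← zpow_mul, ← zpow_mul, mul_comm]
  rw [commutator_def, Subgroup.commutator_le]
  intro g₁ _ g₂ _
  rw [Subgroup.mem_centralizer_iff]
  intro d hd
  obtain ⟨n₁, h₁⟩ := hpow g₁
  obtain ⟨n₂, h₂⟩ := hpow g₂
  obtain ⟨m₁, h₁'⟩ := hpow g₁⁻¹
  obtain ⟨m₂, h₂'⟩ := hpow g₂⁻¹
  -- `⁅g₁, g₂⁆ d ⁅g₁, g₂⁆⁻¹ = d`
  have key : ⁅g₁, g₂⁆ * d * ⁅g₁, g₂⁆⁻¹ = d := by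
    have e : ⁅g₁, g₂⁆ * d * ⁅g₁, g₂⁆⁻¹ =
        g₁ * (g₂ * (g₁⁻¹ * (g₂⁻¹ * d * g₂⁻¹⁻¹) * g₁⁻¹⁻¹) * g₂⁻¹) * g₁⁻¹ := by
      simp only [commutatorElement_def]; group
    rw [e, h₂' d hd, h₁' _ (D.zpow_mem hd _), h₂ _ (D.zpow_mem (D.zpow_mem hd _) _),
      h₁ _ (D.zpow_mem (D.zpow_mem (D.zpow_mem hd _) _) _)]
    -- d ^ (m₂ * m₁ * n₂ * n₁) = d, since g₁ g₁⁻¹ and g₂ g₂⁻¹ act trivially
    have i₁ : ∀ y ∈ D, (y ^ m₁) ^ n₁ = y := by
      intro y hy
      have := h₁ _ (D.zpow_mem hy m₁)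
      rw [← this, ← h₁' y hy]
      group
    have i₂ : ∀ y ∈ D, (y ^ m₂) ^ n₂ = y := by
      intro y hy
      have := h₂ _ (D.zpow_mem hy m₂)
      rw [← this, ← h₂' y hy]
      group
    have c1 : (((d ^ m₂) ^ m₁) ^ n₂) ^ n₁ = (((d ^ m₂) ^ n₂) ^ m₁) ^ n₁ := by
      rw [← zpow_mul, ← zpow_mul, ← zpow_mul, ← zpow_mul, ← zpow_mul, ← zpow_mul]
      congr 1
      ring
    rw [c1, i₂ d hd, i₁ d hd]
  calc d * ⁅g₁, g₂⁆ = (⁅g₁, g₂⁆ * d * ⁅g₁, g₂⁆⁻¹)⁻¹⁻¹ * ⁅g₁, g₂⁆ := by rw [key]; group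
    _ = ⁅g₁, g₂⁆ * d := by rw [inv_inv]; group

end general

variable {G : Type u} [Group G] [Finite G]

/-- `[H, R₀] ≤ O_p(H)` when `O_{p'}(H) = 1` and `C_{O_p(H)}(R₀) = 1` (from B&G Theorem 3.5) -/
theorem comm_le_pCore [Group.IsSolvable G] (hodd : Odd (Nat.card G)) {p : ℕ} [hp : Fact p.Prime]
    (H R₀ : Subgroup G) [hHn : H.Normal] (hcop : (Nat.card ↥H).Coprime (Nat.card ↥R₀))
    (hprime : (Nat.card ↥R₀).Prime) (hOp' : Cfsg.pPrimeCore p ↥H = ⊥)
    (hA : (Cfsg.pCore p ↥H).map H.subtype ⊓ Subgroup.centralizer (R₀ : Set G) = ⊥) :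
    ⁅H, R₀⁆ ≤ (Cfsg.pCore p ↥H).map H.subtype := by
  obtain ⟨G₂, hG₂⟩ : ∃ G₂ : Subgroup G, G₂ = H ⊔ R₀ := ⟨_, rfl⟩
  have hHG₂ : H ≤ G₂ := by rw [hG₂]; exact le_sup_left
  have hRG₂ : R₀ ≤ G₂ := by rw [hG₂]; exact le_sup_right
  have hKn : (H.subgroupOf G₂).Normal := inferInstance
  have hsup : H.subgroupOf G₂ ⊔ R₀.subgroupOf G₂ = ⊤ := by
    rw [← Subgroup.subgroupOf_sup hHG₂ hRG₂, ← hG₂, Subgroup.subgroupOf_self]
  have hcardK : Nat.card ↥(H.subgroupOf G₂) = Nat.card ↥H :=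
    Nat.card_congr (Subgroup.subgroupOfEquivOfLe hHG₂).toEquiv
  have hcardR : Nat.card ↥(R₀.subgroupOf G₂) = Nat.card ↥R₀ :=
    Nat.card_congr (Subgroup.subgroupOfEquivOfLe hRG₂).toEquiv
  have hodd₂ : Odd (Nat.card ↥G₂) := Odd.of_dvd_nat hodd (Subgroup.card_subgroup_dvd_card G₂)
  have hFitH : Cfsg.fittingSubgroup ↥H = Cfsg.pCore p ↥H :=
    Cfsg.Agent.Lib.Helper4.LBal.fittingSubgroup_eq_pCore hOp'
  -- elements of `F(K₂)` lie in `P`
  have hFmem : ∀ y : ↥G₂, y ∈ Cfsg.fittingOf (H.subgroupOf G₂) →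
      (y : G) ∈ (Cfsg.pCore p ↥H).map H.subtype := by
    rintro _ ⟨y', hy', rfl⟩
    have h1 := Cfsg.Agent.H2.fittingSubgroup_map_equiv (Subgroup.subgroupOfEquivOfLe hHG₂)
    have h2 : (Subgroup.subgroupOfEquivOfLe hHG₂) y' ∈ Cfsg.fittingSubgroup ↥H := by
      rw [← h1]
      exact Subgroup.mem_map_of_mem _ hy'
    rw [hFitH] at h2
    exact ⟨_, h2, rfl⟩
  have hpr : ∀ x ∈ R₀.subgroupOf G₂, x ≠ 1 →
      H.subgroupOf G₂ ⊓ Subgroup.centralizer ({x} : Set ↥G₂) =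
        H.subgroupOf G₂ ⊓ Subgroup.centralizer ((R₀.subgroupOf G₂ : Subgroup ↥G₂) : Set ↥G₂) := by
    intro x hx hx1
    have hz : Subgroup.zpowers x = R₀.subgroupOf G₂ := by
      apply Subgroup.eq_of_le_of_card_ge ((Subgroup.zpowers_le).mpr hx)
      have hdvd : Nat.card ↥(Subgroup.zpowers x) ∣ Nat.card ↥(R₀.subgroupOf G₂) :=
        Subgroup.card_dvd_of_le ((Subgroup.zpowers_le).mpr hx)
      rw [hcardR] at hdvd ⊢
      rcases (Nat.dvd_prime hprime).mp hdvd with h1 | h1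
      · exfalso
        apply hx1
        have : Subgroup.zpowers x = ⊥ := Subgroup.card_eq_one.mp h1
        exact Subgroup.zpowers_eq_bot.mp this
      · exact h1.ge
    rw [← hz, centralizer_zpowers_eq']
  have hFit : Cfsg.fittingOf (H.subgroupOf G₂) ⊓
      Subgroup.centralizer ((R₀.subgroupOf G₂ : Subgroup ↥G₂) : Set ↥G₂) = ⊥ := by
    rw [eq_bot_iff]
    intro y hy
    obtain ⟨hy1, hy2⟩ := Subgroup.mem_inf.mp hy
    have h1 := hFmem y hy1
    have h2 : (y : G) ∈ Subgroup.centralizer (R₀ : Set G) := by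
      rw [Subgroup.mem_centralizer_iff]
      intro a ha
      have := Subgroup.mem_centralizer_iff.mp hy2 ⟨a, hRG₂ ha⟩ (Subgroup.mem_subgroupOf.mpr ha)
      exact congrArg Subtype.val this
    have h3 : (y : G) ∈ (Cfsg.pCore p ↥H).map H.subtype ⊓ Subgroup.centralizer (R₀ : Set G) :=
      Subgroup.mem_inf.mpr ⟨h1, h2⟩
    rw [hA, Subgroup.mem_bot] at h3
    exact Subgroup.mem_bot.mpr (Subtype.ext h3)
  have key := Cfsg.Agent.S1445.result hodd₂ (H.subgroupOf G₂) (R₀.subgroupOf G₂) hsup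
    (by rw [hcardK, hcardR]; exact hcop) hpr hFit
  rw [Subgroup.commutator_le]
  intro h hh r hr
  have h1 : ⁅(⟨h, hHG₂ hh⟩ : ↥G₂), (⟨r, hRG₂ hr⟩ : ↥G₂)⁆ ∈
      ⁅H.subgroupOf G₂, R₀.subgroupOf G₂⁆ :=
    Subgroup.commutator_mem_commutator (Subgroup.mem_subgroupOf.mpr hh)
      (Subgroup.mem_subgroupOf.mpr hr)
  exact hFmem _ (key h1)


/-- the isomorphism `H / N ≃ HN/N` for `N ≤ H` -/
theorem exists_quotient_equiv_map {H N : Subgroup G} [N.Normal] (hNH : N ≤ H) :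
    Nonempty ((↥H ⧸ N.subgroupOf H) ≃* ↥(H.map (QuotientGroup.mk' N))) := by
  have hmem : ∀ y : ↥H, QuotientGroup.mk' N (y : G) ∈ H.map (QuotientGroup.mk' N) :=
    fun y => Subgroup.mem_map_of_mem _ y.2
  obtain ⟨φ, hφ⟩ : ∃ φ : ↥H →* ↥(H.map (QuotientGroup.mk' N)),
      φ = ((QuotientGroup.mk' N).comp H.subtype).codRestrict _ hmem := ⟨_, rfl⟩
  have hsurj : Function.Surjective φ := by
    rintro ⟨_, ⟨y, hy, rfl⟩⟩
    refine ⟨⟨y, hy⟩, ?_⟩
    rw [hφ]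
    rfl
  have hker : φ.ker = N.subgroupOf H := by
    ext y
    rw [MonoidHom.mem_ker, Subgroup.mem_subgroupOf, hφ]
    constructor
    · intro hy
      have := congrArg Subtype.val hy
      exact (QuotientGroup.eq_one_iff _).mp this
    · intro hy
      apply Subtype.ext
      exact (QuotientGroup.eq_one_iff _).mpr hy
  have e1 : ↥H ⧸ φ.ker ≃* ↥(H.map (QuotientGroup.mk' N)) :=
    QuotientGroup.quotientKerEquivOfSurjective φ hsurj
  have e2 : ↥H ⧸ φ.ker ≃* ↥H ⧸ N.subgroupOf H := QuotientGroup.quotientMulEquivOfEq hker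
  exact ⟨e2.symm.trans e1⟩

/-- **Case A** of Theorem 3.6: `C_{O_p(H)}(R₀) = 1` -/
theorem caseA [Group.IsSolvable G] {p : ℕ} [hp : Fact p.Prime] (hodd : Odd (Nat.card G))
    {H R R₀ : Subgroup G} (c : Cfg H R R₀) (hHR : ⁅H, R⁆ = H)
    (hQ : ∀ (N : Subgroup G) [N.Normal], N ≤ H → N ≠ ⊥ →
      Cfsg.PLengthLE p 1 ↥(H.map (QuotientGroup.mk' N)))
    (hA : (Cfsg.pCore p ↥H).map H.subtype ⊓ Subgroup.centralizer (R₀ : Set G) = ⊥) :
    Cfsg.PLengthLE p 1 ↥H := by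
  classical
  have hpp : p.Prime := hp.out
  have hHn : H.Normal := c.normal
  by_cases hOp' : Cfsg.pPrimeCore p ↥H = ⊥
  swap
  · -- `O_{p'}(H) ≠ 1`
    have hchar : (Cfsg.pPrimeCore p ↥H).Characteristic :=
      Cfsg.Agent.Lib.Lead.PiCore.pPrimeCore_characteristic hpp
    have hNn : ((Cfsg.pPrimeCore p ↥H).map H.subtype).Normal := inferInstance
    have hNH : (Cfsg.pPrimeCore p ↥H).map H.subtype ≤ H := Subgroup.map_subtype_le _
    have hN1 : (Cfsg.pPrimeCore p ↥H).map H.subtype ≠ ⊥ := by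
      intro h
      apply hOp'
      exact (Subgroup.map_eq_bot_iff_of_injective _ (Subgroup.subtype_injective _)).mp h
    have hNcop : (Nat.card ↥((Cfsg.pPrimeCore p ↥H).map H.subtype)).Coprime p := by
      rw [Subgroup.card_map_of_injective (Subgroup.subtype_injective _)]
      exact pPrimeCore_coprime p
    exact plength_of_normal_pprime hNH hNcop (hQ _ hNH hN1)
  -- now `O_{p'}(H) = 1`
  obtain ⟨P, hP⟩ : ∃ P : Subgroup G, P = (Cfsg.pCore p ↥H).map H.subtype := ⟨_, rfl⟩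
  have hcharP : (Cfsg.pCore p ↥H).Characteristic := Cfsg.Agent.Lib.Helper7.pCore_characteristic p ↥H
  have hPn : P.Normal := by rw [hP]; infer_instance
  have hPH : P ≤ H := by rw [hP]; exact Subgroup.map_subtype_le _
  have hcopR₀ : (Nat.card ↥H).Coprime (Nat.card ↥R₀) :=
    Nat.Coprime.coprime_dvd_right (Subgroup.card_dvd_of_le c.le) c.coprime
  have h3 : ⁅H, R₀⁆ ≤ P := by
    rw [hP]
    exact comm_le_pCore hodd H R₀ hcopR₀ c.prime hOp' hA
  have h4 : ⁅H, R₀⁆ ⊔ (H ⊓ Subgroup.centralizer (R₀ : Set G)) = H :=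
    Cfsg.Agent.S0026.result R₀ H (c.le_normalizer R₀) hcopR₀.symm (Or.inr inferInstance)
  -- the quotient `G / P`
  have hker : (QuotientGroup.mk' P).ker = P := QuotientGroup.ker_mk' P
  have h5 : H.map (QuotientGroup.mk' P) =
      (H ⊓ Subgroup.centralizer (R₀ : Set G)).map (QuotientGroup.mk' P) := by
    conv_lhs => rw [← h4]
    rw [Subgroup.map_sup]
    have : (⁅H, R₀⁆).map (QuotientGroup.mk' P) = ⊥ := by
      rw [Subgroup.map_eq_bot_iff, hker]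
      exact h3
    rw [this, bot_sup_eq]
  obtain ⟨Hb, hHb⟩ : ∃ Hb : Subgroup (G ⧸ P), Hb = H.map (QuotientGroup.mk' P) := ⟨_, rfl⟩
  have hHbn : Hb.Normal := by
    rw [hHb]
    exact Subgroup.Normal.map hHn _ (QuotientGroup.mk'_surjective P)
  have hZb : IsZGroup ↥Hb := by
    have hz := c.zgroup
    have hmem : ∀ y : ↥(H ⊓ Subgroup.centralizer (R₀ : Set G)),
        QuotientGroup.mk' P (y : G) ∈ Hb := by
      intro y
      rw [hHb]
      exact Subgroup.mem_map_of_mem _ (Subgroup.mem_inf.mp y.2).1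
    apply IsZGroup.of_surjective
      (f := ((QuotientGroup.mk' P).comp
        (H ⊓ Subgroup.centralizer (R₀ : Set G)).subtype).codRestrict Hb hmem)
    rintro ⟨yb, hyb⟩
    rw [hHb, h5] at hyb
    obtain ⟨y, hy, rfl⟩ := hyb
    exact ⟨⟨y, hy⟩, rfl⟩
  have hcommb : ⁅Hb, R.map (QuotientGroup.mk' P)⁆ = Hb := by
    rw [hHb, map_commutator_mk, hHR]
  -- `Hb ≤ (G/P)'`
  have h7 : Hb ≤ _root_.commutator (G ⧸ P) := by
    rw [commutator_def]
    conv_lhs => rw [← hcommb]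
    exact Subgroup.commutator_mono le_top le_top
  -- the derived subgroup of `Hb` is cyclic and normal in `G/P`
  have hDn : (⁅Hb, Hb⁆).Normal := inferInstance
  have hDc : IsCyclic ↥(⁅Hb, Hb⁆) := by
    have h1 : IsCyclic ↥(_root_.commutator ↥Hb) := IsZGroup.isCyclic_commutator ↥Hb
    have h2 : (_root_.commutator ↥Hb).map Hb.subtype = ⁅Hb, Hb⁆ :=
      Subgroup.map_subtype_commutator Hb
    have e : ↥(_root_.commutator ↥Hb) ≃* ↥((_root_.commutator ↥Hb).map Hb.subtype) :=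
      Subgroup.equivMapOfInjective _ Hb.subtype Hb.subtype_injective
    rw [← h2]
    exact isCyclic_of_surjective e.toMonoidHom e.surjective
  have h6 := commutator_le_centralizer_of_isCyclic (⁅Hb, Hb⁆) hDc
  have h8 : _root_.commutator ↥Hb ≤ Subgroup.center ↥Hb := by
    intro y hy
    rw [Subgroup.mem_center_iff]
    intro g
    have hyD : ((y : ↥Hb) : G ⧸ P) ∈ ⁅Hb, Hb⁆ := by
      rw [← Subgroup.map_subtype_commutator Hb]
      exact ⟨y, hy, rfl⟩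
    have hg : ((g : ↥Hb) : G ⧸ P) ∈ Subgroup.centralizer ((⁅Hb, Hb⁆ : Subgroup (G ⧸ P)) : Set (G ⧸ P)) :=
      h6 (h7 g.2)
    have := Subgroup.mem_centralizer_iff.mp hg _ hyD
    apply Subtype.ext
    exact this.symm
  have hcomm : IsMulCommutative ↥Hb := by
    have hk : (Abelianization.of : ↥Hb →* Abelianization ↥Hb).ker ≤ Subgroup.center ↥Hb := by
      rw [Abelianization.ker_of]
      exact h8
    exact (Abelianization.of : ↥Hb →* Abelianization ↥Hb).isMulCommutative_of_isCyclic_of_ker_le_center hk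
  -- `H / O_p(H)` is abelian with trivial `O_p`, hence a `p'`-group
  have hsub : P.subgroupOf H = Cfsg.pCore p ↥H := by
    ext y
    rw [Subgroup.mem_subgroupOf, hP]
    constructor
    · rintro ⟨y', hy', hyy'⟩
      have : y' = y := Subtype.ext hyy'
      rw [← this]
      exact hy'
    · intro hy
      exact ⟨y, hy, rfl⟩
  obtain ⟨e0⟩ := exists_quotient_equiv_map (N := P) hPH
  rw [← hHb] at e0
  have e1 : ↥H ⧸ Cfsg.pCore p ↥H ≃* ↥H ⧸ P.subgroupOf H :=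
    QuotientGroup.quotientMulEquivOfEq hsub.symm
  have e : ↥H ⧸ Cfsg.pCore p ↥H ≃* ↥Hb := e1.trans e0
  have hQcomm : ∀ a b : ↥H ⧸ Cfsg.pCore p ↥H, a * b = b * a := by
    intro a b
    apply e.injective
    rw [map_mul, map_mul]
    exact hcomm.is_comm.comm _ _
  have hOpQ : Cfsg.pCore p (↥H ⧸ Cfsg.pCore p ↥H) = ⊥ :=
    Cfsg.Agent.Lead.ExpSix.pCore_quotient_self_eq_bot (Cfsg.pCore p ↥H) rfl
  have hcopQ : (Nat.card (↥H ⧸ Cfsg.pCore p ↥H)).Coprime p := by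
    obtain ⟨S⟩ : Nonempty (Sylow p (↥H ⧸ Cfsg.pCore p ↥H)) := inferInstance
    have hSn : (S : Subgroup (↥H ⧸ Cfsg.pCore p ↥H)).Normal := by
      constructor
      intro n hn g
      rw [hQcomm g n, mul_assoc, mul_inv_cancel, mul_one]
      exact hn
    have hS : (S : Subgroup (↥H ⧸ Cfsg.pCore p ↥H)) ≤ Cfsg.pCore p (↥H ⧸ Cfsg.pCore p ↥H) :=
      le_pCore hSn S.2
    rw [hOpQ, le_bot_iff] at hS
    have hidx := S.not_dvd_index
    rw [hS, Subgroup.index_bot] at hidx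
    exact (Nat.Coprime.symm ((Nat.Prime.coprime_iff_not_dvd hpp).mpr hidx))
  have hb : Cfsg.PLengthLE p 0 (↥H ⧸ Cfsg.pCore p ↥H) := plength_zero_of_coprime hcopQ
  have ha : Cfsg.PLengthLE p 1 ↥(Cfsg.pCore p ↥H) :=
    plength_one_of_isPGroup (Cfsg.Agent.H1.pCore_isPGroup p)
  have := plength_extension (Cfsg.pCore p ↥H) ha hb
  simpa using this

end Cfsg.Agent.Lib.Helper8.BGZ
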