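import Mathlib
import Cfsg.Agent.S1403
import Cfsg.Agent.S0058
import Cfsg.Agent.S0027
import Cfsg.Agent.Lib.Helper8.BGTenL

/-!
# Bender–Glauberman Section 12, Lemma 12.3 / Proposition 12.4 (S1416): general lemmas
-/

set_option autoImplicit false
set_option linter.unusedVariables false
set_option linter.unusedSectionVars false
set_option linter.style.haveILetI false

namespace Cfsg.Agent.Lib.Helper8.BGTen

open Cfsg Cfsg.Agent.Lib.Helper7

universe u

variable {G : Type u} [Group G]

/-- the Uniqueness Theorem (S1403), in the form used by the `BGTen` library -/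
theorem uniq [Finite G] (hG : Cfsg.IsMinSimpleOddOrder G) : UniqThm G :=
  fun K hK h2 h3 => Cfsg.Agent.S1403.result hG K hK h2 h3

/-- inside a nilpotent subgroup, `H = [H, K]` forces `H = 1` -/
theorem eq_bot_of_eq_commutator {Q : Type*} [Group Q] (N H K : Subgroup Q)
    (hN : Group.IsNilpotent ↥N) (hH : H ≤ N) (hK : K ≤ N) (h : H = ⁅H, K⁆) : H = ⊥ := by
  obtain ⟨n, hn⟩ := (Subgroup.isNilpotent_iff_lowerCentralSeries N).mp hN
  have key : ∀ k : ℕ, H ≤ N.lowerCentralSeries k := by
    intro k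
    induction k with
    | zero => exact hH
    | succ k ih =>
      rw [Subgroup.lowerCentralSeries_succ]
      calc H = ⁅H, K⁆ := h
        _ ≤ _ := Subgroup.commutator_mono ih hK
  have := key n
  rw [hn] at this
  exact le_bot_iff.mp this

/-- `subgroupOf` commutes with commutators of subgroups of `K` -/
theorem commutator_subgroupOf {K X Y : Subgroup G} (hX : X ≤ K) (hY : Y ≤ K) :
    (⁅X, Y⁆).subgroupOf K = ⁅X.subgroupOf K, Y.subgroupOf K⁆ := by
  apply Subgroup.map_injective (Subgroup.subtype_injective K)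
  rw [Subgroup.map_commutator, Subgroup.map_subgroupOf_eq_of_le hX,
    Subgroup.map_subgroupOf_eq_of_le hY,
    Subgroup.map_subgroupOf_eq_of_le ((Subgroup.commutator_mono hX hY).trans
      (Subgroup.commutator_le_self K))]

/-- a `p'`-subgroup of `N A` (`N` normal, `A` a `p`-group) lies in `N` -/
theorem le_of_coprime_of_le_sup {H : Type*} [Group H] [Finite H] {N A Y : Subgroup H} [N.Normal]
    {p : ℕ} [Fact p.Prime] (hA : IsPGroup p ↥A) (hY : Y ≤ N ⊔ A)
    (hYp : (Nat.card ↥Y).Coprime p) : Y ≤ N := by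
  intro y hy
  have h1 : (QuotientGroup.mk' N) y ∈ (N ⊔ A).map (QuotientGroup.mk' N) :=
    Subgroup.mem_map_of_mem _ (hY hy)
  have hNb : N.map (QuotientGroup.mk' N) = ⊥ := by
    rw [Subgroup.map_eq_bot_iff, QuotientGroup.ker_mk']
  rw [Subgroup.map_sup, hNb, bot_sup_eq] at h1
  have hp : IsPGroup p ↥(A.map (QuotientGroup.mk' N)) := hA.map _
  obtain ⟨k, hk⟩ := hp ⟨_, h1⟩
  have hk' : ((QuotientGroup.mk' N) y) ^ p ^ k = 1 := by
    have := congrArg Subtype.val hk
    simpa using this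
  have h2 : ((QuotientGroup.mk' N) y) ^ Nat.card ↥Y = 1 := by
    rw [← map_pow]
    have : y ^ Nat.card ↥Y = 1 := by
      have h' : (⟨y, hy⟩ : ↥Y) ^ Nat.card ↥Y = 1 := pow_card_eq_one'
      exact congrArg Subtype.val h'
    rw [this, map_one]
  have h3 : (QuotientGroup.mk' N) y = 1 :=
    Cfsg.Agent.Lib.Helper4.Rank2Fit.eq_one_of_pow_pow_coprime h2 hk' (Nat.Coprime.pow_right k hYp)
  rw [QuotientGroup.mk'_apply, QuotientGroup.eq_one_iff] at h3
  exact h3

variable [Finite G]

/-- `σ` is invariant under conjugation -/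
theorem sigma_cj {M : Subgroup G} {p : ℕ} [Fact p.Prime] (g : G) (hp : p ∈ Cfsg.sigma M) :
    p ∈ Cfsg.sigma (cj g M) := by
  obtain ⟨hpp, hdvd, P0, hP0⟩ := hp
  have hS : IsSylowIn p ((P0 : Subgroup M).map M.subtype) M := IsSylowIn.of_sylow P0
  have hS' := sylIn_cj hS g
  obtain ⟨R, hR⟩ := hS'.exists_sylow
  refine ⟨hpp, by rw [card_cj]; exact hdvd, R, ?_⟩
  have e : (R : Subgroup ↥(cj g M)).map (cj g M).subtype =
      cj g ((P0 : Subgroup M).map M.subtype) := by
    rw [hR]
    exact Subgroup.map_subgroupOf_eq_of_le hS'.1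
  rw [e, ← cj_normalizer]
  exact cj_mono g hP0

/-- an elementary abelian group of order `p ^ 2` is not cyclic -/
theorem not_isCyclic_of_elem {p : ℕ} (hp : p.Prime) {A : Subgroup G}
    (hAe : Cfsg.IsElementaryAbelian p A) (hAc : Nat.card ↥A = p ^ 2) : ¬ IsCyclic ↥A := by
  intro hc
  obtain ⟨g, hg⟩ := hc.exists_generator
  have h1 : orderOf g = Nat.card ↥A := orderOf_eq_card_of_forall_mem_zpowers hg
  have h2 : g ^ p = 1 := by
    apply Subtype.ext
    rw [Subgroup.coe_pow, Subgroup.coe_one]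
    exact hAe.2 g.1 g.2
  have h3 : orderOf g ∣ p := orderOf_dvd_of_pow_eq_one h2
  have h4 := Nat.le_of_dvd hp.pos h3
  rw [h1, hAc] at h4
  have := hp.one_lt
  nlinarith

/-- coprime generation by the centralizers of the subgroups of order `p` -/
theorem le_of_centralizers_le {p : ℕ} [hpf : Fact p.Prime] {A K Y : Subgroup G}
    (hAe : Cfsg.IsElementaryAbelian p A) (hAc : Nat.card ↥A = p ^ 2)
    (hAK : A ≤ Subgroup.normalizer (K : Set G)) (hcop : (Nat.card ↥A).Coprime (Nat.card ↥K))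
    (h : ∀ A₁ : Subgroup G, A₁ ≤ A → Nat.card ↥A₁ = p →
      K ⊓ Subgroup.centralizer (A₁ : Set G) ≤ Y) : K ≤ Y := by
  have hpp := hpf.out
  haveI : IsMulCommutative ↥A := hAe.1
  have hgen := Cfsg.Agent.S0058.result A K (not_isCyclic_of_elem hpp hAe hAc) hAK hcop
  rw [← hgen]
  apply iSup_le
  intro a
  apply iSup_le
  rintro ⟨haA, ha1⟩
  have hord : orderOf a = p := orderOf_eq_prime (hAe.2 a haA) ha1
  have h1 := h (Subgroup.zpowers a) (by rw [Subgroup.zpowers_le]; exact haA)
    (by rw [Nat.card_zpowers, hord])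
  rw [centralizer_zpowers_eq] at h1
  exact h1

end Cfsg.Agent.Lib.Helper8.BGTen
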