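import Mathlib
import Cfsg.Agent.Lib.Helper8.BGTw4A

/-!
# Bender–Glauberman Lemma 12.3 (conditional on the statements (c) [B&G 11.7] and (β) of Section 11)
-/

set_option autoImplicit false
set_option linter.unusedVariables false
set_option linter.unusedSectionVars false
set_option linter.style.haveILetI false
set_option maxHeartbeats 1000000

namespace Cfsg.Agent.Lib.Helper8.BGTen

open Cfsg Cfsg.Agent.Lib.Helper7
open scoped commutatorElement

universe u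

/-- (c) [B&G 11.7], as a hypothesis: `M_σ A ⊴ M` for every exceptional triple `(M, A, A₀)` -/
def HypC (G : Type u) [Group G] : Prop :=
  ∀ (M A A₀ : Subgroup G) (p : ℕ) [Fact p.Prime], IsCoatom M → p ∉ Cfsg.sigma M → A ≤ M →
    Cfsg.IsElementaryAbelian p A → Nat.card ↥A = p ^ 2 → A₀ ≤ A → Nat.card ↥A₀ = p →
    Subgroup.normalizer (A₀ : Set G) ≤ M →
    M ≤ Subgroup.normalizer ((Cfsg.sigmaCore M ⊔ A : Subgroup G) : Set G)

/-- (β), as a hypothesis: for an exceptional triple `(M, A, A₀)` and a maximal subgroup `H ≠ M`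
containing `A`, no prime divisor of `|H ∩ M_σ|` lies in `σ(H)` -/
def HypBeta (G : Type u) [Group G] : Prop :=
  ∀ (M A A₀ : Subgroup G) (p : ℕ) [Fact p.Prime], IsCoatom M → p ∉ Cfsg.sigma M → A ≤ M →
    Cfsg.IsElementaryAbelian p A → Nat.card ↥A = p ^ 2 → A₀ ≤ A → Nat.card ↥A₀ = p →
    Subgroup.normalizer (A₀ : Set G) ≤ M →
    ∀ H : Subgroup G, IsCoatom H → A ≤ H → H ≠ M → ∀ q : ℕ, q.Prime →
      q ∣ Nat.card ↥(H ⊓ Cfsg.sigmaCore M) → q ∉ Cfsg.sigma H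

/-- (★), as a hypothesis: for `r ∉ σ(M)`, no elementary abelian subgroup of order `r ^ 2` of `M`
centralizes `M_σ` -/
def HypStar (G : Type u) [Group G] : Prop :=
  ∀ (M B : Subgroup G) (r : ℕ) [Fact r.Prime], IsCoatom M → r ∉ Cfsg.sigma M → B ≤ M →
    Cfsg.IsElementaryAbelian r B → Nat.card ↥B = r ^ 2 →
    ¬ (B ≤ Subgroup.centralizer (Cfsg.sigmaCore M : Set G))

variable {G : Type u} [Group G] [Finite G]

/-- a normal subgroup of `M`, seen in `G`, is normalized by `M` -/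
theorem le_normalizer_map_subtype (M : Subgroup G) (N : Subgroup ↥M) [N.Normal] :
    M ≤ Subgroup.normalizer ((N.map M.subtype : Subgroup G) : Set G) := by
  have h := Subgroup.le_normalizer_map (H := N) M.subtype
  rw [Subgroup.normalizer_eq_top, ← MonoidHom.range_eq_map, Subgroup.range_subtype] at h
  exact h

theorem le_normalizer_inf {A U V : Subgroup G} (hU : A ≤ Subgroup.normalizer (U : Set G))
    (hV : A ≤ Subgroup.normalizer (V : Set G)) :
    A ≤ Subgroup.normalizer ((U ⊓ V : Subgroup G) : Set G) := by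
  intro a ha
  rw [Subgroup.mem_normalizer_iff]
  intro x
  rw [Subgroup.mem_inf, Subgroup.mem_inf, ← Subgroup.mem_normalizer_iff.mp (hU ha) x,
    ← Subgroup.mem_normalizer_iff.mp (hV ha) x]

/-- `[X, T] ≤ T` when `X` normalizes `T` -/
theorem commutator_le_of_le_normalizer {X A T : Subgroup G}
    (hX : X ≤ Subgroup.normalizer (T : Set G)) (hA : A ≤ T) : ⁅X, A⁆ ≤ T := by
  rw [Subgroup.commutator_le]
  intro x hx a ha
  have h1 : x * a * x⁻¹ ∈ T := (Subgroup.mem_normalizer_iff.mp (hX hx) a).mp (hA ha)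
  have : ⁅x, a⁆ = x * a * x⁻¹ * a⁻¹ := by rw [commutatorElement_def]
  rw [this]
  exact T.mul_mem h1 (T.inv_mem (hA ha))

/-- `[X, A] ≤ X` when `A` normalizes `X` -/
theorem commutator_le_left_of_le_normalizer {X A : Subgroup G}
    (hA : A ≤ Subgroup.normalizer (X : Set G)) : ⁅X, A⁆ ≤ X := by
  rw [Subgroup.commutator_le]
  intro x hx a ha
  have h1 : a * x⁻¹ * a⁻¹ ∈ X :=
    (Subgroup.mem_normalizer_iff.mp (hA ha) x⁻¹).mp (X.inv_mem hx)
  have : ⁅x, a⁆ = x * (a * x⁻¹ * a⁻¹) := by rw [commutatorElement_def]; group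
  rw [this]
  exact X.mul_mem hx h1

/-- a prime in `α(Ms) ∩ σ(M)` forces `Ms` and `M` to be conjugate -/
theorem exists_cj_eq_of_alpha_sigma (hG : Cfsg.IsMinSimpleOddOrder G) {M Ms : Subgroup G}
    (hM : IsCoatom M) (hMs : IsCoatom Ms) {r : ℕ} [hrf : Fact r.Prime]
    (hrα : r ∈ Cfsg.alpha Ms) (hrσ : r ∈ Cfsg.sigma M) : ∃ g : G, cj g Ms = M := by
  have hU := uniq hG
  obtain ⟨P0⟩ : Nonempty (Sylow r ↥Ms) := inferInstance
  have hRs : IsSylowIn r ((P0 : Subgroup Ms).map Ms.subtype) Ms := IsSylowIn.of_sylow P0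
  obtain ⟨Rs, hRsdef⟩ : ∃ Rs : Subgroup G, Rs = (P0 : Subgroup Ms).map Ms.subtype := ⟨_, rfl⟩
  rw [← hRsdef] at hRs
  have hrk : ¬ Cfsg.PRankLE r 2 ↥Rs := not_pRankLE_sylowIn hRs hrα.2
  obtain ⟨P1⟩ : Nonempty (Sylow r ↥M) := inferInstance
  have hRM : IsSylowIn r ((P1 : Subgroup M).map M.subtype) M := IsSylowIn.of_sylow P1
  obtain ⟨RM, hRMdef⟩ : ∃ RM : Subgroup G, RM = (P1 : Subgroup M).map M.subtype := ⟨_, rfl⟩
  rw [← hRMdef] at hRM
  have hRMtop := sigma_sylow_top hrσ hRM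
  obtain ⟨T, hT, hRsT⟩ := exists_isSylowIn_ge hRs.isPGroup (le_top : Rs ≤ ⊤)
  obtain ⟨g, -, hg⟩ := hT.conj hRMtop
  have hg' : RM = cj g T := hg
  refine ⟨g, ?_⟩
  have hK1 : cj g Rs ≤ M := by
    have : cj g Rs ≤ cj g T := cj_mono g hRsT
    rw [← hg'] at this
    exact this.trans hRM.1
  have hK2 : cj g Rs ≤ cj g Ms := cj_mono g hRs.1
  have hKne : cj g Rs ≠ ⊤ := ne_top_of_le_coatom hM hK1
  have hKrk : ¬ Cfsg.PRankLE r 2 ↥(cj g Rs) := by
    intro h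
    apply hrk
    let e : ↥Rs ≃* ↥(cj g Rs) := Rs.equivMapOfInjective _ (MulAut.conj g).injective
    exact Cfsg.Agent.Lib.Helper4.Rank2Fit.pRankLE_of_injective e.toMonoidHom e.injective h
  obtain ⟨L, -, huniq⟩ := inUniqueMaximal_of_rank_three hU hrf.out hKne hKrk
  have e1 := huniq M ⟨hM, hK1⟩
  have e2 := huniq (cj g Ms) ⟨isCoatom_cj hMs g, hK2⟩
  rw [e1, e2]

/-- if `p ∈ σ(M)`, `A₀` is a nontrivial `p`-subgroup of `M` with `N(A₀) ≤ Ms` and `Ms` is conjugate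
to `M`, then `Ms = M` -/
theorem eq_of_cj_eq_of_sigma (hG : Cfsg.IsMinSimpleOddOrder G) {M Ms A₀ : Subgroup G}
    (hM : IsCoatom M) {p : ℕ} [hpf : Fact p.Prime] (hp : p ∈ Cfsg.sigma M) (hA₀M : A₀ ≤ M)
    (hA₀p : IsPGroup p ↥A₀) (hA₀1 : A₀ ≠ ⊥) (hN : Subgroup.normalizer (A₀ : Set G) ≤ Ms)
    {g : G} (hg : cj g Ms = M) : Ms = M := by
  have hU := uniq hG
  have hA₀Ms : A₀ ≤ Ms := Subgroup.le_normalizer.trans hN
  have h1 : cj g A₀ ≤ M := by rw [← hg]; exact cj_mono g hA₀Ms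
  obtain ⟨m, hm, c, hc, hgmc⟩ := ctl_of_sigma hG hU hM hp A₀ hA₀M hA₀p hA₀1 g h1
  have hcMs : c ∈ Ms := hN (Subgroup.centralizer_le_normalizer _ hc)
  have h2 : cj c Ms = Ms := cj_eq_of_mem hcMs
  rw [hgmc, cj_mul, h2] at hg
  -- cj m Ms = M, m ∈ M
  have h3 : Ms = cj m⁻¹ M := by rw [← hg, cj_inv_cj]
  rw [h3]
  exact cj_eq_of_mem (M.inv_mem hm)


theorem card_map_subtype' (M : Subgroup G) (N : Subgroup ↥M) :
    Nat.card ↥(N.map M.subtype) = Nat.card ↥N :=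
  Subgroup.card_map_of_injective (Subgroup.subtype_injective _)

theorem isPGroup_of_elem {p : ℕ} [hpf : Fact p.Prime] {A : Subgroup G}
    (hAe : Cfsg.IsElementaryAbelian p A) : IsPGroup p ↥A := by
  intro a
  refine ⟨1, ?_⟩
  apply Subtype.ext
  rw [pow_one, Subgroup.coe_pow, Subgroup.coe_one]
  exact hAe.2 a.1 a.2

/-- a subgroup all of whose prime divisors lie in `π` is coprime to a power of a prime outside `π` -/
theorem coprime_of_piNat {π : Set ℕ} {p k n : ℕ} (hp : p.Prime) (hpπ : p ∉ π)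
    (hn : ∀ q : ℕ, q.Prime → q ∣ n → q ∈ π) : (p ^ k).Coprime n := by
  apply Nat.Coprime.pow_left
  rw [Nat.Prime.coprime_iff_not_dvd hp]
  intro h
  exact hpπ (hn p hp h)

/-- **Lemma 12.3** of Bender–Glauberman (conditional on (c) and (β) of Section 11) -/
theorem lemma123 (hG : Cfsg.IsMinSimpleOddOrder G) (hC : HypC G) (hB : HypBeta G)
    {M Ms A A₀ : Subgroup G} {p : ℕ} [hpf : Fact p.Prime]
    (hM : IsCoatom M) (hMs : IsCoatom Ms) (hne : Ms ≠ M) (hAM : A ≤ M)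
    (hAe : Cfsg.IsElementaryAbelian p A) (hAc : Nat.card ↥A = p ^ 2) (hA₀ : A₀ ≤ A)
    (hA₀c : Nat.card ↥A₀ = p) (hN : Subgroup.normalizer (A₀ : Set G) ≤ Ms)
    (π : Set ℕ) (hπ : ∀ q ∈ π, q ∈ Cfsg.sigma M) (hpπ : p ∉ π) :
    A ≤ Subgroup.centralizer ((((Cfsg.piCore π ↥M).map M.subtype ⊓ Ms : Subgroup G)) : Set G) := by
  have hU := uniq hG
  have hpp := hpf.out
  haveI hAcomm : IsMulCommutative ↥A := hAe.1
  have hAp : IsPGroup p ↥A := isPGroup_of_elem hAe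
  -- `A ≤ Ms`
  have hAMs : A ≤ Ms := by
    refine le_trans ?_ hN
    refine le_trans ?_ (Subgroup.centralizer_le_normalizer _)
    intro a ha
    rw [Subgroup.mem_centralizer_iff]
    intro b hb
    have := hAcomm.is_comm.comm (⟨a, ha⟩ : ↥A) ⟨b, hA₀ hb⟩
    have h2 := congrArg Subtype.val this
    simpa using h2.symm
  set Mπ : Subgroup G := (Cfsg.piCore π ↥M).map M.subtype with hMπ
  set X : Subgroup G := Mπ ⊓ Ms with hX
  have hMπM : Mπ ≤ M := Subgroup.map_subtype_le _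
  have hAX : A ≤ Subgroup.normalizer (X : Set G) :=
    le_normalizer_inf (hAM.trans (le_normalizer_map_subtype M _))
      (hAMs.trans Subgroup.le_normalizer)
  have hXπ : ∀ q : ℕ, q.Prime → q ∣ Nat.card ↥X → q ∈ π := by
    intro q hq hdvd
    have h1 : Nat.card ↥X ∣ Nat.card ↥Mπ := Subgroup.card_dvd_of_le inf_le_left
    rw [hMπ, card_map_subtype'] at h1
    exact Cfsg.Agent.Lib.Lead.PiCore.piCore_isPiNat π q hq (hdvd.trans h1)
  have hcop : (Nat.card ↥A).Coprime (Nat.card ↥X) := by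
    rw [hAc]
    exact coprime_of_piNat hpp hpπ hXπ
  have hsolv : Group.IsSolvable ↥A ∨ Group.IsSolvable ↥X := Or.inl (Group.isSolvable_of_comm (fun a b => hAcomm.is_comm.comm a b))
  set Y₀ : Subgroup G := ⁅X, A⁆ with hY₀
  have hYY : ⁅Y₀, A⁆ = Y₀ := Cfsg.Agent.S0027.result A X hAX hcop hsolv
  have hY₀X : Y₀ ≤ X := commutator_le_left_of_le_normalizer hAX
  suffices hbot : Y₀ = ⊥ by
    have h1 : ⁅A, X⁆ = ⊥ := by rw [Subgroup.commutator_comm]; exact hbot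
    exact Subgroup.commutator_eq_bot_iff_le_centralizer.mp h1
  by_contra hYne
  have hcardne : Nat.card ↥Y₀ ≠ 1 := by
    intro h
    exact hYne (Subgroup.card_eq_one.mp h)
  obtain ⟨q, hq, hqdvd⟩ := Nat.exists_prime_and_dvd hcardne
  have hqπ : q ∈ π := hXπ q hq (hqdvd.trans (Subgroup.card_dvd_of_le hY₀X))
  have hqσ : q ∈ Cfsg.sigma M := hπ q hqπ
  have hA₀M : A₀ ≤ M := hA₀.trans hAM
  have hA₀p : IsPGroup p ↥A₀ := hAp.to_le hA₀
  have hA₀1 : A₀ ≠ ⊥ := by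
    intro h
    rw [h, Subgroup.card_bot] at hA₀c
    exact hpp.one_lt.ne hA₀c
  by_cases hpσ : p ∈ Cfsg.sigma Ms
  · -- Case I
    obtain ⟨S, hS, hAS⟩ := exists_isSylowIn_ge hAp hAMs
    have hSc : S ≤ ⁅Ms, Ms⁆ := sylow_le_commutator_of_sigma hG hU hMs hpσ hS
    have hAc' : A ≤ ⁅Ms, Ms⁆ := hAS.trans hSc
    have hY₀c : Y₀ ≤ ⁅Ms, Ms⁆ := Subgroup.commutator_mono inf_le_right hAMs
    have hY₀Ms : Y₀ ≤ Ms := hY₀X.trans inf_le_right
    obtain ⟨-, -, -, -, hnil⟩ := alphaCore_hall hG hU Ms hMs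
    set φ := QuotientGroup.mk' (Cfsg.piCore (Cfsg.alpha Ms) ↥Ms) with hφ
    have hcomm : (⁅Ms, Ms⁆).subgroupOf Ms = _root_.commutator ↥Ms := by
      rw [commutator_subgroupOf le_rfl le_rfl, Subgroup.subgroupOf_self, commutator_def]
    have h1 : (Y₀.subgroupOf Ms).map φ ≤ (_root_.commutator ↥Ms).map φ := by
      apply Subgroup.map_mono
      rw [← hcomm]
      exact Subgroup.subgroupOf_mono Ms hY₀c
    have h2 : (A.subgroupOf Ms).map φ ≤ (_root_.commutator ↥Ms).map φ := by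
      apply Subgroup.map_mono
      rw [← hcomm]
      exact Subgroup.subgroupOf_mono Ms hAc'
    have h3 : (Y₀.subgroupOf Ms).map φ = ⁅(Y₀.subgroupOf Ms).map φ, (A.subgroupOf Ms).map φ⁆ := by
      rw [← Subgroup.map_commutator, ← commutator_subgroupOf hY₀Ms hAMs, hYY]
    have h4 := eq_bot_of_eq_commutator _ _ _ hnil h1 h2 h3
    have h5 : Y₀.subgroupOf Ms ≤ Cfsg.piCore (Cfsg.alpha Ms) ↥Ms := by
      rw [Subgroup.map_eq_bot_iff, hφ, QuotientGroup.ker_mk'] at h4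
      exact h4
    have h6 : Y₀ ≤ Cfsg.alphaCore Ms := by
      intro y hy
      exact ⟨⟨y, hY₀Ms hy⟩, h5 (Subgroup.mem_subgroupOf.mpr hy), rfl⟩
    have hqα : q ∈ Cfsg.alpha Ms :=
      mem_alpha_of_dvd_alphaCore Ms hq (hqdvd.trans (Subgroup.card_dvd_of_le h6))
    haveI : Fact q.Prime := ⟨hq⟩
    obtain ⟨g, hg⟩ := exists_cj_eq_of_alpha_sigma hG hM hMs hqα hqσ
    have hpσM : p ∈ Cfsg.sigma M := by
      rw [← hg]
      exact sigma_cj g hpσ
    exact hne (eq_of_cj_eq_of_sigma hG hM hpσM hA₀M hA₀p hA₀1 hN hg)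
  · -- Case II
    have hc := hC Ms A A₀ p hMs hpσ hAMs hAe hAc hA₀ hA₀c hN
    have hY₀T : Y₀ ≤ Cfsg.sigmaCore Ms ⊔ A :=
      commutator_le_of_le_normalizer ((inf_le_right : X ≤ Ms).trans hc) le_sup_right
    have hY₀Ms : Y₀ ≤ Ms := hY₀X.trans inf_le_right
    have hσle : Cfsg.sigmaCore Ms ≤ Ms := Subgroup.map_subtype_le _
    have hYcop : (Nat.card ↥Y₀).Coprime p := by
      have := coprime_of_piNat (k := 1) hpp hpπ
        (fun r hr hd => hXπ r hr (hd.trans (Subgroup.card_dvd_of_le hY₀X)))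
      rw [pow_one] at this
      exact this.symm
    have h1 : Y₀.subgroupOf Ms ≤ Cfsg.piCore (Cfsg.sigma Ms) ↥Ms ⊔ A.subgroupOf Ms := by
      have h0 : Y₀.subgroupOf Ms ≤ (Cfsg.sigmaCore Ms ⊔ A).subgroupOf Ms :=
        Subgroup.subgroupOf_mono Ms hY₀T
      rw [Subgroup.subgroupOf_sup hσle hAMs] at h0
      have e : (Cfsg.sigmaCore Ms).subgroupOf Ms = Cfsg.piCore (Cfsg.sigma Ms) ↥Ms := by
        unfold Cfsg.sigmaCore
        exact Subgroup.comap_map_eq_self_of_injective (Subgroup.subtype_injective _) _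
      rw [e] at h0
      exact h0
    have hA'p : IsPGroup p ↥(A.subgroupOf Ms) := by
      have e := (Subgroup.subgroupOfEquivOfLe hAMs)
      exact hAp.of_equiv e.symm
    have hYc' : (Nat.card ↥(Y₀.subgroupOf Ms)).Coprime p := by
      rw [Nat.card_congr (Subgroup.subgroupOfEquivOfLe hY₀Ms).toEquiv]
      exact hYcop
    have h2 : Y₀.subgroupOf Ms ≤ Cfsg.piCore (Cfsg.sigma Ms) ↥Ms :=
      le_of_coprime_of_le_sup hA'p h1 hYc'
    have h3 : Y₀ ≤ Cfsg.sigmaCore Ms := by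
      intro y hy
      exact ⟨⟨y, hY₀Ms hy⟩, h2 (Subgroup.mem_subgroupOf.mpr hy), rfl⟩
    have h4 : Y₀ ≤ M ⊓ Cfsg.sigmaCore Ms := le_inf ((hY₀X.trans inf_le_left).trans hMπM) h3
    exact hB Ms A A₀ p hMs hpσ hAMs hAe hAc hA₀ hA₀c hN M hM hAM hne.symm q hq
      (hqdvd.trans (Subgroup.card_dvd_of_le h4)) hqσ

end Cfsg.Agent.Lib.Helper8.BGTen
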