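import Mathlib
import Cfsg.Agent.Lib.Helper8.BGTw4B
import Cfsg.Agent.H1.ElemAbelian

/-!
# Bender–Glauberman Proposition 12.4 (S1416), conditional on (c), (β), (★) of Section 11
-/

set_option autoImplicit false
set_option linter.unusedVariables false
set_option linter.unusedSectionVars false
set_option linter.style.haveILetI false
set_option maxHeartbeats 1000000

namespace Cfsg.Agent.Lib.Helper8.BGTen

open Cfsg Cfsg.Agent.Lib.Helper7
open scoped commutatorElement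

universe u

variable {G : Type u} [Group G] [Finite G]

/-- a nontrivial `p`-subgroup has a central element of order `p` -/
theorem exists_central_of_pgroup {p : ℕ} [hpf : Fact p.Prime] {S : Subgroup G}
    (hS : IsPGroup p ↥S) (hS1 : S ≠ ⊥) :
    ∃ z ∈ S, z ∈ Subgroup.centralizer (S : Set G) ∧ z ≠ 1 ∧ z ^ p = 1 := by
  haveI : Nontrivial ↥S := (Subgroup.nontrivial_iff_ne_bot S).mpr hS1
  haveI hnt := hS.center_nontrivial
  have hZp : IsPGroup p ↥(Subgroup.center ↥S) := hS.to_subgroup _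
  have hdvd : p ∣ Nat.card ↥(Subgroup.center ↥S) := by
    rcases hZp.card_eq_or_dvd with h | h
    · exfalso
      have := (Subgroup.center ↥S).one_lt_card_iff_ne_bot.mp Finite.one_lt_card
      exact this (Subgroup.card_eq_one.mp h)
    · exact h
  obtain ⟨x, hx⟩ := exists_prime_orderOf_dvd_card' p hdvd
  have hxp : x ^ p = 1 := by rw [← hx]; exact pow_orderOf_eq_one x
  have hx1 : x ≠ 1 := by
    intro h
    rw [h, orderOf_one] at hx
    exact hpf.out.one_lt.ne hx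
  refine ⟨((x : ↥S) : G), (x : ↥S).2, ?_, ?_, ?_⟩
  · rw [Subgroup.mem_centralizer_iff]
    intro s hs
    have := Subgroup.mem_center_iff.mp x.2 ⟨s, hs⟩
    exact congrArg Subtype.val this
  · intro h
    apply hx1
    apply Subtype.ext
    apply Subtype.ext
    simpa using h
  · have := congrArg (fun y : ↥(Subgroup.center ↥S) => ((y : ↥S) : G)) hxp
    simpa using this

/-- `A ≤ C(A)` for an abelian subgroup -/
theorem le_centralizer_self {A : Subgroup G} (hA : IsMulCommutative ↥A) :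
    A ≤ Subgroup.centralizer (A : Set G) := by
  intro a ha
  rw [Subgroup.mem_centralizer_iff]
  intro b hb
  exact congrArg Subtype.val (hA.is_comm.comm (⟨b, hb⟩ : ↥A) ⟨a, ha⟩)

/-- if `C_G(A)` has `p`-rank at most 2, then `A` contains every element of order dividing `p`
of its centralizer -/
theorem mem_of_centralizes {p : ℕ} [hpf : Fact p.Prime] {A : Subgroup G}
    (hAe : Cfsg.IsElementaryAbelian p A) (hAc : Nat.card ↥A = p ^ 2)
    (hr : Cfsg.PRankLE p 2 ↥(Subgroup.centralizer (A : Set G))) {x : G}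
    (hx : x ∈ Subgroup.centralizer (A : Set G)) (hxp : x ^ p = 1) : x ∈ A := by
  have hB := Cfsg.Agent.H1.isElementaryAbelian_sup_zpowers p A hAe x hx hxp
  set B : Subgroup G := A ⊔ Subgroup.zpowers x with hBdef
  have hBle : B ≤ Subgroup.centralizer (A : Set G) := by
    apply sup_le (le_centralizer_self hAe.1)
    rw [Subgroup.zpowers_le]
    exact hx
  have hrB : Cfsg.PRankLE p 2 ↥B := Cfsg.Agent.Lib.Helper4.Rank2Fit.pRankLE_of_le hBle hr
  have hc : IsMulCommutative ↥(⊤ : Subgroup ↥B) :=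
    ⟨⟨fun a b => Subtype.ext (hB.1.is_comm.comm a.1 b.1)⟩⟩
  have h1 := hrB ⊤ hc (by
    intro a _
    exact Subtype.ext (by simpa using hB.2 a.1 a.2))
  rw [Subgroup.card_top] at h1
  have hAB : A ≤ B := le_sup_left
  have hBA : A = B := Subgroup.eq_of_le_of_card_ge hAB (by rw [hAc]; exact h1)
  rw [hBA]
  exact Subgroup.mem_sup_right (Subgroup.mem_zpowers x)


theorem not_dvd_relIndex_of_sylIn {q : ℕ} [Fact q.Prime] {R N : Subgroup G}
    (h : IsSylowIn q R N) : ¬ q ∣ R.relIndex N := by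
  obtain ⟨P, hP⟩ := h.exists_sylow
  have h1 := P.not_dvd_index
  rw [hP] at h1
  exact h1

/-- a normal Hall `π`-subgroup `N` of `M` contains every `q`-subgroup of `M` for `q ∈ π` -/
theorem le_of_hall_normal {π : Set ℕ} {N M T : Subgroup G} {q : ℕ} [hqf : Fact q.Prime]
    (hH : Cfsg.IsPiHallOf π N M) (hn : M ≤ Subgroup.normalizer (N : Set G)) (hq : q ∈ π)
    (hTM : T ≤ M) (hT : IsPGroup q ↥T) : T ≤ N := by
  obtain ⟨hNM, -, hidx⟩ := hH
  obtain ⟨S, hS, hTS⟩ := exists_isSylowIn_ge hT hTM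
  have h1 : IsSylowIn q (S ⊓ N) N := hS.inf_normal N hNM hn
  have h2 : ¬ q ∣ (S ⊓ N).relIndex M := by
    rw [← Subgroup.relIndex_mul_relIndex (S ⊓ N) N M inf_le_right hNM, Nat.Prime.dvd_mul hqf.out]
    push Not
    exact ⟨not_dvd_relIndex_of_sylIn h1, hidx q hqf.out hq⟩
  have h3 : IsSylowIn q (S ⊓ N) M := sylIn_of_not_dvd (inf_le_right.trans hNM) h1.isPGroup h2
  have h4 : S = S ⊓ N := sylIn_eq_of_le h3 hS.1 hS.isPGroup inf_le_left
  intro t ht
  have : t ∈ S ⊓ N := h4 ▸ hTS ht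
  exact this.2

/-- the standing hypothesis of the second half of Proposition 12.4 -/
def HypH (M A : Subgroup G) (p : ℕ) : Prop :=
  ∀ A₁ : Subgroup G, A₁ ≤ A → Nat.card ↥A₁ = p →
    ∃ M₁ : Subgroup G, IsCoatom M₁ ∧ M₁ ≠ M ∧ Subgroup.normalizer (A₁ : Set G) ≤ M₁

theorem hypH_of (hG : Cfsg.IsMinSimpleOddOrder G) {M A : Subgroup G} {p : ℕ} [hpf : Fact p.Prime]
    (hM : IsCoatom M) (hAM : A ≤ M)
    (hyp : ∀ A₀ : Subgroup G, A₀ ≤ A → Nat.card ↥A₀ = p →
      ¬ (Subgroup.normalizer (A₀ : Set G) ≤ M ∧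
        ∀ L : Subgroup G, IsCoatom L → Subgroup.normalizer (A₀ : Set G) ≤ L → L = M)) :
    HypH M A p := by
  intro A₁ h1 h2
  have hA₁b : A₁ ≠ ⊥ := by
    intro h
    rw [h, Subgroup.card_bot] at h2
    exact hpf.out.one_lt.ne h2
  have hA₁t : A₁ ≠ ⊤ := ne_top_of_le_coatom hM (h1.trans hAM)
  have hNt := normalizer_ne_top' hG hA₁b hA₁t
  by_cases hN : Subgroup.normalizer (A₁ : Set G) ≤ M
  · have := hyp A₁ h1 h2
    push Not at this
    obtain ⟨L, hL, hNL, hLM⟩ := this hN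
    exact ⟨L, hL, hLM, hNL⟩
  · obtain ⟨L, hL, hNL⟩ := exists_coatom_ge hNt
    refine ⟨L, hL, ?_, hNL⟩
    intro h
    rw [h] at hNL
    exact hN hNL

/-- an elementary abelian group of order `p ^ 2` has a subgroup of order `p` -/
theorem exists_order_p {p : ℕ} [hpf : Fact p.Prime] {A : Subgroup G}
    (hAe : Cfsg.IsElementaryAbelian p A) (hAc : Nat.card ↥A = p ^ 2) :
    ∃ A₁ : Subgroup G, A₁ ≤ A ∧ Nat.card ↥A₁ = p := by
  have hA1 : A ≠ ⊥ := by
    intro h
    rw [h, Subgroup.card_bot] at hAc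
    have := hpf.out.one_lt
    nlinarith
  obtain ⟨a, ha, ha1⟩ := (Subgroup.ne_bot_iff_exists_ne_one).mp hA1 |> fun ⟨x, hx⟩ =>
    (⟨x.1, x.2, fun h => hx (Subtype.ext h)⟩ : ∃ a : G, a ∈ A ∧ a ≠ 1)
  refine ⟨Subgroup.zpowers a, by rw [Subgroup.zpowers_le]; exact ha, ?_⟩
  rw [Nat.card_zpowers]
  exact orderOf_eq_prime (hAe.2 a ha) ha1

/-- Step 0: under `(H)`, `C_G(A)` has rank at most 2 -/
theorem rankLE_centralizer_of_hypH (hG : Cfsg.IsMinSimpleOddOrder G) {M A : Subgroup G} {p : ℕ}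
    [hpf : Fact p.Prime] (hM : IsCoatom M) (hAM : A ≤ M)
    (hAe : Cfsg.IsElementaryAbelian p A) (hAc : Nat.card ↥A = p ^ 2) (hH : HypH M A p) :
    Cfsg.RankLE 2 ↥(Subgroup.centralizer (A : Set G)) := by
  have hU := uniq hG
  have hpp := hpf.out
  obtain ⟨A₁, h1, h2⟩ := exists_order_p hAe hAc
  obtain ⟨M₁, hM₁, hne, hN⟩ := hH A₁ h1 h2
  have hAM₁ : A ≤ M₁ := by
    refine le_trans ?_ hN
    refine le_trans ?_ (Subgroup.centralizer_le_normalizer _)
    exact (le_centralizer_self hAe.1).trans (Subgroup.centralizer_le (by exact_mod_cast h1))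
  by_contra hr
  have hcomm : ∀ a ∈ A, ∀ b ∈ A, a * b = b * a := fun a ha b hb =>
    congrArg Subtype.val (hAe.1.is_comm.comm (⟨a, ha⟩ : ↥A) ⟨b, hb⟩)
  have hr1 : ¬ Cfsg.RankLE 1 ↥A := not_rankLE_one_of_elem hpp hcomm hAe.2 (by
    rw [hAc]
    have := hpp.one_lt
    nlinarith)
  obtain ⟨L, -, huniq⟩ := hU A (ne_top_of_le_coatom hM hAM) hr1 (Or.inr hr)
  have e1 := huniq M ⟨hM, hAM⟩
  have e2 := huniq M₁ ⟨hM₁, hAM₁⟩
  exact hne (e2.trans e1.symm)

/-- Step 1: under `(H)`, `p ∉ α(M)` -/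
theorem not_mem_alpha_of_hypH (hG : Cfsg.IsMinSimpleOddOrder G) {M A : Subgroup G} {p : ℕ}
    [hpf : Fact p.Prime] (hM : IsCoatom M) (hAM : A ≤ M)
    (hAe : Cfsg.IsElementaryAbelian p A) (hAc : Nat.card ↥A = p ^ 2) (hH : HypH M A p)
    (hr : Cfsg.PRankLE p 2 ↥(Subgroup.centralizer (A : Set G))) : p ∉ Cfsg.alpha M := by
  intro hα
  have hU := uniq hG
  have hpp := hpf.out
  have hAp := isPGroup_of_elem hAe
  obtain ⟨S, hS, hAS⟩ := exists_isSylowIn_ge hAp hAM
  have hrk : ¬ Cfsg.PRankLE p 2 ↥S := not_pRankLE_sylowIn hS hα.2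
  have hSt : S ≠ ⊤ := ne_top_of_le_coatom hM hS.1
  obtain ⟨L, -, huniq⟩ := inUniqueMaximal_of_rank_three hU hpp hSt hrk
  have hS1 : S ≠ ⊥ := ne_bot_of_not_pRankLE hpp hrk
  obtain ⟨z, hzS, hzc, hz1, hzp⟩ := exists_central_of_pgroup hS.isPGroup hS1
  have hzA : z ∈ A :=
    mem_of_centralizes hAe hAc hr (Subgroup.centralizer_le (by exact_mod_cast hAS) hzc) hzp
  have h1 : Subgroup.zpowers z ≤ A := by rw [Subgroup.zpowers_le]; exact hzA
  have h2 : Nat.card ↥(Subgroup.zpowers z) = p := by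
    rw [Nat.card_zpowers]
    exact orderOf_eq_prime hzp hz1
  obtain ⟨M₁, hM₁, hne, hN⟩ := hH _ h1 h2
  have hSN : S ≤ Subgroup.normalizer ((Subgroup.zpowers z : Subgroup G) : Set G) := by
    refine le_trans ?_ (Subgroup.centralizer_le_normalizer _)
    rw [Subgroup.le_centralizer_iff, Subgroup.zpowers_le]
    exact hzc
  have e1 := huniq M ⟨hM, hS.1⟩
  have e2 := huniq M₁ ⟨hM₁, hSN.trans hN⟩
  exact hne (e2.trans e1.symm)


/-- Lemma 12.3 applied to all subgroups of order `p` of `A`: `A` centralizes `O_π(M)` -/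
theorem piCore_le_centralizer_of_hypH (hG : Cfsg.IsMinSimpleOddOrder G) (hC : HypC G)
    (hB : HypBeta G) {M A : Subgroup G} {p : ℕ} [hpf : Fact p.Prime] (hM : IsCoatom M)
    (hAM : A ≤ M) (hAe : Cfsg.IsElementaryAbelian p A) (hAc : Nat.card ↥A = p ^ 2)
    (hH : HypH M A p) (π : Set ℕ) (hπ : ∀ q ∈ π, q ∈ Cfsg.sigma M) (hpπ : p ∉ π) :
    (Cfsg.piCore π ↥M).map M.subtype ≤ Subgroup.centralizer (A : Set G) := by
  have hpp := hpf.out
  set K : Subgroup G := (Cfsg.piCore π ↥M).map M.subtype with hK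
  have hAK : A ≤ Subgroup.normalizer (K : Set G) := hAM.trans (le_normalizer_map_subtype M _)
  have hKπ : ∀ q : ℕ, q.Prime → q ∣ Nat.card ↥K → q ∈ π := by
    intro q hq hdvd
    rw [hK, card_map_subtype'] at hdvd
    exact Cfsg.Agent.Lib.Lead.PiCore.piCore_isPiNat π q hq hdvd
  have hcop : (Nat.card ↥A).Coprime (Nat.card ↥K) := by
    rw [hAc]
    exact coprime_of_piNat hpp hpπ hKπ
  apply le_of_centralizers_le hAe hAc hAK hcop
  intro A₁ h1 h2
  obtain ⟨M₁, hM₁, hne, hN⟩ := hH A₁ h1 h2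
  have h3 := lemma123 hG hC hB hM hM₁ hne hAM hAe hAc h1 h2 hN π hπ hpπ
  rw [Subgroup.le_centralizer_iff] at h3
  refine le_trans ?_ h3
  exact inf_le_inf_left _ ((Subgroup.centralizer_le_normalizer _).trans hN)

/-- Step 2: under `(H)`, `M_α = 1` -/
theorem alphaCore_eq_bot_of_hypH (hG : Cfsg.IsMinSimpleOddOrder G) (hC : HypC G)
    (hB : HypBeta G) {M A : Subgroup G} {p : ℕ} [hpf : Fact p.Prime] (hM : IsCoatom M)
    (hAM : A ≤ M) (hAe : Cfsg.IsElementaryAbelian p A) (hAc : Nat.card ↥A = p ^ 2)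
    (hH : HypH M A p) : Cfsg.alphaCore M = ⊥ := by
  have hU := uniq hG
  have hr2 := rankLE_centralizer_of_hypH hG hM hAM hAe hAc hH
  have hpα := not_mem_alpha_of_hypH hG hM hAM hAe hAc hH (hr2 p hpf.out)
  have hcent : Cfsg.alphaCore M ≤ Subgroup.centralizer (A : Set G) :=
    piCore_le_centralizer_of_hypH hG hC hB hM hAM hAe hAc hH (Cfsg.alpha M)
      (fun q h => alpha_subset_sigma hG hU hM h) hpα
  by_contra hne
  have hcardne : Nat.card ↥(Cfsg.alphaCore M) ≠ 1 := fun h => hne (Subgroup.card_eq_one.mp h)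
  obtain ⟨q, hq, hqd⟩ := Nat.exists_prime_and_dvd hcardne
  have hqα := mem_alpha_of_dvd_alphaCore M hq hqd
  obtain ⟨hall, -⟩ := alphaCore_hall hG hU M hM
  haveI : Fact q.Prime := ⟨hq⟩
  obtain ⟨R, hR, -⟩ := exists_isSylowIn_ge (p := q) (Q := ⊥) (IsPGroup.of_bot)
    (bot_le : ⊥ ≤ Cfsg.alphaCore M)
  have hnd : ¬ q ∣ R.relIndex M := by
    rw [← Subgroup.relIndex_mul_relIndex R (Cfsg.alphaCore M) M hR.1 hall.1, Nat.Prime.dvd_mul hq]
    push Not
    exact ⟨not_dvd_relIndex_of_sylIn hR, hall.2.2 q hq hqα⟩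
  have hRM : IsSylowIn q R M := sylIn_of_not_dvd (hR.1.trans hall.1) hR.isPGroup hnd
  have h1 : ¬ Cfsg.PRankLE q 2 ↥R := not_pRankLE_sylowIn hRM hqα.2
  exact h1 (Cfsg.Agent.Lib.Helper4.Rank2Fit.pRankLE_of_le (hR.1.trans hcent) (hr2 q hq))

/-- if `M_α = 1` then `M_σ` is nilpotent -/
theorem sigmaCore_nilpotent_of_alphaCore_eq_bot (hG : Cfsg.IsMinSimpleOddOrder G)
    {M : Subgroup G} (hM : IsCoatom M) (h : Cfsg.alphaCore M = ⊥) :
    Group.IsNilpotent ↥(Cfsg.sigmaCore M) := by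
  have hU := uniq hG
  obtain ⟨-, -, -, -, hnil⟩ := alphaCore_hall hG hU M hM
  have hbot : Cfsg.piCore (Cfsg.alpha M) ↥M = ⊥ := by
    unfold Cfsg.alphaCore at h
    exact (Subgroup.map_eq_bot_iff_of_injective _ (Subgroup.subtype_injective _)).mp h
  have hinj : Function.Injective (QuotientGroup.mk' (Cfsg.piCore (Cfsg.alpha M) ↥M)) := by
    rw [← MonoidHom.ker_eq_bot_iff, QuotientGroup.ker_mk', hbot]
  have hCn : Group.IsNilpotent ↥(_root_.commutator ↥M) := by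
    let e := (_root_.commutator ↥M).equivMapOfInjective _ hinj
    exact @Group.nilpotent_of_mulEquiv _ _ _ _ hnil e.symm
  have hle := piCore_le_commutator hG hU hM (Cfsg.sigma M) (fun q h => h)
  have h1 : Group.IsNilpotent
      ↥((Cfsg.piCore (Cfsg.sigma M) ↥M).subgroupOf (_root_.commutator ↥M)) := inferInstance
  have h2 : Group.IsNilpotent ↥(Cfsg.piCore (Cfsg.sigma M) ↥M) :=
    Group.nilpotent_of_mulEquiv (Subgroup.subgroupOfEquivOfLe hle)
  unfold Cfsg.sigmaCore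
  exact Group.nilpotent_of_mulEquiv
    ((Cfsg.piCore (Cfsg.sigma M) ↥M).equivMapOfInjective _ (Subgroup.subtype_injective _))

/-- Step 3: under `(H)`, `p ∈ σ(M)` -/
theorem mem_sigma_of_hypH (hG : Cfsg.IsMinSimpleOddOrder G) (hC : HypC G)
    (hB : HypBeta G) (hS : HypStar G) {M A : Subgroup G} {p : ℕ} [hpf : Fact p.Prime]
    (hM : IsCoatom M) (hAM : A ≤ M) (hAe : Cfsg.IsElementaryAbelian p A)
    (hAc : Nat.card ↥A = p ^ 2) (hH : HypH M A p) : p ∈ Cfsg.sigma M := by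
  by_contra hpσ
  have h1 : Cfsg.sigmaCore M ≤ Subgroup.centralizer (A : Set G) :=
    piCore_le_centralizer_of_hypH hG hC hB hM hAM hAe hAc hH (Cfsg.sigma M) (fun q h => h) hpσ
  exact hS M A p hM hpσ hAM hAe hAc (Subgroup.le_centralizer_iff.mp h1)


/-- Step 4: under `(H)`, with `p ∈ σ(M)` and `M_σ` nilpotent, `C_G(A) ≤ M` -/
theorem centralizer_le_of_hypH (hG : Cfsg.IsMinSimpleOddOrder G) {M A : Subgroup G} {p : ℕ}
    [hpf : Fact p.Prime] (hM : IsCoatom M) (hAM : A ≤ M)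
    (hAe : Cfsg.IsElementaryAbelian p A) (hAc : Nat.card ↥A = p ^ 2) (hH : HypH M A p)
    (hr : Cfsg.PRankLE p 2 ↥(Subgroup.centralizer (A : Set G))) (hpσ : p ∈ Cfsg.sigma M)
    (hnil : Group.IsNilpotent ↥(Cfsg.sigmaCore M)) :
    Subgroup.centralizer (A : Set G) ≤ M := by
  have hU := uniq hG
  have hpp := hpf.out
  have hAp := isPGroup_of_elem hAe
  obtain ⟨S, hS, hAS⟩ := exists_isSylowIn_ge hAp hAM
  obtain ⟨hall, -⟩ := sigmaCore_hall hG hU M hM
  have hNn : M ≤ Subgroup.normalizer ((Cfsg.sigmaCore M : Subgroup G) : Set G) := by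
    unfold Cfsg.sigmaCore
    exact le_normalizer_map_subtype M _
  set N : Subgroup G := Cfsg.sigmaCore M with hN
  have hSN : S ≤ N := le_of_hall_normal hall hNn hpσ hS.1 hS.isPGroup
  have hSsN : IsSylowIn p S N := by
    have := hS.inf_normal N hall.1 hNn
    rwa [inf_eq_left.mpr hSN] at this
  -- `S ⊴ N`
  have hNS : N ≤ Subgroup.normalizer (S : Set G) := by
    obtain ⟨P, hP⟩ := hSsN.exists_sylow
    have h1 : (P : Subgroup ↥N).Normal := inferInstance
    rw [hP] at h1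
    exact (Subgroup.normal_subgroupOf_iff_le_normalizer hSN).mp h1
  -- `S ⊴ M`
  have hSn : M ≤ Subgroup.normalizer (S : Set G) := by
    intro m hm
    apply mem_normalizer_of_cj_eq
    have h1 : IsSylowIn p (cj m S) N := by
      have := sylIn_cj hSsN m
      rwa [cj_eq_of_mem_normalizer (hNn hm)] at this
    have h2 : S ≤ cj m S := sylIn_normal_le h1 hSN hS.isPGroup hNS
    exact (Subgroup.eq_of_le_of_card_ge h2 (by rw [card_cj])).symm
  set Z₁ : Subgroup G := A ⊓ Subgroup.centralizer (S : Set G) with hZ₁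
  have hcSA : Subgroup.centralizer (S : Set G) ≤ Subgroup.centralizer (A : Set G) :=
    Subgroup.centralizer_le (by exact_mod_cast hAS)
  have key : ∀ m ∈ M, ∀ z ∈ Z₁, m * z * m⁻¹ ∈ Z₁ := by
    intro m hm z hz
    have hzA : z ∈ A := hz.1
    have hzc : z ∈ Subgroup.centralizer (S : Set G) := hz.2
    have hwc : m * z * m⁻¹ ∈ Subgroup.centralizer (S : Set G) := by
      have h1 : m * z * m⁻¹ ∈ cj m (Subgroup.centralizer (S : Set G)) := conj_mem_cj hzc
      rw [cj_centralizer, cj_eq_of_mem_normalizer (hSn hm)] at h1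
      exact h1
    have hwp : (m * z * m⁻¹) ^ p = 1 := by
      rw [conj_pow, hAe.2 z hzA, mul_one, mul_inv_cancel]
    exact ⟨mem_of_centralizes hAe hAc hr (hcSA hwc) hwp, hwc⟩
  have hZn : M ≤ Subgroup.normalizer (Z₁ : Set G) := by
    intro m hm
    rw [Subgroup.mem_normalizer_iff]
    intro z
    constructor
    · exact key m hm z
    · intro h
      have := key m⁻¹ (M.inv_mem hm) _ h
      have e : m⁻¹ * (m * z * m⁻¹) * m⁻¹⁻¹ = z := by group
      rwa [e] at this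
  have hA1 : A ≠ ⊥ := by
    intro h
    rw [h, Subgroup.card_bot] at hAc
    have := hpp.one_lt
    nlinarith
  have hS1 : S ≠ ⊥ := by
    intro h
    rw [h] at hAS
    exact hA1 (le_bot_iff.mp hAS)
  have hZ1 : Z₁ ≠ ⊥ := by
    obtain ⟨z, hzS, hzc, hz1, hzp⟩ := exists_central_of_pgroup hS.isPGroup hS1
    have hzA : z ∈ A := mem_of_centralizes hAe hAc hr (hcSA hzc) hzp
    intro h
    have : z ∈ Z₁ := ⟨hzA, hzc⟩
    rw [h, Subgroup.mem_bot] at this
    exact hz1 this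
  have hZt : Z₁ ≠ ⊤ := ne_top_of_le_coatom hM (inf_le_left.trans hAM)
  have hNZ : Subgroup.normalizer (Z₁ : Set G) = M := by
    have h1 := normalizer_ne_top' hG hZ1 hZt
    by_contra hne
    exact h1 (hM.2 _ (lt_of_le_of_ne hZn (Ne.symm hne)))
  have hcard : Nat.card ↥Z₁ ∣ p ^ 2 := by
    rw [← hAc]
    exact Subgroup.card_dvd_of_le inf_le_left
  obtain ⟨k, hk, hkc⟩ := (Nat.dvd_prime_pow hpp).mp hcard
  have hk0 : k ≠ 0 := by
    intro h
    rw [h, pow_zero] at hkc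
    exact hZ1 (Subgroup.card_eq_one.mp hkc)
  by_cases hk1 : k = 1
  · exfalso
    rw [hk1, pow_one] at hkc
    obtain ⟨M₁, hM₁, hne, hNM₁⟩ := hH Z₁ inf_le_left hkc
    rw [hNZ] at hNM₁
    rcases eq_or_lt_of_le hNM₁ with h | h
    · exact hne h.symm
    · exact hM₁.1 (hM.2 _ h)
  · have hk2 : k = 2 := by omega
    rw [hk2] at hkc
    have hZA : Z₁ = A := Subgroup.eq_of_le_of_card_ge inf_le_left (by rw [hkc, hAc])
    rw [hZA] at hNZ
    rw [← hNZ]
    exact Subgroup.centralizer_le_normalizer _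

/-- **Proposition 12.4** (the statement of S1416), conditional on (c), (β), (★) -/
theorem s1416 (hG : Cfsg.IsMinSimpleOddOrder G) (hC : HypC G) (hB : HypBeta G) (hS : HypStar G)
    (M : Subgroup G) (hM : IsCoatom M) (p : ℕ) [hpf : Fact p.Prime] (A : Subgroup G)
    (hA : (A ≤ M ∧ Cfsg.IsElementaryAbelian p A ∧ Nat.card A = p ^ 2)) :
    Subgroup.centralizer (A : Set G) ≤ M ∧
      ((∀ A₀ : Subgroup G, A₀ ≤ A → Nat.card A₀ = p →
          ¬ (Subgroup.normalizer (A₀ : Set G) ≤ M ∧ ∀ L : Subgroup G, IsCoatom L →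
            Subgroup.normalizer (A₀ : Set G) ≤ L → L = M)) →
        p ∈ Cfsg.sigma M ∧ Cfsg.alphaCore M = ⊥ ∧ Group.IsNilpotent (Cfsg.sigmaCore M)) := by
  obtain ⟨hAM, hAe, hAc⟩ := hA
  have main : (∀ A₀ : Subgroup G, A₀ ≤ A → Nat.card A₀ = p →
          ¬ (Subgroup.normalizer (A₀ : Set G) ≤ M ∧ ∀ L : Subgroup G, IsCoatom L →
            Subgroup.normalizer (A₀ : Set G) ≤ L → L = M)) →
        (p ∈ Cfsg.sigma M ∧ Cfsg.alphaCore M = ⊥ ∧ Group.IsNilpotent (Cfsg.sigmaCore M)) ∧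
          Subgroup.centralizer (A : Set G) ≤ M := by
    intro hyp
    have hH := hypH_of hG hM hAM hyp
    have hr2 := rankLE_centralizer_of_hypH hG hM hAM hAe hAc hH
    have hα := alphaCore_eq_bot_of_hypH hG hC hB hM hAM hAe hAc hH
    have hnil := sigmaCore_nilpotent_of_alphaCore_eq_bot hG hM hα
    have hpσ := mem_sigma_of_hypH hG hC hB hS hM hAM hAe hAc hH
    exact ⟨⟨hpσ, hα, hnil⟩, centralizer_le_of_hypH hG hM hAM hAe hAc hH (hr2 p hpf.out) hpσ hnil⟩
  by_cases hyp : (∀ A₀ : Subgroup G, A₀ ≤ A → Nat.card A₀ = p →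
          ¬ (Subgroup.normalizer (A₀ : Set G) ≤ M ∧ ∀ L : Subgroup G, IsCoatom L →
            Subgroup.normalizer (A₀ : Set G) ≤ L → L = M))
  · exact ⟨(main hyp).2, fun _ => (main hyp).1⟩
  · refine ⟨?_, fun h => absurd h hyp⟩
    push Not at hyp
    obtain ⟨A₀, h1, h2, h3, -⟩ := hyp
    exact ((Subgroup.centralizer_le (by exact_mod_cast h1)).trans
      (Subgroup.centralizer_le_normalizer _)).trans h3

end Cfsg.Agent.Lib.Helper8.BGTen
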