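import Mathlib
import Cfsg.Agent.Lib.Helper8.BGTw4C
import Cfsg.Agent.Lib.Helper4.BG11E
import Cfsg.Agent.Lib.helper3.BG11D

/-!
# Proposition 12.4 (S1416) from the hypotheses (c), (β) in the `ExcTriple` form
-/

set_option autoImplicit false
set_option linter.unusedVariables false
set_option linter.unusedSectionVars false

namespace Cfsg.Agent.Lib.Helper8.BGTen

open Cfsg

universe u

variable {G : Type u} [Group G] [Finite G]

/-- (★), proved by helper3 -/
theorem hypStar (hG : Cfsg.IsMinSimpleOddOrder G) : HypStar G :=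
  fun M B r _ hM hr hBM hBe hB2 => Cfsg.Agent.Lib.helper3.BG11.star hG hM hr hBM hBe hB2

theorem hypC_of (h : Cfsg.Agent.Lib.Helper4.BG11E.HypC G) : HypC G :=
  fun M A A₀ p _ hM hp hAM hAe hAc hA₀ hA₀c hN =>
    h M A A₀ p ⟨hM, hp, hAM, hAe, hAc, hA₀, hA₀c, hN⟩

theorem hypBeta_of (h : Cfsg.Agent.Lib.Helper4.BG11E.HypBeta G) : HypBeta G :=
  fun M A A₀ p _ hM hp hAM hAe hAc hA₀ hA₀c hN =>
    h M A A₀ p ⟨hM, hp, hAM, hAe, hAc, hA₀, hA₀c, hN⟩

/-- the statement of S1416 from (c) and (β) in the `ExcTriple` form -/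
theorem hyp1416_of (hG : Cfsg.IsMinSimpleOddOrder G) (hC : Cfsg.Agent.Lib.Helper4.BG11E.HypC G)
    (hB : Cfsg.Agent.Lib.Helper4.BG11E.HypBeta G) : Cfsg.Agent.Lib.Helper4.BG11E.Hyp1416 G :=
  fun M hM p _ A hA => s1416 hG (hypC_of hC) (hypBeta_of hB) (hypStar hG) M hM p A hA

end Cfsg.Agent.Lib.Helper8.BGTen
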