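import Mathlib
import Cfsg.Agent.Lib.Helper8.BGTw4C
import Cfsg.Agent.H2.BG12.B
import Cfsg.Agent.H1.CyclicSub

/-!
# Bender–Glauberman Lemma 12.14 (S1424), conditional on the statement of S1416
-/

set_option autoImplicit false
set_option linter.unusedVariables false
set_option linter.unusedSectionVars false
set_option linter.style.haveILetI false
set_option maxHeartbeats 1000000

namespace Cfsg.Agent.Lib.Helper8.BGTen

open Cfsg Cfsg.Agent.Lib.Helper7

universe u

variable {G : Type u} [Group G] [Finite G]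

/-- a Sylow `q`-subgroup `S` of `D`, contained in a `q`-group `T` with `N_T(S) ≤ D`, equals `T` -/
theorem eq_of_sylIn_of_normalizer_le {q : ℕ} [Fact q.Prime] {S T D : Subgroup G}
    (hS : IsSylowIn q S D) (hT : IsPGroup q ↥T) (hST : S ≤ T)
    (hN : T ⊓ Subgroup.normalizer (S : Set G) ≤ D) : S = T := by
  by_contra hne
  obtain ⟨t, htT, htN, htS⟩ := exists_mem_normalizer_not_mem hT hST hne
  have h1 : T ⊓ Subgroup.normalizer (S : Set G) = S :=
    sylIn_eq_of_le hS hN (hT.to_inf_left) (le_inf hST Subgroup.le_normalizer)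
  apply htS
  rw [← h1]
  exact ⟨htT, htN⟩

/-- every subgroup of a cyclic subgroup `S` is normalized by `N_G(S)` -/
theorem normalizer_le_normalizer_of_isCyclic {S X : Subgroup G} (hc : IsCyclic ↥S) (hXS : X ≤ S) :
    Subgroup.normalizer (S : Set G) ≤ Subgroup.normalizer (X : Set G) := by
  intro g hg
  apply mem_normalizer_of_cj_eq
  have h1 : cj g X ≤ S := by
    have := cj_mono g hXS
    rwa [cj_eq_of_mem_normalizer hg] at this
  have h2 : (cj g X).subgroupOf S = X.subgroupOf S := by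
    apply Cfsg.Agent.H1.eq_of_card_eq_of_isCyclic
    rw [card_subgroupOf_of_le h1, card_subgroupOf_of_le hXS, card_cj]
  have h3 := congrArg (Subgroup.map S.subtype) h2
  rwa [Subgroup.map_subgroupOf_eq_of_le h1, Subgroup.map_subgroupOf_eq_of_le hXS] at h3

/-- **Lemma 12.14** (the statement of S1424), conditional on the statement of S1416 -/
theorem s1424 (hG : Cfsg.IsMinSimpleOddOrder G) (h16 : Cfsg.Agent.H2.BG12.St1416 G)
    (M : Subgroup G) (hM : IsCoatom M) (q : ℕ) [hqf : Fact q.Prime] (hq : q ∈ Cfsg.sigma M)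
    (X : Subgroup G) (hXq : IsPGroup q X) (hX1 : X ≠ ⊥) (hXM : X ≤ M)
    (Mstar : Subgroup G) (hMs : IsCoatom Mstar) (hne : Mstar ≠ M)
    (hNX : Subgroup.normalizer (X : Set G) ≤ Mstar)
    (S : Sylow q ↥(M ⊓ Mstar))
    (hXS : X ≤ (S : Subgroup ↥(M ⊓ Mstar)).map (M ⊓ Mstar).subtype) :
    (∀ g : G, Mstar ≠ M.map (MulAut.conj g).toMonoidHom) ∧
      Subgroup.normalizer (((S : Subgroup ↥(M ⊓ Mstar)).map (M ⊓ Mstar).subtype : Subgroup G) :
        Set G) ≤ M ∧
      ¬ q ∣ ((S : Subgroup ↥(M ⊓ Mstar)).map (M ⊓ Mstar).subtype).relIndex Mstar := by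
  have hU := uniq hG
  refine ⟨?_, ?_⟩
  · intro g hg
    have h1 : cj g⁻¹ Mstar = M := by
      rw [hg]
      exact cj_inv_cj g M
    exact hne (eq_of_cj_eq_of_sigma hG hM hq hXM hXq hX1 hNX h1)
  have hSg : IsSylowIn q ((S : Subgroup ↥(M ⊓ Mstar)).map (M ⊓ Mstar).subtype) (M ⊓ Mstar) :=
    IsSylowIn.of_sylow S
  set Sg : Subgroup G := (S : Subgroup ↥(M ⊓ Mstar)).map (M ⊓ Mstar).subtype with hSgdef
  obtain ⟨Q, hQ, hSQ⟩ := exists_isSylowIn_ge hSg.isPGroup (hSg.1.trans inf_le_left)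
  by_cases hc : IsCyclic ↥Sg
  · have hNN := normalizer_le_normalizer_of_isCyclic hc hXS
    have hSQeq : Sg = Q := eq_of_sylIn_of_normalizer_le hSg hQ.isPGroup hSQ
      (le_inf (inf_le_left.trans hQ.1) (inf_le_right.trans (hNN.trans hNX)))
    have hQtop := sigma_sylow_top hq hQ
    refine ⟨by rw [hSQeq]; exact sigma_normalizer_le hq hQ, ?_⟩
    obtain ⟨T, hT, hST⟩ := exists_isSylowIn_ge hSg.isPGroup (hSg.1.trans inf_le_right)
    have hTQ : T = Q := sylIn_eq_of_le hQtop le_top hT.isPGroup (hSQeq ▸ hST)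
    rw [hSQeq, ← hTQ]
    exact not_dvd_relIndex_of_sylIn hT
  · have hN : Subgroup.normalizer (Sg : Set G) ≤ M :=
      Cfsg.Agent.H2.BG12.part_c hG h16 hM q Sg hq hSg.isPGroup (hSg.1.trans inf_le_left) hc
    obtain ⟨T, hT, hST⟩ := exists_isSylowIn_ge hSg.isPGroup (hSg.1.trans inf_le_right)
    have hST' : Sg = T := eq_of_sylIn_of_normalizer_le hSg hT.isPGroup hST
      (le_inf (inf_le_right.trans hN) (inf_le_left.trans hT.1))
    refine ⟨hN, ?_⟩
    rw [hST']
    exact not_dvd_relIndex_of_sylIn hT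

end Cfsg.Agent.Lib.Helper8.BGTen
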