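import Mathlib
import Cfsg.Agent.Lib.Helper4.BG1218H

/-!
Bender–Glauberman Lemma 12.18 (S1428), helper8: Step Z of the lead blueprint (Part 13), from a
generalized Shult lemma taken as a hypothesis shape `HypLemA` (helper1's Lemma A).
-/

set_option autoImplicit false
set_option linter.unusedSectionVars false
set_option linter.unusedVariables false
set_option linter.style.haveILetI false
set_option maxHeartbeats 1000000
open Cfsg
open scoped commutatorElement Pointwise

namespace Cfsg.Agent.Lib.Helper8.BGTen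

open Cfsg.Agent.Lib.Helper7 (IsSylowIn exists_isSylowIn_ge card_subgroupOf_of_le)
open Cfsg.Agent.Lib.Helper4.BG1218 (Resid0 Resid)

universe u

/-- the shape of helper1's Lemma A (generalized Shult lemma): `y` of prime order `r` normalizing
`T` and `Q`, `T` normalizing `Q`, coprime orders, solvable of odd order; if `T` centralizes
`C_Q(y)` then `[T, ⟨y⟩]` centralizes `Q`. -/
def HypLemA (G : Type u) [Group G] : Prop :=
  ∀ (Q T : Subgroup G) (y : G) (r : ℕ), r.Prime → y ^ r = 1 →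
    T ≤ Subgroup.normalizer (Q : Set G) → y ∈ Subgroup.normalizer (Q : Set G) →
    y ∈ Subgroup.normalizer (T : Set G) →
    Group.IsSolvable ↥(Q ⊔ T ⊔ Subgroup.zpowers y) →
    Odd (Nat.card ↥(Q ⊔ T ⊔ Subgroup.zpowers y)) →
    r.Coprime (Nat.card ↥Q) → r.Coprime (Nat.card ↥T) → (Nat.card ↥T).Coprime (Nat.card ↥Q) →
    Q ⊓ Subgroup.centralizer ((Subgroup.zpowers y : Subgroup G) : Set G) ≤
      Subgroup.centralizer (T : Set G) →
    ⁅T, Subgroup.zpowers y⁆ ≤ Subgroup.centralizer (Q : Set G)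

variable {G : Type u} [Group G] [Finite G]

/-- **Step Z**: `Resid(M,P,R)` and `C_{M_α}(R) ≤ C(P)` are contradictory. -/
theorem stepZ (hG : Cfsg.IsMinSimpleOddOrder G) (hA : HypLemA G) {M P R : Subgroup G}
    (hM : IsCoatom M) (hRM : R ≤ M) (h : Resid M P R)
    (hRP : Cfsg.alphaCore M ⊓ Subgroup.centralizer (R : Set G) ≤
      Subgroup.centralizer (P : Set G)) : False := by
  obtain ⟨hrτ, hα1, -, L, t, htf, T, hL, hLM, htα, hTp, hTσ, hRT, hT1, hCL, hTZ⟩ := h
  haveI := htf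
  obtain ⟨hrp, hrσ, -, -, -⟩ := hrτ
  obtain ⟨r, hrdef⟩ : ∃ r : ℕ, r = Nat.card ↥R := ⟨_, rfl⟩
  rw [← hrdef] at hrp hrσ
  haveI hrf : Fact r.Prime := ⟨hrp⟩
  have hU := uniq hG
  have hrα : r ∉ Cfsg.alpha M := fun h => hrσ (alpha_subset_sigma hG hU hM h)
  -- a generator of `R`
  haveI : IsCyclic ↥R := isCyclic_of_prime_card hrdef.symm
  obtain ⟨⟨y, hyR⟩, hy⟩ := IsCyclic.exists_generator (α := ↥R)
  have hRy : Subgroup.zpowers y = R := by
    apply le_antisymm (Subgroup.zpowers_le.mpr hyR)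
    intro x hx
    obtain ⟨k, hk⟩ := Subgroup.mem_zpowers_iff.mp (hy ⟨x, hx⟩)
    have : y ^ k = x := by
      have := congrArg Subtype.val hk
      simpa using this
    rw [← this]
    exact Subgroup.zpow_mem_zpowers y k
  have hyr : y ^ r = 1 := by
    have h1 : (⟨y, hyR⟩ : ↥R) ^ Nat.card ↥R = 1 := pow_card_eq_one'
    rw [← hrdef] at h1
    have := congrArg Subtype.val h1
    simpa using this
  set Q : Subgroup G := Cfsg.alphaCore M with hQ
  have hQM : Q ≤ M := alphaCore_le M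
  have hTM : T ≤ M := hTσ.trans (Cfsg.Agent.H2.BG11.sigmaCore_le M)
  have hTQ : T ≤ Subgroup.normalizer (Q : Set G) := hTM.trans (le_normalizer_alphaCore M)
  have hyQ : y ∈ Subgroup.normalizer (Q : Set G) := le_normalizer_alphaCore M (hRM hyR)
  have hyT : y ∈ Subgroup.normalizer (T : Set G) := hRT hyR
  have hle : Q ⊔ T ⊔ Subgroup.zpowers y ≤ M := by
    rw [hRy]
    exact sup_le (sup_le hQM hTM) hRM
  haveI : Group.IsSolvable ↥M := hG.2.2.2 M hM.1
  have hsolv : Group.IsSolvable ↥(Q ⊔ T ⊔ Subgroup.zpowers y) :=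
    Group.isSolvable_of_isSolvable_injective (Subgroup.inclusion_injective hle)
  have hodd := odd_card_subgroup hG (Q ⊔ T ⊔ Subgroup.zpowers y)
  have hrQ : r.Coprime (Nat.card ↥Q) := by
    rw [Nat.Prime.coprime_iff_not_dvd hrp]
    intro h
    exact hrα (mem_alpha_of_dvd_alphaCore M hrp h)
  have hT1' : T ≠ ⊥ := by
    intro h
    apply hT1
    rw [eq_bot_iff]
    exact (commutator_le_left_of_le_normalizer hRT).trans (le_of_eq h)
  obtain ⟨k, hk⟩ := hTp.exists_card_eq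
  have htσ : t ∈ Cfsg.sigma M := by
    apply Cfsg.Agent.H2.BG11.mem_sigma_of_dvd_sigmaCore hG hM htf.out
    refine Dvd.dvd.trans ?_ (Subgroup.card_dvd_of_le hTσ)
    rw [hk]
    have hk0 : k ≠ 0 := by
      intro h0
      rw [h0, pow_zero] at hk
      exact hT1' (Subgroup.card_eq_one.mp hk)
    exact dvd_pow_self t hk0
  have hrt : r ≠ t := fun h => hrσ (h ▸ htσ)
  have hrT : r.Coprime (Nat.card ↥T) := by
    rw [hk]
    apply Nat.Coprime.pow_right
    exact (Nat.coprime_primes hrp htf.out).mpr hrt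
  have hTQc : (Nat.card ↥T).Coprime (Nat.card ↥Q) := by
    rw [hk]
    apply Nat.Coprime.pow_left
    rw [Nat.Prime.coprime_iff_not_dvd htf.out]
    intro h
    exact htα (mem_alpha_of_dvd_alphaCore M htf.out h)
  have hfix : Q ⊓ Subgroup.centralizer ((Subgroup.zpowers y : Subgroup G) : Set G) ≤
      Subgroup.centralizer (T : Set G) := by
    rw [hRy]
    intro x hx
    have h1 : x ∈ Q ⊓ Subgroup.centralizer (P : Set G) := ⟨hx.1, hRP hx⟩
    rw [Subgroup.mem_centralizer_iff]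
    intro z hz
    exact ((Subgroup.mem_centralizer_iff.mp (hTZ hz)) x h1).symm
  have hconc := hA Q T y r hrp hyr hTQ hyQ hyT hsolv hodd hrQ hrT hTQc hfix
  rw [hRy] at hconc
  -- `M_α ≤ C_G([T,R]) ≤ L`
  have hQL : Q ≤ L := by
    refine le_trans ?_ hCL
    intro x hx
    rw [Subgroup.mem_centralizer_iff]
    intro z hz
    exact ((Subgroup.mem_centralizer_iff.mp (hconc hz)) x hx).symm
  -- `M_α` has rank ≥ 3
  have hQcard : Nat.card ↥Q ≠ 1 := fun h => hα1 (Subgroup.card_eq_one.mp h)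
  obtain ⟨s, hs, hsd⟩ := Nat.exists_prime_and_dvd hQcard
  haveI : Fact s.Prime := ⟨hs⟩
  have hsα : s ∈ Cfsg.alpha M := mem_alpha_of_dvd_alphaCore M hs hsd
  obtain ⟨S0⟩ : Nonempty (Sylow s ↥M) := inferInstance
  have hS : IsSylowIn s ((S0 : Subgroup M).map M.subtype) M := IsSylowIn.of_sylow S0
  obtain ⟨S, hSdef⟩ : ∃ S : Subgroup G, S = (S0 : Subgroup M).map M.subtype := ⟨_, rfl⟩
  rw [← hSdef] at hS
  have hSrk : ¬ Cfsg.PRankLE s 2 ↥S := not_pRankLE_sylowIn hS hsα.2
  have hSQ : S ≤ Q :=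
    Cfsg.Agent.Lib.Helper4.BG1218.le_alphaCore_of_pgroup hG hM hsα hS.1 hS.isPGroup
  have hQrk : ¬ Cfsg.PRankLE s 2 ↥Q := fun h =>
    hSrk (Cfsg.Agent.Lib.Helper4.Rank2Fit.pRankLE_of_le hSQ h)
  have hQtop : Q ≠ ⊤ := ne_top_of_le_coatom hM hQM
  have hu := inUniqueMaximal_of_rank_three hU hs hQtop hQrk
  exact hLM (Cfsg.Agent.Lib.Helper4.BGUniq.le_of_inUniqueMaximal hu hL hQL hM hQM)

end Cfsg.Agent.Lib.Helper8.BGTen
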