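import Mathlib
import Cfsg.Agent.Lib.Helper8.BGTw14A
import Cfsg.Agent.S0055

/-!
# Bender–Glauberman Lemma 12.16 (S1426): general group-theoretic lemmas
-/

set_option autoImplicit false
set_option linter.unusedVariables false
set_option linter.unusedSectionVars false
set_option linter.style.haveILetI false
set_option maxHeartbeats 1000000

namespace Cfsg.Agent.Lib.Helper8.BGTen

open Cfsg Cfsg.Agent.Lib.Helper7
open scoped commutatorElement

universe u

/-- if `H = E N` is solvable with `N ⊴ H`, `E ∩ N = 1` and `N ≤ H'`, then `[N, E] = N` -/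
theorem commutator_eq_of_le_commutator {H : Type*} [Group H] [Finite H] [hs : Group.IsSolvable H]
    (N E : Subgroup H) [hNn : N.Normal] (hdisj : E ⊓ N = ⊥)
    (hprod : ∀ m : H, ∃ a ∈ E, ∃ b ∈ N, m = a * b) (hN : N ≤ _root_.commutator H) :
    ⁅N, E⁆ = N := by
  set K : Subgroup H := ⁅N, E⁆ with hK
  have hKN : K ≤ N := Subgroup.commutator_le_left N E
  have hKn : K.Normal := by
    rw [← Subgroup.normalizer_eq_top_iff, eq_top_iff]
    intro m _
    obtain ⟨a, ha, b, hb, rfl⟩ := hprod m
    exact Subgroup.mul_mem _ (Subgroup.normalizer_commutator_ge_right N E ha)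
      (Subgroup.normalizer_commutator_ge_left N E hb)
  set L : Subgroup H := E ⊔ K with hL
  have hLn : L.Normal := by
    rw [← Subgroup.normalizer_eq_top_iff, eq_top_iff]
    intro m _
    obtain ⟨a, ha, b, hb, rfl⟩ := hprod m
    apply Subgroup.mul_mem
    · exact Subgroup.le_normalizer ((le_sup_left : E ≤ L) ha)
    · apply mem_normalizer_of_cj_eq
      have h1 : cj b L ≤ L := by
        rw [hL]
        show Subgroup.map (MulAut.conj b).toMonoidHom (E ⊔ K) ≤ E ⊔ K
        rw [Subgroup.map_sup]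
        apply sup_le
        · rintro _ ⟨e, he, rfl⟩
          show b * e * b⁻¹ ∈ E ⊔ K
          have : b * e * b⁻¹ = ⁅b, e⁆ * e := by rw [commutatorElement_def]; group
          rw [this]
          exact Subgroup.mul_mem _
            ((le_sup_right : K ≤ E ⊔ K) (Subgroup.commutator_mem_commutator hb he))
            ((le_sup_left : E ≤ E ⊔ K) he)
        · rintro _ ⟨k, hk, rfl⟩
          show b * k * b⁻¹ ∈ E ⊔ K
          exact (le_sup_right : K ≤ E ⊔ K) (hKn.conj_mem k hk b)
      exact Subgroup.eq_of_le_of_card_ge h1 (by rw [card_cj])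
  -- the quotient by `L` is perfect and solvable, hence trivial
  have hLtop : L = ⊤ := by
    by_contra hne
    haveI : Nontrivial (H ⧸ L) := by
      rw [← not_subsingleton_iff_nontrivial]
      intro hsub
      exact hne (QuotientGroup.subgroup_eq_top_of_subsingleton L hsub)
    have hlt := Group.IsSolvable.commutator_lt_top_of_nontrivial (G := H ⧸ L)
    apply hlt.ne
    rw [eq_top_iff]
    intro x _
    obtain ⟨m, rfl⟩ := QuotientGroup.mk_surjective x
    obtain ⟨a, ha, b, hb, rfl⟩ := hprod m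
    have h1 : ((a * b : H) : H ⧸ L) = (b : H ⧸ L) := by
      rw [QuotientGroup.mk_mul, (QuotientGroup.eq_one_iff a).mpr ((le_sup_left : E ≤ L) ha),
        one_mul]
    rw [h1]
    have hb' : b ∈ _root_.commutator H := hN hb
    have h2 := Subgroup.mem_map_of_mem (QuotientGroup.mk' L) hb'
    rw [map_commutator_eq, MonoidHom.range_eq_top.mpr (QuotientGroup.mk'_surjective L)] at h2
    rw [_root_.commutator_def]
    exact h2
  apply le_antisymm hKN
  intro n hn
  have h3 : n ∈ E ⊔ K := by rw [← hL, hLtop]; trivial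
  obtain ⟨e, he, k, hk, hek⟩ := Subgroup.mem_sup_of_normal_right.mp h3
  have he' : e ∈ N := by
    have : e = n * k⁻¹ := by rw [← hek]; group
    rw [this]
    exact N.mul_mem hn (N.inv_mem (hKN hk))
  have he1 : e = 1 := by
    have : e ∈ E ⊓ N := ⟨he, he'⟩
    rw [hdisj] at this
    exact Subgroup.mem_bot.mp this
  rw [← hek, he1, one_mul]
  exact hk

/-- under a coprime action with `[N, E] = N`, the fixed points of `E` on `N` lie in `N'` -/
theorem inf_centralizer_le_commutator {H : Type*} [Group H] [Finite H] (N E : Subgroup H)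
    [hNn : N.Normal] (hcop : (Nat.card ↥E).Coprime (Nat.card ↥N)) (hNE : ⁅N, E⁆ = N) :
    N ⊓ Subgroup.centralizer (E : Set H) ≤ ⁅N, N⁆ := by
  haveI hD : (⁅N, N⁆ : Subgroup H).Normal := Subgroup.commutator_normal N N
  set φ := QuotientGroup.mk' (⁅N, N⁆ : Subgroup H) with hφ
  set V := N.map φ with hV
  set A := E.map φ with hA
  haveI hVc : IsMulCommutative ↥V := by
    refine ⟨⟨?_⟩⟩
    rintro ⟨_, x, hx, rfl⟩ ⟨_, y, hy, rfl⟩
    apply Subtype.ext
    show φ x * φ y = φ y * φ x
    rw [← map_mul, ← map_mul]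
    apply (QuotientGroup.eq).mpr
    have : (x * y)⁻¹ * (y * x) = ⁅y⁻¹, x⁻¹⁆ := by rw [commutatorElement_def]; group
    rw [this]
    exact Subgroup.commutator_mem_commutator (N.inv_mem hy) (N.inv_mem hx)
  haveI hVn : V.Normal := hNn.map φ (QuotientGroup.mk'_surjective _)
  have hAV : A ≤ Subgroup.normalizer (V : Set (H ⧸ (⁅N, N⁆ : Subgroup H))) := by
    rw [Subgroup.normalizer_eq_top]
    exact le_top
  have hcop' : (Nat.card ↥A).Coprime (Nat.card ↥V) :=
    Nat.Coprime.coprime_dvd_left (Subgroup.card_map_dvd E φ)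
      (Nat.Coprime.coprime_dvd_right (Subgroup.card_map_dvd N φ) hcop)
  obtain ⟨h1, -⟩ := Cfsg.Agent.S0055.result A V hAV hcop'
  have hVA : ⁅V, A⁆ = V := by rw [hV, hA, ← Subgroup.map_commutator, hNE]
  rw [hVA] at h1
  intro c hc
  have hc1 : φ c ∈ V := Subgroup.mem_map_of_mem φ hc.1
  have hc2 : φ c ∈ Subgroup.centralizer (A : Set (H ⧸ (⁅N, N⁆ : Subgroup H))) := by
    rw [Subgroup.mem_centralizer_iff]
    rintro _ ⟨e, he, rfl⟩
    show φ e * φ c = φ c * φ e
    rw [← map_mul, ← map_mul, (Subgroup.mem_centralizer_iff.mp hc.2) e he]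
  have h2 : φ c ∈ (V ⊓ Subgroup.centralizer (A : Set (H ⧸ (⁅N, N⁆ : Subgroup H)))) ⊓ V :=
    ⟨⟨hc1, hc2⟩, hc1⟩
  rw [h1, Subgroup.mem_bot] at h2
  exact (QuotientGroup.eq_one_iff c).mp h2

/-- a finite commutative group with cyclic Sylow subgroups is cyclic -/
theorem isCyclic_of_sylow_cyclic {D : Type*} [Group D] [Finite D] (hc : ∀ a b : D, a * b = b * a)
    (hS : ∀ (q : ℕ) [Fact q.Prime] (P : Sylow q D), IsCyclic ↥(P : Subgroup D)) : IsCyclic D := by
  letI : CommGroup D := { (inferInstance : Group D) with mul_comm := hc }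
  apply IsCyclic.of_exponent_eq_card
  apply Nat.dvd_antisymm Group.exponent_dvd_nat_card
  have hexp0 : Monoid.exponent D ≠ 0 := Monoid.exponent_ne_zero_of_finite
  rw [← Nat.factorization_prime_le_iff_dvd Nat.card_pos.ne' hexp0]
  intro q hq
  haveI : Fact q.Prime := ⟨hq⟩
  obtain ⟨P⟩ : Nonempty (Sylow q D) := inferInstance
  obtain ⟨g, hg⟩ := (hS q P).exists_generator
  have h1 : orderOf g = Nat.card ↥(P : Subgroup D) := orderOf_eq_card_of_forall_mem_zpowers hg
  rw [P.card_eq_multiplicity, ← Subgroup.orderOf_coe] at h1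
  have h2 : q ^ (Nat.card D).factorization q ∣ Monoid.exponent D := by
    rw [← h1]
    exact Monoid.order_dvd_exponent _
  exact (hq.pow_dvd_iff_le_factorization hexp0).mp h2

end Cfsg.Agent.Lib.Helper8.BGTen
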