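import Mathlib
import Cfsg.Agent.Lib.Helper8.BGTw16A
import Cfsg.Agent.H2.BG12.B

/-!
# Bender–Glauberman Lemma 12.16 (S1426), conditional on the statements of S1416 and S1423
-/

set_option autoImplicit false
set_option linter.unusedVariables false
set_option linter.unusedSectionVars false
set_option linter.style.haveILetI false
set_option maxHeartbeats 1000000

namespace Cfsg.Agent.Lib.Helper8.BGTen

open Cfsg Cfsg.Agent.Lib.Helper7
open scoped commutatorElement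

universe u

/-- the frozen statement of S1423 (for a fixed group `G`) -/
def St1423 (G : Type u) [Group G] [Finite G] : Prop :=
  ∀ (M : Subgroup G), IsCoatom M → ∀ (p : ℕ) [Fact p.Prime], p ∈ Cfsg.sigma M →
    ∀ (X : Subgroup G), X ≤ M → Nat.card X = p → ∀ (P : Sylow p ↥(Cfsg.sigmaCore M)),
    (p ∈ Cfsg.beta M ∨ X ≤ ⁅Cfsg.sigmaCore M, Cfsg.sigmaCore M⁆) →
    (Subgroup.centralizer (X : Set G) ≤ M ∧ ∀ L : Subgroup G, IsCoatom L →
        Subgroup.centralizer (X : Set G) ≤ L → L = M) ∧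
      Cfsg.InUniqueMaximal ((P : Subgroup ↥(Cfsg.sigmaCore M)).map (Cfsg.sigmaCore M).subtype) ∧
      (P : Subgroup ↥(Cfsg.sigmaCore M)).map (Cfsg.sigmaCore M).subtype ≤ M

variable {G : Type u} [Group G] [Finite G]

/-- if `q ∈ σ(M)`, `X` is a nontrivial `q`-subgroup of `M ∩ gMg⁻¹` and `C_G(X) ≤ M`, then `g ∈ M` -/
theorem mem_of_ctl_of_centralizer_le (hG : Cfsg.IsMinSimpleOddOrder G) {M : Subgroup G}
    (hM : IsCoatom M) {q : ℕ} [hqf : Fact q.Prime] (hq : q ∈ Cfsg.sigma M) {X : Subgroup G}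
    (hXM : X ≤ M) (hXq : IsPGroup q ↥X) (hX1 : X ≠ ⊥) {g : G} (hXg : X ≤ cj g M)
    (hC : Subgroup.centralizer (X : Set G) ≤ M) : g ∈ M := by
  have hU := uniq hG
  have h1 : cj g⁻¹ X ≤ M := by
    rw [cj_le_iff, inv_inv]
    exact hXg
  obtain ⟨m, hm, c, hc, hgmc⟩ := ctl_of_sigma hG hU hM hq X hXM hXq hX1 g⁻¹ h1
  have h2 : g⁻¹ ∈ M := by
    rw [hgmc]
    exact M.mul_mem hm (hC hc)
  have := M.inv_mem h2
  rwa [inv_inv] at this

/-- **Lemma 12.16** (the statement of S1426), conditional on the statements of S1416 and S1423 -/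
theorem s1426 (hG : Cfsg.IsMinSimpleOddOrder G) (h16 : Cfsg.Agent.H2.BG12.St1416 G)
    (h23 : St1423 G) (M : Subgroup G) (hM : IsCoatom M) (E : Subgroup G)
    (hE : Cfsg.IsComplIn E (Cfsg.sigmaCore M) M) :
    Cfsg.sigmaCore M ⊓ Subgroup.centralizer (E : Set G) ≤ ⁅Cfsg.sigmaCore M, Cfsg.sigmaCore M⁆ ∧
      ⁅Cfsg.sigmaCore M, E⁆ = Cfsg.sigmaCore M ∧
      ∀ g : G, g ∉ M → IsCyclic ↥(Cfsg.sigmaCore M ⊓ M.map (MulAut.conj g).toMonoidHom) ∧
        (∀ p : ℕ, p.Prime →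
          p ∣ Nat.card ↥(Cfsg.sigmaCore M ⊓ M.map (MulAut.conj g).toMonoidHom) → p ∉ Cfsg.beta M) ∧
        Cfsg.sigmaCore M ⊓ M.map (MulAut.conj g).toMonoidHom ⊓
          ⁅Cfsg.sigmaCore M, Cfsg.sigmaCore M⁆ = ⊥ := by
  have hU := uniq hG
  obtain ⟨hEM, hNM, hEN, hEprod⟩ := hE
  have hE' : Cfsg.IsComplIn E (Cfsg.sigmaCore M) M := ⟨hEM, hNM, hEN, hEprod⟩
  haveI hsolv : Group.IsSolvable ↥M := hG.2.2.2 M hM.1
  set N' : Subgroup ↥M := Cfsg.piCore (Cfsg.sigma M) ↥M with hN'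
  have hNdef : Cfsg.sigmaCore M = N'.map M.subtype := rfl
  set E' : Subgroup ↥M := E.subgroupOf M with hE'def
  have hEmap : E'.map M.subtype = E := Subgroup.map_subgroupOf_eq_of_le hEM
  -- (b) inside `M`
  have hdisj : E' ⊓ N' = ⊥ := by
    rw [eq_bot_iff]
    intro x hx
    have h1 : (x : G) ∈ E ⊓ Cfsg.sigmaCore M :=
      ⟨Subgroup.mem_subgroupOf.mp hx.1, ⟨x, hx.2, rfl⟩⟩
    rw [hEN, Subgroup.mem_bot] at h1
    rw [Subgroup.mem_bot]
    exact Subtype.ext h1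
  have hprod : ∀ m : ↥M, ∃ a ∈ E', ∃ b ∈ N', m = a * b := by
    intro m
    obtain ⟨a, ha, b, hb, hab⟩ := hEprod m.1 m.2
    obtain ⟨b', hb', rfl⟩ := hb
    refine ⟨⟨a, hEM ha⟩, Subgroup.mem_subgroupOf.mpr ha, b', hb', ?_⟩
    apply Subtype.ext
    exact hab
  have hNc : N' ≤ _root_.commutator ↥M := piCore_le_commutator hG hU hM (Cfsg.sigma M) (fun q h => h)
  have hb' : ⁅N', E'⁆ = N' := commutator_eq_of_le_commutator N' E' hdisj hprod hNc
  have hb : ⁅Cfsg.sigmaCore M, E⁆ = Cfsg.sigmaCore M := by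
    rw [hNdef]
    nth_rewrite 1 [← hEmap]
    rw [← Subgroup.map_commutator, hb']
  -- (a)
  have hcop : (Nat.card ↥E').Coprime (Nat.card ↥N') := by
    have h1 := Cfsg.Agent.H2.BG12.coprime_compl hG hM hE'
    rw [hNdef, card_map_subtype', ← card_subgroupOf_of_le hEM] at h1
    exact h1
  have ha' := inf_centralizer_le_commutator N' E' hcop hb'
  have ha : Cfsg.sigmaCore M ⊓ Subgroup.centralizer (E : Set G) ≤
      ⁅Cfsg.sigmaCore M, Cfsg.sigmaCore M⁆ := by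
    intro y hy
    obtain ⟨hy1, hy2⟩ := Subgroup.mem_inf.mp hy
    rw [hNdef] at hy1
    obtain ⟨y', hy', rfl⟩ := Subgroup.mem_map.mp hy1
    have h1 : y' ∈ N' ⊓ Subgroup.centralizer (E' : Set ↥M) := by
      rw [Subgroup.mem_inf]
      refine ⟨hy', ?_⟩
      rw [Subgroup.mem_centralizer_iff]
      intro e he
      apply Subtype.ext
      exact (Subgroup.mem_centralizer_iff.mp hy2) e.1 (Subgroup.mem_subgroupOf.mp he)
    have h2 := ha' h1
    rw [hNdef, ← Subgroup.map_commutator]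
    exact ⟨y', h2, rfl⟩
  refine ⟨ha, hb, ?_⟩
  -- (c)
  intro g hg
  set D : Subgroup G := Cfsg.sigmaCore M ⊓ M.map (MulAut.conj g).toMonoidHom with hD
  have hDN : D ≤ Cfsg.sigmaCore M := inf_le_left
  have hDg : D ≤ cj g M := inf_le_right
  have hDM : D ≤ M := hDN.trans hNM
  have key : ∀ (q : ℕ) (X : Subgroup G), q.Prime → X ≤ D → Nat.card ↥X = q →
      ¬ (q ∈ Cfsg.beta M ∨ X ≤ ⁅Cfsg.sigmaCore M, Cfsg.sigmaCore M⁆) := by
    intro q X hq hXD hXc hor
    haveI : Fact q.Prime := ⟨hq⟩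
    have hqσ : q ∈ Cfsg.sigma M := by
      apply Cfsg.Agent.H2.BG11.mem_sigma_of_dvd_sigmaCore hG hM hq
      rw [← hXc]
      exact Subgroup.card_dvd_of_le (hXD.trans hDN)
    have hXq : IsPGroup q ↥X := IsPGroup.of_card (n := 1) (by rw [hXc, pow_one])
    have hX1 : X ≠ ⊥ := by
      intro h
      rw [h, Subgroup.card_bot] at hXc
      exact hq.one_lt.ne hXc
    obtain ⟨P⟩ : Nonempty (Sylow q ↥(Cfsg.sigmaCore M)) := inferInstance
    obtain ⟨⟨hC, -⟩, -, -⟩ := h23 M hM q hqσ X (hXD.trans hDM) hXc P hor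
    exact hg (mem_of_ctl_of_centralizer_le hG hM hqσ (hXD.trans hDM) hXq hX1 (hXD.trans hDg) hC)
  -- elements of prime order
  have hprime : ∀ (q : ℕ) (K : Subgroup G), q.Prime → K ≤ D → q ∣ Nat.card ↥K →
      ∃ X : Subgroup G, X ≤ K ∧ Nat.card ↥X = q := by
    intro q K hq hKD hdvd
    haveI : Fact q.Prime := ⟨hq⟩
    obtain ⟨x, hx⟩ := exists_prime_orderOf_dvd_card' q hdvd
    refine ⟨Subgroup.zpowers (x : G), by rw [Subgroup.zpowers_le]; exact x.2, ?_⟩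
    rw [Nat.card_zpowers, Subgroup.orderOf_coe]
    exact hx
  have hc1 : ∀ p : ℕ, p.Prime → p ∣ Nat.card ↥D → p ∉ Cfsg.beta M := by
    intro p hp hdvd hβ
    obtain ⟨X, hXD, hXc⟩ := hprime p D hp le_rfl hdvd
    exact key p X hp hXD hXc (Or.inl hβ)
  have hc2 : D ⊓ ⁅Cfsg.sigmaCore M, Cfsg.sigmaCore M⁆ = ⊥ := by
    by_contra hne
    have hcard : Nat.card ↥(D ⊓ ⁅Cfsg.sigmaCore M, Cfsg.sigmaCore M⁆) ≠ 1 :=
      fun h => hne (Subgroup.card_eq_one.mp h)
    obtain ⟨q, hq, hdvd⟩ := Nat.exists_prime_and_dvd hcard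
    obtain ⟨X, hXK, hXc⟩ := hprime q _ hq inf_le_left hdvd
    exact key q X hq (hXK.trans inf_le_left) hXc (Or.inr (hXK.trans inf_le_right))
  refine ⟨?_, hc1, hc2⟩
  -- `D` is cyclic
  apply isCyclic_of_sylow_cyclic
  · intro a b
    apply Subtype.ext
    rw [Subgroup.coe_mul, Subgroup.coe_mul]
    rw [← commutatorElement_eq_one_iff_mul_comm]
    have h1 : ⁅(a : G), (b : G)⁆ ∈ D ⊓ ⁅Cfsg.sigmaCore M, Cfsg.sigmaCore M⁆ := by
      refine ⟨?_, Subgroup.commutator_mem_commutator (hDN a.2) (hDN b.2)⟩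
      rw [commutatorElement_def]
      exact D.mul_mem (D.mul_mem (D.mul_mem a.2 b.2) (D.inv_mem a.2)) (D.inv_mem b.2)
    rw [hc2, Subgroup.mem_bot] at h1
    exact h1
  · intro q hqf P
    by_contra hnc
    have hPs : IsSylowIn q ((P : Subgroup ↥D).map D.subtype) D := IsSylowIn.of_sylow P
    set Pg : Subgroup G := (P : Subgroup ↥D).map D.subtype with hPg
    have hncg : ¬ IsCyclic ↥Pg := by
      intro h
      apply hnc
      let e := (P : Subgroup ↥D).equivMapOfInjective D.subtype D.subtype_injective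
      exact isCyclic_of_surjective e.symm e.symm.surjective
    have hPg1 : Pg ≠ ⊥ := by
      intro h
      apply hncg
      rw [h]
      infer_instance
    have hPgq : IsPGroup q ↥Pg := hPs.isPGroup
    have hqσ : q ∈ Cfsg.sigma M := by
      apply Cfsg.Agent.H2.BG11.mem_sigma_of_dvd_sigmaCore hG hM hqf.out
      have h1 : q ∣ Nat.card ↥Pg := by
        rcases hPgq.card_eq_or_dvd with h | h
        · exact absurd (Subgroup.card_eq_one.mp h) hPg1
        · exact h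
      exact h1.trans (Subgroup.card_dvd_of_le (hPs.1.trans hDN))
    have hN : Subgroup.normalizer (Pg : Set G) ≤ M :=
      Cfsg.Agent.H2.BG12.part_c hG h16 hM q Pg hqσ hPgq (hPs.1.trans hDM) hncg
    exact hg (mem_of_ctl_of_centralizer_le hG hM hqσ (hPs.1.trans hDM) hPgq hPg1 (hPs.1.trans hDg)
      ((Subgroup.centralizer_le_normalizer _).trans hN))

end Cfsg.Agent.Lib.Helper8.BGTen
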