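import Mathlib
import Cfsg.Agent.Lib.Helper4.BG1218C

/-!
Bender–Glauberman Lemma 12.18 (S1428), helper8: helper4's `s1428_of` with the case (2d) hypothesis
localized to the given data `(M, E, p, P, R)` (same proof), as needed by the swap argument of the
lead blueprint, Part 13.
-/

set_option autoImplicit false
set_option linter.unusedSectionVars false
set_option linter.unusedVariables false
set_option linter.style.haveILetI false
set_option maxHeartbeats 1000000
open Cfsg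
open scoped commutatorElement Pointwise

namespace Cfsg.Agent.Lib.Helper8.BGTen

open Cfsg.Agent.Lib.Helper7 (IsSylowIn exists_isSylowIn_ge card_subgroupOf_of_le)
open Cfsg.Agent.Lib.Helper4.BGTrans
open Cfsg.Agent.Lib.helper3.BG11 Cfsg.Agent.Lib.helper3.BG12
open Cfsg.Agent.Lib.Helper4.BG1218

universe u

variable {G : Type u} [Group G] [Finite G]

/-- the statement of S1428 for a given `(M, E, p, P, R)` from the case (2d) for the same data
(helper4's `s1428_of`, with a local hypothesis; needed for the swap of Part 13) -/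
theorem s1428_local (hG : Cfsg.IsMinSimpleOddOrder G)
    (M : Subgroup G) (hM : IsCoatom M) (E : Subgroup G)
    (hE : Cfsg.IsComplIn E (Cfsg.sigmaCore M) M) (p : ℕ) (hp : p ∈ Cfsg.tau1 M)
    (P : Subgroup G) (hPE : P ≤ E) (hP : Nat.card P = p)
    (R : Subgroup G) (hRE : R ≤ E ⊓ Subgroup.centralizer (P : Set G)) (hR : (Nat.card R).Prime)
    (h2d : ∀ (L : Subgroup G), IsCoatom L → Subgroup.normalizer (P : Set G) ≤ L →
      p ∈ Cfsg.sigma L → Nat.card R ∈ Cfsg.tau1 L → Nat.card R ≠ p →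
      ⁅Cfsg.sigmaCore M ⊓ Subgroup.centralizer (P : Set G), R⁆ = ⊥) :
    Cfsg.sigmaCore M ⊓ Subgroup.centralizer (P : Set G) ≤
      Cfsg.sigmaCore M ⊓ Subgroup.centralizer (R : Set G) := by
  haveI hpf : Fact p.Prime := ⟨hp.1⟩
  obtain ⟨r, hrdef⟩ : ∃ r : ℕ, r = Nat.card ↥R := ⟨_, rfl⟩
  have hRc : Nat.card ↥R = r := hrdef.symm
  haveI hrf : Fact r.Prime := ⟨hrdef ▸ hR⟩
  obtain ⟨-, hpσ, hpM, hpM', hrk⟩ := hp
  have hEM : E ≤ M := hE.1
  have hPM : P ≤ M := hPE.trans hEM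
  have hRM : R ≤ M := (hRE.trans inf_le_left).trans hEM
  have hRCP : R ≤ Subgroup.centralizer (P : Set G) := hRE.trans inf_le_right
  have hPel := Cfsg.Agent.Lib.Helper4.BGUniq.isElementaryAbelian_of_card_prime hP
  set D : Subgroup G := Cfsg.sigmaCore M ⊓ Subgroup.centralizer (P : Set G) with hD
  -- it suffices to show `[D, R] = 1`
  suffices hcomm : ⁅D, R⁆ = ⊥ by
    refine le_inf inf_le_left ?_
    rw [Subgroup.commutator_eq_bot_iff_le_centralizer] at hcomm
    exact hcomm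
  have hDM : D ≤ Cfsg.sigmaCore M := inf_le_left
  have hDP : D ≤ Subgroup.centralizer (P : Set G) := inf_le_right
  have hRD : R ≤ Subgroup.normalizer (D : Set G) :=
    Cfsg.Agent.Lib.Helper8.BGTen.le_normalizer_inf (hRM.trans (le_normalizer_sigmaCore M))
      (hRCP.trans Subgroup.le_normalizer)
  by_cases hrp : r = p
  · -- (0): `R = P`
    have hRel := Cfsg.Agent.Lib.Helper4.BGUniq.isElementaryAbelian_of_card_prime hRc
    have hsup : Cfsg.IsElementaryAbelian p (P ⊔ R) := by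
      apply Cfsg.Agent.H2.RankTwoGraph.isElementaryAbelian_sup hPel (hrp ▸ hRel)
      intro a ha b hb
      exact (Subgroup.mem_centralizer_iff.mp (hRCP hb) a ha)
    have hle : Nat.card ↥(P ⊔ R : Subgroup G) ≤ p ^ 1 := by
      by_contra hlt
      push Not at hlt
      exact Cfsg.Agent.Lib.Helper4.BGUniq.not_pRankLE_of_le hsup (sup_le hPM hRM) hlt hrk
    rw [pow_one] at hle
    have h1 : P = P ⊔ R := Subgroup.eq_of_le_of_card_ge le_sup_left (by rw [hP]; exact hle)
    have h2 : R = P ⊔ R :=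
      Subgroup.eq_of_le_of_card_ge le_sup_right (by rw [hRc, hrp]; exact hle)
    have hRP : R = P := h2.trans h1.symm
    rw [hRP, Subgroup.commutator_eq_bot_iff_le_centralizer]
    exact hDP
  -- `r ∉ σ(M)`
  have hrσ : r ∉ Cfsg.sigma M := by
    apply Cfsg.Agent.H2.BG12.not_mem_sigma_of_dvd_compl hG hM hE hrf.out
    rw [← hRc]
    exact Subgroup.card_dvd_of_le (hRE.trans inf_le_left)
  have hDσ : ∀ q : ℕ, q.Prime → q ∣ Nat.card ↥D → q ∈ Cfsg.sigma M := fun q hq hqD =>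
    mem_sigma_of_dvd_sigmaCore hG hM hq (hqD.trans (Subgroup.card_dvd_of_le hDM))
  -- a maximal subgroup `L ⊇ N_G(P)`
  have hP1 : P ≠ ⊥ := by
    intro h0
    rw [h0, Subgroup.card_bot] at hP
    exact hpf.out.one_lt.ne hP
  have hPp : IsPGroup p ↥P := IsPGroup.of_card (n := 1) (by rw [hP, pow_one])
  have hRp : IsPGroup r ↥R := IsPGroup.of_card (n := 1) (by rw [hRc, pow_one])
  have hNt := normalizer_ne_top' hG hP1 (ne_top_of_le_coatom hM hPM)
  obtain ⟨L, hL, hNL⟩ := exists_coatom_ge hNt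
  have hLM : L ≠ M := by
    intro h
    have := (Cfsg.Agent.Lib.Helper4.BGUniq.tau2_of_normalizer_le hG (uT hG) M hM p hpσ P hP
      (h ▸ hNL)).1.2
    exact this hrk
  have hCL : Subgroup.centralizer (P : Set G) ≤ L :=
    (Subgroup.centralizer_le_normalizer _).trans hNL
  have hDL : D ≤ L := hDP.trans hCL
  have hRL : R ≤ L := hRCP.trans hCL
  by_cases hpL : p ∈ Cfsg.sigma L
  · -- (2): `p ∈ σ(L)`
    have hnc : ∀ g : G, cj g L ≠ M := by
      intro g hg
      apply hpσ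
      rw [← hg, Cfsg.Agent.H2.BG11.sigma_cj]
      exact hpL
    have hnc' : ∀ g : G, L ≠ cj g M := by
      intro g hg
      apply hnc g⁻¹
      rw [hg, cj_inv_cj]
    -- `D₁ = [D, R]` satisfies `[D₁, R] = D₁`
    have hcopRD : (Nat.card ↥R).Coprime (Nat.card ↥D) := by
      rw [hRc, Nat.Prime.coprime_iff_not_dvd hrf.out]
      intro h
      exact hrσ (hDσ r hrf.out h)
    have hsolvR : Group.IsSolvable ↥R := by
      haveI : IsCyclic ↥R := isCyclic_of_prime_card hRc
      haveI : CommGroup ↥R := IsCyclic.commGroup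
      infer_instance
    have hcc : ⁅⁅D, R⁆, R⁆ = ⁅D, R⁆ := Cfsg.Agent.S0027.result R D hRD hcopRD (Or.inl hsolvR)
    have hD₁D : ⁅D, R⁆ ≤ D := commutator_le_left_of_le_normalizer hRD
    have hcopRD₁ : (Nat.card ↥R).Coprime (Nat.card ↥(⁅D, R⁆ : Subgroup G)) :=
      Nat.Coprime.coprime_dvd_right (Subgroup.card_dvd_of_le hD₁D) hcopRD
    by_cases hrL : r ∈ Cfsg.sigma L
    · -- (2a)
      exact case1 hG hM hL hnc hrL hrσ hRp hRL (hD₁D.trans hDL) (hD₁D.trans hDM) hcc
    by_cases hrk1 : Cfsg.PRankLE r 1 ↥L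
    · by_cases hrL' : r ∣ Nat.card ↥⁅L, L⁆
      · -- (2b): `r ∈ τ₃(L)`
        have hRL' : R ≤ ⁅L, L⁆ := le_commutator_of_tau3 hG ⟨hrf.out, hrL, hrL', hrk1⟩ hRL hRc
        exact eq_bot_of_commutator_eq hG hM hL hnc hRL' (hD₁D.trans hDL) (hD₁D.trans hDM)
          hcopRD₁ hcc
      · -- (2d): `r ∈ τ₁(L)`
        have hrdL : r ∣ Nat.card ↥L := by
          rw [← hRc]; exact Subgroup.card_dvd_of_le hRL
        have hτ1 : Nat.card ↥R ∈ Cfsg.tau1 L := by
          rw [hRc]; exact ⟨hrf.out, hrL, hrdL, hrL', hrk1⟩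
        exact h2d L hL hNL hpL hτ1 (by rw [hRc]; exact hrp)
    · -- (2c): `r ∈ τ₂(L)`
      have hτ2 : r ∈ Cfsg.tau2 L := by
        refine ⟨hrf.out, hrL, ?_, hrk1⟩
        by_contra h2
        exact hrL (alpha_subset_sigma hG (uT hG) hL ⟨hrf.out, h2⟩)
      exact case_r_tau2 hG hM hL hnc' hτ2 hrσ hRL hRc hDM hDL hRD
  · -- (1): `p ∉ σ(L)`
    exact case_p_tau2 hG hM hL hpσ hrk hpL hPp hP1 hPM hNL hrp hRL hRc hDM hDL hRD hDP

end Cfsg.Agent.Lib.Helper8.BGTen
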