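import Mathlib
import Cfsg.Agent.Lib.Helper8.BGTw18A
import Cfsg.Agent.Lib.Helper8.BGTw18B

/-!
Bender–Glauberman Lemma 12.18 (S1428), helper8: the assembly of the case (2d) (`Hyp2d`) from
* `HypLemA` (helper1's generalized Shult lemma, used in Step Z),
* `HypHH` (the output of the `L`-side HH step in the case `p ∈ α(L)`),
* `HypF` (Lemma F: the case `p ∈ σ(L) ∖ α(L)`),
following the lead blueprint, Part 13 (Theorem A: a counterexample is residual; Step Y: swap;
Step Z).
-/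

set_option autoImplicit false
set_option linter.unusedSectionVars false
set_option linter.unusedVariables false
set_option linter.style.haveILetI false
set_option maxHeartbeats 1000000
open Cfsg
open scoped commutatorElement Pointwise

namespace Cfsg.Agent.Lib.Helper8.BGTen

open Cfsg.Agent.Lib.Helper7 (IsSylowIn exists_isSylowIn_ge card_subgroupOf_of_le)
open Cfsg.Agent.Lib.Helper4.BG1218 (Resid0 Resid Hyp2d)

universe u

/-- the output of the `L`-side HH step: in the case (2d) with `p ∈ α(L)`, `Y₀ = [D, R]` centralizes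
an elementary abelian subgroup of order `q²` of `L_α` -/
def HypHH (G : Type u) [Group G] : Prop :=
  ∀ (M : Subgroup G), IsCoatom M → ∀ (E : Subgroup G), Cfsg.IsComplIn E (Cfsg.sigmaCore M) M →
    ∀ (p : ℕ), p ∈ Cfsg.tau1 M → ∀ (P : Subgroup G), P ≤ E → Nat.card P = p →
    ∀ (R : Subgroup G), R ≤ E ⊓ Subgroup.centralizer (P : Set G) → (Nat.card R).Prime →
    Nat.card R ≠ p →
    ∀ (L : Subgroup G), IsCoatom L → Subgroup.normalizer (P : Set G) ≤ L → p ∈ Cfsg.alpha L →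
    Nat.card R ∈ Cfsg.tau1 L →
    ∃ (q : ℕ) (A : Subgroup G), q.Prime ∧ A ≤ Cfsg.alphaCore L ∧ Cfsg.IsElementaryAbelian q A ∧
      Nat.card ↥A = q ^ 2 ∧
      ⁅Cfsg.sigmaCore M ⊓ Subgroup.centralizer (P : Set G), R⁆ ≤ Subgroup.centralizer (A : Set G)

/-- Lemma F: the case `p ∈ σ(L) ∖ α(L)` -/
def HypF (G : Type u) [Group G] : Prop :=
  ∀ (M : Subgroup G), IsCoatom M → ∀ (E : Subgroup G), Cfsg.IsComplIn E (Cfsg.sigmaCore M) M →
    ∀ (p : ℕ), p ∈ Cfsg.tau1 M → ∀ (P : Subgroup G), P ≤ E → Nat.card P = p →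
    ∀ (R : Subgroup G), R ≤ E ⊓ Subgroup.centralizer (P : Set G) → (Nat.card R).Prime →
    ∀ (L : Subgroup G), IsCoatom L → Subgroup.normalizer (P : Set G) ≤ L → p ∈ Cfsg.sigma L →
    p ∉ Cfsg.alpha L →
    ⁅Cfsg.sigmaCore M ⊓ Subgroup.centralizer (P : Set G), R⁆ = ⊥

variable {G : Type u} [Group G] [Finite G]

/-- **Theorem A**: a counterexample in case (2d) is residual. -/
theorem resid_of_bad (hG : Cfsg.IsMinSimpleOddOrder G) (hHH : HypHH G) (hF : HypF G)
    (M : Subgroup G) (hM : IsCoatom M) (E : Subgroup G)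
    (hE : Cfsg.IsComplIn E (Cfsg.sigmaCore M) M) (p : ℕ) (hp : p ∈ Cfsg.tau1 M)
    (P : Subgroup G) (hPE : P ≤ E) (hP : Nat.card P = p)
    (R : Subgroup G) (hRE : R ≤ E ⊓ Subgroup.centralizer (P : Set G)) (hR : (Nat.card R).Prime)
    (hne : Nat.card R ≠ p)
    (L : Subgroup G) (hL : IsCoatom L) (hNL : Subgroup.normalizer (P : Set G) ≤ L)
    (hpL : p ∈ Cfsg.sigma L) (hrL : Nat.card R ∈ Cfsg.tau1 L)
    (hY0 : ⁅Cfsg.sigmaCore M ⊓ Subgroup.centralizer (P : Set G), R⁆ ≠ ⊥) : Resid M P R := by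
  haveI hpf : Fact p.Prime := ⟨hp.1⟩
  have hCL : Subgroup.centralizer (P : Set G) ≤ L :=
    (Subgroup.centralizer_le_normalizer _).trans hNL
  by_cases hpα : p ∈ Cfsg.alpha L
  · obtain ⟨q, A, hq, hAα, hAe, hAc, hYA⟩ :=
      hHH M hM E hE p hp P hPE hP R hRE hR hne L hL hNL hpα hrL
    have h0 : Resid0 M L P R :=
      Cfsg.Agent.Lib.Helper4.BG1218.resid0_of_alpha hG hM hL hE hp.2.1 hpL hPE hP hCL
        (hRE.trans inf_le_left) (hRE.trans inf_le_right) hR hq hAα hAe hAc hYA hY0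
    exact Cfsg.Agent.Lib.Helper4.BG1218.resid_of_resid0 hG hM hL hE hp.2.1 hpL hPE hP hCL
      (hRE.trans inf_le_left) (hRE.trans inf_le_right) hR hrL h0
  · exact absurd (hF M hM E hE p hp P hPE hP R hRE hR L hL hNL hpL hpα) hY0

/-- **Case (2d) of S1428** from the three inputs. -/
theorem hyp2d_of (hG : Cfsg.IsMinSimpleOddOrder G) (hA : HypLemA G) (hHH : HypHH G)
    (hF : HypF G) : Hyp2d G := by
  intro M hM E hE p hp P hPE hP R hRE hR hne L hL hNL hpL hrL
  by_contra hY0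
  have h1 : Resid M P R :=
    resid_of_bad hG hHH hF M hM E hE p hp P hPE hP R hRE hR hne L hL hNL hpL hrL hY0
  have hRE' : R ≤ E := hRE.trans inf_le_left
  have hRM : R ≤ M := hRE'.trans hE.1
  have hPR : P ≤ E ⊓ Subgroup.centralizer (R : Set G) := by
    refine le_inf hPE ?_
    intro x hx
    rw [Subgroup.mem_centralizer_iff]
    intro z hz
    exact ((Subgroup.mem_centralizer_iff.mp (hRE.trans inf_le_right hz)) x hx).symm
  have hPprime : (Nat.card ↥P).Prime := by rw [hP]; exact hp.1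
  by_cases hsw : Cfsg.sigmaCore M ⊓ Subgroup.centralizer (R : Set G) ≤
      Cfsg.sigmaCore M ⊓ Subgroup.centralizer (P : Set G)
  · -- Step Z
    apply stepZ hG hA hM hRM h1
    have hασ : Cfsg.alphaCore M ≤ Cfsg.sigmaCore M := (alphaCore_hall hG (uniq hG) M hM).2.2.1
    exact (inf_le_inf_right _ hασ).trans (hsw.trans inf_le_right)
  · -- Step Y
    apply hsw
    apply s1428_local hG M hM E hE (Nat.card ↥R) h1.1 R hRE' rfl P hPR hPprime
    intro L' hL' hNL' hrL' hpL' hne'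
    by_contra hY0'
    have h2 : Resid M R P :=
      resid_of_bad hG hHH hF M hM E hE (Nat.card ↥R) h1.1 R hRE' rfl P hPR hPprime hne' L' hL' hNL'
        hrL' hpL' hY0'
    exact Cfsg.Agent.Lib.Helper4.BG1218.resid_swap_false hG hM h1 h2

end Cfsg.Agent.Lib.Helper8.BGTen
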