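import Mathlib
import Cfsg.Agent.Lib.Helper8.BGTw18C
import Cfsg.Agent.Lib.Helper4.BG1218G

/-!
Bender–Glauberman Lemma 12.18 (S1428), helper8: the `L`-side HH step (`HypHH`) from the generalized
Shult lemma (`HypLemA`) and the existence of a characteristic subgroup of exponent `p` containing
an `E_{p²}` in a noncyclic `p`-group, `p` odd (`HypW`).
-/

set_option autoImplicit false
set_option linter.unusedSectionVars false
set_option linter.unusedVariables false
set_option linter.style.haveILetI false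
set_option maxHeartbeats 1000000
open Cfsg
open scoped commutatorElement Pointwise

namespace Cfsg.Agent.Lib.Helper8.BGTen

open Cfsg.Agent.Lib.Helper7 (IsSylowIn exists_isSylowIn_ge card_subgroupOf_of_le)
open Cfsg.Agent.Lib.Helper4.BG1218 (Resid0 Resid Hyp2d)

universe u

/-- a noncyclic `p`-subgroup `S` (`p` odd) has a subgroup `W` of exponent `p`, normalized by
`N_G(S)`, containing an elementary abelian subgroup of order `p²` (`W = Ω₁(Z₂(S))`) -/
def HypW (G : Type u) [Group G] : Prop :=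
  ∀ (p : ℕ), p.Prime → p ≠ 2 → ∀ (S : Subgroup G), IsPGroup p ↥S → ¬ IsCyclic ↥S →
    ∃ W A : Subgroup G, W ≤ S ∧
      Subgroup.normalizer (S : Set G) ≤ Subgroup.normalizer (W : Set G) ∧
      (∀ x ∈ W, x ^ p = 1) ∧ A ≤ W ∧ Cfsg.IsElementaryAbelian p A ∧ Nat.card ↥A = p ^ 2

variable {G : Type u} [Group G] [Finite G]

/-- the `L`-side HH step -/
theorem hypHH_of (hG : Cfsg.IsMinSimpleOddOrder G) (hA : HypLemA G) (hW : HypW G) : HypHH G := by
  intro M hM E hE p hp P hPE hP R hRE hR hne L hL hNL hpα hrL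
  haveI hpf : Fact p.Prime := ⟨hp.1⟩
  obtain ⟨r, hrdef⟩ : ∃ r : ℕ, r = Nat.card ↥R := ⟨_, rfl⟩
  have hRc : Nat.card ↥R = r := hrdef.symm
  rw [hRc] at hrL hne
  haveI hrf : Fact r.Prime := ⟨hrdef ▸ hR⟩
  have hU := uniq hG
  have hEM : E ≤ M := hE.1
  have hPM : P ≤ M := hPE.trans hEM
  have hRM : R ≤ M := (hRE.trans inf_le_left).trans hEM
  have hRCP : R ≤ Subgroup.centralizer (P : Set G) := hRE.trans inf_le_right
  have hCL : Subgroup.centralizer (P : Set G) ≤ L :=
    (Subgroup.centralizer_le_normalizer _).trans hNL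
  have hPel := Cfsg.Agent.Lib.Helper4.BGUniq.isElementaryAbelian_of_card_prime hP
  have hPP : P ≤ Subgroup.centralizer (P : Set G) := by
    intro a ha
    rw [Subgroup.mem_centralizer_iff]
    intro b hb
    have := hPel.1.is_comm.comm (⟨b, hb⟩ : ↥P) ⟨a, ha⟩
    exact congrArg Subtype.val this
  have hPL : P ≤ L := hPP.trans hCL
  have hRL : R ≤ L := hRCP.trans hCL
  have hPp : IsPGroup p ↥P := IsPGroup.of_card (n := 1) (by rw [hP, pow_one])
  set D : Subgroup G := Cfsg.sigmaCore M ⊓ Subgroup.centralizer (P : Set G) with hD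
  have hDM : D ≤ Cfsg.sigmaCore M := inf_le_left
  have hDP : D ≤ Subgroup.centralizer (P : Set G) := inf_le_right
  have hDL : D ≤ L := hDP.trans hCL
  have hRD : R ≤ Subgroup.normalizer (D : Set G) :=
    le_normalizer_inf (hRM.trans (Cfsg.Agent.H2.BG11.le_normalizer_sigmaCore M))
      (hRCP.trans Subgroup.le_normalizer)
  have hpL : p ∈ Cfsg.sigma L := alpha_subset_sigma hG hU hL hpα
  obtain ⟨-, hpσM, -, -, -⟩ := hp
  have hnc := Cfsg.Agent.Lib.Helper4.BG1218.cj_ne_of_sigma hG hpL hpσM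
  obtain ⟨hrp, hrσL, -, -, hrk⟩ := hrL
  obtain ⟨S1, hS1, hS1α, hPS1, hDS1, hRS1, hS1rk, hS1c⟩ :=
    Cfsg.Agent.Lib.Helper4.BG1218.exists_sylow_alphaCore hG hM hL hnc hpα hDM hDL hRL hRD hRc
      hrσL hrk hPp hPL hDP hRCP
  -- `S₁` is not cyclic
  have hS1nc : ¬ IsCyclic ↥S1 := by
    intro hc
    apply hS1rk
    apply pRankLE_succ hpf.out
    have h1 : Cfsg.PRankLE p 1 ↥(⊤ : Subgroup G) :=
      Cfsg.Agent.Lib.helper3.BG12.pRankLE_one_of_cyclic_sylow hS1 hc
    exact Cfsg.Agent.Lib.Helper4.Rank2Fit.pRankLE_of_le le_top h1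
  have hp2 : p ≠ 2 := by
    intro h2
    have h1 : p ∣ Nat.card G := hP ▸ Subgroup.card_subgroup_dvd_card P
    rw [h2] at h1
    exact (Nat.not_even_iff_odd.mpr hG.1) (even_iff_two_dvd.mpr h1)
  obtain ⟨W, A, hWS, hNW, hWexp, hAW, hAe, hAc⟩ := hW p hpf.out hp2 S1 hS1.isPGroup hS1nc
  refine ⟨p, A, hpf.out, (hAW.trans hWS).trans hS1α, hAe, hAc, ?_⟩
  -- a generator of `R`
  haveI : IsCyclic ↥R := isCyclic_of_prime_card hRc
  obtain ⟨⟨y, hyR⟩, hy⟩ := IsCyclic.exists_generator (α := ↥R)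
  have hRy : Subgroup.zpowers y = R := by
    apply le_antisymm (Subgroup.zpowers_le.mpr hyR)
    intro x hx
    obtain ⟨k, hk⟩ := Subgroup.mem_zpowers_iff.mp (hy ⟨x, hx⟩)
    have : y ^ k = x := by
      have := congrArg Subtype.val hk
      simpa using this
    rw [← this]
    exact Subgroup.zpow_mem_zpowers y k
  have hyr : y ^ r = 1 := by
    have h1 : (⟨y, hyR⟩ : ↥R) ^ Nat.card ↥R = 1 := pow_card_eq_one'
    rw [hRc] at h1
    have := congrArg Subtype.val h1
    simpa using this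
  have hDW : D ≤ Subgroup.normalizer (W : Set G) := hDS1.trans hNW
  have hRW : R ≤ Subgroup.normalizer (W : Set G) := hRS1.trans hNW
  have hWL : W ≤ L := (hWS.trans hS1α).trans (alphaCore_le L)
  have hle : W ⊔ D ⊔ Subgroup.zpowers y ≤ L := by
    rw [hRy]
    exact sup_le (sup_le hWL hDL) hRL
  haveI : Group.IsSolvable ↥L := hG.2.2.2 L hL.1
  have hsolv : Group.IsSolvable ↥(W ⊔ D ⊔ Subgroup.zpowers y) :=
    Group.isSolvable_of_isSolvable_injective (Subgroup.inclusion_injective hle)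
  have hodd := odd_card_subgroup hG (W ⊔ D ⊔ Subgroup.zpowers y)
  have hWp : IsPGroup p ↥W := hS1.isPGroup.to_le hWS
  obtain ⟨k, hk⟩ := hWp.exists_card_eq
  have hrσM : r ∉ Cfsg.sigma M := by
    apply Cfsg.Agent.H2.BG12.not_mem_sigma_of_dvd_compl hG hM hE hrf.out
    rw [← hRc]
    exact Subgroup.card_dvd_of_le (hRE.trans inf_le_left)
  have hrW : r.Coprime (Nat.card ↥W) := by
    rw [hk]
    apply Nat.Coprime.pow_right
    exact (Nat.coprime_primes hrf.out hpf.out).mpr hne
  have hrD : r.Coprime (Nat.card ↥D) := by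
    rw [Nat.Prime.coprime_iff_not_dvd hrf.out]
    intro h
    exact hrσM (Cfsg.Agent.H2.BG11.mem_sigma_of_dvd_sigmaCore hG hM hrf.out
      (h.trans (Subgroup.card_dvd_of_le hDM)))
  have hDWc : (Nat.card ↥D).Coprime (Nat.card ↥W) := by
    rw [hk]
    apply Nat.Coprime.pow_right
    apply Nat.Coprime.symm
    rw [Nat.Prime.coprime_iff_not_dvd hpf.out]
    intro h
    exact hpσM (Cfsg.Agent.H2.BG11.mem_sigma_of_dvd_sigmaCore hG hM hpf.out
      (h.trans (Subgroup.card_dvd_of_le hDM)))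
  have hfix : W ⊓ Subgroup.centralizer ((Subgroup.zpowers y : Subgroup G) : Set G) ≤
      Subgroup.centralizer (D : Set G) := by
    rw [hRy]
    intro x hx
    -- `x ∈ P`
    have hxP : x ∈ P := by
      by_cases hx1 : x = 1
      · rw [hx1]; exact P.one_mem
      have hxo : orderOf x = p := by
        have h1 : orderOf x ∣ p := orderOf_dvd_of_pow_eq_one (hWexp x hx.1)
        rcases (Nat.dvd_prime hpf.out).mp h1 with h2 | h2
        · exact absurd (orderOf_eq_one_iff.mp h2) hx1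
        · exact h2
      have hC : IsPGroup p ↥(S1 ⊓ Subgroup.centralizer (R : Set G)) :=
        hS1.isPGroup.to_le inf_le_left
      have hxC : Subgroup.zpowers x ≤ S1 ⊓ Subgroup.centralizer (R : Set G) :=
        Subgroup.zpowers_le.mpr ⟨hWS hx.1, hx.2⟩
      have hPC : P ≤ S1 ⊓ Subgroup.centralizer (R : Set G) := by
        refine le_inf hPS1 ?_
        intro a ha
        rw [Subgroup.mem_centralizer_iff]
        intro b hb
        exact ((Subgroup.mem_centralizer_iff.mp (hRCP hb)) a ha).symm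
      have heq : Subgroup.zpowers x = P :=
        Cfsg.Agent.Lib.Helper4.BGUniq.eq_of_card_eq_of_le_cyclic hC hS1c hxC hPC
          (by rw [Nat.card_zpowers, hxo, hP])
      rw [← heq]
      exact Subgroup.mem_zpowers x
    rw [Subgroup.mem_centralizer_iff]
    intro z hz
    exact (Subgroup.mem_centralizer_iff.mp (hDP hz) x hxP).symm
  have hconc := hA W D y r hrf.out hyr hDW (hRW hyR) (hRD hyR) hsolv hodd hrW hrD hDWc hfix
  rw [hRy] at hconc
  refine hconc.trans ?_
  exact Subgroup.centralizer_le hAW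

end Cfsg.Agent.Lib.Helper8.BGTen
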