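import Mathlib
import Cfsg.Agent.H1.NormalRankTwo
import Cfsg.Agent.H1.Class2
import Cfsg.Agent.Lib.Helper8.BGTw18D

/-!
Bender–Glauberman Lemma 12.18 (S1428), helper8: `HypW` — in a noncyclic `p`-subgroup `S` (`p` odd)
the subgroup `W = Ω₁(Z₂(S))` has exponent `p`, is normalized by `N_G(S)` and contains an
elementary abelian subgroup of order `p²`.
-/

set_option autoImplicit false
set_option linter.unusedSectionVars false
set_option linter.unusedVariables false
set_option linter.style.haveILetI false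
set_option maxHeartbeats 1000000
open Cfsg
open scoped commutatorElement Pointwise

namespace Cfsg.Agent.Lib.Helper8.BGTen

universe u

section TypeLevel

variable {P : Type*} [Group P]

/-- if `⁅x, y⁆` commutes with `x` then `⁅x ^ n, y⁆ = ⁅x, y⁆ ^ n` -/
theorem commutator_pow_of_commute' (x y : P) (h : Commute ⁅x, y⁆ x) (n : ℕ) :
    ⁅x ^ n, y⁆ = ⁅x, y⁆ ^ n := by
  induction n with
  | zero => simp
  | succ n ih =>
    have h1 : ⁅x ^ (n + 1), y⁆ = x * ⁅x ^ n, y⁆ * x⁻¹ * ⁅x, y⁆ := by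
      simp only [commutatorElement_def, pow_succ']
      group
    rw [h1, ih]
    have h2 : Commute (⁅x, y⁆ ^ n) x := h.pow_left n
    rw [← h2.eq, mul_inv_cancel_right, pow_succ]

theorem comm_mem_center_of_mem_ucs2 {x : P} (hx : x ∈ Subgroup.upperCentralSeries P 2) (y : P) :
    ⁅x, y⁆ ∈ Subgroup.center P := by
  have h := Subgroup.mem_upperCentralSeries_succ_iff.mp hx y
  rwa [Subgroup.upperCentralSeries_one] at h

/-- `(xy)^p = 1` for `x, y ∈ Z₂(P)` of order dividing the odd prime `p` -/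
theorem mul_pow_eq_one_of_mem_ucs2 {p : ℕ} (hp : p.Prime) (hp2 : p ≠ 2) {x y : P}
    (hx : x ∈ Subgroup.upperCentralSeries P 2) (hy : y ∈ Subgroup.upperCentralSeries P 2)
    (hxp : x ^ p = 1) (hyp : y ^ p = 1) : (x * y) ^ p = 1 := by
  set Z : Subgroup P := Subgroup.upperCentralSeries P 2 with hZ
  have hc : ∀ a b : ↥Z, ⁅a, b⁆ ∈ Subgroup.center ↥Z := by
    intro a b
    rw [Subgroup.mem_center_iff]
    intro g
    apply Subtype.ext
    have h1 : ⁅(a : P), (b : P)⁆ ∈ Subgroup.center P := comm_mem_center_of_mem_ucs2 a.2 b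
    have h2 := Subgroup.mem_center_iff.mp h1 (g : P)
    have e : ((⁅a, b⁆ : ↥Z) : P) = ⁅(a : P), (b : P)⁆ := rfl
    rw [Subgroup.coe_mul, Subgroup.coe_mul, e]
    exact h2
  have hcomm : Commute ⁅y, x⁆ y := by
    have h1 : ⁅y, x⁆ ∈ Subgroup.center P := comm_mem_center_of_mem_ucs2 hy x
    exact (Subgroup.mem_center_iff.mp h1 y).symm
  have h3 : ⁅y, x⁆ ^ p = 1 := by
    rw [← commutator_pow_of_commute' y x hcomm p, hyp]
    simp [commutatorElement_def]
  have h4 : ⁅(⟨y, hy⟩ : ↥Z), (⟨x, hx⟩ : ↥Z)⁆ ^ p = 1 := by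
    apply Subtype.ext
    have e : ((⁅(⟨y, hy⟩ : ↥Z), (⟨x, hx⟩ : ↥Z)⁆ : ↥Z) : P) = ⁅y, x⁆ := rfl
    rw [Subgroup.coe_pow, e, h3]
    rfl
  have h5 := Cfsg.Agent.H1.class2_mul_pow_prime hc hp hp2 (⟨x, hx⟩ : ↥Z) ⟨y, hy⟩ h4
  have h6 := congrArg Subtype.val h5
  simp only [Subgroup.coe_pow, Subgroup.coe_mul] at h6
  rw [h6, hxp, hyp, one_mul]

/-- `Ω₁(Z₂(P))` for an odd prime `p` -/
def omegaUcs2 (p : ℕ) (hp : p.Prime) (hp2 : p ≠ 2) (P : Type*) [Group P] : Subgroup P where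
  carrier := {x | x ∈ Subgroup.upperCentralSeries P 2 ∧ x ^ p = 1}
  one_mem' := ⟨Subgroup.one_mem _, one_pow _⟩
  inv_mem' := fun {x} hx => ⟨Subgroup.inv_mem _ hx.1, by rw [inv_pow, hx.2, inv_one]⟩
  mul_mem' := fun {x y} hx hy =>
    ⟨Subgroup.mul_mem _ hx.1 hy.1, mul_pow_eq_one_of_mem_ucs2 hp hp2 hx.1 hy.1 hx.2 hy.2⟩

theorem mem_omegaUcs2 {p : ℕ} (hp : p.Prime) (hp2 : p ≠ 2) {x : P} :
    x ∈ omegaUcs2 p hp hp2 P ↔ x ∈ Subgroup.upperCentralSeries P 2 ∧ x ^ p = 1 := Iff.rfl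

theorem map_mem_omegaUcs2 {p : ℕ} (hp : p.Prime) (hp2 : p ≠ 2) (φ : P ≃* P) {x : P}
    (hx : x ∈ omegaUcs2 p hp hp2 P) : φ x ∈ omegaUcs2 p hp hp2 P := by
  refine ⟨?_, ?_⟩
  · have hchar : (Subgroup.upperCentralSeries P 2).Characteristic := inferInstance
    have h1 := Subgroup.characteristic_iff_map_eq.mp hchar φ
    rw [← h1]
    exact ⟨x, hx.1, rfl⟩
  · rw [← map_pow, hx.2, map_one]

/-- a normal subgroup of order `p²` of a `p`-group lies in `Z₂` -/
theorem le_ucs2_of_normal_card_sq [Finite P] {p : ℕ} [hp : Fact p.Prime] (hP : IsPGroup p P)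
    (A : Subgroup P) [hAn : A.Normal] (hA : Nat.card ↥A = p ^ 2) :
    A ≤ Subgroup.upperCentralSeries P 2 := by
  haveI hnil : Group.IsNilpotent P := hP.isNilpotent
  set B : Subgroup P := ⁅A, (⊤ : Subgroup P)⁆ with hB
  haveI hBn : B.Normal := Subgroup.commutator_normal A ⊤
  have hBA : B ≤ A := Subgroup.commutator_le_left A ⊤
  have hBne : B ≠ A := by
    intro hBA'
    have hle : ∀ n : ℕ, A ≤ Subgroup.lowerCentralSeries (⊤ : Subgroup P) n := by
      intro n
      induction n with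
      | zero => exact le_top
      | succ n ih =>
        rw [Subgroup.lowerCentralSeries_succ]
        calc A = ⁅A, (⊤ : Subgroup P)⁆ := hBA'.symm
          _ ≤ ⁅Subgroup.lowerCentralSeries (⊤ : Subgroup P) n, (⊤ : Subgroup P)⁆ :=
            Subgroup.commutator_mono ih le_rfl
    have h1 := hle (Group.nilpotencyClass P)
    rw [Subgroup.lowerCentralSeries_nilpotencyClass, le_bot_iff] at h1
    rw [h1, Subgroup.card_bot] at hA
    have := hp.out.one_lt
    have h2 : 1 < p ^ 2 := Nat.one_lt_pow (by norm_num) this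
    omega
  have hBc : B ≤ Subgroup.center P := by
    by_cases hB1 : B = ⊥
    · rw [hB1]; exact bot_le
    obtain ⟨z, hzB, hzc, hzo⟩ := Cfsg.Agent.H1.exists_central_order_p hP B hB1
    have hdvd : Nat.card ↥B ∣ p ^ 2 := hA ▸ Subgroup.card_dvd_of_le hBA
    obtain ⟨k, hk2, hk⟩ := (Nat.dvd_prime_pow hp.out).mp hdvd
    have hk1 : k ≠ 2 := by
      intro h2
      apply hBne
      apply Subgroup.eq_of_le_of_card_ge hBA
      rw [hA, hk, h2]
    have hk0 : k ≠ 0 := by
      intro h0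
      rw [h0, pow_zero] at hk
      exact hB1 (Subgroup.card_eq_one.mp hk)
    have hk' : k = 1 := by omega
    rw [hk', pow_one] at hk
    have hzle : Subgroup.zpowers z ≤ B := Subgroup.zpowers_le.mpr hzB
    have heq : Subgroup.zpowers z = B := by
      apply Subgroup.eq_of_le_of_card_ge hzle
      rw [hk, Nat.card_zpowers, hzo]
    rw [← heq]
    exact Subgroup.zpowers_le.mpr hzc
  intro a ha
  rw [show (2 : ℕ) = 1 + 1 from rfl, Subgroup.mem_upperCentralSeries_succ_iff]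
  intro y
  rw [Subgroup.upperCentralSeries_one]
  exact hBc (Subgroup.commutator_mem_commutator ha (Subgroup.mem_top y))

end TypeLevel

variable {G : Type u} [Group G] [Finite G]

/-- conjugation by an element of `N_G(S)` as an automorphism of `S` -/
def conjAutOfNormalizer (S : Subgroup G) (g : G) (hg : g ∈ Subgroup.normalizer (S : Set G)) :
    ↥S ≃* ↥S where
  toFun x := ⟨g * x * g⁻¹, (Subgroup.mem_normalizer_iff.mp hg x).mp x.2⟩
  invFun x := ⟨g⁻¹ * x * g, by
    have := (Subgroup.mem_normalizer_iff.mp (Subgroup.inv_mem _ hg) x).mp x.2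
    rwa [inv_inv] at this⟩
  left_inv x := by
    apply Subtype.ext
    show g⁻¹ * (g * (x : G) * g⁻¹) * g = x
    group
  right_inv x := by
    apply Subtype.ext
    show g * (g⁻¹ * (x : G) * g) * g⁻¹ = x
    group
  map_mul' x y := by
    apply Subtype.ext
    show g * ((x : G) * y) * g⁻¹ = g * x * g⁻¹ * (g * y * g⁻¹)
    group

/-- **`HypW`** -/
theorem hypW : HypW G := by
  intro p hp hp2 S hS hnc
  haveI hpf : Fact p.Prime := ⟨hp⟩
  have hnc' : ¬ IsCyclic ↥(⊤ : Subgroup ↥S) := by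
    intro h
    apply hnc
    exact isCyclic_of_surjective (Subgroup.topEquiv : ↥(⊤ : Subgroup ↥S) ≃* ↥S).toMonoidHom
      (Subgroup.topEquiv : ↥(⊤ : Subgroup ↥S) ≃* ↥S).surjective
  obtain ⟨A', -, hA'n, hA'e, hA'c⟩ :=
    Cfsg.Agent.H1.normal_elem_abelian_sq_le hp2 hS (⊤ : Subgroup ↥S) hnc'
  haveI := hA'n
  set Ω : Subgroup ↥S := omegaUcs2 p hp hp2 ↥S with hΩ
  have hA'Ω : A' ≤ Ω := by
    intro a ha
    exact ⟨le_ucs2_of_normal_card_sq hS A' hA'c ha, hA'e.2 a ha⟩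
  have hconj : ∀ g ∈ Subgroup.normalizer (S : Set G), ∀ w ∈ Ω.map S.subtype,
      g * w * g⁻¹ ∈ Ω.map S.subtype := by
    rintro g hg _ ⟨x, hx, rfl⟩
    exact ⟨conjAutOfNormalizer S g hg x, map_mem_omegaUcs2 hp hp2 _ hx, rfl⟩
  refine ⟨Ω.map S.subtype, A'.map S.subtype, Subgroup.map_subtype_le _, ?_, ?_,
    Subgroup.map_mono hA'Ω, ?_, ?_⟩
  · intro g hg
    rw [Subgroup.mem_normalizer_iff]
    intro h
    constructor
    · exact hconj g hg h
    · intro hh
      have := hconj g⁻¹ (Subgroup.inv_mem _ hg) _ hh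
      have e : g⁻¹ * (g * h * g⁻¹) * g⁻¹⁻¹ = h := by group
      rwa [e] at this
  · rintro _ ⟨x, hx, rfl⟩
    have := hx.2
    have h2 := congrArg Subtype.val this
    simpa using h2
  · constructor
    · constructor
      constructor
      rintro ⟨_, ⟨a, ha, rfl⟩⟩ ⟨_, ⟨b, hb, rfl⟩⟩
      apply Subtype.ext
      have := hA'e.1.is_comm.comm (⟨a, ha⟩ : ↥A') ⟨b, hb⟩
      have h2 := congrArg (fun z : ↥A' => ((z : ↥S) : G)) this
      simpa using h2
    · rintro _ ⟨a, ha, rfl⟩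
      have := hA'e.2 a ha
      have h2 := congrArg Subtype.val this
      simpa using h2
  · rw [Subgroup.card_map_of_injective S.subtype_injective, hA'c]

end Cfsg.Agent.Lib.Helper8.BGTen
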