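import Mathlib
import Cfsg.Agent.H1.BGShult
import Cfsg.Agent.S0022
import Cfsg.Agent.S0027
import Cfsg.Agent.Lib.Helper8.BGTw18A

/-!
Bender–Glauberman Lemma 12.18 (S1428), helper8: the generalized Shult lemma (`HypLemA`, helper1's
Lemma A), from helper1's `shult`: a subgroup form, a quotient form `shultQ`, and an induction over
a chief series.
-/

set_option autoImplicit false
set_option linter.unusedSectionVars false
set_option linter.unusedVariables false
set_option linter.style.haveILetI false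
set_option maxHeartbeats 1000000
open Cfsg
open scoped commutatorElement Pointwise

namespace Cfsg.Agent.Lib.Helper8.BGTen

universe u

variable {G : Type u} [Group G] [Finite G]

theorem zpowers_eq_of_mem_of_ne_one {y z : G} {r : ℕ} (hr : r.Prime) (hyr : y ^ r = 1)
    (hz : z ∈ Subgroup.zpowers y) (hz1 : z ≠ 1) : Subgroup.zpowers z = Subgroup.zpowers y := by
  have hle : Subgroup.zpowers z ≤ Subgroup.zpowers y := Subgroup.zpowers_le.mpr hz
  apply Subgroup.eq_of_le_of_card_ge hle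
  rw [Nat.card_zpowers, Nat.card_zpowers]
  have h1 : orderOf y ∣ r := orderOf_dvd_of_pow_eq_one hyr
  have h2 : orderOf z ∣ orderOf y := by
    have := Subgroup.card_dvd_of_le hle
    rwa [Nat.card_zpowers, Nat.card_zpowers] at this
  have h3 : orderOf z ≠ 1 := fun h => hz1 (orderOf_eq_one_iff.mp h)
  have h4 : orderOf z = r := by
    rcases (Nat.dvd_prime hr).mp (h2.trans h1) with h | h
    · exact absurd h h3
    · exact h
  rw [h4]
  exact Nat.le_of_dvd hr.pos h1

/-- helper1's `shult` in subgroup form -/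
theorem shult_sub (Q T : Subgroup G) (y : G) (r : ℕ) (hr : r.Prime)
    (hyr : y ^ r = 1) (hTQ : T ≤ Subgroup.normalizer (Q : Set G))
    (hyQ : y ∈ Subgroup.normalizer (Q : Set G)) (hyT : y ∈ Subgroup.normalizer (T : Set G))
    (hsolv : Group.IsSolvable ↥(Q ⊔ T ⊔ Subgroup.zpowers y))
    (hodd : Odd (Nat.card ↥(Q ⊔ T ⊔ Subgroup.zpowers y)))
    (hrQ : r.Coprime (Nat.card Q)) (hrT : r.Coprime (Nat.card T))
    (hcop : (Nat.card T).Coprime (Nat.card Q))
    (hfpf : ∀ m ∈ Q, y * m = m * y → m = 1) :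
    ⁅T, Subgroup.zpowers y⁆ ≤ Subgroup.centralizer (Q : Set G) := by
  rw [Subgroup.commutator_le]
  intro g hg z hz
  by_cases hz1 : z = 1
  · rw [hz1, commutatorElement_one_right]
    exact Subgroup.one_mem _
  have hzy := zpowers_eq_of_mem_of_ne_one hr hyr hz hz1
  have hzr : z ^ r = 1 := by
    obtain ⟨k, rfl⟩ := Subgroup.mem_zpowers_iff.mp hz
    rw [← zpow_natCast, ← zpow_mul, mul_comm, zpow_mul, zpow_natCast, hyr, one_zpow]
  have hzQ : z ∈ Subgroup.normalizer (Q : Set G) := (Subgroup.zpowers_le.mpr hyQ) hz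
  have hzT : z ∈ Subgroup.normalizer (T : Set G) := (Subgroup.zpowers_le.mpr hyT) hz
  have hsolv' : Group.IsSolvable ↥(Q ⊔ T ⊔ Subgroup.zpowers z) := by rw [hzy]; exact hsolv
  have hodd' : Odd (Nat.card ↥(Q ⊔ T ⊔ Subgroup.zpowers z)) := by rw [hzy]; exact hodd
  apply Cfsg.Agent.H1.BGShult.shult Q T z r hr hzr hTQ hzQ hzT hsolv' hodd' hrQ hrT hcop ?_ g hg
  intro m hm hcomm
  apply hfpf m hm
  have hy' : y ∈ Subgroup.zpowers z := by rw [hzy]; exact Subgroup.mem_zpowers y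
  obtain ⟨k, rfl⟩ := Subgroup.mem_zpowers_iff.mp hy'
  have : Commute z m := hcomm
  exact (this.zpow_left k).eq

/-- **quotient form of `shult`**: `N ⊴ Q`, everything normalizes `N`, `y` acts fixed-point-freely
on `Q/N`; then `[T, ⟨y⟩]` acts trivially on `Q/N`. -/
theorem shultQ (Q N T : Subgroup G) (y : G) (r : ℕ) (hr : r.Prime)
    (hyr : y ^ r = 1) (hNQ : N ≤ Q) (hQN : Q ≤ Subgroup.normalizer (N : Set G))
    (hTN : T ≤ Subgroup.normalizer (N : Set G)) (hyN : y ∈ Subgroup.normalizer (N : Set G))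
    (hTQ : T ≤ Subgroup.normalizer (Q : Set G))
    (hyQ : y ∈ Subgroup.normalizer (Q : Set G)) (hyT : y ∈ Subgroup.normalizer (T : Set G))
    (hsolv : Group.IsSolvable ↥(Q ⊔ T ⊔ Subgroup.zpowers y))
    (hodd : Odd (Nat.card ↥(Q ⊔ T ⊔ Subgroup.zpowers y)))
    (hrQ : r.Coprime (Nat.card Q)) (hrT : r.Coprime (Nat.card T))
    (hcop : (Nat.card T).Coprime (Nat.card Q))
    (hfpf : ∀ m ∈ Q, y * m * y⁻¹ * m⁻¹ ∈ N → m ∈ N) :
    ⁅Q, ⁅T, Subgroup.zpowers y⁆⁆ ≤ N := by
  set H : Subgroup G := Subgroup.normalizer (N : Set G) with hH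
  have hRH : Subgroup.zpowers y ≤ H := Subgroup.zpowers_le.mpr hyN
  set K : Subgroup G := Q ⊔ T ⊔ Subgroup.zpowers y with hK
  have hKH : K ≤ H := sup_le (sup_le hQN hTN) hRH
  haveI hNn : (N.subgroupOf H).Normal := Subgroup.normal_in_normalizer
  set π : ↥H →* ↥H ⧸ N.subgroupOf H := QuotientGroup.mk' (N.subgroupOf H) with hπ
  set yH : ↥H := ⟨y, hyN⟩ with hyH
  set Q' : Subgroup (↥H ⧸ N.subgroupOf H) := (Q.subgroupOf H).map π with hQ'
  set T' : Subgroup (↥H ⧸ N.subgroupOf H) := (T.subgroupOf H).map π with hT'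
  have hzp : (Subgroup.zpowers y).subgroupOf H = Subgroup.zpowers yH := by
    ext x
    rw [Subgroup.mem_subgroupOf, Subgroup.mem_zpowers_iff, Subgroup.mem_zpowers_iff]
    constructor
    · rintro ⟨k, hk⟩
      exact ⟨k, Subtype.ext (by rw [Subgroup.coe_zpow]; exact hk)⟩
    · rintro ⟨k, hk⟩
      refine ⟨k, ?_⟩
      have := congrArg Subtype.val hk
      rwa [Subgroup.coe_zpow] at this
  have hzp' : ((Subgroup.zpowers y).subgroupOf H).map π = Subgroup.zpowers (π yH) := by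
    rw [hzp, MonoidHom.map_zpowers]
  -- hypotheses of `shult_sub` in the quotient
  have hyr' : (π yH) ^ r = 1 := by
    rw [← map_pow]
    have : yH ^ r = 1 := Subtype.ext (by rw [Subgroup.coe_pow]; exact hyr)
    rw [this, map_one]
  have hnormH : ∀ {A B : Subgroup G}, A ≤ Subgroup.normalizer (B : Set G) →
      A.subgroupOf H ≤ Subgroup.normalizer ((B.subgroupOf H : Subgroup ↥H) : Set ↥H) := by
    intro A B hAB a ha
    rw [Subgroup.mem_normalizer_iff]
    intro h
    rw [Subgroup.mem_subgroupOf, Subgroup.mem_subgroupOf]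
    exact Subgroup.mem_normalizer_iff.mp (hAB (Subgroup.mem_subgroupOf.mp ha)) (h : G)
  have hTQ' : T' ≤ Subgroup.normalizer (Q' : Set (↥H ⧸ N.subgroupOf H)) :=
    (Subgroup.map_mono (hnormH hTQ)).trans (Subgroup.le_normalizer_map π)
  have hyQH : yH ∈ Subgroup.normalizer ((Q.subgroupOf H : Subgroup ↥H) : Set ↥H) := by
    have : Subgroup.zpowers yH ≤ Subgroup.normalizer ((Q.subgroupOf H : Subgroup ↥H) : Set ↥H) := by
      rw [← hzp]
      exact hnormH (Subgroup.zpowers_le.mpr hyQ)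
    exact this (Subgroup.mem_zpowers yH)
  have hyTH : yH ∈ Subgroup.normalizer ((T.subgroupOf H : Subgroup ↥H) : Set ↥H) := by
    have : Subgroup.zpowers yH ≤ Subgroup.normalizer ((T.subgroupOf H : Subgroup ↥H) : Set ↥H) := by
      rw [← hzp]
      exact hnormH (Subgroup.zpowers_le.mpr hyT)
    exact this (Subgroup.mem_zpowers yH)
  have hyQ' : π yH ∈ Subgroup.normalizer (Q' : Set (↥H ⧸ N.subgroupOf H)) :=
    Subgroup.le_normalizer_map π (Subgroup.mem_map_of_mem π hyQH)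
  have hyT' : π yH ∈ Subgroup.normalizer (T' : Set (↥H ⧸ N.subgroupOf H)) :=
    Subgroup.le_normalizer_map π (Subgroup.mem_map_of_mem π hyTH)
  have hjoin : Q' ⊔ T' ⊔ Subgroup.zpowers (π yH) ≤ (K.subgroupOf H).map π := by
    refine sup_le (sup_le ?_ ?_) ?_
    · exact Subgroup.map_mono (Subgroup.subgroupOf_mono H (le_sup_left.trans le_sup_left))
    · exact Subgroup.map_mono (Subgroup.subgroupOf_mono H (le_sup_right.trans le_sup_left))
    · rw [← hzp']
      exact Subgroup.map_mono (Subgroup.subgroupOf_mono H le_sup_right)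
  haveI : Group.IsSolvable ↥K := hsolv
  haveI hKHs : Group.IsSolvable ↥(K.subgroupOf H) :=
    Group.isSolvable_of_isSolvable_injective (f := (Subgroup.subgroupOfEquivOfLe hKH).toMonoidHom)
      (Subgroup.subgroupOfEquivOfLe hKH).injective
  haveI hmaps : Group.IsSolvable ↥((K.subgroupOf H).map π) :=
    Group.isSolvable_of_surjective (π.subgroupMap_surjective (K.subgroupOf H))
  have hsolv' : Group.IsSolvable ↥(Q' ⊔ T' ⊔ Subgroup.zpowers (π yH)) :=
    Group.isSolvable_of_isSolvable_injective (Subgroup.inclusion_injective hjoin)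
  have hodd' : Odd (Nat.card ↥(Q' ⊔ T' ⊔ Subgroup.zpowers (π yH))) := by
    apply Odd.of_dvd_nat hodd
    refine (Subgroup.card_dvd_of_le hjoin).trans ?_
    refine (Subgroup.card_map_dvd _ π).trans ?_
    rw [Cfsg.Agent.Lib.Helper7.card_subgroupOf_of_le hKH]
  have hcQ : Nat.card ↥Q' ∣ Nat.card ↥Q := by
    refine (Subgroup.card_map_dvd _ π).trans ?_
    rw [Cfsg.Agent.Lib.Helper7.card_subgroupOf_of_le hQN]
  have hcT : Nat.card ↥T' ∣ Nat.card ↥T := by
    refine (Subgroup.card_map_dvd _ π).trans ?_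
    rw [Cfsg.Agent.Lib.Helper7.card_subgroupOf_of_le hTN]
  have hrQ' : r.Coprime (Nat.card ↥Q') := Nat.Coprime.coprime_dvd_right hcQ hrQ
  have hrT' : r.Coprime (Nat.card ↥T') := Nat.Coprime.coprime_dvd_right hcT hrT
  have hcop' : (Nat.card ↥T').Coprime (Nat.card ↥Q') :=
    Nat.Coprime.coprime_dvd_left hcT (Nat.Coprime.coprime_dvd_right hcQ hcop)
  have hfpf' : ∀ m' ∈ Q', π yH * m' = m' * π yH → m' = 1 := by
    rintro _ ⟨m, hm, rfl⟩ hcomm
    have h1 : π (yH * m * yH⁻¹ * m⁻¹) = 1 := by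
      rw [map_mul, map_mul, map_mul, map_inv, map_inv, hcomm]
      group
    have h2 : yH * m * yH⁻¹ * m⁻¹ ∈ N.subgroupOf H := by
      rw [← QuotientGroup.ker_mk' (N.subgroupOf H)]
      exact h1
    have h3 : (m : G) ∈ N := by
      apply hfpf (m : G) (Subgroup.mem_subgroupOf.mp hm)
      have := Subgroup.mem_subgroupOf.mp h2
      simpa using this
    have h4 : m ∈ N.subgroupOf H := Subgroup.mem_subgroupOf.mpr h3
    rw [← QuotientGroup.ker_mk' (N.subgroupOf H)] at h4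
    exact h4
  have hmain := shult_sub Q' T' (π yH) r hr hyr' hTQ' hyQ' hyT' hsolv' hodd' hrQ' hrT' hcop' hfpf'
  -- back to `G`
  rw [Subgroup.commutator_le]
  intro m hm c hc
  have hYT : ⁅T, Subgroup.zpowers y⁆ ≤ T :=
    commutator_le_left_of_le_normalizer (Subgroup.zpowers_le.mpr hyT)
  have hcH : c ∈ H := hTN (hYT hc)
  have hmH : m ∈ H := hQN hm
  have hc' : (⟨c, hcH⟩ : ↥H) ∈ ⁅T.subgroupOf H, (Subgroup.zpowers y).subgroupOf H⁆ := by
    rw [← commutator_subgroupOf hTN hRH]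
    exact hc
  have hc'' : π ⟨c, hcH⟩ ∈ ⁅T', Subgroup.zpowers (π yH)⁆ := by
    rw [← hzp', hT', ← Subgroup.map_commutator]
    exact Subgroup.mem_map_of_mem π hc'
  have hm' : π ⟨m, hmH⟩ ∈ Q' := Subgroup.mem_map_of_mem π (Subgroup.mem_subgroupOf.mpr hm)
  have hcomm := Subgroup.mem_centralizer_iff.mp (hmain hc'') (π ⟨m, hmH⟩) hm'
  have h1 : π (⁅(⟨m, hmH⟩ : ↥H), (⟨c, hcH⟩ : ↥H)⁆) = 1 := by
    rw [commutatorElement_def, map_mul, map_mul, map_mul, map_inv, map_inv, hcomm]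
    group
  have h2 : ⁅(⟨m, hmH⟩ : ↥H), (⟨c, hcH⟩ : ↥H)⁆ ∈ N.subgroupOf H := by
    rw [← QuotientGroup.ker_mk' (N.subgroupOf H)]
    exact h1
  exact Subgroup.mem_subgroupOf.mp h2

/-- the elements `g` of `A₀` (which normalizes `N`) with `[g, c] ∈ N` for all `c ∈ C₀` -/
def commModSub (N A₀ : Subgroup G) (hA₀ : A₀ ≤ Subgroup.normalizer (N : Set G)) (C₀ : Set G) :
    Subgroup G where
  carrier := {g | g ∈ A₀ ∧ ∀ c ∈ C₀, g * c * g⁻¹ * c⁻¹ ∈ N}
  one_mem' := ⟨A₀.one_mem, fun c _ => by simp [N.one_mem]⟩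
  mul_mem' := by
    rintro a b ⟨ha, hac⟩ ⟨hb, hbc⟩
    refine ⟨A₀.mul_mem ha hb, fun c hc => ?_⟩
    have e : a * b * c * (a * b)⁻¹ * c⁻¹ = a * (b * c * b⁻¹ * c⁻¹) * a⁻¹ * (a * c * a⁻¹ * c⁻¹) := by
      group
    rw [e]
    exact N.mul_mem ((Subgroup.mem_normalizer_iff.mp (hA₀ ha) _).mp (hbc c hc)) (hac c hc)
  inv_mem' := by
    rintro a ⟨ha, hac⟩
    refine ⟨A₀.inv_mem ha, fun c hc => ?_⟩
    have e : a⁻¹ * c * a⁻¹⁻¹ * c⁻¹ = a⁻¹ * (a * c * a⁻¹ * c⁻¹)⁻¹ * a⁻¹⁻¹ := by group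
    rw [e]
    exact (Subgroup.mem_normalizer_iff.mp (hA₀ (A₀.inv_mem ha)) _).mp (N.inv_mem (hac c hc))

theorem mem_commModSub {N A₀ : Subgroup G} {hA₀ : A₀ ≤ Subgroup.normalizer (N : Set G)}
    {C₀ : Set G} {g : G} :
    g ∈ commModSub N A₀ hA₀ C₀ ↔ g ∈ A₀ ∧ ∀ c ∈ C₀, g * c * g⁻¹ * c⁻¹ ∈ N := Iff.rfl

/-- a conjugation-closed subgroup is normalized -/
theorem mem_normalizer_of_conj_mem {X : Subgroup G} {g : G}
    (h1 : ∀ x ∈ X, g * x * g⁻¹ ∈ X) (h2 : ∀ x ∈ X, g⁻¹ * x * g⁻¹⁻¹ ∈ X) :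
    g ∈ Subgroup.normalizer (X : Set G) := by
  rw [Subgroup.mem_normalizer_iff]
  intro h
  constructor
  · exact h1 h
  · intro hh
    have := h2 _ hh
    have e : g⁻¹ * (g * h * g⁻¹) * g⁻¹⁻¹ = h := by group
    rwa [e] at this

/-- **Lemma A** (helper1), by induction over a chief series -/
theorem lemA_aux (T : Subgroup G) (y : G) (r : ℕ) (hr : r.Prime) (hyr : y ^ r = 1)
    (hyT : y ∈ Subgroup.normalizer (T : Set G)) (hrT : r.Coprime (Nat.card ↥T))
    (K₀ : Subgroup G) (hK₀s : Group.IsSolvable ↥K₀) (hK₀o : Odd (Nat.card ↥K₀)) (hTK₀ : T ≤ K₀)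
    (hyK₀ : y ∈ K₀) :
    ∀ (n : ℕ) (Q : Subgroup G), Nat.card ↥Q ≤ n → Q ≤ K₀ →
      T ≤ Subgroup.normalizer (Q : Set G) → y ∈ Subgroup.normalizer (Q : Set G) →
      r.Coprime (Nat.card ↥Q) → (Nat.card ↥T).Coprime (Nat.card ↥Q) →
      Q ⊓ Subgroup.centralizer ((Subgroup.zpowers y : Subgroup G) : Set G) ≤
        Subgroup.centralizer (T : Set G) →
      ⁅T, Subgroup.zpowers y⁆ ≤ Subgroup.centralizer (Q : Set G) := by
  intro n
  induction n with
  | zero =>
    intro Q hQn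
    have := Nat.card_pos (α := ↥Q)
    omega
  | succ n ih =>
    intro Q hQn hQK hTQ hyQ hrQ hcop hfix
    by_cases hQ1 : Q = ⊥
    · intro c _
      rw [Subgroup.mem_centralizer_iff]
      intro m hm
      rw [hQ1] at hm
      rw [Subgroup.mem_bot.mp hm, one_mul, mul_one]
    set R : Subgroup G := Subgroup.zpowers y with hR
    set Y : Subgroup G := ⁅T, R⁆ with hY
    have hRT : R ≤ Subgroup.normalizer (T : Set G) := Subgroup.zpowers_le.mpr hyT
    have hRQ : R ≤ Subgroup.normalizer (Q : Set G) := Subgroup.zpowers_le.mpr hyQ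
    have hYT : Y ≤ T := commutator_le_left_of_le_normalizer hRT
    have hTY : T ≤ Subgroup.normalizer (Y : Set G) := Subgroup.normalizer_commutator_ge_left T R
    have hRY : R ≤ Subgroup.normalizer (Y : Set G) := Subgroup.normalizer_commutator_ge_right T R
    haveI hQs : Group.IsSolvable ↥Q :=
      Group.isSolvable_of_isSolvable_injective (Subgroup.inclusion_injective hQK)
    -- `Q' < Q`
    have hQ'lt : ⁅Q, Q⁆ < Q := by
      haveI : Nontrivial ↥Q := (Subgroup.nontrivial_iff_ne_bot Q).mpr hQ1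
      have h1 : _root_.commutator ↥Q < ⊤ := Group.IsSolvable.commutator_lt_top_of_nontrivial ↥Q
      refine lt_of_le_of_ne (Subgroup.commutator_le_self Q) ?_
      intro h2
      apply h1.ne
      apply Subgroup.map_injective Q.subtype_injective
      rw [Subgroup.map_subtype_commutator, h2, ← MonoidHom.range_eq_map, Subgroup.range_subtype]
    have hnQ' : ∀ g : G, g ∈ Subgroup.normalizer (Q : Set G) →
        g ∈ Subgroup.normalizer ((⁅Q, Q⁆ : Subgroup G) : Set G) := by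
      intro g hg
      apply mem_normalizer_of_cj_eq
      show Subgroup.map (MulAut.conj g).toMonoidHom ⁅Q, Q⁆ = ⁅Q, Q⁆
      rw [Subgroup.map_commutator]
      have : Subgroup.map (MulAut.conj g).toMonoidHom Q = Q := cj_eq_of_mem_normalizer hg
      rw [this]
    obtain ⟨N, -, hNmax⟩ := Finite.exists_le_maximal
      (p := fun N : Subgroup G => ⁅Q, Q⁆ ≤ N ∧ N < Q ∧ T ≤ Subgroup.normalizer (N : Set G) ∧
        y ∈ Subgroup.normalizer (N : Set G)) (a := ⁅Q, Q⁆)
      ⟨le_rfl, hQ'lt, fun t ht => hnQ' t (hTQ ht), hnQ' y hyQ⟩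
    obtain ⟨⟨hQ'N, hNlt, hTN, hyN⟩, hmax⟩ := hNmax
    have hNQ : N ≤ Q := hNlt.le
    have hRN : R ≤ Subgroup.normalizer (N : Set G) := Subgroup.zpowers_le.mpr hyN
    have hQN : Q ≤ Subgroup.normalizer (N : Set G) := by
      have hconj : ∀ q ∈ Q, ∀ x ∈ N, q * x * q⁻¹ ∈ N := by
        intro q hq x hx
        have e : q * x * q⁻¹ = ⁅q, x⁆ * x := by rw [commutatorElement_def]; group
        rw [e]
        exact N.mul_mem (hQ'N (Subgroup.commutator_mem_commutator hq (hNQ hx))) hx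
      intro q hq
      exact mem_normalizer_of_conj_mem (hconj q hq) (hconj q⁻¹ (Q.inv_mem hq))
    -- induction hypothesis for `N`
    have hNcard : Nat.card ↥N ≤ n := by
      by_contra hlt
      push Not at hlt
      exact hNlt.ne (Subgroup.eq_of_le_of_card_ge hNQ (by omega))
    have hcNQ : Nat.card ↥N ∣ Nat.card ↥Q := Subgroup.card_dvd_of_le hNQ
    have hYN : Y ≤ Subgroup.centralizer (N : Set G) :=
      ih N hNcard (hNQ.trans hQK) hTN hyN (Nat.Coprime.coprime_dvd_right hcNQ hrQ)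
        (Nat.Coprime.coprime_dvd_right hcNQ hcop) ((inf_le_inf_right _ hNQ).trans hfix)
    -- `X`, the preimage of `C_{Q/N}(Y)`
    set X : Subgroup G := commModSub N Q hQN (Y : Set G) with hX
    have hXQ : X ≤ Q := fun x hx => hx.1
    have hNX : N ≤ X := by
      intro x hx
      refine ⟨hNQ hx, fun c hc => ?_⟩
      have h1 := Subgroup.mem_centralizer_iff.mp (hYN hc) x hx
      have e : x * c * x⁻¹ * c⁻¹ = 1 := by rw [h1]; group
      rw [e]
      exact N.one_mem
    have hXconj : ∀ g : G, g ∈ Subgroup.normalizer (Q : Set G) →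
        g ∈ Subgroup.normalizer (N : Set G) → g ∈ Subgroup.normalizer (Y : Set G) →
        ∀ q ∈ X, g * q * g⁻¹ ∈ X := by
      intro g hgQ hgN hgY q hq
      refine ⟨(Subgroup.mem_normalizer_iff.mp hgQ q).mp hq.1, fun c hc => ?_⟩
      have hc' : g⁻¹ * c * g ∈ Y := by
        have := (Subgroup.mem_normalizer_iff.mp (Subgroup.inv_mem _ hgY) c).mp hc
        rwa [inv_inv] at this
      have e : g * q * g⁻¹ * c * (g * q * g⁻¹)⁻¹ * c⁻¹ =
          g * (q * (g⁻¹ * c * g) * q⁻¹ * (g⁻¹ * c * g)⁻¹) * g⁻¹ := by group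
      rw [e]
      exact (Subgroup.mem_normalizer_iff.mp hgN _).mp (hq.2 _ hc')
    have hXnorm : ∀ g : G, g ∈ Subgroup.normalizer (Q : Set G) →
        g ∈ Subgroup.normalizer (N : Set G) → g ∈ Subgroup.normalizer (Y : Set G) →
        g ∈ Subgroup.normalizer (X : Set G) := by
      intro g hgQ hgN hgY
      exact mem_normalizer_of_conj_mem (hXconj g hgQ hgN hgY)
        (hXconj g⁻¹ (Subgroup.inv_mem _ hgQ) (Subgroup.inv_mem _ hgN) (Subgroup.inv_mem _ hgY))
    -- `[Q, Y] ≤ N`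
    have hQYN : ⁅Q, Y⁆ ≤ N := by
      by_cases hXlt : X < Q
      · -- `X = N`, and `y` acts fixed-point-freely on `Q/N`
        have hXN : X ≤ N := hmax ⟨hQ'N.trans hNX, hXlt, fun t ht => hXnorm t (hTQ ht) (hTN ht)
          (hTY ht), hXnorm y hyQ hyN (hRY (Subgroup.mem_zpowers y))⟩ hNX
        have hfpf : ∀ m ∈ Q, y * m * y⁻¹ * m⁻¹ ∈ N → m ∈ N := by
          intro m hm hym
          have hstab : R ≤ commModSub N (Subgroup.normalizer (N : Set G)) le_rfl {m} := by
            rw [hR, Subgroup.zpowers_le]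
            exact ⟨hyN, fun c hc => by rw [Set.mem_singleton_iff.mp hc]; exact hym⟩
          have hRc : (Nat.card ↥R).Coprime (Nat.card ↥Q) := by
            apply Nat.Coprime.coprime_dvd_left _ hrQ
            rw [hR, Nat.card_zpowers]
            exact orderOf_dvd_of_pow_eq_one hyr
          obtain ⟨c₀, hc₀, hmc⟩ := Cfsg.Agent.S0022.result R Q hRQ hRc (Or.inr hQs) N hNQ hQN hRN m
            hm (fun a ha => (hstab ha).2 m rfl)
          have hc₀X : c₀ ∈ X := by
            refine ⟨hc₀.1, fun c hc => ?_⟩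
            have h1 := Subgroup.mem_centralizer_iff.mp (hfix hc₀) c (hYT hc)
            have e : c₀ * c * c₀⁻¹ * c⁻¹ = 1 := by rw [← h1]; group
            rw [e]
            exact N.one_mem
          have h2 : m = c₀ * (m⁻¹ * c₀)⁻¹ := by group
          rw [h2]
          exact N.mul_mem (hXN hc₀X) (N.inv_mem hmc)
        have hK : Q ⊔ T ⊔ Subgroup.zpowers y ≤ K₀ :=
          sup_le (sup_le hQK hTK₀) (Subgroup.zpowers_le.mpr hyK₀)
        have hsolv : Group.IsSolvable ↥(Q ⊔ T ⊔ Subgroup.zpowers y) :=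
          Group.isSolvable_of_isSolvable_injective (Subgroup.inclusion_injective hK)
        have hodd : Odd (Nat.card ↥(Q ⊔ T ⊔ Subgroup.zpowers y)) :=
          Odd.of_dvd_nat hK₀o (Subgroup.card_dvd_of_le hK)
        exact shultQ Q N T y r hr hyr hNQ hQN hTN hyN hTQ hyQ hyT hsolv hodd hrQ hrT hcop hfpf
      · -- `X = Q`
        have hXeq : X = Q := by
          by_contra hne
          exact hXlt (lt_of_le_of_ne hXQ hne)
        rw [Subgroup.commutator_le]
        intro q hq c hc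
        have hqX : q ∈ X := by rw [hXeq]; exact hq
        rw [commutatorElement_def]
        exact hqX.2 c hc
    -- conclusion
    have hYQn : Y ≤ Subgroup.normalizer (Q : Set G) := hYT.trans hTQ
    have hYc : (Nat.card ↥Y).Coprime (Nat.card ↥Q) :=
      Nat.Coprime.coprime_dvd_left (Subgroup.card_dvd_of_le hYT) hcop
    have h27 := Cfsg.Agent.S0027.result Y Q hYQn hYc (Or.inr hQs)
    have hNY : ⁅N, Y⁆ = ⊥ := by
      rw [Subgroup.commutator_eq_bot_iff_le_centralizer, Subgroup.le_centralizer_iff]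
      exact hYN
    have hQY : ⁅Q, Y⁆ = ⊥ := by
      rw [← h27, eq_bot_iff, ← hNY]
      exact Subgroup.commutator_mono hQYN le_rfl
    rw [Subgroup.commutator_eq_bot_iff_le_centralizer, Subgroup.le_centralizer_iff] at hQY
    exact hQY

/-- **Lemma A** in the shape `HypLemA` -/
theorem lemA : HypLemA G := by
  intro Q T y r hr hyr hTQ hyQ hyT hsolv hodd hrQ hrT hcop hfix
  exact lemA_aux T y r hr hyr hyT hrT (Q ⊔ T ⊔ Subgroup.zpowers y) hsolv hodd
    (le_sup_right.trans le_sup_left) ((le_sup_right : Subgroup.zpowers y ≤ _)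
      (Subgroup.mem_zpowers y)) (Nat.card ↥Q) Q le_rfl (le_sup_left.trans le_sup_left) hTQ hyQ hrQ
    hcop hfix

end Cfsg.Agent.Lib.Helper8.BGTen
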