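import Mathlib
import Cfsg.Agent.Lib.Helper4.BG14B
import Cfsg.Agent.Lib.Helper4.BG1218B
import Cfsg.Agent.Lib.helper3.BG13B
import Cfsg.Agent.Lib.helper3.BG12I
import Cfsg.Agent.S1378
import Cfsg.Agent.S1417
import Cfsg.Agent.S1418
import Cfsg.Agent.S1423
import Cfsg.Agent.S1425

/-!
Bender–Glauberman §14, helper8: statement **(iv)** of the lead blueprint (Part 15)
(= B&G 14.2(c), = S1430 clause 3c), UNCONDITIONALLY (no Theorem T):

`p ∈ τ₁(M) ∪ τ₃(M)`, `P ≤ M` of order `p` with `C_{M_σ}(P) ≠ 1`, `L` maximal containing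
`N_G(P)`  ⇒  `p ∈ σ(L)`.

This file: the auxiliary lemmas.
-/

set_option autoImplicit false
set_option linter.unusedSectionVars false
set_option linter.unusedVariables false
set_option linter.style.haveILetI false
set_option maxHeartbeats 1000000
open Cfsg
open scoped commutatorElement Pointwise

namespace Cfsg.Agent.Lib.Helper8.BG14IV

open Cfsg.Agent.Lib.Helper7 (IsSylowIn exists_isSylowIn_ge card_subgroupOf_of_le)
open Cfsg.Agent.Lib.Helper8.BGTen Cfsg.Agent.Lib.Helper4.BGTrans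
open Cfsg.Agent.Lib.helper3.BG11 Cfsg.Agent.Lib.helper3.BG12 Cfsg.Agent.Lib.Helper4.BG13
open Cfsg.Agent.Lib.Helper4.BG11E (hyp1416 hyp1417 hyp1418)

universe u

variable {G : Type u} [Group G] [Finite G]

/-- Sylow conjugacy, ambient form: a `q`-subgroup of `X` is `X`-conjugate into a given Sylow
`q`-subgroup of `X` -/
theorem exists_cj_le_sylIn {q : ℕ} [hq : Fact q.Prime] {S X Q : Subgroup G}
    (hS : IsSylowIn q S X) (hQX : Q ≤ X) (hQ : IsPGroup q ↥Q) : ∃ c ∈ X, cj c Q ≤ S := by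
  obtain ⟨S', hS', hQS'⟩ := exists_isSylowIn_ge hQ hQX
  obtain ⟨c, hc, hc'⟩ := hS'.conj hS
  refine ⟨c, hc, ?_⟩
  have : cj c S' = S := hc'.symm
  rw [← this]
  exact cj_mono c hQS'

/-- the **Claim** inside Part 8 Case 2 (proof of S1427): `r_p(M) = 1`, `p ∉ σ(M)`, `p` not ideal,
`X ≤ M` a nontrivial `p`-group, `D ≤ C_{M_σ}(X)`, `A` elementary abelian of order `p²`:
`C_D(A) = 1`. -/
theorem inf_centralizer_sq_eq_bot (hG : Cfsg.IsMinSimpleOddOrder G) {M : Subgroup G}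
    (hM : IsCoatom M) {p : ℕ} [hp : Fact p.Prime] (hpM : p ∉ Cfsg.sigma M)
    (hr1 : Cfsg.PRankLE p 1 ↥M) (hnid : ¬ Cfsg.IsIdealPrime p G) {X : Subgroup G}
    (hXp : IsPGroup p ↥X) (hX1 : X ≠ ⊥) (hXM : X ≤ M) {D : Subgroup G}
    (hDM : D ≤ Cfsg.sigmaCore M) (hDX : D ≤ Subgroup.centralizer (X : Set G)) {A : Subgroup G}
    (hAe : Cfsg.IsElementaryAbelian p A) (hAc : Nat.card ↥A = p ^ 2) :
    D ⊓ Subgroup.centralizer (A : Set G) = ⊥ := by
  have h16 := hyp1416 hG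
  have h17 := hyp1417 hG
  have h18 := hyp1418 hG
  have hrank : ∀ (B : Subgroup G) (g : G), Cfsg.IsElementaryAbelian p B → Nat.card ↥B = p ^ 2 →
      B ≤ cj g M → False := by
    intro B g hBe hBc hBg
    have h1 : cj g⁻¹ B ≤ M := by rw [cj_le_iff, inv_inv]; exact hBg
    exact not_pRankLE_one_of_elem_sq hp.out h1
      (Cfsg.Agent.H2.BG12.isElementaryAbelian_cj hBe g⁻¹) (by rw [card_cj]; exact hBc) hr1
  by_contra hD0
  have hcard : Nat.card ↥(D ⊓ Subgroup.centralizer (A : Set G)) ≠ 1 :=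
    fun h => hD0 (Subgroup.card_eq_one.mp h)
  obtain ⟨q, hq, hqd⟩ := Nat.exists_prime_and_dvd hcard
  haveI : Fact q.Prime := ⟨hq⟩
  obtain ⟨Q0, hQ0, -⟩ := exists_isSylowIn_ge (p := q) (Q := ⊥)
    (H := D ⊓ Subgroup.centralizer (A : Set G)) IsPGroup.of_bot bot_le
  have hQ01 : Q0 ≠ ⊥ := Cfsg.Agent.H2.BG11.sylIn_ne_bot hQ0 hqd
  have hQ0q : IsPGroup q ↥Q0 := hQ0.isPGroup
  have hQ0D : Q0 ≤ D := hQ0.1.trans inf_le_left
  have hQ0M : Q0 ≤ M := (hQ0D.trans hDM).trans (sigmaCore_le M)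
  have hqM : q ∈ Cfsg.sigma M :=
    mem_sigma_of_dvd_sigmaCore hG hM hq
      (hqd.trans (Subgroup.card_dvd_of_le (inf_le_left.trans hDM)))
  have hACQ : A ≤ Subgroup.centralizer (Q0 : Set G) :=
    Subgroup.le_centralizer_iff.mp (hQ0.1.trans inf_le_right)
  have hXCQ : X ≤ Subgroup.centralizer (Q0 : Set G) :=
    Subgroup.le_centralizer_iff.mp (hQ0D.trans hDX)
  have hQ0t : Q0 ≠ ⊤ := ne_top_of_le_coatom hM hQ0M
  have hNt := normalizer_ne_top' hG hQ01 hQ0t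
  obtain ⟨H, hH, hNH⟩ := exists_coatom_ge hNt
  have hAH : A ≤ H := (hACQ.trans (Subgroup.centralizer_le_normalizer _)).trans hNH
  have hXH : X ≤ H := (hXCQ.trans (Subgroup.centralizer_le_normalizer _)).trans hNH
  have hne : H ≠ M := by
    intro h
    apply hrank A 1 hAe hAc
    rw [cj_one, ← h]; exact hAH
  have hYβ : ∀ s : ℕ, s.Prime → s ∣ Nat.card ↥A → s ∉ Cfsg.beta H := by
    intro s hs hsA hsβ
    rw [hAc] at hsA
    have : s = p := (Nat.prime_dvd_prime_iff_eq hs hp.out).mp (hs.dvd_of_dvd_pow hsA)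
    rw [this] at hsβ
    exact hnid hsβ.2
  rcases conj_into_or hG h16 h17 h18 hM hH hne hqM hQ0q hQ01 hQ0M hNH hAH hYβ with
    ⟨k, -, hAk⟩ | ⟨hHM, hncop⟩
  · exact hrank A k hAe hAc hAk
  · have hpd : p ∣ Nat.card ↥(Cfsg.sigmaCore H) := by
      by_contra hnd
      apply hncop
      rw [hAc]
      exact Nat.Coprime.pow_left 2 ((Nat.Prime.coprime_iff_not_dvd hp.out).mpr hnd)
    have hpH : p ∈ Cfsg.sigma H := mem_sigma_of_dvd_sigmaCore hG hH hp.out hpd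
    have hXσ : X ≤ Cfsg.sigmaCore H :=
      Cfsg.Agent.H2.BG11.le_sigmaCore_of_pgroup hG hH hpH hXH hXp
    have : X ≤ Cfsg.sigmaCore H ⊓ M := le_inf hXσ hXM
    rw [hHM] at this
    exact hX1 (le_bot_iff.mp this)

/-- **A0** applied to a `τ₃`-subgroup: `p ∈ τ₃(M)`, `P ≤ M` a `p`-group, `q ∈ σ(M) − β(M)`: some
Sylow `q`-subgroup of `M_σ` is centralized by `P`. -/
theorem exists_sylow_le_centralizer_of_tau3 (hG : Cfsg.IsMinSimpleOddOrder G) {M : Subgroup G}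
    (hM : IsCoatom M) {p : ℕ} [hp : Fact p.Prime] (hτ : p ∈ Cfsg.tau3 M) {P : Subgroup G}
    (hPM : P ≤ M) (hPp : IsPGroup p ↥P) {q : ℕ} [hq : Fact q.Prime] (hqσ : q ∈ Cfsg.sigma M)
    (hqβ : q ∉ Cfsg.beta M) :
    ∃ S : Subgroup G, IsSylowIn q S (Cfsg.sigmaCore M) ∧
      S ≤ Subgroup.centralizer (P : Set G) := by
  obtain ⟨E₀, hE₀⟩ := exists_compl hG hM
  have hcop : (Nat.card ↥P).Coprime (Nat.card ↥(Cfsg.sigmaCore M)) :=
    coprime_sigmaCore_of_isPGroup hG hM hτ.2.1 hPp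
  obtain ⟨m, hm, hPE⟩ := Cfsg.Agent.H2.BG12.exists_cj_compl_ge hG hM hE₀ hPM hcop
  have hE := Cfsg.Agent.H2.BG12.compl_cj hE₀ hm
  set E := cj m E₀ with hEdef
  have hEM : E ≤ M := hE.1
  have hEN : E ≤ Subgroup.normalizer (Cfsg.sigmaCore M : Set G) :=
    hEM.trans (Cfsg.Agent.H2.BG11.le_normalizer_sigmaCore M)
  have hcopE := Cfsg.Agent.H2.BG12.coprime_compl hG hM hE
  have hMσt : Cfsg.sigmaCore M ≠ ⊤ :=
    ne_top_of_le_coatom hM (Cfsg.Agent.H2.BG11.sigmaCore_le M)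
  have hsolvσ : Group.IsSolvable ↥(Cfsg.sigmaCore M) := hG.2.2.2 _ hMσt
  obtain ⟨S, hS, hES⟩ := Cfsg.Agent.H2.BG11.exists_inv_sylow' (q := q) hEN hcopE hsolvσ
  refine ⟨S, hS, ?_⟩
  by_cases hS1 : S = ⊥
  · rw [hS1]; exact bot_le
  have hSM : IsSylowIn q S M :=
    Cfsg.Agent.H2.BG11.sylIn_of_sylIn_top
      (Cfsg.Agent.H2.BG11.sylIn_top_of_not_dvd_index hS
        ((Cfsg.Agent.H2.BG11.sigmaCore_hall hG hM).2 q hq.out hqσ))
      (hS.1.trans (sigmaCore_le M))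
  have hnar : AutNar q ↥S := autNar_of_not_beta hG hM hqβ hSM hS1
  have hqE : ¬ q ∣ Nat.card ↥E := fun h =>
    Cfsg.Agent.H2.BG12.not_mem_sigma_of_dvd_compl hG hM hE hq.out h hqσ
  have hE'S : ⁅E, E⁆ ≤ Subgroup.centralizer (S : Set G) :=
    commutator_le_centralizer_of_autNar hG hnar hES hqE
  have hPE' : P ≤ ⁅E, E⁆ := by
    have h1 : P ≤ ⁅M, M⁆ := Cfsg.Agent.Lib.helper3.BG13.pgroup_le_commutator_of_tau3 hG hτ hPM hPp
    exact (le_inf h1 hPE).trans (Cfsg.Agent.Lib.helper3.BG13.inf_commutator_le_compl hE)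
  intro s hs
  rw [Subgroup.mem_centralizer_iff]
  intro x hx
  exact ((Subgroup.mem_centralizer_iff.mp (hE'S (hPE' hx))) s hs).symm

/-- two subgroups normalizing each other with coprime orders commute -/
theorem le_centralizer_of_normalize_coprime {A B : Subgroup G}
    (hAB : A ≤ Subgroup.normalizer (B : Set G)) (hBA : B ≤ Subgroup.normalizer (A : Set G))
    (hcop : (Nat.card ↥A).Coprime (Nat.card ↥B)) : B ≤ Subgroup.centralizer (A : Set G) := by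
  have h1 : ⁅A, B⁆ ≤ B := by
    rw [Subgroup.commutator_comm]
    exact commutator_le_left_of_le_normalizer hAB
  have h2 : ⁅A, B⁆ ≤ A := commutator_le_left_of_le_normalizer hBA
  have h3 : A ⊓ B = ⊥ := (Subgroup.disjoint_of_coprime_natCard hcop).eq_bot
  have h4 : ⁅A, B⁆ = ⊥ := by
    rw [eq_bot_iff, ← h3]; exact le_inf h2 h1
  intro b hb
  rw [Subgroup.mem_centralizer_iff]
  intro a ha
  have h5 : ⁅a, b⁆ ∈ ⁅A, B⁆ := Subgroup.commutator_mem_commutator ha hb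
  rw [h4, Subgroup.mem_bot, commutatorElement_eq_one_iff_mul_comm] at h5
  exact h5

end Cfsg.Agent.Lib.Helper8.BG14IV
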