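import Mathlib
import Cfsg.Agent.Lib.Helper8.BG14IVa

/-!
Bender–Glauberman §14, helper8: statement **(iv)** of the lead blueprint (Part 15)
(= B&G 14.2(c), = S1430 clause 3c), UNCONDITIONALLY (no Theorem T):

`mem_sigma_of_kappa'`: `p ∈ τ₁(M) ∪ τ₃(M)`, `P ≤ M` of order `p` with `C_{M_σ}(P) ≠ 1`, `L` maximal
containing `N_G(P)`  ⇒  `p ∈ σ(L)`.

`normalizer_le_sigma`: the same for `p ∈ κ(M)`.
-/

set_option autoImplicit false
set_option linter.unusedSectionVars false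
set_option linter.unusedVariables false
set_option linter.style.haveILetI false
set_option maxHeartbeats 2000000
open Cfsg
open scoped commutatorElement Pointwise

namespace Cfsg.Agent.Lib.Helper8.BG14IV

open Cfsg.Agent.Lib.Helper7 (IsSylowIn exists_isSylowIn_ge card_subgroupOf_of_le)
open Cfsg.Agent.Lib.Helper8.BGTen Cfsg.Agent.Lib.Helper4.BGTrans
open Cfsg.Agent.Lib.helper3.BG11 Cfsg.Agent.Lib.helper3.BG12 Cfsg.Agent.Lib.Helper4.BG13
open Cfsg.Agent.Lib.Helper4.BG14 (normalizer_le_of_centralizer_uniq)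

universe u

variable {G : Type u} [Group G] [Finite G]

/-- the configuration reached in the proof of (iv) after assuming `p ∉ σ(L)` -/
structure Cfg4 (M L H : Subgroup G) (p : ℕ) (P A : Subgroup G) : Prop where
  hM : IsCoatom M
  hL : IsCoatom L
  hH : IsCoatom H
  hp : p.Prime
  hpτ : p ∈ Cfsg.tau1 M ∨ p ∈ Cfsg.tau3 M
  hPM : P ≤ M
  hPc : Nat.card ↥P = p
  hNL : Subgroup.normalizer (P : Set G) ≤ L
  hτ2 : p ∈ Cfsg.tau2 L
  hpH : p ∈ Cfsg.sigma H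
  hdis : ∀ q : ℕ, q ∈ Cfsg.sigma M → q ∉ Cfsg.sigma L
  hcompl : Cfsg.IsComplIn (H ⊓ L) (Cfsg.sigmaCore L) L
  hPH : P ≤ H
  hDH : Cfsg.sigmaCore M ⊓ Subgroup.centralizer (P : Set G) ≤ H
  hAH : A ≤ H
  hAL : A ≤ L
  hAe : Cfsg.IsElementaryAbelian p A
  hAc : Nat.card ↥A = p ^ 2

namespace Cfg4

variable {M L H : Subgroup G} {p : ℕ} {P A : Subgroup G}

theorem hpσM (h : Cfg4 M L H p P A) : p ∉ Cfsg.sigma M := by
  rcases h.hpτ with h1 | h1
  · exact h1.2.1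
  · exact h1.2.1

theorem hrkM (h : Cfg4 M L H p P A) : Cfsg.PRankLE p 1 ↥M := by
  rcases h.hpτ with h1 | h1
  · exact h1.2.2.2.2
  · exact h1.2.2.2

theorem hDL (h : Cfg4 M L H p P A) :
    Cfsg.sigmaCore M ⊓ Subgroup.centralizer (P : Set G) ≤ L :=
  inf_le_right.trans ((Subgroup.centralizer_le_normalizer _).trans h.hNL)

theorem hPp (h : Cfg4 M L H p P A) : IsPGroup p ↥P := by
  haveI : Fact p.Prime := ⟨h.hp⟩
  exact IsPGroup.of_card (n := 1) (by rw [h.hPc, pow_one])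

theorem hP1 (h : Cfg4 M L H p P A) : P ≠ ⊥ := by
  intro h0
  have := h.hPc
  rw [h0, Subgroup.card_bot] at this
  exact h.hp.one_lt.ne this

/-- no elementary abelian subgroup of order `p²` lies in `M` -/
theorem hrank (h : Cfg4 M L H p P A) {B : Subgroup G} (hBe : Cfsg.IsElementaryAbelian p B)
    (hBc : Nat.card ↥B = p ^ 2) (hBM : B ≤ M) : False :=
  not_pRankLE_one_of_elem_sq h.hp hBM hBe hBc h.hrkM

/-- `E_L = H ∩ L` normalizes `A`, and `P ≤ A` -/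
theorem h18 (hG : Cfsg.IsMinSimpleOddOrder G) (h : Cfg4 M L H p P A) :
    H ⊓ L ≤ Subgroup.normalizer (A : Set G) ∧ P ≤ A := by
  haveI : Fact p.Prime := ⟨h.hp⟩
  have h18 := Cfsg.Agent.S1418.result hG L h.hL (H ⊓ L) h.hcompl p h.hτ2 A
    ⟨le_inf h.hAH h.hAL, h.hAe, h.hAc⟩
  exact ⟨h18.1.1, h18.1.2 P (le_inf h.hPH (Subgroup.le_normalizer.trans h.hNL)) h.hPc⟩

/-- the Claim: `C_D(A) = 1` -/
theorem hclaim (hG : Cfsg.IsMinSimpleOddOrder G) (h : Cfg4 M L H p P A) :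
    (Cfsg.sigmaCore M ⊓ Subgroup.centralizer (P : Set G)) ⊓ Subgroup.centralizer (A : Set G) = ⊥ := by
  haveI : Fact p.Prime := ⟨h.hp⟩
  have hnid : ¬ Cfsg.IsIdealPrime p G :=
    (Cfsg.Agent.S1408.result hG L h.hL p h.hτ2.2.1 h.hτ2.2.2.1 h.hτ2.2.2.2).1
  exact inf_centralizer_sq_eq_bot hG h.hM h.hpσM h.hrkM hnid h.hPp h.hP1 h.hPM inf_le_left
    inf_le_right h.hAe h.hAc

/-- no elementary abelian `q²`-subgroup inside `D = C_{M_σ}(P)` -/
theorem no_sq_in_D (hG : Cfsg.IsMinSimpleOddOrder G) (h : Cfg4 M L H p P A) {q : ℕ}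
    [hq : Fact q.Prime] {B : Subgroup G}
    (hBD : B ≤ Cfsg.sigmaCore M ⊓ Subgroup.centralizer (P : Set G))
    (hBe : Cfsg.IsElementaryAbelian q B) (hBc : Nat.card ↥B = q ^ 2) : False := by
  haveI : Fact p.Prime := ⟨h.hp⟩
  have hB1 : B ≠ ⊥ := by
    intro h0
    rw [h0, Subgroup.card_bot] at hBc
    have := Nat.one_lt_pow (n := 2) (by norm_num) hq.out.one_lt
    omega
  have hqB : q ∣ Nat.card ↥B := by rw [hBc]; exact dvd_pow_self q (by norm_num)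
  have hqM : q ∈ Cfsg.sigma M :=
    mem_sigma_of_dvd_sigmaCore hG h.hM hq.out
      (hqB.trans (Subgroup.card_dvd_of_le (hBD.trans inf_le_left)))
  have hqL : q ∉ Cfsg.sigma L := h.hdis q hqM
  have hBL : B ≤ L := hBD.trans h.hDL
  have hBH : B ≤ H := hBD.trans h.hDH
  have hτq : q ∈ Cfsg.tau2 L := by
    refine ⟨hq.out, hqL, ?_, not_pRankLE_one_of_elem_sq hq.out hBL hBe hBc⟩
    by_contra h2
    exact hqL (alpha_subset_sigma hG (uT hG) h.hL ⟨hq.out, h2⟩)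
  have h18q := Cfsg.Agent.S1418.result hG L h.hL (H ⊓ L) h.hcompl q hτq B
    ⟨le_inf hBH hBL, hBe, hBc⟩
  obtain ⟨hEA, -⟩ := h.h18 hG
  have hAB : A ≤ Subgroup.normalizer (B : Set G) := (le_inf h.hAH h.hAL).trans h18q.1.1
  have hBA : B ≤ Subgroup.normalizer (A : Set G) := (le_inf hBH hBL).trans hEA
  have hqp : q ≠ p := by
    rintro rfl
    exact h.hpσM hqM
  have hcop : (Nat.card ↥A).Coprime (Nat.card ↥B) := by
    rw [h.hAc, hBc]
    exact Nat.Coprime.pow _ _ ((Nat.coprime_primes h.hp hq.out).mpr (Ne.symm hqp))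
  have hBCA : B ≤ Subgroup.centralizer (A : Set G) :=
    le_centralizer_of_normalize_coprime hAB hBA hcop
  have := h.hclaim hG
  apply hB1
  rw [eq_bot_iff, ← this]
  exact le_inf hBD hBCA

/-- `N_G(X) ≤ M` for every subgroup `X` of prime order of `D = C_{M_σ}(P)` -/
theorem normalizer_le (hG : Cfsg.IsMinSimpleOddOrder G) (h : Cfg4 M L H p P A) {q : ℕ}
    [hq : Fact q.Prime] {X : Subgroup G}
    (hXD : X ≤ Cfsg.sigmaCore M ⊓ Subgroup.centralizer (P : Set G)) (hXc : Nat.card ↥X = q) :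
    Subgroup.normalizer (X : Set G) ≤ M := by
  haveI : Fact p.Prime := ⟨h.hp⟩
  have hM := h.hM
  have hX1 : X ≠ ⊥ := by
    intro h0
    rw [h0, Subgroup.card_bot] at hXc
    exact hq.out.one_lt.ne hXc
  have hXσ : X ≤ Cfsg.sigmaCore M := hXD.trans inf_le_left
  have hXM : X ≤ M := hXσ.trans (sigmaCore_le M)
  have hXp : IsPGroup q ↥X := IsPGroup.of_card (n := 1) (by rw [hXc, pow_one])
  have hqM : q ∈ Cfsg.sigma M :=
    mem_sigma_of_dvd_sigmaCore hG hM hq.out (by rw [← hXc]; exact Subgroup.card_dvd_of_le hXσ)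
  rcases h.hpτ with hτ1 | hτ3
  · obtain ⟨-, ⟨-, hu⟩, -⟩ := alpha_uniq hG hM hτ1 h.hPM h.hPc hXD hXc
    exact normalizer_le_of_centralizer_uniq hG hM hX1 hXM hu
  by_cases hqβ : q ∈ Cfsg.beta M
  · obtain ⟨S0⟩ : Nonempty (Sylow q ↥(Cfsg.sigmaCore M)) := inferInstance
    obtain ⟨⟨-, hu⟩, -⟩ := Cfsg.Agent.S1423.result hG M hM q hqM X hXM hXc S0 (Or.inl hqβ)
    exact normalizer_le_of_centralizer_uniq hG hM hX1 hXM hu
  -- `q ∉ β(M)`
  by_contra hnot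
  have hXt : X ≠ ⊤ := ne_top_of_le_coatom hM hXM
  obtain ⟨Ms, hMs, hNX⟩ := exists_coatom_ge (normalizer_ne_top' hG hX1 hXt)
  have hne : Ms ≠ M := by
    rintro rfl
    exact hnot hNX
  have hqMs : q ∉ Cfsg.sigma Ms := by
    intro hqMs
    obtain ⟨hnc, -⟩ := bg1214_c hG hM hMs hqM hqMs hXp hX1 hXM hne hNX
    obtain ⟨g, hg⟩ := (Cfsg.Agent.S1378.result hG).2 M Ms hM hMs ⟨q, hqM, hqMs⟩
    apply hnc g⁻¹
    have : Ms = cj g M := hg
    rw [this, cj_inv_cj]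
  obtain ⟨-, -, -, -, -, -, S, Aq, -, -, hSM, -, hAqS, hAqe, hAqc, -⟩ :=
    bg1214_d hG hM hMs hqM hqMs hXp hX1 hXM hne hNX
  have hAqM : Aq ≤ M := hAqS.trans hSM
  have hAqp : IsPGroup q ↥Aq := isPGroup_of_elementary hAqe
  have hAqσ : Aq ≤ Cfsg.sigmaCore M :=
    Cfsg.Agent.H2.BG11.le_sigmaCore_of_pgroup hG hM hqM hAqM hAqp
  obtain ⟨Sq, hSq, hSqP⟩ :=
    exists_sylow_le_centralizer_of_tau3 hG hM hτ3 h.hPM h.hPp hqM hqβ
  obtain ⟨c, hc, hcA⟩ := exists_cj_le_sylIn hSq hAqσ hAqp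
  exact h.no_sq_in_D hG (hcA.trans (le_inf hSq.1 hSqP))
    (Cfsg.Agent.H2.BG12.isElementaryAbelian_cj hAqe c) (by rw [card_cj]; exact hAqc)

/-- the final contradiction -/
theorem elim (hG : Cfsg.IsMinSimpleOddOrder G) (h : Cfg4 M L H p P A)
    (hD : Cfsg.sigmaCore M ⊓ Subgroup.centralizer (P : Set G) ≠ ⊥) : False := by
  haveI : Fact p.Prime := ⟨h.hp⟩
  have hM := h.hM
  have hH := h.hH
  have hL := h.hL
  have hLH : L ≠ H := by
    rintro rfl
    exact h.hτ2.2.1 h.hpH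
  have hMH : M ≠ H := by
    rintro rfl
    exact h.hpσM h.hpH
  have hCPL : Subgroup.centralizer (P : Set G) ≤ L :=
    (Subgroup.centralizer_le_normalizer _).trans h.hNL
  have hPσH : P ≤ Cfsg.sigmaCore H :=
    Cfsg.Agent.H2.BG11.le_sigmaCore_of_pgroup hG hH h.hpH h.hPH h.hPp
  obtain ⟨q, hqf, X, hXD, hXc⟩ := exists_prime_card_le hD
  have hX1 : X ≠ ⊥ := by
    intro h0
    rw [h0, Subgroup.card_bot] at hXc
    exact hqf.out.one_lt.ne hXc
  have hXσ : X ≤ Cfsg.sigmaCore M := hXD.trans inf_le_left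
  have hXM : X ≤ M := hXσ.trans (sigmaCore_le M)
  have hXH : X ≤ H := hXD.trans h.hDH
  have hXp : IsPGroup q ↥X := IsPGroup.of_card (n := 1) (by rw [hXc, pow_one])
  have hqM : q ∈ Cfsg.sigma M :=
    mem_sigma_of_dvd_sigmaCore hG hM hqf.out (by rw [← hXc]; exact Subgroup.card_dvd_of_le hXσ)
  have hNXM : Subgroup.normalizer (X : Set G) ≤ M := h.normalizer_le hG hXD hXc
  have hCXM : Subgroup.centralizer (X : Set G) ≤ M :=
    (Subgroup.centralizer_le_normalizer _).trans hNXM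
  have hXP : X ≤ Subgroup.centralizer (P : Set G) := hXD.trans inf_le_right
  have hPX : P ≤ Subgroup.centralizer (X : Set G) := by
    intro x hx
    rw [Subgroup.mem_centralizer_iff]
    intro y hy
    exact ((Subgroup.mem_centralizer_iff.mp (hXP hy)) x hx).symm
  -- `q ∉ σ(H)`
  have hqH : q ∉ Cfsg.sigma H := by
    intro hqH
    obtain ⟨g, hg⟩ := (Cfsg.Agent.S1378.result hG).2 M H hM hH ⟨q, hqM, hqH⟩
    have h1 : Cfsg.sigma H = Cfsg.sigma M := by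
      have : H = cj g M := hg
      rw [this, Cfsg.Agent.H2.BG11.sigma_cj]
    exact h.hpσM (h1 ▸ h.hpH)
  have hqdH : q ∣ Nat.card ↥H := by
    rw [← hXc]; exact Subgroup.card_dvd_of_le hXH
  rcases Cfsg.Agent.H2.BG13.tau_cases hG hH hqf.out hqdH hqH with h1 | h2 | h3
  · -- `q ∈ τ₁(H)`: (α) for `H`
    obtain ⟨-, ⟨-, hu⟩, -⟩ := alpha_uniq hG hH h1 hXH hXc (le_inf hPσH hPX) h.hPc
    exact hLH (hu L hL hCPL)
  · -- `q ∈ τ₂(H)`
    have hXcop : (Nat.card ↥X).Coprime (Nat.card ↥(Cfsg.sigmaCore H)) :=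
      coprime_sigmaCore_of_isPGroup hG hH hqH hXp
    obtain ⟨EH, Bq, hEH, hXE, hBE, hBe, hBc, -, hall⟩ :=
      Cfsg.Agent.Lib.Helper4.BG1218.exists_compl_ge_and_sq hG hH h2 hXH hXcop
    have hXB : X ≤ Bq := hall X hXE hXc
    have hBM : Bq ≤ M := by
      refine le_trans ?_ hCXM
      intro b hb
      rw [Subgroup.mem_centralizer_iff]
      intro x hx
      exact congrArg Subtype.val (hBe.1.is_comm.comm (⟨x, hXB hx⟩ : ↥Bq) ⟨b, hb⟩)
    have h17 := (Cfsg.Agent.S1417.result hG H hH q h2 Bq ⟨hBE.trans hEH.1, hBe, hBc⟩).2.2.2.2.1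
      M hM hMH hBM
    apply h.hP1
    rw [eq_bot_iff, ← h17]
    exact le_inf hPσH h.hPM
  · -- `q ∈ τ₃(H)`
    by_cases hpβ : p ∈ Cfsg.beta H
    · obtain ⟨S0⟩ : Nonempty (Sylow p ↥(Cfsg.sigmaCore H)) := inferInstance
      obtain ⟨⟨-, hu⟩, -⟩ :=
        Cfsg.Agent.S1423.result hG H hH p h.hpH P h.hPH h.hPc S0 (Or.inl hpβ)
      exact hLH (hu L hL hCPL)
    · obtain ⟨T, hT, hTX⟩ :=
        exists_sylow_le_centralizer_of_tau3 hG hH h3 hXH hXp h.hpH hpβ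
      have hTM : T ≤ M := hTX.trans hCXM
      have hAp : IsPGroup p ↥A := isPGroup_of_elementary h.hAe
      have hAσ : A ≤ Cfsg.sigmaCore H :=
        Cfsg.Agent.H2.BG11.le_sigmaCore_of_pgroup hG hH h.hpH h.hAH hAp
      obtain ⟨c, hc, hcA⟩ := exists_cj_le_sylIn hT hAσ hAp
      exact h.hrank (Cfsg.Agent.H2.BG12.isElementaryAbelian_cj h.hAe c)
        (by rw [card_cj]; exact h.hAc) (hcA.trans hTM)

end Cfg4

/-- **(iv)** (B&G 14.2(c)), unconditional. -/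
theorem mem_sigma_of_kappa' (hG : Cfsg.IsMinSimpleOddOrder G) {M : Subgroup G} (hM : IsCoatom M)
    {p : ℕ} [hp : Fact p.Prime] (hpτ : p ∈ Cfsg.tau1 M ∨ p ∈ Cfsg.tau3 M) {P : Subgroup G}
    (hPM : P ≤ M) (hPc : Nat.card ↥P = p)
    (hD : Cfsg.sigmaCore M ⊓ Subgroup.centralizer (P : Set G) ≠ ⊥) {L : Subgroup G}
    (hL : IsCoatom L) (hNL : Subgroup.normalizer (P : Set G) ≤ L) : p ∈ Cfsg.sigma L := by
  by_contra hpL
  have hpσM : p ∉ Cfsg.sigma M := by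
    rcases hpτ with h | h
    · exact h.2.1
    · exact h.2.1
  have hrkM : Cfsg.PRankLE p 1 ↥M := by
    rcases hpτ with h | h
    · exact h.2.2.2.2
    · exact h.2.2.2
  obtain ⟨⟨hr2, hnr1⟩, -, -⟩ := Cfsg.Agent.S1409.result hG L hL p hpL P hPc hNL
  have hτ2 : p ∈ Cfsg.tau2 L := ⟨hp.out, hpL, hr2, hnr1⟩
  have hPp : IsPGroup p ↥P := IsPGroup.of_card (n := 1) (by rw [hPc, pow_one])
  have hP1 : P ≠ ⊥ := by
    intro h0
    rw [h0, Subgroup.card_bot] at hPc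
    exact hp.out.one_lt.ne hPc
  have hPL : P ≤ L := Subgroup.le_normalizer.trans hNL
  have hCPL : Subgroup.centralizer (P : Set G) ≤ L :=
    (Subgroup.centralizer_le_normalizer _).trans hNL
  set D : Subgroup G := Cfsg.sigmaCore M ⊓ Subgroup.centralizer (P : Set G) with hDdef
  have hDL : D ≤ L := inf_le_right.trans hCPL
  -- `L` is not conjugate to `M`, hence `σ(M) ∩ σ(L) = ∅`
  have hdis : ∀ q : ℕ, q ∈ Cfsg.sigma M → q ∉ Cfsg.sigma L := by
    intro q hqM hqL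
    obtain ⟨g, hg⟩ := (Cfsg.Agent.S1378.result hG).2 M L hM hL ⟨q, hqM, hqL⟩
    have h1 : p ∈ Cfsg.tau2 (cj g M) := by
      have : cj g M = L := hg.symm
      rw [this]; exact hτ2
    exact (Cfsg.Agent.Lib.Helper5.BG1218F.tau2_of_cj h1).2.2.2 hrkM
  -- a maximal subgroup `H₁ ∋ P` with `p ∈ σ(H₁)`
  have hpG : p ∣ Nat.card G := by
    have h1 : p ∣ Nat.card ↥P := by rw [hPc]
    exact h1.trans (Subgroup.card_subgroup_dvd_card P)
  obtain ⟨H₀, hH₀, hpH₀⟩ := (Cfsg.Agent.S1378.result hG).1 p hp.out hpG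
  obtain ⟨g, hg⟩ := Cfsg.Agent.S1425.result hG H₀ hH₀ P hP1 (by
    intro q hq hqd
    rw [hPc] at hqd
    have : q = p := (Nat.prime_dvd_prime_iff_eq hq hp.out).mp hqd
    rw [this]; exact hpH₀)
  have hgP : cj g P ≤ H₀ := hg.trans (sigmaCore_le H₀)
  set H₁ : Subgroup G := cj g⁻¹ H₀ with hH₁def
  have hH₁ : IsCoatom H₁ := isCoatom_cj hH₀ g⁻¹
  have hPH₁ : P ≤ H₁ := by
    have := cj_mono g⁻¹ hgP
    rwa [cj_inv_cj] at this
  have hpH₁ : p ∈ Cfsg.sigma H₁ := by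
    rw [hH₁def, Cfsg.Agent.H2.BG11.sigma_cj]; exact hpH₀
  have hne₁ : L ≠ H₁ := by
    rintro rfl
    exact hpL hpH₁
  obtain ⟨-, -, -, -, -, hcompl₁, -⟩ :=
    bg1214_d hG hH₁ hL hpH₁ hpL hPp hP1 hPH₁ hne₁ hNL
  -- `P ⊔ D` is a `σ(L)'`-subgroup of `L`
  have hPD : P ≤ Subgroup.normalizer (D : Set G) := by
    apply Cfsg.Agent.Lib.Helper8.BGTen.le_normalizer_inf
    · exact hPM.trans (Cfsg.Agent.H2.BG11.le_normalizer_sigmaCore M)
    · intro x hx
      have hxn : x ∈ Subgroup.normalizer (P : Set G) := Subgroup.le_normalizer hx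
      exact Cfsg.Agent.Lib.Helper4.BGTrans.normalizer_le_normalizer_centralizer P hxn
  have hDσ : ∀ q : ℕ, q.Prime → q ∣ Nat.card ↥D → q ∈ Cfsg.sigma M := fun q hq hqD =>
    mem_sigma_of_dvd_sigmaCore hG hM hq (hqD.trans (Subgroup.card_dvd_of_le inf_le_left))
  have hcop : (Nat.card ↥(P ⊔ D)).Coprime (Nat.card ↥(Cfsg.sigmaCore L)) := by
    apply Cfsg.Agent.Lib.Helper4.BG1218.coprime_sup_sigmaCore hG hL hPD
    · intro q hq hqP hqL
      rw [hPc] at hqP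
      have : q = p := (Nat.prime_dvd_prime_iff_eq hq hp.out).mp hqP
      exact hpL (this ▸ hqL)
    · intro q hq hqD hqL
      exact hdis q (hDσ q hq hqD) hqL
  obtain ⟨m, hm, hle⟩ :=
    Cfsg.Agent.H2.BG12.exists_cj_compl_ge hG hL hcompl₁ (sup_le hPL hDL) hcop
  set H : Subgroup G := cj m H₁ with hHdef
  have hH : IsCoatom H := isCoatom_cj hH₁ m
  have hleH : P ⊔ D ≤ H := hle.trans (cj_mono m inf_le_left)
  have hPH : P ≤ H := le_sup_left.trans hleH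
  have hDH : D ≤ H := le_sup_right.trans hleH
  have hpH : p ∈ Cfsg.sigma H := by
    rw [hHdef, Cfsg.Agent.H2.BG11.sigma_cj]; exact hpH₁
  have hne : L ≠ H := by
    rintro rfl
    exact hpL hpH
  obtain ⟨-, -, -, -, -, hcompl, S, A, -, hSL, hSH, -, hAS, hAe, hAc, -⟩ :=
    bg1214_d hG hH hL hpH hpL hPp hP1 hPH hne hNL
  have hcfg : Cfg4 M L H p P A :=
    { hM := hM, hL := hL, hH := hH, hp := hp.out, hpτ := hpτ, hPM := hPM, hPc := hPc, hNL := hNL,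
      hτ2 := hτ2, hpH := hpH, hdis := hdis, hcompl := hcompl, hPH := hPH, hDH := hDH,
      hAH := hAS.trans hSH, hAL := hAS.trans hSL.1, hAe := hAe, hAc := hAc }
  exact hcfg.elim hG hD

/-- **(iv)** for `p ∈ κ(M)`. -/
theorem normalizer_le_sigma (hG : Cfsg.IsMinSimpleOddOrder G) {M : Subgroup G} (hM : IsCoatom M)
    {r : ℕ} (hr : r ∈ Cfsg.kappa M) {R : Subgroup G} (hRM : R ≤ M) (hRc : Nat.card ↥R = r)
    {L : Subgroup G} (hL : IsCoatom L) (hNL : Subgroup.normalizer (R : Set G) ≤ L) :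
    r ∈ Cfsg.sigma L := by
  obtain ⟨hrp, hrM, hrσ, hall⟩ := hr
  haveI : Fact r.Prime := ⟨hrp⟩
  -- `r_r(M) = 1`
  obtain ⟨S0⟩ : Nonempty (Sylow r ↥M) := inferInstance
  obtain ⟨hcyc, x, hxS, hx1, y, hy, hy1, hxy⟩ := hall S0
  have hS0 : IsSylowIn r ((S0 : Subgroup ↥M).map M.subtype) M := IsSylowIn.of_sylow S0
  have hcycS : IsCyclic ↥((S0 : Subgroup ↥M).map M.subtype) := by
    let e := (S0 : Subgroup ↥M).equivMapOfInjective M.subtype M.subtype_injective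
    exact isCyclic_of_surjective e.toMonoidHom e.surjective
  have hrk : Cfsg.PRankLE r 1 ↥M :=
    Cfsg.Agent.Lib.helper3.BG12.pRankLE_one_of_cyclic_sylow hS0 hcycS
  have hτ : r ∈ Cfsg.tau1 M ∨ r ∈ Cfsg.tau3 M := by
    by_cases h2 : r ∣ Nat.card ↥⁅M, M⁆
    · exact Or.inr ⟨hrp, hrσ, h2, hrk⟩
    · exact Or.inl ⟨hrp, hrσ, hrM, h2, hrk⟩
  -- `C_{M_σ}(R) ≠ 1`: `R` is conjugate in `M` to the subgroup of order `r` of `⟨x⟩`
  have hRp : IsPGroup r ↥R := IsPGroup.of_card (n := 1) (by rw [hRc, pow_one])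
  obtain ⟨c, hc, hcR⟩ := exists_cj_le_sylIn hS0 hRM hRp
  -- the unique subgroup of order `r` of the cyclic group `S0`
  have hD : Cfsg.sigmaCore M ⊓ Subgroup.centralizer (R : Set G) ≠ ⊥ := by
    set S : Subgroup G := (S0 : Subgroup ↥M).map M.subtype with hSdef
    have hxS' : (x : G) ∈ S := ⟨x, hxS, rfl⟩
    have hx1' : (x : G) ≠ 1 := fun h => hx1 (Subtype.ext h)
    have hZ1 : Subgroup.zpowers (x : G) ≠ ⊥ := by
      intro h0
      apply hx1'
      have : (x : G) ∈ Subgroup.zpowers (x : G) := Subgroup.mem_zpowers _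
      rw [h0, Subgroup.mem_bot] at this
      exact this
    have hZS : Subgroup.zpowers (x : G) ≤ S := by
      rw [Subgroup.zpowers_le]; exact hxS'
    obtain ⟨q, hqf, Y, hYZ, hYc⟩ := exists_prime_card_le hZ1
    have hqr : q = r := by
      have h1 : q ∣ Nat.card ↥S := by
        rw [← hYc]; exact Subgroup.card_dvd_of_le (hYZ.trans hZS)
      obtain ⟨k, hk⟩ := hS0.isPGroup.exists_card_eq
      rw [hk] at h1
      exact (Nat.prime_dvd_prime_iff_eq hqf.out hrp).mp (hqf.out.dvd_of_dvd_pow h1)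
    have hYeq : cj c R = Y :=
      Cfsg.Agent.Lib.Helper4.BGUniq.eq_of_card_eq_of_le_cyclic hS0.isPGroup hcycS hcR
        (hYZ.trans hZS) (by rw [card_cj, hRc, hYc, hqr])
    -- `y` centralizes `⟨x⟩ ⊇ cj c R`
    have hyZ : y ∈ Subgroup.centralizer ((Subgroup.zpowers (x : G) : Subgroup G) : Set G) := by
      rw [Subgroup.mem_centralizer_iff]
      intro z hz
      obtain ⟨k, rfl⟩ := Subgroup.mem_zpowers_iff.mp hz
      exact (Commute.zpow_left (show Commute (x : G) y from hxy) k).eq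
    have hyc : y ∈ Subgroup.centralizer ((cj c R : Subgroup G) : Set G) := by
      rw [hYeq]
      exact Subgroup.centralizer_le hYZ hyZ
    rw [← cj_centralizer, mem_cj] at hyc
    have hyσ : c⁻¹ * y * c ∈ Cfsg.sigmaCore M := by
      have h1 : c⁻¹ ∈ Subgroup.normalizer (Cfsg.sigmaCore M : Set G) :=
        Cfsg.Agent.H2.BG11.le_normalizer_sigmaCore M (M.inv_mem hc)
      have := (Subgroup.mem_normalizer_iff.mp h1 y).mp hy
      simpa using this
    intro h0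
    have hmem : c⁻¹ * y * c ∈ Cfsg.sigmaCore M ⊓ Subgroup.centralizer (R : Set G) := ⟨hyσ, hyc⟩
    rw [h0, Subgroup.mem_bot] at hmem
    apply hy1
    have : y = c * (c⁻¹ * y * c) * c⁻¹ := by group
    rw [this, hmem]; group
  exact mem_sigma_of_kappa' hG hM hτ hRM hRc hD hL hNL

end Cfsg.Agent.Lib.Helper8.BG14IV
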