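import Mathlib
import Cfsg.Agent.Lib.Helper8.BG14IVb
import Cfsg.Agent.Lib.Helper4.BG14C
import Cfsg.Agent.Lib.Helper7.BG13Hyp

/-!
Bender–Glauberman §13/§14, helper8 (lead's msg 1147):

* **Lemma C3a**: if `τ₃(M) ≠ ∅` then for every `q ∈ σ(M) ∖ β(M)` the Sylow `q`-subgroups of `M`
  (= of `G`) are cyclic, in the form `PRankLE q 1 M`.
* `hypC3 : HypC3 G` (helper4's weak `τ₃` hypothesis), hence Lemma V, (iv) and B&G 13.12
  unconditionally (`lemmaV`, `not_le_centralizer_tau2`).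
* `hypIV : HypIV G` (helper7's form of (iv)).
-/

set_option autoImplicit false
set_option linter.unusedSectionVars false
set_option linter.unusedVariables false
set_option linter.style.haveILetI false
set_option maxHeartbeats 2000000
open Cfsg
open scoped commutatorElement Pointwise

namespace Cfsg.Agent.Lib.Helper8.BG14IV

open Cfsg.Agent.Lib.Helper7 (IsSylowIn exists_isSylowIn_ge card_subgroupOf_of_le)
open Cfsg.Agent.Lib.Helper8.BGTen Cfsg.Agent.Lib.Helper4.BGTrans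
open Cfsg.Agent.Lib.helper3.BG11 Cfsg.Agent.Lib.helper3.BG12 Cfsg.Agent.Lib.Helper4.BG13
open Cfsg.Agent.Lib.Helper4.BG14 (HypPart HypC3)

universe u

variable {G : Type u} [Group G] [Finite G]

/-- the σ-partition, in helper4's form -/
theorem hypPart (hG : Cfsg.IsMinSimpleOddOrder G) : HypPart G :=
  (Cfsg.Agent.S1378.result hG).2

/-- **Lemma C3a** (lead): `r ∈ τ₃(M)`, `q ∈ σ(M) ∖ β(M)` ⇒ `r_q(M) ≤ 1`. -/
theorem pRankLE_one_of_tau3 (hG : Cfsg.IsMinSimpleOddOrder G) {M : Subgroup G} (hM : IsCoatom M)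
    {r : ℕ} (hr : r ∈ Cfsg.tau3 M) {q : ℕ} [hq : Fact q.Prime] (hqσ : q ∈ Cfsg.sigma M)
    (hqβ : q ∉ Cfsg.beta M) : Cfsg.PRankLE q 1 ↥M := by
  by_contra hrk
  haveI hrf : Fact r.Prime := ⟨hr.1⟩
  have hrσ : r ∉ Cfsg.sigma M := hr.2.1
  have hrk1 : Cfsg.PRankLE r 1 ↥M := hr.2.2.2
  -- a subgroup `R ≤ M` of order `r`
  have hcomm : ⁅M, M⁆ ≤ M := by
    rw [Subgroup.commutator_le]
    intro a ha b hb
    exact M.mul_mem (M.mul_mem (M.mul_mem ha hb) (M.inv_mem ha)) (M.inv_mem hb)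
  have hrM : r ∣ Nat.card ↥M := hr.2.2.1.trans (Subgroup.card_dvd_of_le hcomm)
  obtain ⟨x, hx⟩ := exists_prime_orderOf_dvd_card' (G := ↥M) r hrM
  set R : Subgroup G := Subgroup.zpowers (x : G) with hRdef
  have hRM : R ≤ M := by rw [hRdef, Subgroup.zpowers_le]; exact x.2
  have hRc : Nat.card ↥R = r := by rw [hRdef, Nat.card_zpowers, Subgroup.orderOf_coe, hx]
  have hRp : IsPGroup r ↥R := IsPGroup.of_card (n := 1) (by rw [hRc, pow_one])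
  have hR1 : R ≠ ⊥ := by
    intro h0
    rw [h0, Subgroup.card_bot] at hRc
    exact hrf.out.one_lt.ne hRc
  -- a Sylow `q`-subgroup `S ≤ C(R)` of `M_σ` and `A_q ≤ S`
  obtain ⟨S, hS, hSR⟩ := exists_sylow_le_centralizer_of_tau3 hG hM hr hRM hRp hqσ hqβ
  obtain ⟨A₀, hA₀M, hA₀e, hA₀c⟩ := Cfsg.Agent.H2.BG12.exists_elem_sq hrk
  have hA₀p : IsPGroup q ↥A₀ := isPGroup_of_elementary hA₀e
  have hA₀σ : A₀ ≤ Cfsg.sigmaCore M :=
    Cfsg.Agent.H2.BG11.le_sigmaCore_of_pgroup hG hM hqσ hA₀M hA₀p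
  obtain ⟨c, hc, hcA⟩ := exists_cj_le_sylIn hS hA₀σ hA₀p
  set Aq : Subgroup G := cj c A₀ with hAqdef
  have hAqe : Cfsg.IsElementaryAbelian q Aq := Cfsg.Agent.H2.BG12.isElementaryAbelian_cj hA₀e c
  have hAqc : Nat.card ↥Aq = q ^ 2 := by rw [hAqdef, card_cj]; exact hA₀c
  have hAqp : IsPGroup q ↥Aq := isPGroup_of_elementary hAqe
  have hAqR : Aq ≤ Subgroup.centralizer (R : Set G) := hcA.trans hSR
  have hAqM : Aq ≤ M := (hcA.trans hS.1).trans (sigmaCore_le M)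
  have hRAq : R ≤ Subgroup.centralizer (Aq : Set G) := by
    intro x hx
    rw [Subgroup.mem_centralizer_iff]
    intro y hy
    exact ((Subgroup.mem_centralizer_iff.mp (hAqR hy)) x hx).symm
  -- `L₁ ∈ 𝓜(N_G(R))`
  have hRt : R ≠ ⊤ := ne_top_of_le_coatom hM hRM
  obtain ⟨L₁, hL₁, hNL₁⟩ := exists_coatom_ge (normalizer_ne_top' hG hR1 hRt)
  have hCRL₁ : Subgroup.centralizer (R : Set G) ≤ L₁ :=
    (Subgroup.centralizer_le_normalizer _).trans hNL₁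
  have hRL₁ : R ≤ L₁ := Subgroup.le_normalizer.trans hNL₁
  have hAqL₁ : Aq ≤ L₁ := hAqR.trans hCRL₁
  -- `q ∉ σ(L₁)`
  have hqL₁ : q ∉ Cfsg.sigma L₁ := by
    intro hqL₁
    obtain ⟨g, hg⟩ := (Cfsg.Agent.S1378.result hG).2 M L₁ hM hL₁ ⟨q, hqσ, hqL₁⟩
    have hL₁eq : L₁ = cj g M := hg
    have hrL₁ : r ∉ Cfsg.sigma L₁ := by
      rw [hL₁eq, Cfsg.Agent.H2.BG11.sigma_cj]; exact hrσ
    obtain ⟨⟨hr2, hnr1⟩, -, -⟩ := Cfsg.Agent.S1409.result hG L₁ hL₁ r hrL₁ R hRc hNL₁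
    have h1 : r ∈ Cfsg.tau2 (cj g M) := by
      rw [← hL₁eq]; exact ⟨hrf.out, hrL₁, hr2, hnr1⟩
    exact (Cfsg.Agent.Lib.Helper5.BG1218F.tau2_of_cj h1).2.2.2 hrk1
  have hτq : q ∈ Cfsg.tau2 L₁ := by
    refine ⟨hq.out, hqL₁, ?_, not_pRankLE_one_of_elem_sq hq.out hAqL₁ hAqe hAqc⟩
    by_contra h2
    exact hqL₁ (alpha_subset_sigma hG (uT hG) hL₁ ⟨hq.out, h2⟩)
  -- `r ∉ σ(L₁)`
  have h17 := (Cfsg.Agent.S1417.result hG L₁ hL₁ q hτq Aq ⟨hAqL₁, hAqe, hAqc⟩).2.2.2.1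
  have hrL₁ : r ∉ Cfsg.sigma L₁ := by
    intro hrL₁
    have h1 : R ≤ Cfsg.sigmaCore L₁ :=
      Cfsg.Agent.H2.BG11.le_sigmaCore_of_pgroup hG hL₁ hrL₁ hRL₁ hRp
    apply hR1
    rw [eq_bot_iff, ← h17]
    exact le_inf h1 hRAq
  obtain ⟨⟨hr2, hnr1⟩, -, -⟩ := Cfsg.Agent.S1409.result hG L₁ hL₁ r hrL₁ R hRc hNL₁
  have hτr : r ∈ Cfsg.tau2 L₁ := ⟨hrf.out, hrL₁, hr2, hnr1⟩
  -- a complement `E₁ ⊇ A_q R` and `A_r ≤ E₁`
  have hRN : R ≤ Subgroup.normalizer (Aq : Set G) :=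
    hRAq.trans (Subgroup.centralizer_le_normalizer _)
  have hcop : (Nat.card ↥(R ⊔ Aq)).Coprime (Nat.card ↥(Cfsg.sigmaCore L₁)) := by
    apply Cfsg.Agent.Lib.Helper4.BG1218.coprime_sup_sigmaCore hG hL₁ hRN
    · intro s hs hsR hsL
      rw [hRc] at hsR
      have : s = r := (Nat.prime_dvd_prime_iff_eq hs hrf.out).mp hsR
      exact hrL₁ (this ▸ hsL)
    · intro s hs hsA hsL
      rw [hAqc] at hsA
      have : s = q := (Nat.prime_dvd_prime_iff_eq hs hq.out).mp (hs.dvd_of_dvd_pow hsA)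
      exact hqL₁ (this ▸ hsL)
  obtain ⟨E₁, Ar, hE₁, hKE, hArE, hAre, hArc, hEN, -⟩ :=
    Cfsg.Agent.Lib.Helper4.BG1218.exists_compl_ge_and_sq hG hL₁ hτr (sup_le hRL₁ hAqL₁) hcop
  have hAqE : Aq ≤ E₁ := le_sup_right.trans hKE
  have h18 := Cfsg.Agent.S1418.result hG L₁ hL₁ E₁ hE₁ q hτq Aq ⟨hAqE, hAqe, hAqc⟩
  have hAqAr : Aq ≤ Subgroup.normalizer (Ar : Set G) := hAqE.trans hEN
  have hArAq : Ar ≤ Subgroup.normalizer (Aq : Set G) := hArE.trans h18.1.1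
  have hqr : q ≠ r := by
    rintro rfl
    exact hrσ hqσ
  have hcop2 : (Nat.card ↥Aq).Coprime (Nat.card ↥Ar) := by
    rw [hAqc, hArc]
    exact Nat.Coprime.pow _ _ ((Nat.coprime_primes hq.out hrf.out).mpr hqr)
  have hArC : Ar ≤ Subgroup.centralizer (Aq : Set G) :=
    le_centralizer_of_normalize_coprime hAqAr hArAq hcop2
  -- `N_G(A_q) ≤ M`
  obtain ⟨E₀, hE₀⟩ := exists_compl hG hM
  have hnc : ¬ IsCyclic ↥Aq := not_isCyclic_of_elementary hAqe (le_of_eq hAqc.symm)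
  have hNAq : Subgroup.normalizer (Aq : Set G) ≤ M :=
    (Cfsg.Agent.S1420.result hG M hM E₀ hE₀).2.2.1 q Aq hqσ hAqp hAqM hnc
  have hArM : Ar ≤ M := (hArC.trans (Subgroup.centralizer_le_normalizer _)).trans hNAq
  exact not_pRankLE_one_of_elem_sq hrf.out hArM hAre hArc hrk1

/-- **HypC3** (lead): `r ∈ τ₃(M)`, `R ≤ E` of order `r`, `Y ≤ C_{M_σ}(R)` of prime order ⇒ `M` is
the only maximal subgroup containing `N_G(Y)`.  (`R` is not even needed.) -/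
theorem hypC3 (hG : Cfsg.IsMinSimpleOddOrder G) : HypC3 G := by
  intro M hM E hE r hr R hRE hRc Y hYD hYp L hL hNL
  by_contra hne
  haveI hq : Fact (Nat.card ↥Y).Prime := ⟨hYp⟩
  set q := Nat.card ↥Y with hqdef
  have hYσ : Y ≤ Cfsg.sigmaCore M := hYD.trans inf_le_left
  have hYM : Y ≤ M := hYσ.trans (sigmaCore_le M)
  have hqσ : q ∈ Cfsg.sigma M :=
    mem_sigma_of_dvd_sigmaCore hG hM hq.out (Subgroup.card_dvd_of_le hYσ)
  have hYp' : IsPGroup q ↥Y := IsPGroup.of_card (n := 1) (by rw [pow_one])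
  have hY1 : Y ≠ ⊥ := by
    intro h0
    have : Nat.card ↥Y = 1 := by rw [h0, Subgroup.card_bot]
    exact hq.out.one_lt.ne this.symm
  by_cases hqβ : q ∈ Cfsg.beta M
  · obtain ⟨S0⟩ : Nonempty (Sylow q ↥(Cfsg.sigmaCore M)) := inferInstance
    obtain ⟨⟨-, hu⟩, -⟩ := Cfsg.Agent.S1423.result hG M hM q hqσ Y hYM rfl S0 (Or.inl hqβ)
    exact hne (hu L hL ((Subgroup.centralizer_le_normalizer _).trans hNL))
  · have hrk : Cfsg.PRankLE q 1 ↥M := pRankLE_one_of_tau3 hG hM hr hqσ hqβ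
    by_cases hqL : q ∈ Cfsg.sigma L
    · obtain ⟨hnc, -⟩ := bg1214_c hG hM hL hqσ hqL hYp' hY1 hYM hne hNL
      obtain ⟨g, hg⟩ := (Cfsg.Agent.S1378.result hG).2 M L hM hL ⟨q, hqσ, hqL⟩
      apply hnc g⁻¹
      have : L = cj g M := hg
      rw [this, cj_inv_cj]
    · obtain ⟨-, -, -, -, -, -, S, Aq, -, -, hSM, -, hAqS, hAqe, hAqc, -⟩ :=
        bg1214_d hG hM hL hqσ hqL hYp' hY1 hYM hne hNL
      exact not_pRankLE_one_of_elem_sq hq.out (hAqS.trans hSM) hAqe hAqc hrk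

/-- **Lemma V** (helper4), unconditional. -/
theorem lemmaV (hG : Cfsg.IsMinSimpleOddOrder G)
    {H : Subgroup G} (hH : IsCoatom H) {t : ℕ} [ht : Fact t.Prime] (hτ : t ∈ Cfsg.tau2 H)
    {A : Subgroup G} (hAH : A ≤ H) (hAel : Cfsg.IsElementaryAbelian t A)
    (hAc : Nat.card ↥A = t ^ 2) {T : Subgroup G} (hTA : T ≤ A) (hTc : Nat.card ↥T = t)
    (hNT : Subgroup.normalizer (T : Set G) ≤ H) {q : ℕ} [hq : Fact q.Prime] {Y : Subgroup G}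
    (hYc : Nat.card ↥Y = q) (hqt : q ≠ t) (hYA : Y ≤ Subgroup.normalizer (A : Set G))
    (hYT : Y ≤ Subgroup.centralizer (T : Set G)) {M₁ : Subgroup G} (hM₁ : IsCoatom M₁)
    (hNY : Subgroup.normalizer (Y : Set G) ≤ M₁) (hqσ : q ∈ Cfsg.sigma M₁) (hAM₁ : ¬ A ≤ M₁) :
    False :=
  Cfsg.Agent.Lib.Helper4.BG14.lemmaV' hG (hypPart hG) (hypC3 hG) hH hτ hAH hAel hAc hTA hTc hNT
    hYc hqt hYA hYT hM₁ hNY hqσ hAM₁

/-- **B&G 13.12**, unconditional: a `τ₁(M) ∩ κ(M)`-subgroup of prime order of `E` centralizes no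
subgroup of `E` of order `t ∈ τ₂(M)`. -/
theorem not_le_centralizer_tau2 (hG : Cfsg.IsMinSimpleOddOrder G) {M E : Subgroup G}
    (hM : IsCoatom M) (hE : Cfsg.IsComplIn E (Cfsg.sigmaCore M) M) {p : ℕ}
    (hp : p ∈ Cfsg.tau1 M) {P : Subgroup G} (hPE : P ≤ E) (hPc : Nat.card ↥P = p)
    (hD : Cfsg.sigmaCore M ⊓ Subgroup.centralizer (P : Set G) ≠ ⊥) {t : ℕ} [ht : Fact t.Prime]
    (hτ : t ∈ Cfsg.tau2 M) {T : Subgroup G} (hTE : T ≤ E) (hTc : Nat.card ↥T = t) :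
    ¬ T ≤ Subgroup.centralizer (P : Set G) :=
  Cfsg.Agent.Lib.Helper4.BG14.not_le_centralizer_tau2' hG (hypPart hG) (hypC3 hG) hM hE hp hPE
    hPc hD hτ hTE hTc

/-- helper7's `HypIV`. -/
theorem hypIV (hG : Cfsg.IsMinSimpleOddOrder G) : Cfsg.Agent.Lib.Helper7.BG13.HypIV G := by
  intro M hM r R hτ hRM hRc hD L hL hNL
  haveI : Fact r.Prime := by
    rcases hτ with h | h
    · exact ⟨h.1⟩
    · exact ⟨h.1⟩
  exact mem_sigma_of_kappa' hG hM hτ hRM hRc hD hL hNL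

end Cfsg.Agent.Lib.Helper8.BG14IV
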