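import Mathlib
import Cfsg.Agent.Lib.Helper8.BG14C3
import Cfsg.Agent.Lib.Helper4.BG14E
import Cfsg.Agent.H2.BG12.G
import Cfsg.Agent.Lib.helper3.BG12H
import Cfsg.Agent.Lib.helper3.BG14B
import Cfsg.Agent.S1428

/-!
Bender–Glauberman §14, helper8: consequences of a standard factorisation `M = K U M_σ`.

* `commutator_le_of_decomp`: `M' ≤ U M_σ`.
* `tau1_of_kappa_of_decomp`: `κ(M) ⊆ τ₁(M)` (given a `IsSigmaDecomposition`).
* `s1353`: `C_U(k) = 1` for `k ∈ K^#`.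
-/

set_option autoImplicit false
set_option linter.unusedSectionVars false
set_option linter.unusedVariables false
set_option linter.style.haveILetI false
set_option maxHeartbeats 2000000
open Cfsg
open scoped commutatorElement Pointwise

namespace Cfsg.Agent.Lib.Helper8.BG14K

open Cfsg.Agent.Lib.Helper7 (IsSylowIn exists_isSylowIn_ge card_subgroupOf_of_le)
open Cfsg.Agent.Lib.Helper8.BGTen
open Cfsg.Agent.H2.BG11 (sigmaCore_le le_normalizer_sigmaCore mem_sigma_of_dvd_sigmaCore)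

universe u

variable {G : Type u} [Group G] [Finite G]

/-- `M = (U M_σ) K` with `U M_σ ⊴ M` and `K` cyclic, so `M' ≤ U M_σ`. -/
theorem commutator_le_of_decomp {M K U : Subgroup G} (hKU : Cfsg.IsSigmaDecomposition M K U) :
    ⁅M, M⁆ ≤ U ⊔ Cfsg.sigmaCore M := by
  obtain ⟨hcyc, hhall, ⟨hUM, hKσM, -, hprod⟩, hKnU⟩ := hKU
  obtain ⟨W, hWdef⟩ : ∃ W : Subgroup G, W = U ⊔ Cfsg.sigmaCore M := ⟨_, rfl⟩
  rw [← hWdef]
  have hWM : W ≤ M := hWdef ▸ sup_le hUM (sigmaCore_le M)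
  have hKM : K ≤ M := le_sup_left.trans hKσM
  have hWW : W ≤ Subgroup.normalizer (W : Set G) := Subgroup.le_normalizer
  have hKW : K ≤ Subgroup.normalizer (W : Set G) := by
    rw [hWdef]
    exact Cfsg.Agent.Lib.helper3.BG14.le_normalizer_sup hKnU
      (hKM.trans (le_normalizer_sigmaCore M))
  have hσW : Cfsg.sigmaCore M ≤ Subgroup.normalizer (W : Set G) :=
    (hWdef ▸ le_sup_right : Cfsg.sigmaCore M ≤ W).trans hWW
  have hMW : M ≤ Subgroup.normalizer (W : Set G) := by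
    intro n hn
    obtain ⟨a, ha, b, hb, rfl⟩ := hprod n hn
    exact Subgroup.mul_mem _ (hWW ((hWdef ▸ le_sup_left : U ≤ W) ha)) (sup_le hKW hσW hb)
  haveI hWn : (W.subgroupOf M).Normal := Subgroup.normal_subgroupOf_of_le_normalizer hMW
  have htop : W.subgroupOf M ⊔ K.subgroupOf M = ⊤ := by
    rw [← Subgroup.subgroupOf_sup hWM hKM, eq_top_iff]
    intro m _
    rw [Subgroup.mem_subgroupOf]
    obtain ⟨a, ha, b, hb, hab⟩ := hprod m.1 m.2
    rw [hab]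
    have hb' : b ∈ W ⊔ K := (sup_le le_sup_right ((hWdef ▸ le_sup_right :
      Cfsg.sigmaCore M ≤ W).trans le_sup_left) : K ⊔ Cfsg.sigmaCore M ≤ W ⊔ K) hb
    exact Subgroup.mul_mem _ (Subgroup.mem_sup_left ((hWdef ▸ le_sup_left : U ≤ W) ha)) hb'
  have h1 := Cfsg.Agent.Lib.helper3.BG12.commutator_le_of_sup_eq_top (W.subgroupOf M)
    (K.subgroupOf M) htop
  have hKcomm : ⁅K.subgroupOf M, K.subgroupOf M⁆ = ⊥ := by
    rw [Subgroup.commutator_eq_bot_iff_le_centralizer]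
    intro a ha
    rw [Subgroup.mem_centralizer_iff]
    intro b hb
    letI := hcyc.commGroup
    have := mul_comm (⟨(b : G), Subgroup.mem_subgroupOf.mp hb⟩ : ↥K)
      ⟨(a : G), Subgroup.mem_subgroupOf.mp ha⟩
    have h2 : (b : G) * (a : G) = (a : G) * (b : G) := congrArg Subtype.val this
    exact Subtype.ext h2
  rw [hKcomm, bot_sup_eq] at h1
  rw [← Subgroup.map_subtype_commutator]
  rintro _ ⟨x, hx, rfl⟩
  exact Subgroup.mem_subgroupOf.mp (h1 hx)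

/-- given a standard factorisation of `M`, `κ(M) ⊆ τ₁(M)`. -/
theorem tau1_of_kappa_of_decomp (hG : Cfsg.IsMinSimpleOddOrder G) {M K U : Subgroup G}
    (hM : IsCoatom M) (hKU : Cfsg.IsSigmaDecomposition M K U) {p : ℕ} (hκ : p ∈ Cfsg.kappa M) :
    p ∈ Cfsg.tau1 M := by
  have hp : p.Prime := hκ.1
  haveI : Fact p.Prime := ⟨hp⟩
  refine ⟨hp, hκ.2.2.1, hκ.2.1, ?_, Cfsg.Agent.Lib.Helper4.BG14.pRankLE_one_of_kappa hκ⟩
  intro hd
  have h1 : p ∣ Nat.card ↥(U ⊔ Cfsg.sigmaCore M : Subgroup G) :=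
    hd.trans (Subgroup.card_dvd_of_le (commutator_le_of_decomp hKU))
  have hUn : U ≤ Subgroup.normalizer ((Cfsg.sigmaCore M : Subgroup G) : Set G) :=
    hKU.compl.1.trans (le_normalizer_sigmaCore M)
  have h2 := Cfsg.Agent.H1.card_sup_mul_card_inf U (Cfsg.sigmaCore M) hUn
  have h3 : p ∣ Nat.card ↥U * Nat.card ↥(Cfsg.sigmaCore M) := by
    rw [← h2]; exact Dvd.dvd.mul_right h1 _
  rcases (Nat.Prime.dvd_mul hp).mp h3 with h4 | h4
  · exact Cfsg.Agent.H2.BG12.not_mem_kappa_of_dvd_U hKU hp h4 hκ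
  · exact hκ.2.2.1 (mem_sigma_of_dvd_sigmaCore hG hM hp h4)

/-- **S1353**: `C_U(k) = 1` for every `k ∈ K^#`. -/
theorem s1353 (hG : Cfsg.IsMinSimpleOddOrder G) (M : Subgroup G) (hM : IsCoatom M)
    (K U : Subgroup G) (hKU : Cfsg.IsSigmaDecomposition M K U) :
    ∀ k ∈ K, k ≠ 1 → U ⊓ Subgroup.centralizer ({k} : Set G) = ⊥ := by
  intro k hk hk1
  rw [eq_bot_iff]
  intro u hu
  rw [Subgroup.mem_bot]
  by_contra hu1
  obtain ⟨huU, huC⟩ := Subgroup.mem_inf.mp hu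
  have huk : k * u = u * k := Subgroup.mem_centralizer_iff.mp huC k (Set.mem_singleton k)
  obtain ⟨q, hqf, T, p, hpf, P, hTu, hTc, hPk, hPc, hTP⟩ :=
    Cfsg.Agent.Lib.Helper4.BG14.exists_prime_card_commuting hu1 hk1 huk
  have hKM : K ≤ M := hKU.hall.1
  have hUM : U ≤ M := hKU.compl.1
  have hPK : P ≤ K := hPk.trans (by rw [Subgroup.zpowers_le]; exact hk)
  have hTU : T ≤ U := hTu.trans (by rw [Subgroup.zpowers_le]; exact huU)
  have hpκ : p ∈ Cfsg.kappa M :=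
    hKU.hall.2.1 p hpf.out (by rw [← hPc]; exact Subgroup.card_dvd_of_le hPK)
  have hpτ : p ∈ Cfsg.tau1 M := tau1_of_kappa_of_decomp hG hM hKU hpκ
  have hD := Cfsg.Agent.Lib.Helper4.BG14.kappa_fixed hpκ (hPK.trans hKM) hPc
  have hqU : q ∣ Nat.card ↥U := by rw [← hTc]; exact Subgroup.card_dvd_of_le hTU
  have hqσ : q ∉ Cfsg.sigma M := Cfsg.Agent.H2.BG12.not_mem_sigma_of_dvd_U hG hM hKU hqf.out hqU
  -- a complement `E ⊇ T ⊔ P`
  obtain ⟨E₀, hE₀⟩ := Cfsg.Agent.Lib.helper3.BG12.exists_compl hG hM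
  have hcop : (Nat.card ↥(T ⊔ P : Subgroup G)).Coprime (Nat.card ↥(Cfsg.sigmaCore M)) := by
    apply Cfsg.Agent.Lib.Helper4.BG1218.coprime_sup_sigmaCore hG hM
      (hTP.trans (Subgroup.centralizer_le_normalizer _))
    · intro r hr hrd
      rw [hTc] at hrd
      rw [(Nat.prime_dvd_prime_iff_eq hr hqf.out).mp hrd]
      exact hqσ
    · intro r hr hrd
      rw [hPc] at hrd
      rw [(Nat.prime_dvd_prime_iff_eq hr hpf.out).mp hrd]
      exact hpκ.2.2.1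
  obtain ⟨m, hm, hY⟩ := Cfsg.Agent.H2.BG12.exists_cj_compl_ge hG hM hE₀
    (sup_le (hTU.trans hUM) (hPK.trans hKM)) hcop
  have hE := Cfsg.Agent.H2.BG12.compl_cj hE₀ hm
  have hTE : T ≤ cj m E₀ := le_sup_left.trans hY
  have hPE : P ≤ cj m E₀ := le_sup_right.trans hY
  have h28 := Cfsg.Agent.S1428.result hG M hM (cj m E₀) hE p hpτ P hPE hPc T (le_inf hTE hTP)
    (by rw [hTc]; exact hqf.out)
  obtain ⟨y, hy, hy1⟩ := Cfsg.Agent.Lib.Helper4.BG14.exists_ne_one_of_ne_bot hD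
  obtain ⟨hyσ, hyT⟩ := Subgroup.mem_inf.mp (h28 hy)
  -- a generator of `T`
  have hT1 : T ≠ ⊥ := by
    intro h0
    rw [h0, Subgroup.card_bot] at hTc
    exact hqf.out.one_lt.ne hTc
  obtain ⟨t, htT, ht1⟩ := Cfsg.Agent.Lib.Helper4.BG14.exists_ne_one_of_ne_bot hT1
  have hot : orderOf t = q := by
    have h1 : orderOf (⟨t, htT⟩ : ↥T) ∣ Nat.card ↥T := orderOf_dvd_natCard _
    rw [Subgroup.orderOf_mk, hTc] at h1
    rcases (Nat.dvd_prime hqf.out).mp h1 with h2 | h2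
    · exact absurd (orderOf_eq_one_iff.mp h2) ht1
    · exact h2
  have hty : t * y = y * t := Subgroup.mem_centralizer_iff.mp hyT t htT
  have hqτ : q ∈ Cfsg.tau2 M :=
    Cfsg.Agent.H2.BG12.mem_tau2_of_fixed_point hG hM hKU (hTU htT) hqf.out hot hyσ hy1 hty
  exact Cfsg.Agent.Lib.Helper8.BG14IV.not_le_centralizer_tau2 hG hM hE hpτ hPE hPc hD hqτ hTE hTc
    hTP

end Cfsg.Agent.Lib.Helper8.BG14K
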