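import Mathlib
import Cfsg.Prelude.Def_Characters
import Cfsg.Agent.Lib.helper3.Irr12
import Cfsg.Agent.Lib.helper3.Irr10

/-!
# Fully ramified characters (S4564), part 1: constituents, restriction, and the unique
character above `θ`.
-/

set_option autoImplicit false
set_option linter.style.haveILetI false
set_option linter.unusedSectionVars false
set_option linter.unusedVariables false

namespace Cfsg.Agent.Lib.Helper8.FRam

open Cfsg Cfsg.Agent.Lib.helper3.Irr Cfsg.Agent.Lib.helper3.IndFun
open scoped ComplexConjugate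

section general

variable {G : Type*} [Group G] [Fintype G] {Z : Type*} [Group Z] [Fintype Z]

/-- An irreducible constituent can be split off a character. -/
theorem exists_add_of_constituent {A B : G → ℂ} (hA : IsCharacter G A) (hB : IsIrrCharacter G B)
    (h : classInner A B ≠ 0) : ∃ A' : G → ℂ, IsCharacter G A' ∧ A = B + A' := by
  classical
  obtain ⟨m, rfl⟩ := exists_decomposition_of_isCharacter hA
  set B' : IrrCharacter G := ⟨B, hB⟩ with hB'
  have e1 := classInner_decomposition_left (fun χ => (m χ : ℂ)) B'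
  have hm : m B' ≠ 0 := by
    intro h0
    apply h
    have : classInner (∑ χ : IrrCharacter G, (m χ : ℂ) • (χ : G → ℂ)) B = (m B' : ℂ) := e1
    rw [this, h0, Nat.cast_zero]
  refine ⟨∑ ψ : IrrCharacter G, ((m ψ - if ψ = B' then 1 else 0 : ℕ) : ℂ) • (ψ : G → ℂ),
    isCharacter_of_decomposition _, ?_⟩
  have hBsum : B = ∑ ψ : IrrCharacter G, ((if ψ = B' then 1 else 0 : ℕ) : ℂ) • (ψ : G → ℂ) := by
    rw [Finset.sum_eq_single B']
    · simp [hB']
    · intro b _ hb
      simp [hb]
    · intro hb
      exact absurd (Finset.mem_univ _) hb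
  conv_rhs => rw [hBsum]
  rw [← Finset.sum_add_distrib]
  apply Finset.sum_congr rfl
  intro ψ _
  rw [← add_smul]
  congr 1
  by_cases hψ : ψ = B'
  · subst hψ
    simp only [if_true]
    have : 1 ≤ m B' := Nat.one_le_iff_ne_zero.mpr hm
    push_cast [Nat.cast_sub this]
    ring
  · simp [hψ]

/-- Inner products of characters with irreducible characters are natural numbers; restriction
version. -/
theorem exists_nat_classInner_restrict (ι : Z →* G) {A : G → ℂ}
    (hA : IsCharacter G A) (φ : IrrCharacter Z) :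
    ∃ n : ℕ, classInner (fun z : Z => A (ι z)) (φ : Z → ℂ) = n :=
  exists_nat_classInner_of_isCharacter (isCharacter_comp hA ι) φ

/-- If `B` is a constituent of `A` and `φ` a constituent of `B|_Z`, then `φ` is a constituent
of `A|_Z`. -/
theorem classInner_restrict_ne_zero_of_constituent (ι : Z →* G) {A B : G → ℂ}
    (hA : IsCharacter G A) (hB : IsIrrCharacter G B) (h : classInner A B ≠ 0)
    (φ : IrrCharacter Z) (hφ : classInner (fun z : Z => B (ι z)) (φ : Z → ℂ) ≠ 0) :
    classInner (fun z : Z => A (ι z)) (φ : Z → ℂ) ≠ 0 := by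
  obtain ⟨A', hA', rfl⟩ := exists_add_of_constituent hA hB h
  obtain ⟨n, hn⟩ := exists_nat_classInner_restrict ι (isCharacter_of_isIrrCharacter hB) φ
  obtain ⟨n', hn'⟩ := exists_nat_classInner_restrict ι hA' φ
  have : (fun z : Z => (B + A') (ι z)) = (fun z : Z => B (ι z)) + (fun z : Z => A' (ι z)) := rfl
  rw [this, classInner_add_left, hn, hn']
  rw [hn] at hφ
  have hn0 : n ≠ 0 := by
    intro h0
    apply hφ
    rw [h0, Nat.cast_zero]
  have : (n + n' : ℕ) ≠ 0 := by omega
  exact_mod_cast this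

/-- If `A|_Z = e • θ` and `ψ` is a constituent of `A`, then `ψ|_Z = a • θ` for a positive
natural number `a`. -/
theorem restrict_eq_smul_of_constituent (ι : Z →* G) {A ψ : G → ℂ}
    (hA : IsCharacter G A) (hψ : IsIrrCharacter G ψ) (h : classInner A ψ ≠ 0)
    (θ : IrrCharacter Z) (e : ℕ) (hAZ : (fun z : Z => A (ι z)) = (e : ℂ) • (θ : Z → ℂ)) :
    ∃ a : ℕ, a ≠ 0 ∧ (fun z : Z => ψ (ι z)) = (a : ℂ) • (θ : Z → ℂ) := by
  classical
  obtain ⟨A', hA', rfl⟩ := exists_add_of_constituent hA hψ h
  have hψc := isCharacter_of_isIrrCharacter hψ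
  have hsplit : (fun z : Z => (ψ + A') (ι z)) = (fun z : Z => ψ (ι z)) + (fun z : Z => A' (ι z)) := rfl
  rw [hsplit] at hAZ
  have hzero : ∀ φ : IrrCharacter Z, φ ≠ θ →
      classInner (fun z : Z => ψ (ι z)) (φ : Z → ℂ) = 0 := by
    intro φ hφ
    obtain ⟨n, hn⟩ := exists_nat_classInner_restrict ι hψc φ
    obtain ⟨n', hn'⟩ := exists_nat_classInner_restrict ι hA' φ
    have h1 : classInner ((fun z : Z => ψ (ι z)) + (fun z : Z => A' (ι z))) (φ : Z → ℂ)
        = classInner ((e : ℂ) • (θ : Z → ℂ)) (φ : Z → ℂ) := by rw [hAZ]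
    rw [classInner_add_left, hn, hn', classInner_smul_left,
      irr_classInner_eq_zero θ.2 φ.2 (fun hh => hφ (Subtype.ext hh).symm), mul_zero] at h1
    have : (n + n' : ℕ) = 0 := by exact_mod_cast h1
    have hn0 : n = 0 := by omega
    rw [hn, hn0, Nat.cast_zero]
  have hdec := isCharacter_eq_sum_classInner (isCharacter_comp hψc ι)
  obtain ⟨a, ha⟩ := exists_nat_classInner_restrict ι hψc θ
  have hres : (fun z : Z => ψ (ι z)) = (a : ℂ) • (θ : Z → ℂ) := by
    rw [hdec, Finset.sum_eq_single θ]
    · rw [← ha]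
    · intro b _ hb
      rw [hzero b hb, zero_smul]
    · intro hb
      exact absurd (Finset.mem_univ _) hb
  refine ⟨a, ?_, hres⟩
  intro ha0
  have h1 := congrFun hres 1
  rw [ha0] at h1
  simp only [Nat.cast_zero, zero_smul, Pi.zero_apply, map_one] at h1
  exact apply_one_ne_zero hψ h1

end general

end Cfsg.Agent.Lib.Helper8.FRam
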