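import Mathlib
import Cfsg.Prelude.Def_Blocks

/-!
# S4914, part 6: the degree congruence arithmetic.
-/

set_option autoImplicit false
set_option linter.unusedVariables false

namespace Cfsg.Agent.Lib.Helper8.GSN

open Cfsg

theorem charDegree_eq_of_apply_one {A : Type*} [Group A] {χ : A → ℂ} {d : ℕ} (hd : χ 1 = d) :
    charDegree χ = d := by
  unfold charDegree
  rw [hd, Complex.natCast_re, Nat.floor_natCast]

/-- `χ(1) = a·t·d`, `ξ(1) = b·t·d₀`, `a ≡ b`, `d ≡ ε d₀ (mod p)` with `ε = ±1` give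
`ξ(1) ≡ ±χ(1) (mod p)`. -/
theorem degree_congr (p : ℕ) [Fact p.Prime] {A B : Type*} [Group A] [Group B] (χ : A → ℂ)
    (ξ : B → ℂ) (a b t d d₀ : ℕ) (ε : ℤ) (hε : ε = 1 ∨ ε = -1)
    (hχ : χ 1 = (a : ℂ) * ((t : ℂ) * (d : ℂ))) (hξ : ξ 1 = (b : ℂ) * ((t : ℂ) * (d₀ : ℂ)))
    (hab : (a : ZMod p) = (b : ZMod p)) (hd : (d : ℤ) ≡ ε * d₀ [ZMOD p]) :
    (charDegree ξ : ZMod p) = (charDegree χ : ZMod p) ∨
      (charDegree ξ : ZMod p) = -(charDegree χ : ZMod p) := by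
  have h1 : charDegree χ = a * (t * d) := by
    apply charDegree_eq_of_apply_one
    rw [hχ]
    push_cast
    ring
  have h2 : charDegree ξ = b * (t * d₀) := by
    apply charDegree_eq_of_apply_one
    rw [hξ]
    push_cast
    ring
  rw [h1, h2]
  have h3 : ((d : ℤ) : ZMod p) = ((ε * d₀ : ℤ) : ZMod p) :=
    (ZMod.intCast_eq_intCast_iff _ _ p).mpr hd
  push_cast at h3 ⊢
  rw [← hab, h3]
  rcases hε with rfl | rfl
  · left
    push_cast
    ring
  · right
    push_cast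
    ring

end Cfsg.Agent.Lib.Helper8.GSN
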