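import Mathlib
import Cfsg.Prelude.Def_Blocks
import Cfsg.Agent.Lib.helper3.Irr12

/-!
# Alperin–Dade (S4551), assembly part 1: the statement `Stmt`, transport along an isomorphism,
the trivial case and the composition step.
-/

set_option autoImplicit false
set_option linter.style.haveILetI false
set_option linter.unusedSectionVars false
set_option linter.unusedVariables false

namespace Cfsg.Agent.Lib.Helper8.AD

open Cfsg

universe u

/-- The conclusion of S4551 for the pair `(X, N)`. -/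
def Stmt (M : Ideal AlgInt) (X : Type u) [Group X] (N : Subgroup X) : Prop :=
  (∀ χ ∈ Cfsg.principalBlock M X, ∃ θ ∈ Cfsg.principalBlock M ↥N,
      ∀ n : N, (χ : X → ℂ) n = (θ : N → ℂ) n) ∧
    ∀ θ ∈ Cfsg.principalBlock M ↥N, ∃! χ : Cfsg.IrrCharacter X,
      χ ∈ Cfsg.principalBlock M X ∧ ∀ n : N, (χ : X → ℂ) n = (θ : N → ℂ) n

/-- The hypotheses of S4551 for the pair `(X, N)`. -/
def Hyp (p : ℕ) (X : Type u) [Group X] (N : Subgroup X) : Prop :=
  N.Normal ∧ ¬ p ∣ N.index ∧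
    ∃ Q : Sylow p X, N ⊔ Subgroup.centralizer ((Q : Subgroup X) : Set X) = ⊤

section transport

variable {H H' : Type*} [Group H] [Group H'] {M : Ideal AlgInt}

theorem index_centralizer_mulEquiv (φ : H' ≃* H) (n : H') :
    (Subgroup.centralizer ({φ n} : Set H)).index
      = (Subgroup.centralizer ({n} : Set H')).index := by
  have e : Subgroup.centralizer ({φ n} : Set H)
      = (Subgroup.centralizer ({n} : Set H')).map φ.toMonoidHom := by
    ext x
    rw [Subgroup.mem_map_equiv, Subgroup.mem_centralizer_singleton_iff,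
      Subgroup.mem_centralizer_singleton_iff]
    constructor
    · intro h
      apply φ.injective
      rw [map_mul, map_mul, MulEquiv.apply_symm_apply]
      exact h
    · intro h
      have := congrArg φ h
      rw [map_mul, map_mul, MulEquiv.apply_symm_apply] at this
      exact this
  rw [e]
  exact Subgroup.index_map_equiv _ φ

/-- Transport of an irreducible character along an isomorphism, keeping track of the principal
block. -/
theorem exists_irr_comp [Finite H] (ι : H' ≃* H) (θ : IrrCharacter H) :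
    ∃ θ' : IrrCharacter H', (∀ h' : H', (θ' : H' → ℂ) h' = (θ : H → ℂ) (ι h')) ∧
      (θ ∈ principalBlock M H → θ' ∈ principalBlock M H') := by
  refine ⟨⟨fun h' => (θ : H → ℂ) (ι h'),
    Cfsg.Agent.Lib.helper3.Irr.isIrrCharacter_comp_mulEquiv ι θ.2⟩, fun _ => rfl, ?_⟩
  intro hθ h'
  have := hθ (ι h')
  unfold centralChar at this ⊢
  simp only [map_one]
  rw [index_centralizer_mulEquiv ι h'] at this
  exact this

end transport

section trivial

variable {X : Type u} [Group X] [Finite X] {M : Ideal AlgInt}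

/-- The trivial case `N = ⊤`. -/
theorem stmt_top : Stmt M X (⊤ : Subgroup X) := by
  constructor
  · intro χ hχ
    obtain ⟨θ, hθ1, hθ2⟩ := exists_irr_comp (M := M) (Subgroup.topEquiv : (⊤ : Subgroup X) ≃* X) χ
    exact ⟨θ, hθ2 hχ, fun n => (hθ1 n).symm⟩
  · intro θ hθ
    obtain ⟨χ, hχ1, hχ2⟩ := exists_irr_comp (M := M)
      (Subgroup.topEquiv : (⊤ : Subgroup X) ≃* X).symm θ
    refine ⟨χ, ⟨hχ2 hθ, fun n => ?_⟩, ?_⟩
    · rw [hχ1]
      congr 1
    · rintro χ' ⟨_, hχ'⟩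
      apply Subtype.ext
      funext x
      have h1 := hχ' ⟨x, Subgroup.mem_top x⟩
      have h2 := hχ1 x
      rw [h2]
      exact h1

end trivial

section compose

variable {X : Type u} [Group X] [Finite X] {M : Ideal AlgInt}

/-- Case 1 of the induction: composition through an intermediate subgroup. -/
theorem stmt_compose (N N₁ : Subgroup X) (hle : N ≤ N₁)
    (h1 : Stmt M X N₁) (h2 : Stmt M ↥N₁ (N.subgroupOf N₁)) : Stmt M X N := by
  let e : ↥(N.subgroupOf N₁) ≃* ↥N := Subgroup.subgroupOfEquivOfLe hle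
  have he : ∀ k : ↥(N.subgroupOf N₁), ((e k : N) : X) = ((k : N₁) : X) := fun k => rfl
  have he' : ∀ n : N, (((e.symm n : ↥(N.subgroupOf N₁)) : N₁) : X) = (n : X) := by
    intro n
    rw [← he, MulEquiv.apply_symm_apply]
  -- part (a)
  have hA : ∀ χ ∈ Cfsg.principalBlock M X, ∃ θ ∈ Cfsg.principalBlock M ↥N,
      ∀ n : N, (χ : X → ℂ) n = (θ : N → ℂ) n := by
    intro χ hχ
    obtain ⟨θ₁, hθ₁, hθ₁'⟩ := h1.1 χ hχ
    obtain ⟨θ₂, hθ₂, hθ₂'⟩ := h2.1 θ₁ hθ₁
    obtain ⟨θ, hθa, hθb⟩ := exists_irr_comp (M := M) e.symm θ₂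
    refine ⟨θ, hθb hθ₂, fun n => ?_⟩
    rw [hθa, ← hθ₂', ← hθ₁', he']
  refine ⟨hA, ?_⟩
  intro θ hθ
  obtain ⟨θ₂, hθ₂a, hθ₂b⟩ := exists_irr_comp (M := M) e θ
  obtain ⟨θ₁, ⟨hθ₁, hθ₁'⟩, hθ₁u⟩ := h2.2 θ₂ (hθ₂b hθ)
  obtain ⟨χ, ⟨hχ, hχ'⟩, hχu⟩ := h1.2 θ₁ hθ₁
  refine ⟨χ, ⟨hχ, fun n => ?_⟩, ?_⟩
  · have h3 := hχ' ⟨(n : X), hle n.2⟩
    have h4 := hθ₁' (e.symm n)
    have h5 := hθ₂a (e.symm n)
    rw [MulEquiv.apply_symm_apply] at h5
    rw [← h5, ← h4, ← hχ' ((e.symm n : ↥(N.subgroupOf N₁)) : N₁), he']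
  · rintro χ' ⟨hχ'1, hχ'2⟩
    obtain ⟨θ₁', hθ₁'1, hθ₁'2⟩ := h1.1 χ' hχ'1
    have : θ₁' = θ₁ := by
      apply hθ₁u
      refine ⟨hθ₁'1, fun k => ?_⟩
      rw [← hθ₁'2, hθ₂a, ← hχ'2 (e k), he]
    subst this
    exact hχu χ' ⟨hχ'1, hθ₁'2⟩

end compose

end Cfsg.Agent.Lib.Helper8.AD
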