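import Mathlib
import Cfsg.Prelude.Def_Characters
import Cfsg.Agent.Lib.helper3.IndFun

/-!
# S4914 (correspondence above a normal Sylow `p`-subgroup), part 0: the hypotheses bundled,
the basic predicates (`PInv`, `ConjBy`, `Over`), the conjugation action of `G` on functions
`G → ℂ`, and the elementary group theory of the configuration.
-/

set_option autoImplicit false
set_option linter.style.haveILetI false
set_option linter.unusedSectionVars false
set_option linter.unusedVariables false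

namespace Cfsg.Agent.Lib.Helper8.GS

open Cfsg Cfsg.Agent.Lib.helper3.IndFun
open scoped ComplexConjugate

variable {G : Type*} [Group G]

/-- The hypotheses of S4914, bundled (verbatim). -/
structure Hyp (p : ℕ) (P K Q C : Subgroup G) : Prop where
  hP : IsPGroup p ↥P
  hPK : P ≤ Subgroup.normalizer (K : Set G)
  hQK : Q ≤ K
  hQn : ∀ k ∈ K, ∀ q ∈ Q, k * q * k⁻¹ ∈ Q
  hQp : ∃ a : ℕ, Nat.card ↥Q = p ^ a
  hQsyl : ¬ p ∣ Q.relIndex K
  hCK : C ≤ K
  hC : ∀ k : G, k ∈ C ↔ (k ∈ K ∧ ∀ x ∈ P, x * k * x⁻¹ * k⁻¹ ∈ Q)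

/-- `φ`, a function on the subgroup `X`, is invariant under conjugation by `P`
(the shape used in the statement of S4914). -/
def PInv (P X : Subgroup G) (φ : ↥X → ℂ) : Prop :=
  ∀ x ∈ P, ∀ k k' : ↥X, (k' : G) = x * (k : G) * x⁻¹ → φ k' = φ k

/-- `θ'` is the conjugate of `θ` by `g`: `θ' (g q g⁻¹) = θ q`. -/
def ConjBy (Q : Subgroup G) (g : G) (θ θ' : ↥Q → ℂ) : Prop :=
  ∀ q q' : ↥Q, (q' : G) = g * (q : G) * g⁻¹ → θ' q' = θ q

/-- `χ` (on `X ≥ Q`) lies over `θ` (on `Q`). -/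
def Over (Q : Subgroup G) [Fintype ↥Q] {X : Subgroup G} (hQX : Q ≤ X) (χ : ↥X → ℂ)
    (θ : ↥Q → ℂ) : Prop :=
  classInner (fun q : Q => χ ⟨q, hQX q.2⟩) θ ≠ 0

theorem pinv_iff_conjBy (P Q : Subgroup G) (θ : ↥Q → ℂ) :
    PInv P Q θ ↔ ∀ x ∈ P, ConjBy Q x θ θ := Iff.rfl

/-- The conjugation action of `G` on functions `G → ℂ`: `(g • F) y = F (g⁻¹ y g)`. -/
@[reducible] noncomputable def cAct : MulAction G (G → ℂ) where
  smul g F := fun y => F (g⁻¹ * y * g)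
  one_smul F := by
    funext y
    show F ((1 : G)⁻¹ * y * 1) = F y
    rw [inv_one, one_mul, mul_one]
  mul_smul a b F := by
    funext y
    show F ((a * b)⁻¹ * y * (a * b)) = F (b⁻¹ * (a⁻¹ * y * a) * b)
    rw [mul_inv_rev]
    simp only [mul_assoc]

attribute [local instance] cAct

theorem cAct_apply (g : G) (F : G → ℂ) (y : G) : (g • F) y = F (g⁻¹ * y * g) := rfl

/-- For `g` normalizing `Q`: the action on the extensions by zero is `ConjBy`. -/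
theorem smul_extendByZero_eq_iff (Q : Subgroup G) (g : G)
    (hg : g ∈ Subgroup.normalizer (Q : Set G)) (θ θ' : ↥Q → ℂ) :
    g • extendByZero Q θ = extendByZero Q θ' ↔ ConjBy Q g θ θ' := by
  constructor
  · intro h q q' hq
    have h1 := congrFun h (q' : G)
    rw [cAct_apply, extendByZero_coe] at h1
    have h2 : g⁻¹ * (q' : G) * g = (q : G) := by rw [hq]; group
    rw [h2, extendByZero_coe] at h1
    exact h1.symm
  · intro h
    funext y
    rw [cAct_apply]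
    by_cases hy : y ∈ Q
    · have hy' : g⁻¹ * y * g ∈ Q := by
        have := (Subgroup.mem_normalizer_iff.mp (inv_mem hg) y).mp hy
        rwa [inv_inv] at this
      rw [extendByZero_mem Q θ hy', extendByZero_mem Q θ' hy]
      exact (h ⟨_, hy'⟩ ⟨y, hy⟩ (by show y = g * (g⁻¹ * y * g) * g⁻¹; group)).symm
    · have hy' : g⁻¹ * y * g ∉ Q := by
        intro h'
        apply hy
        have := (Subgroup.mem_normalizer_iff.mp hg _).mp h'
        have e : g * (g⁻¹ * y * g) * g⁻¹ = y := by group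
        rwa [e] at this
      rw [extendByZero_not_mem Q θ hy', extendByZero_not_mem Q θ' hy]

theorem extendByZero_injective (Q : Subgroup G) : Function.Injective (extendByZero Q) := by
  intro θ θ' h
  funext q
  have := congrFun h (q : G)
  rwa [extendByZero_coe, extendByZero_coe] at this

/-- The inertia group of `θ` in `X`, as a subgroup of `G`. -/
noncomputable def inertiaIn (Q X : Subgroup G) (θ : ↥Q → ℂ) : Subgroup G :=
  MulAction.stabilizer G (extendByZero Q θ) ⊓ X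

theorem inertiaIn_le (Q X : Subgroup G) (θ : ↥Q → ℂ) : inertiaIn Q X θ ≤ X := inf_le_right

theorem mem_inertiaIn_iff (Q X : Subgroup G) (hX : X ≤ Subgroup.normalizer (Q : Set G))
    (θ : ↥Q → ℂ) (g : G) : g ∈ inertiaIn Q X θ ↔ g ∈ X ∧ ConjBy Q g θ θ := by
  unfold inertiaIn
  rw [Subgroup.mem_inf, MulAction.mem_stabilizer_iff]
  constructor
  · rintro ⟨h1, h2⟩
    exact ⟨h2, (smul_extendByZero_eq_iff Q g (hX h2) θ θ).mp h1⟩
  · rintro ⟨h1, h2⟩
    exact ⟨(smul_extendByZero_eq_iff Q g (hX h1) θ θ).mpr h2, h1⟩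

theorem inertiaIn_inf (Q X Y : Subgroup G) (θ : ↥Q → ℂ) :
    inertiaIn Q (X ⊓ Y) θ = inertiaIn Q X θ ⊓ Y := by
  unfold inertiaIn
  rw [inf_assoc]

theorem inertiaIn_of_le (Q : Subgroup G) {X Y : Subgroup G} (hYX : Y ≤ X) (θ : ↥Q → ℂ) :
    inertiaIn Q Y θ = inertiaIn Q X θ ⊓ Y := by
  rw [← inertiaIn_inf, inf_eq_right.mpr hYX]

section hyp

variable [Finite G] {p : ℕ} [hp : Fact p.Prime] {P K Q C : Subgroup G}

theorem Hyp.hKn (h : Hyp p P K Q C) : K ≤ Subgroup.normalizer (Q : Set G) := by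
  intro k hk
  rw [Subgroup.mem_normalizer_iff]
  intro q
  constructor
  · exact h.hQn k hk q
  · intro hq
    have := h.hQn k⁻¹ (inv_mem hk) _ hq
    have e : k⁻¹ * (k * q * k⁻¹) * k⁻¹⁻¹ = q := by group
    rwa [e] at this

theorem Hyp.normal_subgroupOf (h : Hyp p P K Q C) : (Q.subgroupOf K).Normal := by
  constructor
  intro q hq k
  rw [Subgroup.mem_subgroupOf] at hq ⊢
  exact h.hQn k k.2 q hq

/-- Every `p`-element of `K` lies in `Q`. -/
theorem Hyp.mem_of_pow (h : Hyp p P K Q C) {k : G} (hk : k ∈ K) (n : ℕ)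
    (hkn : k ^ (p ^ n) = 1) : k ∈ Q := by
  haveI := h.normal_subgroupOf
  set k' : ↥K := ⟨k, hk⟩ with hk'
  have h1 : ((k' : ↥K ⧸ Q.subgroupOf K)) ^ (p ^ n) = 1 := by
    rw [← QuotientGroup.mk_pow]
    have : k' ^ (p ^ n) = 1 := Subtype.ext (by simpa using hkn)
    rw [this]
    rfl
  have h2 : ((k' : ↥K ⧸ Q.subgroupOf K)) ^ (Nat.card (↥K ⧸ Q.subgroupOf K)) = 1 :=
    pow_card_eq_one'
  have h3 : Nat.card (↥K ⧸ Q.subgroupOf K) = Q.relIndex K := rfl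
  have hcop : Nat.Coprime (p ^ n) (Q.relIndex K) :=
    Nat.Coprime.pow_left n ((Nat.Prime.coprime_iff_not_dvd hp.out).mpr h.hQsyl)
  have h4 : orderOf ((k' : ↥K ⧸ Q.subgroupOf K)) ∣ 1 := by
    rw [← Nat.Coprime.gcd_eq_one hcop]
    exact Nat.dvd_gcd (orderOf_dvd_of_pow_eq_one h1) (h3 ▸ orderOf_dvd_of_pow_eq_one h2)
  have h5 : ((k' : ↥K ⧸ Q.subgroupOf K)) = 1 := orderOf_eq_one_iff.mp (Nat.dvd_one.mp h4)
  have h6 := (QuotientGroup.eq_one_iff k').mp h5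
  rwa [Subgroup.mem_subgroupOf] at h6

theorem Hyp.isPGroup_Q (h : Hyp p P K Q C) : IsPGroup p ↥Q := by
  obtain ⟨a, ha⟩ := h.hQp
  exact IsPGroup.of_card ha

theorem Hyp.hKP (h : Hyp p P K Q C) {x k : G} (hx : x ∈ P) (hk : k ∈ K) : x * k * x⁻¹ ∈ K :=
  (Subgroup.mem_normalizer_iff.mp (h.hPK hx) k).mp hk

theorem Hyp.hPQ (h : Hyp p P K Q C) {x q : G} (hx : x ∈ P) (hq : q ∈ Q) : x * q * x⁻¹ ∈ Q := by
  obtain ⟨a, ha⟩ := h.hQp
  apply h.mem_of_pow (h.hKP hx (h.hQK hq)) a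
  rw [conj_pow]
  have : (⟨q, hq⟩ : ↥Q) ^ (p ^ a) = 1 := by
    rw [← ha]
    exact pow_card_eq_one'
  have h1 : q ^ (p ^ a) = 1 := by
    have := congrArg Subtype.val this
    simpa using this
  rw [h1]
  group

theorem Hyp.hPn (h : Hyp p P K Q C) : P ≤ Subgroup.normalizer (Q : Set G) := by
  intro x hx
  rw [Subgroup.mem_normalizer_iff]
  intro q
  constructor
  · exact fun hq => h.hPQ hx hq
  · intro hq
    have := h.hPQ (inv_mem hx) hq
    have e : x⁻¹ * (x * q * x⁻¹) * x⁻¹⁻¹ = q := by group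
    rwa [e] at this

theorem Hyp.hQC (h : Hyp p P K Q C) : Q ≤ C := by
  intro q hq
  rw [h.hC]
  refine ⟨h.hQK hq, fun x hx => ?_⟩
  exact mul_mem (h.hPQ hx hq) (inv_mem hq)

theorem Hyp.comm_mem (h : Hyp p P K Q C) {x c : G} (hx : x ∈ P) (hc : c ∈ C) :
    x * c * x⁻¹ * c⁻¹ ∈ Q := ((h.hC c).mp hc).2 x hx

theorem Hyp.hPC (h : Hyp p P K Q C) {x c : G} (hx : x ∈ P) (hc : c ∈ C) : x * c * x⁻¹ ∈ C := by
  rw [h.hC]
  refine ⟨h.hKP hx (h.hCK hc), fun y hy => ?_⟩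
  -- x c x⁻¹ = q c with q ∈ Q
  have hq := h.comm_mem hx hc
  set q := x * c * x⁻¹ * c⁻¹ with hqdef
  have e1 : x * c * x⁻¹ = q * c := by rw [hqdef]; group
  rw [e1]
  have e2 : y * (q * c) * y⁻¹ * (q * c)⁻¹ = (y * q * y⁻¹) * (y * c * y⁻¹ * c⁻¹) * q⁻¹ := by group
  rw [e2]
  exact mul_mem (mul_mem (h.hPQ hy hq) (h.comm_mem hy hc)) (inv_mem hq)

theorem Hyp.hCn (h : Hyp p P K Q C) : C ≤ Subgroup.normalizer (Q : Set G) :=
  h.hCK.trans h.hKn

theorem Hyp.isPGroup_sup (h : Hyp p P K Q C) : IsPGroup p ↥(P ⊔ Q) :=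
  IsPGroup.to_sup_of_normal_right' h.hP h.isPGroup_Q h.hPn

theorem Hyp.inf_sup_le (h : Hyp p P K Q C) : K ⊓ (P ⊔ Q) ≤ Q := by
  intro y hy
  obtain ⟨hyK, hyR⟩ := Subgroup.mem_inf.mp hy
  obtain ⟨n, hn⟩ := h.isPGroup_sup ⟨y, hyR⟩
  apply h.mem_of_pow hyK n
  have := congrArg Subtype.val hn
  simpa using this

/-- An element of `K` normalizing `PQ` lies in `C`. -/
theorem Hyp.mem_C_of_normalizes (h : Hyp p P K Q C) {k : G} (hk : k ∈ K)
    (hn : ∀ y ∈ P ⊔ Q, k * y * k⁻¹ ∈ P ⊔ Q) : k ∈ C := by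
  rw [h.hC]
  refine ⟨hk, fun x hx => ?_⟩
  apply h.inf_sup_le
  rw [Subgroup.mem_inf]
  constructor
  · exact mul_mem (h.hKP hx hk) (inv_mem hk)
  · have e : x * k * x⁻¹ * k⁻¹ = x * (k * x⁻¹ * k⁻¹) := by group
    rw [e]
    exact mul_mem (Subgroup.mem_sup_left hx)
      (hn _ (inv_mem (Subgroup.mem_sup_left hx)))

/-- `K ⊔ P = K · P` elementwise. -/
theorem Hyp.exists_mul_of_mem_sup (h : Hyp p P K Q C) {g : G} (hg : g ∈ K ⊔ P) :
    ∃ k ∈ K, ∃ x ∈ P, g = k * x := by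
  have := Subgroup.coe_mul_of_right_le_normalizer_left K P h.hPK
  have hg' : g ∈ ((K ⊔ P : Subgroup G) : Set G) := hg
  rw [this] at hg'
  obtain ⟨k, hk, x, hx, rfl⟩ := Set.mem_mul.mp hg'
  exact ⟨k, hk, x, hx, rfl⟩

/-- `PQ` is a maximal `p`-subgroup of `KP`. -/
theorem Hyp.le_sup_of_isPGroup (h : Hyp p P K Q C) (S : Subgroup G) (hS : IsPGroup p ↥S)
    (hSle : S ≤ K ⊔ P) (hPS : P ≤ S) : S ≤ P ⊔ Q := by
  intro s hs
  obtain ⟨k, hk, x, hx, rfl⟩ := h.exists_mul_of_mem_sup (hSle hs)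
  have hkS : k ∈ S := by
    have := mul_mem hs (inv_mem (hPS hx))
    rwa [mul_inv_cancel_right] at this
  obtain ⟨n, hn⟩ := hS ⟨k, hkS⟩
  have hkQ : k ∈ Q := by
    apply h.mem_of_pow hk n
    have := congrArg Subtype.val hn
    simpa using this
  exact mul_mem (Subgroup.mem_sup_right hkQ) (Subgroup.mem_sup_left hx)

end hyp

end Cfsg.Agent.Lib.Helper8.GS
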