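import Mathlib
import Cfsg.Agent.Lib.Helper8.GS0

/-!
# S4914, part 1: Glauberman's lemma on sets in the configuration of S4914, for an arbitrary
action of the ambient group.
-/

set_option autoImplicit false
set_option linter.style.haveILetI false
set_option linter.unusedSectionVars false
set_option linter.unusedVariables false

namespace Cfsg.Agent.Lib.Helper8.GS

open Cfsg

section general

/-- Sylow's theorem for a maximal `p`-subgroup `A` and a `p`-subgroup `B`: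
`B` is conjugate into `A`. -/
theorem exists_conj_le_of_maximal {H : Type*} [Group H] [Finite H] (p : ℕ) [Fact p.Prime]
    (A B : Subgroup H) (hA : IsPGroup p ↥A)
    (hmax : ∀ T : Subgroup H, IsPGroup p ↥T → A ≤ T → T ≤ A) (hB : IsPGroup p ↥B) :
    ∃ g : H, ∀ b ∈ B, g⁻¹ * b * g ∈ A := by
  let SA : Sylow p H := ⟨A, hA, fun {T} hT hAT => le_antisymm (hmax T hT hAT) hAT⟩
  obtain ⟨SB, hSB⟩ := hB.exists_le_sylow
  obtain ⟨g, hg⟩ := MulAction.exists_smul_eq H SA SB
  refine ⟨g, fun b hb => ?_⟩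
  have h1 : b ∈ (SB : Subgroup H) := hSB hb
  rw [← hg, Sylow.coe_subgroup_smul, Subgroup.mem_smul_pointwise_iff_exists] at h1
  obtain ⟨s, hs, hsb⟩ := h1
  rw [MulAut.smul_def, MulAut.conj_apply] at hsb
  rw [← hsb]
  have : g⁻¹ * (g * s * g⁻¹) * g = s := by group
  rw [this]
  exact hs

/-- The action of a subgroup on a stable subset. -/
@[reducible] def stableAct {G α : Type*} [Group G] [MulAction G α] (P : Subgroup G) (s : Set α)
    (hs : ∀ x ∈ P, ∀ a ∈ s, x • a ∈ s) : MulAction ↥P ↥s where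
  smul x a := ⟨(x : G) • (a : α), hs x x.2 a a.2⟩
  one_smul a := Subtype.ext (one_smul G (a : α))
  mul_smul x y a := Subtype.ext (mul_smul (x : G) (y : G) (a : α))

/-- Fixed point congruence on a stable finite subset. -/
theorem ncard_modEq_fixed {G α : Type*} [Group G] [MulAction G α] (p : ℕ) [Fact p.Prime]
    (P : Subgroup G) (hP : IsPGroup p ↥P) (s : Set α) (hfin : s.Finite)
    (hs : ∀ x ∈ P, ∀ a ∈ s, x • a ∈ s) :
    s.ncard ≡ {a ∈ s | ∀ x ∈ P, x • a = a}.ncard [MOD p] := by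
  letI := stableAct P s hs
  haveI : Finite ↥s := hfin
  have h1 := hP.card_modEq_card_fixedPoints ↥s
  have h2 : Nat.card ↥s = s.ncard := Nat.card_coe_set_eq s
  have h3 : Nat.card ↥(MulAction.fixedPoints ↥P ↥s) = {a ∈ s | ∀ x ∈ P, x • a = a}.ncard := by
    rw [Nat.card_coe_set_eq, ← Set.ncard_image_of_injective _ Subtype.val_injective]
    congr 1
    ext a
    constructor
    · rintro ⟨b, hb, rfl⟩
      refine ⟨b.2, fun x hx => ?_⟩
      have := hb ⟨x, hx⟩
      exact congrArg Subtype.val this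
    · rintro ⟨ha, hfix⟩
      refine ⟨⟨a, ha⟩, ?_, rfl⟩
      intro x
      exact Subtype.ext (hfix x x.2)
  rw [h2, h3] at h1
  exact h1

theorem exists_fixed_of_not_dvd {G α : Type*} [Group G] [MulAction G α] (p : ℕ) [Fact p.Prime]
    (P : Subgroup G) (hP : IsPGroup p ↥P) (s : Set α) (hfin : s.Finite)
    (hs : ∀ x ∈ P, ∀ a ∈ s, x • a ∈ s) (hcard : ¬ p ∣ s.ncard) :
    ∃ a ∈ s, ∀ x ∈ P, x • a = a := by
  have h1 := ncard_modEq_fixed p P hP s hfin hs
  by_contra hcon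
  push Not at hcon
  have h2 : {a ∈ s | ∀ x ∈ P, x • a = a} = ∅ := by
    ext a
    simp only [Set.mem_ofPred_eq, Set.mem_empty_iff_false, iff_false, not_and]
    intro ha hfix
    obtain ⟨x, hx, hne⟩ := hcon a ha
    exact hne (hfix x hx)
  rw [h2, Set.ncard_empty] at h1
  exact hcard ((Nat.modEq_zero_iff_dvd).mp h1)

/-- Orbit–stabilizer for the action of a subgroup. -/
theorem ncard_orbit_subgroup {G α : Type*} [Group G] [MulAction G α] (X : Subgroup G) (a : α) :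
    (MulAction.orbit ↥X a).ncard = (MulAction.stabilizer G a ⊓ X).relIndex X := by
  rw [← MulAction.index_stabilizer, Subgroup.inf_relIndex_right]
  unfold Subgroup.relIndex
  congr 1

theorem mem_orbit_subgroup_iff {G α : Type*} [Group G] [MulAction G α] (X : Subgroup G) (a b : α) :
    b ∈ MulAction.orbit ↥X a ↔ ∃ k ∈ X, k • a = b := by
  constructor
  · rintro ⟨k, rfl⟩
    exact ⟨k, k.2, rfl⟩
  · rintro ⟨k, hk, rfl⟩
    exact ⟨⟨k, hk⟩, rfl⟩

end general

section config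

variable {G : Type*} [Group G] [Finite G] {p : ℕ} [hp : Fact p.Prime] {P K Q C : Subgroup G}
variable {α : Type*} [MulAction G α]

/-- `Q` fixes every `K`-translate of a point it fixes. -/
theorem Hyp.Q_fixes_smul (h : Hyp p P K Q C) {a : α} (hQa : ∀ q ∈ Q, q • a = a) {k : G}
    (hk : k ∈ K) {q : G} (hq : q ∈ Q) : q • k • a = k • a := by
  have h1 : k⁻¹ * q * k ∈ Q := by
    have := h.hQn k⁻¹ (inv_mem hk) q hq
    rwa [inv_inv] at this
  have h2 : q • k • a = k • (k⁻¹ * q * k) • a := by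
    rw [← mul_smul, ← mul_smul]
    congr 1
    group
  rw [h2, hQa _ h1]

/-- **Glauberman's lemma, transitivity part**: two `P`-fixed points in one `K`-orbit
(of a point fixed by `Q`) are conjugate under `C`. -/
theorem Hyp.exists_mem_C_smul_eq (h : Hyp p P K Q C) {a a' : α} (hQa : ∀ q ∈ Q, q • a = a)
    (hPa : ∀ x ∈ P, x • a = a) (hPa' : ∀ x ∈ P, x • a' = a') {k : G} (hk : k ∈ K)
    (hka : k • a = a') : ∃ c ∈ C, c • a = a' := by
  classical
  set Γ := K ⊔ P with hΓ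
  set R := P ⊔ Q with hR
  set S := MulAction.stabilizer G a ⊓ Γ with hS
  have hRΓ : R ≤ Γ := sup_le le_sup_right (h.hQK.trans le_sup_left)
  have hRstab : R ≤ MulAction.stabilizer G a := by
    apply sup_le
    · intro x hx
      exact hPa x hx
    · intro q hq
      exact hQa q hq
  have hRS : R ≤ S := le_inf hRstab hRΓ
  have hkΓ : k ∈ Γ := Subgroup.mem_sup_left hk
  have hRa' : ∀ y ∈ R, y • a' = a' := by
    have : R ≤ MulAction.stabilizer G a' := by
      apply sup_le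
      · intro x hx
        exact hPa' x hx
      · intro q hq
        show q • a' = a'
        rw [← hka]
        exact h.Q_fixes_smul hQa hk hq
    exact fun y hy => this hy
  let A : Subgroup ↥S := R.subgroupOf S
  let B : Subgroup ↥S := (R.map (MulAut.conj k⁻¹).toMonoidHom).subgroupOf S
  have hRp : IsPGroup p ↥R := h.isPGroup_sup
  have hA : IsPGroup p ↥A := hRp.comap_subtype
  have hB : IsPGroup p ↥B := (hRp.map _).comap_subtype
  have hmax : ∀ T : Subgroup ↥S, IsPGroup p ↥T → A ≤ T → T ≤ A := by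
    intro T hT hAT
    have hT' : IsPGroup p ↥(T.map S.subtype) := hT.map _
    have h1 : T.map S.subtype ≤ Γ := by
      rintro _ ⟨t, -, rfl⟩
      exact (Subgroup.mem_inf.mp t.2).2
    have h2 : P ≤ T.map S.subtype := by
      intro x hx
      have hxR : x ∈ R := Subgroup.mem_sup_left hx
      exact ⟨⟨x, hRS hxR⟩, hAT (Subgroup.mem_subgroupOf.mpr hxR), rfl⟩
    have h3 := h.le_sup_of_isPGroup _ hT' h1 h2
    intro t ht
    rw [Subgroup.mem_subgroupOf]
    exact h3 ⟨t, ht, rfl⟩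
  obtain ⟨g, hg⟩ := exists_conj_le_of_maximal p A B hA hmax hB
  have hgS : (g : G) ∈ S := g.2
  have hga : (g : G) • a = a := (Subgroup.mem_inf.mp hgS).1
  have hgΓ : (g : G) ∈ Γ := (Subgroup.mem_inf.mp hgS).2
  set n : G := k * (g : G) with hn
  have hnΓ : n ∈ Γ := mul_mem hkΓ hgΓ
  have key1 : ∀ y ∈ R, ∃ s ∈ R, y = n * s * n⁻¹ := by
    intro y hy
    have hy' : k⁻¹ * y * k ∈ R.map (MulAut.conj k⁻¹).toMonoidHom :=
      ⟨y, hy, by simp⟩
    have hy'S : k⁻¹ * y * k ∈ S := by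
      refine Subgroup.mem_inf.mpr ⟨?_, ?_⟩
      · show (k⁻¹ * y * k) • a = a
        rw [mul_smul, mul_smul, hka, hRa' y hy, ← hka, ← mul_smul, inv_mul_cancel, one_smul]
      · exact mul_mem (mul_mem (inv_mem hkΓ) (hRΓ hy)) hkΓ
    have h1 := hg ⟨_, hy'S⟩ (Subgroup.mem_subgroupOf.mpr hy')
    rw [Subgroup.mem_subgroupOf] at h1
    refine ⟨_, h1, ?_⟩
    show y = n * ((g : G)⁻¹ * (k⁻¹ * y * k) * (g : G)) * n⁻¹
    rw [hn]
    group
  have key2 : ∀ y ∈ R, n * y * n⁻¹ ∈ R := by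
    have hTp : IsPGroup p ↥(R.map (MulAut.conj n).toMonoidHom) := hRp.map _
    have h1 : R.map (MulAut.conj n).toMonoidHom ≤ Γ := by
      rintro _ ⟨y, hy, rfl⟩
      show n * y * n⁻¹ ∈ Γ
      exact mul_mem (mul_mem hnΓ (hRΓ hy)) (inv_mem hnΓ)
    have h2 : P ≤ R.map (MulAut.conj n).toMonoidHom := by
      intro x hx
      obtain ⟨s, hs, hxs⟩ := key1 x (Subgroup.mem_sup_left hx)
      exact ⟨s, hs, by rw [hxs]; rfl⟩
    have h3 := h.le_sup_of_isPGroup _ hTp h1 h2
    intro y hy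
    exact h3 ⟨y, hy, rfl⟩
  obtain ⟨k', hk', x, hx, hnx⟩ := h.exists_mul_of_mem_sup hnΓ
  have hk'n : k' = n * x⁻¹ := by rw [hnx]; group
  refine ⟨k', ?_, ?_⟩
  · apply h.mem_C_of_normalizes hk'
    intro y hy
    have hxR : x ∈ R := Subgroup.mem_sup_left hx
    have h1 : x⁻¹ * y * x ∈ R := mul_mem (mul_mem (inv_mem hxR) hy) hxR
    have h2 := key2 _ h1
    have e : k' * y * k'⁻¹ = n * (x⁻¹ * y * x) * n⁻¹ := by rw [hk'n]; group
    rw [e]
    exact h2
  · rw [hk'n, mul_smul, hPa _ (inv_mem hx), hn, mul_smul, hga, hka]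

/-- Orbits of `Q`-fixed points under `X` (`Q ≤ X ≤ K`) have size prime to `p`. -/
theorem Hyp.not_dvd_ncard_orbit (h : Hyp p P K Q C) {X : Subgroup G} (hQX : Q ≤ X) (hXK : X ≤ K)
    {a : α} (hQa : ∀ q ∈ Q, q • a = a) : ¬ p ∣ (MulAction.orbit ↥X a).ncard := by
  rw [ncard_orbit_subgroup]
  intro hdvd
  apply h.hQsyl
  have h1 : Q ≤ MulAction.stabilizer G a ⊓ X := le_inf (fun q hq => hQa q hq) hQX
  have h2 : (MulAction.stabilizer G a ⊓ X).relIndex X ∣ Q.relIndex X :=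
    Subgroup.relIndex_dvd_of_le_left X h1
  have h3 : Q.relIndex X ∣ Q.relIndex K := by
    rw [← Subgroup.relIndex_mul_relIndex Q X K hQX hXK]
    exact dvd_mul_right _ _
  exact (hdvd.trans h2).trans h3

/-- **Glauberman's lemma, existence part**: a `P`-stable `K`-orbit of a `Q`-fixed point
contains a `P`-fixed point. -/
theorem Hyp.exists_fixed_in_orbit (h : Hyp p P K Q C) {a : α} (hQa : ∀ q ∈ Q, q • a = a)
    (hst : ∀ x ∈ P, ∃ k ∈ K, x • a = k • a) : ∃ k ∈ K, ∀ x ∈ P, x • k • a = k • a := by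
  have hstable : ∀ x ∈ P, ∀ b ∈ MulAction.orbit ↥K a, x • b ∈ MulAction.orbit ↥K a := by
    intro x hx b hb
    obtain ⟨k, hk, rfl⟩ := (mem_orbit_subgroup_iff K a b).mp hb
    obtain ⟨k', hk', hxa⟩ := hst x hx
    rw [mem_orbit_subgroup_iff]
    refine ⟨x * k * x⁻¹ * k', mul_mem (h.hKP hx hk) hk', ?_⟩
    rw [mul_smul, ← hxa, ← mul_smul, ← mul_smul]
    congr 1
    group
  obtain ⟨b, hb, hfix⟩ := exists_fixed_of_not_dvd p P h.hP _ (Set.finite_range _) hstable
    (h.not_dvd_ncard_orbit h.hQK le_rfl hQa)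
  obtain ⟨k, hk, rfl⟩ := (mem_orbit_subgroup_iff K a b).mp hb
  exact ⟨k, hk, hfix⟩

/-- A `Q`-fixed point whose `C`-orbit is `P`-stable is `P`-fixed. -/
theorem Hyp.fixed_of_orbit_stable (h : Hyp p P K Q C) {a : α} (hQa : ∀ q ∈ Q, q • a = a)
    (hst : ∀ x ∈ P, ∃ c ∈ C, x • a = c • a) : ∀ x ∈ P, x • a = a := by
  have hstable : ∀ x ∈ P, ∀ b ∈ MulAction.orbit ↥C a, x • b ∈ MulAction.orbit ↥C a := by
    intro x hx b hb
    obtain ⟨k, hk, rfl⟩ := (mem_orbit_subgroup_iff C a b).mp hb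
    obtain ⟨k', hk', hxa⟩ := hst x hx
    rw [mem_orbit_subgroup_iff]
    refine ⟨x * k * x⁻¹ * k', mul_mem (h.hPC hx hk) hk', ?_⟩
    rw [mul_smul, ← hxa, ← mul_smul, ← mul_smul]
    congr 1
    group
  obtain ⟨b, hb, hfix⟩ := exists_fixed_of_not_dvd p P h.hP _ (Set.finite_range _) hstable
    (h.not_dvd_ncard_orbit h.hQC h.hCK hQa)
  obtain ⟨c, hc, rfl⟩ := (mem_orbit_subgroup_iff C a b).mp hb
  intro x hx
  have hq := h.comm_mem hx (inv_mem hc)
  have e1 : x • a = (x * c⁻¹ * x⁻¹ * c⁻¹⁻¹) • c⁻¹ • x • c • a := by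
    rw [← mul_smul, ← mul_smul, ← mul_smul]
    congr 1
    group
  rw [e1, hfix x hx, ← mul_smul c⁻¹ c, inv_mul_cancel, one_smul, hQa _ hq]

/-- The index congruence `|K : K_a| ≡ |C : C_a| (mod p)` for a point fixed by `P` and `Q`. -/
theorem Hyp.relIndex_modEq (h : Hyp p P K Q C) {a : α} (hQa : ∀ q ∈ Q, q • a = a)
    (hPa : ∀ x ∈ P, x • a = a) :
    (MulAction.stabilizer G a ⊓ K).relIndex K ≡ (MulAction.stabilizer G a ⊓ C).relIndex C
      [MOD p] := by
  rw [← ncard_orbit_subgroup, ← ncard_orbit_subgroup]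
  have hstable : ∀ x ∈ P, ∀ b ∈ MulAction.orbit ↥K a, x • b ∈ MulAction.orbit ↥K a := by
    intro x hx b hb
    obtain ⟨k, hk, rfl⟩ := (mem_orbit_subgroup_iff K a b).mp hb
    rw [mem_orbit_subgroup_iff]
    refine ⟨x * k * x⁻¹, h.hKP hx hk, ?_⟩
    have e : x • k • a = (x * k * x⁻¹) • x • a := by
      rw [← mul_smul, ← mul_smul]
      congr 1
      group
    rw [e, hPa x hx]
  have h1 := ncard_modEq_fixed p P h.hP (MulAction.orbit ↥K a) (Set.finite_range _) hstable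
  have h2 : {b ∈ MulAction.orbit ↥K a | ∀ x ∈ P, x • b = b} = MulAction.orbit ↥C a := by
    ext b
    constructor
    · rintro ⟨hb, hfix⟩
      obtain ⟨k, hk, rfl⟩ := (mem_orbit_subgroup_iff K a b).mp hb
      obtain ⟨c, hc, hca⟩ := h.exists_mem_C_smul_eq hQa hPa hfix hk rfl
      exact (mem_orbit_subgroup_iff C a _).mpr ⟨c, hc, hca⟩
    · intro hb
      obtain ⟨c, hc, rfl⟩ := (mem_orbit_subgroup_iff C a b).mp hb
      refine ⟨(mem_orbit_subgroup_iff K a _).mpr ⟨c, h.hCK hc, rfl⟩, fun x hx => ?_⟩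
      have hq := h.comm_mem hx hc
      have e : x • c • a = (x * c * x⁻¹ * c⁻¹) • c • x • a := by
        rw [← mul_smul, ← mul_smul, ← mul_smul]
        congr 1
        group
      rw [e, hPa x hx, h.Q_fixes_smul hQa (h.hCK hc) hq]
  rw [h2] at h1
  exact h1

end config

end Cfsg.Agent.Lib.Helper8.GS
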