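import Mathlib
import Cfsg.Agent.Lib.Helper8.GS1

/-!
# Isaacs–Navarro Theorem A (S4865), part 7: Sylow subgroups and group actions.
Two `P`-fixed points in one orbit are conjugate under `N_G(P)`; orbit sizes modulo `p`.
-/

set_option autoImplicit false
set_option linter.style.haveILetI false
set_option linter.unusedSectionVars false
set_option linter.unusedVariables false

namespace Cfsg.Agent.Lib.Helper8.IN

open Cfsg.Agent.Lib.Helper8.GS

variable {G α : Type*} [Group G] [Finite G] [MulAction G α] {p : ℕ} [Fact p.Prime]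

/-- Two `P`-fixed points in one `G`-orbit are conjugate under `N_G(P)`. -/
theorem exists_normalizer_smul_eq (P : Sylow p G) (a : α) (g : G)
    (ha : ∀ x ∈ (P : Subgroup G), x • a = a)
    (hga : ∀ x ∈ (P : Subgroup G), x • (g • a) = g • a) :
    ∃ n ∈ Subgroup.normalizer ((P : Subgroup G) : Set G), n • a = g • a := by
  classical
  set S := MulAction.stabilizer G a with hS
  let A : Subgroup ↥S := (P : Subgroup G).subgroupOf S
  let B : Subgroup ↥S := ((P : Subgroup G).map (MulAut.conj g⁻¹).toMonoidHom).subgroupOf S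
  have hPS : (P : Subgroup G) ≤ S := fun x hx => ha x hx
  have hA : IsPGroup p ↥A := P.2.comap_subtype
  have hB : IsPGroup p ↥B := (P.2.map _).comap_subtype
  have hmax : ∀ T : Subgroup ↥S, IsPGroup p ↥T → A ≤ T → T ≤ A := by
    intro T hT hAT
    have hT' : IsPGroup p ↥(T.map S.subtype) := hT.map _
    have h2 : (P : Subgroup G) ≤ T.map S.subtype := by
      intro x hx
      exact ⟨⟨x, hPS hx⟩, hAT (Subgroup.mem_subgroupOf.mpr hx), rfl⟩
    have h3 := P.3 hT' h2
    intro t ht
    rw [Subgroup.mem_subgroupOf, ← h3]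
    exact ⟨t, ht, rfl⟩
  obtain ⟨s, hs⟩ := exists_conj_le_of_maximal p A B hA hmax hB
  have hsa : (s : G) • a = a := s.2
  set n : G := g * (s : G) with hn
  have key : ∀ y ∈ (P : Subgroup G), n⁻¹ * y * n ∈ (P : Subgroup G) := by
    intro y hy
    have hy' : g⁻¹ * y * g ∈ (P : Subgroup G).map (MulAut.conj g⁻¹).toMonoidHom :=
      ⟨y, hy, by simp⟩
    have hy'S : g⁻¹ * y * g ∈ S := by
      show (g⁻¹ * y * g) • a = a
      rw [mul_smul, mul_smul, hga y hy, ← mul_smul, inv_mul_cancel, one_smul]
    have h1 := hs ⟨_, hy'S⟩ (Subgroup.mem_subgroupOf.mpr hy')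
    rw [Subgroup.mem_subgroupOf] at h1
    have e : n⁻¹ * y * n = (s : G)⁻¹ * (g⁻¹ * y * g) * (s : G) := by
      rw [hn]; group
    rw [e]
    exact h1
  refine ⟨n, ?_, ?_⟩
  · rw [Subgroup.mem_normalizer_iff_map_conj_eq]
    have hTp : IsPGroup p ↥((P : Subgroup G).map (MulAut.conj n).toMonoidHom) := P.2.map _
    have h2 : (P : Subgroup G) ≤ (P : Subgroup G).map (MulAut.conj n).toMonoidHom := by
      intro y hy
      refine ⟨n⁻¹ * y * n, key y hy, ?_⟩
      simp only [MulEquiv.coe_toMonoidHom, MulAut.conj_apply]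
      group
    exact P.3 hTp h2
  · rw [hn, mul_smul, hsa]

/-- The size of the `G`-orbit of a `P`-fixed point is congruent mod `p` to the size of its
`N_G(P)`-orbit. -/
theorem ncard_orbit_modEq (P : Sylow p G) (a : α) (ha : ∀ x ∈ (P : Subgroup G), x • a = a) :
    (Set.range (fun g : G => g • a)).ncard ≡
      (Set.range (fun n : ↥(Subgroup.normalizer ((P : Subgroup G) : Set G)) =>
        (n : G) • a)).ncard [MOD p] := by
  have hfin : (Set.range (fun g : G => g • a)).Finite := Set.finite_range _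
  have hstab : ∀ x ∈ (P : Subgroup G), ∀ b ∈ Set.range (fun g : G => g • a),
      x • b ∈ Set.range (fun g : G => g • a) := by
    rintro x - _ ⟨g, rfl⟩
    exact ⟨x * g, mul_smul x g a⟩
  have h1 := ncard_modEq_fixed p (P : Subgroup G) P.2 _ hfin hstab
  have h2 : {b ∈ Set.range (fun g : G => g • a) | ∀ x ∈ (P : Subgroup G), x • b = b}
      = Set.range (fun n : ↥(Subgroup.normalizer ((P : Subgroup G) : Set G)) => (n : G) • a) := by
    ext b
    constructor
    · rintro ⟨⟨g, rfl⟩, hfix⟩
      obtain ⟨n, hn, hna⟩ := exists_normalizer_smul_eq P a g ha hfix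
      exact ⟨⟨n, hn⟩, hna⟩
    · rintro ⟨n, rfl⟩
      refine ⟨⟨(n : G), rfl⟩, ?_⟩
      intro x hx
      have hy : (n : G)⁻¹ * x * (n : G) ∈ (P : Subgroup G) := by
        have := (Subgroup.mem_normalizer_iff.mp (Subgroup.inv_mem _ n.2) x).mp hx
        simpa using this
      show x • ((n : G) • a) = (n : G) • a
      have e : x * (n : G) = (n : G) * ((n : G)⁻¹ * x * (n : G)) := by group
      rw [← mul_smul, e, mul_smul, ha _ hy]
  rw [h2] at h1
  exact h1

end Cfsg.Agent.Lib.Helper8.IN
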