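import Mathlib
import Cfsg.Agent.Lib.Helper8.AD1

/-!
# Alperin–Dade (S4551), assembly part 2: heredity of the hypotheses.
-/

set_option autoImplicit false
set_option linter.style.haveILetI false
set_option linter.unusedSectionVars false
set_option linter.unusedVariables false

namespace Cfsg.Agent.Lib.Helper8.AD

open Cfsg

universe u

section heredity

variable {X : Type u} [Group X] [Finite X] {p : ℕ} [Fact p.Prime]

/-- A `p`-subgroup lies in every normal subgroup of index prime to `p`. -/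
theorem le_of_isPGroup (N : Subgroup X) [N.Normal] (hidx : ¬ p ∣ N.index)
    (Q : Subgroup X) (hQ : IsPGroup p Q) : Q ≤ N := by
  intro q hq
  obtain ⟨k, hk⟩ := hQ ⟨q, hq⟩
  have hk' : q ^ (p ^ k) = 1 := by
    have := congrArg (Subtype.val) hk
    simpa using this
  have h1 : orderOf ((QuotientGroup.mk' N) q) ∣ p ^ k := by
    apply orderOf_dvd_of_pow_eq_one
    rw [← map_pow, hk', map_one]
  have h2 : orderOf ((QuotientGroup.mk' N) q) ∣ N.index := by
    rw [Subgroup.index_eq_card]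
    exact orderOf_dvd_natCard _
  have hcop : Nat.Coprime (p ^ k) N.index := by
    apply Nat.Coprime.pow_left
    exact (Nat.Prime.coprime_iff_not_dvd (Fact.out)).mpr hidx
  have h3 : orderOf ((QuotientGroup.mk' N) q) = 1 :=
    Nat.eq_one_of_dvd_coprimes hcop h1 h2
  rw [orderOf_eq_one_iff] at h3
  exact (QuotientGroup.eq_one_iff q).mp h3

/-- Elementwise form of `N ⊔ C = ⊤` for a normal subgroup `N`. -/
theorem exists_mul_of_sup_eq_top (N C : Subgroup X) [N.Normal] (h : N ⊔ C = ⊤) (g : X) :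
    ∃ n ∈ N, ∃ c ∈ C, g = n * c := by
  have hg : g ∈ N ⊔ C := by rw [h]; exact Subgroup.mem_top g
  rw [← SetLike.mem_coe, Subgroup.normal_mul] at hg
  obtain ⟨n, hn, c, hc, rfl⟩ := hg
  exact ⟨n, hn, c, hc, rfl⟩

/-- Heredity (H1): the hypotheses pass from `(X, N)` to `(H, N)` for `N ≤ H ≤ X`. -/
theorem hyp_subgroupOf (N : Subgroup X) [N.Normal] (hidx : ¬ p ∣ N.index) (Q : Sylow p X)
    (hsup : N ⊔ Subgroup.centralizer ((Q : Subgroup X) : Set X) = ⊤)
    (H : Subgroup X) (hNH : N ≤ H) :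
    ¬ p ∣ (N.subgroupOf H).index ∧ ∃ Q' : Sylow p ↥H,
      (N.subgroupOf H) ⊔ Subgroup.centralizer ((Q' : Subgroup ↥H) : Set ↥H) = ⊤ := by
  have hQN : (Q : Subgroup X) ≤ N := le_of_isPGroup N hidx Q Q.2
  have hQH : (Q : Subgroup X) ≤ H := hQN.trans hNH
  constructor
  · intro hdvd
    apply hidx
    have : N.relIndex H ∣ N.index := Subgroup.relIndex_dvd_index_of_normal N H
    exact hdvd.trans this
  · refine ⟨Q.subtype hQH, ?_⟩
    rw [eq_top_iff]
    intro h _
    obtain ⟨n, hn, c, hc, hnc⟩ := exists_mul_of_sup_eq_top N _ hsup (h : X)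
    have hcH : c ∈ H := by
      have : c = n⁻¹ * (h : X) := by rw [hnc]; group
      rw [this]
      exact H.mul_mem (H.inv_mem (hNH hn)) h.2
    have h1 : (⟨n, hNH hn⟩ : ↥H) ∈ N.subgroupOf H := by
      rw [Subgroup.mem_subgroupOf]
      exact hn
    have h2 : (⟨c, hcH⟩ : ↥H) ∈ Subgroup.centralizer ((Q.subtype hQH : Subgroup ↥H) : Set ↥H) := by
      rw [Subgroup.mem_centralizer_iff]
      intro q hq
      have hq' : (q : X) ∈ (Q : Subgroup X) := by
        have : q ∈ (Q.subtype hQH : Subgroup ↥H) := hq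
        rw [Sylow.coe_subtype, Subgroup.mem_subgroupOf] at this
        exact this
      apply Subtype.ext
      have := (Subgroup.mem_centralizer_iff.mp hc) (q : X) hq'
      simpa using this
    have h3 : h = (⟨n, hNH hn⟩ : ↥H) * (⟨c, hcH⟩ : ↥H) := by
      apply Subtype.ext
      simpa using hnc
    rw [h3]
    exact Subgroup.mul_mem_sup h1 h2

/-- Heredity (H2): the hypotheses pass from `(X, N)` to `(X, N₁)` for `N ≤ N₁ ⊴ X`. -/
theorem hyp_of_le (N : Subgroup X) (hidx : ¬ p ∣ N.index) (Q : Sylow p X)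
    (hsup : N ⊔ Subgroup.centralizer ((Q : Subgroup X) : Set X) = ⊤)
    (N₁ : Subgroup X) (hle : N ≤ N₁) :
    ¬ p ∣ N₁.index ∧ N₁ ⊔ Subgroup.centralizer ((Q : Subgroup X) : Set X) = ⊤ := by
  constructor
  · intro hdvd
    exact hidx (hdvd.trans (Subgroup.index_dvd_of_le hle))
  · rw [eq_top_iff, ← hsup]
    exact sup_le_sup_right hle _

/-- If `E` is solvable then `N ⊔ E` is solvable over `N`. -/
theorem isSolvable_quot_sup (N : Subgroup X) [N.Normal] (E : Subgroup X) [Group.IsSolvable E] :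
    Group.IsSolvable (↥(N ⊔ E) ⧸ N.subgroupOf (N ⊔ E)) := by
  let f : ↥E →* ↥(N ⊔ E) ⧸ N.subgroupOf (N ⊔ E) :=
    (QuotientGroup.mk' (N.subgroupOf (N ⊔ E))).comp (Subgroup.inclusion le_sup_right)
  apply Group.isSolvable_of_surjective (f := f)
  intro y
  obtain ⟨h, rfl⟩ := QuotientGroup.mk'_surjective _ y
  have hh : (h : X) ∈ N ⊔ E := h.2
  rw [← SetLike.mem_coe, Subgroup.normal_mul] at hh
  obtain ⟨n, hn, c, hc, hnc⟩ := hh
  refine ⟨⟨c, hc⟩, ?_⟩
  show (QuotientGroup.mk' (N.subgroupOf (N ⊔ E))) (Subgroup.inclusion le_sup_right ⟨c, hc⟩) = _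
  symm
  rw [QuotientGroup.mk'_eq_mk']
  have hcN : c⁻¹ * n⁻¹ * c ∈ N := by
    have := ‹N.Normal›.conj_mem n⁻¹ (N.inv_mem hn) c⁻¹
    simpa using this
  refine ⟨(⟨c⁻¹ * n⁻¹ * c, le_sup_left (a := N) (b := E) hcN⟩ : ↥(N ⊔ E)), ?_, ?_⟩
  · rw [Subgroup.mem_subgroupOf]
    exact hcN
  · apply Subtype.ext
    simp only [Subgroup.coe_mul, Subgroup.coe_inclusion]
    rw [← hnc]
    show n * c * (c⁻¹ * n⁻¹ * c) = c
    group

end heredity

end Cfsg.Agent.Lib.Helper8.AD
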