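import Mathlib
import Cfsg.Agent.Lib.Helper8.AD2

/-!
# Alperin–Dade (S4551), assembly part 3: the induction on the index.
-/

set_option autoImplicit false
set_option linter.style.haveILetI false
set_option linter.unusedSectionVars false
set_option linter.unusedVariables false

namespace Cfsg.Agent.Lib.Helper8.AD

open Cfsg

universe u

section simple

variable {X : Type u} [Group X] [Finite X]

/-- If no normal subgroup lies strictly between `N` and `⊤` and `N ≠ ⊤`, then `X ⧸ N` is
simple. -/
theorem isSimpleGroup_quot (N : Subgroup X) [N.Normal] (hN : N ≠ ⊤)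
    (hmax : ∀ N₁ : Subgroup X, N₁.Normal → N ≤ N₁ → N₁ = N ∨ N₁ = ⊤) :
    IsSimpleGroup (X ⧸ N) := by
  haveI : Nontrivial (X ⧸ N) := by
    rw [← not_subsingleton_iff_nontrivial]
    intro hs
    exact hN (QuotientGroup.subgroup_eq_top_of_subsingleton N hs)
  refine ⟨fun K hK => ?_⟩
  have h1 : (K.comap (QuotientGroup.mk' N)).Normal := hK.comap _
  have h2 : N ≤ K.comap (QuotientGroup.mk' N) := by
    intro n hn
    rw [Subgroup.mem_comap]
    have : (QuotientGroup.mk' N) n = 1 := (QuotientGroup.eq_one_iff n).mpr hn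
    rw [this]
    exact K.one_mem
  rcases hmax _ h1 h2 with h | h
  · left
    rw [eq_bot_iff]
    intro y hy
    obtain ⟨x, rfl⟩ := QuotientGroup.mk'_surjective N y
    have : x ∈ K.comap (QuotientGroup.mk' N) := hy
    rw [h] at this
    rw [Subgroup.mem_bot]
    exact (QuotientGroup.eq_one_iff x).mpr this
  · right
    rw [eq_top_iff]
    intro y _
    obtain ⟨x, rfl⟩ := QuotientGroup.mk'_surjective N y
    have : x ∈ K.comap (QuotientGroup.mk' N) := by rw [h]; exact Subgroup.mem_top x
    exact this

/-- A simple solvable quotient has prime index. -/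
theorem prime_index_of_simple_solvable (N : Subgroup X) [N.Normal]
    [IsSimpleGroup (X ⧸ N)] [Group.IsSolvable (X ⧸ N)] : (N.index).Prime := by
  have hcomm : ∀ a b : X ⧸ N, a * b = b * a :=
    IsSimpleGroup.comm_iff_isSolvable.mpr inferInstance
  letI : CommGroup (X ⧸ N) := { (inferInstance : Group (X ⧸ N)) with mul_comm := hcomm }
  have := IsSimpleGroup.prime_card (α := X ⧸ N)
  rw [Subgroup.index_eq_card]
  exact this

/-- If `H = ⊤` then `X ⧸ N` is a quotient of `H ⧸ (N ∩ H)`. -/
theorem isSolvable_quot_of_top (N : Subgroup X) [N.Normal] (H : Subgroup X) (hH : H = ⊤)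
    (hs : Group.IsSolvable (↥H ⧸ N.subgroupOf H)) : Group.IsSolvable (X ⧸ N) := by
  let f : ↥H ⧸ N.subgroupOf H →* X ⧸ N :=
    QuotientGroup.map (N.subgroupOf H) N H.subtype (fun x hx => hx)
  apply Group.isSolvable_of_surjective (f := f)
  intro y
  obtain ⟨x, rfl⟩ := QuotientGroup.mk'_surjective N y
  have hx : x ∈ H := by rw [hH]; exact Subgroup.mem_top x
  exact ⟨QuotientGroup.mk' _ ⟨x, hx⟩, rfl⟩

end simple

section induction

variable {p : ℕ} [Fact p.Prime] {M : Ideal AlgInt}

/-- The induction: Step A (prime index) and Step B (all solvable-over-`N` subgroups known) give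
the theorem for every pair. -/
theorem main
    (hA : ∀ {X : Type u} [Group X] [Finite X] (N : Subgroup X) [N.Normal],
      ¬ p ∣ N.index → ∀ Q : Sylow p X,
      N ⊔ Subgroup.centralizer ((Q : Subgroup X) : Set X) = ⊤ → (N.index).Prime → Stmt M X N)
    (hB : ∀ {X : Type u} [Group X] [Finite X] (N : Subgroup X) [N.Normal],
      ¬ p ∣ N.index → ∀ Q : Sylow p X,
      N ⊔ Subgroup.centralizer ((Q : Subgroup X) : Set X) = ⊤ →
      (∀ H : Subgroup X, N ≤ H → Group.IsSolvable (↥H ⧸ N.subgroupOf H) →
        Stmt M ↥H (N.subgroupOf H)) → Stmt M X N) :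
    ∀ (k : ℕ) {X : Type u} [Group X] [Finite X] (N : Subgroup X) [N.Normal],
      N.index = k → ¬ p ∣ N.index → ∀ Q : Sylow p X,
      N ⊔ Subgroup.centralizer ((Q : Subgroup X) : Set X) = ⊤ → Stmt M X N := by
  intro k
  induction k using Nat.strong_induction_on with
  | _ k ih =>
    intro X _ _ N _ hk hidx Q hsup
    by_cases hN : N = ⊤
    · subst hN
      exact stmt_top
    have hidx0 : N.index ≠ 0 := Subgroup.index_ne_zero_of_finite
    -- the index of `N` in a proper overgroup is smaller
    have hrel : ∀ H : Subgroup X, N ≤ H → H ≠ ⊤ → (N.subgroupOf H).index < k := by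
      intro H hNH hH
      have h1 : N.relIndex H * H.index = N.index := Subgroup.relIndex_mul_index hNH
      have h2 : H.index ≠ 1 := fun h => hH (Subgroup.index_eq_one.mp h)
      have h3 : H.index ≠ 0 := Subgroup.index_ne_zero_of_finite
      have h4 : N.relIndex H ≠ 0 := fun h => hidx0 (by rw [← h1, h, zero_mul])
      show N.relIndex H < k
      rw [← hk, ← h1]
      have : 2 ≤ H.index := by omega
      nlinarith [Nat.pos_of_ne_zero h4]
    have hsub : ∀ H : Subgroup X, N ≤ H → H ≠ ⊤ → Stmt M ↥H (N.subgroupOf H) := by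
      intro H hNH hH
      obtain ⟨h1, Q', h2⟩ := hyp_subgroupOf N hidx Q hsup H hNH
      exact ih _ (hrel H hNH hH) (N.subgroupOf H) rfl h1 Q' h2
    by_cases hcase : ∃ N₁ : Subgroup X, N₁.Normal ∧ N ≤ N₁ ∧ N₁ ≠ N ∧ N₁ ≠ ⊤
    · -- Case 1
      obtain ⟨N₁, hN₁, hle, hne, hne'⟩ := hcase
      haveI := hN₁
      obtain ⟨h1, h2⟩ := hyp_of_le N hidx Q hsup N₁ hle
      have hlt : N₁.index < k := by
        have h3 : N.relIndex N₁ * N₁.index = N.index := Subgroup.relIndex_mul_index hle
        have h4 : N.relIndex N₁ ≠ 1 := by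
          intro h
          apply hne
          apply le_antisymm _ hle
          exact Subgroup.relIndex_eq_one.mp h
        have h5 : N.relIndex N₁ ≠ 0 := fun h => hidx0 (by rw [← h3, h, zero_mul])
        have h6 : N₁.index ≠ 0 := Subgroup.index_ne_zero_of_finite
        rw [← hk, ← h3]
        have : 2 ≤ N.relIndex N₁ := by omega
        nlinarith [Nat.pos_of_ne_zero h6]
      exact stmt_compose N N₁ hle (ih _ hlt N₁ rfl h1 Q h2) (hsub N₁ hle hne')
    · -- Cases 2 and 3: the quotient is simple
      have hmax : ∀ N₁ : Subgroup X, N₁.Normal → N ≤ N₁ → N₁ = N ∨ N₁ = ⊤ := by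
        intro N₁ hN₁ hle
        by_contra hcon
        push Not at hcon
        exact hcase ⟨N₁, hN₁, hle, hcon.1, hcon.2⟩
      haveI : IsSimpleGroup (X ⧸ N) := isSimpleGroup_quot N hN hmax
      by_cases hprime : (N.index).Prime
      · exact hA N hidx Q hsup hprime
      · apply hB N hidx Q hsup
        intro H hNH hsolv
        apply hsub H hNH
        intro hH
        haveI := isSolvable_quot_of_top N H hH hsolv
        exact hprime (prime_index_of_simple_solvable N)

end induction

end Cfsg.Agent.Lib.Helper8.AD
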