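import Mathlib
import Cfsg.Prelude.Def_Blocks
import Cfsg.Agent.Lib.helper3.LocalM

/-!
# Alperin–Dade (S4551), Step (B6): membership in the principal block is local over a normal
subgroup of index prime to `p`.
-/

set_option autoImplicit false
set_option linter.style.haveILetI false
set_option linter.unusedSectionVars false
set_option linter.unusedVariables false

namespace Cfsg.Agent.Lib.Helper8.AD

open Cfsg Cfsg.Agent.Lib.helper3.LocalM

universe u

section local_

variable {X : Type u} [Group X] [Finite X] {p : ℕ} [Fact p.Prime] {M : Ideal AlgInt}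

/-- Cancel a natural number prime to `p` from a member of the local ideal. -/
theorem memLocalIdeal_of_natCast_mul (hM : IsPModular p M) (d : ℕ) (hd : ¬ p ∣ d) (z : ℂ)
    (h : MemLocalIdeal M ((d : ℂ) * z)) : MemLocalIdeal M z := by
  haveI := isPrime_of_isPModular hM
  obtain ⟨a, b, ha, hb, hab⟩ := h
  have hdM : (d : AlgInt) ∉ M := fun hh => hd ((natCast_mem_iff hM d).mp hh)
  have hd0 : (d : ℂ) ≠ 0 := by
    intro h0
    apply hd
    have : d = 0 := by exact_mod_cast h0
    rw [this]
    exact dvd_zero p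
  refine ⟨a, b * (d : AlgInt), ha, ?_, ?_⟩
  · intro hh
    rcases (isPrime_of_isPModular hM).mem_or_mem hh with h1 | h1
    · exact hb h1
    · exact hdM h1
  · have hb0 := coe_ne_zero_of_notMem hb
    push_cast
    rw [div_mul_eq_div_div, hab]
    field_simp

/-- The centralizer of `⟨g, _⟩` in `↥H` is the centralizer of `g` intersected with `H`. -/
theorem centralizer_subtype_eq (H : Subgroup X) (g : X) (hg : g ∈ H) :
    Subgroup.centralizer ({(⟨g, hg⟩ : ↥H)} : Set ↥H)
      = (Subgroup.centralizer ({g} : Set X)).subgroupOf H := by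
  ext h
  rw [Subgroup.mem_subgroupOf, Subgroup.mem_centralizer_singleton_iff,
    Subgroup.mem_centralizer_singleton_iff]
  constructor
  · intro hh
    have := congrArg Subtype.val hh
    simpa using this
  · intro hh
    apply Subtype.ext
    simpa using hh

/-- The class-size identity `|C : C ∩ H| · |X : C| = |H : C ∩ H| · |X : H|`. -/
theorem relIndex_mul_index_eq (H C : Subgroup X) :
    H.relIndex C * C.index = C.relIndex H * H.index := by
  have h1 : (C ⊓ H).relIndex C * C.index = (C ⊓ H).index :=
    Subgroup.relIndex_mul_index inf_le_left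
  have h2 : (C ⊓ H).relIndex H * H.index = (C ⊓ H).index :=
    Subgroup.relIndex_mul_index inf_le_right
  rw [Subgroup.inf_relIndex_left] at h1
  rw [Subgroup.inf_relIndex_right] at h2
  rw [h1, h2]

/-- **(B6)**, function form: if at every element `f` agrees with a member of the principal
block of some subgroup containing `N` (and the element), then `f` is in the same block as the
trivial character. -/
theorem sameBlock_of_local (hM : IsPModular p M) (N : Subgroup X) [N.Normal]
    (hidx : ¬ p ∣ N.index) (f : X → ℂ)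
    (h : ∀ g : X, ∃ (H : Subgroup X) (hg : g ∈ H) (ψ : IrrCharacter ↥H), N ≤ H ∧
      ψ ∈ principalBlock M ↥H ∧ (ψ : ↥H → ℂ) ⟨g, hg⟩ = f g ∧
      (ψ : ↥H → ℂ) 1 = f 1) :
    SameBlock M (fun _ : X => (1 : ℂ)) f := by
  haveI := isPrime_of_isPModular hM
  intro g
  obtain ⟨H, hg, ψ, hNH, hψ, hψg, hψ1⟩ := h g
  have hloc := hψ ⟨g, hg⟩
  unfold centralChar at hloc ⊢
  rw [centralizer_subtype_eq H g hg, hψg, hψ1] at hloc
  set C := Subgroup.centralizer ({g} : Set X) with hC
  have hidC : (C.subgroupOf H).index = C.relIndex H := rfl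
  rw [hidC] at hloc
  have hnat := relIndex_mul_index_eq H C
  have hd : ¬ p ∣ H.relIndex C := by
    intro hdvd
    apply hidx
    have h1 : H.relIndex C ∣ N.relIndex C := Subgroup.relIndex_dvd_of_le_left C hNH
    have h2 : N.relIndex C ∣ N.index := Subgroup.relIndex_dvd_index_of_normal N C
    exact hdvd.trans (h1.trans h2)
  apply memLocalIdeal_of_natCast_mul hM (H.relIndex C) hd
  have hcast : ((H.relIndex C : ℕ) : ℂ) * (C.index : ℂ) = (C.relIndex H : ℂ) * (H.index : ℂ) := by
    exact_mod_cast hnat
  have heq : ((H.relIndex C : ℕ) : ℂ) *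
      ((C.index : ℂ) * (1 : ℂ) / 1 - (C.index : ℂ) * f g / f 1)
      = (H.index : ℂ) * ((C.relIndex H : ℂ) * (1 : ℂ) / 1
        - (C.relIndex H : ℂ) * f g / f 1) := by
    have e1 : ((H.relIndex C : ℕ) : ℂ) *
      ((C.index : ℂ) * (1 : ℂ) / 1 - (C.index : ℂ) * f g / f 1)
        = (((H.relIndex C : ℕ) : ℂ) * (C.index : ℂ)) *
          (1 - f g / f 1) := by ring
    rw [e1, hcast]
    ring
  rw [heq]
  have hint : IsIntegral ℤ ((H.index : ℕ) : ℂ) := by
    have := isIntegral_algebraMap (R := ℤ) (A := ℂ) (x := ((H.index : ℕ) : ℤ))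
    simpa using this
  exact memLocalIdeal_mul_integral hloc hint

/-- **(B6)** If at every element `χ` agrees with a member of the principal block of some
subgroup containing `N` (and the element), then `χ` lies in the principal block. -/
theorem mem_principalBlock_of_local (hM : IsPModular p M) (N : Subgroup X) [N.Normal]
    (hidx : ¬ p ∣ N.index) (χ : IrrCharacter X)
    (h : ∀ g : X, ∃ (H : Subgroup X) (hg : g ∈ H) (ψ : IrrCharacter ↥H), N ≤ H ∧
      ψ ∈ principalBlock M ↥H ∧ (ψ : ↥H → ℂ) ⟨g, hg⟩ = (χ : X → ℂ) g ∧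
      (ψ : ↥H → ℂ) 1 = (χ : X → ℂ) 1) :
    χ ∈ principalBlock M X :=
  sameBlock_of_local hM N hidx (χ : X → ℂ) h

end local_

end Cfsg.Agent.Lib.Helper8.AD
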