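import Mathlib
import Cfsg.Prelude.Def_Characters
import Cfsg.Agent.Lib.Helper4.AD1
import Cfsg.Agent.Lib.helper3.Irr12

/-!
# Alperin–Dade (S4551), Step (B5): the norm of the glued function `θ̂` is `1`.
-/

set_option autoImplicit false
set_option linter.style.haveILetI false
set_option linter.unusedSectionVars false
set_option linter.unusedVariables false

namespace Cfsg.Agent.Lib.Helper8.AD

open Cfsg
open scoped ComplexConjugate

section norm

variable {X : Type*} [Group X] [Fintype X]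

/-- If every coset sum of `F` over `N` equals `|N|` then the total sum is `|X|`. -/
theorem sum_eq_card_of_coset_sum (N : Subgroup X) (F : X → ℂ)
    (h : ∀ g : X, ∑ᶠ n : N, F (g * n) = (Nat.card N : ℂ)) :
    ∑ x : X, F x = (Nat.card X : ℂ) := by
  classical
  haveI : Fintype N := Fintype.ofFinite N
  have hN0 : (Nat.card N : ℂ) ≠ 0 := by
    have : Nat.card N ≠ 0 := Nat.card_pos.ne'
    exact_mod_cast this
  have h1 : ∀ n : N, ∑ x : X, F (x * n) = ∑ x : X, F x := by
    intro n
    exact Fintype.sum_equiv (Equiv.mulRight (n : X)) _ _ (fun _ => rfl)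
  have h2 : ∑ n : N, ∑ x : X, F (x * n) = (Nat.card N : ℂ) * ∑ x : X, F x := by
    rw [Finset.sum_congr rfl (fun n _ => h1 n), Finset.sum_const, Finset.card_univ,
      nsmul_eq_mul, Nat.card_eq_fintype_card]
  have h3 : ∑ n : N, ∑ x : X, F (x * n) = (Nat.card X : ℂ) * (Nat.card N : ℂ) := by
    rw [Finset.sum_comm]
    have : ∀ x : X, ∑ n : N, F (x * n) = (Nat.card N : ℂ) := by
      intro x
      rw [← h x, finsum_eq_sum_of_fintype]
    rw [Finset.sum_congr rfl (fun x _ => this x), Finset.sum_const, Finset.card_univ,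
      nsmul_eq_mul, Nat.card_eq_fintype_card, Nat.card_eq_fintype_card]
  have h4 : (Nat.card N : ℂ) * ∑ x : X, F x = (Nat.card N : ℂ) * (Nat.card X : ℂ) := by
    rw [← h2, h3, mul_comm]
  exact mul_left_cancel₀ hN0 h4

/-- **(B5)** A function which on every coset of `N` agrees with an irreducible character of
an intermediate subgroup restricting irreducibly to `N` has norm `1`. -/
theorem classInner_self_eq_one_of_coset (N : Subgroup X) [N.Normal] (f : X → ℂ)
    (h : ∀ g : X, ∃ (H : Subgroup X) (hNH : N ≤ H) (hg : g ∈ H) (ψ : ↥H → ℂ),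
      IsIrrCharacter ↥H ψ ∧ IsIrrCharacter ↥N (fun n : N => ψ ⟨n, hNH n.2⟩) ∧
      ∀ n : N, f (g * n) = ψ ⟨g * n, H.mul_mem hg (hNH n.2)⟩) :
    classInner f f = 1 := by
  classical
  have hX0 : (Nat.card X : ℂ) ≠ 0 := by
    have : Nat.card X ≠ 0 := Nat.card_pos.ne'
    exact_mod_cast this
  have key : ∑ x : X, f x * conj (f x) = (Nat.card X : ℂ) := by
    apply sum_eq_card_of_coset_sum N
    intro g
    obtain ⟨H, hNH, hg, ψ, hψ, hψN, hf⟩ := h g
    haveI : Fintype ↥H := Fintype.ofFinite _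
    haveI : Fintype ↥(N.subgroupOf H) := Fintype.ofFinite _
    haveI : Fintype N := Fintype.ofFinite N
    let e : ↥(N.subgroupOf H) ≃* ↥N := Subgroup.subgroupOfEquivOfLe hNH
    have hirr : IsIrrCharacter ↥(N.subgroupOf H) (fun k : ↥(N.subgroupOf H) => ψ k) := by
      have := Cfsg.Agent.Lib.helper3.Irr.isIrrCharacter_comp_mulEquiv e hψN
      exact this
    have hc := Cfsg.Agent.Lib.Helper4.AD.coset_norm (N.subgroupOf H) ψ hψ hirr ⟨g, hg⟩
    rw [finsum_eq_sum_of_fintype]
    have hsum : ∑ n : N, f (g * n) * conj (f (g * n))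
        = ∑ k : ↥(N.subgroupOf H), ψ (⟨g, hg⟩ * k) * conj (ψ (⟨g, hg⟩ * k)) := by
      symm
      refine Fintype.sum_equiv e.toEquiv _ _ ?_
      intro k
      have : f (g * ((e k : N) : X)) = ψ (⟨g, hg⟩ * k) := by
        rw [hf (e k)]
        rfl
      show ψ (⟨g, hg⟩ * k) * conj (ψ (⟨g, hg⟩ * k))
        = f (g * ((e k : N) : X)) * conj (f (g * ((e k : N) : X)))
      rw [this]
    rw [hsum, hc, Nat.card_congr e.toEquiv]
  rw [Cfsg.Agent.Lib.helper3.IndFun.classInner_apply, key, inv_mul_cancel₀ hX0]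

end norm

end Cfsg.Agent.Lib.Helper8.AD
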