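import Mathlib
import Cfsg.Agent.Lib.Helper8.AD3
import Cfsg.Agent.Lib.Helper8.AD4
import Cfsg.Agent.Lib.Helper8.AD5
import Cfsg.Agent.Lib.helper3.ADB0

/-!
# Alperin–Dade (S4551), Step B glue: `extU_of_stmt` (C0), `key_norm` (B5), `key_sameBlock` (B6).
-/

set_option autoImplicit false
set_option linter.style.haveILetI false
set_option linter.unusedSectionVars false
set_option linter.unusedVariables false

namespace Cfsg.Agent.Lib.Helper8.AD

open Cfsg Cfsg.Agent.Lib.helper3.ADB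
open scoped ComplexConjugate

universe u

section glue

variable {X : Type u} [Group X] [Finite X] {p : ℕ} [Fact p.Prime] {M : Ideal AlgInt}

/-- **(C0)** The statement for the pair `(↥H, N.subgroupOf H)` gives unique extension from `N`
to `H`. -/
theorem extU_of_stmt (N H : Subgroup X) [N.Normal] (hNH : N ≤ H)
    (h : Stmt M ↥H (N.subgroupOf H)) : ExtU M N H hNH := by
  let e : ↥(N.subgroupOf H) ≃* ↥N := Subgroup.subgroupOfEquivOfLe hNH
  have he : ∀ k : ↥(N.subgroupOf H), ((e k : N) : X) = ((k : H) : X) := fun k => rfl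
  intro θ hθ
  obtain ⟨θ₂, hθ₂a, hθ₂b⟩ := exists_irr_comp (M := M) e θ
  obtain ⟨ψ, ⟨hψ, hψ'⟩, hψu⟩ := h.2 θ₂ (hθ₂b hθ)
  refine ⟨ψ, ⟨hψ, fun n => ?_⟩, ?_⟩
  · have h1 := hψ' (e.symm n)
    have h2 := hθ₂a (e.symm n)
    rw [MulEquiv.apply_symm_apply] at h2
    rw [← h2, ← h1]
    congr 1
  · rintro ψ' ⟨hψ'1, hψ'2⟩
    apply hψu
    refine ⟨hψ'1, fun k => ?_⟩
    rw [hθ₂a, ← hψ'2 (e k)]
    congr 1

/-- Irreducibility of the restriction to `N` of the extension (in the `ExtU` shape). -/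
theorem isIrrCharacter_restrict_of_eq (N H : Subgroup X) (hNH : N ≤ H) (ψ : IrrCharacter ↥H)
    (θ : IrrCharacter ↥N) (hres : ∀ n : N, (ψ : ↥H → ℂ) ⟨n, hNH n.2⟩ = (θ : ↥N → ℂ) n) :
    IsIrrCharacter ↥N (fun n : N => (ψ : ↥H → ℂ) ⟨n, hNH n.2⟩) := by
  have : (fun n : N => (ψ : ↥H → ℂ) ⟨n, hNH n.2⟩) = (θ : ↥N → ℂ) := funext hres
  rw [this]
  exact θ.2

/-- the subgroup `N ⊔ zpowers g` is solvable over `N`. -/
theorem isSolvable_quot_sup_zpowers (N : Subgroup X) [N.Normal] (g : X) :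
    Group.IsSolvable (↥(N ⊔ Subgroup.zpowers g) ⧸ N.subgroupOf (N ⊔ Subgroup.zpowers g)) :=
  isSolvable_quot_sup N (Subgroup.zpowers g)

theorem mem_sup_zpowers (N : Subgroup X) (g : X) : g ∈ N ⊔ Subgroup.zpowers g :=
  (le_sup_right : Subgroup.zpowers g ≤ N ⊔ Subgroup.zpowers g) (Subgroup.mem_zpowers g)

/-- **(B5)** in the `Key` shape. -/
theorem key_norm (N : Subgroup X) [N.Normal]
    (hext : ∀ (H : Subgroup X) (hNH : N ≤ H), Group.IsSolvable (↥H ⧸ N.subgroupOf H) →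
      ExtU M N H hNH)
    (θ : IrrCharacter ↥N) (hθ : θ ∈ principalBlock M ↥N) (f : X → ℂ) (hf : Key M N θ f) :
    ∑ᶠ g : X, f g * (starRingEnd ℂ) (f g) = (Nat.card X : ℂ) := by
  classical
  letI : Fintype X := Fintype.ofFinite X
  have hX0 : (Nat.card X : ℂ) ≠ 0 := by
    have : Nat.card X ≠ 0 := Nat.card_pos.ne'
    exact_mod_cast this
  have h1 : classInner f f = 1 := by
    apply classInner_self_eq_one_of_coset N f
    intro g
    have hNH : N ≤ N ⊔ Subgroup.zpowers g := le_sup_left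
    obtain ⟨ψ, ⟨hψ, hψ'⟩, -⟩ := hext _ hNH (isSolvable_quot_sup_zpowers N g) θ hθ
    refine ⟨N ⊔ Subgroup.zpowers g, hNH, mem_sup_zpowers N g, (ψ : _ → ℂ), ψ.2,
      isIrrCharacter_restrict_of_eq N _ hNH ψ θ hψ', fun n => ?_⟩
    exact hf _ hNH (isSolvable_quot_sup_zpowers N g) ψ hψ hψ'
      ⟨g * n, Subgroup.mul_mem _ (mem_sup_zpowers N g) (hNH n.2)⟩
  rw [Cfsg.Agent.Lib.helper3.IndFun.classInner_apply] at h1
  rw [finsum_eq_sum_of_fintype]
  have h2 := congrArg (fun z => (Nat.card X : ℂ) * z) h1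
  simp only [mul_one] at h2
  rw [← mul_assoc, mul_inv_cancel₀ hX0, one_mul] at h2
  exact h2

/-- **(B6)** in the `Key` shape. -/
theorem key_sameBlock (hM : IsPModular p M) (N : Subgroup X) [N.Normal]
    (hidx : ¬ p ∣ N.index)
    (hext : ∀ (H : Subgroup X) (hNH : N ≤ H), Group.IsSolvable (↥H ⧸ N.subgroupOf H) →
      ExtU M N H hNH)
    (θ : IrrCharacter ↥N) (hθ : θ ∈ principalBlock M ↥N) (f : X → ℂ) (hf : Key M N θ f) :
    SameBlock M (fun _ : X => (1 : ℂ)) f := by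
  apply sameBlock_of_local hM N hidx f
  intro g
  have hNH : N ≤ N ⊔ Subgroup.zpowers g := le_sup_left
  obtain ⟨ψ, ⟨hψ, hψ'⟩, -⟩ := hext _ hNH (isSolvable_quot_sup_zpowers N g) θ hθ
  have hk := hf _ hNH (isSolvable_quot_sup_zpowers N g) ψ hψ hψ'
  refine ⟨N ⊔ Subgroup.zpowers g, mem_sup_zpowers N g, ψ, hNH, hψ, ?_, ?_⟩
  · exact (hk ⟨g, mem_sup_zpowers N g⟩).symm
  · exact (hk 1).symm

end glue

end Cfsg.Agent.Lib.Helper8.AD
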