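import Mathlib
import Cfsg.Prelude.Def_Characters
import Cfsg.Agent.Lib.helper3.BrauerInd5
import Cfsg.Agent.Lib.helper3.Gallagher
import Cfsg.Agent.Lib.helper3.TransferChar
import Cfsg.Agent.Lib.helper3.Irr9

/-!
# Alperin–Dade (S4551), Step (B4): Brauer's characterization of characters, in the form
"a class function of norm one and positive degree whose restrictions to elementary subgroups are
characters is an irreducible character".
-/

set_option autoImplicit false
set_option linter.style.haveILetI false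
set_option linter.unusedSectionVars false
set_option linter.unusedVariables false

namespace Cfsg.Agent.Lib.Helper8.AD

open Cfsg Cfsg.Agent.Lib.helper3.Irr Cfsg.Agent.Lib.helper3.IndFun
open scoped ComplexConjugate

section zirr

variable {X : Type*} [Group X] [Fintype X]

/-- `f` is a `ℤ`-combination of irreducible characters. -/
def IsZIrr (f : X → ℂ) : Prop :=
  ∃ m : IrrCharacter X → ℤ, f = ∑ χ : IrrCharacter X, (m χ : ℂ) • (χ : X → ℂ)

theorem isZIrr_zero : IsZIrr (0 : X → ℂ) := ⟨fun _ => 0, by simp⟩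

theorem isZIrr_add {f g : X → ℂ} (hf : IsZIrr f) (hg : IsZIrr g) : IsZIrr (f + g) := by
  obtain ⟨m, rfl⟩ := hf
  obtain ⟨m', rfl⟩ := hg
  refine ⟨fun χ => m χ + m' χ, ?_⟩
  rw [← Finset.sum_add_distrib]
  apply Finset.sum_congr rfl
  intro χ _
  push_cast
  rw [add_smul]

theorem isZIrr_zsmul {f : X → ℂ} (a : ℤ) (hf : IsZIrr f) : IsZIrr ((a : ℂ) • f) := by
  obtain ⟨m, rfl⟩ := hf
  refine ⟨fun χ => a * m χ, ?_⟩
  rw [Finset.smul_sum]
  apply Finset.sum_congr rfl
  intro χ _
  push_cast
  rw [smul_smul]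

theorem isZIrr_of_isCharacter {f : X → ℂ} (hf : IsCharacter X f) : IsZIrr f := by
  obtain ⟨m, h⟩ := exists_decomposition_of_isCharacter hf
  refine ⟨fun χ => (m χ : ℤ), ?_⟩
  rw [h]
  apply Finset.sum_congr rfl
  intro χ _
  push_cast
  rfl

/-- Projection formula for a Brauer list. -/
theorem list_sum_mul (l : List ((E : Subgroup X) × ((E →* ℂˣ) × ℤ))) (f : X → ℂ)
    (hf : IsClassFunction X f) :
    (l.map fun t => (t.2.2 : ℂ) • indFun t.1 (fun e => ((t.2.1 e : ℂˣ) : ℂ))).sum * f
      = (l.map fun t => (t.2.2 : ℂ) •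
          indFun t.1 ((fun e => ((t.2.1 e : ℂˣ) : ℂ)) * fun e : t.1 => f e)).sum := by
  induction l with
  | nil => simp
  | cons a l ih =>
    rw [List.map_cons, List.sum_cons, List.map_cons, List.sum_cons, add_mul, ih]
    congr 1
    rw [Cfsg.Agent.Lib.helper3.Irr.indFun_mul_restrict a.1 _ f hf, smul_mul_assoc]

/-- **Brauer's characterization**: a class function whose restriction to every elementary
subgroup is a character is a `ℤ`-combination of irreducible characters. -/
theorem isZIrr_of_elementary (f : X → ℂ) (hf : IsClassFunction X f)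
    (helem : ∀ (q : ℕ) (E : Subgroup X), q.Prime → IsElementary q ↥E →
      IsCharacter ↥E (fun e : E => f e)) : IsZIrr f := by
  obtain ⟨l, hl, h1⟩ := Cfsg.Agent.Lib.helper3.BrauerInd.LSpan.exists_list
    (Cfsg.Agent.Lib.helper3.BrauerInd.brauer_induction (fun _ : X => (1 : ℂ)) isCharacter_one)
  have hff : f = (fun _ : X => (1 : ℂ)) * f := by
    funext x
    simp
  rw [hff, h1, list_sum_mul l f hf]
  clear h1 hff
  induction l with
  | nil => simpa using isZIrr_zero
  | cons a l ih =>
    rw [List.map_cons, List.sum_cons]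
    apply isZIrr_add
    · apply isZIrr_zsmul
      apply isZIrr_of_isCharacter
      apply isCharacter_indFun
      obtain ⟨q, hq, hE⟩ := hl a List.mem_cons_self
      exact isCharacter_mul (Cfsg.Agent.Lib.helper3.Lin.isCharacter_of_hom a.2.1) (helem q a.1 hq hE)
    · apply ih
      intro t ht
      exact hl t (List.mem_cons_of_mem _ ht)

/-- A `ℤ`-combination of irreducible characters of norm one and positive degree is an
irreducible character. -/
theorem exists_irr_of_isZIrr (f : X → ℂ) (hZ : IsZIrr f) (hnorm : classInner f f = 1)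
    (h1 : ∃ d : ℕ, 0 < d ∧ f 1 = d) : ∃ χ : IrrCharacter X, ∀ g, (χ : X → ℂ) g = f g := by
  classical
  obtain ⟨m, rfl⟩ := hZ
  rw [classInner_decomposition] at hnorm
  have hsum : ∑ χ : IrrCharacter X, (m χ) ^ 2 = 1 := by
    have : ((∑ χ : IrrCharacter X, (m χ) ^ 2 : ℤ) : ℂ) = 1 := by
      rw [← hnorm]
      push_cast
      apply Finset.sum_congr rfl
      intro χ _
      rw [map_intCast, sq]
    exact_mod_cast this
  obtain ⟨χ₀, hχ₀⟩ : ∃ χ₀, m χ₀ ≠ 0 := by
    by_contra h
    push Not at h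
    simp [h] at hsum
  have hsplit := Finset.add_sum_erase Finset.univ (fun χ => (m χ) ^ 2) (Finset.mem_univ χ₀)
  have h1le : 1 ≤ (m χ₀) ^ 2 := by
    have : 0 < (m χ₀) ^ 2 := by positivity
    omega
  have hrest : 0 ≤ ∑ χ ∈ Finset.univ.erase χ₀, (m χ) ^ 2 :=
    Finset.sum_nonneg (fun χ _ => sq_nonneg _)
  have hsq : (m χ₀) ^ 2 = 1 := by
    omega
  have hrest0 : ∑ χ ∈ Finset.univ.erase χ₀, (m χ) ^ 2 = 0 := by
    omega
  have hzero : ∀ χ, χ ≠ χ₀ → m χ = 0 := by
    intro χ hχ
    have := (Finset.sum_eq_zero_iff_of_nonneg (fun χ _ => sq_nonneg (m χ))).mp hrest0 χ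
      (Finset.mem_erase.mpr ⟨hχ, Finset.mem_univ χ⟩)
    exact pow_eq_zero_iff (two_ne_zero) |>.mp this
  have hf : (∑ χ : IrrCharacter X, (m χ : ℂ) • (χ : X → ℂ)) = (m χ₀ : ℂ) • (χ₀ : X → ℂ) := by
    apply Finset.sum_eq_single χ₀
    · intro b _ hb
      rw [hzero b hb]
      simp
    · intro h
      exact absurd (Finset.mem_univ _) h
  obtain ⟨d, hd, hfd⟩ := h1
  obtain ⟨n, hn, hχn⟩ := exists_pos_nat_apply_one χ₀.2
  rw [hf] at hfd ⊢
  have hm : m χ₀ = 1 ∨ m χ₀ = -1 := by
    have : (m χ₀ - 1) * (m χ₀ + 1) = 0 := by ring_nf; omega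
    rcases mul_eq_zero.mp this with h | h
    · left; omega
    · right; omega
  rcases hm with hm | hm
  · refine ⟨χ₀, fun g => ?_⟩
    rw [hm]
    simp
  · exfalso
    rw [hm, Pi.smul_apply, hχn] at hfd
    have : ((-1 : ℤ) : ℂ) • (n : ℂ) = ((-(n : ℤ) : ℤ) : ℂ) := by
      push_cast
      simp
    rw [this] at hfd
    have h2 : (-(n : ℤ) : ℤ) = (d : ℤ) := by exact_mod_cast hfd
    omega

end zirr

section final

variable {X : Type*} [Group X] [Finite X]

/-- **(B4)** in the shape used for Step B. -/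
theorem exists_irr_of_elementary (f : X → ℂ) (hconj : ∀ y g : X, f (y * g * y⁻¹) = f g)
    (helem : ∀ (q : ℕ) (E : Subgroup X), q.Prime → IsElementary q ↥E →
      IsCharacter ↥E (fun e : E => f e))
    (hnorm : ∑ᶠ g : X, f g * (starRingEnd ℂ) (f g) = (Nat.card X : ℂ))
    (h1 : ∃ d : ℕ, 0 < d ∧ f 1 = d) : ∃ χ : IrrCharacter X, ∀ g, (χ : X → ℂ) g = f g := by
  classical
  letI : Fintype X := Fintype.ofFinite X
  have hX0 : (Nat.card X : ℂ) ≠ 0 := by
    have : Nat.card X ≠ 0 := Nat.card_pos.ne'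
    exact_mod_cast this
  have hcf : IsClassFunction X f := fun g h => hconj h g
  have hn : classInner f f = 1 := by
    rw [classInner_apply, ← finsum_eq_sum_of_fintype, hnorm, inv_mul_cancel₀ hX0]
  exact exists_irr_of_isZIrr f (isZIrr_of_elementary f hcf helem) hn h1

/-- Elementary groups are solvable. -/
theorem isSolvable_of_isElementary (q : ℕ) (E : Type*) [Group E] [Finite E] (hq : q.Prime)
    (h : IsElementary q E) : Group.IsSolvable E := by
  haveI : Fact q.Prime := ⟨hq⟩
  haveI := Cfsg.Agent.Lib.helper3.BrauerInd.isNilpotent_of_isElementary h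
  infer_instance

end final

end Cfsg.Agent.Lib.Helper8.AD
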