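import Mathlib
import Cfsg.Agent.Lib.Helper8.BGTw4C
import Cfsg.Agent.H2.BG12.C

/-!
# The row S1429 of the Bender–Glauberman local analysis, conditional on the statement of S1417
-/

set_option autoImplicit false
set_option linter.unusedVariables false
set_option linter.unusedSectionVars false
set_option linter.style.haveILetI false
set_option maxHeartbeats 1000000

namespace Cfsg.Agent.Lib.Helper8.BGTen

open Cfsg Cfsg.Agent.Lib.Helper7

universe u

variable {G : Type u} [Group G] [Finite G]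

/-- in a commutative subgroup `S`, the elements of order dividing `p` generate a subgroup of
exponent `p` inside `S` -/
theorem closure_omega_le {S : Subgroup G} (hS : ∀ a ∈ S, ∀ b ∈ S, a * b = b * a) (p : ℕ) :
    ∀ y ∈ Subgroup.closure {x : G | x ∈ S ∧ x ^ p = 1}, y ∈ S ∧ y ^ p = 1 := by
  intro y hy
  induction hy using Subgroup.closure_induction with
  | mem x hx => exact hx
  | one => exact ⟨S.one_mem, one_pow p⟩
  | mul x y hx hy ihx ihy =>
    refine ⟨S.mul_mem ihx.1 ihy.1, ?_⟩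
    have hc : Commute x y := hS x ihx.1 y ihy.1
    rw [hc.mul_pow, ihx.2, ihy.2, one_mul]
  | inv x hx ih =>
    refine ⟨S.inv_mem ih.1, ?_⟩
    rw [inv_pow, ih.2, inv_one]

/-- the row **S1429**, conditional on the statement of S1417 -/
theorem s1429 (hG : Cfsg.IsMinSimpleOddOrder G) (h17 : Cfsg.Agent.H2.BG12.St1417 G)
    (M : Subgroup G) (hM : IsCoatom M)
    (p : ℕ) [hpf : Fact p.Prime] (hpM : p ∣ Nat.card M) (hp : p ∉ Cfsg.sigma M ∪ Cfsg.kappa M)
    (S : Sylow p M) :
    Nat.card ↥(Subgroup.closure {x : G | x ∈ (S : Subgroup M).map M.subtype ∧ x ^ p = 1}) ≤ p ^ 2 ∧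
      Cfsg.sigmaCore M ⊓ Subgroup.centralizer ((Subgroup.closure
        {x : G | x ∈ (S : Subgroup M).map M.subtype ∧ x ^ p = 1} : Subgroup G) : Set G) = ⊥ ∧
      Group.IsNilpotent (Cfsg.sigmaCore M) := by
  have hU := uniq hG
  have hpp := hpf.out
  have hpσ : p ∉ Cfsg.sigma M := fun h => hp (Or.inl h)
  have hpκ : p ∉ Cfsg.kappa M := fun h => hp (Or.inr h)
  have hr2 : Cfsg.PRankLE p 2 ↥M :=
    pRankLE_of_not_mem_alpha hpp (fun h => hpσ (alpha_subset_sigma hG hU hM h))
  have hSg : IsSylowIn p ((S : Subgroup M).map M.subtype) M := IsSylowIn.of_sylow S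
  set Sg : Subgroup G := (S : Subgroup M).map M.subtype with hSgdef
  by_cases h1 : Cfsg.PRankLE p 1 ↥M
  · -- rank one
    have hSgc : IsCyclic ↥Sg :=
      Cfsg.Agent.Lib.Helper4.BGTw.isCyclic_of_pRankLE_one hG h1 hSg.1 hSg.isPGroup
    have hcomm : ∀ a ∈ Sg, ∀ b ∈ Sg, a * b = b * a := by
      intro a ha b hb
      obtain ⟨g, hg⟩ := hSgc.exists_generator
      obtain ⟨i, hi⟩ := Subgroup.mem_zpowers_iff.mp (hg ⟨a, ha⟩)
      obtain ⟨j, hj⟩ := Subgroup.mem_zpowers_iff.mp (hg ⟨b, hb⟩)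
      have hi' : (g : G) ^ i = a := by
        have := congrArg Subtype.val hi
        simpa using this
      have hj' : (g : G) ^ j = b := by
        have := congrArg Subtype.val hj
        simpa using this
      rw [← hi', ← hj', ← zpow_add, ← zpow_add, add_comm]
    have hΩ := closure_omega_le hcomm p
    set A : Subgroup G := Subgroup.closure {x : G | x ∈ Sg ∧ x ^ p = 1} with hA
    have hAS : A ≤ Sg := fun y hy => (hΩ y hy).1
    have hAM : A ≤ M := hAS.trans hSg.1
    -- the order of `A`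
    have hcard : Nat.card ↥A ≤ p ^ 2 := by
      have hc : IsMulCommutative ↥(A.subgroupOf M) :=
        ⟨⟨fun a b => by
          apply Subtype.ext
          apply Subtype.ext
          exact hcomm _ (hAS a.2) _ (hAS b.2)⟩⟩
      have h2 := h1 (A.subgroupOf M) hc (by
        intro a ha
        apply Subtype.ext
        rw [Subgroup.coe_pow, Subgroup.coe_one]
        exact (hΩ a.1 ha).2)
      rw [card_subgroupOf_of_le hAM, pow_one] at h2
      have := hpp.one_lt
      nlinarith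
    -- the fixed-point-free action
    have hk : ¬ ∀ P : Sylow p M, IsCyclic P ∧
        ∃ x : M, x ∈ (P : Subgroup M) ∧ x ≠ 1 ∧ ∃ y ∈ Cfsg.sigmaCore M, y ≠ 1 ∧
          (x : G) * y = y * x := fun h => hpκ ⟨hpp, hpM, hpσ, h⟩
    push Not at hk
    obtain ⟨P₀, hP₀⟩ := hk
    have hP₀s : IsSylowIn p ((P₀ : Subgroup M).map M.subtype) M := IsSylowIn.of_sylow P₀
    have hP₀c : IsCyclic ↥(P₀ : Subgroup M) := by
      have hc' : IsCyclic ↥((P₀ : Subgroup M).map M.subtype) :=
        Cfsg.Agent.Lib.Helper4.BGTw.isCyclic_of_pRankLE_one hG h1 hP₀s.1 hP₀s.isPGroup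
      let e := (P₀ : Subgroup M).equivMapOfInjective M.subtype M.subtype_injective
      exact isCyclic_of_surjective e.symm e.symm.surjective
    have hfpf0 := hP₀ hP₀c
    obtain ⟨m, hm, hmS⟩ := hP₀s.conj hSg
    have hmS' : Sg = cj m ((P₀ : Subgroup M).map M.subtype) := hmS
    have hσn := Cfsg.Agent.H2.BG11.le_normalizer_sigmaCore M
    have hfpf : ∀ x ∈ Sg, x ≠ 1 → ∀ y ∈ Cfsg.sigmaCore M, y ≠ 1 → x * y ≠ y * x := by
      intro x hx hx1 y hy hy1 hxy
      rw [hmS', mem_cj] at hx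
      obtain ⟨x', hx'P, hx'⟩ := hx
      have hy' : m⁻¹ * y * m ∈ Cfsg.sigmaCore M := by
        have := (Subgroup.mem_normalizer_iff.mp (hσn (M.inv_mem hm)) y).mp hy
        simpa using this
      have hx'1 : x' ≠ 1 := by
        intro h
        rw [h] at hx'
        have h2 : m⁻¹ * x * m = 1 := by rw [← hx']; rfl
        apply hx1
        have : x = m * (m⁻¹ * x * m) * m⁻¹ := by group
        rw [this, h2]; group
      have hy'1 : m⁻¹ * y * m ≠ 1 := by
        intro h2
        apply hy1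
        have : y = m * (m⁻¹ * y * m) * m⁻¹ := by group
        rw [this, h2]; group
      apply hfpf0 x' hx'P hx'1 (m⁻¹ * y * m) hy' hy'1
      have hx'' : (x' : G) = m⁻¹ * x * m := hx'
      rw [hx'']
      calc m⁻¹ * x * m * (m⁻¹ * y * m) = m⁻¹ * (x * y) * m := by group
        _ = m⁻¹ * (y * x) * m := by rw [hxy]
        _ = m⁻¹ * y * m * (m⁻¹ * x * m) := by group
    -- an element of order `p` of `S`
    have hdvd : p ∣ Nat.card ↥Sg := by
      rw [hSg.2]
      apply dvd_pow_self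
      have hpos : 0 < (Nat.card ↥M).factorization p :=
        hpp.factorization_pos_of_dvd Nat.card_pos.ne' hpM
      exact hpos.ne'
    obtain ⟨a, ha⟩ := exists_prime_orderOf_dvd_card' p hdvd
    have hao : orderOf (a : G) = p := by rw [Subgroup.orderOf_coe]; exact ha
    have ha1 : (a : G) ≠ 1 := by
      intro h
      rw [h, orderOf_one] at hao
      exact hpp.one_lt.ne hao
    have hap : (a : G) ^ p = 1 := by rw [← hao]; exact pow_orderOf_eq_one _
    have haA : (a : G) ∈ A := Subgroup.subset_closure ⟨a.2, hap⟩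
    refine ⟨hcard, ?_, ?_⟩
    · rw [eq_bot_iff]
      intro y hy
      rw [Subgroup.mem_bot]
      by_contra hy1
      have h3 := (Subgroup.mem_centralizer_iff.mp hy.2) (a : G) haA
      exact hfpf (a : G) a.2 ha1 y hy.1 hy1 h3
    · apply Cfsg.Agent.H2.BG11.nilpotent_of_fpf_prime hpp hao (hσn (hSg.1 a.2))
      intro x hx hax
      by_contra hx1
      apply hfpf (a : G) a.2 ha1 x hx hx1
      calc (a : G) * x = (a : G) * x * (a : G)⁻¹ * (a : G) := by group
        _ = x * (a : G) := by rw [hax]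
  · -- rank two
    have hτ : p ∈ Cfsg.tau2 M := ⟨hpp, hpσ, hr2, h1⟩
    obtain ⟨A₀, hA₀M, hA₀e, hA₀c⟩ := Cfsg.Agent.H2.BG12.exists_elem_sq h1
    obtain ⟨T, hT, hA₀T⟩ := exists_isSylowIn_ge (isPGroup_of_elem hA₀e) hA₀M
    obtain ⟨m, hm, hmT⟩ := hT.conj hSg
    have hmT' : Sg = cj m T := hmT
    have hA₁S : cj m A₀ ≤ Sg := by rw [hmT']; exact cj_mono m hA₀T
    have hA₁M : cj m A₀ ≤ M := hA₁S.trans hSg.1
    have hA₁e := Cfsg.Agent.H2.BG12.isElementaryAbelian_cj hA₀e m
    have hA₁c : Nat.card ↥(cj m A₀) = p ^ 2 := by rw [card_cj]; exact hA₀c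
    obtain ⟨hnil, hb, -, hd, -, -⟩ := h17 M hM p hτ (cj m A₀) ⟨hA₁M, hA₁e, hA₁c⟩
    obtain ⟨-, hb2⟩ := hb S
    obtain ⟨hΩ, -⟩ := hb2 hA₁S
    have hset : {x : G | x ∈ Sg ∧ x ^ p = 1} = ((cj m A₀ : Subgroup G) : Set G) := by
      ext x
      constructor
      · rintro ⟨hx1, hx2⟩
        exact (hΩ x hx1).mp hx2
      · intro hx
        exact ⟨hA₁S hx, hA₁e.2 x hx⟩
    rw [hset, Subgroup.closure_eq]
    exact ⟨hA₁c.le, hd, hnil⟩

end Cfsg.Agent.Lib.Helper8.BGTen
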