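import Mathlib
import Cfsg.Agent.Lib.Helper8.BG14C3
import Cfsg.Agent.Lib.Helper4.BG14D

/-!
Bender–Glauberman §13, helper8 (block requested by helper7): the "normal `q`-complement" step of
Lemma B, Case I.

* `not_dvd_card_commutator_of_nc`: Burnside: a Sylow `q`-subgroup `P` of `H` with `N_H(P) ≤ C_H(P)`
  has `q ∤ |H'|`.
* `exists_tau1_of_inf`.
-/

set_option autoImplicit false
set_option linter.unusedSectionVars false
set_option linter.unusedVariables false
set_option linter.style.haveILetI false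
set_option maxHeartbeats 2000000
open Cfsg
open scoped commutatorElement Pointwise

namespace Cfsg.Agent.Lib.Helper8.BG14Q

open Cfsg.Agent.Lib.Helper7 (IsSylowIn exists_isSylowIn_ge card_subgroupOf_of_le)
open Cfsg.Agent.Lib.Helper8.BGTen

universe u

/-- **Burnside's transfer theorem**, in the form: if `N_H(P) ≤ C_H(P)` for a Sylow `q`-subgroup `P`
of `H`, then `q ∤ |H'|`. -/
theorem not_dvd_card_commutator_of_nc {H : Type*} [Group H] [Finite H] {q : ℕ} [Fact q.Prime]
    (P : Sylow q H)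
    (hP : Subgroup.normalizer ((P : Subgroup H) : Set H) ≤ Subgroup.centralizer (P : Set H)) :
    ¬ q ∣ Nat.card ↥(commutator H) := by
  have h1 := MonoidHom.not_dvd_card_ker_transferSylow P hP
  have h2 : commutator H ≤ (MonoidHom.transferSylow P hP).ker := by
    rw [commutator_eq_closure, Subgroup.closure_le]
    rintro x ⟨a, b, rfl⟩
    rw [SetLike.mem_coe, MonoidHom.mem_ker, map_commutatorElement,
      commutatorElement_eq_one_iff_commute]
    exact Subtype.ext
      (hP (Subgroup.le_normalizer ((MonoidHom.transferSylow P hP) b).2)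
        ((MonoidHom.transferSylow P hP) a) ((MonoidHom.transferSylow P hP) a).2)
  exact fun h => h1 (h.trans (Subgroup.card_dvd_of_le h2))

variable {G : Type u} [Group G] [Finite G]

/-- the "normal `q`-complement" step of Lemma B, Case I (helper7). -/
theorem exists_tau1_of_inf (hG : Cfsg.IsMinSimpleOddOrder G) {M N : Subgroup G} (hM : IsCoatom M)
    (hN : IsCoatom N) (hnc : ∀ g : G, cj g N ≠ M) {D E : Subgroup G} (hD1 : D ≠ ⊥)
    (hDM : D ≤ Cfsg.sigmaCore M) (hDN : D ≤ N) (hMsN : Cfsg.sigmaCore M ⊓ N ≤ D)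
    (hMN : M ⊓ N ≤ D ⊔ E) (hED : E ≤ Subgroup.centralizer (D : Set G))
    (hNY : ∀ Y : Subgroup G, Y ≤ D → Y ≠ ⊥ → Subgroup.normalizer (Y : Set G) ≤ M)
    (hrk : ∀ q : ℕ, q.Prime → q ∣ Nat.card ↥D → Cfsg.PRankLE q 1 ↥N) :
    ∃ (q : ℕ) (Y : Subgroup G), q ∈ Cfsg.tau1 N ∧ Y ≤ D ∧ Nat.card ↥Y = q := by
  classical
  have hDc : Nat.card ↥D ≠ 1 := fun h => hD1 (Subgroup.card_eq_one.mp h)
  obtain ⟨q, hq⟩ : ∃ q, q = (Nat.card ↥D).minFac := ⟨_, rfl⟩
  have hqp : q.Prime := hq ▸ Nat.minFac_prime hDc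
  haveI : Fact q.Prime := ⟨hqp⟩
  have hqD : q ∣ Nat.card ↥D := hq ▸ Nat.minFac_dvd _
  have hqMσ : q ∣ Nat.card ↥(Cfsg.sigmaCore M) := hqD.trans (Subgroup.card_dvd_of_le hDM)
  have hqσM : q ∈ Cfsg.sigma M := Cfsg.Agent.H2.BG11.mem_sigma_of_dvd_sigmaCore hG hM hqp hqMσ
  have hqσN : q ∉ Cfsg.sigma N := by
    intro h
    obtain ⟨g, hg⟩ := (Cfsg.Agent.S1378.result hG).2 M N hM hN ⟨q, hqσM, h⟩
    refine hnc g⁻¹ ?_
    rw [hg]
    exact cj_inv_cj g M
  have hrkq := hrk q hqp hqD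
  -- Cauchy in `D`
  obtain ⟨y, hy⟩ := exists_prime_orderOf_dvd_card' (G := ↥D) q hqD
  obtain ⟨Y, hYdef⟩ : ∃ Y : Subgroup G, Y = Subgroup.zpowers (y : G) := ⟨_, rfl⟩
  have hYD : Y ≤ D := by rw [hYdef, Subgroup.zpowers_le]; exact y.2
  have hYc : Nat.card ↥Y = q := by rw [hYdef, Nat.card_zpowers, Subgroup.orderOf_coe, hy]
  have hY1 : Y ≠ ⊥ := by
    intro h
    rw [h, Subgroup.card_bot] at hYc
    exact hqp.one_lt.ne hYc
  have hYp : IsPGroup q ↥Y := IsPGroup.of_card (n := 1) (by rw [hYc, pow_one])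
  -- a Sylow `q`-subgroup `Q` of `N` containing `Y`
  obtain ⟨Q, hQN, hYQ⟩ := exists_isSylowIn_ge hYp (hYD.trans hDN)
  have hQp : IsPGroup q ↥Q := hQN.isPGroup
  have hQcyc : IsCyclic ↥Q :=
    Cfsg.Agent.Lib.Helper4.BGTw.isCyclic_of_pRankLE_one hG hrkq hQN.1 hQp
  have hQcomm : ∀ a ∈ Q, ∀ b ∈ Q, a * b = b * a := by
    intro a ha b hb
    letI := hQcyc.commGroup
    have := mul_comm (⟨a, ha⟩ : ↥Q) ⟨b, hb⟩
    exact congrArg Subtype.val this
  have hNYM := hNY Y hYD hY1
  have hQM : Q ≤ M := by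
    intro a ha
    apply hNYM
    apply Subgroup.centralizer_le_normalizer
    rw [Subgroup.mem_centralizer_iff]
    intro b hb
    exact hQcomm b (hYQ hb) a ha
  have hQσ : Q ≤ Cfsg.sigmaCore M :=
    Cfsg.Agent.H2.BG11.le_sigmaCore_of_pgroup hG hM hqσM hQM hQp
  have hQD : Q ≤ D := (le_inf hQσ hQN.1).trans hMsN
  -- `N_N(Q) ≤ C(Q)`
  have hNQY : Subgroup.normalizer (Q : Set G) ≤ Subgroup.normalizer (Y : Set G) :=
    Cfsg.Agent.Lib.Helper4.BG14.le_normalizer_of_le_cyclic hQcyc le_rfl hYQ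
  have hEnD : E ≤ Subgroup.normalizer (D : Set G) :=
    hED.trans (Subgroup.centralizer_le_normalizer _)
  -- `Q` as a Sylow subgroup of `D`
  have hQsD : IsSylowIn q Q D := by
    refine ⟨hQD, ?_⟩
    rw [hQN.2]
    congr 1
    apply le_antisymm
    · have h1 : q ^ (Nat.card ↥N).factorization q ∣ Nat.card ↥D := by
        rw [← hQN.2]; exact Subgroup.card_dvd_of_le hQD
      exact (hqp.pow_dvd_iff_le_factorization Nat.card_pos.ne').mp h1
    · exact (Nat.factorization_le_iff_dvd Nat.card_pos.ne' Nat.card_pos.ne').mpr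
        (Subgroup.card_dvd_of_le hDN) q
  obtain ⟨RD, hRD⟩ := hQsD.exists_sylow
  have hRDcyc : IsCyclic ↥(RD : Subgroup ↥D) := by
    rw [hRD]
    exact (Subgroup.subgroupOfEquivOfLe hQD).symm.isCyclic.mp hQcyc |> fun h => h
  have hDnc := IsCyclic.normalizer_le_centralizer (G := ↥D) (p := q) hq.symm (P := RD) hRDcyc
  have hkey : ∀ n ∈ N, n ∈ Subgroup.normalizer (Q : Set G) → ∀ x ∈ Q, x * n = n * x := by
    intro n hnN hnQ x hx
    have hnM : n ∈ M := hNYM (hNQY hnQ)
    have hnDE : n ∈ D ⊔ E := hMN ⟨hnM, hnN⟩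
    rw [sup_comm] at hnDE
    obtain ⟨e, he, d, hd, rfl⟩ :
        ∃ e ∈ E, ∃ d ∈ D, e * d = n := by
      have := (Subgroup.mem_sup_of_normal_right (s := E.subgroupOf (Subgroup.normalizer (D : Set G)))
        (t := D.subgroupOf (Subgroup.normalizer (D : Set G)))
        (x := ⟨n, ?_⟩)).mp ?_
      · obtain ⟨a, ha, b, hb, hab⟩ := this
        exact ⟨a, ha, b, hb, congrArg Subtype.val hab⟩
      · exact (sup_le hEnD Subgroup.le_normalizer) hnDE
      · rw [← Subgroup.subgroupOf_sup hEnD Subgroup.le_normalizer]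
        exact Subgroup.mem_subgroupOf.mpr hnDE
    have hecD : ∀ z ∈ D, z * e = e * z := fun z hz => Subgroup.mem_centralizer_iff.mp (hED he) z hz
    have heQ : e ∈ Subgroup.normalizer (Q : Set G) := by
      apply Subgroup.centralizer_le_normalizer
      rw [Subgroup.mem_centralizer_iff]
      intro z hz
      exact hecD z (hQD hz)
    have hdQ : d ∈ Subgroup.normalizer (Q : Set G) := by
      have : d = e⁻¹ * (e * d) := by group
      rw [this]
      exact Subgroup.mul_mem _ (Subgroup.inv_mem _ heQ) hnQ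
    -- `d` normalizes `RD` inside `D`
    have hd' : (⟨d, hd⟩ : ↥D) ∈ Subgroup.normalizer ((RD : Subgroup ↥D) : Set ↥D) := by
      rw [Subgroup.mem_normalizer_iff]
      intro h
      rw [hRD, Subgroup.mem_subgroupOf, Subgroup.mem_subgroupOf]
      exact Subgroup.mem_normalizer_iff.mp hdQ (h : G)
    have hd'' := hDnc hd'
    have hdx : x * d = d * x := by
      have hxR : (⟨x, hQD hx⟩ : ↥D) ∈ (RD : Subgroup ↥D) := by
        rw [hRD, Subgroup.mem_subgroupOf]; exact hx
      have := Subgroup.mem_centralizer_iff.mp hd'' ⟨x, hQD hx⟩ hxR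
      exact congrArg Subtype.val this
    calc x * (e * d) = (x * e) * d := by group
      _ = (e * x) * d := by rw [hecD x (hQD hx)]
      _ = e * (x * d) := by group
      _ = e * (d * x) := by rw [hdx]
      _ = e * d * x := by group
  -- Burnside in `N`
  obtain ⟨RN, hRN⟩ := hQN.exists_sylow
  have hnc' : Subgroup.normalizer ((RN : Subgroup ↥N) : Set ↥N) ≤
      Subgroup.centralizer ((RN : Subgroup ↥N) : Set ↥N) := by
    intro n hn
    rw [Subgroup.mem_centralizer_iff]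
    intro x hx0
    have hx : x ∈ (RN : Subgroup ↥N) := hx0
    rw [hRN, Subgroup.mem_subgroupOf] at hx
    have hnQ : (n : G) ∈ Subgroup.normalizer (Q : Set G) := by
      rw [Subgroup.mem_normalizer_iff]
      intro h
      constructor
      · intro hh
        have h0 : (⟨h, hQN.1 hh⟩ : ↥N) ∈ (RN : Subgroup ↥N) := by
          rw [hRN, Subgroup.mem_subgroupOf]; exact hh
        have h1 : n * ⟨h, hQN.1 hh⟩ * n⁻¹ ∈ (RN : Subgroup ↥N) :=
          (Subgroup.mem_normalizer_iff.mp hn ⟨h, hQN.1 hh⟩).mp h0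
        rw [hRN, Subgroup.mem_subgroupOf] at h1
        exact h1
      · intro hh
        have hhN : h ∈ N := by
          have : h = (n : G)⁻¹ * ((n : G) * h * (n : G)⁻¹) * (n : G) := by group
          rw [this]
          exact N.mul_mem (N.mul_mem (N.inv_mem n.2) (hQN.1 hh)) n.2
        have h0 : n * ⟨h, hhN⟩ * n⁻¹ ∈ (RN : Subgroup ↥N) := by
          rw [hRN, Subgroup.mem_subgroupOf]; exact hh
        have h1 : (⟨h, hhN⟩ : ↥N) ∈ (RN : Subgroup ↥N) :=
          (Subgroup.mem_normalizer_iff.mp hn ⟨h, hhN⟩).mpr h0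
        rw [hRN, Subgroup.mem_subgroupOf] at h1
        exact h1
    exact Subtype.ext (hkey n n.2 hnQ x hx)
  have hcomm := not_dvd_card_commutator_of_nc RN hnc'
  have hcard : Nat.card ↥⁅N, N⁆ = Nat.card ↥(commutator ↥N) := by
    rw [← Subgroup.map_subtype_commutator]
    exact Subgroup.card_map_of_injective N.subtype_injective
  refine ⟨q, Y, ⟨hqp, hqσN, ?_, ?_, hrkq⟩, hYD, hYc⟩
  · exact hqD.trans (Subgroup.card_dvd_of_le hDN)
  · rw [hcard]; exact hcomm

end Cfsg.Agent.Lib.Helper8.BG14Q
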