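import Mathlib
import Cfsg.Agent.Lib.Helper8.BG14K
import Cfsg.Agent.Lib.Helper4.BG14H
import Cfsg.Agent.Lib.Helper7.BG13H
import Cfsg.Agent.Lib.helper3.BG11D

/-!
Bender–Glauberman §14, helper8: existence of the standard factorisation `M = K U M_σ` (S1352) and
`C_M(k) = K × K*` (S1354), from helper4's `KData` and helper7's Theorem T / Lemma B.
-/

set_option autoImplicit false
set_option linter.unusedSectionVars false
set_option linter.unusedVariables false
set_option linter.style.haveILetI false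
set_option maxHeartbeats 2000000
open Cfsg
open scoped commutatorElement Pointwise

namespace Cfsg.Agent.Lib.Helper8.BG14K

open Cfsg.Agent.Lib.Helper8.BGTen
open Cfsg.Agent.H2.BG11 (sigmaCore_le le_normalizer_sigmaCore mem_sigma_of_dvd_sigmaCore)
open Cfsg.Agent.Lib.Helper4.BG14 (KData)

universe u

variable {G : Type u} [Group G] [Finite G]

/-- `U M_σ ⊴ M` for a standard factorisation. -/
theorem le_normalizer_sup_of_decomp {M K U : Subgroup G}
    (hKU : Cfsg.IsSigmaDecomposition M K U) :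
    M ≤ Subgroup.normalizer ((U ⊔ Cfsg.sigmaCore M : Subgroup G) : Set G) := by
  obtain ⟨hcyc, hhall, ⟨hUM, hKσM, -, hprod⟩, hKnU⟩ := hKU
  obtain ⟨W, hWdef⟩ : ∃ W : Subgroup G, W = U ⊔ Cfsg.sigmaCore M := ⟨_, rfl⟩
  rw [← hWdef]
  have hKM : K ≤ M := le_sup_left.trans hKσM
  have hWW : W ≤ Subgroup.normalizer (W : Set G) := Subgroup.le_normalizer
  have hKW : K ≤ Subgroup.normalizer (W : Set G) := by
    rw [hWdef]
    exact Cfsg.Agent.Lib.helper3.BG14.le_normalizer_sup hKnU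
      (hKM.trans (le_normalizer_sigmaCore M))
  have hσW : Cfsg.sigmaCore M ≤ Subgroup.normalizer (W : Set G) :=
    (hWdef ▸ le_sup_right : Cfsg.sigmaCore M ≤ W).trans hWW
  intro n hn
  obtain ⟨a, ha, b, hb, rfl⟩ := hprod n hn
  exact Subgroup.mul_mem _ (hWW ((hWdef ▸ le_sup_left : U ≤ W) ha)) (sup_le hKW hσW hb)

/-- a standard factorisation from helper4's `KData`. -/
theorem decomp_of_kdata {M K E U : Subgroup G} (hKc : IsCyclic ↥K)
    (hK : Cfsg.IsPiHallOf (Cfsg.kappa M) K M) (h : KData M K E U) :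
    Cfsg.IsSigmaDecomposition M K U := by
  have hEM : E ≤ M := h.compl.1
  have hKM : K ≤ M := hK.1
  refine ⟨hKc, hK, ⟨h.UE.trans hEM, sup_le hKM (sigmaCore_le M), ?_, ?_⟩, h.KE.trans h.Unorm⟩
  · rw [eq_bot_iff]
    intro x hx
    obtain ⟨hxU, hxKσ⟩ := Subgroup.mem_inf.mp hx
    have hKn : K ≤ Subgroup.normalizer ((Cfsg.sigmaCore M : Subgroup G) : Set G) :=
      hKM.trans (le_normalizer_sigmaCore M)
    have hxKσ' : (⟨x, (sup_le hKn Subgroup.le_normalizer) hxKσ⟩ :
        ↥(Subgroup.normalizer ((Cfsg.sigmaCore M : Subgroup G) : Set G))) ∈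
        K.subgroupOf _ ⊔ (Cfsg.sigmaCore M).subgroupOf _ := by
      rw [← Subgroup.subgroupOf_sup hKn Subgroup.le_normalizer]
      exact Subgroup.mem_subgroupOf.mpr hxKσ
    obtain ⟨k, hk, s, hs, hks⟩ := Subgroup.mem_sup_of_normal_right.mp hxKσ'
    have hks' : (k : G) * (s : G) = x := congrArg Subtype.val hks
    have hkK : (k : G) ∈ K := Subgroup.mem_subgroupOf.mp hk
    have hsσ : (s : G) ∈ Cfsg.sigmaCore M := Subgroup.mem_subgroupOf.mp hs
    have hsE : (s : G) ∈ E := by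
      have : (s : G) = (k : G)⁻¹ * x := by rw [← hks']; group
      rw [this]
      exact E.mul_mem (E.inv_mem (h.KE hkK)) (h.UE hxU)
    have hs1 : (s : G) = 1 := by
      have : (s : G) ∈ E ⊓ Cfsg.sigmaCore M := Subgroup.mem_inf.mpr ⟨hsE, hsσ⟩
      rw [h.compl.2.2.1, Subgroup.mem_bot] at this
      exact this
    rw [hs1, mul_one] at hks'
    have : x ∈ U ⊓ K := Subgroup.mem_inf.mpr ⟨hxU, hks' ▸ hkK⟩
    rw [h.UK] at this
    exact this
  · intro m hm
    obtain ⟨e, he, s, hs, rfl⟩ := h.compl.2.2.2 m hm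
    obtain ⟨u, hu, k, hk, rfl⟩ := h.mul e he
    refine ⟨u, hu, k * s, Subgroup.mul_mem _ (Subgroup.mem_sup_left hk)
      (Subgroup.mem_sup_right hs), ?_⟩
    group

/-- **S1352**. -/
theorem s1352 (hG : Cfsg.IsMinSimpleOddOrder G) (M : Subgroup G) (hM : IsCoatom M)
    (K : Subgroup G) (hKc : IsCyclic ↥K) (hK : Cfsg.IsPiHallOf (Cfsg.kappa M) K M) :
    (∃ U : Subgroup G, Cfsg.IsSigmaDecomposition M K U) ∧
      ∀ U : Subgroup G, Cfsg.IsSigmaDecomposition M K U →
        M ≤ Subgroup.normalizer ((U ⊔ Cfsg.sigmaCore M : Subgroup G) : Set G) := by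
  refine ⟨?_, fun U hU => le_normalizer_sup_of_decomp hU⟩
  by_cases hK1 : K = ⊥
  · obtain ⟨E, hE⟩ := Cfsg.Agent.Lib.helper3.BG12.exists_compl hG hM
    refine ⟨E, hKc, hK, ?_, ?_⟩
    · rw [hK1, bot_sup_eq]; exact hE
    · rw [hK1]; exact bot_le
  · obtain ⟨E, U, h⟩ := Cfsg.Agent.Lib.Helper4.BG14.exists_kdata hG
      (Cfsg.Agent.Lib.Helper7.BG13.theoremT hG) (Cfsg.Agent.Lib.Helper7.BG13.lemmaB hG) hM hK hK1
    exact ⟨U, decomp_of_kdata hKc hK h⟩

/-- **S1354**. -/
theorem s1354 (hG : Cfsg.IsMinSimpleOddOrder G) (M : Subgroup G) (hM : IsCoatom M)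
    (K : Subgroup G) (hKc : IsCyclic ↥K) (hK : Cfsg.IsPiHallOf (Cfsg.kappa M) K M) :
    Cfsg.sigmaCore M ⊓ Subgroup.centralizer (K : Set G) ≠ ⊥ ∧
      (K ≠ ⊥ → ∀ k ∈ K, k ≠ 1 →
        M ⊓ Subgroup.centralizer ({k} : Set G) =
          K ⊔ (Cfsg.sigmaCore M ⊓ Subgroup.centralizer (K : Set G))) := by
  by_cases hK1 : K = ⊥
  · refine ⟨?_, fun h => absurd hK1 h⟩
    rw [hK1]
    have : Subgroup.centralizer (((⊥ : Subgroup G) : Subgroup G) : Set G) = ⊤ := by
      rw [Subgroup.coe_bot, Subgroup.centralizer_eq_top_iff_subset]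
      intro x hx
      rw [Set.mem_singleton_iff] at hx
      rw [hx]
      exact Subgroup.one_mem _
    rw [this, inf_top_eq]
    exact Cfsg.Agent.Lib.helper3.BG11.sigmaCore_ne_bot hG hM
  · obtain ⟨E, U, h⟩ := Cfsg.Agent.Lib.Helper4.BG14.exists_kdata hG
      (Cfsg.Agent.Lib.Helper7.BG13.theoremT hG) (Cfsg.Agent.Lib.Helper7.BG13.lemmaB hG) hM hK hK1
    refine ⟨h.kstar_ne_bot hG hK hK1, fun _ k hk hk1 => ?_⟩
    apply le_antisymm
    · intro g hg
      obtain ⟨hgM, hgC⟩ := Subgroup.mem_inf.mp hg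
      have hgk : k * g = g * k := Subgroup.mem_centralizer_iff.mp hgC k (Set.mem_singleton k)
      have : g * k * g⁻¹ = k := by rw [← hgk]; group
      exact h.mem_sup hgM hk hk1 (by rw [this]; exact hk)
    · refine sup_le (le_inf hK.1 ?_) (le_inf (inf_le_left.trans (sigmaCore_le M)) ?_)
      · intro a ha
        rw [Subgroup.mem_centralizer_iff]
        intro b hb
        rw [Set.mem_singleton_iff] at hb
        rw [hb]
        letI := hKc.commGroup
        have := mul_comm (⟨k, hk⟩ : ↥K) ⟨a, ha⟩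
        exact congrArg Subtype.val this
      · exact inf_le_right.trans
          (Subgroup.centralizer_le (Set.singleton_subset_iff.mpr hk))

end Cfsg.Agent.Lib.Helper8.BG14K
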