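import Mathlib
import Cfsg.Agent.Lib.Helper8.BG14K2
import Cfsg.Agent.Lib.Helper4.TypeP
import Cfsg.Agent.Lib.Helper5.BGBetaC
import Cfsg.Agent.S1405

/-!
Bender–Glauberman §15, helper8: Theorem 15.2(a) (S1355), assembled from the statements of S1351
(`Hyp1351`) and (a weak form of) S1437 (`Hyp1437w`).
-/

set_option autoImplicit false
set_option linter.unusedSectionVars false
set_option linter.unusedVariables false
set_option linter.style.haveILetI false
set_option maxHeartbeats 2000000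
open Cfsg
open scoped commutatorElement Pointwise

namespace Cfsg.Agent.Lib.Helper8.BG15

open Cfsg.Agent.Lib.Helper8.BGTen
open Cfsg.Agent.H2.BG11 (sigmaCore_le le_normalizer_sigmaCore mem_sigma_of_dvd_sigmaCore)
open Cfsg.Agent.Lib.Helper4.TypeP

universe u

/-- the image of a nilpotent subgroup is nilpotent -/
theorem nilpotent_map {H H' : Type*} [Group H] [Group H'] (f : H →* H') (X : Subgroup H)
    (hX : Group.IsNilpotent ↥X) : Group.IsNilpotent ↥(X.map f) :=
  Group.nilpotent_of_surjective (f.subgroupMap X) (f.subgroupMap_surjective X)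

/-- if the image of `X` in `H/N₁` is nilpotent and `N₁ ≤ N₂`, so is the image in `H/N₂` -/
theorem nilpotent_map_mk'_of_le {H : Type*} [Group H] (N1 N2 : Subgroup H) [N1.Normal]
    [N2.Normal] (h : N1 ≤ N2) (X : Subgroup H)
    (hnil : Group.IsNilpotent ↥(X.map (QuotientGroup.mk' N1))) :
    Group.IsNilpotent ↥(X.map (QuotientGroup.mk' N2)) := by
  have hcomp : (QuotientGroup.map N1 N2 (MonoidHom.id H)
      (by rw [Subgroup.comap_id]; exact h)).comp (QuotientGroup.mk' N1) = QuotientGroup.mk' N2 := by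
    ext x; rfl
  rw [← hcomp, ← Subgroup.map_map]
  exact nilpotent_map _ _ hnil

variable {G : Type u} [Group G] [Finite G]

/-- the statement of S1351 -/
def Hyp1351 (G : Type u) [Group G] : Prop :=
  ∀ (M : Subgroup G), IsCoatom M →
    (∃ K : Subgroup G, Cfsg.IsPiHallOf (Cfsg.kappa M) K M) ∧
      ∀ K : Subgroup G, Cfsg.IsPiHallOf (Cfsg.kappa M) K M → IsCyclic K

/-- a weak form of the statement of S1437 (what Theorem 15.2(a),(b) needs of it) -/
def Hyp1437w (G : Type u) [Group G] : Prop :=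
  ∀ (M : Subgroup G), IsCoatom M → ∀ K U : Subgroup G, Cfsg.IsSigmaDecomposition M K U →
    Cfsg.fittingHallOf M ≠ Cfsg.sigmaCore M →
    Cfsg.sigmaCore M = ⁅M, M⁆ ∧ ∃ q : ℕ, q.Prime ∧ q ∣ Nat.card ↥(Cfsg.fittingHallOf M) ∧
      ∃ Q : Subgroup G, Q ≤ Cfsg.fittingHallOf M ∧ M ≤ Subgroup.normalizer (Q : Set G) ∧
        IsPGroup q ↥Q ∧ ¬ q ∣ Q.relIndex (Cfsg.sigmaCore M) ∧
        ∀ D : Subgroup G, Cfsg.IsComplIn Q D (Cfsg.sigmaCore M) → Group.IsNilpotent ↥D

/-- `M_F ≤ M_σ` -/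
theorem fittingHallOf_le_sigmaCore (hG : Cfsg.IsMinSimpleOddOrder G) {M : Subgroup G}
    (hM : IsCoatom M) : Cfsg.fittingHallOf M ≤ Cfsg.sigmaCore M := by
  show (Cfsg.fittingHall ↥M).map M.subtype ≤ (Cfsg.piCore (Cfsg.sigma M) ↥M).map M.subtype
  apply Subgroup.map_mono
  obtain ⟨hn, hnil, hcop⟩ := fittingHall_mem ↥M
  apply le_sSup
  refine ⟨hn, ?_⟩
  intro p hp hpd
  haveI := hn
  exact Cfsg.Agent.Lib.helper3.BG14.mem_sigma_of_dvd_normal_nilpotent_hall hG hM _ hnil hcop hp hpd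

/-- `M' < M` -/
theorem commutator_lt (hG : Cfsg.IsMinSimpleOddOrder G) {M : Subgroup G} (hM : IsCoatom M) :
    ⁅M, M⁆ < M := by
  haveI : Group.IsSolvable ↥M := hG.2.2.2 M hM.1
  have hM1 : M ≠ ⊥ := by
    intro h
    apply Cfsg.Agent.Lib.helper3.BG11.sigmaCore_ne_bot hG hM
    rw [eq_bot_iff, ← h]
    exact sigmaCore_le M
  haveI : Nontrivial ↥M := (Subgroup.nontrivial_iff_ne_bot M).mpr hM1
  have h1 : _root_.commutator ↥M < ⊤ := Group.IsSolvable.commutator_lt_top_of_nontrivial ↥M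
  refine lt_of_le_of_ne (Subgroup.commutator_le_self M) ?_
  intro h
  rw [← Subgroup.map_subtype_commutator] at h
  apply h1.ne
  rw [eq_top_iff]
  intro x _
  have hx : (x : G) ∈ (_root_.commutator ↥M).map M.subtype := by rw [h]; exact x.2
  obtain ⟨y, hy, hyx⟩ := hx
  have : y = x := Subtype.ext hyx
  rwa [← this]

/-- **Theorem 15.2(a)** (the statement of S1355), from `Hyp1351` and `Hyp1437w`. -/
theorem s1355_of (hG : Cfsg.IsMinSimpleOddOrder G) (h51 : Hyp1351 G) (h37 : Hyp1437w G)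
    (M : Subgroup G) (hM : IsCoatom M) :
    Cfsg.fittingHallOf M ≠ ⊥ ∧ Cfsg.fittingHallOf M ≤ Cfsg.sigmaCore M ∧
      Cfsg.sigmaCore M ≤ ⁅M, M⁆ ∧ ⁅M, M⁆ < M ∧
      Group.IsNilpotent
        ↥((_root_.commutator ↥M).map (QuotientGroup.mk' (Cfsg.fittingHall ↥M))) := by
  have hB : Cfsg.fittingHallOf M ≤ Cfsg.sigmaCore M := fittingHallOf_le_sigmaCore hG hM
  have hC : Cfsg.sigmaCore M ≤ ⁅M, M⁆ :=
    Cfsg.Agent.Lib.Helper5.BGBeta.sigmaCore_le_commutator hG
      (Cfsg.Agent.Lib.helper3.BG11.uT hG) hM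
  have hD := commutator_lt hG hM
  by_cases hnil : Group.IsNilpotent ↥(Cfsg.sigmaCore M)
  · have heq := Cfsg.Agent.Lib.helper3.BG14.sigmaCore_eq_fittingHallOf hG hM hnil
    refine ⟨heq ▸ Cfsg.Agent.Lib.helper3.BG11.sigmaCore_ne_bot hG hM, hB, hC, hD, ?_⟩
    have h05 := Cfsg.Agent.S1405.result hG M hM
    have hle : Cfsg.piCore (Cfsg.alpha M) ↥M ≤ Cfsg.fittingHall ↥M := by
      have h1 : Cfsg.alphaCore M ≤ Cfsg.fittingHallOf M := heq ▸ h05.2.2.1
      exact (Subgroup.map_le_map_iff_of_injective M.subtype_injective).mp h1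
    exact nilpotent_map_mk'_of_le _ _ hle _ h05.2.2.2.2
  · obtain ⟨⟨K, hK⟩, hcyc⟩ := h51 M hM
    have hKc := hcyc K hK
    obtain ⟨U, hKU⟩ := (Cfsg.Agent.Lib.Helper8.BG14K.s1352 hG M hM K hKc hK).1
    have hne : Cfsg.fittingHallOf M ≠ Cfsg.sigmaCore M := by
      intro h
      apply hnil
      rw [← h]
      exact fittingHallOf_nilpotent M
    obtain ⟨hσ', q, hq, hqd, Q, hQF, hMQ, hQp, hQi, hDnil⟩ := h37 M hM K U hKU hne
    haveI : Fact q.Prime := ⟨hq⟩
    refine ⟨?_, hB, hC, hD, ?_⟩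
    · intro h0
      rw [h0, Subgroup.card_bot] at hqd
      exact hq.one_lt.ne' (Nat.dvd_one.mp hqd)
    · have hQσ : Q ≤ Cfsg.sigmaCore M := hQF.trans hB
      have hσM : Cfsg.sigmaCore M ≤ M := sigmaCore_le M
      -- Schur–Zassenhaus: a complement `D` of `Q` in `M_σ`
      haveI hQn : (Q.subgroupOf (Cfsg.sigmaCore M)).Normal :=
        Subgroup.normal_subgroupOf_of_le_normalizer (hσM.trans hMQ)
      have hcop : (Nat.card ↥(Q.subgroupOf (Cfsg.sigmaCore M))).Coprime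
          (Q.subgroupOf (Cfsg.sigmaCore M)).index := by
        rw [Cfsg.Agent.Lib.Helper7.card_subgroupOf_of_le hQσ]
        obtain ⟨k, hk⟩ := hQp.exists_card_eq
        rw [hk]
        exact Nat.Coprime.pow_left k ((Nat.Prime.coprime_iff_not_dvd hq).mpr hQi)
      obtain ⟨D₀, hD₀⟩ := Subgroup.exists_right_complement'_of_coprime hcop
      obtain ⟨D, hDdef⟩ : ∃ D : Subgroup G, D = D₀.map (Cfsg.sigmaCore M).subtype := ⟨_, rfl⟩
      have hDσ : D ≤ Cfsg.sigmaCore M := hDdef ▸ Subgroup.map_subtype_le _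
      have hcompl : Cfsg.IsComplIn Q D (Cfsg.sigmaCore M) := by
        refine ⟨hQσ, hDσ, ?_, ?_⟩
        · rw [eq_bot_iff]
          intro x hx
          obtain ⟨hxQ, hxD⟩ := Subgroup.mem_inf.mp hx
          rw [hDdef] at hxD
          obtain ⟨y, hy, rfl⟩ := hxD
          have : y ∈ Q.subgroupOf (Cfsg.sigmaCore M) ⊓ D₀ :=
            Subgroup.mem_inf.mpr ⟨Subgroup.mem_subgroupOf.mpr hxQ, hy⟩
          rw [hD₀.disjoint.eq_bot, Subgroup.mem_bot] at this
          rw [Subgroup.mem_bot, this]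
          rfl
        · intro m hm
          obtain ⟨⟨a, b⟩, hab⟩ := hD₀.2 ⟨m, hm⟩
          refine ⟨(a : ↥(Cfsg.sigmaCore M)), Subgroup.mem_subgroupOf.mp a.2,
            (b : ↥(Cfsg.sigmaCore M)), hDdef ▸ ⟨b, b.2, rfl⟩, ?_⟩
          have := congrArg Subtype.val hab
          exact this.symm
      have hDn : Group.IsNilpotent ↥D := hDnil D hcompl
      have hDM : D ≤ M := hDσ.trans hσM
      -- the quotient by `Q`
      haveI hQ'n : (Q.subgroupOf M).Normal := Subgroup.normal_subgroupOf_of_le_normalizer hMQ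
      have hQ'F : Q.subgroupOf M ≤ Cfsg.fittingHall ↥M := by
        rw [← subgroupOf_fittingHallOf M]
        exact Subgroup.comap_mono hQF
      have hcomm : _root_.commutator ↥M = Cfsg.piCore (Cfsg.sigma M) ↥M := by
        apply Subgroup.map_injective M.subtype_injective
        rw [Subgroup.map_subtype_commutator]
        exact hσ'.symm
      have hD'n : Group.IsNilpotent ↥(D.subgroupOf M) :=
        Group.nilpotent_of_mulEquiv (Subgroup.subgroupOfEquivOfLe hDM).symm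
      have himg : (Cfsg.piCore (Cfsg.sigma M) ↥M).map (QuotientGroup.mk' (Q.subgroupOf M)) ≤
          (D.subgroupOf M).map (QuotientGroup.mk' (Q.subgroupOf M)) := by
        rintro _ ⟨x, hx, rfl⟩
        have hxσ : (x : G) ∈ Cfsg.sigmaCore M := ⟨x, hx, rfl⟩
        obtain ⟨a, ha, b, hb, hab⟩ := hcompl.2.2.2 _ hxσ
        refine ⟨⟨b, hDM hb⟩, Subgroup.mem_subgroupOf.mpr hb, ?_⟩
        rw [QuotientGroup.mk'_apply, QuotientGroup.mk'_apply, QuotientGroup.eq]
        rw [Subgroup.mem_subgroupOf]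
        have : ((⟨b, hDM hb⟩ : ↥M)⁻¹ * x : ↥M).1 = b⁻¹ * (a * b) := by
          rw [← hab]; rfl
        rw [this]
        have hbn : b⁻¹ ∈ Subgroup.normalizer (Q : Set G) := hMQ (M.inv_mem (hDM hb))
        have := (Subgroup.mem_normalizer_iff.mp hbn a).mp ha
        rw [inv_inv] at this
        rw [← mul_assoc]
        exact this
      have h1 : Group.IsNilpotent
          ↥((Cfsg.piCore (Cfsg.sigma M) ↥M).map (QuotientGroup.mk' (Q.subgroupOf M))) :=
        isNilpotent_of_le himg (nilpotent_map _ _ hD'n)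
      rw [hcomm]
      exact nilpotent_map_mk'_of_le _ _ hQ'F _ h1

end Cfsg.Agent.Lib.Helper8.BG15
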