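import Mathlib
import Cfsg.Agent.Lib.Helper8.BG15A
import Cfsg.Agent.Lib.Helper4.BG14I
import Cfsg.Agent.H1.CoprimeHallContain
import Cfsg.Agent.S1439
import Cfsg.Agent.S1420
import Cfsg.Agent.S1359

/-!
Bender–Glauberman §15, helper8: Theorem 15.2(b) (S1356) in the case `M_σ` nilpotent
(unconditional), part 1: general lemmas.

* `not_sigmaCore_le_centralizer_of_kappa`: a subgroup of order `t ∈ κ(M)` does not centralize `M_σ`.
* `derived_two_le_sigmaCore`: `M'' ≤ M_σ`.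
-/

set_option autoImplicit false
set_option linter.unusedSectionVars false
set_option linter.unusedVariables false
set_option linter.style.haveILetI false
set_option maxHeartbeats 2000000
open Cfsg
open scoped commutatorElement Pointwise

namespace Cfsg.Agent.Lib.Helper8.BG15

open Cfsg.Agent.Lib.Helper8.BGTen
open Cfsg.Agent.H2.BG11 (sigmaCore_le le_normalizer_sigmaCore mem_sigma_of_dvd_sigmaCore)
open Cfsg.Agent.Lib.Helper4.TypeP
open Cfsg.Agent.Lib.Helper4.BG14 (KData)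

universe u

variable {G : Type u} [Group G] [Finite G]

/-- a subgroup of prime order `t ∈ κ(M)` of `M` does not centralize `M_σ` -/
theorem not_sigmaCore_le_centralizer_of_kappa (hG : Cfsg.IsMinSimpleOddOrder G) {M : Subgroup G}
    (hM : IsCoatom M) {t : ℕ} (ht : t ∈ Cfsg.kappa M) {T : Subgroup G} (hTM : T ≤ M)
    (hTc : Nat.card ↥T = t) : ¬ Cfsg.sigmaCore M ≤ Subgroup.centralizer (T : Set G) := by
  intro hle
  have htp : t.Prime := ht.1
  have hsolv : Group.IsSolvable ↥M := hG.2.2.2 M hM.1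
  obtain ⟨K, hK, -, hTK⟩ := Cfsg.Agent.H1.coprime_hall_contain (⊥ : Subgroup G) M T
    (Cfsg.kappa M) bot_le (by rw [Subgroup.card_bot]; exact Nat.coprime_one_left _) hsolv hTM
    bot_le (fun q hq hd => by
      rw [hTc] at hd
      rw [(Nat.prime_dvd_prime_iff_eq hq htp).mp hd]
      exact ht)
  have hT1 : T ≠ ⊥ := by
    intro h0
    rw [h0, Subgroup.card_bot] at hTc
    exact htp.one_lt.ne hTc
  have hK1 : K ≠ ⊥ := fun h0 => hT1 (le_bot_iff.mp (h0 ▸ hTK))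
  obtain ⟨E, U, h⟩ := Cfsg.Agent.Lib.Helper4.BG14.exists_kdata' hG hM hK hK1
  obtain ⟨x, hxT, hx1⟩ := Cfsg.Agent.Lib.Helper4.BG14.exists_ne_one_of_ne_bot hT1
  have hpr := h.prime x (hTK hxT) hx1
  have heq : Cfsg.sigmaCore M ⊓ Subgroup.centralizer (K : Set G) = Cfsg.sigmaCore M := by
    rw [← hpr]
    apply inf_eq_left.mpr
    exact hle.trans (Subgroup.centralizer_le (Set.singleton_subset_iff.mpr hxT))
  have hσ1 := Cfsg.Agent.Lib.helper3.BG11.sigmaCore_ne_bot hG hM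
  have hc1 : Nat.card ↥(Cfsg.sigmaCore M) ≠ 1 := fun h0 => hσ1 (Subgroup.card_eq_one.mp h0)
  obtain ⟨p, hp, hpd⟩ := Nat.exists_prime_and_dvd hc1
  haveI : Fact p.Prime := ⟨hp⟩
  have h31 := (h.s1431 hG hM).2.2.1 p hp (by rw [heq]; exact hpd)
  obtain ⟨S⟩ : Nonempty (Sylow p ↥(Cfsg.sigmaCore M)) := inferInstance
  apply (h31 S).2.2
  rw [heq]
  exact Subgroup.map_subtype_le _

/-- `M'' ≤ M_σ` -/
theorem derived_two_le_sigmaCore (hG : Cfsg.IsMinSimpleOddOrder G) {M : Subgroup G}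
    (hM : IsCoatom M) : ⁅⁅M, M⁆, ⁅M, M⁆⁆ ≤ Cfsg.sigmaCore M := by
  obtain ⟨E, hE⟩ := Cfsg.Agent.Lib.helper3.BG12.exists_compl hG hM
  have hEM : E ≤ M := hE.1
  have hEab := (Cfsg.Agent.S1420.result hG M hM E hE).2.1
  haveI hNn : ((Cfsg.sigmaCore M).subgroupOf M).Normal :=
    Subgroup.normal_subgroupOf_of_le_normalizer (le_normalizer_sigmaCore M)
  have hsup : (Cfsg.sigmaCore M).subgroupOf M ⊔ E.subgroupOf M = ⊤ := by
    rw [eq_top_iff]
    intro m _
    obtain ⟨a, ha, b, hb, hab⟩ := hE.2.2.2 m.1 m.2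
    have hm : m = (⟨a, hEM ha⟩ : ↥M) * ⟨b, sigmaCore_le M hb⟩ := Subtype.ext hab
    rw [hm]
    exact Subgroup.mul_mem _ (Subgroup.mem_sup_right (Subgroup.mem_subgroupOf.mpr ha))
      (Subgroup.mem_sup_left (Subgroup.mem_subgroupOf.mpr hb))
  have h1 := Cfsg.Agent.Lib.helper3.BG12.commutator_le_of_sup_eq_top
    ((Cfsg.sigmaCore M).subgroupOf M) (E.subgroupOf M) hsup
  -- `⁅J, J⁆` is commutative
  have hJc : ∀ a ∈ ⁅E.subgroupOf M, E.subgroupOf M⁆, ∀ b ∈ ⁅E.subgroupOf M, E.subgroupOf M⁆,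
      a * b = b * a := by
    have hmap : (⁅E.subgroupOf M, E.subgroupOf M⁆).map M.subtype = ⁅E, E⁆ := by
      rw [Subgroup.map_commutator, Subgroup.subgroupOf_map_subtype, inf_eq_left.mpr hEM]
    intro a ha b hb
    have ha' : (a : G) ∈ ⁅E, E⁆ := hmap ▸ ⟨a, ha, rfl⟩
    have hb' : (b : G) ∈ ⁅E, E⁆ := hmap ▸ ⟨b, hb, rfl⟩
    have := hEab.is_comm.comm (⟨(a : G), ha'⟩ : ↥⁅E, E⁆) ⟨(b : G), hb'⟩
    have h2 : (a : G) * (b : G) = (b : G) * (a : G) := congrArg Subtype.val this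
    exact Subtype.ext h2
  set φ := QuotientGroup.mk' ((Cfsg.sigmaCore M).subgroupOf M) with hφ
  have hker : φ.ker = (Cfsg.sigmaCore M).subgroupOf M := QuotientGroup.ker_mk' _
  have hX : (_root_.commutator ↥M).map φ ≤ (⁅E.subgroupOf M, E.subgroupOf M⁆).map φ := by
    refine (Subgroup.map_mono h1).trans ?_
    rw [Subgroup.map_sup]
    have : ((Cfsg.sigmaCore M).subgroupOf M).map φ = ⊥ :=
      (Subgroup.map_eq_bot_iff _).mpr hker.ge
    rw [this, sup_bot_eq]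
  have hcomm : ⁅(_root_.commutator ↥M).map φ, (_root_.commutator ↥M).map φ⁆ = ⊥ := by
    rw [eq_bot_iff]
    refine (Subgroup.commutator_mono hX hX).trans ?_
    rw [← Subgroup.map_commutator, le_bot_iff, Subgroup.map_eq_bot_iff, hker]
    have : ⁅⁅E.subgroupOf M, E.subgroupOf M⁆, ⁅E.subgroupOf M, E.subgroupOf M⁆⁆ = ⊥ := by
      rw [Subgroup.commutator_eq_bot_iff_le_centralizer]
      intro a ha
      rw [Subgroup.mem_centralizer_iff]
      intro b hb
      exact hJc b hb a ha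
    rw [this]
    exact bot_le
  have h2 : ⁅_root_.commutator ↥M, _root_.commutator ↥M⁆ ≤ (Cfsg.sigmaCore M).subgroupOf M := by
    rw [← hker, ← Subgroup.map_eq_bot_iff, Subgroup.map_commutator]
    exact hcomm
  have h3 : ⁅⁅M, M⁆, ⁅M, M⁆⁆ =
      (⁅_root_.commutator ↥M, _root_.commutator ↥M⁆).map M.subtype := by
    rw [Subgroup.map_commutator, Subgroup.map_subtype_commutator]
  rw [h3]
  rintro _ ⟨x, hx, rfl⟩
  exact Subgroup.mem_subgroupOf.mp (h2 hx)

end Cfsg.Agent.Lib.Helper8.BG15
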