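import Mathlib
import Cfsg.Agent.Lib.Helper8.BG15B

/-!
Bender–Glauberman §15, helper8: Theorem 15.2(b) (S1356), part 2: `C_M(M_σ)` is nilpotent
(unconditional).
-/

set_option autoImplicit false
set_option linter.unusedSectionVars false
set_option linter.unusedVariables false
set_option linter.style.haveILetI false
set_option maxHeartbeats 2000000
open Cfsg
open scoped commutatorElement Pointwise

namespace Cfsg.Agent.Lib.Helper8.BG15

open Cfsg.Agent.Lib.Helper8.BGTen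
open Cfsg.Agent.H2.BG11 (sigmaCore_le le_normalizer_sigmaCore mem_sigma_of_dvd_sigmaCore)
open Cfsg.Agent.Lib.Helper4.TypeP
open Cfsg.Agent.Lib.Helper4.BG14 (KData)

universe u

variable {G : Type u} [Group G] [Finite G]

omit [Finite G] in
/-- elements of `A ⊔ N` are products when `A` normalizes `N` -/
theorem exists_mul_of_mem_sup {A N : Subgroup G} (hA : A ≤ Subgroup.normalizer (N : Set G)) {x : G}
    (hx : x ∈ A ⊔ N) : ∃ a ∈ A, ∃ n ∈ N, a * n = x := by
  have hx' : (⟨x, (sup_le hA Subgroup.le_normalizer) hx⟩ : ↥(Subgroup.normalizer (N : Set G))) ∈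
      A.subgroupOf _ ⊔ N.subgroupOf _ := by
    rw [← Subgroup.subgroupOf_sup hA Subgroup.le_normalizer]
    exact Subgroup.mem_subgroupOf.mpr hx
  obtain ⟨a, ha, n, hn, han⟩ := Subgroup.mem_sup_of_normal_right.mp hx'
  exact ⟨a, Subgroup.mem_subgroupOf.mp ha, n, Subgroup.mem_subgroupOf.mp hn,
    congrArg Subtype.val han⟩

/-- the key datum: a subgroup `U' ≤ M` with `C_M(M_σ) ≤ U' M_σ` whose elements with fixed points on
`M_σ` commute pairwise -/
theorem exists_good_compl (hG : Cfsg.IsMinSimpleOddOrder G) {M : Subgroup G} (hM : IsCoatom M) :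
    ∃ U' : Subgroup G, U' ≤ M ∧
      M ⊓ Subgroup.centralizer ((Cfsg.sigmaCore M : Subgroup G) : Set G) ≤ U' ⊔ Cfsg.sigmaCore M ∧
      ∀ a ∈ U', a ∈ Cfsg.sigmaHat M → ∀ b ∈ U', b ∈ Cfsg.sigmaHat M → a * b = b * a := by
  have hsolv : Group.IsSolvable ↥M := hG.2.2.2 M hM.1
  obtain ⟨K, hK⟩ := Cfsg.Agent.H1.exists_isPiHallOf (Cfsg.kappa M) M hsolv
  by_cases hK1 : K = ⊥
  · obtain ⟨E, hE⟩ := Cfsg.Agent.Lib.helper3.BG12.exists_compl hG hM
    have hdec : Cfsg.IsSigmaDecomposition M ⊥ E := by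
      refine ⟨isCyclic_of_subsingleton, hK1 ▸ hK, ?_, bot_le⟩
      rw [bot_sup_eq]; exact hE
    have h59 := Cfsg.Agent.S1359.result hG M hM ⊥ E hdec
    refine ⟨E, hE.1, ?_, ?_⟩
    · intro x hx
      obtain ⟨a, ha, b, hb, hab⟩ := hE.2.2.2 x hx.1
      rw [hab]
      exact Subgroup.mul_mem _ (Subgroup.mem_sup_left ha) (Subgroup.mem_sup_right hb)
    · intro a ha haσ b hb hbσ
      have ha' : a ∈ Subgroup.closure ((E : Set G) ∩ Cfsg.sigmaHat M) :=
        Subgroup.subset_closure ⟨ha, haσ⟩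
      have hb' : b ∈ Subgroup.closure ((E : Set G) ∩ Cfsg.sigmaHat M) :=
        Subgroup.subset_closure ⟨hb, hbσ⟩
      have := h59.is_comm.comm (⟨a, ha'⟩ : ↥(Subgroup.closure ((E : Set G) ∩ Cfsg.sigmaHat M)))
        ⟨b, hb'⟩
      exact congrArg Subtype.val this
  · obtain ⟨E, U, h⟩ := Cfsg.Agent.Lib.Helper4.BG14.exists_kdata' hG hM hK hK1
    have hEM : E ≤ M := h.compl.1
    have hUM : U ≤ M := h.UE.trans hEM
    refine ⟨U, hUM, ?_, ?_⟩
    · -- `W := U M_σ ⊴ M` of index `|K|`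
      obtain ⟨W, hWdef⟩ : ∃ W : Subgroup G, W = U ⊔ Cfsg.sigmaCore M := ⟨_, rfl⟩
      rw [← hWdef]
      have hWM : W ≤ M := hWdef ▸ sup_le hUM (sigmaCore_le M)
      have hEW : E ≤ Subgroup.normalizer (W : Set G) := by
        rw [hWdef]
        exact Cfsg.Agent.Lib.helper3.BG14.le_normalizer_sup h.Unorm
          (hEM.trans (le_normalizer_sigmaCore M))
      have hσW : Cfsg.sigmaCore M ≤ Subgroup.normalizer (W : Set G) :=
        (hWdef ▸ le_sup_right : Cfsg.sigmaCore M ≤ W).trans Subgroup.le_normalizer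
      have hMW : M ≤ Subgroup.normalizer (W : Set G) := by
        intro m hm
        obtain ⟨a, ha, b, hb, rfl⟩ := h.compl.2.2.2 m hm
        exact Subgroup.mul_mem _ (hEW ha) (hσW hb)
      haveI hWn : (W.subgroupOf M).Normal := Subgroup.normal_subgroupOf_of_le_normalizer hMW
      -- index of `W` in `M` divides `|K|`
      have hidx : (W.subgroupOf M).index ∣ Nat.card ↥K := by
        have htop : K.subgroupOf M ⊔ W.subgroupOf M = ⊤ := by
          rw [← Subgroup.subgroupOf_sup hK.1 hWM, eq_top_iff]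
          intro m _
          rw [Subgroup.mem_subgroupOf]
          obtain ⟨e, he, s, hs, hes⟩ := h.compl.2.2.2 m.1 m.2
          obtain ⟨u, hu, k, hk, huk⟩ := h.mul e he
          rw [hes, huk]
          have hu' : u ∈ K ⊔ W := Subgroup.mem_sup_right ((hWdef ▸ le_sup_left : U ≤ W) hu)
          have hk' : k ∈ K ⊔ W := Subgroup.mem_sup_left hk
          have hs' : s ∈ K ⊔ W :=
            Subgroup.mem_sup_right ((hWdef ▸ le_sup_right : Cfsg.sigmaCore M ≤ W) hs)
          exact Subgroup.mul_mem _ (Subgroup.mul_mem _ hu' hk') hs'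
        have h1 : (W.subgroupOf M).relIndex (K.subgroupOf M ⊔ W.subgroupOf M) =
            (W.subgroupOf M).relIndex (K.subgroupOf M) :=
          Subgroup.relIndex_sup_right (K.subgroupOf M) (W.subgroupOf M)
        rw [htop, Subgroup.relIndex_top_right] at h1
        rw [h1, ← Cfsg.Agent.Lib.Helper7.card_subgroupOf_of_le hK.1]
        exact Subgroup.relIndex_dvd_card _ _
      -- `|C|` is coprime to `|K|`
      obtain ⟨C, hCdef⟩ : ∃ C : Subgroup G,
          C = M ⊓ Subgroup.centralizer ((Cfsg.sigmaCore M : Subgroup G) : Set G) := ⟨_, rfl⟩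
      rw [← hCdef]
      have hCM : C ≤ M := hCdef ▸ inf_le_left
      have hcop : (Nat.card ↥(C.subgroupOf M)).Coprime (W.subgroupOf M).index := by
        rw [Cfsg.Agent.Lib.Helper7.card_subgroupOf_of_le hCM]
        apply Nat.Coprime.coprime_dvd_right hidx
        apply Nat.coprime_of_dvd
        intro t ht htC htK
        haveI : Fact t.Prime := ⟨ht⟩
        have htκ : t ∈ Cfsg.kappa M := hK.2.1 t ht htK
        obtain ⟨x, hx⟩ := exists_prime_orderOf_dvd_card' (G := ↥C) t htC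
        have hTc : Nat.card ↥(Subgroup.zpowers (x : G)) = t := by
          rw [Nat.card_zpowers, Subgroup.orderOf_coe, hx]
        have hTC : Subgroup.zpowers (x : G) ≤ C := by rw [Subgroup.zpowers_le]; exact x.2
        apply not_sigmaCore_le_centralizer_of_kappa hG hM htκ (hTC.trans hCM) hTc
        rw [Subgroup.le_centralizer_iff]
        refine hTC.trans ?_
        rw [hCdef]
        exact inf_le_right
      have h2 := le_normal_of_coprime_index (W.subgroupOf M) (C.subgroupOf M) hcop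
      intro c hc
      exact Subgroup.mem_subgroupOf.mp (h2 (show (⟨c, hCM hc⟩ : ↥M) ∈ C.subgroupOf M from
        Subgroup.mem_subgroupOf.mpr hc))
    · intro a ha _ b hb _
      have := h.Uab.is_comm.comm (⟨a, ha⟩ : ↥U) ⟨b, hb⟩
      exact congrArg Subtype.val this

/-- `C_M(M_σ)` is nilpotent (of class at most two) -/
theorem centralizer_sigmaCore_nilpotent (hG : Cfsg.IsMinSimpleOddOrder G) {M : Subgroup G}
    (hM : IsCoatom M) :
    Group.IsNilpotent
      ↥(M ⊓ Subgroup.centralizer ((Cfsg.sigmaCore M : Subgroup G) : Set G) : Subgroup G) := by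
  obtain ⟨U', hU'M, hCU', hcomm⟩ := exists_good_compl hG hM
  obtain ⟨C, hCdef⟩ : ∃ C : Subgroup G,
      C = M ⊓ Subgroup.centralizer ((Cfsg.sigmaCore M : Subgroup G) : Set G) := ⟨_, rfl⟩
  rw [← hCdef] at hCU' ⊢
  have hCM : C ≤ M := hCdef ▸ inf_le_left
  have hCc : ∀ c ∈ C, ∀ y ∈ Cfsg.sigmaCore M, y * c = c * y := by
    intro c hc y hy
    rw [hCdef] at hc
    exact Subgroup.mem_centralizer_iff.mp hc.2 y hy
  have hσ1 := Cfsg.Agent.Lib.helper3.BG11.sigmaCore_ne_bot hG hM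
  obtain ⟨y₀, hy₀, hy₀1⟩ := Cfsg.Agent.Lib.Helper4.BG14.exists_ne_one_of_ne_bot hσ1
  haveI hNn : ((Cfsg.sigmaCore M).subgroupOf M).Normal :=
    Subgroup.normal_subgroupOf_of_le_normalizer (le_normalizer_sigmaCore M)
  -- decomposition `c = u s` with `u ∈ U' ∩ M̂_σ`
  have hdec : ∀ c ∈ C, ∃ u ∈ U', u ∈ Cfsg.sigmaHat M ∧ ∃ s ∈ Cfsg.sigmaCore M, u * s = c := by
    intro c hc
    obtain ⟨u, hu, s, hs, hus⟩ :=
      exists_mul_of_mem_sup (hU'M.trans (le_normalizer_sigmaCore M)) (hCU' hc)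
    refine ⟨u, hu, ⟨hU'M hu, ?_⟩, s, hs, hus⟩
    have hu_eq : u = c * s⁻¹ := by rw [← hus]; group
    by_cases hs1 : s = 1
    · refine ⟨y₀, hy₀, hy₀1, ?_⟩
      rw [hu_eq, hs1, inv_one, mul_one]
      exact (hCc c hc y₀ hy₀).symm
    · refine ⟨s, hs, hs1, ?_⟩
      rw [hu_eq]
      have h1 := hCc c hc s hs
      calc c * s⁻¹ * s = c := by group
        _ = s * c * s⁻¹ := by rw [h1]; group
        _ = s * (c * s⁻¹) := by group
  -- the homomorphism `C → M / M_σ`
  let f : ↥C →* ↥M ⧸ (Cfsg.sigmaCore M).subgroupOf M :=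
    (QuotientGroup.mk' ((Cfsg.sigmaCore M).subgroupOf M)).comp (Subgroup.inclusion hCM)
  have hf : ∀ c : ↥C, ∃ u ∈ U', u ∈ Cfsg.sigmaHat M ∧ ∃ huM : u ∈ M,
      f c = QuotientGroup.mk' ((Cfsg.sigmaCore M).subgroupOf M) ⟨u, huM⟩ := by
    intro c
    obtain ⟨u, hu, huσ, s, hs, hus⟩ := hdec c.1 c.2
    refine ⟨u, hu, huσ, hU'M hu, ?_⟩
    show QuotientGroup.mk' _ (Subgroup.inclusion hCM c) = QuotientGroup.mk' _ _
    rw [QuotientGroup.mk'_apply, QuotientGroup.mk'_apply, QuotientGroup.eq]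
    rw [Subgroup.mem_subgroupOf]
    have : ((Subgroup.inclusion hCM c)⁻¹ * (⟨u, hU'M hu⟩ : ↥M) : ↥M).1 = (c : G)⁻¹ * u := rfl
    rw [this, ← hus]
    have : (u * s)⁻¹ * u = s⁻¹ := by group
    rw [this]
    exact Subgroup.inv_mem _ hs
  have hrange : ∀ a ∈ f.range, ∀ b ∈ f.range, a * b = b * a := by
    rintro _ ⟨c₁, rfl⟩ _ ⟨c₂, rfl⟩
    obtain ⟨u₁, hu₁, hu₁σ, hu₁M, h₁⟩ := hf c₁
    obtain ⟨u₂, hu₂, hu₂σ, hu₂M, h₂⟩ := hf c₂
    rw [h₁, h₂, ← map_mul, ← map_mul]
    congr 1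
    exact Subtype.ext (hcomm u₁ hu₁ hu₁σ u₂ hu₂ hu₂σ)
  have hker : f.rangeRestrict.ker ≤ Subgroup.center ↥C := by
    intro c hc
    rw [MonoidHom.ker_rangeRestrict, MonoidHom.mem_ker] at hc
    have hc' : (Subgroup.inclusion hCM c) ∈ (Cfsg.sigmaCore M).subgroupOf M := by
      have : QuotientGroup.mk' ((Cfsg.sigmaCore M).subgroupOf M) (Subgroup.inclusion hCM c) = 1 :=
        hc
      rwa [QuotientGroup.mk'_apply, QuotientGroup.eq_one_iff] at this
    have hcσ : (c : G) ∈ Cfsg.sigmaCore M := Subgroup.mem_subgroupOf.mp hc'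
    rw [Subgroup.mem_center_iff]
    intro d
    exact Subtype.ext (hCc d.1 d.2 c.1 hcσ).symm
  haveI : IsMulCommutative ↥f.range :=
    ⟨⟨fun a b => Subtype.ext (hrange a.1 a.2 b.1 b.2)⟩⟩
  have hnil : Group.IsNilpotent ↥f.range := by
    letI : CommGroup ↥f.range :=
      { (inferInstance : Group ↥f.range) with
        mul_comm := fun a b => Subtype.ext (hrange a.1 a.2 b.1 b.2) }
    exact CommGroup.isNilpotent
  haveI := hnil
  exact Subgroup.isNilpotent_of_ker_le_center f.rangeRestrict hker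

end Cfsg.Agent.Lib.Helper8.BG15
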