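import Mathlib
import Cfsg.Agent.Lib.Helper8.BG15C

/-!
Bender–Glauberman §15, helper8: Theorem 15.2(b) (S1356) in the case `M_σ` nilpotent
(unconditional): `s1356_of_nilpotent`.
-/

set_option autoImplicit false
set_option linter.unusedSectionVars false
set_option linter.unusedVariables false
set_option linter.style.haveILetI false
set_option maxHeartbeats 2000000
open Cfsg
open scoped commutatorElement Pointwise

namespace Cfsg.Agent.Lib.Helper8.BG15

open Cfsg.Agent.Lib.Helper8.BGTen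
open Cfsg.Agent.H2.BG11 (sigmaCore_le le_normalizer_sigmaCore mem_sigma_of_dvd_sigmaCore)
open Cfsg.Agent.Lib.Helper4.TypeP
open Cfsg.Agent.Lib.Helper4.BG14 (KData)

universe u

variable {G : Type u} [Group G] [Finite G]

/-- `F(M) ≤ M` -/
theorem fittingOf_le (M : Subgroup G) : Cfsg.fittingOf M ≤ M := Subgroup.map_subtype_le _

/-- a subgroup `X ≤ M` normalized by `M` and nilpotent lies in `F(M)` -/
theorem le_fittingOf {M X : Subgroup G} (hXM : X ≤ M)
    (hn : M ≤ Subgroup.normalizer (X : Set G)) (hnil : Group.IsNilpotent ↥X) :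
    X ≤ Cfsg.fittingOf M := by
  haveI h1 : (X.subgroupOf M).Normal := Subgroup.normal_subgroupOf_of_le_normalizer hn
  have h2 : Group.IsNilpotent ↥(X.subgroupOf M) :=
    Group.nilpotent_of_mulEquiv (Subgroup.subgroupOfEquivOfLe hXM).symm
  have h3 := Cfsg.Agent.H1.le_fittingSubgroup h1 h2
  intro x hx
  exact ⟨⟨x, hXM hx⟩, h3 (Subgroup.mem_subgroupOf.mpr hx), rfl⟩

/-- `C_M(M_σ) ≤ F(M)` -/
theorem centralizer_sigmaCore_le_fittingOf (hG : Cfsg.IsMinSimpleOddOrder G) {M : Subgroup G}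
    (hM : IsCoatom M) :
    M ⊓ Subgroup.centralizer ((Cfsg.sigmaCore M : Subgroup G) : Set G) ≤ Cfsg.fittingOf M := by
  apply le_fittingOf inf_le_left _ (centralizer_sigmaCore_nilpotent hG hM)
  exact Cfsg.Agent.Lib.Helper4.BGTrans.le_normalizer_inf Subgroup.le_normalizer
    ((le_normalizer_sigmaCore M).trans
      (Cfsg.Agent.Lib.Helper4.BGTrans.normalizer_le_normalizer_centralizer _))

omit [Finite G] in
/-- if `k ∈ M` normalizes `U ≤ M` without nontrivial fixed points then `U ≤ M'` -/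
theorem le_commutator_of_fpf [Finite G] {M U : Subgroup G} {k : G} (hkM : k ∈ M) (hUM : U ≤ M)
    (hkU : k ∈ Subgroup.normalizer (U : Set G))
    (hfpf : U ⊓ Subgroup.centralizer ({k} : Set G) = ⊥) : U ≤ ⁅M, M⁆ := by
  have hkU' : ∀ w ∈ U, k * w * k⁻¹ ∈ U := fun w hw =>
    (Subgroup.mem_normalizer_iff.mp hkU w).mp hw
  let f : ↥U → ↥U := fun w => ⟨(w : G)⁻¹ * (k * w * k⁻¹), U.mul_mem (U.inv_mem w.2) (hkU' w w.2)⟩
  have hinj : Function.Injective f := by
    intro w w' h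
    have h1 : (w : G)⁻¹ * (k * w * k⁻¹) = (w' : G)⁻¹ * (k * w' * k⁻¹) := congrArg Subtype.val h
    have h2 : (w' : G) * (w : G)⁻¹ ∈ U ⊓ Subgroup.centralizer ({k} : Set G) := by
      refine Subgroup.mem_inf.mpr ⟨U.mul_mem w'.2 (U.inv_mem w.2), ?_⟩
      rw [Subgroup.mem_centralizer_iff]
      intro z hz
      rw [Set.mem_singleton_iff] at hz
      rw [hz]
      have e1 : k * ((w' : G) * (w : G)⁻¹) =
          (w' : G) * ((w' : G)⁻¹ * (k * w' * k⁻¹)) * (k * (w : G)⁻¹) := by group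
      have e2 : (w' : G) * (w : G)⁻¹ * k =
          (w' : G) * ((w : G)⁻¹ * (k * w * k⁻¹)) * (k * (w : G)⁻¹) := by group
      rw [e1, e2, h1]
    rw [hfpf, Subgroup.mem_bot] at h2
    apply Subtype.ext
    have e : (w : G) = ((w' : G) * (w : G)⁻¹)⁻¹ * (w' : G) := by group
    rw [e, h2]; group
  have hsurj : Function.Surjective f := Finite.injective_iff_surjective.mp hinj
  intro u hu
  obtain ⟨w, hw⟩ := hsurj ⟨u, hu⟩
  have h1 : u = (w : G)⁻¹ * (k * w * k⁻¹) := (congrArg Subtype.val hw).symm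
  have h2 : u = ⁅(w : G)⁻¹, k⁆ := by
    rw [h1, commutatorElement_def]; group
  rw [h2]
  exact Subgroup.commutator_mem_commutator (M.inv_mem (hUM w.2)) hkM

/-- the `σ(M)'`-part `Y` of `F(M)` centralizes `M_σ` when `M_σ ≤ F(M)` -/
theorem piCoreOf_le_centralizer (hG : Cfsg.IsMinSimpleOddOrder G) {M : Subgroup G} (hM : IsCoatom M)
    (hσF : Cfsg.sigmaCore M ≤ Cfsg.fittingOf M) :
    Cfsg.piCoreOf {q | q.Prime ∧ q ∉ Cfsg.sigma M} (Cfsg.fittingOf M) ≤
      Subgroup.centralizer ((Cfsg.sigmaCore M : Subgroup G) : Set G) := by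
  obtain ⟨Y, hYdef⟩ : ∃ Y : Subgroup G,
      Y = Cfsg.piCoreOf {q | q.Prime ∧ q ∉ Cfsg.sigma M} (Cfsg.fittingOf M) := ⟨_, rfl⟩
  rw [← hYdef]
  have hYF : Y ≤ Cfsg.fittingOf M := hYdef ▸ Subgroup.map_subtype_le _
  have hYM : Y ≤ M := hYF.trans (fittingOf_le M)
  have hFY : Cfsg.fittingOf M ≤ Subgroup.normalizer (Y : Set G) := by
    rw [hYdef]
    exact Cfsg.Agent.Lib.Helper4.TypeP.le_normalizer_map_subtype (Cfsg.fittingOf M) _
  have hcop : (Nat.card ↥Y).Coprime (Nat.card ↥(Cfsg.sigmaCore M)) := by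
    apply Nat.coprime_of_dvd
    intro q hq hd1 hd2
    have h1 : q ∈ {q | q.Prime ∧ q ∉ Cfsg.sigma M} := by
      rw [hYdef] at hd1
      unfold Cfsg.piCoreOf at hd1
      rw [Subgroup.card_map_of_injective (Subgroup.subtype_injective _)] at hd1
      exact Cfsg.Agent.Lib.Lead.PiCore.piCore_isPiNat _ q hq hd1
    exact h1.2 (mem_sigma_of_dvd_sigmaCore hG hM hq hd2)
  have hdisj : Y ⊓ Cfsg.sigmaCore M = ⊥ := (Subgroup.disjoint_of_coprime_natCard hcop).eq_bot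
  intro y hy
  rw [Subgroup.mem_centralizer_iff]
  intro s hs
  have hc : y * s * y⁻¹ * s⁻¹ ∈ Y ⊓ Cfsg.sigmaCore M := by
    refine Subgroup.mem_inf.mpr ⟨?_, ?_⟩
    · have h1 : s * y⁻¹ * s⁻¹ ∈ Y :=
        (Subgroup.mem_normalizer_iff.mp (hFY (hσF hs)) y⁻¹).mp (Y.inv_mem hy)
      have : y * s * y⁻¹ * s⁻¹ = y * (s * y⁻¹ * s⁻¹) := by group
      rw [this]
      exact Y.mul_mem hy h1
    · have h1 : y * s * y⁻¹ ∈ Cfsg.sigmaCore M :=
        (Subgroup.mem_normalizer_iff.mp (le_normalizer_sigmaCore M (hYM hy)) s).mp hs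
      exact Subgroup.mul_mem _ h1 (Subgroup.inv_mem _ hs)
  rw [hdisj, Subgroup.mem_bot] at hc
  have : s * y = (y * s * y⁻¹ * s⁻¹)⁻¹ * (y * s) := by group
  rw [this, hc]; group

/-- `Y ≤ M'` when `κ(M) ≠ ∅` -/
theorem piCoreOf_le_commutator (hG : Cfsg.IsMinSimpleOddOrder G) {M : Subgroup G} (hM : IsCoatom M)
    (hκ : (Cfsg.kappa M).Nonempty) :
    Cfsg.piCoreOf {q | q.Prime ∧ q ∉ Cfsg.sigma M} (Cfsg.fittingOf M) ≤ ⁅M, M⁆ := by
  obtain ⟨Y, hYdef⟩ : ∃ Y : Subgroup G,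
      Y = Cfsg.piCoreOf {q | q.Prime ∧ q ∉ Cfsg.sigma M} (Cfsg.fittingOf M) := ⟨_, rfl⟩
  rw [← hYdef]
  have hYF : Y ≤ Cfsg.fittingOf M := hYdef ▸ Subgroup.map_subtype_le _
  have hYM : Y ≤ M := hYF.trans (fittingOf_le M)
  have hYτ := (Cfsg.Agent.S1439.result hG M hM).2.1
  rw [← hYdef] at hYτ
  have hsolv : Group.IsSolvable ↥M := hG.2.2.2 M hM.1
  obtain ⟨K, hK⟩ := Cfsg.Agent.H1.exists_isPiHallOf (Cfsg.kappa M) M hsolv
  obtain ⟨t, ht⟩ := hκ
  have hK1 : K ≠ ⊥ := by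
    intro h0
    apply hK.2.2 t ht.1 ht
    rw [h0, Subgroup.relIndex_bot_left]
    exact ht.2.1
  obtain ⟨E, U, h⟩ := Cfsg.Agent.Lib.Helper4.BG14.exists_kdata' hG hM hK hK1
  have hEM : E ≤ M := h.compl.1
  have hUM : U ≤ M := h.UE.trans hEM
  obtain ⟨k, hk, hk1⟩ := Cfsg.Agent.Lib.Helper4.BG14.exists_ne_one_of_ne_bot hK1
  have hUc : U ≤ ⁅M, M⁆ :=
    le_commutator_of_fpf (hK.1 hk) hUM (h.Unorm (h.KE hk)) (h.reg k hk hk1)
  have hσc : Cfsg.sigmaCore M ≤ ⁅M, M⁆ :=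
    Cfsg.Agent.Lib.Helper5.BGBeta.sigmaCore_le_commutator hG
      (Cfsg.Agent.Lib.helper3.BG11.uT hG) hM
  -- the index of `M'` divides `|K|`
  have hidx : (_root_.commutator ↥M).index ∣ Nat.card ↥K := by
    have htop : K.subgroupOf M ⊔ _root_.commutator ↥M = ⊤ := by
      rw [eq_top_iff]
      intro m _
      obtain ⟨e, he, s, hs, hes⟩ := h.compl.2.2.2 m.1 m.2
      obtain ⟨u, hu, k', hk', huk⟩ := h.mul e he
      have hmem : ∀ x : G, ∀ hx : x ∈ ⁅M, M⁆, (⟨x, Subgroup.commutator_le_self M hx⟩ : ↥M) ∈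
          _root_.commutator ↥M := by
        intro x hx
        have hx' := hx
        rw [← Subgroup.map_subtype_commutator] at hx'
        obtain ⟨y, hy, hyx⟩ := hx'
        have : y = ⟨x, Subgroup.commutator_le_self M hx⟩ := Subtype.ext hyx
        rwa [this] at hy
      have hm : m = (⟨u, hUM hu⟩ : ↥M) * ⟨k', hK.1 hk'⟩ * ⟨s, sigmaCore_le M hs⟩ := by
        apply Subtype.ext
        show (m : G) = u * k' * s
        rw [hes, huk]
      rw [hm]
      refine Subgroup.mul_mem _ (Subgroup.mul_mem _ ?_ ?_) ?_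
      · exact Subgroup.mem_sup_right (hmem u (hUc hu))
      · exact Subgroup.mem_sup_left (Subgroup.mem_subgroupOf.mpr hk')
      · exact Subgroup.mem_sup_right (hmem s (hσc hs))
    have h1 : (_root_.commutator ↥M).relIndex (K.subgroupOf M ⊔ _root_.commutator ↥M) =
        (_root_.commutator ↥M).relIndex (K.subgroupOf M) :=
      Subgroup.relIndex_sup_right (K.subgroupOf M) (_root_.commutator ↥M)
    rw [htop, Subgroup.relIndex_top_right] at h1
    rw [h1, ← Cfsg.Agent.Lib.Helper7.card_subgroupOf_of_le hK.1]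
    exact Subgroup.relIndex_dvd_card _ _
  have hcop : (Nat.card ↥(Y.subgroupOf M)).Coprime (_root_.commutator ↥M).index := by
    rw [Cfsg.Agent.Lib.Helper7.card_subgroupOf_of_le hYM]
    apply Nat.Coprime.coprime_dvd_right hidx
    apply Nat.coprime_of_dvd
    intro q hq hqY hqK
    exact Cfsg.Agent.Lib.helper3.BG14.not_kappa_of_tau2 (hYτ q hq hqY) (hK.2.1 q hq hqK)
  have h2 := le_normal_of_coprime_index (_root_.commutator ↥M) (Y.subgroupOf M) hcop
  intro y hy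
  rw [← Subgroup.map_subtype_commutator]
  exact ⟨⟨y, hYM hy⟩, h2 (Subgroup.mem_subgroupOf.mpr hy), rfl⟩

/-- **Theorem 15.2(b)** (the statement of S1356) when `M_σ` is nilpotent. -/
theorem s1356_of_nilpotent (hG : Cfsg.IsMinSimpleOddOrder G) (M : Subgroup G) (hM : IsCoatom M)
    (hnil : Group.IsNilpotent ↥(Cfsg.sigmaCore M)) :
    ⁅⁅M, M⁆, ⁅M, M⁆⁆ ≤ Cfsg.fittingOf M ∧
      Cfsg.fittingOf M =
        (M ⊓ Subgroup.centralizer (Cfsg.fittingHallOf M : Set G)) ⊔ Cfsg.fittingHallOf M ∧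
      ((Cfsg.kappa M).Nonempty → Cfsg.fittingOf M ≤ ⁅M, M⁆) := by
  have heq := Cfsg.Agent.Lib.helper3.BG14.sigmaCore_eq_fittingHallOf hG hM hnil
  rw [← heq]
  have hσF : Cfsg.sigmaCore M ≤ Cfsg.fittingOf M :=
    le_fittingOf (sigmaCore_le M) (le_normalizer_sigmaCore M) hnil
  have h39 := (Cfsg.Agent.S1439.result hG M hM).2.2
  have hFσ : Cfsg.fittingOf (Cfsg.sigmaCore M) ≤ Cfsg.sigmaCore M := fittingOf_le _
  refine ⟨(derived_two_le_sigmaCore hG hM).trans hσF, ?_, ?_⟩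
  · apply le_antisymm
    · rw [h39]
      refine sup_le (hFσ.trans le_sup_right) (le_trans ?_ le_sup_left)
      exact le_inf ((Subgroup.map_subtype_le _).trans (fittingOf_le M))
        (piCoreOf_le_centralizer hG hM hσF)
    · exact sup_le (centralizer_sigmaCore_le_fittingOf hG hM) hσF
  · intro hκ
    rw [h39]
    refine sup_le (hFσ.trans ?_) (piCoreOf_le_commutator hG hM hκ)
    exact Cfsg.Agent.Lib.Helper5.BGBeta.sigmaCore_le_commutator hG
      (Cfsg.Agent.Lib.helper3.BG11.uT hG) hM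

end Cfsg.Agent.Lib.Helper8.BG15
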