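import Mathlib

/-!
`SL₂` over a finite field of odd order (author: helper8): the only involution is `-1`, and the
elements of square `-1` form one conjugacy class.
-/

set_option autoImplicit false

namespace Cfsg.Agent.Lib.Helper8.SL2Odd

open Matrix Polynomial

variable {F : Type*} [Field F] [Fintype F]

theorem two_ne_zero' (hF : Odd (Fintype.card F)) : (2 : F) ≠ 0 := by
  apply Ring.two_ne_zero
  intro h
  have := FiniteField.even_card_of_char_two h
  rw [Nat.odd_iff] at hF
  omega

/-- a nondegenerate diagonal binary form represents `1` -/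
theorem exists_repr (hF : Odd (Fintype.card F)) (c : F) (hc : c ≠ 0) :
    ∃ s t : F, c * s ^ 2 + c⁻¹ * t ^ 2 = 1 := by
  have hc' : c⁻¹ ≠ 0 := inv_ne_zero hc
  have hf : degree (C c * X ^ 2 : F[X]) = 2 := by
    rw [degree_C_mul_X_pow 2 hc]; rfl
  have hg : degree (C c⁻¹ * X ^ 2 - C 1 : F[X]) = 2 := by
    have h1 : degree (C c⁻¹ * X ^ 2 : F[X]) = 2 := by
      rw [degree_C_mul_X_pow 2 hc']; rfl
    rw [degree_sub_C (by rw [h1]; decide), h1]
  obtain ⟨s, t, h⟩ := FiniteField.exists_root_sum_quadratic hf hg (Nat.odd_iff.mp hF)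
  refine ⟨s, t, ?_⟩
  simp only [eval_mul, eval_C, eval_pow, eval_X, eval_sub] at h
  linear_combination h

/-- the standard element of order 4 -/
def w : SpecialLinearGroup (Fin 2) F := ⟨!![0, -1; 1, 0], by simp [det_fin_two]⟩

omit [Fintype F] in
theorem w_sq : (w : SpecialLinearGroup (Fin 2) F) ^ 2 = -1 := by
  apply Subtype.ext
  rw [Matrix.SpecialLinearGroup.coe_pow]
  ext i j
  fin_cases i <;> fin_cases j <;> simp [w, pow_two, Matrix.mul_apply, Fin.sum_univ_two]

omit [Fintype F] in
theorem entries (g : SpecialLinearGroup (Fin 2) F) :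
    g.1 0 0 * g.1 1 1 - g.1 0 1 * g.1 1 0 = 1 := by
  have := g.2
  rwa [det_fin_two] at this

omit [Fintype F] in
theorem sq_entries (g : SpecialLinearGroup (Fin 2) F) (z : F)
    (h : (g ^ 2 : SpecialLinearGroup (Fin 2) F).1 = Matrix.scalar (Fin 2) z) :
    g.1 0 0 * g.1 0 0 + g.1 0 1 * g.1 1 0 = z ∧ g.1 0 0 * g.1 0 1 + g.1 0 1 * g.1 1 1 = 0 ∧
    g.1 1 0 * g.1 0 0 + g.1 1 1 * g.1 1 0 = 0 ∧ g.1 1 0 * g.1 0 1 + g.1 1 1 * g.1 1 1 = z := by
  rw [Matrix.SpecialLinearGroup.coe_pow, pow_two] at h
  have e00 := congrFun (congrFun h 0) 0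
  have e01 := congrFun (congrFun h 0) 1
  have e10 := congrFun (congrFun h 1) 0
  have e11 := congrFun (congrFun h 1) 1
  simp [Matrix.mul_apply, Fin.sum_univ_two] at e00 e01 e10 e11
  exact ⟨e00, e01, e10, e11⟩

/-- the only elements of square `1` are `±1` -/
theorem eq_one_or_neg_one (hF : Odd (Fintype.card F)) (g : SpecialLinearGroup (Fin 2) F)
    (h : g ^ 2 = 1) : g = 1 ∨ g = -1 := by
  have h2 := two_ne_zero' hF
  have hdet := entries g
  obtain ⟨e00, e01, e10, e11⟩ := sq_entries g 1 (by rw [h]; simp)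
  by_cases htr : g.1 0 0 + g.1 1 1 = 0
  · exfalso
    apply h2
    have hd : g.1 1 1 = -g.1 0 0 := by linear_combination htr
    rw [hd] at hdet
    linear_combination (-1) * (e00 + hdet)
  · have hb : g.1 0 1 = 0 := by
      have : g.1 0 1 * (g.1 0 0 + g.1 1 1) = 0 := by linear_combination e01
      exact (mul_eq_zero.mp this).resolve_right htr
    have hc : g.1 1 0 = 0 := by
      have : g.1 1 0 * (g.1 0 0 + g.1 1 1) = 0 := by linear_combination e10
      exact (mul_eq_zero.mp this).resolve_right htr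
    rw [hb, hc] at hdet e00 e11
    have ha : (g.1 0 0 - 1) * (g.1 0 0 + 1) = 0 := by linear_combination e00
    have had : g.1 0 0 = g.1 1 1 := by
      have : g.1 0 0 * (g.1 0 0 * g.1 1 1) = g.1 0 0 * 1 := by
        congr 1; linear_combination hdet
      linear_combination g.1 1 1 * e00 - this
    rcases mul_eq_zero.mp ha with h1 | h1
    · left
      apply Subtype.ext
      ext i j
      have ha1 : g.1 0 0 = 1 := by linear_combination h1
      fin_cases i <;> fin_cases j <;> simp [hb, hc, ha1, ← had]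
    · right
      apply Subtype.ext
      ext i j
      have ha1 : g.1 0 0 = -1 := by linear_combination h1
      fin_cases i <;> fin_cases j <;> simp [hb, hc, ha1, ← had]

/-- the elements of square `-1` are conjugate to `w` -/
theorem conj_of_sq_eq_neg_one (hF : Odd (Fintype.card F)) (A : SpecialLinearGroup (Fin 2) F)
    (h : A ^ 2 = -1) : ∃ P : SpecialLinearGroup (Fin 2) F, P * w * P⁻¹ = A := by
  have h2 := two_ne_zero' hF
  have hdet := entries A
  obtain ⟨e00, e01, e10, e11⟩ := sq_entries A (-1) (by rw [h]; ext i j; fin_cases i <;> fin_cases j <;> simp)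
  generalize ha : A.1 0 0 = a at hdet e00 e01 e10 e11
  generalize hb : A.1 0 1 = b at hdet e00 e01 e10 e11
  generalize hc : A.1 1 0 = c at hdet e00 e01 e10 e11
  generalize hd : A.1 1 1 = d at hdet e00 e01 e10 e11
  have htr : a + d = 0 := by
    by_contra htr
    have hb0 : b = 0 := by
      have : b * (a + d) = 0 := by linear_combination e01
      exact (mul_eq_zero.mp this).resolve_right htr
    have hc0 : c = 0 := by
      have : c * (a + d) = 0 := by linear_combination e10
      exact (mul_eq_zero.mp this).resolve_right htr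
    rw [hb0, hc0] at hdet e00 e11
    have : (a + d) * (a + d) = 0 := by linear_combination e00 + e11 + 2 * hdet
    exact htr (mul_self_eq_zero.mp this)
  have hd' : d = -a := by linear_combination htr
  rw [hd'] at hdet
  -- find (s, t)
  have hst : ∃ s t : F, c * s ^ 2 - 2 * a * s * t - b * t ^ 2 = 1 := by
    by_cases hc0 : c = 0
    · have ha0 : a ≠ 0 := by
        intro ha0
        rw [hc0, ha0] at hdet
        simp at hdet
      refine ⟨-(1 + b) / (2 * a), 1, ?_⟩
      rw [hc0]
      field_simp
      ring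
    · obtain ⟨s', t, hs⟩ := exists_repr hF c hc0
      refine ⟨s' + a / c * t, t, ?_⟩
      have hcc : c * c⁻¹ = 1 := mul_inv_cancel₀ hc0
      have e : c * (s' + a / c * t) ^ 2 - 2 * a * (s' + a / c * t) * t - b * t ^ 2
          = c * s' ^ 2 + c⁻¹ * t ^ 2 * (-(a * a) - b * c) := by
        field_simp
        ring
      rw [e]
      have : -(a * a) - b * c = 1 := by linear_combination hdet
      rw [this, mul_one, hs]
  obtain ⟨s, t, hst⟩ := hst
  let P : SpecialLinearGroup (Fin 2) F := ⟨!![s, a * s + b * t; t, c * s - a * t], by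
    rw [det_fin_two_of]; linear_combination hst⟩
  refine ⟨P, ?_⟩
  rw [mul_inv_eq_iff_eq_mul]
  apply Subtype.ext
  rw [Matrix.SpecialLinearGroup.coe_mul, Matrix.SpecialLinearGroup.coe_mul]
  ext i j
  fin_cases i <;> fin_cases j
  · simp [P, w, Matrix.mul_apply, Fin.sum_univ_two, ha, hb]
  · simp [P, w, Matrix.mul_apply, Fin.sum_univ_two, ha, hb]
    linear_combination (-s) * e00
  · simp [P, w, Matrix.mul_apply, Fin.sum_univ_two, hc, hd, hd']
    ring
  · simp [P, w, Matrix.mul_apply, Fin.sum_univ_two, hc, hd, hd']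
    linear_combination (-t) * e00
  
end Cfsg.Agent.Lib.Helper8.SL2Odd
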