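import Mathlib
import Cfsg.Prelude.Def_Characters
import Cfsg.Agent.Lib.Helper4.Hecke

/-!
# Sums of a character over a coset `s R` of a subgroup centralised by `s` (helper8)

If `s` centralises the finite subgroup `R`, then `∑_{r ∈ R} χ(s r) = |R| α` with `α` an algebraic
integer (the trace of `s` on the `R`-fixed points).
-/

set_option autoImplicit false
set_option linter.unusedSectionVars false
set_option linter.style.haveILetI false

namespace Cfsg.Agent.Lib.Helper8.ProjInt

open scoped BigOperators
open Cfsg Module Polynomial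

section linalg

variable {H : Type*} [Group H] [Finite H]
variable {V : Type*} [AddCommGroup V] [Module ℂ V] [FiniteDimensional ℂ V]

theorem exists_isIntegral_sum_character (ρ : Representation ℂ H V) (R : Subgroup H) [Fintype R]
    (s : H) (hs : ∀ r ∈ R, r * s = s * r) :
    ∃ α : ℂ, IsIntegral ℤ α ∧ ∑ r : R, ρ.character (s * (r : H)) = (Fintype.card R : ℂ) * α := by
  classical
  set S : V →ₗ[ℂ] V := ∑ r : R, ρ (r : H) with hS
  have hcard : (Fintype.card R : ℂ) ≠ 0 := by
    have : Fintype.card R ≠ 0 := Fintype.card_ne_zero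
    exact_mod_cast this
  -- `ρ x * S = S` for `x ∈ R`
  have hxS : ∀ x : R, ρ (x : H) * S = S := by
    intro x
    rw [hS, Finset.mul_sum]
    rw [← Equiv.sum_comp (Equiv.mulLeft x) (fun r : R => ρ (r : H))]
    apply Finset.sum_congr rfl
    intro r _
    rw [Equiv.coe_mulLeft, Subgroup.coe_mul, map_mul]
  have hSS : S * S = (Fintype.card R : ℂ) • S := by
    conv_lhs => rw [hS, Finset.sum_mul]
    rw [← hS, Finset.sum_congr rfl (fun x _ => hxS x), Finset.sum_const, Finset.card_univ,
      Nat.cast_smul_eq_nsmul]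
  have hcomm : Commute (ρ s) S := by
    rw [hS]
    apply Commute.sum_right
    intro r _
    show ρ s * ρ (r : H) = ρ (r : H) * ρ s
    rw [← map_mul, ← map_mul, hs r r.2]
  set e : V →ₗ[ℂ] V := (Fintype.card R : ℂ)⁻¹ • S with he
  have hee : e * e = e := by
    rw [he, smul_mul_smul_comm, hSS, smul_smul, mul_assoc, inv_mul_cancel₀ hcard, mul_one]
  have hcomm' : Commute (ρ s) e := by
    rw [he]
    exact hcomm.smul_right _
  have hepow : ∀ k : ℕ, e ^ (k + 1) = e := by
    intro k
    induction k with
    | zero => rw [zero_add, pow_one]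
    | succ k ih => rw [pow_succ, ih, hee]
  set T : V →ₗ[ℂ] V := ρ s * e with hT
  set m := orderOf s with hm
  have hmpos : 0 < m := orderOf_pos s
  have hTpow : T ^ (m + 1) = T := by
    rw [hT, hcomm'.mul_pow, hepow, pow_succ, ← map_pow, hm, pow_orderOf_eq_one, map_one, one_mul]
  have hTint : IsIntegral ℤ T := by
    refine ⟨X ^ (m + 1) - X, ?_, ?_⟩
    · apply Polynomial.monic_X_pow_sub
      rw [Polynomial.degree_X]
      have : (1 : ℕ) < m + 1 := by omega
      exact_mod_cast this
    · rw [Polynomial.eval₂_sub, Polynomial.eval₂_X_pow, Polynomial.eval₂_X, hTpow, sub_self]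
  refine ⟨LinearMap.trace ℂ V T, Cfsg.Agent.Lib.Helper4.Hecke.isIntegral_trace_of_isIntegral T hTint,
    ?_⟩
  have h1 : ∑ r : R, ρ.character (s * (r : H)) = LinearMap.trace ℂ V (ρ s * S) := by
    rw [hS, Finset.mul_sum, map_sum]
    apply Finset.sum_congr rfl
    intro r _
    show LinearMap.trace ℂ V (ρ (s * (r : H))) = _
    rw [map_mul]
  rw [h1, hT, he, mul_smul_comm, map_smul, smul_eq_mul, ← mul_assoc, mul_inv_cancel₀ hcard, one_mul]

end linalg

end Cfsg.Agent.Lib.Helper8.ProjInt
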