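import Mathlib
import Cfsg.Prelude.Def_Characters
import Cfsg.Prelude.Def_Blocks
import Cfsg.Agent.Lib.helper3.SecMain13
import Cfsg.Agent.Lib.Helper8.ProjInt1

/-!
# Projective integrality (helper8)

A local combination `Φ` of characters of a finite group `H` vanishing on all `p`-singular elements
satisfies `Φ(s) / |C_H(s)| ∈` local ring, for every `s`.
-/

set_option autoImplicit false
set_option linter.unusedSectionVars false
set_option linter.style.haveILetI false

namespace Cfsg.Agent.Lib.Helper8.ProjInt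

open scoped BigOperators
open Cfsg Module

variable {H : Type*} [Group H] [Finite H]

theorem dvd_orderOf_mul {p : ℕ} (hp : p.Prime) {s r : H} (hs : ¬ p ∣ orderOf s) {k : ℕ}
    (hr : orderOf r = p ^ k) (hr1 : r ≠ 1) (hc : Commute s r) : p ∣ orderOf (s * r) := by
  have hco : (orderOf s).Coprime (orderOf r) := by
    rw [hr]
    exact Nat.Coprime.pow_right k ((Nat.Prime.coprime_iff_not_dvd hp).2 hs).symm
  rw [hc.orderOf_mul_eq_mul_orderOf_of_coprime hco, hr]
  have hk : k ≠ 0 := by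
    intro h0
    rw [h0, pow_zero, orderOf_eq_one_iff] at hr
    exact hr1 hr
  exact dvd_mul_of_dvd_right (dvd_pow_self p hk) _

/-- **Projective integrality.** -/
theorem memLocalRing_div_card_centralizer {p : ℕ} {M : Ideal AlgInt} (hM : IsPModular p M)
    {ι : Type*} (S : Finset ι) (a : ι → ℂ) (ψ : ι → H → ℂ)
    (ha : ∀ i ∈ S, MemLocalRing M (a i)) (hψ : ∀ i ∈ S, IsCharacter H (ψ i))
    (hvan : ∀ h : H, ¬ IsPRegular p h → ∑ i ∈ S, a i * ψ i h = 0) (s : H) :
    MemLocalRing M ((∑ i ∈ S, a i * ψ i s) /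
      (Nat.card (Subgroup.centralizer ({s} : Set H)) : ℂ)) := by
  classical
  haveI : Fact p.Prime := ⟨hM.1⟩
  haveI : M.IsPrime := hM.2.1.isPrime
  by_cases hreg : IsPRegular p s
  swap
  · rw [hvan s hreg, zero_div]
    exact Cfsg.Agent.Lib.helper3.Block.memLocalRing_of_integral isIntegral_zero
  set C := Subgroup.centralizer ({s} : Set H) with hC
  let Q : Sylow p C := default
  set R : Subgroup H := (Q : Subgroup C).map C.subtype with hR
  haveI : Fintype R := Fintype.ofFinite R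
  have hRcomm : ∀ r ∈ R, r * s = s * r := by
    rintro r ⟨c, -, rfl⟩
    exact (Subgroup.mem_centralizer_iff.1 c.2 s rfl).symm
  have hRp : ∀ r ∈ R, ∃ k : ℕ, orderOf r = p ^ k := by
    rintro r ⟨c, hc, rfl⟩
    obtain ⟨k, hk⟩ := (IsPGroup.iff_orderOf.1 Q.isPGroup') ⟨c, hc⟩
    refine ⟨k, ?_⟩
    rw [← hk]
    show orderOf ((c : C) : H) = _
    rw [Subgroup.orderOf_coe, ← Subgroup.orderOf_coe (⟨c, hc⟩ : (Q : Subgroup C))]
  have hcardR : Nat.card R = p ^ (Nat.card C).factorization p := by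
    rw [hR, Nat.card_congr
      ((Q : Subgroup C).equivMapOfInjective C.subtype C.subtype_injective).symm.toEquiv]
    exact Q.card_eq_multiplicity
  have hα : ∀ i ∈ S, ∃ α : ℂ, IsIntegral ℤ α ∧
      ∑ r : R, ψ i (s * (r : H)) = (Fintype.card R : ℂ) * α := by
    intro i hi
    obtain ⟨n, ρ, hρ⟩ := hψ i hi
    rw [← hρ]
    exact exists_isIntegral_sum_character ρ R s hRcomm
  choose! α hαint hαsum using hα
  have h1 : ∑ r : R, ∑ i ∈ S, a i * ψ i (s * (r : H)) = ∑ i ∈ S, a i * ψ i s := by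
    rw [Finset.sum_eq_single (1 : R)]
    · simp
    · intro r _ hr
      apply hvan
      obtain ⟨k, hk⟩ := hRp r r.2
      have hr1 : (r : H) ≠ 1 := fun h => hr (Subtype.ext h)
      have := dvd_orderOf_mul hM.1 hreg hk hr1 (hRcomm r r.2).symm
      exact fun h => h this
    · intro h
      exact absurd (Finset.mem_univ _) h
  have h2 : ∑ r : R, ∑ i ∈ S, a i * ψ i (s * (r : H)) =
      (Fintype.card R : ℂ) * ∑ i ∈ S, a i * α i := by
    rw [Finset.sum_comm, Finset.mul_sum]
    apply Finset.sum_congr rfl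
    intro i hi
    rw [← Finset.mul_sum, hαsum i hi]
    ring
  rw [← h1, h2, mul_comm, mul_div_assoc]
  apply Cfsg.Agent.Lib.helper3.Block.memLocalRing_mul
  · exact Cfsg.Agent.Lib.helper3.Block.memLocalRing_sum S _ (fun i hi =>
      Cfsg.Agent.Lib.helper3.Block.memLocalRing_mul (ha i hi)
        (Cfsg.Agent.Lib.helper3.Block.memLocalRing_of_integral (hαint i hi)))
  · rw [← Nat.card_eq_fintype_card]
    apply Cfsg.Agent.Lib.helper3.Block.memLocalRing_natCast_div hM _ _ Nat.card_pos.ne'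
      Nat.card_pos.ne'
    rw [hcardR, hM.1.factorization_pow, Finsupp.single_eq_same]

/-- Function form of projective integrality. -/
theorem memLocalRing_div_card_centralizer' {p : ℕ} {M : Ideal AlgInt} (hM : IsPModular p M)
    {ι : Type*} (S : Finset ι) (a : ι → ℂ) (ψ : ι → H → ℂ)
    (ha : ∀ i ∈ S, MemLocalRing M (a i)) (hψ : ∀ i ∈ S, IsCharacter H (ψ i))
    (Φ : H → ℂ) (hΦ : ∀ h : H, Φ h = ∑ i ∈ S, a i * ψ i h)
    (hvan : ∀ h : H, ¬ IsPRegular p h → Φ h = 0) (s : H) :
    MemLocalRing M (Φ s / (Nat.card (Subgroup.centralizer ({s} : Set H)) : ℂ)) := by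
  rw [hΦ s]
  exact memLocalRing_div_card_centralizer hM S a ψ ha hψ
    (fun h hh => by rw [← hΦ h]; exact hvan h hh) s

end Cfsg.Agent.Lib.Helper8.ProjInt
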