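import Mathlib
import Cfsg.Prelude.Def_Characters
import Cfsg.Prelude.Def_Blocks
import Cfsg.Agent.Lib.helper3.Irr2
import Cfsg.Agent.Lib.helper3.Irr5
import Cfsg.Agent.Lib.Helper8.ProjInt2

/-!
# Projective integrality, in the shapes used for perfect isometries (helper8)
-/

set_option autoImplicit false
set_option linter.unusedSectionVars false
set_option linter.style.haveILetI false

namespace Cfsg.Agent.Lib.Helper8.ProjInt

open scoped BigOperators
open Cfsg Module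

variable {H : Type*} [Group H] [Finite H] {M : Ideal AlgInt}

/-- Sum over all irreducible characters, algebraic integer coefficients. -/
theorem div_card_centralizer_mem (p : ℕ) [Fact p.Prime] (hM : IsPModular p M)
    [Fintype (IrrCharacter H)] (a : IrrCharacter H → ℂ) (ha : ∀ θ, IsIntegral ℤ (a θ))
    (hvan : ∀ g : H, p ∣ orderOf g → ∑ θ, a θ * (θ : H → ℂ) g = 0) (s : H) :
    MemLocalRing M ((∑ θ, a θ * (θ : H → ℂ) s) /
      (Nat.card ↥(Subgroup.centralizer ({s} : Set H)) : ℂ)) := by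
  haveI : M.IsPrime := hM.2.1.isPrime
  exact memLocalRing_div_card_centralizer hM Finset.univ a (fun θ => (θ : H → ℂ))
    (fun θ _ => Cfsg.Agent.Lib.helper3.Block.memLocalRing_of_integral (ha θ))
    (fun θ _ => Cfsg.Agent.Lib.helper3.Irr.isCharacter_of_isIrrCharacter θ.2)
    (fun h hh => hvan h (not_not.1 hh)) s

/-- Sum over a set of irreducible characters (as a `finsum`), algebraic integer coefficients. -/
theorem div_card_centralizer_mem_finsum (p : ℕ) [Fact p.Prime] (hM : IsPModular p M)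
    (𝔅 : Set (IrrCharacter H)) (a : IrrCharacter H → ℂ) (ha : ∀ θ ∈ 𝔅, IsIntegral ℤ (a θ))
    (hvan : ∀ g : H, p ∣ orderOf g → ∑ᶠ θ ∈ 𝔅, a θ * (θ : H → ℂ) g = 0) (s : H) :
    MemLocalRing M ((∑ᶠ θ ∈ 𝔅, a θ * (θ : H → ℂ) s) /
      (Nat.card ↥(Subgroup.centralizer ({s} : Set H)) : ℂ)) := by
  classical
  haveI : M.IsPrime := hM.2.1.isPrime
  have hfin : 𝔅.Finite := Set.toFinite 𝔅
  have hrw : ∀ g : H, ∑ᶠ θ ∈ 𝔅, a θ * (θ : H → ℂ) g = ∑ θ ∈ hfin.toFinset, a θ * (θ : H → ℂ) g :=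
    fun g => finsum_mem_eq_finite_toFinset_sum _ hfin
  rw [hrw s]
  exact memLocalRing_div_card_centralizer hM hfin.toFinset a (fun θ => (θ : H → ℂ))
    (fun θ hθ => Cfsg.Agent.Lib.helper3.Block.memLocalRing_of_integral
      (ha θ (hfin.mem_toFinset.1 hθ)))
    (fun θ _ => Cfsg.Agent.Lib.helper3.Irr.isCharacter_of_isIrrCharacter θ.2)
    (fun h hh => by rw [← hrw h]; exact hvan h (not_not.1 hh)) s

/-- Same with local coefficients. -/
theorem div_card_centralizer_mem_finsum' (p : ℕ) [Fact p.Prime] (hM : IsPModular p M)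
    (𝔅 : Set (IrrCharacter H)) (a : IrrCharacter H → ℂ) (ha : ∀ θ ∈ 𝔅, MemLocalRing M (a θ))
    (hvan : ∀ g : H, p ∣ orderOf g → ∑ᶠ θ ∈ 𝔅, a θ * (θ : H → ℂ) g = 0) (s : H) :
    MemLocalRing M ((∑ᶠ θ ∈ 𝔅, a θ * (θ : H → ℂ) s) /
      (Nat.card ↥(Subgroup.centralizer ({s} : Set H)) : ℂ)) := by
  classical
  have hfin : 𝔅.Finite := Set.toFinite 𝔅
  have hrw : ∀ g : H, ∑ᶠ θ ∈ 𝔅, a θ * (θ : H → ℂ) g = ∑ θ ∈ hfin.toFinset, a θ * (θ : H → ℂ) g :=
    fun g => finsum_mem_eq_finite_toFinset_sum _ hfin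
  rw [hrw s]
  exact memLocalRing_div_card_centralizer hM hfin.toFinset a (fun θ => (θ : H → ℂ))
    (fun θ hθ => ha θ (hfin.mem_toFinset.1 hθ))
    (fun θ _ => Cfsg.Agent.Lib.helper3.Irr.isCharacter_of_isIrrCharacter θ.2)
    (fun h hh => by rw [← hrw h]; exact hvan h (not_not.1 hh)) s

end Cfsg.Agent.Lib.Helper8.ProjInt
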