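import Mathlib

set_option autoImplicit false
set_option linter.unusedVariables false

namespace Cfsg.Agent.Lib.Helper8.PF7

open Finset

/-- `1 > (h-1)/(eh) + e/h + (e-1)/(h+1)` for `e ≥ 2`, `h ≥ 2e+1`. -/
theorem key_ineq' (e h : ℚ) (he : 2 ≤ e) (hh : 2 * e + 1 ≤ h) :
    (h - 1) / (e * h) + e / h + (e - 1) / (h + 1) < 1 := by
  have he0 : (0 : ℚ) < e := by linarith
  have hh0 : (0 : ℚ) < h := by linarith
  have hh1 : (0 : ℚ) < h + 1 := by linarith
  have h1 : (h - 1) / (e * h) + e / h + (e - 1) / (h + 1)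
      = ((h - 1) * (h + 1) + e ^ 2 * (h + 1) + (e - 1) * (e * h)) / (e * h * (h + 1)) := by
    field_simp
  rw [h1, div_lt_one (by positivity)]
  have h2 : 0 < (e - 1) * (h ^ 2 - 2 * e * h - (e + 1)) := by
    apply mul_pos (by linarith)
    nlinarith
  nlinarith

/-- **Endgame** (helper3's variant of the last step of Peterfalvi (7.11)):
with `m` the index of minimal `h`. -/
theorem endgame' {ι : Type*} [Fintype ι] [DecidableEq ι] [Nonempty ι] (e h : ι → ℕ)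
    (a : ι → ι → ℤ) (N : ℚ) (hN : 0 < N)
    (he : ∀ i, 2 ≤ e i) (hh : ∀ i, 2 * e i + 1 ≤ h i) (hinj : ∀ i j, i ≠ j → h i ≠ h j)
    (hP : ∑ i, (((h i : ℚ) - 1) / (e i * h i)) = 1 - 1 / N)
    (hR : ∀ m, ∑ j ∈ Finset.univ.erase m, (a j m : ℚ) ^ 2 * (((h j : ℚ) - 1) / (e j * h j))
        ≤ (e m : ℚ) / h m - 1 / N)
    (hC : ∀ m, ∑ j ∈ Finset.univ.erase m, (((h j : ℚ) - 1) / e j) * (a m j : ℚ) ^ 2
        ≤ (e m : ℚ) - 1)
    (hPar : ∀ i l, i ≠ l → a i l ≠ 0 ∨ a l i ≠ 0) : False := by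
  classical
  obtain ⟨m, -, hm⟩ := Finset.exists_min_image (univ : Finset ι) h ⟨Classical.arbitrary ι, mem_univ _⟩
  have hm' : ∀ j, j ≠ m → h m + 1 ≤ h j := by
    intro j hj
    have h1 := hm j (mem_univ j)
    have h2 := hinj j m hj
    omega
  set w : ι → ℚ := fun j => ((h j : ℚ) - 1) / (e j * h j) with hw
  have hepos : ∀ i, (0 : ℚ) < e i := by
    intro i
    have : (2 : ℚ) ≤ e i := by exact_mod_cast he i
    linarith
  have hhpos : ∀ i, (0 : ℚ) < h i := by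
    intro i
    have h1 : (2 : ℚ) ≤ e i := by exact_mod_cast he i
    have h2 : 2 * (e i : ℚ) + 1 ≤ h i := by exact_mod_cast hh i
    linarith
  have hh1 : ∀ i, (0 : ℚ) ≤ (h i : ℚ) - 1 := by
    intro i
    have h1 : (2 : ℚ) ≤ e i := by exact_mod_cast he i
    have h2 : 2 * (e i : ℚ) + 1 ≤ h i := by exact_mod_cast hh i
    linarith
  have hw0 : ∀ i, 0 ≤ w i := fun i =>
    div_nonneg (hh1 i) (mul_pos (hepos i) (hhpos i)).le
  have hm1 : (0 : ℚ) < (h m : ℚ) + 1 := by linarith [hhpos m]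
  have hterm : ∀ j ∈ univ.erase m,
      w j ≤ (a j m : ℚ) ^ 2 * w j
        + ((((h j : ℚ) - 1) / e j) * (a m j : ℚ) ^ 2) / ((h m : ℚ) + 1) := by
    intro j hj
    have hjm : j ≠ m := (mem_erase.mp hj).1
    have hge : (h m : ℚ) + 1 ≤ h j := by exact_mod_cast hm' j hjm
    have hq0 : (0 : ℚ) ≤ ((h j : ℚ) - 1) / e j := div_nonneg (hh1 j) (hepos j).le
    by_cases h0 : a j m = 0
    · have h1 : a m j ≠ 0 := by
        rcases hPar m j (Ne.symm hjm) with h | h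
        · exact h
        · exact absurd h0 h
      have h2 : (1 : ℚ) ≤ (a m j : ℚ) ^ 2 := by
        have : (1 : ℤ) ≤ (a m j) ^ 2 := by
          have := sq_pos_of_ne_zero (a := a m j) h1 |> Int.add_one_le_iff.mpr
          simpa using this
        exact_mod_cast this
      have h3 : w j = (((h j : ℚ) - 1) / e j) / h j := by
        rw [hw]; simp only; rw [div_div]
      have h4 : (((h j : ℚ) - 1) / e j) / h j ≤ (((h j : ℚ) - 1) / e j) / ((h m : ℚ) + 1) :=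
        div_le_div_of_nonneg_left hq0 hm1 hge
      have h5 : (((h j : ℚ) - 1) / e j) / ((h m : ℚ) + 1)
          ≤ ((((h j : ℚ) - 1) / e j) * (a m j : ℚ) ^ 2) / ((h m : ℚ) + 1) := by
        apply div_le_div_of_nonneg_right _ hm1.le
        nlinarith
      have h6 : (0 : ℚ) ≤ (a j m : ℚ) ^ 2 * w j := mul_nonneg (sq_nonneg _) (hw0 j)
      linarith
    · have h2 : (1 : ℚ) ≤ (a j m : ℚ) ^ 2 := by
        have : (1 : ℤ) ≤ (a j m) ^ 2 := by
          have := sq_pos_of_ne_zero (a := a j m) h0 |> Int.add_one_le_iff.mpr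
          simpa using this
        exact_mod_cast this
      have h5 : (0 : ℚ) ≤ ((((h j : ℚ) - 1) / e j) * (a m j : ℚ) ^ 2) / ((h m : ℚ) + 1) :=
        div_nonneg (mul_nonneg hq0 (sq_nonneg _)) hm1.le
      nlinarith [hw0 j]
  have hsum : ∑ j ∈ univ.erase m, w j
      ≤ ∑ j ∈ univ.erase m, (a j m : ℚ) ^ 2 * w j
        + (∑ j ∈ univ.erase m, (((h j : ℚ) - 1) / e j) * (a m j : ℚ) ^ 2) / ((h m : ℚ) + 1) := by
    calc ∑ j ∈ univ.erase m, w j
        ≤ ∑ j ∈ univ.erase m, ((a j m : ℚ) ^ 2 * w j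
            + ((((h j : ℚ) - 1) / e j) * (a m j : ℚ) ^ 2) / ((h m : ℚ) + 1)) :=
          Finset.sum_le_sum hterm
      _ = _ := by rw [Finset.sum_add_distrib, ← Finset.sum_div]
  have hsplit : ∑ i, w i = w m + ∑ j ∈ univ.erase m, w j := by
    rw [Finset.add_sum_erase _ _ (mem_univ m)]
  have hPm : ∑ i, w i = 1 - 1 / N := hP
  have hRm : ∑ j ∈ univ.erase m, (a j m : ℚ) ^ 2 * w j ≤ (e m : ℚ) / h m - 1 / N := hR m
  have hCm : (∑ j ∈ univ.erase m, (((h j : ℚ) - 1) / e j) * (a m j : ℚ) ^ 2) / ((h m : ℚ) + 1)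
      ≤ ((e m : ℚ) - 1) / ((h m : ℚ) + 1) :=
    div_le_div_of_nonneg_right (hC m) hm1.le
  have hkey := key_ineq' (e m) (h m) (by exact_mod_cast he m) (by exact_mod_cast hh m)
  have hwm : w m = ((h m : ℚ) - 1) / (e m * h m) := rfl
  linarith

end Cfsg.Agent.Lib.Helper8.PF7
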