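import Mathlib

/-!
The map `SL₂(R) → PSL₂(F)` induced by a ring isomorphism `R ≃+* F` onto a field (author: helper8),
with its kernel `{±1}`: used to transport concrete matrix computations over `ZMod p` (or another
concrete model) to `PSL₂` of an abstract finite field.
-/

set_option autoImplicit false

namespace Cfsg.Agent.Lib.Helper8.PSL2Map

open Matrix

variable {R : Type*} [CommRing R] {F : Type*} [Field F] (e : R ≃+* F)

/-- `SL₂(R) → PSL₂(F)` -/
def psi : SpecialLinearGroup (Fin 2) R →* Matrix.ProjectiveSpecialLinearGroup (Fin 2) F :=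
  (QuotientGroup.mk' _).comp (SpecialLinearGroup.map e.toRingHom)

theorem map_coe (X : SpecialLinearGroup (Fin 2) R) (i j : Fin 2) :
    (SpecialLinearGroup.map e.toRingHom X : Matrix (Fin 2) (Fin 2) F) i j =
      e ((X : Matrix (Fin 2) (Fin 2) R) i j) := by
  rw [SpecialLinearGroup.map_apply_coe, RingHom.mapMatrix_apply]
  rfl

theorem psi_eq_one_iff (X : SpecialLinearGroup (Fin 2) R) :
    psi e X = 1 ↔ (X : Matrix (Fin 2) (Fin 2) R) = 1 ∨ (X : Matrix (Fin 2) (Fin 2) R) = -1 := by
  unfold psi
  rw [MonoidHom.comp_apply, QuotientGroup.mk'_apply, QuotientGroup.eq_one_iff,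
    Matrix.SpecialLinearGroup.mem_center_iff]
  constructor
  · rintro ⟨r, hr1, hr2⟩
    have hr : r = 1 ∨ r = -1 := by
      have : r ^ 2 = 1 := by simpa using hr1
      exact sq_eq_one_iff.1 this
    have hent : ∀ i j, e ((X : Matrix (Fin 2) (Fin 2) R) i j) = if i = j then r else 0 := by
      intro i j
      rw [← map_coe, ← hr2, Matrix.scalar_apply, Matrix.diagonal_apply]
    rcases hr with rfl | rfl
    · left
      ext i j
      apply e.injective
      rw [hent, Matrix.one_apply]
      split_ifs <;> simp
    · right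
      ext i j
      apply e.injective
      rw [hent, Matrix.neg_apply, Matrix.one_apply]
      split_ifs <;> simp
  · rintro (h | h)
    · refine ⟨1, one_pow _, ?_⟩
      ext i j
      rw [map_coe, h, Matrix.scalar_apply, Matrix.diagonal_apply, Matrix.one_apply]
      split_ifs <;> simp
    · refine ⟨-1, by simp, ?_⟩
      ext i j
      rw [map_coe, h, Matrix.scalar_apply, Matrix.diagonal_apply, Matrix.neg_apply,
        Matrix.one_apply]
      split_ifs <;> simp

theorem psi_eq_iff (X Y : SpecialLinearGroup (Fin 2) R) :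
    psi e X = psi e Y ↔ (X : Matrix (Fin 2) (Fin 2) R) = (Y : Matrix (Fin 2) (Fin 2) R) ∨
      (X : Matrix (Fin 2) (Fin 2) R) = -(Y : Matrix (Fin 2) (Fin 2) R) := by
  rw [← mul_inv_eq_one, ← map_inv, ← map_mul, psi_eq_one_iff]
  constructor
  · rintro (h | h)
    · left
      have h1 : X * Y⁻¹ = 1 := Subtype.ext h
      rw [mul_inv_eq_one] at h1
      rw [h1]
    · right
      have h1 : X * Y⁻¹ = -1 := Subtype.ext (by rw [h]; simp)
      have h2 : X = -Y := by
        rw [mul_inv_eq_iff_eq_mul] at h1
        rw [h1, neg_mul, one_mul]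
      rw [h2, SpecialLinearGroup.coe_neg]
  · rintro (h | h)
    · left
      have : X = Y := Subtype.ext h
      rw [this, mul_inv_cancel]; rfl
    · right
      have hX : X = -Y := Subtype.ext (by rw [SpecialLinearGroup.coe_neg]; exact h)
      rw [hX, neg_mul, mul_inv_cancel]
      simp

end Cfsg.Agent.Lib.Helper8.PSL2Map
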