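import Mathlib
import Cfsg.Agent.S3335

set_option autoImplicit false

/-! Recognising the alternating group `A_{k+3}` from Carmichael generators. -/

namespace Cfsg.Agent.Lib.Helper8.AltPresentation

open Cfsg.Agent.S3335

theorem card_G (k : ℕ) : 2 * Nat.card (G k) = (k + 3).factorial := by
  rw [Nat.card_congr (iso k).toEquiv, Nat.card_eq_fintype_card,
    two_mul_card_alternatingGroup, Fintype.card_perm, Fintype.card_fin]

theorem simple_G (k : ℕ) (hk : 2 ≤ k) : IsSimpleGroup (G k) := by
  have h : IsSimpleGroup (alternatingGroup (Fin (k + 1 + 1 + 1))) :=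
    alternatingGroup.isSimpleGroup (by rw [Nat.card_eq_fintype_card, Fintype.card_fin]; omega)
  exact (iso k).isSimpleGroup

/-- A group of order `(k+3)!/2` containing Carmichael generators (the first one nontrivial)
is isomorphic to `A_{k+3}`. -/
theorem iso_of_gens {Q : Type*} [Group Q] (k : ℕ) (hk : 2 ≤ k) (y : ℕ → Q)
    (h0 : y 0 ^ 3 = 1)
    (h1 : ∀ i, 1 ≤ i → i ≤ k → y i ^ 2 = 1)
    (h2 : ∀ i, i + 1 ≤ k → (y i * y (i + 1)) ^ 3 = 1)
    (h3 : ∀ i j, i + 1 < j → j ≤ k → (y i * y j) ^ 2 = 1)
    (hne : y 0 ≠ 1) (hcard : 2 * Nat.card Q = (k + 3).factorial) :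
    Nonempty (Q ≃* alternatingGroup (Fin (k + 1 + 1 + 1))) := by
  have hs := simple_G k hk
  let φ : G k →* Q := homOf k y h0 h1 h2 h3
  have hφ0 : φ (x k 0) = y 0 := by
    rw [x_of_lt k 0 (by omega)]
    exact homOf_of k y h0 h1 h2 h3 ⟨0, by omega⟩
  have hker : φ.ker = ⊥ := by
    rcases φ.normal_ker.eq_bot_or_eq_top with h | h
    · exact h
    · exfalso
      apply hne
      rw [← hφ0]
      have : x k 0 ∈ φ.ker := by rw [h]; trivial
      exact this
  have hinj : Function.Injective φ := (MonoidHom.ker_eq_bot_iff φ).1 hker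
  have hc : Nat.card Q = Nat.card (G k) := by
    have := card_G k
    omega
  have hfin : Finite Q := by
    apply Nat.finite_of_card_ne_zero
    have := Nat.factorial_pos (k + 3)
    omega
  have hbij : Function.Bijective φ := hinj.bijective_of_nat_card_le hc.le
  exact ⟨((MulEquiv.ofBijective φ hbij).symm).trans (iso k)⟩

end Cfsg.Agent.Lib.Helper8.AltPresentation
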