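import Mathlib

/-!
# Operators with two eigenvalues: complement and determinant (helper8)
-/

set_option autoImplicit false
set_option linter.unusedSectionVars false

namespace Cfsg.Agent.Lib.Helper8.Singer3

open Module

universe u

section TwoEig

variable {F : Type*} [Field F] {V : Type u} [AddCommGroup V] [Module F V]

/-- the `l`-eigenspace -/
def Eg (x : V →ₗ[F] V) (l : F) : Submodule F V := LinearMap.ker (x - l • LinearMap.id)

theorem mem_Eg (x : V →ₗ[F] V) (l : F) (v : V) : v ∈ Eg x l ↔ x v = l • v := by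
  unfold Eg
  rw [LinearMap.mem_ker, LinearMap.sub_apply, LinearMap.smul_apply, LinearMap.id_apply, sub_eq_zero]

variable (x : V →ₗ[F] V) (l m : F) (hlm : l ≠ m)
  (hx : ∀ v, x (x v) = (l + m) • x v - (l * m) • v)

include hlm hx

theorem comp_l_mem (v : V) : ((l - m)⁻¹) • (x v - m • v) ∈ Eg x l := by
  rw [mem_Eg, map_smul, map_sub, map_smul, hx]
  module

theorem comp_m_mem (v : V) : ((l - m)⁻¹) • (l • v - x v) ∈ Eg x m := by
  rw [mem_Eg, map_smul, map_sub, map_smul, hx]
  module

theorem comp_add (v : V) :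
    ((l - m)⁻¹) • (x v - m • v) + ((l - m)⁻¹) • (l • v - x v) = v := by
  have h : l - m ≠ 0 := sub_ne_zero.2 hlm
  rw [← smul_add]
  have : x v - m • v + (l • v - x v) = (l - m) • v := by
    rw [sub_smul]
    abel
  rw [this, smul_smul, inv_mul_cancel₀ h, one_smul]

theorem isCompl_Eg : IsCompl (Eg x l) (Eg x m) := by
  have h : l - m ≠ 0 := sub_ne_zero.2 hlm
  constructor
  · rw [Submodule.disjoint_def]
    intro v hp hm
    rw [mem_Eg] at hp hm
    have h1 : (l - m) • v = 0 := by
      rw [sub_smul, ← hp, ← hm, sub_self]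
    exact (smul_eq_zero.1 h1).resolve_left h
  · rw [codisjoint_iff, eq_top_iff]
    intro v _
    rw [← comp_add x l m hlm hx v]
    exact Submodule.add_mem_sup (comp_l_mem x l m hlm hx v) (comp_m_mem x l m hlm hx v)

theorem det_two_eig [FiniteDimensional F V] :
    LinearMap.det x = l ^ finrank F (Eg x l) * m ^ finrank F (Eg x m) := by
  have hc := isCompl_Eg x l m hlm hx
  set e := Submodule.prodEquivOfIsCompl (Eg x l) (Eg x m) hc with he
  have hconj : x = (e : (↥(Eg x l) × ↥(Eg x m)) →ₗ[F] V) ∘ₗ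
      (LinearMap.prodMap (l • (LinearMap.id : ↥(Eg x l) →ₗ[F] ↥(Eg x l)))
        (m • (LinearMap.id : ↥(Eg x m) →ₗ[F] ↥(Eg x m)))) ∘ₗ
      (e.symm : V →ₗ[F] (↥(Eg x l) × ↥(Eg x m))) := by
    apply LinearMap.ext
    intro v
    obtain ⟨⟨u₁, u₂⟩, rfl⟩ := e.surjective v
    simp only [LinearMap.coe_comp, LinearEquiv.coe_coe, Function.comp_apply,
      LinearEquiv.symm_apply_apply, LinearMap.prodMap_apply, LinearMap.smul_apply,
      LinearMap.id_apply]
    rw [he, Submodule.coe_prodEquivOfIsCompl', Submodule.coe_prodEquivOfIsCompl', map_add]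
    have h1 := (mem_Eg x l u₁).1 u₁.2
    have h2' := (mem_Eg x m u₂).1 u₂.2
    rw [h1, h2']
    simp
  have hdet := congrArg LinearMap.det hconj
  rw [LinearMap.det_conj, LinearMap.det_prodMap, LinearMap.det_smul, LinearMap.det_smul,
    LinearMap.det_id, LinearMap.det_id, mul_one, mul_one] at hdet
  exact hdet

end TwoEig

end Cfsg.Agent.Lib.Helper8.Singer3
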