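import Mathlib
import Cfsg.Agent.Lib.Helper8.Singer3C

/-!
# `3 × 3` matrices of order three when the field contains the cube roots of unity (helper8)
-/

set_option autoImplicit false
set_option linter.unusedSectionVars false

namespace Cfsg.Agent.Lib.Helper8.Singer3

open Matrix Module

section CaseI

variable {F : Type*} [Field F]

/-- three eigenvectors for the eigenvalues `1, ω, ω²` -/
def HasEig3 (A : Matrix (Fin 3) (Fin 3) F) (ω : F) : Prop :=
  ∃ e₀ e₁ e₂ : Fin 3 → F, e₀ ≠ 0 ∧ e₁ ≠ 0 ∧ e₂ ≠ 0 ∧ A *ᵥ e₀ = e₀ ∧ A *ᵥ e₁ = ω • e₁ ∧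
    A *ᵥ e₂ = (ω ^ 2) • e₂

theorem omega_cube (ω : F) (hω : ω ^ 2 + ω + 1 = 0) : ω ^ 3 = 1 := by
  linear_combination (ω - 1) * hω

theorem omega_ne_one (h3 : (3 : F) ≠ 0) (ω : F) (hω : ω ^ 2 + ω + 1 = 0) : ω ≠ 1 := by
  intro h
  rw [h] at hω
  apply h3
  linear_combination hω

theorem omega_sq_ne_one (h3 : (3 : F) ≠ 0) (ω : F) (hω : ω ^ 2 + ω + 1 = 0) : ω ^ 2 ≠ 1 := by
  intro h
  have h1 : ω = -2 := by linear_combination hω - h
  rw [h1] at h
  apply h3
  linear_combination h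

theorem omega_sq_ne (h3 : (3 : F) ≠ 0) (ω : F) (hω : ω ^ 2 + ω + 1 = 0) : ω ^ 2 ≠ ω := by
  intro h
  have h0 : ω ≠ 0 := by
    intro h0
    rw [h0] at hω
    simp at hω
  apply omega_ne_one h3 ω hω
  have : ω * ω = ω * 1 := by rw [mul_one, ← pow_two]; exact h
  exact mul_left_cancel₀ h0 this

/-- a matrix of determinant `1` with only two of the cube roots of unity as eigenvalues is
scalar -/
theorem no_two_eig (l m : F) (hl : l ^ 3 = 1) (hm : m ^ 3 = 1) (hlm : l ≠ m)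
    (A : Matrix (Fin 3) (Fin 3) F)
    (hrel : A * A = (l + m) • A - (l * m) • (1 : Matrix (Fin 3) (Fin 3) F))
    (hdet : A.det = 1) (hns : ∀ c : F, A ≠ c • (1 : Matrix (Fin 3) (Fin 3) F)) : False := by
  classical
  set x : (Fin 3 → F) →ₗ[F] (Fin 3 → F) := Matrix.toLin' A with hx
  have hxx : ∀ v, x (x v) = (l + m) • x v - (l * m) • v := by
    intro v
    rw [hx, Matrix.toLin'_apply, Matrix.toLin'_apply, Matrix.mulVec_mulVec, hrel,
      Matrix.sub_mulVec, Matrix.smul_mulVec, Matrix.smul_mulVec, Matrix.one_mulVec]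
  have hc := isCompl_Eg x l m hlm hxx
  have hab := Submodule.finrank_add_eq_of_isCompl hc
  rw [Module.finrank_fin_fun] at hab
  have hd := det_two_eig x l m hlm hxx
  rw [hx, LinearMap.det_toLin', hdet] at hd
  rw [← hx] at hd
  have htop : ∀ c : F, finrank F ↥(Eg x c) = 3 → False := by
    intro c h3
    have h1 : Eg x c = ⊤ := by
      apply Submodule.eq_top_of_finrank_eq
      rw [h3, Module.finrank_fin_fun]
    apply hns c
    apply Matrix.toLin'.injective
    apply LinearMap.ext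
    intro v
    have hv : v ∈ Eg x c := by rw [h1]; exact Submodule.mem_top
    rw [mem_Eg] at hv
    rw [← hx, hv, Matrix.toLin'_apply, Matrix.smul_mulVec, Matrix.one_mulVec]
  set a := finrank F ↥(Eg x l) with ha
  set b := finrank F ↥(Eg x m) with hb
  have ha3 : a ≤ 3 := by omega
  interval_cases a
  · exact htop m (by omega)
  · have hb2 : b = 2 := by omega
    rw [hb2] at hd
    apply hlm
    have : l * m ^ 3 = m := by linear_combination (-m) * hd
    rw [hm, mul_one] at this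
    exact this
  · have hb1 : b = 1 := by omega
    rw [hb1] at hd
    apply hlm
    have : l ^ 3 * m = l := by linear_combination (-l) * hd
    rw [hl, one_mul] at this
    exact this.symm
  · exact htop l ha.symm

/-- the three eigenvalues all occur -/
theorem hasEig3_of_det (h3 : (3 : F) ≠ 0) (ω : F) (hω : ω ^ 2 + ω + 1 = 0)
    (A : Matrix (Fin 3) (Fin 3) F) (hA3 : A * A * A = 1) (hdet : A.det = 1)
    (hns : ∀ c : F, A ≠ c • (1 : Matrix (Fin 3) (Fin 3) F)) : HasEig3 A ω := by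
  classical
  have hω3 := omega_cube ω hω
  have hω1 := omega_ne_one h3 ω hω
  have hω2 := omega_sq_ne_one h3 ω hω
  have hω21 := omega_sq_ne h3 ω hω
  -- for each cube root of unity `c`, an eigenvector
  have key : ∀ c l m : F, c ^ 3 = 1 → l ^ 3 = 1 → m ^ 3 = 1 → l ≠ m → l + m = -c → l * m = c ^ 2 →
      ∃ e : Fin 3 → F, e ≠ 0 ∧ A *ᵥ e = c • e := by
    intro c l m hc hl hm hlm hsum hprod
    set Q : Matrix (Fin 3) (Fin 3) F := A * A + c • A + (c ^ 2) • (1 : Matrix (Fin 3) (Fin 3) F)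
      with hQ
    have hAQ : A * Q = c • Q := by
      rw [hQ, Matrix.mul_add, Matrix.mul_add, ← Matrix.mul_assoc, hA3, Matrix.mul_smul,
        Matrix.mul_smul, Matrix.mul_one, smul_add, smul_add, smul_smul, smul_smul]
      have : c * c ^ 2 = 1 := by rw [← pow_succ']; exact hc
      have h2 : c * c = c ^ 2 := (pow_two c).symm
      rw [this, one_smul, h2]
      abel
    by_cases hQ0 : Q = 0
    · exfalso
      apply no_two_eig l m hl hm hlm A _ hdet hns
      rw [hsum, hprod]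
      have : A * A = Q - c • A - (c ^ 2) • (1 : Matrix (Fin 3) (Fin 3) F) := by
        rw [hQ]; abel
      rw [this, hQ0, neg_smul]
      abel
    · have : ∃ v : Fin 3 → F, Q *ᵥ v ≠ 0 := by
        by_contra hcon
        push Not at hcon
        apply hQ0
        apply Matrix.toLin'.injective
        apply LinearMap.ext
        intro v
        rw [Matrix.toLin'_apply, hcon v, map_zero, LinearMap.zero_apply]
      obtain ⟨v, hv⟩ := this
      refine ⟨Q *ᵥ v, hv, ?_⟩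
      rw [Matrix.mulVec_mulVec, hAQ, Matrix.smul_mulVec]
  obtain ⟨e₀, he₀, hAe₀⟩ := key 1 ω (ω ^ 2) (one_pow 3) hω3 (by rw [← pow_mul, mul_comm, pow_mul, hω3, one_pow])
    (Ne.symm hω21) (by linear_combination hω) (by rw [one_pow, ← pow_succ']; exact hω3)
  obtain ⟨e₁, he₁, hAe₁⟩ := key ω (ω ^ 2) 1 hω3 (by rw [← pow_mul, mul_comm, pow_mul, hω3, one_pow])
    (one_pow 3) hω2 (by linear_combination hω) (by rw [mul_one])
  obtain ⟨e₂, he₂, hAe₂⟩ := key (ω ^ 2) 1 ω (by rw [← pow_mul, mul_comm, pow_mul, hω3, one_pow])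
    (one_pow 3) hω3 (Ne.symm hω1) (by linear_combination hω)
    (by rw [one_mul, ← pow_mul]; linear_combination (-ω) * hω3)
  rw [one_smul] at hAe₀
  exact ⟨e₀, e₁, e₂, he₀, he₁, he₂, hAe₀, hAe₁, hAe₂⟩

/-- the eigenvectors form a basis -/
theorem exists_basis_of_hasEig3 (h3 : (3 : F) ≠ 0) (ω : F) (hω : ω ^ 2 + ω + 1 = 0)
    (A : Matrix (Fin 3) (Fin 3) F) (e₀ e₁ e₂ : Fin 3 → F) (he₀ : e₀ ≠ 0) (he₁ : e₁ ≠ 0)
    (he₂ : e₂ ≠ 0) (h₀ : A *ᵥ e₀ = e₀) (h₁ : A *ᵥ e₁ = ω • e₁) (h₂ : A *ᵥ e₂ = (ω ^ 2) • e₂) :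
    ∃ b : Basis (Fin 3) F (Fin 3 → F), b 0 = e₀ ∧ b 1 = e₁ ∧ b 2 = e₂ := by
  classical
  have hω1 := omega_ne_one h3 ω hω
  have hω2 := omega_sq_ne_one h3 ω hω
  have hω21 := omega_sq_ne h3 ω hω
  have hμ : Function.Injective (![1, ω, ω ^ 2] : Fin 3 → F) := by
    intro i j hij
    fin_cases i <;> fin_cases j
    · rfl
    · exact absurd (show (1 : F) = ω from hij) (Ne.symm hω1)
    · exact absurd (show (1 : F) = ω ^ 2 from hij) (Ne.symm hω2)
    · exact absurd (show ω = (1 : F) from hij) hω1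
    · rfl
    · exact absurd (show ω = ω ^ 2 from hij) (Ne.symm hω21)
    · exact absurd (show ω ^ 2 = (1 : F) from hij) hω2
    · exact absurd (show ω ^ 2 = ω from hij) hω21
    · rfl
  have hli : LinearIndependent F (![e₀, e₁, e₂] : Fin 3 → (Fin 3 → F)) := by
    apply Module.End.eigenvectors_linearIndependent' (Matrix.toLin' A) (![1, ω, ω ^ 2]) hμ
    intro i
    rw [Module.End.hasEigenvector_iff, Module.End.mem_eigenspace_iff]
    fin_cases i
    · exact ⟨by simpa [Matrix.toLin'_apply] using h₀, he₀⟩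
    · exact ⟨by simpa [Matrix.toLin'_apply] using h₁, he₁⟩
    · exact ⟨by simpa [Matrix.toLin'_apply] using h₂, he₂⟩
  refine ⟨basisOfLinearIndependentOfCardEqFinrank hli (by simp), ?_, ?_, ?_⟩ <;>
    rw [coe_basisOfLinearIndependentOfCardEqFinrank] <;> rfl

/-- two matrices with the three eigenvalues are conjugate by a matrix of determinant one -/
theorem conj_of_hasEig3 (h3 : (3 : F) ≠ 0) (ω : F) (hω : ω ^ 2 + ω + 1 = 0)
    (A B : Matrix (Fin 3) (Fin 3) F) (hA : HasEig3 A ω) (hB : HasEig3 B ω) :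
    ∃ T : Matrix (Fin 3) (Fin 3) F, T.det = 1 ∧ T * A = B * T := by
  classical
  obtain ⟨e₀, e₁, e₂, he₀, he₁, he₂, h₀, h₁, h₂⟩ := hA
  obtain ⟨f₀, f₁, f₂, hf₀, hf₁, hf₂, g₀, g₁, g₂⟩ := hB
  obtain ⟨bA, hbA0, hbA1, hbA2⟩ := exists_basis_of_hasEig3 h3 ω hω A e₀ e₁ e₂ he₀ he₁ he₂ h₀ h₁ h₂
  obtain ⟨bB, hbB0, hbB1, hbB2⟩ := exists_basis_of_hasEig3 h3 ω hω B f₀ f₁ f₂ hf₀ hf₁ hf₂ g₀ g₁ g₂
  set L₁ : (Fin 3 → F) ≃ₗ[F] (Fin 3 → F) := bA.equiv bB (Equiv.refl (Fin 3)) with hL₁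
  have hL₁b : ∀ i, L₁ (bA i) = bB i := by
    intro i
    rw [hL₁, Basis.equiv_apply, Equiv.refl_apply]
  set δ : F := LinearMap.det (L₁ : (Fin 3 → F) →ₗ[F] (Fin 3 → F)) with hδ
  have hδ0 : δ ≠ 0 := (LinearEquiv.isUnit_det' L₁).ne_zero
  set tt : Fin 3 → F := ![δ⁻¹, 1, 1] with htt
  set D : (Fin 3 → F) →ₗ[F] (Fin 3 → F) := bA.constr F (fun i => tt i • bA i) with hD
  have hDb : ∀ i, D (bA i) = tt i • bA i := by
    intro i
    rw [hD, Basis.constr_basis]
  have hDdet : LinearMap.det D = δ⁻¹ := by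
    rw [← LinearMap.det_toMatrix bA]
    have : LinearMap.toMatrix bA bA D = Matrix.diagonal tt := by
      ext i j
      rw [LinearMap.toMatrix_apply, hDb, map_smul, Basis.repr_self, Finsupp.smul_apply,
        Finsupp.single_apply, Matrix.diagonal_apply]
      by_cases hij : i = j
      · rw [if_pos hij.symm, if_pos hij, hij, smul_eq_mul, mul_one]
      · rw [if_neg (Ne.symm hij), if_neg hij, smul_zero]
    rw [this, Matrix.det_diagonal, Fin.prod_univ_three, htt]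
    simp
  obtain ⟨L, hL⟩ : ∃ L : (Fin 3 → F) →ₗ[F] (Fin 3 → F),
      L = (L₁ : (Fin 3 → F) →ₗ[F] (Fin 3 → F)) ∘ₗ D := ⟨_, rfl⟩
  have hLb : ∀ i, L (bA i) = tt i • bB i := by
    intro i
    rw [hL, LinearMap.comp_apply, hDb, map_smul, LinearEquiv.coe_coe, hL₁b]
  have hLdet : LinearMap.det L = 1 := by
    rw [hL, LinearMap.det_comp, hDdet, ← hδ, mul_inv_cancel₀ hδ0]
  refine ⟨LinearMap.toMatrix' L, ?_, ?_⟩
  · rw [LinearMap.det_toMatrix', hLdet]
  · have hcomm : L ∘ₗ Matrix.toLin' A = Matrix.toLin' B ∘ₗ L := by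
      apply bA.ext
      intro i
      rw [LinearMap.comp_apply, LinearMap.comp_apply, hLb, Matrix.toLin'_apply,
        Matrix.toLin'_apply, Matrix.mulVec_smul]
      fin_cases i
      · simp only [Fin.zero_eta]
        rw [hbA0, hbB0, h₀, g₀, ← hbA0, hLb, hbB0]
      · simp only [Fin.mk_one]
        rw [hbA1, hbB1, h₁, g₁, map_smul, ← hbA1, hLb, hbB1, smul_comm]
      · simp only [Fin.reduceFinMk]
        rw [hbA2, hbB2, h₂, g₂, map_smul, ← hbA2, hLb, hbB2, smul_comm]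
    have := congrArg LinearMap.toMatrix' hcomm
    rw [LinearMap.toMatrix'_comp, LinearMap.toMatrix'_comp, LinearMap.toMatrix'_toLin',
      LinearMap.toMatrix'_toLin'] at this
    exact this

end CaseI

end Cfsg.Agent.Lib.Helper8.Singer3
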