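import Mathlib
import Cfsg.Agent.S0277

/-!
# The adjoint of a matrix for the standard Hermitian form (helper8)
-/

set_option autoImplicit false

namespace Cfsg.Agent.Lib.Helper8.SUReg

open Cfsg Cfsg.Agent.S0277 Matrix

variable {K : Type*} [Field K] {n : ℕ} (σ : K →+* K)

/-- the `σ`-conjugate transpose -/
def adj (A : Matrix (Fin n) (Fin n) K) : Matrix (Fin n) (Fin n) K := (A.map σ)ᵀ

theorem adj_apply (A : Matrix (Fin n) (Fin n) K) (i j : Fin n) : adj σ A i j = σ (A j i) := rfl

theorem adj_mul (A B : Matrix (Fin n) (Fin n) K) : adj σ (A * B) = adj σ B * adj σ A := by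
  unfold adj
  rw [Matrix.map_mul, Matrix.transpose_mul]

theorem adj_one : adj σ (1 : Matrix (Fin n) (Fin n) K) = 1 := by
  unfold adj
  rw [Matrix.map_one _ (map_zero σ) (map_one σ), Matrix.transpose_one]

theorem adj_zero : adj σ (0 : Matrix (Fin n) (Fin n) K) = 0 := by
  ext i j
  rw [adj_apply, Matrix.zero_apply, Matrix.zero_apply, map_zero]

theorem adj_add (A B : Matrix (Fin n) (Fin n) K) : adj σ (A + B) = adj σ A + adj σ B := by
  ext i j
  rw [Matrix.add_apply, adj_apply, adj_apply, adj_apply, Matrix.add_apply, map_add]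

theorem adj_sub (A B : Matrix (Fin n) (Fin n) K) : adj σ (A - B) = adj σ A - adj σ B := by
  ext i j
  rw [Matrix.sub_apply, adj_apply, adj_apply, adj_apply, Matrix.sub_apply, map_sub]

theorem adj_smul (c : K) (A : Matrix (Fin n) (Fin n) K) : adj σ (c • A) = σ c • adj σ A := by
  ext i j
  rw [Matrix.smul_apply, adj_apply, adj_apply, Matrix.smul_apply, smul_eq_mul, smul_eq_mul, map_mul]

theorem adj_pow (A : Matrix (Fin n) (Fin n) K) (k : ℕ) : adj σ (A ^ k) = adj σ A ^ k := by
  induction k with
  | zero => rw [pow_zero, pow_zero, adj_one]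
  | succ k ih => rw [pow_succ, adj_mul, ih, pow_succ']

theorem adj_adj (hσ2 : ∀ a : K, σ (σ a) = a) (A : Matrix (Fin n) (Fin n) K) :
    adj σ (adj σ A) = A := by
  ext i j
  rw [adj_apply, adj_apply, hσ2]

theorem adj_sum {ι : Type*} (s : Finset ι) (f : ι → Matrix (Fin n) (Fin n) K) :
    adj σ (∑ i ∈ s, f i) = ∑ i ∈ s, adj σ (f i) := by
  classical
  induction s using Finset.induction_on with
  | empty => rw [Finset.sum_empty, Finset.sum_empty, adj_zero]
  | insert a s ha ih => rw [Finset.sum_insert ha, Finset.sum_insert ha, adj_add, ih]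

/-- the adjoint of a polynomial in a matrix -/
theorem adj_aeval (s : Matrix (Fin n) (Fin n) K) (p : Polynomial K) :
    adj σ (Polynomial.aeval s p) = Polynomial.aeval (adj σ s) (p.map σ) := by
  rw [Polynomial.aeval_eq_sum_range, Polynomial.aeval_eq_sum_range, adj_sum, Polynomial.natDegree_map]
  refine Finset.sum_congr rfl (fun i _ => ?_)
  rw [adj_smul, adj_pow, Polynomial.coeff_map]

theorem stdB_mulVec_left (A : Matrix (Fin n) (Fin n) K) (x y : Fin n → K) :
    stdB n σ (A *ᵥ x) y = stdB n σ x (adj σ A *ᵥ y) := by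
  rw [stdB_apply, stdB_apply]
  simp only [Matrix.mulVec, dotProduct, map_sum, map_mul, Finset.sum_mul, Finset.mul_sum, adj_apply]
  rw [Finset.sum_comm]
  refine Finset.sum_congr rfl (fun j _ => Finset.sum_congr rfl (fun i _ => ?_))
  ring

theorem stdB_mulVec_right (hσ2 : ∀ a : K, σ (σ a) = a) (A : Matrix (Fin n) (Fin n) K)
    (x y : Fin n → K) : stdB n σ x (A *ᵥ y) = stdB n σ (adj σ A *ᵥ x) y := by
  rw [stdB_mulVec_left, adj_adj σ hσ2]

theorem eq_of_stdB_right (z z' : Fin n → K) (h : ∀ x, stdB n σ x z = stdB n σ x z') : z = z' := by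
  funext i
  have := h (Pi.single i 1)
  rw [stdB_apply, stdB_apply, Finset.sum_eq_single i, Finset.sum_eq_single i] at this
  · simpa using this
  · intro j _ hj
    simp [hj]
  · intro h
    exact absurd (Finset.mem_univ i) h
  · intro j _ hj
    simp [hj]
  · intro h
    exact absurd (Finset.mem_univ i) h

/-- isometries of the standard Hermitian form are the matrices with `adj g * g = 1` -/
theorem isom_iff (g : Matrix (Fin n) (Fin n) K) :
    (∀ x y, stdB n σ (g *ᵥ x) (g *ᵥ y) = stdB n σ x y) ↔ adj σ g * g = 1 := by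
  constructor
  · intro h
    have h1 : ∀ y, (adj σ g * g) *ᵥ y = y := by
      intro y
      apply eq_of_stdB_right σ
      intro x
      rw [← Matrix.mulVec_mulVec, ← stdB_mulVec_left, h]
    ext i j
    have := congrFun (h1 (Pi.single j 1)) i
    rw [Matrix.mulVec_single_one] at this
    rw [Matrix.one_apply]
    simpa [Pi.single_apply, eq_comm] using this
  · intro h x y
    rw [stdB_mulVec_left, Matrix.mulVec_mulVec, h, Matrix.one_mulVec]

theorem adj_inv_of_unitary (g : Matrix (Fin n) (Fin n) K) (h : adj σ g * g = 1) :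
    g * adj σ g = 1 := mul_eq_one_comm.1 h

end Cfsg.Agent.Lib.Helper8.SUReg
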