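import Mathlib
import Cfsg.Agent.Lib.Helper8.SURegA

/-!
# A polynomial norm lemma: `p · σ(p) ≡ 1 + X` modulo `X ^ m` (helper8)
-/

set_option autoImplicit false

namespace Cfsg.Agent.Lib.Helper8.SUReg

open Polynomial

variable {K : Type*} [Field K] (σ : K →+* K)

theorem coeff_mul_map_fixed (hσ2 : ∀ a : K, σ (σ a) = a) (p : K[X]) (d : ℕ) :
    σ ((p * p.map σ).coeff d) = (p * p.map σ).coeff d := by
  have h1 : (p * p.map σ).map σ = p * p.map σ := by
    rw [Polynomial.map_mul, Polynomial.map_map]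
    have : σ.comp σ = RingHom.id K := RingHom.ext hσ2
    rw [this, Polynomial.map_id, mul_comm]
  conv_rhs => rw [← h1]
  rw [Polynomial.coeff_map]

theorem exists_poly_norm (hσ2 : ∀ a : K, σ (σ a) = a)
    (htr : ∀ b : K, σ b = b → ∃ y : K, y + σ y = b) (m : ℕ) :
    ∃ p : K[X], p.coeff 0 = 1 ∧ ∀ d < m + 1, (p * p.map σ).coeff d = (1 + X : K[X]).coeff d := by
  induction m with
  | zero =>
    refine ⟨1, by simp, ?_⟩
    intro d hd
    have : d = 0 := by omega
    subst this
    simp
  | succ m ih =>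
    obtain ⟨p, hp0, hp⟩ := ih
    set δ : K := (1 + X : K[X]).coeff (m + 1) - (p * p.map σ).coeff (m + 1) with hδ
    have hδfix : σ δ = δ := by
      rw [hδ, map_sub, coeff_mul_map_fixed σ hσ2]
      congr 1
      rw [Polynomial.coeff_add, Polynomial.coeff_one, Polynomial.coeff_X]
      split_ifs <;> simp
    obtain ⟨y, hy⟩ := htr δ hδfix
    refine ⟨p + C y * X ^ (m + 1), ?_, ?_⟩
    · rw [Polynomial.coeff_add, hp0, Polynomial.coeff_C_mul, Polynomial.coeff_X_pow,
        if_neg (by omega), mul_zero, add_zero]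
    · intro d hd
      have hexp : (p + C y * X ^ (m + 1)) * (p + C y * X ^ (m + 1)).map σ =
          p * p.map σ + X ^ (m + 1) * (C y * p.map σ + C (σ y) * p +
            C (y * σ y) * X ^ (m + 1)) := by
        rw [Polynomial.map_add, Polynomial.map_mul, Polynomial.map_C, Polynomial.map_pow,
          Polynomial.map_X, map_mul C]
        ring
      rw [hexp, Polynomial.coeff_add, Polynomial.coeff_X_pow_mul']
      by_cases hdm : d < m + 1
      · rw [if_neg (by omega), add_zero]
        exact hp d hdm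
      · have hd' : d = m + 1 := by omega
        subst hd'
        rw [if_pos le_rfl, Nat.sub_self, Polynomial.coeff_add, Polynomial.coeff_add,
          Polynomial.coeff_C_mul, Polynomial.coeff_C_mul, Polynomial.coeff_C_mul,
          Polynomial.coeff_map, hp0, map_one, Polynomial.coeff_X_pow, if_neg (by omega), mul_zero,
          add_zero, mul_one, mul_one, hy, hδ]
        ring

/-- the matrix form: a Hermitian unipotent matrix is a norm -/
theorem exists_norm_matrix {n : ℕ} (hσ2 : ∀ a : K, σ (σ a) = a)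
    (htr : ∀ b : K, σ b = b → ∃ y : K, y + σ y = b)
    (s : Matrix (Fin n) (Fin n) K) (hs : adj σ s = s) (m : ℕ) (hnil : s ^ (m + 1) = 0) :
    ∃ p : K[X], adj σ (aeval s p) * aeval s p = 1 + s := by
  obtain ⟨p, _, hp⟩ := exists_poly_norm σ hσ2 htr m
  refine ⟨p, ?_⟩
  rw [adj_aeval, hs, ← map_mul, mul_comm]
  have hdvd : X ^ (m + 1) ∣ p * p.map σ - (1 + X) := by
    rw [Polynomial.X_pow_dvd_iff]
    intro d hd
    rw [Polynomial.coeff_sub, hp d hd, sub_self]
  obtain ⟨r, hr⟩ := hdvd
  have h1 : p * p.map σ = (1 + X) + X ^ (m + 1) * r := by rw [← hr]; ring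
  rw [h1, map_add, map_add, map_one, aeval_X, map_mul, map_pow, aeval_X, hnil, zero_mul, add_zero]

end Cfsg.Agent.Lib.Helper8.SUReg
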