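import Mathlib
import Cfsg.Agent.Lib.Helper8.SURegB

/-!
# A polynomial norm lemma modulo `σ`-stable polynomials: CRT steps (helper8)
-/

set_option autoImplicit false

namespace Cfsg.Agent.Lib.Helper8.GUConj

open Polynomial Cfsg.Agent.Lib.Helper8.SUReg

variable {K : Type*} [Field K] (σ : K →+* K)

theorem map_map_self (hσ2 : ∀ a : K, σ (σ a) = a) (p : K[X]) : (p.map σ).map σ = p := by
  rw [Polynomial.map_map]
  have : σ.comp σ = RingHom.id K := RingHom.ext hσ2
  rw [this, Polynomial.map_id]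

theorem map_dvd' {u a : K[X]} (h : u ∣ a) : u.map σ ∣ a.map σ := Polynomial.map_dvd σ h

/-- the Chinese remainder theorem for two coprime polynomials -/
theorem crt2 {u v : K[X]} (h : IsCoprime u v) (a b : K[X]) : ∃ p, u ∣ p - a ∧ v ∣ p - b := by
  obtain ⟨α, β, hab⟩ := h
  refine ⟨a * β * v + b * α * u, ?_, ?_⟩
  · refine ⟨(b - a) * α, ?_⟩
    linear_combination a * hab
  · refine ⟨(a - b) * β, ?_⟩
    linear_combination b * hab

/-- the property to be proved: `f` is a norm modulo `m` -/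
def IsNormMod (m f : K[X]) : Prop := ∃ p : K[X], m ∣ p.map σ * p - f

/-- combining coprime `σ`-stable moduli -/
theorem IsNormMod.mul {m₁ m₂ f : K[X]} (hcop : IsCoprime m₁ m₂) (h₁ : m₁.map σ = m₁)
    (h₂ : m₂.map σ = m₂) (hn₁ : IsNormMod σ m₁ f) (hn₂ : IsNormMod σ m₂ f) :
    IsNormMod σ (m₁ * m₂) f := by
  obtain ⟨p₁, hp₁⟩ := hn₁
  obtain ⟨p₂, hp₂⟩ := hn₂
  obtain ⟨p, hpa, hpb⟩ := crt2 hcop p₁ p₂
  refine ⟨p, hcop.mul_dvd ?_ ?_⟩
  · have h1 : m₁ ∣ p.map σ - p₁.map σ := by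
      have := map_dvd' σ hpa
      rwa [h₁, Polynomial.map_sub] at this
    have e : p.map σ * p - f = (p.map σ - p₁.map σ) * p + p₁.map σ * (p - p₁) +
        (p₁.map σ * p₁ - f) := by ring
    rw [e]
    exact dvd_add (dvd_add (Dvd.dvd.mul_right h1 _) (Dvd.dvd.mul_left hpa _)) hp₁
  · have h1 : m₂ ∣ p.map σ - p₂.map σ := by
      have := map_dvd' σ hpb
      rwa [h₂, Polynomial.map_sub] at this
    have e : p.map σ * p - f = (p.map σ - p₂.map σ) * p + p₂.map σ * (p - p₂) +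
        (p₂.map σ * p₂ - f) := by ring
    rw [e]
    exact dvd_add (dvd_add (Dvd.dvd.mul_right h1 _) (Dvd.dvd.mul_left hpb _)) hp₂

/-- a modulus of the form `u · σ(u)` with coprime factors -/
theorem IsNormMod.swap (hσ2 : ∀ a : K, σ (σ a) = a) {u f : K[X]} (hcop : IsCoprime u (u.map σ))
    (hf : u * u.map σ ∣ f.map σ - f) : IsNormMod σ (u * u.map σ) f := by
  obtain ⟨p, hpa, hpb⟩ := crt2 hcop f 1
  refine ⟨p, hcop.mul_dvd ?_ ?_⟩
  · have h1 : u ∣ p.map σ - 1 := by
      have := map_dvd' σ hpb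
      rwa [map_map_self σ hσ2, Polynomial.map_sub, Polynomial.map_one] at this
    have e : p.map σ * p - f = (p.map σ - 1) * p + (p - f) := by ring
    rw [e]
    exact dvd_add (Dvd.dvd.mul_right h1 _) hpa
  · have h1 : u.map σ ∣ p.map σ - f.map σ := by
      have := map_dvd' σ hpa
      rwa [Polynomial.map_sub] at this
    have h2 : u.map σ ∣ f.map σ - f := dvd_trans (dvd_mul_left _ _) hf
    have e : p.map σ * p - f = p.map σ * (p - 1) + (p.map σ - f.map σ) + (f.map σ - f) := by ring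
    rw [e]
    exact dvd_add (dvd_add (Dvd.dvd.mul_left hpb _) h1) h2

theorem IsNormMod.one (f : K[X]) : IsNormMod σ 1 f := ⟨0, one_dvd _⟩

/-- the congruence `q(a) ≡ q(b)` modulo `a - b` for polynomial composition -/
theorem sub_dvd_comp_sub_comp (q a b : K[X]) : a - b ∣ q.comp a - q.comp b := by
  have := Polynomial.sub_dvd_eval_sub a b (q.map (C : K →+* K[X]))
  rwa [Polynomial.eval_map, Polynomial.eval_map] at this

/-- the Hensel polynomial: `P · σ(P) ≡ 1 + X` modulo `X ^ a` -/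
theorem exists_poly_norm_dvd (hσ2 : ∀ a : K, σ (σ a) = a)
    (htr : ∀ b : K, σ b = b → ∃ y : K, y + σ y = b) (a : ℕ) :
    ∃ P : K[X], X ^ a ∣ P * P.map σ - (1 + X) := by
  obtain ⟨P, _, hP⟩ := exists_poly_norm σ hσ2 htr a
  refine ⟨P, ?_⟩
  rw [Polynomial.X_pow_dvd_iff]
  intro d hd
  rw [Polynomial.coeff_sub, hP d (by omega), sub_self]

end Cfsg.Agent.Lib.Helper8.GUConj
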