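import Mathlib

/-!
# Field algebra for an involutive automorphism `σ` of a (finite) field (helper8)

Trace-zero elements, surjectivity of trace and norm onto the fixed field.
-/

set_option autoImplicit false

namespace Cfsg.Agent.Lib.Helper8.Unitary

section FieldInv

variable {F : Type*} [Field F] {σ : F ≃+* F}

lemma exists_not_fix (hne : σ ≠ RingEquiv.refl F) : ∃ θ : F, σ θ ≠ θ := by
  by_contra hcon
  push Not at hcon
  exact hne (RingEquiv.ext hcon)

/-- a nonzero trace-zero element -/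
lemma exists_Z (hne : σ ≠ RingEquiv.refl F) (hinv : ∀ a : F, σ (σ a) = a) :
    ∃ z : F, z ≠ 0 ∧ z + σ z = 0 := by
  obtain ⟨θ, hθ⟩ := exists_not_fix hne
  refine ⟨θ - σ θ, fun h => hθ (sub_eq_zero.1 h).symm, ?_⟩
  rw [map_sub, hinv]; ring

lemma exists_tr_ne (hne : σ ≠ RingEquiv.refl F) : ∃ a : F, a + σ a ≠ 0 := by
  by_contra hcon
  push Not at hcon
  have h1 : (1 : F) + 1 = 0 := by simpa using hcon 1
  obtain ⟨θ, hθ⟩ := exists_not_fix hne
  apply hθ
  have h2 := hcon θ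
  have h3 : σ θ = -θ := by linear_combination h2
  have h4 : -θ = θ := by linear_combination (-θ) * h1
  rw [h3, h4]

/-- the trace `a ↦ a + σ a` is onto the fixed field -/
lemma tr_surj (hne : σ ≠ RingEquiv.refl F) (hinv : ∀ a : F, σ (σ a) = a) (r : F) (hr : σ r = r) :
    ∃ a : F, a + σ a = r := by
  obtain ⟨a₀, ha₀⟩ := exists_tr_ne hne
  have ht : σ (a₀ + σ a₀) = a₀ + σ a₀ := by rw [map_add, hinv]; ring
  refine ⟨r / (a₀ + σ a₀) * a₀, ?_⟩
  rw [map_mul, map_div₀, hr, ht]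
  field_simp

lemma Z_inv (z : F) (hz : z + σ z = 0) : z⁻¹ + σ z⁻¹ = 0 := by
  by_cases h0 : z = 0
  · subst h0; simp
  have h1 : σ z = -z := by linear_combination hz
  rw [map_inv₀, h1]
  field_simp
  ring

lemma Z_mul_fix (r z : F) (hr : σ r = r) (hz : z + σ z = 0) : r * z + σ (r * z) = 0 := by
  rw [map_mul, hr]
  linear_combination r * hz

lemma Z_mul_Z (z z' : F) (hz : z + σ z = 0) (hz' : z' + σ z' = 0) : σ (z * z') = z * z' := by
  have h1 : σ z = -z := by linear_combination hz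
  have h2 : σ z' = -z' := by linear_combination hz'
  rw [map_mul, h1, h2]; ring

lemma Z_neg (z : F) (hz : z + σ z = 0) : -z + σ (-z) = 0 := by
  rw [map_neg]; linear_combination -hz

lemma Z_add (z z' : F) (hz : z + σ z = 0) (hz' : z' + σ z' = 0) : (z + z') + σ (z + z') = 0 := by
  rw [map_add]; linear_combination hz + hz'

lemma Z_sigma (hinv : ∀ a : F, σ (σ a) = a) (z : F) (hz : z + σ z = 0) : σ z + σ (σ z) = 0 := by
  rw [hinv]; linear_combination hz

/-- `F = Fix + Fix θ` for `θ` not fixed -/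
lemma decomp_fix (hinv : ∀ a : F, σ (σ a) = a) (θ : F) (hθ : σ θ ≠ θ) (a : F) :
    ∃ x y : F, σ x = x ∧ σ y = y ∧ a = x + y * θ := by
  have hd : θ - σ θ ≠ 0 := fun h => hθ (sub_eq_zero.1 h).symm
  have hy : σ ((a - σ a) / (θ - σ θ)) = (a - σ a) / (θ - σ θ) := by
    rw [map_div₀, map_sub, map_sub, hinv, hinv]
    have hd' : σ θ - θ ≠ 0 := fun h => hθ (sub_eq_zero.1 h)
    rw [div_eq_div_iff hd' hd]; ring
  refine ⟨a - (a - σ a) / (θ - σ θ) * θ, (a - σ a) / (θ - σ θ), ?_, hy, by ring⟩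
  rw [map_sub, map_mul, hy]
  field_simp
  ring

/-- every element is `z₁ a₁ + z₂ a₂` with trace-zero `z₁, z₂` if `a₁ / a₂` is not fixed -/
lemma span_Z (hne : σ ≠ RingEquiv.refl F) (hinv : ∀ a : F, σ (σ a) = a) (a₁ a₂ : F) (ha₂ : a₂ ≠ 0)
    (h : σ (a₁ / a₂) ≠ a₁ / a₂) (b : F) :
    ∃ z₁ z₂ : F, z₁ + σ z₁ = 0 ∧ z₂ + σ z₂ = 0 ∧ b = z₁ * a₁ + z₂ * a₂ := by
  obtain ⟨z₀, hz₀, hz₀'⟩ := exists_Z hne hinv
  obtain ⟨x, y, hx, hy, hb⟩ := decomp_fix hinv (a₁ / a₂) h (b / (z₀ * a₂))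
  refine ⟨y * z₀, x * z₀, Z_mul_fix y z₀ hy hz₀', Z_mul_fix x z₀ hx hz₀', ?_⟩
  have : b = z₀ * a₂ * (b / (z₀ * a₂)) := by field_simp
  rw [this, hb]
  field_simp
  ring

end FieldInv

section Norm

variable {F : Type*} [Field F] [Fintype F] {σ : F ≃+* F}

/-- the norm `a ↦ a σ(a)` is onto the fixed field -/
lemma norm_surj (hne : σ ≠ RingEquiv.refl F) (hinv : ∀ a : F, σ (σ a) = a) (r : F) (hr : σ r = r) :
    ∃ a : F, a * σ a = r := by
  classical
  by_cases hr0 : r = 0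
  · exact ⟨0, by simp [hr0]⟩
  let S : Fˣ →* Fˣ := Units.map (σ : F →* F)
  have hS : ∀ a : Fˣ, ((S a : Fˣ) : F) = σ (a : F) := fun a => rfl
  let N : Fˣ →* Fˣ := MonoidHom.id Fˣ * S
  have hN : ∀ a : Fˣ, N a = a * S a := fun a => rfl
  let ρ : Fˣ →* Fˣ := S * (MonoidHom.id Fˣ)⁻¹
  have hρ : ∀ b : Fˣ, ρ b = S b * b⁻¹ := fun b => rfl
  have hSS : ∀ a : Fˣ, S (S a) = a := fun a => Units.ext (by rw [hS, hS, hinv])
  -- range ρ = ker N
  have h1 : ρ.range = N.ker := by
    ext a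
    rw [MonoidHom.mem_range, MonoidHom.mem_ker]
    constructor
    · rintro ⟨b, rfl⟩
      rw [hN, hρ, map_mul, hSS, map_inv]
      group
    · intro ha
      have ha' : (a : F) * σ (a : F) = 1 := by
        rw [hN] at ha
        have := congrArg Units.val ha
        exact this
      by_cases hm : (a : F) = -1
      · obtain ⟨z, hz0, hz⟩ := exists_Z hne hinv
        refine ⟨Units.mk0 z hz0, Units.ext ?_⟩
        show σ z * z⁻¹ = (a : F)
        rw [hm]
        have : σ z = -z := by linear_combination hz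
        rw [this]; field_simp
      · have hb0 : 1 + σ (a : F) ≠ 0 := by
          intro h
          apply hm
          have h2 : σ (a : F) = -1 := by linear_combination h
          rw [h2] at ha'
          linear_combination -ha'
        refine ⟨Units.mk0 _ hb0, Units.ext ?_⟩
        show σ (1 + σ (a : F)) * (1 + σ (a : F))⁻¹ = (a : F)
        rw [map_add, map_one, hinv]
        rw [mul_inv_eq_iff_eq_mul₀ hb0]
        linear_combination -ha'
  have hker : ∀ b : Fˣ, b ∈ ρ.ker ↔ S b = b := by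
    intro b
    rw [MonoidHom.mem_ker, hρ, mul_inv_eq_one]
  -- range N ≤ ker ρ
  have h3 : N.range ≤ ρ.ker := by
    rintro _ ⟨a, rfl⟩
    rw [hker, hN, map_mul, hSS, mul_comm]
  have c1 : Nat.card ρ.ker * Nat.card ρ.range = Nat.card Fˣ := by
    rw [← Subgroup.index_ker]; exact Subgroup.card_mul_index _
  have c2 : Nat.card N.ker * Nat.card N.range = Nat.card Fˣ := by
    rw [← Subgroup.index_ker]; exact Subgroup.card_mul_index _
  rw [h1] at c1
  have hpos : 0 < Nat.card N.ker := Nat.card_pos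
  have c3 : Nat.card N.range = Nat.card ρ.ker := by
    have : Nat.card N.ker * Nat.card N.range = Nat.card N.ker * Nat.card ρ.ker := by
      rw [c2, ← c1, mul_comm]
    exact Nat.eq_of_mul_eq_mul_left hpos this
  have h4 : N.range = ρ.ker := by
    apply Subgroup.eq_of_le_of_card_ge h3
    rw [c3]
  have hrU : Units.mk0 r hr0 ∈ ρ.ker := by
    rw [hker]
    exact Units.ext hr
  rw [← h4] at hrU
  obtain ⟨a, ha⟩ := hrU
  refine ⟨(a : F), ?_⟩
  rw [hN] at ha
  have := congrArg Units.val ha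
  exact this

end Norm

end Cfsg.Agent.Lib.Helper8.Unitary
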