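import Mathlib
import Cfsg.Agent.Lib.Helper8.GUConjA
import Cfsg.Agent.Lib.Helper8.UnitaryA

/-!
# A polynomial norm lemma: the prime power case (helper8)
-/

set_option autoImplicit false

namespace Cfsg.Agent.Lib.Helper8.GUConj

open Polynomial Cfsg.Agent.Lib.Helper8.SUReg

variable {K : Type*} [Field K] (σ : K →+* K)

section field
variable {π : K[X]}

/-- the map on `K[X]/(π)` induced by `σ` -/
noncomputable def tauHom (hπσ : π.map σ = π) : AdjoinRoot π →+* AdjoinRoot π :=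
  AdjoinRoot.lift ((AdjoinRoot.of π).comp σ) (AdjoinRoot.root π) (by
    rw [← Polynomial.eval₂_map, hπσ, AdjoinRoot.eval₂_root])

theorem tauHom_mk (hπσ : π.map σ = π) (g : K[X]) :
    tauHom σ hπσ (AdjoinRoot.mk π g) = AdjoinRoot.mk π (g.map σ) := by
  unfold tauHom
  rw [AdjoinRoot.lift_mk, ← Polynomial.eval₂_map, ← AdjoinRoot.aeval_eq, Polynomial.aeval_def,
    AdjoinRoot.algebraMap_eq]

theorem tauHom_tauHom (hσ2 : ∀ a : K, σ (σ a) = a) (hπσ : π.map σ = π) (x : AdjoinRoot π) :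
    tauHom σ hπσ (tauHom σ hπσ x) = x := by
  obtain ⟨g, rfl⟩ := AdjoinRoot.mk_surjective x
  rw [tauHom_mk, tauHom_mk, map_map_self σ hσ2]

/-- norms modulo a `σ`-stable irreducible polynomial -/
theorem exists_norm_mod_irreducible [Finite K] (hσ2 : ∀ a : K, σ (σ a) = a)
    (hσne : σ ≠ RingHom.id K) (hπ : Irreducible π) (hπσ : π.map σ = π) (f : K[X])
    (hf : π ∣ f.map σ - f) : ∃ p₀ : K[X], π ∣ p₀.map σ * p₀ - f := by
  classical
  have : Fact (Irreducible π) := ⟨hπ⟩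
  have : Module.Finite K (AdjoinRoot π) := (AdjoinRoot.powerBasis hπ.ne_zero).finite
  have : Finite (AdjoinRoot π) := Module.finite_of_finite K
  let _ : Fintype (AdjoinRoot π) := Fintype.ofFinite _
  set τ := tauHom σ hπσ with hτ
  have hττ : ∀ x, τ (τ x) = x := tauHom_tauHom σ hσ2 hπσ
  set τe : AdjoinRoot π ≃+* AdjoinRoot π :=
    RingEquiv.ofRingHom τ τ (RingHom.ext hττ) (RingHom.ext hττ) with hτe
  have hτe_apply : ∀ x, τe x = τ x := fun x => rfl
  have hne : τe ≠ RingEquiv.refl (AdjoinRoot π) := by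
    intro h
    apply hσne
    ext c
    have h1 : τe (AdjoinRoot.of π c) = AdjoinRoot.of π c := by rw [h]; rfl
    rw [hτe_apply, hτ, ← AdjoinRoot.mk_C, tauHom_mk, Polynomial.map_C, AdjoinRoot.mk_C] at h1
    exact (AdjoinRoot.of π).injective h1
  have hfix : τe (AdjoinRoot.mk π f) = AdjoinRoot.mk π f := by
    rw [hτe_apply, hτ, tauHom_mk, AdjoinRoot.mk_eq_mk]
    exact hf
  obtain ⟨t, ht⟩ := Cfsg.Agent.Lib.Helper8.Unitary.norm_surj (σ := τe) hne hττ _ hfix
  obtain ⟨p₀, rfl⟩ := AdjoinRoot.mk_surjective t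
  refine ⟨p₀, ?_⟩
  rw [hτe_apply, hτ, tauHom_mk, ← map_mul, AdjoinRoot.mk_eq_mk, mul_comm] at ht
  exact ht

end field

/-- norms modulo a power of a `σ`-stable irreducible polynomial -/
theorem IsNormMod.prime_pow [Finite K] (hσ2 : ∀ a : K, σ (σ a) = a) (hσne : σ ≠ RingHom.id K)
    (htr : ∀ b : K, σ b = b → ∃ y : K, y + σ y = b) {π : K[X]} (hπ : Irreducible π)
    (hπσ : π.map σ = π) (a : ℕ) (ha : 1 ≤ a) (f : K[X]) (hf : π ^ a ∣ f.map σ - f)
    (hcop : IsCoprime f π) : IsNormMod σ (π ^ a) f := by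
  have hπa : π ∣ π ^ a := dvd_pow_self π (by omega)
  have hπaσ : (π ^ a).map σ = π ^ a := by rw [Polynomial.map_pow, hπσ]
  obtain ⟨p₀, hp₀⟩ := exists_norm_mod_irreducible σ hσ2 hσne hπ hπσ f (dvd_trans hπa hf)
  set w := p₀.map σ * p₀ with hw
  have hwσ : w.map σ = w := by rw [hw, Polynomial.map_mul, map_map_self σ hσ2, mul_comm]
  have hwcop : IsCoprime w π := by
    obtain ⟨c, hc⟩ := hp₀
    have : w = f + π * c := by rw [← hc]; ring
    rw [this]
    exact hcop.add_mul_left_left c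
  have hwcopa : IsCoprime w (π ^ a) := hwcop.pow_right
  obtain ⟨u, c, huc⟩ := hwcopa
  set g := f * u with hg
  have hgw : π ^ a ∣ w * g - f := by
    refine ⟨-(f * c), ?_⟩
    rw [hg]
    linear_combination f * huc
  set ν := g - 1 with hν
  have hπν : π ∣ ν := by
    obtain ⟨c', hc'⟩ := hp₀
    obtain ⟨d, hd⟩ := hπa
    refine ⟨-(c' * u) - c * d, ?_⟩
    rw [hν, hg]
    linear_combination (-u) * hc' + huc - c * hd
  have huσ : π ^ a ∣ u.map σ - u := by
    have h1 : π ^ a ∣ (u.map σ - u) * w := by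
      have e := congrArg (Polynomial.map σ) huc
      rw [Polynomial.map_add, Polynomial.map_one, Polynomial.map_mul (f := σ) (p := u) (q := w),
        Polynomial.map_mul (f := σ) (p := c) (q := π ^ a), hwσ, hπaσ] at e
      refine ⟨c - c.map σ, ?_⟩
      linear_combination e - huc
    exact (IsCoprime.symm ⟨u, c, huc⟩).dvd_of_dvd_mul_right h1
  have hνσ : π ^ a ∣ ν.map σ - ν := by
    have e : ν.map σ - ν = (f.map σ - f) * u.map σ + f * (u.map σ - u) := by
      rw [hν, hg, Polynomial.map_sub, Polynomial.map_mul, Polynomial.map_one]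
      ring
    rw [e]
    exact dvd_add (Dvd.dvd.mul_right hf _) (Dvd.dvd.mul_left huσ _)
  obtain ⟨P, hP⟩ := exists_poly_norm_dvd σ hσ2 htr a
  set t₁ := P.comp ν with ht₁
  have h1 : π ^ a ∣ t₁ * (P.map σ).comp ν - g := by
    obtain ⟨R, hR⟩ := hP
    have e := congrArg (fun q : K[X] => q.comp ν) hR
    simp only [Polynomial.sub_comp, Polynomial.mul_comp, Polynomial.add_comp, Polynomial.one_comp,
      Polynomial.X_comp, Polynomial.pow_comp] at e
    have e2 : t₁ * (P.map σ).comp ν - g = ν ^ a * R.comp ν := by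
      rw [← e, ht₁, hν]
      ring
    rw [e2]
    exact Dvd.dvd.mul_right (pow_dvd_pow_of_dvd hπν a) _
  have h2 : π ^ a ∣ t₁.map σ - (P.map σ).comp ν := by
    rw [ht₁, Polynomial.map_comp]
    exact dvd_trans hνσ (sub_dvd_comp_sub_comp (P.map σ) (ν.map σ) ν)
  have h3 : π ^ a ∣ t₁.map σ * t₁ - g := by
    have e : t₁.map σ * t₁ - g = (t₁.map σ - (P.map σ).comp ν) * t₁ +
        (t₁ * (P.map σ).comp ν - g) := by ring
    rw [e]
    exact dvd_add (Dvd.dvd.mul_right h2 _) h1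
  refine ⟨p₀ * t₁, ?_⟩
  have e : (p₀ * t₁).map σ * (p₀ * t₁) - f = w * (t₁.map σ * t₁ - g) + (w * g - f) := by
    rw [hw, Polynomial.map_mul]
    ring
  rw [e]
  exact dvd_add (Dvd.dvd.mul_left h3 _) hgw

end Cfsg.Agent.Lib.Helper8.GUConj
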