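import Mathlib
import Cfsg.Agent.Lib.Helper8.GUConjB

/-!
# A polynomial norm lemma modulo `σ`-stable polynomials: the induction (helper8)
-/

set_option autoImplicit false

namespace Cfsg.Agent.Lib.Helper8.GUConj

open Polynomial Cfsg.Agent.Lib.Helper8.SUReg

variable {K : Type*} [Field K] (σ : K →+* K)

theorem irreducible_map (hσ2 : ∀ a : K, σ (σ a) = a) {π : K[X]} (hπ : Irreducible π) :
    Irreducible (π.map σ) := by
  set σe : K ≃+* K := RingEquiv.ofRingHom σ σ (RingHom.ext hσ2) (RingHom.ext hσ2) with hσe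
  have h := (MulEquiv.irreducible_iff (Polynomial.mapEquiv σe) (x := π)).2 hπ
  exact h

/-- every unit modulo a `σ`-stable monic polynomial which is `σ`-fixed is a norm -/
theorem isNormMod_of_stable [Finite K] (hσ2 : ∀ a : K, σ (σ a) = a) (hσne : σ ≠ RingHom.id K)
    (htr : ∀ b : K, σ b = b → ∃ y : K, y + σ y = b) :
    ∀ (n : ℕ) (m : K[X]), m.natDegree = n → m.Monic → m.map σ = m →
      ∀ f : K[X], m ∣ f.map σ - f → IsCoprime f m → IsNormMod σ m f := by
  intro n
  induction n using Nat.strong_induction_on with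
  | _ n ih =>
  intro m hdeg hmon hmσ f hf hcop
  by_cases h0 : m.natDegree = 0
  · rw [Polynomial.eq_one_of_monic_natDegree_zero hmon h0]
    exact IsNormMod.one σ f
  have hm1 : m ≠ 1 := by
    intro h
    apply h0
    rw [h, Polynomial.natDegree_one]
  have hnu : ¬ IsUnit m := fun h => hm1 ((Polynomial.Monic.isUnit_iff hmon).1 h)
  obtain ⟨π, hπmon, hπirr, hπdvd⟩ := Polynomial.exists_monic_irreducible_factor m hnu
  have hm0 : m ≠ 0 := hmon.ne_zero
  have hfin : FiniteMultiplicity π m := FiniteMultiplicity.of_not_isUnit hπirr.not_isUnit hm0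
  obtain ⟨m', hm', hndvd⟩ := hfin.exists_eq_pow_mul_and_not_dvd
  set a := multiplicity π m with ha_def
  have ha : 1 ≤ a := by
    by_contra hcon
    have ha0 : a = 0 := by omega
    rw [ha0, pow_zero, one_mul] at hm'
    exact hndvd (hm' ▸ hπdvd)
  have hπamon : (π ^ a).Monic := hπmon.pow a
  have hm'mon : m'.Monic := hπamon.of_mul_monic_left (hm' ▸ hmon)
  have hπdeg : 1 ≤ π.natDegree := hπirr.natDegree_pos
  have hπadeg : 1 ≤ (π ^ a).natDegree := by
    rw [hπmon.natDegree_pow]
    exact Nat.mul_pos (by omega) hπdeg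
  have hcopπ : IsCoprime f π := hcop.of_isCoprime_of_dvd_right hπdvd
  have hπm' : IsCoprime π m' := (hπirr.coprime_iff_not_dvd).2 hndvd
  by_cases hπσ : π.map σ = π
  · -- a stable prime
    have hπaσ : (π ^ a).map σ = π ^ a := by rw [Polynomial.map_pow, hπσ]
    have hm'σ : m'.map σ = m' := by
      have e := hmσ
      rw [hm', Polynomial.map_mul, hπaσ] at e
      exact mul_left_cancel₀ hπamon.ne_zero e
    have hcopa : IsCoprime (π ^ a) m' := hπm'.pow_left
    have hd1 : π ^ a ∣ m := Dvd.intro _ hm'.symm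
    have hd2 : m' ∣ m := Dvd.intro_left _ hm'.symm
    have hn1 : IsNormMod σ (π ^ a) f :=
      IsNormMod.prime_pow σ hσ2 hσne htr hπirr hπσ a ha f (dvd_trans hd1 hf) hcopπ
    have hn2 : IsNormMod σ m' f := by
      apply ih m'.natDegree ?_ m' rfl hm'mon hm'σ f (dvd_trans hd2 hf)
        (hcop.of_isCoprime_of_dvd_right hd2)
      have e : m.natDegree = (π ^ a).natDegree + m'.natDegree := by
        conv_lhs => rw [hm']
        exact hπamon.natDegree_mul hm'mon
      omega
    rw [hm']
    exact IsNormMod.mul σ hcopa hπaσ hm'σ hn1 hn2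
  · -- a prime moved by `σ`
    have hπ'mon : (π.map σ).Monic := hπmon.map σ
    have hπ'irr : Irreducible (π.map σ) := irreducible_map σ hσ2 hπirr
    have hππ' : IsCoprime π (π.map σ) := by
      rw [hπirr.coprime_iff_not_dvd]
      intro hdvd
      have hassoc : Associated π (π.map σ) := hπirr.associated_of_dvd hπ'irr hdvd
      exact hπσ (Polynomial.eq_of_monic_of_associated hπmon hπ'mon hassoc).symm
    have huσ : (π ^ a).map σ = (π.map σ) ^ a := Polynomial.map_pow _ _
    have hcopuu : IsCoprime (π ^ a) ((π ^ a).map σ) := by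
      rw [huσ]
      exact hππ'.pow
    have hd1 : π ^ a ∣ m := Dvd.intro _ hm'.symm
    have hu'dvd : (π ^ a).map σ ∣ m := by
      have := map_dvd' σ hd1
      rwa [hmσ] at this
    have hu'dvdm' : (π ^ a).map σ ∣ m' := by
      have h1 : (π ^ a).map σ ∣ π ^ a * m' := hm' ▸ hu'dvd
      exact hcopuu.symm.dvd_of_dvd_mul_left h1
    obtain ⟨m'', hm''⟩ := hu'dvdm'
    have hmfac : m = π ^ a * (π ^ a).map σ * m'' := by
      conv_lhs => rw [hm', hm'']
      rw [mul_assoc]
    have hm₁σ : (π ^ a * (π ^ a).map σ).map σ = π ^ a * (π ^ a).map σ := by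
      rw [Polynomial.map_mul, map_map_self σ hσ2, mul_comm]
    have hm₁mon : (π ^ a * (π ^ a).map σ).Monic := hπamon.mul (hπamon.map σ)
    have hm''mon : m''.Monic := hm₁mon.of_mul_monic_left (hmfac ▸ hmon)
    have hm''σ : m''.map σ = m'' := by
      have e := hmσ
      rw [hmfac, Polynomial.map_mul, hm₁σ] at e
      exact mul_left_cancel₀ hm₁mon.ne_zero e
    have hπm'' : IsCoprime π m'' := by
      rw [hπirr.coprime_iff_not_dvd]
      intro h
      apply hndvd
      rw [hm'']
      exact Dvd.dvd.mul_left h _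
    have hπ'm'' : IsCoprime (π.map σ) m'' := by
      rw [hπ'irr.coprime_iff_not_dvd]
      intro h
      have h1 := map_dvd' σ h
      rw [map_map_self σ hσ2, hm''σ] at h1
      exact (hπirr.coprime_iff_not_dvd.1 hπm'') h1
    have hcop12 : IsCoprime (π ^ a * (π ^ a).map σ) m'' := by
      rw [huσ]
      exact IsCoprime.mul_left hπm''.pow_left hπ'm''.pow_left
    have hd3 : π ^ a * (π ^ a).map σ ∣ m := Dvd.intro _ hmfac.symm
    have hd4 : m'' ∣ m := Dvd.intro_left _ hmfac.symm
    have hn1 : IsNormMod σ (π ^ a * (π ^ a).map σ) f :=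
      IsNormMod.swap σ hσ2 hcopuu (dvd_trans hd3 hf)
    have hn2 : IsNormMod σ m'' f := by
      apply ih m''.natDegree ?_ m'' rfl hm''mon hm''σ f (dvd_trans hd4 hf)
        (hcop.of_isCoprime_of_dvd_right hd4)
      have e : m.natDegree = ((π ^ a).natDegree + ((π ^ a).map σ).natDegree) + m''.natDegree := by
        conv_lhs => rw [hmfac]
        rw [hm₁mon.natDegree_mul hm''mon, hπamon.natDegree_mul (hπamon.map σ)]
      omega
    rw [hmfac]
    exact IsNormMod.mul σ hcop12 hm₁σ hm''σ hn1 hn2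

end Cfsg.Agent.Lib.Helper8.GUConj
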