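import Mathlib
import Cfsg.Agent.S0277

/-!
# Orthogonal splitting of the standard Hermitian space along a nondegenerate subspace (helper8)
-/

set_option autoImplicit false
set_option linter.unusedSectionVars false

namespace Cfsg.Agent.Lib.Helper8.HermSplit

open Cfsg Cfsg.Agent.Lib.Helper5.UnitaryCount Cfsg.Agent.S0277

universe u v

section
variable {F : Type v} [Field F] [Finite F] {σ : F →+* F}

/-- an isometry from a nondegenerate Hermitian space onto the standard one -/
theorem exists_isometry (hσ : σ ≠ RingHom.id F) (hσ2 : ∀ a : F, σ (σ a) = a) (k : ℕ) (U : Type u)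
    [AddCommGroup U] [Module F U] [FiniteDimensional F U] (B : U →ₛₗ[σ] U →ₗ[F] F) (hS : B.IsSymm)
    (hB : B.SeparatingLeft) (hrank : Module.finrank F U = k) :
    ∃ φ : U ≃ₗ[F] (Fin k → F), ∀ u v, stdB k σ (φ u) (φ v) = B u v := by
  classical
  obtain ⟨b, hb⟩ := exists_basis hσ hσ2 hS hB hrank
  refine ⟨b.equivFun, ?_⟩
  intro u v
  have hu : u = ∑ i, b.equivFun u i • b i := (b.sum_equivFun u).symm
  have hv : v = ∑ i, b.equivFun v i • b i := (b.sum_equivFun v).symm
  conv_rhs => rw [hu, hv]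
  simp only [map_sum, LinearMap.sum_apply, LinearMap.map_smulₛₗ₂, map_smul, hb, smul_eq_mul,
    mul_ite, mul_one, mul_zero]
  rw [stdB_apply]
  refine Finset.sum_congr rfl (fun i _ => ?_)
  rw [Finset.sum_ite_eq' Finset.univ i, if_pos (Finset.mem_univ _), mul_comm]


/-- the orthogonal complement of a subspace of the standard Hermitian space -/
def perp (n : ℕ) (σ : F →+* F) (W : Submodule F (Fin n → F)) : Submodule F (Fin n → F) where
  carrier := {v | ∀ w ∈ W, stdB n σ w v = 0}
  add_mem' := by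
    intro a b ha hb w hw
    rw [map_add, ha w hw, hb w hw, add_zero]
  zero_mem' := by
    intro w _
    rw [map_zero]
  smul_mem' := by
    intro c a ha w hw
    rw [map_smul, ha w hw, smul_zero]

theorem mem_perp (n : ℕ) (W : Submodule F (Fin n → F)) (v : Fin n → F) :
    v ∈ perp n σ W ↔ ∀ w ∈ W, stdB n σ w v = 0 := Iff.rfl

/-- orthogonal splitting of the standard Hermitian space along a nondegenerate subspace -/
theorem exists_split (hσ : σ ≠ RingHom.id F) (hσ2 : ∀ a : F, σ (σ a) = a) (n k : ℕ)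
    (W : Submodule F (Fin n → F)) (hWk : Module.finrank F W = k)
    (hW : ∀ u ∈ W, (∀ v ∈ W, stdB n σ u v = 0) → u = 0) :
    ∃ Ψ : (Fin n → F) ≃ₗ[F] (Fin k → F) × (Fin (n - k) → F),
      (∀ u v, stdB n σ u v = stdB k σ (Ψ u).1 (Ψ v).1 + stdB (n - k) σ (Ψ u).2 (Ψ v).2) ∧
        ∀ v, v ∈ W ↔ (Ψ v).2 = 0 := by
  classical
  have hS : (stdB n σ).IsSymm := stdB_isSymm n σ hσ2
  have hSL : (stdB n σ).SeparatingLeft := stdB_sepLeft n σ
  have hsymm0 : ∀ x y, stdB n σ x y = 0 → stdB n σ y x = 0 := by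
    intro x y h
    rw [← hS.eq x y, h, map_zero]
  -- the restricted form on W
  have hSW : ((stdB n σ).domRestrict₁₂ W W).IsSymm := hS.domRestrict W
  have hBW : ((stdB n σ).domRestrict₁₂ W W).SeparatingLeft := by
    intro x hx
    apply Subtype.ext
    apply hW x.1 x.2
    intro v hv
    have := hx ⟨v, hv⟩
    rw [LinearMap.domRestrict₁₂_apply] at this
    exact this
  obtain ⟨b, hb⟩ := exists_basis hσ hσ2 hSW hBW hWk
  have hb' : ∀ i j, stdB n σ (b i : Fin n → F) (b j : Fin n → F) = if i = j then 1 else 0 := by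
    intro i j
    have := hb i j
    rw [LinearMap.domRestrict₁₂_apply] at this
    exact this
  -- complement
  have hdisj : W ⊓ perp n σ W = ⊥ := by
    rw [eq_bot_iff]
    intro x hx
    obtain ⟨hx1, hx2⟩ := Submodule.mem_inf.1 hx
    rw [Submodule.mem_bot]
    apply hW x hx1
    intro v hv
    exact hsymm0 _ _ (hx2 v hv)
  have hproj : ∀ v : Fin n → F, v - ∑ i, stdB n σ (b i : Fin n → F) v • (b i : Fin n → F) ∈ perp n σ W := by
    intro v
    have h1 : ∀ j, stdB n σ (b j : Fin n → F)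
        (v - ∑ i, stdB n σ (b i : Fin n → F) v • (b i : Fin n → F)) = 0 := by
      intro j
      rw [map_sub, map_sum]
      simp only [map_smul, hb', smul_eq_mul, mul_ite, mul_one, mul_zero]
      rw [Finset.sum_ite_eq Finset.univ j, if_pos (Finset.mem_univ _), sub_self]
    intro w hw
    have hw' : (⟨w, hw⟩ : W) = ∑ j, b.equivFun ⟨w, hw⟩ j • b j := (b.sum_equivFun ⟨w, hw⟩).symm
    have hw'' : w = ∑ j, b.equivFun ⟨w, hw⟩ j • (b j : Fin n → F) := by
      have h := congrArg (Submodule.subtype W) hw'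
      rw [map_sum] at h
      simpa only [map_smul, Submodule.subtype_apply] using h
    rw [hw'']
    simp only [map_sum, LinearMap.sum_apply, LinearMap.map_smulₛₗ₂, h1, smul_zero,
      Finset.sum_const_zero]
  have hsup : W ⊔ perp n σ W = ⊤ := by
    rw [eq_top_iff]
    intro v _
    rw [Submodule.mem_sup]
    refine ⟨∑ i, stdB n σ (b i : Fin n → F) v • (b i : Fin n → F), ?_, _, hproj v, by abel⟩
    exact Submodule.sum_mem _ (fun i _ => Submodule.smul_mem _ _ (b i).2)
  have hc : IsCompl W (perp n σ W) := IsCompl.of_eq hdisj hsup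
  have hW'k : Module.finrank F (perp n σ W) = n - k := by
    have := Submodule.finrank_add_eq_of_isCompl hc
    rw [hWk, Module.finrank_fin_fun] at this
    omega
  have hSW' : ((stdB n σ).domRestrict₁₂ (perp n σ W) (perp n σ W)).IsSymm := hS.domRestrict _
  have hBW' : ((stdB n σ).domRestrict₁₂ (perp n σ W) (perp n σ W)).SeparatingLeft := by
    intro x hx
    apply Subtype.ext
    apply hSL
    intro v
    have hv : v ∈ W ⊔ perp n σ W := by rw [hsup]; exact Submodule.mem_top
    obtain ⟨a, ha, c, hc', rfl⟩ := Submodule.mem_sup.1 hv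
    rw [map_add, hsymm0 _ _ (x.2 a ha), zero_add]
    have := hx ⟨c, hc'⟩
    rw [LinearMap.domRestrict₁₂_apply] at this
    exact this
  obtain ⟨φ₁, hφ₁⟩ := exists_isometry hσ hσ2 k W _ hSW hBW hWk
  obtain ⟨φ₂, hφ₂⟩ := exists_isometry hσ hσ2 (n - k) (perp n σ W) _ hSW' hBW' hW'k
  let P := Submodule.prodEquivOfIsCompl W (perp n σ W) hc
  refine ⟨P.symm ≪≫ₗ (φ₁.prodCongr φ₂), ?_, ?_⟩
  · intro u v
    have hdec : ∀ u, u = ((P.symm u).1 : Fin n → F) + ((P.symm u).2 : Fin n → F) := by
      intro u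
      have := P.apply_symm_apply u
      rw [Submodule.coe_prodEquivOfIsCompl'] at this
      exact this.symm
    change _ = stdB k σ (φ₁ (P.symm u).1) (φ₁ (P.symm v).1) +
      stdB (n - k) σ (φ₂ (P.symm u).2) (φ₂ (P.symm v).2)
    rw [hφ₁, hφ₂, LinearMap.domRestrict₁₂_apply, LinearMap.domRestrict₁₂_apply]
    conv_lhs => rw [hdec u, hdec v]
    rw [map_add, map_add, LinearMap.add_apply, LinearMap.add_apply,
      (P.symm v).2.2 _ (P.symm u).1.2, hsymm0 _ _ ((P.symm u).2.2 _ (P.symm v).1.2), add_zero,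
      zero_add]
  · intro v
    change v ∈ W ↔ φ₂ (P.symm v).2 = 0
    rw [LinearEquiv.map_eq_zero_iff]
    exact (Submodule.prodEquivOfIsCompl_symm_apply_snd_eq_zero W _ hc).symm

end

end Cfsg.Agent.Lib.Helper8.HermSplit
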