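import Mathlib
import Cfsg.Agent.Lib.Helper8.SURegB
import Cfsg.Agent.H9.RegUni

/-!
# Regular unipotent unitary matrices are conjugate in `GU` (helper8)
-/

set_option autoImplicit false

namespace Cfsg.Agent.Lib.Helper8.SUReg

open Cfsg Cfsg.Agent.S0277 Matrix Module Cfsg.Agent.H9.RegUni Cfsg.Agent.H9.RegNil

variable {K : Type*} [Field K] {n : ℕ} (σ : K →+* K)

/-- the centraliser of a regular unipotent matrix: scalar plus `N * M'` -/
theorem exists_scalar_add (hn : 1 ≤ n) (u : Matrix (Fin n) (Fin n) K) (hu : IsReg u)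
    (c : Matrix (Fin n) (Fin n) K) (hc : c * u = u * c) :
    ∃ (a : K) (M' : Matrix (Fin n) (Fin n) K), c = a • 1 + (u - 1) * M' ∧
      Commute (u - 1) M' := by
  classical
  set f := Matrix.toLin' (u - 1) with hf
  obtain ⟨hnil, hreg⟩ := hu.lin
  obtain ⟨v, hv⟩ := exists_cyc finrank_fun f hnil hreg hn
  set b := cycBasis finrank_fun f hnil v hv with hb
  set cL := Matrix.toLin' c with hcL
  have hcN : c * (u - 1) = (u - 1) * c := by
    rw [Matrix.mul_sub, Matrix.sub_mul, hc, Matrix.mul_one, Matrix.one_mul]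
  have hcomm : Commute cL f := by
    change cL * f = f * cL
    rw [hcL, hf, Module.End.mul_eq_comp, Module.End.mul_eq_comp, ← Matrix.toLin'_mul,
      ← Matrix.toLin'_mul, hcN]
  set a : Fin n → K := fun i => b.repr (cL v) i with ha
  set c'' : Module.End K (Fin n → K) := ∑ i : Fin n, a i • f ^ (i : ℕ) with hc''
  have hcomm'' : Commute c'' f := by
    apply Commute.sum_left
    intro i _
    exact ((Commute.refl f).pow_left (i : ℕ)).smul_left _
  have hv'' : cL v = c'' v := by
    rw [hc'', LinearMap.sum_apply]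
    conv_lhs => rw [← b.sum_repr (cL v)]
    apply Finset.sum_congr rfl
    intro i _
    rw [LinearMap.smul_apply, hb, cycBasis_apply]
  have heq : cL = c'' := eq_of_commute_of_apply_cyc finrank_fun f hnil v hv cL c'' hcomm hcomm'' hv''
  let i0 : Fin n := ⟨0, hn⟩
  set M' : Matrix (Fin n) (Fin n) K := ∑ i ∈ Finset.univ.erase i0, a i • (u - 1) ^ ((i : ℕ) - 1)
    with hM'
  have hcmat : c = ∑ i : Fin n, a i • (u - 1) ^ (i : ℕ) := by
    apply Matrix.toLin'.injective
    rw [← hcL, heq, hc'', map_sum]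
    refine Finset.sum_congr rfl (fun i _ => ?_)
    rw [map_smul, Matrix.toLin'_pow]
  refine ⟨a i0, M', ?_, ?_⟩
  · rw [hcmat, ← Finset.add_sum_erase _ _ (Finset.mem_univ i0), hM', Finset.mul_sum]
    congr 1
    apply Finset.sum_congr rfl
    intro i hi
    have hi0 : (i : ℕ) ≠ 0 := by
      intro h0
      apply (Finset.mem_erase.1 hi).1
      exact Fin.ext h0
    rw [Matrix.mul_smul, ← pow_succ']
    congr 2
    omega
  · apply Commute.sum_right
    intro i _
    exact ((Commute.refl (u - 1)).pow_right _).smul_right _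

/-- a nonzero vector in the kernel of `u - 1` -/
theorem exists_ker (hn : 1 ≤ n) (u : Matrix (Fin n) (Fin n) K) (hu : IsReg u) :
    ∃ w : Fin n → K, w ≠ 0 ∧ (u - 1) *ᵥ w = 0 := by
  have hdet : (u - 1).det = 0 := by
    have h := congrArg Matrix.det hu.1
    have : Nonempty (Fin n) := Fin.pos_iff_nonempty.1 (by omega)
    rw [Matrix.det_pow, Matrix.det_zero] at h
    exact pow_eq_zero_iff (by omega) |>.1 h
  exact Matrix.exists_mulVec_eq_zero_iff.2 hdet

theorem exists_stdB_ne (w : Fin n → K) (hw : w ≠ 0) : ∃ x : Fin n → K, stdB n σ x w ≠ 0 := by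
  by_contra hcon
  push Not at hcon
  apply hw
  have := eq_of_stdB_right σ w 0 (fun x => by rw [hcon x, map_zero])
  exact this

/-- `N *ᵥ z` is orthogonal to the kernel of `N` when `u = 1 + N` is unitary -/
theorem stdB_N_ker (u : Matrix (Fin n) (Fin n) K) (huU : adj σ u * u = 1)
    (w : Fin n → K) (hw : (u - 1) *ᵥ w = 0) (z : Fin n → K) :
    stdB n σ ((u - 1) *ᵥ z) w = 0 := by
  have huw : u *ᵥ w = w := by
    rw [Matrix.sub_mulVec, Matrix.one_mulVec, sub_eq_zero] at hw
    exact hw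
  have h1 : stdB n σ (u *ᵥ z) w = stdB n σ z w := by
    conv_lhs => rw [← huw]
    exact (isom_iff σ u).2 huU z w
  rw [Matrix.sub_mulVec, Matrix.one_mulVec, map_sub, LinearMap.sub_apply, h1, sub_self]

/-- the scalar part of a decomposed matrix acts on the kernel -/
theorem mulVec_ker (u : Matrix (Fin n) (Fin n) K) (a : K) (M' : Matrix (Fin n) (Fin n) K)
    (hM' : Commute (u - 1) M') (w : Fin n → K) (hw : (u - 1) *ᵥ w = 0) :
    (a • (1 : Matrix (Fin n) (Fin n) K) + (u - 1) * M') *ᵥ w = a • w := by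
  rw [Matrix.add_mulVec, Matrix.smul_mulVec, Matrix.one_mulVec, hM'.eq, ← Matrix.mulVec_mulVec, hw,
    Matrix.mulVec_zero, add_zero]

theorem stdB_decomp (u : Matrix (Fin n) (Fin n) K) (huU : adj σ u * u = 1) (a : K)
    (M' : Matrix (Fin n) (Fin n) K) (w : Fin n → K) (hw : (u - 1) *ᵥ w = 0) (x : Fin n → K) :
    stdB n σ ((a • (1 : Matrix (Fin n) (Fin n) K) + (u - 1) * M') *ᵥ x) w = σ a * stdB n σ x w := by
  rw [Matrix.add_mulVec, Matrix.smul_mulVec, Matrix.one_mulVec, ← Matrix.mulVec_mulVec, map_add,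
    LinearMap.add_apply, stdB_N_ker σ u huU w hw, add_zero, LinearMap.map_smulₛₗ, LinearMap.smul_apply,
    smul_eq_mul]

theorem commute_aeval (s u : Matrix (Fin n) (Fin n) K) (h : Commute s u) (p : Polynomial K) :
    Commute (Polynomial.aeval s p) u := by
  rw [Polynomial.aeval_eq_sum_range]
  apply Commute.sum_left
  intro i _
  exact (h.pow_left i).smul_left _

/-- regular unipotent unitary matrices are conjugate under the unitary group -/
theorem exists_unitary_conj (hn : 1 ≤ n) (hσ2 : ∀ a : K, σ (σ a) = a)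
    (htr : ∀ b : K, σ b = b → ∃ y : K, y + σ y = b)
    (hnorm : ∀ b : K, σ b = b → ∃ y : K, y * σ y = b)
    (u u' : Matrix (Fin n) (Fin n) K) (hu : IsReg u) (hu' : IsReg u')
    (huU : adj σ u * u = 1) (hu'U : adj σ u' * u' = 1) :
    ∃ g : Matrix (Fin n) (Fin n) K, adj σ g * g = 1 ∧ g * u = u' * g := by
  obtain ⟨x, hx⟩ := exists_conj hn u u' hu hu'
  set X : Matrix (Fin n) (Fin n) K := (x : Matrix (Fin n) (Fin n) K) with hX
  set Xi : Matrix (Fin n) (Fin n) K := ((x⁻¹ : GL (Fin n) K) : Matrix (Fin n) (Fin n) K) with hXi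
  have hXXi : X * Xi = 1 := by rw [hX, hXi, ← Units.val_mul, mul_inv_cancel, Units.val_one]
  have hXiX : Xi * X = 1 := by rw [hX, hXi, ← Units.val_mul, inv_mul_cancel, Units.val_one]
  have huU' : u * adj σ u = 1 := mul_eq_one_comm.1 huU
  set t := adj σ X * X with ht
  -- adj X * u' = u * adj X
  have h1 : adj σ X * u' = u * adj σ X := by
    have h := congrArg (adj σ) hx
    rw [adj_mul, adj_mul] at h
    calc adj σ X * u' = (u * adj σ u) * adj σ X * u' := by rw [huU', Matrix.one_mul]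
      _ = u * (adj σ u * adj σ X) * u' := by simp only [Matrix.mul_assoc]
      _ = u * (adj σ X * adj σ u') * u' := by rw [h]
      _ = u * adj σ X * (adj σ u' * u') := by simp only [Matrix.mul_assoc]
      _ = u * adj σ X := by rw [hu'U, Matrix.mul_one]
  have htu : t * u = u * t := by
    rw [ht, Matrix.mul_assoc, hx, ← Matrix.mul_assoc, h1, Matrix.mul_assoc]
  have htherm : adj σ t = t := by rw [ht, adj_mul, adj_adj σ hσ2]
  set ti := Xi * adj σ Xi with hti
  have htti : ti * t = 1 := by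
    rw [hti, ht]
    calc Xi * adj σ Xi * (adj σ X * X) = Xi * (adj σ Xi * adj σ X) * X := by
          simp only [Matrix.mul_assoc]
      _ = 1 := by rw [← adj_mul, hXXi, adj_one, Matrix.mul_one, hXiX]
  obtain ⟨t₀, M', htdec, hM'⟩ := exists_scalar_add hn u hu t htu
  obtain ⟨w, hw0, hw⟩ := exists_ker hn u hu
  obtain ⟨x₀, hx₀⟩ := exists_stdB_ne σ w hw0
  have htw : t *ᵥ w = t₀ • w := by rw [htdec]; exact mulVec_ker u t₀ M' hM' w hw
  have ht₀ : t₀ ≠ 0 := by
    rintro rfl
    rw [zero_smul] at htw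
    apply hw0
    have := congrArg (fun z => ti *ᵥ z) htw
    simp only [Matrix.mulVec_mulVec, htti, Matrix.one_mulVec, Matrix.mulVec_zero] at this
    exact this
  have ht₀fix : σ t₀ = t₀ := by
    have e1 : stdB n σ (t *ᵥ x₀) w = σ t₀ * stdB n σ x₀ w := by
      rw [htdec]; exact stdB_decomp σ u huU t₀ M' w hw x₀
    have e2 : stdB n σ (t *ᵥ x₀) w = t₀ * stdB n σ x₀ w := by
      rw [stdB_mulVec_left, htherm, htw, map_smul, smul_eq_mul]
    exact mul_right_cancel₀ hx₀ (e1.symm.trans e2)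
  set s := t₀⁻¹ • t - 1 with hs
  have hsherm : adj σ s = s := by
    rw [hs, adj_sub, adj_smul, adj_one, htherm, map_inv₀, ht₀fix]
  have hsNM : s = t₀⁻¹ • ((u - 1) * M') := by
    rw [hs, htdec, smul_add, smul_smul, inv_mul_cancel₀ ht₀, one_smul, add_sub_cancel_left]
  have hsnil : s ^ (n - 1 + 1) = 0 := by
    have hn' : n - 1 + 1 = n := by omega
    rw [hn', hsNM, smul_pow, hM'.mul_pow, hu.1, Matrix.zero_mul, smul_zero]
  have hts : t = t₀ • (1 + s) := by
    rw [hs, add_sub_cancel, smul_smul, mul_inv_cancel₀ ht₀, one_smul]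
  obtain ⟨p, hp⟩ := exists_norm_matrix σ hσ2 htr s hsherm (n - 1) hsnil
  obtain ⟨c₀, hc₀⟩ := hnorm t₀ ht₀fix
  set d := c₀ • Polynomial.aeval s p with hd
  have hdd : adj σ d * d = t := by
    rw [hd, adj_smul, Matrix.smul_mul, Matrix.mul_smul, smul_smul, hp, hts, mul_comm, hc₀]
  have hsu : Commute s u := by
    rw [hs]
    apply Commute.sub_left
    · exact (show Commute t u from htu).smul_left _
    · exact Commute.one_left _
  have hdu : d * u = u * d := by
    rw [hd]
    exact ((commute_aeval s u hsu p).smul_left c₀).eq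
  set di := ti * adj σ d with hdi
  have hdid : di * d = 1 := by rw [hdi, Matrix.mul_assoc, hdd, htti]
  have hddi : d * di = 1 := mul_eq_one_comm.1 hdid
  have hdiu : di * u = u * di := by
    calc di * u = di * u * (d * di) := by rw [hddi, Matrix.mul_one]
      _ = di * (u * d) * di := by simp only [Matrix.mul_assoc]
      _ = di * (d * u) * di := by rw [hdu]
      _ = (di * d) * u * di := by simp only [Matrix.mul_assoc]
      _ = u * di := by rw [hdid, Matrix.one_mul]
  refine ⟨X * di, ?_, ?_⟩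
  · rw [adj_mul]
    calc adj σ di * adj σ X * (X * di) = adj σ di * (adj σ X * X) * di := by
          simp only [Matrix.mul_assoc]
      _ = adj σ di * (adj σ d * d) * di := by rw [← ht, hdd]
      _ = (adj σ di * adj σ d) * (d * di) := by simp only [Matrix.mul_assoc]
      _ = 1 := by rw [← adj_mul, hddi, adj_one, Matrix.mul_one]
  · rw [Matrix.mul_assoc, hdiu, ← Matrix.mul_assoc, hx, Matrix.mul_assoc]

/-- determinants of unitary matrices centralising a regular unipotent unitary matrix -/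
theorem det_of_unitary_commute (hn : 1 ≤ n) (u : Matrix (Fin n) (Fin n) K) (hu : IsReg u)
    (huU : adj σ u * u = 1) (c : Matrix (Fin n) (Fin n) K) (hc : c * u = u * c)
    (hcU : adj σ c * c = 1) : ∃ a : K, a * σ a = 1 ∧ c.det = a ^ n := by
  obtain ⟨a, M', hcdec, hM'⟩ := exists_scalar_add hn u hu c hc
  obtain ⟨w, hw0, hw⟩ := exists_ker hn u hu
  obtain ⟨x₀, hx₀⟩ := exists_stdB_ne σ w hw0
  have hcw : c *ᵥ w = a • w := by rw [hcdec]; exact mulVec_ker u a M' hM' w hw
  refine ⟨a, ?_, ?_⟩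
  · have e1 : stdB n σ (c *ᵥ x₀) (c *ᵥ w) = stdB n σ x₀ w := (isom_iff σ c).2 hcU x₀ w
    have e2 : stdB n σ (c *ᵥ x₀) (c *ᵥ w) = a * (σ a * stdB n σ x₀ w) := by
      rw [hcw, map_smul, smul_eq_mul, hcdec, stdB_decomp σ u huU a M' w hw x₀]
    have e3 : (a * σ a) * stdB n σ x₀ w = 1 * stdB n σ x₀ w := by
      rw [one_mul, mul_assoc, ← e2, e1]
    exact mul_right_cancel₀ hx₀ e3
  · have hnilNM : IsNilpotent (Matrix.toLin' ((u - 1) * M')) := by
      refine ⟨n, ?_⟩
      rw [← Matrix.toLin'_pow, hM'.mul_pow, hu.1, Matrix.zero_mul, map_zero]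
    have h1 : Matrix.toLin' c = algebraMap K (Module.End K (Fin n → K)) a +
        Matrix.toLin' ((u - 1) * M') := by
      rw [hcdec, map_add, map_smul, Matrix.toLin'_one]
      congr 1
    rw [← LinearMap.det_toLin', h1, det_add_nilpotent _ _ hnilNM, finrank_fun]

end Cfsg.Agent.Lib.Helper8.SUReg
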