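import Mathlib
import Cfsg.Agent.Lib.Helper8.SURegC
import Cfsg.Agent.Lib.Helper8.HermSplit

/-!
# Existence of a regular unipotent unitary matrix (helper8)
-/

set_option autoImplicit false

namespace Cfsg.Agent.Lib.Helper8.SUReg

open Cfsg Cfsg.Agent.S0277 Matrix Cfsg.Agent.H9.RegUni

variable {K : Type*} [Field K] {n : ℕ} (σ : K →+* K)

/-- the antidiagonal matrix -/
def JJ (K : Type*) [Field K] (n : ℕ) : Matrix (Fin n) (Fin n) K :=
  Matrix.of (fun i j : Fin n => if i.val + j.val + 1 = n then (1 : K) else 0)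

theorem JJ_apply (i j : Fin n) : JJ K n i j = if i.val + j.val + 1 = n then (1 : K) else 0 := rfl

theorem JJ_mulVec (y : Fin n → K) (i : Fin n) : (JJ K n *ᵥ y) i = y (Fin.rev i) := by
  rw [Matrix.mulVec, dotProduct, Finset.sum_eq_single (Fin.rev i)]
  · rw [JJ_apply, if_pos, one_mul]
    rw [Fin.val_rev]
    have := i.2
    omega
  · intro j _ hj
    rw [JJ_apply, if_neg, zero_mul]
    intro h
    apply hj
    apply Fin.ext
    rw [Fin.val_rev]
    omega
  · intro h
    exact absurd (Finset.mem_univ _) h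

theorem adj_JJ : adj σ (JJ K n) = JJ K n := by
  ext i j
  rw [adj_apply, JJ_apply, JJ_apply, add_comm j.val i.val]
  split_ifs
  · exact map_one σ
  · exact map_zero σ

/-- the shift matrix -/
abbrev SS (K : Type*) [Field K] (n : ℕ) : Matrix (Fin n) (Fin n) K := Cfsg.Agent.S2163.NN K n (n - 1)

theorem SS_apply (hn : 1 ≤ n) (i j : Fin n) :
    SS K n i j = if i.val = j.val + 1 then (1 : K) else 0 := shift_apply hn i j

theorem adj_SS_mul_JJ (hn : 1 ≤ n) : adj σ (SS K n) * JJ K n = JJ K n * SS K n := by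
  ext i j
  rw [Matrix.mul_apply, Matrix.mul_apply]
  by_cases h : i.val + j.val + 2 = n
  · rw [Finset.sum_eq_single (Fin.rev j), Finset.sum_eq_single (Fin.rev i)]
    · rw [adj_apply, SS_apply hn, SS_apply hn, JJ_apply, JJ_apply, if_pos, if_pos, if_pos, if_pos,
        map_one]
      · rw [Fin.val_rev]; omega
      · rw [Fin.val_rev]; omega
      · rw [Fin.val_rev]; omega
      · rw [Fin.val_rev]; omega
    · intro k _ hk
      rw [JJ_apply, if_neg, zero_mul]
      intro h'
      apply hk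
      apply Fin.ext
      rw [Fin.val_rev]
      omega
    · intro h'
      exact absurd (Finset.mem_univ _) h'
    · intro k _ hk
      rw [JJ_apply, if_neg, mul_zero]
      intro h'
      apply hk
      apply Fin.ext
      rw [Fin.val_rev]
      omega
    · intro h'
      exact absurd (Finset.mem_univ _) h'
  · rw [Finset.sum_eq_zero, Finset.sum_eq_zero]
    · intro k _
      rw [JJ_apply, SS_apply hn]
      by_cases h1 : i.val + k.val + 1 = n
      · rw [if_pos h1, if_neg, mul_zero]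
        omega
      · rw [if_neg h1, zero_mul]
    · intro k _
      rw [adj_apply, JJ_apply, SS_apply hn]
      by_cases h1 : k.val + j.val + 1 = n
      · rw [if_pos h1, if_neg, map_zero, zero_mul]
        omega
      · rw [if_neg h1, mul_zero]

theorem SS_pow_n (hn : 1 ≤ n) : SS K n ^ n = 0 := by
  ext i j
  rw [shift_pow hn, Matrix.zero_apply, if_neg]
  have := i.2
  omega

/-- the Cayley transform: a regular unipotent isometry of the antidiagonal form -/
theorem exists_JJ_isReg (hn : 1 ≤ n) (hσ : σ ≠ RingHom.id K) (hσ2 : ∀ a : K, σ (σ a) = a) :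
    ∃ u : Matrix (Fin n) (Fin n) K, adj σ u * JJ K n * u = JJ K n ∧ IsReg u := by
  obtain ⟨a, ha⟩ : ∃ a : K, σ a ≠ a := by
    by_contra hcon
    push Not at hcon
    apply hσ
    ext x
    exact hcon x
  set S := SS K n with hS
  have hSn : S ^ n = 0 := SS_pow_n hn
  have hSJ : adj σ S * JJ K n = JJ K n * S := adj_SS_mul_JJ σ hn
  set P : Matrix (Fin n) (Fin n) K := 1 + a • S with hP
  set Q : Matrix (Fin n) (Fin n) K := 1 + σ a • S with hQ
  have hnil : IsNilpotent (σ a • S) := ⟨n, by rw [smul_pow, hSn, smul_zero]⟩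
  obtain ⟨Qu, hQu⟩ : IsUnit Q := hnil.isUnit_one_add
  set Qi : Matrix (Fin n) (Fin n) K := ((Qu⁻¹ : (Matrix (Fin n) (Fin n) K)ˣ) :
    Matrix (Fin n) (Fin n) K) with hQi
  have hQQi : Q * Qi = 1 := by rw [← hQu, hQi, ← Units.val_mul, mul_inv_cancel, Units.val_one]
  have hQiQ : Qi * Q = 1 := by rw [← hQu, hQi, ← Units.val_mul, inv_mul_cancel, Units.val_one]
  have hSQ : S * Q = Q * S := by
    rw [hQ, Matrix.mul_add, Matrix.add_mul, Matrix.mul_one, Matrix.one_mul, Matrix.mul_smul,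
      Matrix.smul_mul]
  have hSQi : S * Qi = Qi * S := by
    calc S * Qi = (Qi * Q) * S * Qi := by rw [hQiQ, Matrix.one_mul]
      _ = Qi * (Q * S) * Qi := by simp only [Matrix.mul_assoc]
      _ = Qi * (S * Q) * Qi := by rw [hSQ]
      _ = Qi * S * (Q * Qi) := by simp only [Matrix.mul_assoc]
      _ = Qi * S := by rw [hQQi, Matrix.mul_one]
  have hPQ : P * Q = Q * P := by
    have h1 : Commute S Q := hSQ
    exact ((Commute.one_left Q).add_left (h1.smul_left a)).eq
  have hadjP : adj σ P * JJ K n = JJ K n * Q := by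
    rw [hP, hQ, adj_add, adj_one, adj_smul, Matrix.add_mul, Matrix.mul_add, Matrix.one_mul,
      Matrix.mul_one, Matrix.smul_mul, Matrix.mul_smul, hSJ]
  have hadjQ : adj σ Q * JJ K n = JJ K n * P := by
    rw [hP, hQ, adj_add, adj_one, adj_smul, hσ2, Matrix.add_mul, Matrix.mul_add, Matrix.one_mul,
      Matrix.mul_one, Matrix.smul_mul, Matrix.mul_smul, hSJ]
  have hadjQi : adj σ Qi * adj σ Q = 1 := by rw [← adj_mul, hQQi, adj_one]
  refine ⟨P * Qi, ?_, ?_⟩
  · rw [adj_mul]
    calc adj σ Qi * adj σ P * JJ K n * (P * Qi)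
        = adj σ Qi * (adj σ P * JJ K n) * P * Qi := by simp only [Matrix.mul_assoc]
      _ = adj σ Qi * (JJ K n * Q) * P * Qi := by rw [hadjP]
      _ = adj σ Qi * JJ K n * (Q * P) * Qi := by simp only [Matrix.mul_assoc]
      _ = adj σ Qi * JJ K n * (P * Q) * Qi := by rw [hPQ]
      _ = adj σ Qi * (JJ K n * P) * (Q * Qi) := by simp only [Matrix.mul_assoc]
      _ = adj σ Qi * (adj σ Q * JJ K n) := by rw [hQQi, Matrix.mul_one, hadjQ]
      _ = (adj σ Qi * adj σ Q) * JJ K n := by simp only [Matrix.mul_assoc]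
      _ = JJ K n := by rw [hadjQi, Matrix.one_mul]
  · have h1 : P * Qi - 1 = (a - σ a) • (S * Qi) := by
      calc P * Qi - 1 = P * Qi - Q * Qi := by rw [hQQi]
        _ = (P - Q) * Qi := by rw [Matrix.sub_mul]
        _ = (a - σ a) • (S * Qi) := by
          rw [hP, hQ, add_sub_add_left_eq_sub, ← sub_smul, Matrix.smul_mul]
    have hc : a - σ a ≠ 0 := fun h => ha (sub_eq_zero.1 h).symm
    refine ⟨?_, ?_⟩
    · rw [h1, smul_pow, (show Commute S Qi from hSQi).mul_pow, hSn, Matrix.zero_mul, smul_zero]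
    · rw [h1]
      have hdet : IsUnit Qi.det := by
        have : Qi.det * Q.det = 1 := by rw [← Matrix.det_mul, hQiQ, Matrix.det_one]
        exact IsUnit.of_mul_eq_one _ this
      have h2 : ((a - σ a) • (S * Qi)).rank = (S * Qi).rank := by
        exact Matrix.rank_smul_of_mem_nonZeroDivisors _ (mem_nonZeroDivisors_of_ne_zero hc)
      rw [h2, Matrix.rank_mul_eq_left_of_isUnit_det _ _ hdet]
      exact Cfsg.Agent.S2163.rank_NN (by omega)

/-- the antidiagonal Hermitian form -/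
noncomputable def BJ (n : ℕ) (σ : K →+* K) : (Fin n → K) →ₛₗ[σ] (Fin n → K) →ₗ[K] K :=
  (stdB n σ).compl₂ (Matrix.toLin' (JJ K n))

theorem BJ_apply (x y : Fin n → K) : BJ n σ x y = stdB n σ x (JJ K n *ᵥ y) := by
  unfold BJ
  rw [LinearMap.compl₂_apply, Matrix.toLin'_apply]

theorem BJ_isSymm (hσ2 : ∀ a : K, σ (σ a) = a) : (BJ n σ).IsSymm := by
  constructor
  intro x y
  rw [BJ_apply, BJ_apply, (stdB_isSymm n σ hσ2).eq, stdB_mulVec_left, adj_JJ]

theorem BJ_sepLeft : (BJ n σ).SeparatingLeft := by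
  intro x hx
  apply stdB_sepLeft n σ
  intro y
  have := hx (JJ K n *ᵥ y)
  rw [BJ_apply] at this
  have h2 : JJ K n *ᵥ (JJ K n *ᵥ y) = y := by
    funext i
    rw [JJ_mulVec, JJ_mulVec, Fin.rev_rev]
  rw [h2] at this
  exact this

/-- a regular unipotent unitary matrix -/
theorem exists_unitary_isReg [Finite K] (hn : 1 ≤ n) (hσ : σ ≠ RingHom.id K)
    (hσ2 : ∀ a : K, σ (σ a) = a) :
    ∃ u : Matrix (Fin n) (Fin n) K, adj σ u * u = 1 ∧ IsReg u := by
  obtain ⟨uJ, huJ, hreg⟩ := exists_JJ_isReg σ hn hσ hσ2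
  obtain ⟨φ, hφ⟩ := Cfsg.Agent.Lib.Helper8.HermSplit.exists_isometry hσ hσ2 n (Fin n → K) (BJ n σ)
    (BJ_isSymm σ hσ2) (BJ_sepLeft σ) finrank_fun
  set Pm : Matrix (Fin n) (Fin n) K := LinearMap.toMatrix' φ.toLinearMap with hPm
  set Pi : Matrix (Fin n) (Fin n) K := LinearMap.toMatrix' φ.symm.toLinearMap with hPi
  have hPP : Pm * Pi = 1 := by
    rw [hPm, hPi, ← LinearMap.toMatrix'_comp]
    have : φ.toLinearMap ∘ₗ φ.symm.toLinearMap = LinearMap.id := by
      ext x : 1
      simp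
    rw [this, LinearMap.toMatrix'_id]
  have hPiP : Pi * Pm = 1 := mul_eq_one_comm.1 hPP
  have hφm : ∀ x, φ x = Pm *ᵥ x := by
    intro x
    rw [hPm, LinearMap.toMatrix'_mulVec]
    rfl
  have hJ : adj σ Pm * Pm = JJ K n := by
    have h1 : ∀ y, (adj σ Pm * Pm) *ᵥ y = JJ K n *ᵥ y := by
      intro y
      apply eq_of_stdB_right σ
      intro x
      rw [← Matrix.mulVec_mulVec, ← stdB_mulVec_left, ← hφm, ← hφm, hφ, BJ_apply]
    exact Matrix.ext_iff_mulVec.2 h1
  refine ⟨Pm * uJ * Pi, ?_, ?_⟩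
  · rw [adj_mul, adj_mul]
    calc adj σ Pi * (adj σ uJ * adj σ Pm) * (Pm * uJ * Pi)
        = adj σ Pi * (adj σ uJ * (adj σ Pm * Pm) * uJ) * Pi := by simp only [Matrix.mul_assoc]
      _ = adj σ Pi * (adj σ Pm * Pm) * Pi := by rw [hJ, huJ]
      _ = (adj σ Pi * adj σ Pm) * (Pm * Pi) := by simp only [Matrix.mul_assoc]
      _ = 1 := by rw [← adj_mul, hPP, adj_one, Matrix.mul_one]
  · have h1 : Pm * uJ * Pi - 1 = Pm * (uJ - 1) * Pi := by
      rw [Matrix.mul_sub, Matrix.sub_mul, Matrix.mul_one, hPP]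
    have hpow : ∀ k : ℕ, (Pm * (uJ - 1) * Pi) ^ k = Pm * (uJ - 1) ^ k * Pi := by
      intro k
      induction k with
      | zero => rw [pow_zero, pow_zero, Matrix.mul_one, hPP]
      | succ k ih =>
        rw [pow_succ, ih, pow_succ]
        calc Pm * (uJ - 1) ^ k * Pi * (Pm * (uJ - 1) * Pi)
            = Pm * (uJ - 1) ^ k * (Pi * Pm) * (uJ - 1) * Pi := by simp only [Matrix.mul_assoc]
          _ = Pm * ((uJ - 1) ^ k * (uJ - 1)) * Pi := by
            rw [hPiP, Matrix.mul_one]; simp only [Matrix.mul_assoc]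
    have hdetPm : IsUnit Pm.det := by
      have : Pm.det * Pi.det = 1 := by rw [← Matrix.det_mul, hPP, Matrix.det_one]
      exact IsUnit.of_mul_eq_one _ this
    have hdetPi : IsUnit Pi.det := by
      have : Pi.det * Pm.det = 1 := by rw [← Matrix.det_mul, hPiP, Matrix.det_one]
      exact IsUnit.of_mul_eq_one _ this
    refine ⟨?_, ?_⟩
    · rw [h1, hpow, hreg.1, Matrix.mul_zero, Matrix.zero_mul]
    · rw [h1, Matrix.rank_mul_eq_left_of_isUnit_det _ _ hdetPi,
        Matrix.rank_mul_eq_right_of_isUnit_det _ _ hdetPm]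
      exact hreg.2

/-- regular unipotent matrices have determinant one -/
theorem det_of_isReg (u : Matrix (Fin n) (Fin n) K) (hu : IsReg u) : u.det = 1 := by
  have hnil : IsNilpotent (Matrix.toLin' (u - 1)) := by
    refine ⟨n, ?_⟩
    rw [← Matrix.toLin'_pow, hu.1, map_zero]
  have h1 : Matrix.toLin' u = algebraMap K (Module.End K (Fin n → K)) 1 + Matrix.toLin' (u - 1) := by
    have e1 : (1 : Module.End K (Fin n → K)) = Matrix.toLin' (1 : Matrix (Fin n) (Fin n) K) := by
      rw [Matrix.toLin'_one]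
      rfl
    rw [map_one, e1, ← map_add, add_sub_cancel]
  rw [← LinearMap.det_toLin', h1, det_add_nilpotent _ _ hnil, one_pow]

end Cfsg.Agent.Lib.Helper8.SUReg
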