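import Mathlib
import Cfsg.Prelude.Def_GeometricClasses
import Cfsg.Agent.Lib.Helper8.UnitaryA

/-!
# Non-degenerate unitary forms on `F^n` over a finite field (helper8)

Basic identities, Riesz representation, dual vectors, totally isotropic bound, anisotropic
vectors, representation of norms, isotropic vectors with prescribed inner products.
-/

set_option autoImplicit false

namespace Cfsg.Agent.Lib.Helper8.Unitary

open Matrix

section Form

variable {n : ℕ} {F : Type*} [Field F] {σ : F ≃+* F} {f : (Fin n → F) → (Fin n → F) → F}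
variable (hf : Cfsg.Geo.IsUnitaryForm σ f)
include hf

lemma f_add_right (v x y : Fin n → F) : f v (x + y) = f v x + f v y := by
  rw [hf.herm, hf.add_left, map_add, ← hf.herm, ← hf.herm]

lemma f_smul_right (c : F) (v x : Fin n → F) : f v (c • x) = σ c * f v x := by
  rw [hf.herm, hf.smul_left, map_mul, ← hf.herm]

lemma f_zero_left (v : Fin n → F) : f 0 v = 0 := by
  have := hf.smul_left 0 0 v
  simpa using this

lemma f_zero_right (v : Fin n → F) : f v 0 = 0 := by
  rw [hf.herm, f_zero_left hf, map_zero]

lemma f_neg_left (x v : Fin n → F) : f (-x) v = - f x v := by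
  have := hf.smul_left (-1) x v
  simpa using this

lemma f_neg_right (v x : Fin n → F) : f v (-x) = - f v x := by
  rw [hf.herm, f_neg_left hf, map_neg, ← hf.herm]

lemma f_sub_left (x y v : Fin n → F) : f (x - y) v = f x v - f y v := by
  rw [sub_eq_add_neg, hf.add_left, f_neg_left hf, sub_eq_add_neg]

lemma f_sub_right (v x y : Fin n → F) : f v (x - y) = f v x - f v y := by
  rw [sub_eq_add_neg, f_add_right hf, f_neg_right hf, sub_eq_add_neg]

lemma f_self_fix (x : Fin n → F) : σ (f x x) = f x x := (hf.herm x x).symm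

lemma f_sum_left {ι : Type*} (s : Finset ι) (g : ι → Fin n → F) (v : Fin n → F) :
    f (∑ i ∈ s, g i) v = ∑ i ∈ s, f (g i) v := by
  classical
  induction s using Finset.induction_on with
  | empty => simp [f_zero_left hf]
  | insert a s ha ih => rw [Finset.sum_insert ha, Finset.sum_insert ha, hf.add_left, ih]

lemma f_sum_right {ι : Type*} (s : Finset ι) (g : ι → Fin n → F) (v : Fin n → F) :
    f v (∑ i ∈ s, g i) = ∑ i ∈ s, f v (g i) := by
  classical
  induction s using Finset.induction_on with
  | empty => simp [f_zero_right hf]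
  | insert a s ha ih => rw [Finset.sum_insert ha, Finset.sum_insert ha, f_add_right hf, ih]

lemma f_add_self (x y : Fin n → F) :
    f (x + y) (x + y) = f x x + f y y + (f x y + σ (f x y)) := by
  rw [hf.add_left, f_add_right hf, f_add_right hf, ← hf.herm y x]
  ring

lemma f_swap_eq_zero (x y : Fin n → F) (h : f x y = 0) : f y x = 0 := by
  rw [hf.herm, h, map_zero]

lemma f_swap_ne_zero (x y : Fin n → F) (h : f x y ≠ 0) : f y x ≠ 0 :=
  fun h' => h (f_swap_eq_zero hf y x h')

/-- `x ↦ f x y` as a linear map -/
def leftLin (y : Fin n → F) : (Fin n → F) →ₗ[F] F where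
  toFun x := f x y
  map_add' x x' := hf.add_left x x' y
  map_smul' c x := by rw [hf.smul_left]; rfl

omit hf in
/-- the vector representing `x ↦ f x y` -/
def flatU (f : (Fin n → F) → (Fin n → F) → F) (y : Fin n → F) : Fin n → F :=
  fun i => f (Pi.single i 1) y

lemma flatU_dot (x y : Fin n → F) : flatU f y ⬝ᵥ x = f x y := by
  have h1 := LinearMap.pi_apply_eq_sum_univ (leftLin hf y) x
  have h2 : f x y = leftLin hf y x := rfl
  rw [h2, h1, dotProduct]
  apply Finset.sum_congr rfl
  intro i _
  rw [smul_eq_mul, mul_comm]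
  congr 1
  show f (Pi.single i 1) y = f _ y
  congr 1
  funext j
  rw [Pi.single_apply]
  by_cases h : j = i
  · subst h; simp
  · rw [if_neg h, if_neg (Ne.symm h)]

lemma flatU_add (y y' : Fin n → F) : flatU f (y + y') = flatU f y + flatU f y' := by
  funext i
  exact f_add_right hf _ y y'

lemma flatU_smul (c : F) (y : Fin n → F) : flatU f (c • y) = σ c • flatU f y := by
  funext i
  exact f_smul_right hf c _ y

lemma flatU_injective : Function.Injective (flatU f) := by
  intro y y' h
  by_contra hne
  have hne' : y - y' ≠ 0 := sub_ne_zero.2 hne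
  obtain ⟨⟨x, hx⟩, -⟩ := hf.nondegenerate _ hne'
  apply hx
  rw [f_sub_right hf, ← flatU_dot hf, ← flatU_dot hf x y', h, sub_self]

/-- Riesz representation -/
lemma exists_rep [Finite F] (φ : Fin n → F) : ∃ y : Fin n → F, ∀ x, φ ⬝ᵥ x = f x y := by
  obtain ⟨y, hy⟩ := (Finite.injective_iff_surjective.1 (flatU_injective hf)) φ
  exact ⟨y, fun x => by rw [← hy, flatU_dot hf]⟩

lemma eq_zero_of_forall (y : Fin n → F) (h : ∀ x, f x y = 0) : y = 0 := by
  by_contra hne
  obtain ⟨⟨x, hx⟩, -⟩ := hf.nondegenerate _ hne
  exact hx (h x)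

end Form

end Cfsg.Agent.Lib.Helper8.Unitary
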