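import Mathlib
import Cfsg.Prelude.Def_GeometricClasses
import Cfsg.Agent.Lib.Helper8.UnitaryB

/-!
# Geometry of non-degenerate unitary forms on `F^n` over a finite field (helper8)
-/

set_option autoImplicit false

namespace Cfsg.Agent.Lib.Helper8.Unitary

open Matrix

section Geometry

variable {n : ℕ} {F : Type*} [Field F] {σ : F ≃+* F} {f : (Fin n → F) → (Fin n → F) → F}
variable (hf : Cfsg.Geo.IsUnitaryForm σ f)
include hf

/-- the linear map `x ↦ (f x (y i))_i` -/
def evalLin {k : ℕ} (y : Fin k → Fin n → F) : (Fin n → F) →ₗ[F] (Fin k → F) where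
  toFun x := fun i => f x (y i)
  map_add' x x' := by funext i; exact hf.add_left x x' (y i)
  map_smul' c x := by funext i; rw [hf.smul_left]; rfl

lemma evalLin_apply {k : ℕ} (y : Fin k → Fin n → F) (x : Fin n → F) (i : Fin k) :
    evalLin hf y x i = f x (y i) := rfl

omit hf in
/-- a functional (as a vector) separating a vector from a subspace -/
lemma exists_functional' {k : ℕ} (U : Submodule F (Fin k → F)) (x : Fin k → F) (hx : x ∉ U) :
    ∃ c : Fin k → F, c ⬝ᵥ x = 1 ∧ ∀ u ∈ U, c ⬝ᵥ u = 0 := by
  obtain ⟨φ, hφ, hU⟩ := Submodule.exists_dual_map_eq_bot_of_notMem hx inferInstance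
  set c := (dotProductEquiv F (Fin k)).symm φ with hcdef
  have hc : ∀ y, c ⬝ᵥ y = φ y := fun y => by
    have h1 := LinearEquiv.apply_symm_apply (dotProductEquiv F (Fin k)) φ
    have h2 := congrArg (fun ψ : Module.Dual F (Fin k → F) => ψ y) h1
    exact h2
  refine ⟨(φ x)⁻¹ • c, ?_, ?_⟩
  · rw [smul_dotProduct, hc, smul_eq_mul, inv_mul_cancel₀ hφ]
  · intro u hu
    rw [smul_dotProduct, hc]
    have : φ u ∈ U.map φ := ⟨u, hu, rfl⟩
    rw [hU] at this
    rw [(Submodule.mem_bot F).1 this, smul_zero]

/-- dual vectors: prescribed inner products against an independent family -/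
lemma exists_dual (hinv : ∀ a : F, σ (σ a) = a) {k : ℕ} (y : Fin k → Fin n → F)
    (hy : LinearIndependent F y) (a : Fin k → F) : ∃ x, ∀ i, f x (y i) = a i := by
  by_contra hcon
  have hnot : a ∉ LinearMap.range (evalLin hf y) := by
    rintro ⟨x, hx⟩
    exact hcon ⟨x, fun i => congrFun hx i⟩
  obtain ⟨c, hc1, hc0⟩ := exists_functional' _ a hnot
  have h1 : ∀ x, f x (∑ i, σ (c i) • y i) = 0 := by
    intro x
    rw [f_sum_right hf]
    have := hc0 _ ⟨x, rfl⟩
    rw [dotProduct] at this
    rw [← this]
    apply Finset.sum_congr rfl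
    intro i _
    rw [f_smul_right hf, hinv, evalLin_apply]
  have h2 := eq_zero_of_forall hf _ h1
  have h3 := (Fintype.linearIndependent_iff.1 hy) (fun i => σ (c i)) h2
  have h4 : c = 0 := by
    funext i
    have := h3 i
    simpa using this
  rw [h4, zero_dotProduct] at hc1
  exact zero_ne_one hc1

/-- a totally isotropic subspace has dimension at most `n / 2` -/
lemma ti_finrank_le (hinv : ∀ a : F, σ (σ a) = a) (P : Submodule F (Fin n → F))
    (hP : ∀ x ∈ P, ∀ y ∈ P, f x y = 0) : 2 * Module.finrank F P ≤ n := by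
  set m := Module.finrank F P with hm
  let b := Module.finBasis F P
  let y : Fin m → Fin n → F := fun i => (b i : Fin n → F)
  have hy : LinearIndependent F y := by
    have := b.linearIndependent.map' P.subtype (Submodule.ker_subtype P)
    exact this
  have hsurj : LinearMap.range (evalLin hf y) = ⊤ := by
    rw [eq_top_iff]
    intro a _
    obtain ⟨x, hx⟩ := exists_dual hf hinv y hy a
    exact ⟨x, funext hx⟩
  have hle : P ≤ LinearMap.ker (evalLin hf y) := by
    intro x hx
    rw [LinearMap.mem_ker]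
    funext i
    exact hP x hx _ (b i).2
  have h1 := LinearMap.finrank_range_add_finrank_ker (evalLin hf y)
  rw [hsurj, finrank_top, Module.finrank_fintype_fun_eq_card, Module.finrank_fintype_fun_eq_card,
    Fintype.card_fin, Fintype.card_fin] at h1
  have h2 := Submodule.finrank_mono hle
  omega

/-- polarization: a subspace all of whose vectors are isotropic is totally isotropic -/
lemma ti_of_forall_iso (hinv : ∀ a : F, σ (σ a) = a) (P : Submodule F (Fin n → F))
    (hP : ∀ x ∈ P, f x x = 0) : ∀ x ∈ P, ∀ y ∈ P, f x y = 0 := by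
  intro x hx y hy
  by_contra hne
  obtain ⟨a₀, ha₀⟩ := exists_tr_ne hf.ne_refl
  apply ha₀
  have h1 := hP _ (P.add_mem hx (P.smul_mem (σ (a₀ / f x y)) hy))
  rw [f_add_self hf, hP x hx, hf.smul_left, f_smul_right hf, hP y hy, f_smul_right hf, hinv] at h1
  have h2 : a₀ / f x y * f x y = a₀ := by field_simp
  rw [h2] at h1
  simpa using h1

lemma exists_aniso (hinv : ∀ a : F, σ (σ a) = a) (P : Submodule F (Fin n → F))
    (hP : n < 2 * Module.finrank F P) : ∃ x ∈ P, f x x ≠ 0 := by
  by_contra hcon
  push Not at hcon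
  have := ti_finrank_le hf hinv P (ti_of_forall_iso hf hinv P hcon)
  omega

/-- a large subspace represents every element of the fixed field -/
lemma represent [Fintype F] (hinv : ∀ a : F, σ (σ a) = a) (P : Submodule F (Fin n → F))
    (hP : n < 2 * Module.finrank F P) (r : F) (hr : σ r = r) : ∃ x ∈ P, f x x = r := by
  obtain ⟨x₀, hx₀, hα⟩ := exists_aniso hf hinv P hP
  have hfix : σ (r / f x₀ x₀) = r / f x₀ x₀ := by
    rw [map_div₀, hr, f_self_fix hf]
  obtain ⟨l, hl⟩ := norm_surj hf.ne_refl hinv _ hfix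
  refine ⟨l • x₀, P.smul_mem _ hx₀, ?_⟩
  rw [hf.smul_left, f_smul_right hf, ← mul_assoc, hl]
  field_simp

omit hf in
/-- the kernel of a linear map to a `k`-dimensional space has codimension at most `k` -/
lemma finrank_ker_ge {W : Type*} [AddCommGroup W] [Module F W] [FiniteDimensional F W]
    (L : (Fin n → F) →ₗ[F] W) : n ≤ Module.finrank F (LinearMap.ker L) + Module.finrank F W := by
  have h1 := LinearMap.finrank_range_add_finrank_ker L
  rw [Module.finrank_fintype_fun_eq_card, Fintype.card_fin] at h1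
  have h2 : Module.finrank F (LinearMap.range L) ≤ Module.finrank F W := Submodule.finrank_le _
  omega

/-- an isotropic vector with prescribed inner products against an independent family -/
lemma prescribe [Fintype F] (hinv : ∀ a : F, σ (σ a) = a) {k : ℕ} (y : Fin k → Fin n → F)
    (hy : LinearIndependent F y) (a : Fin k → F) (hk : 2 * (k + 1) < n) :
    ∃ w, f w w = 0 ∧ ∀ i, f w (y i) = a i := by
  obtain ⟨w₀, hw₀⟩ := exists_dual hf hinv y hy a
  let L : (Fin n → F) →ₗ[F] ((Fin k → F) × F) := (evalLin hf y).prod (leftLin hf w₀)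
  have h1 := finrank_ker_ge L
  rw [Module.finrank_prod, Module.finrank_fintype_fun_eq_card, Fintype.card_fin,
    Module.finrank_self] at h1
  have hfix : σ (-(f w₀ w₀)) = -(f w₀ w₀) := by rw [map_neg, f_self_fix hf]
  obtain ⟨x, hx, hxx⟩ := represent hf hinv (LinearMap.ker L) (by omega) _ hfix
  rw [LinearMap.mem_ker] at hx
  have hx1 : ∀ i, f x (y i) = 0 := by
    intro i
    have := congrArg (fun p => p.1 i) hx
    exact this
  have hx2 : f x w₀ = 0 := by
    have := congrArg (fun p => p.2) hx
    exact this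
  refine ⟨w₀ + x, ?_, fun i => ?_⟩
  · rw [f_add_self hf, hxx, f_swap_eq_zero hf x w₀ hx2]
    simp
  · rw [hf.add_left, hw₀, hx1, add_zero]

end Geometry

end Cfsg.Agent.Lib.Helper8.Unitary
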