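import Mathlib
import Cfsg.Prelude.Def_GeometricClasses
import Cfsg.Agent.Lib.Helper8.UnitaryC

/-!
# Further geometry of non-degenerate unitary forms on `F^n` (helper8)

Isotropic vectors non-perpendicular to two given vectors, decomposition into isotropic vectors.
-/

set_option autoImplicit false

namespace Cfsg.Agent.Lib.Helper8.Unitary

open Matrix

section Geometry2

variable {n : ℕ} {F : Type*} [Field F] [Fintype F] {σ : F ≃+* F}
variable {f : (Fin n → F) → (Fin n → F) → F}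
variable (hf : Cfsg.Geo.IsUnitaryForm σ f) (hinv : ∀ a : F, σ (σ a) = a)
include hf hinv

/-- an isotropic vector with prescribed inner product against one nonzero vector -/
lemma prescribe1 (hn : 5 ≤ n) (y : Fin n → F) (hy : y ≠ 0) (a : F) :
    ∃ w, f w w = 0 ∧ f w y = a := by
  have hli : LinearIndependent F ![y] := by
    rw [linearIndependent_unique_iff]
    exact hy
  obtain ⟨w, hw, h⟩ := prescribe hf hinv ![y] hli ![a] (by omega)
  exact ⟨w, hw, by simpa using h 0⟩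

lemma prescribe2 (hn : 7 ≤ n) (y₁ y₂ : Fin n → F) (hli : LinearIndependent F ![y₁, y₂])
    (a₁ a₂ : F) : ∃ w, f w w = 0 ∧ f w y₁ = a₁ ∧ f w y₂ = a₂ := by
  obtain ⟨w, hw, h⟩ := prescribe hf hinv ![y₁, y₂] hli ![a₁, a₂] (by omega)
  exact ⟨w, hw, by simpa using h 0, by simpa using h 1⟩

lemma exists_iso_ne_zero (hn : 5 ≤ n) : ∃ v : Fin n → F, v ≠ 0 ∧ f v v = 0 := by
  have hpos : 0 < n := by omega
  have he : (Pi.single (⟨0, hpos⟩ : Fin n) (1 : F) : Fin n → F) ≠ 0 := by
    intro h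
    have := congrFun h ⟨0, hpos⟩
    simp at this
  obtain ⟨w, hw, h⟩ := prescribe1 hf hinv hn _ he 1
  refine ⟨w, ?_, hw⟩
  rintro rfl
  rw [f_zero_left hf] at h
  exact zero_ne_one h

/-- an isotropic vector not perpendicular to either of two nonzero vectors -/
lemma exists_iso_both (hn : 7 ≤ n) (v w : Fin n → F) (hv : v ≠ 0) (hw : w ≠ 0) :
    ∃ t, f t t = 0 ∧ f t v ≠ 0 ∧ f t w ≠ 0 := by
  by_cases hli : LinearIndependent F ![v, w]
  · obtain ⟨t, ht, h1, h2⟩ := prescribe2 hf hinv hn v w hli 1 1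
    exact ⟨t, ht, by rw [h1]; exact one_ne_zero, by rw [h2]; exact one_ne_zero⟩
  · rw [LinearIndependent.pair_iff' hv] at hli
    push Not at hli
    obtain ⟨a, ha⟩ := hli
    have ha0 : a ≠ 0 := by
      rintro rfl
      rw [zero_smul] at ha
      exact hw ha.symm
    obtain ⟨t, ht, h1⟩ := prescribe1 hf hinv (by omega) v hv 1
    refine ⟨t, ht, by rw [h1]; exact one_ne_zero, ?_⟩
    rw [← ha, f_smul_right hf, h1, mul_one]
    exact fun h => ha0 ((map_eq_zero σ).1 h)

/-- every vector is a sum of two isotropic vectors -/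
lemma iso_decomp (hn : 5 ≤ n) (y : Fin n → F) :
    ∃ s₁ s₂ : Fin n → F, f s₁ s₁ = 0 ∧ f s₂ s₂ = 0 ∧ y = s₁ + s₂ := by
  by_cases hy : y = 0
  · exact ⟨0, 0, f_zero_left hf 0, f_zero_left hf 0, by rw [hy, add_zero]⟩
  obtain ⟨τ, hτ⟩ := tr_surj hf.ne_refl hinv (f y y) (f_self_fix hf y)
  obtain ⟨s₁, hs₁, h1⟩ := prescribe1 hf hinv hn y hy τ
  refine ⟨s₁, y - s₁, hs₁, ?_, by abel⟩
  rw [f_sub_left hf, f_sub_right hf, f_sub_right hf, hs₁, h1, hf.herm y s₁, h1]
  linear_combination -hτ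

end Geometry2

end Cfsg.Agent.Lib.Helper8.Unitary
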