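import Mathlib
import Cfsg.Agent.S5643

/-!
# Generation of unitary groups by unitary transvections: basic steps (helper8)

`ut u z` is the unitary transvection `x ↦ x + σ z f(x,u) u`; `TT` the subgroup of `GL` they
generate (`u` isotropic, `z + σ z = 0`).
-/

set_option autoImplicit false

namespace Cfsg.Agent.Lib.Helper8.SUGen

open Cfsg Matrix Cfsg.Agent.S5631 Cfsg.Agent.S5643 Cfsg.Agent.Lib.Helper8.Unitary

variable {n : ℕ} {F : Type*} [Field F] {σ : F ≃+* F} {f : (Fin n → F) → (Fin n → F) → F}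
variable (hf : Cfsg.Geo.IsUnitaryForm σ f)

/-- the unitary transvection `x ↦ x + σ z f(x,u) u` -/
def ut (u : Fin n → F) (hu : f u u = 0) (z : F) : GL (Fin n) F :=
  tvf hf u (z • u) (by rw [f_smul_right hf, hu, mul_zero])

lemma ut_mulVec (u : Fin n → F) (hu : f u u = 0) (z : F) (x : Fin n → F) :
    ((ut hf u hu z : GL (Fin n) F) : Matrix (Fin n) (Fin n) F) *ᵥ x = x + (σ z * f x u) • u := by
  rw [ut, tvf_mulVec, f_smul_right hf]

/-- the group generated by the unitary transvections -/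
def TT : Subgroup (GL (Fin n) F) :=
  Subgroup.closure {g | ∃ (u : Fin n → F) (hu : f u u = 0) (z : F), z + σ z = 0 ∧ g = ut hf u hu z}

lemma ut_mem (u : Fin n → F) (hu : f u u = 0) (z : F) (hz : z + σ z = 0) :
    ut hf u hu z ∈ TT hf :=
  Subgroup.subset_closure ⟨u, hu, z, hz, rfl⟩

lemma TT_le :
    TT hf ≤ Cfsg.preserving (Units.coeHom (Matrix (Fin n) (Fin n) F)) f ⊓
      Cfsg.Geo.specialLinear (Fin n) F := by
  rw [TT, Subgroup.closure_le]
  rintro g ⟨u, hu, z, hz, rfl⟩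
  refine ⟨fun x y => ?_, tvf_mem_SL hf _ _ _⟩
  exact tvf_isometry hf hf.involutive u hu z hz (by rw [f_smul_right hf, hu, mul_zero]) x y

include hf

lemma TT_iso (g : GL (Fin n) F) (hg : g ∈ TT hf) (x y : Fin n → F) :
    f ((g : Matrix (Fin n) (Fin n) F) *ᵥ x) ((g : Matrix (Fin n) (Fin n) F) *ᵥ y) = f x y :=
  (TT_le hf hg).1 x y

omit hf in
lemma mul_mulVec (a b : GL (Fin n) F) (x : Fin n → F) :
    ((a * b : GL (Fin n) F) : Matrix (Fin n) (Fin n) F) *ᵥ x =
      (a : Matrix (Fin n) (Fin n) F) *ᵥ ((b : Matrix (Fin n) (Fin n) F) *ᵥ x) := by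
  rw [Units.val_mul, Matrix.mulVec_mulVec]

omit hf in
lemma one_mulVec' (x : Fin n → F) :
    ((1 : GL (Fin n) F) : Matrix (Fin n) (Fin n) F) *ᵥ x = x := by
  rw [Units.val_one, Matrix.one_mulVec]

omit hf in
lemma inv_mulVec_eq (a : GL (Fin n) F) (x y : Fin n → F)
    (h : (a : Matrix (Fin n) (Fin n) F) *ᵥ x = y) :
    ((a⁻¹ : GL (Fin n) F) : Matrix (Fin n) (Fin n) F) *ᵥ y = x := by
  rw [← h, inv_mulVec_mulVec]

/-- one step: isotropic `u₁, u₂` with `f(u₁,u₂)` a nonzero trace-zero scalar are linked -/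
lemma one_step (u₁ u₂ : Fin n → F) (h₁ : f u₁ u₁ = 0) (h₂ : f u₂ u₂ = 0)
    (hz : f u₁ u₂ + σ (f u₁ u₂) = 0) (hne : f u₁ u₂ ≠ 0) :
    ∃ t ∈ TT hf, (t : Matrix (Fin n) (Fin n) F) *ᵥ u₁ = u₂ := by
  have h21 : f u₂ u₁ = σ (f u₁ u₂) := hf.herm u₂ u₁
  have hc : f (u₂ - u₁) (u₂ - u₁) = 0 := by
    rw [f_sub_left hf, f_sub_right hf, f_sub_right hf, h₁, h₂, h21]
    linear_combination -hz
  have hz' : σ (f u₁ u₂)⁻¹ + σ (σ (f u₁ u₂)⁻¹) = 0 := by
    have := Z_inv (σ := σ) (f u₁ u₂) hz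
    rw [hf.involutive]; linear_combination this
  refine ⟨ut hf (u₂ - u₁) hc (σ (f u₁ u₂)⁻¹), ut_mem hf _ hc _ hz', ?_⟩
  rw [ut_mulVec, hf.involutive, f_sub_right hf, h₁, sub_zero, inv_mul_cancel₀ hne, one_smul]
  abel

/-- an isotropic partner -/
lemma exists_partner (u x : Fin n → F) (hu : f u u = 0) (hx : f u x = 1) :
    ∃ β : F, f (x + β • u) (x + β • u) = 0 ∧ f u (x + β • u) = 1 := by
  obtain ⟨β, hβ⟩ := tr_surj hf.ne_refl hf.involutive (-(f x x))
    (by rw [map_neg, f_self_fix hf])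
  have hxu : f x u = 1 := by rw [hf.herm, hx, map_one]
  refine ⟨β, ?_, ?_⟩
  · rw [hf.add_left, f_add_right hf, f_add_right hf, hf.smul_left, hf.smul_left,
      f_smul_right hf, f_smul_right hf, hu, hx, hxu]
    linear_combination hβ
  · rw [f_add_right hf, f_smul_right hf, hu, hx, mul_zero, add_zero]

omit hf in
/-- hyperbolic pair -/
structure HP (f : (Fin n → F) → (Fin n → F) → F) (u v : Fin n → F) : Prop where
  uu : f u u = 0
  vv : f v v = 0
  uv : f u v = 1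

lemma HP.vu {u v : Fin n → F} (h : HP f u v) : f v u = 1 := by
  rw [hf.herm, h.uv, map_one]

/-- component orthogonal to a hyperbolic pair -/
def pr (f : (Fin n → F) → (Fin n → F) → F) (u v x : Fin n → F) : Fin n → F :=
  x - f x v • u - f x u • v

lemma pr_u {u v : Fin n → F} (h : HP f u v) (x : Fin n → F) : f (pr f u v x) u = 0 := by
  rw [pr, f_sub_left hf, f_sub_left hf, hf.smul_left, hf.smul_left, h.uu, HP.vu hf h]
  ring

lemma pr_v {u v : Fin n → F} (h : HP f u v) (x : Fin n → F) : f (pr f u v x) v = 0 := by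
  rw [pr, f_sub_left hf, f_sub_left hf, hf.smul_left, hf.smul_left, h.vv, h.uv]
  ring

omit hf in
lemma pr_eq (u v x : Fin n → F) : x = f x v • u + f x u • v + pr f u v x := by
  rw [pr]; abel

end Cfsg.Agent.Lib.Helper8.SUGen
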