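import Mathlib
import Cfsg.Agent.Lib.Helper8.SUGenA

/-!
# Generation of unitary groups by transvections: existence lemmas and transitivity on
isotropic vectors (helper8)
-/

set_option autoImplicit false

namespace Cfsg.Agent.Lib.Helper8.SUGen

open Cfsg Matrix Cfsg.Agent.S5631 Cfsg.Agent.S5643 Cfsg.Agent.Lib.Helper8.Unitary

variable {n : ℕ} {F : Type*} [Field F] {σ : F ≃+* F} {f : (Fin n → F) → (Fin n → F) → F}
variable (hf : Cfsg.Geo.IsUnitaryForm σ f)

lemma exists_notMem_span {k : ℕ} (y : Fin k → Fin n → F) (hk : k < n) :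
    ∃ x : Fin n → F, x ∉ Submodule.span F (Set.range y) := by
  by_contra hcon
  push Not at hcon
  have h1 : Submodule.span F (Set.range y) = ⊤ := by
    rw [eq_top_iff]; intro x _; exact hcon x
  have h2 := finrank_range_le_card (R := F) y
  rw [Set.finrank, h1, finrank_top, Module.finrank_fintype_fun_eq_card, Fintype.card_fin,
    Fintype.card_fin] at h2
  omega

include hf

lemma exists_perp_hp (hn : 3 ≤ n) {u v : Fin n → F} (h : HP f u v) :
    ∃ x, x ≠ 0 ∧ f x u = 0 ∧ f x v = 0 := by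
  obtain ⟨x, hx⟩ := exists_notMem_span (F := F) ![u, v] (by omega)
  refine ⟨pr f u v x, ?_, pr_u hf h x, pr_v hf h x⟩
  intro h0
  apply hx
  have := pr_eq (f := f) u v x
  rw [h0, add_zero] at this
  rw [this]
  apply Submodule.add_mem
  · apply Submodule.smul_mem; apply Submodule.subset_span; exact ⟨0, rfl⟩
  · apply Submodule.smul_mem; apply Submodule.subset_span; exact ⟨1, rfl⟩

lemma exists_partner_perp {u v : Fin n → F} (h : HP f u v) (x : Fin n → F) (hx0 : x ≠ 0)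
    (hxx : f x x = 0) (hxu : f x u = 0) (hxv : f x v = 0) :
    ∃ v', HP f x v' ∧ f v' u = 0 ∧ f v' v = 0 := by
  obtain ⟨y, hy⟩ := (hf.nondegenerate x hx0).2
  have h1 : f x ((σ (f x y)⁻¹) • y) = 1 := by
    rw [f_smul_right hf, hf.involutive, inv_mul_cancel₀ hy]
  have h2u : f (pr f u v ((σ (f x y)⁻¹) • y)) u = 0 := pr_u hf h _
  have h2v : f (pr f u v ((σ (f x y)⁻¹) • y)) v = 0 := pr_v hf h _
  have h2 : f x (pr f u v ((σ (f x y)⁻¹) • y)) = 1 := by
    rw [pr, f_sub_right hf, f_sub_right hf, f_smul_right hf (f _ v), f_smul_right hf (f _ u),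
      hxu, hxv, h1]
    ring
  obtain ⟨β, hβ1, hβ2⟩ := exists_partner hf x _ hxx h2
  refine ⟨_, ⟨hxx, hβ1, hβ2⟩, ?_, ?_⟩
  · rw [hf.add_left, hf.smul_left, h2u, hxu]; ring
  · rw [hf.add_left, hf.smul_left, h2v, hxv]; ring

lemma exists_unit_perp [Fintype F] (hn : 3 ≤ n) {u v : Fin n → F} (h : HP f u v) :
    ∃ a, f a a = 1 ∧ f a u = 0 ∧ f a v = 0 := by
  obtain ⟨x, hx0, hxu, hxv⟩ := exists_perp_hp hf hn h
  by_cases hxx : f x x = 0
  · obtain ⟨v', hp, hv'u, hv'v⟩ := exists_partner_perp hf h x hx0 hxx hxu hxv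
    obtain ⟨c, hc⟩ := tr_surj hf.ne_refl hf.involutive 1 (map_one σ)
    refine ⟨x + c • v', ?_, ?_, ?_⟩
    · rw [hf.add_left, f_add_right hf, f_add_right hf, hf.smul_left, hf.smul_left,
        f_smul_right hf, f_smul_right hf, hxx, hp.vv, hp.uv, HP.vu hf hp]
      linear_combination hc
    · rw [hf.add_left, hf.smul_left, hxu, hv'u]; ring
    · rw [hf.add_left, hf.smul_left, hxv, hv'v]; ring
  · obtain ⟨l, hl⟩ := norm_surj hf.ne_refl hf.involutive (f x x)⁻¹
      (by rw [map_inv₀, f_self_fix hf])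
    refine ⟨l • x, ?_, ?_, ?_⟩
    · rw [hf.smul_left, f_smul_right hf, ← mul_assoc, hl, inv_mul_cancel₀ hxx]
    · rw [hf.smul_left, hxu, mul_zero]
    · rw [hf.smul_left, hxv, mul_zero]

lemma exists_HP_of_iso (u : Fin n → F) (hu0 : u ≠ 0) (hu : f u u = 0) : ∃ v, HP f u v := by
  obtain ⟨y, hy⟩ := (hf.nondegenerate u hu0).2
  have h1 : f u ((σ (f u y)⁻¹) • y) = 1 := by
    rw [f_smul_right hf, hf.involutive, inv_mul_cancel₀ hy]
  obtain ⟨β, hβ1, hβ2⟩ := exists_partner hf u _ hu h1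
  exact ⟨_, hu, hβ1, hβ2⟩

lemma exists_iso [Fintype F] (hn : 2 ≤ n) : ∃ u : Fin n → F, u ≠ 0 ∧ f u u = 0 := by
  obtain ⟨x, hx⟩ := exists_notMem_span (F := F) (n := n) (Fin.elim0 : Fin 0 → Fin n → F) (by omega)
  have hx0 : x ≠ 0 := by
    rintro rfl; exact hx (Submodule.zero_mem _)
  by_cases hxx : f x x = 0
  · exact ⟨x, hx0, hxx⟩
  obtain ⟨z, hz⟩ := exists_notMem_span (F := F) ![x] (by omega)
  have hy0 : z - (f z x / f x x) • x ≠ 0 := by
    intro h0
    apply hz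
    rw [sub_eq_zero] at h0
    rw [h0]
    apply Submodule.smul_mem; apply Submodule.subset_span; exact ⟨0, rfl⟩
  have hyx : f (z - (f z x / f x x) • x) x = 0 := by
    rw [f_sub_left hf, hf.smul_left]; field_simp; ring
  set y := z - (f z x / f x x) • x with hy
  by_cases hyy : f y y = 0
  · exact ⟨y, hy0, hyy⟩
  obtain ⟨l, hl⟩ := norm_surj hf.ne_refl hf.involutive (-(f x x) / f y y)
    (by rw [map_div₀, map_neg, f_self_fix hf, f_self_fix hf])
  have hxy : f x y = 0 := f_swap_eq_zero hf _ _ hyx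
  refine ⟨x + l • y, ?_, ?_⟩
  · intro h0
    have : f (x + l • y) x = f x x := by rw [hf.add_left, hf.smul_left, hyx]; ring
    rw [h0, f_zero_left hf] at this
    exact hxx this.symm
  · rw [hf.add_left, f_add_right hf, f_add_right hf, hf.smul_left, hf.smul_left,
      f_smul_right hf, f_smul_right hf, hxy, hyx]
    have : l * (σ l * f y y) = -(f x x) := by
      rw [← mul_assoc, hl]; field_simp
    linear_combination this

lemma exists_HP [Fintype F] (hn : 2 ≤ n) : ∃ u v : Fin n → F, HP f u v := by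
  obtain ⟨u, hu0, hu⟩ := exists_iso hf hn
  obtain ⟨v, hv⟩ := exists_HP_of_iso hf u hu0 hu
  exact ⟨u, v, hv⟩

lemma exists_link (u u' : Fin n → F) (hu0 : u ≠ 0) (hu'0 : u' ≠ 0) (hu : f u u = 0)
    (hu' : f u' u' = 0) (h0 : f u u' = 0) :
    ∃ w, f w w = 0 ∧ f u w ≠ 0 ∧ f w u' ≠ 0 := by
  obtain ⟨v, hp⟩ := exists_HP_of_iso hf u hu0 hu
  by_cases hv : f v u' = 0
  · have h1 : f u' u = 0 := f_swap_eq_zero hf _ _ h0
    have h2 : f u' v = 0 := f_swap_eq_zero hf _ _ hv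
    obtain ⟨v', hp', hv'u, hv'v⟩ := exists_partner_perp hf hp u' hu'0 hu' h1 h2
    refine ⟨v + v', ?_, ?_, ?_⟩
    · rw [hf.add_left, f_add_right hf, f_add_right hf, hp.vv, hp'.vv, hv'v,
        f_swap_eq_zero hf _ _ hv'v]
      ring
    · rw [f_add_right hf, hp.uv, f_swap_eq_zero hf _ _ hv'u, add_zero]; exact one_ne_zero
    · rw [hf.add_left, hv, HP.vu hf hp', zero_add]; exact one_ne_zero
  · exact ⟨v, hp.vv, by rw [hp.uv]; exact one_ne_zero, hv⟩

/-- two steps: non-orthogonal isotropic vectors are linked (`n ≥ 3`) -/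
lemma two_step [Fintype F] (hn : 3 ≤ n) (u u' : Fin n → F) (hu : f u u = 0) (hu' : f u' u' = 0)
    (hc : f u u' ≠ 0) :
    ∃ t ∈ TT hf, (t : Matrix (Fin n) (Fin n) F) *ᵥ u = u' := by
  have hσc : σ (f u u') ≠ 0 := by simpa using hc
  have hp : HP f u ((σ (f u u'))⁻¹ • u') :=
    ⟨hu, by rw [hf.smul_left, f_smul_right hf, hu']; ring,
      by rw [f_smul_right hf, map_inv₀, hf.involutive, inv_mul_cancel₀ hc]⟩
  obtain ⟨a, haa, hau, hav⟩ := exists_unit_perp hf hn hp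
  have hau' : f a u' = 0 := by
    have : u' = σ (f u u') • ((σ (f u u'))⁻¹ • u') := by
      rw [smul_smul, mul_inv_cancel₀ hσc, one_smul]
    rw [this, f_smul_right hf, hav, mul_zero]
  obtain ⟨ζ, hζ0, hζ⟩ := exists_Z hf.ne_refl hf.involutive
  have hσζ : σ ζ = -ζ := by linear_combination hζ
  obtain ⟨γ, hγ⟩ := norm_surj hf.ne_refl hf.involutive
    (-(ζ ^ 2 * ((f u u')⁻¹ + (σ (f u u'))⁻¹))) (by
    rw [map_neg, map_mul, map_pow, map_add, map_inv₀, map_inv₀, hf.involutive, hσζ]; ring)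
  have hua : f u a = 0 := f_swap_eq_zero hf _ _ hau
  have hu'a : f u' a = 0 := f_swap_eq_zero hf _ _ hau'
  have hu'u : f u' u = σ (f u u') := hf.herm u' u
  have hww : f ((ζ / f u u') • u + (-ζ / σ (f u u')) • u' + γ • a)
      ((ζ / f u u') • u + (-ζ / σ (f u u')) • u' + γ • a) = 0 := by
    simp only [hf.add_left, f_add_right hf, hf.smul_left, f_smul_right hf, hu, hu', haa, hau,
      hau', hua, hu'a, hu'u, map_div₀, map_neg, hσζ, hf.involutive]
    field_simp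
    field_simp at hγ
    linear_combination hγ
  have h1 : f u ((ζ / f u u') • u + (-ζ / σ (f u u')) • u' + γ • a) = ζ := by
    simp only [f_add_right hf, f_smul_right hf, hu, hua, map_div₀, map_neg, hσζ, hf.involutive]
    field_simp
    ring
  have h2 : f ((ζ / f u u') • u + (-ζ / σ (f u u')) • u' + γ • a) u' = ζ := by
    simp only [hf.add_left, hf.smul_left, hu', hau']
    field_simp
    ring
  obtain ⟨t₁, ht₁, e₁⟩ := one_step hf u _ hu hww (by rw [h1]; exact hζ) (by rw [h1]; exact hζ0)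
  obtain ⟨t₂, ht₂, e₂⟩ := one_step hf _ u' hww hu' (by rw [h2]; exact hζ) (by rw [h2]; exact hζ0)
  exact ⟨t₂ * t₁, (TT hf).mul_mem ht₂ ht₁, by rw [mul_mulVec, e₁, e₂]⟩

/-- `TT` is transitive on nonzero isotropic vectors (`n ≥ 3`) -/
lemma trans_iso [Fintype F] (hn : 3 ≤ n) (u u' : Fin n → F) (hu0 : u ≠ 0) (hu'0 : u' ≠ 0)
    (hu : f u u = 0) (hu' : f u' u' = 0) :
    ∃ t ∈ TT hf, (t : Matrix (Fin n) (Fin n) F) *ᵥ u = u' := by
  by_cases hc : f u u' = 0
  · obtain ⟨w, hww, h1, h2⟩ := exists_link hf u u' hu0 hu'0 hu hu' hc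
    obtain ⟨t₁, ht₁, e₁⟩ := two_step hf hn u w hu hww h1
    obtain ⟨t₂, ht₂, e₂⟩ := two_step hf hn w u' hww hu' h2
    exact ⟨t₂ * t₁, (TT hf).mul_mem ht₂ ht₁, by rw [mul_mulVec, e₁, e₂]⟩
  · exact two_step hf hn u u' hu hu' hc

end Cfsg.Agent.Lib.Helper8.SUGen
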