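import Mathlib
import Cfsg.Agent.Lib.Helper8.SUGenB

/-!
# Generation of unitary groups by transvections: the hyperbolic plane (helper8)
-/

set_option autoImplicit false

namespace Cfsg.Agent.Lib.Helper8.SUGen

open Cfsg Matrix Cfsg.Agent.S5631 Cfsg.Agent.S5643 Cfsg.Agent.Lib.Helper8.Unitary

variable {n : ℕ} {F : Type*} [Field F] {σ : F ≃+* F} {f : (Fin n → F) → (Fin n → F) → F}
variable (hf : Cfsg.Geo.IsUnitaryForm σ f)

lemma det_tvM' (v φ : Fin n → F) : (tvM v φ).det = 1 + φ ⬝ᵥ v := by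
  rw [tvM, Matrix.vecMulVec_eq (Fin 1), Matrix.det_one_add_replicateCol_mul_replicateRow]

include hf

lemma ut_perp (w : Fin n → F) (hw : f w w = 0) (z : F) (x : Fin n → F) (hx : f x w = 0) :
    ((ut hf w hw z : GL (Fin n) F) : Matrix (Fin n) (Fin n) F) *ᵥ x = x := by
  rw [ut_mulVec, hx, mul_zero, zero_smul, add_zero]

lemma ut_u_u {u v : Fin n → F} (hp : HP f u v) (z : F) :
    ((ut hf u hp.uu z : GL (Fin n) F) : Matrix (Fin n) (Fin n) F) *ᵥ u = u :=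
  ut_perp hf u hp.uu z u hp.uu

lemma ut_u_v {u v : Fin n → F} (hp : HP f u v) (z : F) :
    ((ut hf u hp.uu z : GL (Fin n) F) : Matrix (Fin n) (Fin n) F) *ᵥ v = v + σ z • u := by
  rw [ut_mulVec, HP.vu hf hp, mul_one]

lemma ut_v_v {u v : Fin n → F} (hp : HP f u v) (z : F) :
    ((ut hf v hp.vv z : GL (Fin n) F) : Matrix (Fin n) (Fin n) F) *ᵥ v = v :=
  ut_perp hf v hp.vv z v hp.vv

lemma ut_v_u {u v : Fin n → F} (hp : HP f u v) (z : F) :
    ((ut hf v hp.vv z : GL (Fin n) F) : Matrix (Fin n) (Fin n) F) *ᵥ u = u + σ z • v := by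
  rw [ut_mulVec, hp.uv, mul_one]

omit hf in
/-- two matrices agreeing on `u`, `v` and on `{u,v}^⊥` are equal -/
lemma hp_ext_mat {u v : Fin n → F} (A B : Matrix (Fin n) (Fin n) F)
    (hu : A *ᵥ u = B *ᵥ u) (hv : A *ᵥ v = B *ᵥ v)
    (hperp : ∀ x, f x u = 0 → f x v = 0 → A *ᵥ x = B *ᵥ x) 
    (hpu : ∀ x, f (pr f u v x) u = 0) (hpv : ∀ x, f (pr f u v x) v = 0) : A = B := by
  rw [Matrix.ext_iff_mulVec]
  intro x
  have e := pr_eq (f := f) u v x
  rw [e, Matrix.mulVec_add, Matrix.mulVec_add, Matrix.mulVec_add, Matrix.mulVec_add,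
    Matrix.mulVec_smul, Matrix.mulVec_smul, Matrix.mulVec_smul, Matrix.mulVec_smul, hu, hv,
    hperp _ (hpu x) (hpv x)]

lemma hp_ext {u v : Fin n → F} (hp : HP f u v) (a b : GL (Fin n) F)
    (hu : (a : Matrix (Fin n) (Fin n) F) *ᵥ u = (b : Matrix (Fin n) (Fin n) F) *ᵥ u)
    (hv : (a : Matrix (Fin n) (Fin n) F) *ᵥ v = (b : Matrix (Fin n) (Fin n) F) *ᵥ v)
    (hperp : ∀ x, f x u = 0 → f x v = 0 →
      (a : Matrix (Fin n) (Fin n) F) *ᵥ x = (b : Matrix (Fin n) (Fin n) F) *ᵥ x) : a = b :=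
  Units.ext (hp_ext_mat (f := f) _ _ hu hv hperp (pr_u hf hp) (pr_v hf hp))

/-- the Weyl-type element `u ↦ -b⁻¹ v`, `v ↦ b u` -/
lemma exists_w {u v : Fin n → F} (hp : HP f u v) (b : F) (hb0 : b ≠ 0) (hb : b + σ b = 0) :
    ∃ w ∈ TT hf, (w : Matrix (Fin n) (Fin n) F) *ᵥ u = (-b⁻¹) • v ∧
      (w : Matrix (Fin n) (Fin n) F) *ᵥ v = b • u ∧
      ∀ x, f x u = 0 → f x v = 0 → (w : Matrix (Fin n) (Fin n) F) *ᵥ x = x := by
  have h1 : σ b + σ (σ b) = 0 := Z_sigma hf.involutive b hb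
  have h2 : σ (-b⁻¹) + σ (σ (-b⁻¹)) = 0 :=
    Z_sigma hf.involutive _ (Z_neg _ (Z_inv b hb))
  refine ⟨ut hf u hp.uu (σ b) * ut hf v hp.vv (σ (-b⁻¹)) * ut hf u hp.uu (σ b),
    (TT hf).mul_mem ((TT hf).mul_mem (ut_mem hf _ _ _ h1) (ut_mem hf _ _ _ h2))
      (ut_mem hf _ _ _ h1), ?_, ?_, ?_⟩
  · simp only [mul_mulVec, Matrix.mulVec_add, Matrix.mulVec_smul, ut_u_u hf hp, ut_u_v hf hp,
      ut_v_v hf hp, ut_v_u hf hp, hf.involutive]
    match_scalars <;> field_simp <;> ring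
  · simp only [mul_mulVec, Matrix.mulVec_add, Matrix.mulVec_smul, ut_u_u hf hp, ut_u_v hf hp,
      ut_v_v hf hp, ut_v_u hf hp, hf.involutive]
    match_scalars <;> field_simp <;> ring
  · intro x hxu hxv
    rw [mul_mulVec, mul_mulVec, ut_perp hf u hp.uu _ x hxu, ut_perp hf v hp.vv _ x hxv,
      ut_perp hf u hp.uu _ x hxu]

/-- the torus element `u ↦ r u`, `v ↦ r⁻¹ v` for `r` in the fixed field -/
lemma exists_torus {u v : Fin n → F} (hp : HP f u v) (r : F) (hr0 : r ≠ 0) (hr : σ r = r) :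
    ∃ d ∈ TT hf, (d : Matrix (Fin n) (Fin n) F) *ᵥ u = r • u ∧
      (d : Matrix (Fin n) (Fin n) F) *ᵥ v = r⁻¹ • v ∧
      ∀ x, f x u = 0 → f x v = 0 → (d : Matrix (Fin n) (Fin n) F) *ᵥ x = x := by
  obtain ⟨ζ, hζ0, hζ⟩ := exists_Z hf.ne_refl hf.involutive
  obtain ⟨w₁, hw₁, e1u, e1v, e1p⟩ := exists_w hf hp (r * ζ) (mul_ne_zero hr0 hζ0)
    (Z_mul_fix r ζ hr hζ)
  obtain ⟨w₂, hw₂, e2u, e2v, e2p⟩ := exists_w hf hp (-ζ) (neg_ne_zero.2 hζ0) (Z_neg ζ hζ)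
  refine ⟨w₁ * w₂, (TT hf).mul_mem hw₁ hw₂, ?_, ?_, ?_⟩
  · rw [mul_mulVec, e2u, Matrix.mulVec_smul, e1v]
    match_scalars <;> field_simp
  · rw [mul_mulVec, e2v, Matrix.mulVec_smul, e1u]
    match_scalars <;> field_simp
  · intro x hxu hxv
    rw [mul_mulVec, e2p x hxu hxv, e1p x hxu hxv]

/-- a vector orthogonal to `{u,v}^⊥` lies in the plane -/
lemma mem_plane {u v : Fin n → F} (hp : HP f u v) (w : Fin n → F)
    (hw : ∀ x, f x u = 0 → f x v = 0 → f x w = 0) : w = f w v • u + f w u • v := by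
  have e := pr_eq (f := f) u v w
  have h0 : pr f u v w = 0 := by
    apply eq_zero_of_forall hf
    intro x
    have hpu := pr_u hf hp w
    have hpv := pr_v hf hp w
    have ex := pr_eq (f := f) u v x
    rw [ex, hf.add_left, hf.add_left, hf.smul_left, hf.smul_left,
      f_swap_eq_zero hf _ _ hpu, f_swap_eq_zero hf _ _ hpv]
    have h1 : f (pr f u v x) (pr f u v w) = 0 := by
      have hxu := pr_u hf hp x
      have hxv := pr_v hf hp x
      have := hw _ hxu hxv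
      rw [show pr f u v w = w - f w v • u - f w u • v from rfl, f_sub_right hf, f_sub_right hf,
        f_smul_right hf, f_smul_right hf, this, hxu, hxv]
      ring
    rw [h1]; ring
  rw [h0, add_zero] at e
  exact e

end Cfsg.Agent.Lib.Helper8.SUGen
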