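import Mathlib
import Cfsg.Agent.Lib.Helper8.SUGenC

/-!
# Generation of unitary groups by transvections: `SU` of a hyperbolic plane (helper8)
-/

set_option autoImplicit false

namespace Cfsg.Agent.Lib.Helper8.SUGen

open Cfsg Matrix Cfsg.Agent.S5631 Cfsg.Agent.S5643 Cfsg.Agent.Lib.Helper8.Unitary

variable {n : ℕ} {F : Type*} [Field F] {σ : F ≃+* F} {f : (Fin n → F) → (Fin n → F) → F}
variable (hf : Cfsg.Geo.IsUnitaryForm σ f)

/-- the isometries of determinant one -/
def SUf (f : (Fin n → F) → (Fin n → F) → F) : Subgroup (GL (Fin n) F) :=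
  Cfsg.preserving (Units.coeHom (Matrix (Fin n) (Fin n) F)) f ⊓ Cfsg.Geo.specialLinear (Fin n) F

lemma SUf_iso (g : GL (Fin n) F) (hg : g ∈ SUf f) (x y : Fin n → F) :
    f ((g : Matrix (Fin n) (Fin n) F) *ᵥ x) ((g : Matrix (Fin n) (Fin n) F) *ᵥ y) = f x y :=
  hg.1 x y

lemma SUf_det (g : GL (Fin n) F) (hg : g ∈ SUf f) : (g : Matrix (Fin n) (Fin n) F).det = 1 := by
  have h : Matrix.GeneralLinearGroup.det g = 1 := MonoidHom.mem_ker.1 hg.2
  have := congrArg Units.val h
  rwa [Matrix.GeneralLinearGroup.val_det_apply] at this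

include hf

lemma TT_le_SUf : TT hf ≤ SUf f := TT_le hf

lemma plane_mem_aux {u v : Fin n → F} (hp : HP f u v) (g : GL (Fin n) F) (hg : g ∈ SUf f)
    (hfix : ∀ x, f x u = 0 → f x v = 0 → (g : Matrix (Fin n) (Fin n) F) *ᵥ x = x)
    (α : F) (hgu : (g : Matrix (Fin n) (Fin n) F) *ᵥ u = α • u) : g ∈ TT hf := by
  have hiso := SUf_iso g hg
  -- g v in the plane
  have hgv := mem_plane hf hp ((g : Matrix (Fin n) (Fin n) F) *ᵥ v) (by
    intro x hxu hxv
    have := hiso x v
    rw [hfix x hxu hxv] at this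
    rw [this, hxv])
  set α' := f ((g : Matrix (Fin n) (Fin n) F) *ᵥ v) v with hα'
  set γ' := f ((g : Matrix (Fin n) (Fin n) F) *ᵥ v) u with hγ'
  have h1 : α * σ γ' = 1 := by
    have := hiso u v
    rw [hgu, hp.uv, hf.smul_left, hf.herm u, ← hγ'] at this
    exact this
  have hα0 : α ≠ 0 := left_ne_zero_of_mul_eq_one h1
  have hγ0 : γ' ≠ 0 := by
    have : σ γ' ≠ 0 := right_ne_zero_of_mul_eq_one h1
    simpa using this
  have h2 : α' * σ γ' + γ' * σ α' = 0 := by
    have := hiso v v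
    rw [hp.vv] at this
    rw [hgv] at this
    simp only [hf.add_left, f_add_right hf, hf.smul_left, f_smul_right hf, hp.uu, hp.vv, hp.uv,
      HP.vu hf hp] at this
    linear_combination this
  have ha : σ (-α' / γ') + σ (σ (-α' / γ')) = 0 := by
    apply Z_sigma hf.involutive
    have hσγ0 : σ γ' ≠ 0 := right_ne_zero_of_mul_eq_one h1
    rw [map_div₀, map_neg]
    field_simp
    linear_combination -h2
  have hXT : ut hf u hp.uu (σ (-α' / γ')) ∈ TT hf := ut_mem hf _ _ _ ha
  set X := ut hf u hp.uu (σ (-α' / γ')) with hX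
  have hhu : ((X * g : GL (Fin n) F) : Matrix (Fin n) (Fin n) F) *ᵥ u = α • u := by
    rw [mul_mulVec, hgu, Matrix.mulVec_smul, hX, ut_u_u hf hp]
  have hhv : ((X * g : GL (Fin n) F) : Matrix (Fin n) (Fin n) F) *ᵥ v = γ' • v := by
    rw [mul_mulVec, hgv, Matrix.mulVec_add, Matrix.mulVec_smul, Matrix.mulVec_smul, hX,
      ut_u_u hf hp, ut_u_v hf hp, hf.involutive]
    match_scalars <;> field_simp <;> ring
  have hhp : ∀ x, f x u = 0 → f x v = 0 →
      ((X * g : GL (Fin n) F) : Matrix (Fin n) (Fin n) F) *ᵥ x = x := by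
    intro x hxu hxv
    rw [mul_mulVec, hfix x hxu hxv, hX, ut_perp hf u hp.uu _ x hxu]
  -- determinant
  have hmat : ((X * g : GL (Fin n) F) : Matrix (Fin n) (Fin n) F) =
      tvM u ((α - 1) • flatU f v) * tvM v ((γ' - 1) • flatU f u) := by
    apply hp_ext_mat (f := f) (u := u) (v := v) _ _ _ _ _ (pr_u hf hp) (pr_v hf hp)
    · have e1 : tvM v ((γ' - 1) • flatU f u) *ᵥ u = u := by
        rw [tvM_mulVec, smul_dotProduct, flatU_dot hf, hp.uu, smul_zero, zero_smul, add_zero]
      rw [hhu, ← Matrix.mulVec_mulVec, e1, tvM_mulVec, smul_dotProduct, flatU_dot hf, hp.uv]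
      match_scalars
      simp
    · have e1 : tvM v ((γ' - 1) • flatU f u) *ᵥ v = γ' • v := by
        rw [tvM_mulVec, smul_dotProduct, flatU_dot hf, HP.vu hf hp]
        match_scalars
        simp
      rw [hhv, ← Matrix.mulVec_mulVec, e1, Matrix.mulVec_smul, tvM_mulVec, smul_dotProduct,
        flatU_dot hf, hp.vv, smul_zero, zero_smul, add_zero]
    · intro x hxu hxv
      have e1 : tvM v ((γ' - 1) • flatU f u) *ᵥ x = x := by
        rw [tvM_mulVec, smul_dotProduct, flatU_dot hf, hxu, smul_zero, zero_smul, add_zero]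
      rw [hhp x hxu hxv, ← Matrix.mulVec_mulVec, e1, tvM_mulVec, smul_dotProduct, flatU_dot hf, hxv,
        smul_zero, zero_smul, add_zero]
  have hdet : α * γ' = 1 := by
    have h3 : ((X * g : GL (Fin n) F) : Matrix (Fin n) (Fin n) F).det = 1 :=
      SUf_det _ ((SUf f).mul_mem (TT_le_SUf hf hXT) hg)
    rw [hmat, Matrix.det_mul, det_tvM', det_tvM', smul_dotProduct, smul_dotProduct, flatU_dot hf,
      flatU_dot hf, hp.uv, HP.vu hf hp] at h3
    simp only [smul_eq_mul, mul_one] at h3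
    linear_combination h3
  have hγα : γ' = α⁻¹ := eq_inv_of_mul_eq_one_right hdet
  have hσα : σ α = α := by
    have h4 : σ γ' = γ' := by
      have : α * σ γ' = α * γ' := by rw [h1, hdet]
      exact mul_left_cancel₀ hα0 this
    rw [hγα, map_inv₀] at h4
    exact inv_injective h4
  obtain ⟨d, hd, edu, edv, edp⟩ := exists_torus hf hp α hα0 hσα
  have : X * g = d := by
    apply hp_ext hf hp
    · rw [hhu, edu]
    · rw [hhv, edv, hγα]
    · intro x hxu hxv
      rw [hhp x hxu hxv, edp x hxu hxv]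
  have : g = X⁻¹ * d := by rw [← this, inv_mul_cancel_left]
  rw [this]
  exact (TT hf).mul_mem ((TT hf).inv_mem hXT) hd

/-- Lemma B: an isometry of determinant one fixing `{u,v}^⊥` pointwise is a product of unitary
transvections -/
lemma plane_mem {u v : Fin n → F} (hp : HP f u v) (g : GL (Fin n) F) (hg : g ∈ SUf f)
    (hfix : ∀ x, f x u = 0 → f x v = 0 → (g : Matrix (Fin n) (Fin n) F) *ᵥ x = x) :
    g ∈ TT hf := by
  have hiso := SUf_iso g hg
  have hgu := mem_plane hf hp ((g : Matrix (Fin n) (Fin n) F) *ᵥ u) (by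
    intro x hxu hxv
    have := hiso x u
    rw [hfix x hxu hxv] at this
    rw [this, hxu])
  set α := f ((g : Matrix (Fin n) (Fin n) F) *ᵥ u) v with hα
  set γ := f ((g : Matrix (Fin n) (Fin n) F) *ᵥ u) u with hγ
  by_cases hγ0 : γ = 0
  · rw [hγ0, zero_smul, add_zero] at hgu
    exact plane_mem_aux hf hp g hg hfix α hgu
  have h2 : α * σ γ + γ * σ α = 0 := by
    have := hiso u u
    rw [hp.uu] at this
    rw [hgu] at this
    simp only [hf.add_left, f_add_right hf, hf.smul_left, f_smul_right hf, hp.uu, hp.vv, hp.uv,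
      HP.vu hf hp] at this
    linear_combination this
  have hσγ0 : σ γ ≠ 0 := by simpa using hγ0
  have ha : σ (-α / γ) + σ (σ (-α / γ)) = 0 := by
    apply Z_sigma hf.involutive
    rw [map_div₀, map_neg]
    field_simp
    linear_combination -h2
  have hXT : ut hf u hp.uu (σ (-α / γ)) ∈ TT hf := ut_mem hf _ _ _ ha
  set X := ut hf u hp.uu (σ (-α / γ)) with hX
  obtain ⟨ζ, hζ0, hζ⟩ := exists_Z hf.ne_refl hf.involutive
  obtain ⟨w, hw, ewu, ewv, ewp⟩ := exists_w hf hp ζ hζ0 hζ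
  have hXgu : ((X * g : GL (Fin n) F) : Matrix (Fin n) (Fin n) F) *ᵥ u = γ • v := by
    rw [mul_mulVec, hgu, Matrix.mulVec_add, Matrix.mulVec_smul, Matrix.mulVec_smul, hX,
      ut_u_u hf hp, ut_u_v hf hp, hf.involutive]
    match_scalars <;> field_simp <;> ring
  have h3 : w * (X * g) ∈ TT hf := by
    apply plane_mem_aux hf hp _ ((SUf f).mul_mem (TT_le_SUf hf hw)
      ((SUf f).mul_mem (TT_le_SUf hf hXT) hg)) _ (γ * ζ)
    · rw [mul_mulVec, hXgu, Matrix.mulVec_smul, ewv, smul_smul]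
    · intro x hxu hxv
      rw [mul_mulVec, mul_mulVec, hfix x hxu hxv, hX, ut_perp hf u hp.uu _ x hxu, ewp x hxu hxv]
  have : g = X⁻¹ * (w⁻¹ * (w * (X * g))) := by group
  rw [this]
  exact (TT hf).mul_mem ((TT hf).inv_mem hXT) ((TT hf).mul_mem ((TT hf).inv_mem hw) h3)

end Cfsg.Agent.Lib.Helper8.SUGen
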