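import Mathlib
import Cfsg.Agent.Lib.Helper8.SUGenD

/-!
# Generation of unitary groups by transvections: transitivity on hyperbolic pairs (helper8)
-/

set_option autoImplicit false

namespace Cfsg.Agent.Lib.Helper8.SUGen

open Cfsg Matrix Cfsg.Agent.S5631 Cfsg.Agent.S5643 Cfsg.Agent.Lib.Helper8.Unitary

variable {n : ℕ} {F : Type*} [Field F] {σ : F ≃+* F} {f : (Fin n → F) → (Fin n → F) → F}
variable (hf : Cfsg.Geo.IsUnitaryForm σ f)
include hf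

lemma HP.map {u v : Fin n → F} (hp : HP f u v) (t : GL (Fin n) F) (ht : t ∈ TT hf) :
    HP f ((t : Matrix (Fin n) (Fin n) F) *ᵥ u) ((t : Matrix (Fin n) (Fin n) F) *ᵥ v) :=
  ⟨by rw [TT_iso hf t ht, hp.uu], by rw [TT_iso hf t ht, hp.vv], by rw [TT_iso hf t ht, hp.uv]⟩

lemma partner_form {u v : Fin n → F} (hp : HP f u v) (β : F) (y : Fin n → F) (hyu : f y u = 0)
    (hyv : f y v = 0) : f (v + β • u + y) (v + β • u + y) = β + σ β + f y y := by
  have huy : f u y = 0 := f_swap_eq_zero hf _ _ hyu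
  have hvy : f v y = 0 := f_swap_eq_zero hf _ _ hyv
  simp only [hf.add_left, f_add_right hf, hf.smul_left, f_smul_right hf, hp.uu, hp.vv, hp.uv,
    HP.vu hf hp, hyu, hyv, huy, hvy]
  ring

lemma partner_HP {u v : Fin n → F} (hp : HP f u v) (β : F) (y : Fin n → F) (hyu : f y u = 0)
    (hyv : f y v = 0) (hβ : β + σ β + f y y = 0) : HP f u (v + β • u + y) := by
  refine ⟨hp.uu, by rw [partner_form hf hp β y hyu hyv, hβ], ?_⟩
  rw [f_add_right hf, f_add_right hf, f_smul_right hf, hp.uu, hp.uv, f_swap_eq_zero hf _ _ hyu]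
  ring

/-- adjusting the `u`-coefficient of a partner -/
lemma partner_adjust {u v : Fin n → F} (hp : HP f u v) (β β₁ : F) (y : Fin n → F)
    (hyu : f y u = 0) (hyv : f y v = 0) (hβ : β + σ β + f y y = 0)
    (hβ₁ : β₁ + σ β₁ + f y y = 0) :
    ∃ t ∈ TT hf, (t : Matrix (Fin n) (Fin n) F) *ᵥ u = u ∧
      (t : Matrix (Fin n) (Fin n) F) *ᵥ (v + β₁ • u + y) = v + β • u + y := by
  have hz : σ (β - β₁) + σ (σ (β - β₁)) = 0 := by
    apply Z_sigma hf.involutive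
    rw [map_sub]
    linear_combination hβ - hβ₁
  refine ⟨ut hf u hp.uu (σ (β - β₁)), ut_mem hf _ _ _ hz, ut_u_u hf hp _, ?_⟩
  rw [ut_mulVec, hf.involutive, hf.add_left, hf.add_left, hf.smul_left, hp.uu, HP.vu hf hp, hyu]
  match_scalars <;> ring

/-- the torus trick: moving a partner in the direction of `y₀` -/
lemma partner_step {u v : Fin n → F} (hp : HP f u v) (r : F) (hr0 : r ≠ 0) (hr : σ r = r)
    (β₀ : F) (y₀ : Fin n → F) (hyu : f y₀ u = 0) (hyv : f y₀ v = 0)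
    (hβ₀ : β₀ + σ β₀ + f y₀ y₀ = 0) :
    ∃ E ∈ TT hf, (E : Matrix (Fin n) (Fin n) F) *ᵥ u = u ∧
      ∃ β₁ : F, (E : Matrix (Fin n) (Fin n) F) *ᵥ v = v + β₁ • u + (r⁻¹ - 1) • y₀ := by
  have hpw := partner_HP hf hp β₀ y₀ hyu hyv hβ₀
  have hr' : σ r⁻¹ = r⁻¹ := by rw [map_inv₀, hr]
  obtain ⟨Dw, hDw, ewu, eww, ewp⟩ := exists_torus hf hpw r hr0 hr
  obtain ⟨Dv, hDv, evu, evv, evp⟩ := exists_torus hf hp r⁻¹ (inv_ne_zero hr0) hr'
  have huy : f u y₀ = 0 := f_swap_eq_zero hf _ _ hyu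
  have hvy : f v y₀ = 0 := f_swap_eq_zero hf _ _ hyv
  have hyw : f y₀ (v + β₀ • u + y₀) = f y₀ y₀ := by
    rw [f_add_right hf, f_add_right hf, f_smul_right hf, hyu, hyv]; ring
  have h1 : (Dw : Matrix (Fin n) (Fin n) F) *ᵥ (y₀ - f y₀ y₀ • u) = y₀ - f y₀ y₀ • u := by
    apply ewp
    · rw [f_sub_left hf, hf.smul_left, hyu, hp.uu]; ring
    · rw [f_sub_left hf, hf.smul_left, hyw, hpw.uv]; ring
  have h2 : (Dv : Matrix (Fin n) (Fin n) F) *ᵥ y₀ = y₀ := evp y₀ hyu hyv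
  have hv : v = (v + β₀ • u + y₀) - (β₀ + f y₀ y₀) • u - (y₀ - f y₀ y₀ • u) := by
    match_scalars <;> ring
  refine ⟨Dv * Dw, (TT hf).mul_mem hDv hDw, ?_, r⁻¹ * β₀ * r⁻¹ - (β₀ + f y₀ y₀) + f y₀ y₀ * r⁻¹, ?_⟩
  · rw [mul_mulVec, ewu, Matrix.mulVec_smul, evu, smul_smul, mul_inv_cancel₀ hr0, one_smul]
  · have h3 : (Dw : Matrix (Fin n) (Fin n) F) *ᵥ v =
        r⁻¹ • (v + β₀ • u + y₀) - (β₀ + f y₀ y₀) • (r • u) - (y₀ - f y₀ y₀ • u) := by
      conv_lhs => rw [hv]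
      rw [Matrix.mulVec_sub, Matrix.mulVec_sub, Matrix.mulVec_smul, eww, ewu, h1]
    rw [mul_mulVec, h3]
    simp only [Matrix.mulVec_sub, Matrix.mulVec_add, Matrix.mulVec_smul, evu, evv, h2, inv_inv]
    match_scalars <;> field_simp <;> ring

/-- transitivity on the partners of `u` when the fixed field has more than two elements -/
lemma trans_partner_of_fix {u v v' : Fin n → F} (hp : HP f u v) (hp' : HP f u v')
    (r : F) (hr0 : r ≠ 0) (hr1 : r ≠ 1) (hr : σ r = r) :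
    ∃ t ∈ TT hf, (t : Matrix (Fin n) (Fin n) F) *ᵥ u = u ∧
      (t : Matrix (Fin n) (Fin n) F) *ᵥ v = v' := by
  have hr2 : r⁻¹ - 1 ≠ 0 := by
    intro h
    apply hr1
    have : r⁻¹ = 1 := by linear_combination h
    rw [inv_eq_one] at this
    exact this
  have hyu : f (v' - v - f v' v • u) u = 0 := by
    rw [f_sub_left hf, f_sub_left hf, hf.smul_left, HP.vu hf hp', HP.vu hf hp, hp.uu]; ring
  have hyv : f (v' - v - f v' v • u) v = 0 := by
    rw [f_sub_left hf, f_sub_left hf, hf.smul_left, hp.vv, hp.uv]; ring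
  set y := v' - v - f v' v • u with hy
  have hv' : v' = v + f v' v • u + y := by rw [hy]; abel
  have hβ : f v' v + σ (f v' v) + f y y = 0 := by
    rw [← partner_form hf hp _ y hyu hyv, ← hv', hp'.vv]
  have hy₀u : f ((r⁻¹ - 1)⁻¹ • y) u = 0 := by rw [hf.smul_left, hyu, mul_zero]
  have hy₀v : f ((r⁻¹ - 1)⁻¹ • y) v = 0 := by rw [hf.smul_left, hyv, mul_zero]
  obtain ⟨β₀, hβ₀⟩ := tr_surj hf.ne_refl hf.involutive
    (-(f ((r⁻¹ - 1)⁻¹ • y) ((r⁻¹ - 1)⁻¹ • y))) (by rw [map_neg, f_self_fix hf])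
  obtain ⟨E, hE, eEu, β₁, eEv⟩ := partner_step hf hp r hr0 hr β₀ _ hy₀u hy₀v
    (by linear_combination hβ₀)
  rw [smul_smul, mul_inv_cancel₀ hr2, one_smul] at eEv
  have hβ₁ : β₁ + σ β₁ + f y y = 0 := by
    rw [← partner_form hf hp _ y hyu hyv, ← eEv, TT_iso hf E hE, hp.vv]
  obtain ⟨t, ht, etu, etv⟩ := partner_adjust hf hp _ β₁ y hyu hyv hβ hβ₁
  refine ⟨t * E, (TT hf).mul_mem ht hE, ?_, ?_⟩
  · rw [mul_mulVec, eEu, etu]
  · rw [mul_mulVec, eEv, etv, ← hv']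

end Cfsg.Agent.Lib.Helper8.SUGen
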