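import Mathlib
import Cfsg.Agent.Lib.Helper8.SUGenE

/-!
# Generation of unitary groups by transvections: partners in dimension at least four (helper8)
-/

set_option autoImplicit false

namespace Cfsg.Agent.Lib.Helper8.SUGen

open Cfsg Matrix Cfsg.Agent.S5631 Cfsg.Agent.S5643 Cfsg.Agent.Lib.Helper8.Unitary

variable {n : ℕ} {F : Type*} [Field F] {σ : F ≃+* F} {f : (Fin n → F) → (Fin n → F) → F}
variable (hf : Cfsg.Geo.IsUnitaryForm σ f)
include hf

lemma exists_perp3 (hn : 4 ≤ n) {u v : Fin n → F} (hp : HP f u v) (y : Fin n → F)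
    (hyu : f y u = 0) (hyv : f y v = 0) (hyy : f y y ≠ 0) :
    ∃ x, x ≠ 0 ∧ f x u = 0 ∧ f x v = 0 ∧ f x y = 0 := by
  obtain ⟨z, hz⟩ := exists_notMem_span (F := F) ![u, v, y] (by omega)
  have hpu := pr_u hf hp z
  have hpv := pr_v hf hp z
  refine ⟨pr f u v z - (f (pr f u v z) y / f y y) • y, ?_, ?_, ?_, ?_⟩
  · intro h0
    apply hz
    rw [sub_eq_zero] at h0
    have e := pr_eq (f := f) u v z
    rw [h0] at e
    rw [e]
    apply Submodule.add_mem
    · apply Submodule.add_mem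
      · apply Submodule.smul_mem; apply Submodule.subset_span; exact ⟨0, rfl⟩
      · apply Submodule.smul_mem; apply Submodule.subset_span; exact ⟨1, rfl⟩
    · apply Submodule.smul_mem; apply Submodule.subset_span; exact ⟨2, rfl⟩
  · rw [f_sub_left hf, hf.smul_left, hpu, hyu]; ring
  · rw [f_sub_left hf, hf.smul_left, hpv, hyv]; ring
  · rw [f_sub_left hf, hf.smul_left]; field_simp; ring

lemma exists_aniso_perp3 (hn : 4 ≤ n) {u v : Fin n → F} (hp : HP f u v) (y : Fin n → F)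
    (hyu : f y u = 0) (hyv : f y v = 0) (hyy : f y y ≠ 0) :
    ∃ z, f z z ≠ 0 ∧ f z u = 0 ∧ f z v = 0 ∧ f z y = 0 := by
  obtain ⟨x, hx0, hxu, hxv, hxy⟩ := exists_perp3 hf hn hp y hyu hyv hyy
  by_cases hxx : f x x = 0
  · obtain ⟨p₀, hp₀, hp₀u, hp₀v⟩ := exists_partner_perp hf hp x hx0 hxx hxu hxv
    have h1 : f x (p₀ - (f p₀ y / f y y) • y) = 1 := by
      rw [f_sub_right hf, f_smul_right hf, hp₀.uv, hxy]; ring
    obtain ⟨β, hβ1, hβ2⟩ := exists_partner hf x _ hxx h1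
    obtain ⟨c, hc⟩ := tr_surj hf.ne_refl hf.involutive 1 (map_one σ)
    have hpx : f (p₀ - (f p₀ y / f y y) • y + β • x) x = 1 := by
      rw [hf.herm, hβ2, map_one]
    have hpu : f (p₀ - (f p₀ y / f y y) • y + β • x) u = 0 := by
      rw [hf.add_left, f_sub_left hf, hf.smul_left, hf.smul_left, hp₀u, hyu, hxu]; ring
    have hpv : f (p₀ - (f p₀ y / f y y) • y + β • x) v = 0 := by
      rw [hf.add_left, f_sub_left hf, hf.smul_left, hf.smul_left, hp₀v, hyv, hxv]; ring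
    have hpy : f (p₀ - (f p₀ y / f y y) • y + β • x) y = 0 := by
      rw [hf.add_left, f_sub_left hf, hf.smul_left, hf.smul_left, hxy]; field_simp; ring
    refine ⟨x + c • (p₀ - (f p₀ y / f y y) • y + β • x), ?_, ?_, ?_, ?_⟩
    · have : f (x + c • (p₀ - (f p₀ y / f y y) • y + β • x))
          (x + c • (p₀ - (f p₀ y / f y y) • y + β • x)) = 1 := by
        rw [hf.add_left, f_add_right hf, f_add_right hf, hf.smul_left, hf.smul_left,
          f_smul_right hf, f_smul_right hf, hxx, hβ1, hβ2, hpx]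
        linear_combination hc
      rw [this]; exact one_ne_zero
    · rw [hf.add_left, hf.smul_left, hxu, hpu]; ring
    · rw [hf.add_left, hf.smul_left, hxv, hpv]; ring
    · rw [hf.add_left, hf.smul_left, hxy, hpy]; ring
  · exact ⟨x, hxx, hxu, hxv, hxy⟩

/-- a vector of `{u,v}^⊥` is a sum of two isotropic vectors of `{u,v}^⊥` (`n ≥ 4`) -/
lemma iso_decomp_perp [Fintype F] (hn : 4 ≤ n) {u v : Fin n → F} (hp : HP f u v) (y : Fin n → F)
    (hyu : f y u = 0) (hyv : f y v = 0) :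
    ∃ y₁ y₂, f y₁ y₁ = 0 ∧ f y₂ y₂ = 0 ∧ f y₁ u = 0 ∧ f y₂ u = 0 ∧ f y₁ v = 0 ∧ f y₂ v = 0 ∧
      y = y₁ + y₂ := by
  by_cases hyy : f y y = 0
  · exact ⟨y, 0, hyy, f_zero_left hf 0, hyu, f_zero_left hf u, hyv, f_zero_left hf v,
      (add_zero y).symm⟩
  obtain ⟨z, hzz, hzu, hzv, hzy⟩ := exists_aniso_perp3 hf hn hp y hyu hyv hyy
  obtain ⟨l, hl⟩ := norm_surj hf.ne_refl hf.involutive (-(f y y) / f z z)
    (by rw [map_div₀, map_neg, f_self_fix hf, f_self_fix hf])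
  obtain ⟨a, ha⟩ := tr_surj hf.ne_refl hf.involutive 1 (map_one σ)
  have hyz : f y z = 0 := f_swap_eq_zero hf _ _ hzy
  have hl' : l * σ l * f z z = -(f y y) := by rw [hl]; field_simp
  have hee : f (y + l • z) (y + l • z) = 0 := by
    rw [hf.add_left, f_add_right hf, f_add_right hf, hf.smul_left, hf.smul_left,
      f_smul_right hf, f_smul_right hf, hyz, hzy]
    linear_combination hl'
  have hey : f (y + l • z) y = f y y := by
    rw [hf.add_left, hf.smul_left, hzy]; ring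
  have hye : f y (y + l • z) = f y y := by
    rw [f_add_right hf, f_smul_right hf, hyz]; ring
  refine ⟨a • (y + l • z), y - a • (y + l • z), ?_, ?_, ?_, ?_, ?_, ?_, by abel⟩
  · rw [hf.smul_left, f_smul_right hf, hee]; ring
  · rw [f_sub_left hf, f_sub_right hf, f_sub_right hf, hf.smul_left, hf.smul_left,
      f_smul_right hf, f_smul_right hf, hee, hey, hye]
    linear_combination (-(f y y)) * ha
  · rw [hf.smul_left, hf.add_left, hf.smul_left, hyu, hzu]; ring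
  · rw [f_sub_left hf, hf.smul_left, hf.add_left, hf.smul_left, hyu, hzu]; ring
  · rw [hf.smul_left, hf.add_left, hf.smul_left, hyv, hzv]; ring
  · rw [f_sub_left hf, hf.smul_left, hf.add_left, hf.smul_left, hyv, hzv]; ring

/-- moving a partner of `u` by an isotropic vector of `u^⊥` -/
lemma partner_iso_step {u v₁ : Fin n → F} (hp₁ : HP f u v₁) (y₂ : Fin n → F)
    (hy₂ : f y₂ y₂ = 0) (hy₂u : f y₂ u = 0) (κ : F) :
    ∃ t ∈ TT hf, (t : Matrix (Fin n) (Fin n) F) *ᵥ u = u ∧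
      ∃ β' : F, (t : Matrix (Fin n) (Fin n) F) *ᵥ v₁ = v₁ + β' • u + κ • y₂ := by
  obtain ⟨ζ, hζ0, hζ⟩ := exists_Z hf.ne_refl hf.involutive
  have huy : f u y₂ = 0 := f_swap_eq_zero hf _ _ hy₂u
  have hcc : f (y₂ + σ (κ / ζ - f v₁ y₂) • u) (y₂ + σ (κ / ζ - f v₁ y₂) • u) = 0 := by
    rw [hf.add_left, f_add_right hf, f_add_right hf, hf.smul_left, hf.smul_left,
      f_smul_right hf, f_smul_right hf, hy₂, hy₂u, huy, hp₁.uu]
    ring
  refine ⟨ut hf _ hcc (σ ζ), ut_mem hf _ _ _ (Z_sigma hf.involutive ζ hζ), ?_,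
    κ * σ (κ / ζ - f v₁ y₂), ?_⟩
  · apply ut_perp
    rw [f_add_right hf, f_smul_right hf, huy, hp₁.uu]; ring
  · rw [ut_mulVec, hf.involutive, f_add_right hf, f_smul_right hf, hf.involutive, HP.vu hf hp₁]
    match_scalars <;> field_simp <;> ring

/-- transitivity on the partners of `u` in dimension at least four -/
lemma trans_partner_of_four [Fintype F] (hn : 4 ≤ n) {u v v' : Fin n → F} (hp : HP f u v)
    (hp' : HP f u v') :
    ∃ t ∈ TT hf, (t : Matrix (Fin n) (Fin n) F) *ᵥ u = u ∧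
      (t : Matrix (Fin n) (Fin n) F) *ᵥ v = v' := by
  have hyu : f (v' - v - f v' v • u) u = 0 := by
    rw [f_sub_left hf, f_sub_left hf, hf.smul_left, HP.vu hf hp', HP.vu hf hp, hp.uu]; ring
  have hyv : f (v' - v - f v' v • u) v = 0 := by
    rw [f_sub_left hf, f_sub_left hf, hf.smul_left, hp.vv, hp.uv]; ring
  set y := v' - v - f v' v • u with hy
  have hv' : v' = v + f v' v • u + y := by rw [hy]; abel
  have hβ : f v' v + σ (f v' v) + f y y = 0 := by
    rw [← partner_form hf hp _ y hyu hyv, ← hv', hp'.vv]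
  obtain ⟨y₁, y₂, h11, h22, h1u, h2u, h1v, h2v, hsum⟩ := iso_decomp_perp hf hn hp y hyu hyv
  obtain ⟨t₁, ht₁, e1u, β₁, e1v⟩ := partner_iso_step hf hp y₁ h11 h1u 1
  have hp₁ : HP f u ((t₁ : Matrix (Fin n) (Fin n) F) *ᵥ v) := by
    have := HP.map hf hp t₁ ht₁
    rwa [e1u] at this
  obtain ⟨t₂, ht₂, e2u, β₂, e2v⟩ := partner_iso_step hf hp₁ y₂ h22 h2u 1
  have e3 : ((t₂ * t₁ : GL (Fin n) F) : Matrix (Fin n) (Fin n) F) *ᵥ v =
      v + (β₁ + β₂) • u + y := by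
    rw [mul_mulVec, e2v, e1v, hsum]
    match_scalars <;> ring
  have hβ' : (β₁ + β₂) + σ (β₁ + β₂) + f y y = 0 := by
    rw [← partner_form hf hp _ y hyu hyv, ← e3, TT_iso hf _ ((TT hf).mul_mem ht₂ ht₁), hp.vv]
  obtain ⟨t, ht, etu, etv⟩ := partner_adjust hf hp _ (β₁ + β₂) y hyu hyv hβ hβ'
  refine ⟨t * (t₂ * t₁), (TT hf).mul_mem ht ((TT hf).mul_mem ht₂ ht₁), ?_, ?_⟩
  · rw [mul_mulVec, mul_mulVec, e1u, e2u, etu]
  · rw [mul_mulVec, e3, etv, ← hv']

/-- the hypothesis under which `TT` is transitive on hyperbolic pairs -/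
def Good (n : ℕ) (σ : F ≃+* F) : Prop := 4 ≤ n ∨ ∃ r : F, r ≠ 0 ∧ r ≠ 1 ∧ σ r = r

omit hf in
lemma Good.of_four (hn : 4 ≤ n) : Good n σ := Or.inl hn

lemma trans_partner [Fintype F] (hg : Good n σ) {u v v' : Fin n → F} (hp : HP f u v)
    (hp' : HP f u v') :
    ∃ t ∈ TT hf, (t : Matrix (Fin n) (Fin n) F) *ᵥ u = u ∧
      (t : Matrix (Fin n) (Fin n) F) *ᵥ v = v' := by
  rcases hg with hn | ⟨r, hr0, hr1, hr⟩
  · exact trans_partner_of_four hf hn hp hp'
  · exact trans_partner_of_fix hf hp hp' r hr0 hr1 hr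

omit hf in
lemma HP.ne_zero {u v : Fin n → F} (hp : HP f u v) (hf : Cfsg.Geo.IsUnitaryForm σ f) : u ≠ 0 := by
  rintro rfl
  have := hp.uv
  rw [f_zero_left hf] at this
  exact zero_ne_one this

/-- `TT` is transitive on hyperbolic pairs -/
lemma trans_hp [Fintype F] (hn : 3 ≤ n) (hg : Good n σ) {u v u' v' : Fin n → F} (hp : HP f u v)
    (hp' : HP f u' v') :
    ∃ t ∈ TT hf, (t : Matrix (Fin n) (Fin n) F) *ᵥ u = u' ∧
      (t : Matrix (Fin n) (Fin n) F) *ᵥ v = v' := by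
  obtain ⟨t₁, ht₁, e1⟩ := trans_iso hf hn u u' (hp.ne_zero hf) (hp'.ne_zero hf) hp.uu hp'.uu
  have hp₁ : HP f u' ((t₁ : Matrix (Fin n) (Fin n) F) *ᵥ v) := by
    have := HP.map hf hp t₁ ht₁
    rwa [e1] at this
  obtain ⟨t₂, ht₂, e2u, e2v⟩ := trans_partner hf hg hp₁ hp'
  exact ⟨t₂ * t₁, (TT hf).mul_mem ht₂ ht₁, by rw [mul_mulVec, e1, e2u], by rw [mul_mulVec, e2v]⟩

end Cfsg.Agent.Lib.Helper8.SUGen
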