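import Mathlib
import Cfsg.Agent.Lib.Helper8.SUGenF
import Cfsg.Agent.Lib.Helper5.Herm

/-!
# Generation of unitary groups by transvections: vectors of norm one; the standard form (helper8)
-/

set_option autoImplicit false

namespace Cfsg.Agent.Lib.Helper8.SUGen

open Cfsg Matrix Cfsg.Agent.S5631 Cfsg.Agent.S5643 Cfsg.Agent.Lib.Helper8.Unitary

section Abstract

variable {n : ℕ} {F : Type*} [Field F] {σ : F ≃+* F} {f : (Fin n → F) → (Fin n → F) → F}
variable (hf : Cfsg.Geo.IsUnitaryForm σ f)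
include hf

lemma exists_iso_not_perp [Fintype F] (hn : 2 ≤ n) (a : Fin n → F) (ha : f a a ≠ 0) :
    ∃ u₀, f u₀ u₀ = 0 ∧ f a u₀ ≠ 0 := by
  obtain ⟨u₁, v₁, hp⟩ := exists_HP hf hn
  by_cases h1 : f a u₁ = 0
  · by_cases h2 : f a v₁ = 0
    · obtain ⟨l, hl⟩ := tr_surj hf.ne_refl hf.involutive (-(f a a))
        (by rw [map_neg, f_self_fix hf])
      have h1' : f u₁ a = 0 := f_swap_eq_zero hf _ _ h1
      have h2' : f v₁ a = 0 := f_swap_eq_zero hf _ _ h2
      refine ⟨a + l • u₁ + v₁, ?_, ?_⟩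
      · simp only [hf.add_left, f_add_right hf, hf.smul_left, f_smul_right hf, hp.uu, hp.vv,
          hp.uv, HP.vu hf hp, h1, h2, h1', h2']
        linear_combination hl
      · rw [f_add_right hf, f_add_right hf, f_smul_right hf, h1, h2]
        simpa using ha
    · exact ⟨v₁, hp.vv, h2⟩
  · exact ⟨u₁, hp.uu, h1⟩

/-- a vector of norm one is `u + c₀ v` for a hyperbolic pair `(u,v)` -/
lemma unit_decomp [Fintype F] (hn : 2 ≤ n) (a : Fin n → F) (ha : f a a = 1) (c₀ : F)
    (hc₀ : c₀ + σ c₀ = 1) : ∃ u v, HP f u v ∧ a = u + c₀ • v := by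
  obtain ⟨u₀, hu₀, hau₀⟩ := exists_iso_not_perp hf hn a (by rw [ha]; exact one_ne_zero)
  have hc0 : c₀ ≠ 0 := by
    rintro rfl
    rw [map_zero, add_zero] at hc₀
    exact zero_ne_one hc₀
  have hσc0 : σ c₀ ≠ 0 := by simpa using hc0
  have hau : f a (σ (c₀ / f a u₀) • u₀) = c₀ := by
    rw [f_smul_right hf, hf.involutive]; field_simp
  have hua : f (σ (c₀ / f a u₀) • u₀) a = σ c₀ := by rw [hf.herm, hau]
  have huu : f (σ (c₀ / f a u₀) • u₀) (σ (c₀ / f a u₀) • u₀) = 0 := by
    rw [hf.smul_left, f_smul_right hf, hu₀]; ring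
  set u := σ (c₀ / f a u₀) • u₀ with hu
  refine ⟨u, c₀⁻¹ • (a - u), ⟨huu, ?_, ?_⟩, ?_⟩
  · rw [hf.smul_left, f_smul_right hf, f_sub_left hf, f_sub_right hf, f_sub_right hf, ha, hau,
      hua, huu]
    have : (1 : F) - c₀ - (σ c₀ - 0) = 0 := by linear_combination -hc₀
    rw [this]; ring
  · rw [f_smul_right hf, f_sub_right hf, hua, huu, map_inv₀]
    field_simp
    ring
  · rw [smul_smul, mul_inv_cancel₀ hc0, one_smul]; abel

/-- `TT` is transitive on the vectors of norm one -/
lemma trans_unit [Fintype F] (hn : 3 ≤ n) (hg : Good n σ) (a a' : Fin n → F) (ha : f a a = 1)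
    (ha' : f a' a' = 1) : ∃ t ∈ TT hf, (t : Matrix (Fin n) (Fin n) F) *ᵥ a = a' := by
  obtain ⟨c₀, hc₀⟩ := tr_surj hf.ne_refl hf.involutive 1 (map_one σ)
  obtain ⟨u, v, hp, e⟩ := unit_decomp hf (by omega) a ha c₀ hc₀
  obtain ⟨u', v', hp', e'⟩ := unit_decomp hf (by omega) a' ha' c₀ hc₀
  obtain ⟨t, ht, etu, etv⟩ := trans_hp hf hn hg hp hp'
  exact ⟨t, ht, by rw [e, e', Matrix.mulVec_add, Matrix.mulVec_smul, etu, etv]⟩

/-- a hyperbolic pair orthogonal to a given one (`n ≥ 4`) -/
lemma exists_HP_perp [Fintype F] (hn : 4 ≤ n) {u v : Fin n → F} (hp : HP f u v) :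
    ∃ u' v', HP f u' v' ∧ f u' u = 0 ∧ f u' v = 0 ∧ f v' u = 0 ∧ f v' v = 0 := by
  obtain ⟨x, hx0, hxu, hxv⟩ := exists_perp_hp hf (by omega) hp
  by_cases hxx : f x x = 0
  · obtain ⟨v', hp', h1, h2⟩ := exists_partner_perp hf hp x hx0 hxx hxu hxv
    exact ⟨x, v', hp', hxu, hxv, h1, h2⟩
  obtain ⟨z, hzz, hzu, hzv, hzx⟩ := exists_aniso_perp3 hf hn hp x hxu hxv hxx
  obtain ⟨l, hl⟩ := norm_surj hf.ne_refl hf.involutive (-(f x x) / f z z)
    (by rw [map_div₀, map_neg, f_self_fix hf, f_self_fix hf])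
  have hxz : f x z = 0 := f_swap_eq_zero hf _ _ hzx
  have hl' : l * σ l * f z z = -(f x x) := by rw [hl]; field_simp
  have hee : f (x + l • z) (x + l • z) = 0 := by
    rw [hf.add_left, f_add_right hf, f_add_right hf, hf.smul_left, hf.smul_left,
      f_smul_right hf, f_smul_right hf, hxz, hzx]
    linear_combination hl'
  have he0 : x + l • z ≠ 0 := by
    intro h0
    have : f (x + l • z) x = f x x := by rw [hf.add_left, hf.smul_left, hzx]; ring
    rw [h0, f_zero_left hf] at this
    exact hxx this.symm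
  have heu : f (x + l • z) u = 0 := by rw [hf.add_left, hf.smul_left, hxu, hzu]; ring
  have hev : f (x + l • z) v = 0 := by rw [hf.add_left, hf.smul_left, hxv, hzv]; ring
  obtain ⟨v', hp', h1, h2⟩ := exists_partner_perp hf hp _ he0 hee heu hev
  exact ⟨_, v', hp', heu, hev, h1, h2⟩

omit hf in
lemma not_li_of_lt {k : ℕ} (y : Fin k → Fin n → F) (hk : n < k) : ¬ LinearIndependent F y := by
  intro h
  have := h.fintype_card_le_finrank
  rw [Module.finrank_fintype_fun_eq_card, Fintype.card_fin, Fintype.card_fin] at this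
  omega

/-- in dimension two, `{u,v}^⊥ = 0` -/
lemma perp_zero_two (hn : n = 2) {u v : Fin n → F} (hp : HP f u v) (x : Fin n → F)
    (hxu : f x u = 0) (hxv : f x v = 0) : x = 0 := by
  by_contra hx0
  apply not_li_of_lt (F := F) ![u, v, x] (by omega)
  rw [Fintype.linearIndependent_iff]
  intro c hc
  rw [Fin.sum_univ_three] at hc
  simp only [Matrix.cons_val_zero, Matrix.cons_val_one, Matrix.cons_val_two, Matrix.head_cons,
    Matrix.tail_cons] at hc
  have h0 : c 0 = 0 := by
    have := congrArg (fun w => f w v) hc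
    simp only [hf.add_left, hf.smul_left, hp.uv, hp.vv, hxv, f_zero_left hf] at this
    linear_combination this
  have h1 : c 1 = 0 := by
    have := congrArg (fun w => f w u) hc
    simp only [hf.add_left, hf.smul_left, hp.uu, HP.vu hf hp, hxu, f_zero_left hf] at this
    linear_combination this
  have h2 : c 2 = 0 := by
    rw [h0, h1, zero_smul, zero_smul, zero_add, zero_add] at hc
    exact (smul_eq_zero.1 hc).resolve_right hx0
  intro i
  fin_cases i
  · exact h0
  · exact h1
  · exact h2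

/-- in dimension four, the orthogonal complement of two orthogonal hyperbolic pairs is zero -/
lemma perp_zero_four (hn : n = 4) {u v u' v' : Fin n → F} (hp : HP f u v) (hp' : HP f u' v')
    (h1 : f u' u = 0) (h2 : f u' v = 0) (h3 : f v' u = 0) (h4 : f v' v = 0) (x : Fin n → F)
    (hxu : f x u = 0) (hxv : f x v = 0) (hxu' : f x u' = 0) (hxv' : f x v' = 0) : x = 0 := by
  by_contra hx0
  apply not_li_of_lt (F := F) ![u, v, u', v', x] (by omega)
  rw [Fintype.linearIndependent_iff]
  intro c hc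
  rw [Fin.sum_univ_five] at hc
  simp only [Matrix.cons_val_zero, Matrix.cons_val_one, Matrix.cons_val_two, Matrix.head_cons,
    Matrix.tail_cons, Matrix.cons_val_three, Matrix.cons_val_four] at hc
  have h1' : f u u' = 0 := f_swap_eq_zero hf _ _ h1
  have h2' : f v u' = 0 := f_swap_eq_zero hf _ _ h2
  have h3' : f u v' = 0 := f_swap_eq_zero hf _ _ h3
  have h4' : f v v' = 0 := f_swap_eq_zero hf _ _ h4
  have e0 : c 0 = 0 := by
    have := congrArg (fun w => f w v) hc
    simp only [hf.add_left, hf.smul_left, hp.uv, hp.vv, hxv, h2, h4, f_zero_left hf] at this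
    linear_combination this
  have e1 : c 1 = 0 := by
    have := congrArg (fun w => f w u) hc
    simp only [hf.add_left, hf.smul_left, hp.uu, HP.vu hf hp, hxu, h1, h3, f_zero_left hf] at this
    linear_combination this
  have e2 : c 2 = 0 := by
    have := congrArg (fun w => f w v') hc
    simp only [hf.add_left, hf.smul_left, hp'.uv, hp'.vv, hxv', h3', h4', f_zero_left hf] at this
    linear_combination this
  have e3 : c 3 = 0 := by
    have := congrArg (fun w => f w u') hc
    simp only [hf.add_left, hf.smul_left, hp'.uu, HP.vu hf hp', hxu', h1', h2',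
      f_zero_left hf] at this
    linear_combination this
  have e4 : c 4 = 0 := by
    rw [e0, e1, e2, e3, zero_smul, zero_smul, zero_smul, zero_smul, zero_add, zero_add, zero_add,
      zero_add] at hc
    exact (smul_eq_zero.1 hc).resolve_right hx0
  intro i
  fin_cases i
  · exact e0
  · exact e1
  · exact e2
  · exact e3
  · exact e4

/-- `SU₂ ≤ TT` -/
lemma SU_le_two [Fintype F] (hn : n = 2) : SUf f ≤ TT hf := by
  intro g hg
  obtain ⟨u, v, hp⟩ := exists_HP hf (by omega)
  apply plane_mem hf hp g hg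
  intro x hxu hxv
  rw [perp_zero_two hf hn hp x hxu hxv, Matrix.mulVec_zero]

/-- `SU₄ ≤ TT` -/
lemma SU_le_four [Fintype F] (hn : n = 4) : SUf f ≤ TT hf := by
  intro g hg
  obtain ⟨u, v, hp⟩ := exists_HP hf (by omega)
  have hiso := SUf_iso g hg
  have hpg : HP f ((g : Matrix (Fin n) (Fin n) F) *ᵥ u) ((g : Matrix (Fin n) (Fin n) F) *ᵥ v) :=
    ⟨by rw [hiso, hp.uu], by rw [hiso, hp.vv], by rw [hiso, hp.uv]⟩
  obtain ⟨t, ht, etu, etv⟩ := trans_hp hf (by omega) (Good.of_four (by omega)) hpg hp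
  obtain ⟨u', v', hp', h1, h2, h3, h4⟩ := exists_HP_perp hf (by omega) hp
  have hmem : t * g ∈ TT hf := by
    apply plane_mem hf hp' _ ((SUf f).mul_mem (TT_le_SUf hf ht) hg)
    intro x hxu' hxv'
    have e := pr_eq (f := f) u v x
    have hpu := pr_u hf hp x
    have hpv := pr_v hf hp x
    have hp0 : pr f u v x = 0 := by
      apply perp_zero_four hf hn hp hp' h1 h2 h3 h4 _ hpu hpv
      · rw [pr, f_sub_left hf, f_sub_left hf, hf.smul_left, hf.smul_left, hxu',
          f_swap_eq_zero hf _ _ h1, f_swap_eq_zero hf _ _ h2]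
        ring
      · rw [pr, f_sub_left hf, f_sub_left hf, hf.smul_left, hf.smul_left, hxv',
          f_swap_eq_zero hf _ _ h3, f_swap_eq_zero hf _ _ h4]
        ring
    rw [hp0, add_zero] at e
    have hu : ((t * g : GL (Fin n) F) : Matrix (Fin n) (Fin n) F) *ᵥ u = u := by
      rw [mul_mulVec, etu]
    have hv : ((t * g : GL (Fin n) F) : Matrix (Fin n) (Fin n) F) *ᵥ v = v := by
      rw [mul_mulVec, etv]
    conv_lhs => rw [e]
    rw [Matrix.mulVec_add, Matrix.mulVec_smul, Matrix.mulVec_smul, hu, hv, ← e]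
  have : g = t⁻¹ * (t * g) := by group
  rw [this]
  exact (TT hf).mul_mem ((TT hf).inv_mem ht) hmem

end Abstract

end Cfsg.Agent.Lib.Helper8.SUGen
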