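import Mathlib
import Cfsg.Agent.Lib.Helper8.SUGenG

/-!
# Generation of `SU_n(q)` by unitary transvections: the standard Hermitian form (helper8)
-/

set_option autoImplicit false
set_option linter.unusedSectionVars false

namespace Cfsg.Agent.Lib.Helper8.SUGen

open Cfsg Matrix Cfsg.Agent.S5631 Cfsg.Agent.S5643 Cfsg.Agent.Lib.Helper8.Unitary
open Cfsg.Agent.Lib.Helper5.Herm

section Concrete

variable {F : Type*} [Field F] [Fintype F] {q : ℕ}

/-- the involution `x ↦ x^q` of the field with `q²` elements -/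
def frobEquiv (hF : Fintype.card F = q ^ 2) : F ≃+* F where
  toFun x := x ^ q
  invFun x := x ^ q
  left_inv x := frob_frob hF x
  right_inv x := frob_frob hF x
  map_mul' a b := mul_pow a b q
  map_add' a b := frob_add hF a b

lemma frobEquiv_apply (hF : Fintype.card F = q ^ 2) (x : F) : frobEquiv hF x = x ^ q := rfl

lemma exists_gen (hF : Fintype.card F = q ^ 2) : ∃ g : Fˣ, orderOf g = q ^ 2 - 1 := by
  classical
  obtain ⟨g, hg⟩ := IsCyclic.exists_generator (α := Fˣ)
  refine ⟨g, ?_⟩
  rw [orderOf_eq_card_of_forall_mem_zpowers hg, Nat.card_eq_fintype_card, Fintype.card_units, hF]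

lemma exists_frob_ne (hF : Fintype.card F = q ^ 2) : ∃ x : F, x ^ q ≠ x := by
  have hq := one_lt_q hF
  obtain ⟨g, hg⟩ := exists_gen hF
  refine ⟨(g : F), fun h => ?_⟩
  have h1 : g ^ (q - 1) = 1 := by
    have h2 : g ^ (q - 1) * g = 1 * g := by
      rw [← pow_succ, Nat.sub_add_cancel (by omega), one_mul]
      apply Units.ext
      rw [Units.val_pow_eq_pow_val, h]
    exact mul_right_cancel h2
  have h3 := orderOf_dvd_of_pow_eq_one h1
  rw [hg] at h3
  have h4 := Nat.le_of_dvd (by omega) h3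
  have h5 : q * q ≤ q ^ 2 := by rw [sq]
  have h6 : 2 * q ≤ q * q := Nat.mul_le_mul_right q hq
  omega

lemma exists_fix_ne (hF : Fintype.card F = q ^ 2) (hq : 2 < q) :
    ∃ r : F, r ≠ 0 ∧ r ≠ 1 ∧ r ^ q = r := by
  obtain ⟨g, hg⟩ := exists_gen hF
  have hqq : q ^ 2 = q * q := sq q
  have h1 : g ^ (q ^ 2 - 1) = 1 := by rw [← hg]; exact pow_orderOf_eq_one g
  refine ⟨((g ^ (q + 1) : Fˣ) : F), Units.ne_zero _, ?_, ?_⟩
  · intro h
    have h2 : g ^ (q + 1) = 1 := Units.ext h
    have h3 := orderOf_dvd_of_pow_eq_one h2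
    rw [hg] at h3
    have h4 := Nat.le_of_dvd (by omega) h3
    have h6 : 3 * q ≤ q * q := Nat.mul_le_mul_right q hq
    omega
  · rw [← Units.val_pow_eq_pow_val, ← pow_mul]
    congr 1
    have : (q + 1) * q = (q ^ 2 - 1) + (q + 1) := by
      have : 1 ≤ q ^ 2 := by rw [hqq]; nlinarith
      zify [this]
      ring
    rw [this, pow_add, h1, one_mul]

/-- the standard Hermitian form is a non-degenerate unitary form -/
lemma herm_unitary (hF : Fintype.card F = q ^ 2) (n : ℕ) :
    Cfsg.Geo.IsUnitaryForm (frobEquiv hF) (hermForm n F q) where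
  ne_refl := by
    intro h
    obtain ⟨x, hx⟩ := exists_frob_ne hF
    apply hx
    have := congrArg (fun e : F ≃+* F => e x) h
    exact this
  involutive a := frob_frob hF a
  add_left x y v := hermForm_add_left n x y v
  smul_left c x v := hermForm_smul_left n c x v
  herm v w := hermForm_swap hF n v w
  nondegenerate := by
    intro v hv
    have hq := one_lt_q hF
    obtain ⟨i, hi⟩ : ∃ i, v i ≠ 0 := by
      by_contra hcon
      push Not at hcon
      exact hv (funext hcon)
    refine ⟨⟨Pi.single i 1, ?_⟩, ⟨Pi.single i 1, ?_⟩⟩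
    · rw [hermForm_single_left]; exact pow_ne_zero _ hi
    · rw [hermForm_single_right (by omega)]; exact hi

lemma good_of (hF : Fintype.card F = q ^ 2) (n : ℕ) (h : 4 ≤ n ∨ 2 < q) :
    Good n (frobEquiv hF) := by
  rcases h with h | h
  · exact Or.inl h
  · obtain ⟨r, h0, h1, h2⟩ := exists_fix_ne hF h
    exact Or.inr ⟨r, h0, h1, h2⟩

/-! ### the embedding `GL_n → GL_{n+1}` -/

/-- append a coordinate -/
def snocV {n : ℕ} (x : Fin n → F) (c : F) : Fin (n + 1) → F := fun i => Fin.lastCases c x i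

/-- drop the last coordinate -/
def initV {n : ℕ} (x : Fin (n + 1) → F) : Fin n → F := fun i => x i.castSucc

omit [Fintype F] in
@[simp] lemma snocV_last {n : ℕ} (x : Fin n → F) (c : F) : snocV x c (Fin.last n) = c := by
  simp [snocV]

omit [Fintype F] in
@[simp] lemma snocV_castSucc {n : ℕ} (x : Fin n → F) (c : F) (i : Fin n) :
    snocV x c i.castSucc = x i := by
  simp [snocV]

omit [Fintype F] in
lemma snocV_initV {n : ℕ} (x : Fin (n + 1) → F) : snocV (initV x) (x (Fin.last n)) = x := by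
  funext i
  refine Fin.lastCases ?_ (fun i' => ?_) i
  · simp
  · simp [initV]

omit [Fintype F] in
@[simp] lemma initV_snocV {n : ℕ} (x : Fin n → F) (c : F) : initV (snocV x c) = x := by
  funext i
  simp [initV]

/-- the block matrix `diag(M, 1)` -/
def emb {n : ℕ} (M : Matrix (Fin n) (Fin n) F) : Matrix (Fin (n + 1)) (Fin (n + 1)) F :=
  Matrix.of fun i j => Fin.lastCases (Fin.lastCases (1 : F) (fun _ => 0) j)
    (fun i' => Fin.lastCases (0 : F) (fun j' => M i' j') j) i

omit [Fintype F] in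
lemma emb_mulVec {n : ℕ} (M : Matrix (Fin n) (Fin n) F) (x : Fin (n + 1) → F) :
    emb M *ᵥ x = snocV (M *ᵥ initV x) (x (Fin.last n)) := by
  funext i
  refine Fin.lastCases ?_ (fun i' => ?_) i
  · simp [Matrix.mulVec, dotProduct, Fin.sum_univ_castSucc, emb]
  · simp [Matrix.mulVec, dotProduct, Fin.sum_univ_castSucc, emb, initV]

omit [Fintype F] in
lemma emb_one {n : ℕ} : emb (1 : Matrix (Fin n) (Fin n) F) = 1 := by
  rw [Matrix.ext_iff_mulVec]
  intro x
  rw [emb_mulVec, Matrix.one_mulVec, Matrix.one_mulVec, snocV_initV]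

omit [Fintype F] in
lemma emb_mul {n : ℕ} (M N : Matrix (Fin n) (Fin n) F) : emb (M * N) = emb M * emb N := by
  rw [Matrix.ext_iff_mulVec]
  intro x
  rw [← Matrix.mulVec_mulVec, emb_mulVec, emb_mulVec, emb_mulVec, initV_snocV, snocV_last,
    Matrix.mulVec_mulVec]

omit [Fintype F] in
lemma det_emb {n : ℕ} (M : Matrix (Fin n) (Fin n) F) : (emb M).det = M.det := by
  rw [Matrix.det_succ_column _ (Fin.last n), Fin.sum_univ_castSucc]
  have h1 : ∀ i : Fin n, emb M i.castSucc (Fin.last n) = 0 := fun i => by simp [emb]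
  have h2 : emb M (Fin.last n) (Fin.last n) = 1 := by simp [emb]
  have h3 : (emb M).submatrix (Fin.last n).succAbove (Fin.last n).succAbove = M := by
    ext i j
    simp [emb, Fin.succAbove_last]
  rw [h2, h3]
  simp [h1]

/-- the embedding as a monoid homomorphism -/
def embMon (n : ℕ) : Matrix (Fin n) (Fin n) F →* Matrix (Fin (n + 1)) (Fin (n + 1)) F where
  toFun := emb
  map_one' := emb_one
  map_mul' := emb_mul

/-- the embedding `GL_n → GL_{n+1}` -/
def embGL (n : ℕ) : GL (Fin n) F →* GL (Fin (n + 1)) F := Units.map (embMon n)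

omit [Fintype F] in
lemma embGL_coe (n : ℕ) (g : GL (Fin n) F) :
    ((embGL n g : GL (Fin (n + 1)) F) : Matrix (Fin (n + 1)) (Fin (n + 1)) F) =
      emb (g : Matrix (Fin n) (Fin n) F) := rfl

lemma herm_snoc {n : ℕ} (x y : Fin n → F) (c d : F) :
    hermForm (n + 1) F q (snocV x c) (snocV y d) = hermForm n F q x y + c * d ^ q := by
  unfold hermForm
  rw [Fin.sum_univ_castSucc]
  simp

lemma herm_snoc_zero (hF : Fintype.card F = q ^ 2) {n : ℕ} (x : Fin (n + 1) → F)
    (u : Fin n → F) :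
    hermForm (n + 1) F q x (snocV u 0) = hermForm n F q (initV x) u := by
  have hq := one_lt_q hF
  conv_lhs => rw [← snocV_initV x]
  rw [herm_snoc, zero_pow (by omega), mul_zero, add_zero]

lemma emb_ut (hF : Fintype.card F = q ^ 2) (n : ℕ) (u : Fin n → F)
    (hu : hermForm n F q u u = 0) (hu' : hermForm (n + 1) F q (snocV u 0) (snocV u 0) = 0)
    (z : F) :
    embGL n (ut (herm_unitary hF n) u hu z) = ut (herm_unitary hF (n + 1)) (snocV u 0) hu' z := by
  apply GL_ext
  intro x
  rw [embGL_coe, emb_mulVec, ut_mulVec, ut_mulVec, herm_snoc_zero hF]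
  funext i
  refine Fin.lastCases ?_ (fun i' => ?_) i
  · simp
  · simp [initV]

lemma map_TT_le (hF : Fintype.card F = q ^ 2) (n : ℕ) :
    (TT (herm_unitary hF n)).map (embGL n) ≤ TT (herm_unitary hF (n + 1)) := by
  rw [TT, MonoidHom.map_closure, Subgroup.closure_le]
  rintro _ ⟨g, ⟨u, hu, z, hz, rfl⟩, rfl⟩
  have hu' : hermForm (n + 1) F q (snocV u 0) (snocV u 0) = 0 := by
    rw [herm_snoc_zero hF, initV_snocV, hu]
  rw [emb_ut hF n u hu hu']
  exact ut_mem _ _ hu' z hz

end Concrete

end Cfsg.Agent.Lib.Helper8.SUGen
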