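import Mathlib
import Cfsg.Agent.Lib.Helper8.SUGenH

/-!
# Generation of `SU_n(q)` by unitary transvections: induction on the dimension (helper8)
-/

set_option autoImplicit false
set_option linter.unusedSectionVars false

namespace Cfsg.Agent.Lib.Helper8.SUGen

open Cfsg Matrix Cfsg.Agent.S5631 Cfsg.Agent.S5643 Cfsg.Agent.Lib.Helper8.Unitary
open Cfsg.Agent.Lib.Helper5.Herm

section Concrete

variable {F : Type*} [Field F] [Fintype F] {q : ℕ}

lemma single_last_eq {n : ℕ} : (Pi.single (Fin.last n) 1 : Fin (n + 1) → F) = snocV 0 1 := by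
  funext i
  refine Fin.lastCases ?_ (fun i' => ?_) i
  · simp
  · simp [Fin.castSucc_ne_last]

lemma SU_step (hF : Fintype.card F = q ^ 2) (n : ℕ) (hn : 3 ≤ n + 1)
    (hg : Good (n + 1) (frobEquiv hF))
    (IH : SUf (hermForm n F q) ≤ TT (herm_unitary hF n)) :
    SUf (hermForm (n + 1) F q) ≤ TT (herm_unitary hF (n + 1)) := by
  intro g hgS
  have hq := one_lt_q hF
  have hq0 : q ≠ 0 := by omega
  set e : Fin (n + 1) → F := Pi.single (Fin.last n) 1 with he
  have hee : hermForm (n + 1) F q e e = 1 := by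
    rw [he, hermForm_single_left, Pi.single_eq_same, one_pow]
  have hgee : hermForm (n + 1) F q ((g : Matrix (Fin (n + 1)) (Fin (n + 1)) F) *ᵥ e)
      ((g : Matrix (Fin (n + 1)) (Fin (n + 1)) F) *ᵥ e) = 1 := by
    rw [SUf_iso g hgS, hee]
  obtain ⟨t, ht, et⟩ := trans_unit (herm_unitary hF (n + 1)) hn hg _ e hgee hee
  have hhS : t * g ∈ SUf (hermForm (n + 1) F q) :=
    (SUf _).mul_mem (TT_le_SUf (herm_unitary hF (n + 1)) ht) hgS
  set h := t * g with hh
  have hhe : (h : Matrix (Fin (n + 1)) (Fin (n + 1)) F) *ᵥ e = e := by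
    rw [hh, mul_mulVec, et]
  have hiso := SUf_iso h hhS
  -- last coordinate is preserved
  have hlast : ∀ x : Fin (n + 1) → F,
      ((h : Matrix (Fin (n + 1)) (Fin (n + 1)) F) *ᵥ x) (Fin.last n) = x (Fin.last n) := by
    intro x
    have h1 := hiso x e
    rw [hhe, he, hermForm_single_right hq0, hermForm_single_right hq0] at h1
    exact h1
  set M : Matrix (Fin n) (Fin n) F :=
    (h : Matrix (Fin (n + 1)) (Fin (n + 1)) F).submatrix Fin.castSucc Fin.castSucc with hM
  have hcol : ∀ i, (h : Matrix (Fin (n + 1)) (Fin (n + 1)) F) i (Fin.last n) = e i := by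
    intro i
    have := congrFun hhe i
    rw [he, Matrix.mulVec_single_one] at this
    exact this
  have hmat : (h : Matrix (Fin (n + 1)) (Fin (n + 1)) F) = emb M := by
    ext i j
    refine Fin.lastCases ?_ (fun i' => ?_) i
    · refine Fin.lastCases ?_ (fun j' => ?_) j
      · rw [hcol, he]; simp [emb]
      · have := hlast (Pi.single j'.castSucc 1)
        rw [Matrix.mulVec_single_one] at this
        simp only [Matrix.col_apply] at this
        rw [this]
        simp [emb, Fin.castSucc_ne_last]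
    · refine Fin.lastCases ?_ (fun j' => ?_) j
      · rw [hcol, he]; simp [emb, Fin.castSucc_ne_last]
      · simp [emb, hM]
  have hdet : M.det = 1 := by
    rw [← det_emb, ← hmat]; exact SUf_det h hhS
  set g' : GL (Fin n) F := Matrix.SpecialLinearGroup.toGL ⟨M, hdet⟩ with hg'
  have hg'coe : ((g' : GL (Fin n) F) : Matrix (Fin n) (Fin n) F) = M := rfl
  have hg'S : g' ∈ SUf (hermForm n F q) := by
    refine ⟨fun x y => ?_, ?_⟩
    · show hermForm n F q (M *ᵥ x) (M *ᵥ y) = hermForm n F q x y
      have h1 := hiso (snocV x 0) (snocV y 0)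
      rw [hmat, emb_mulVec, emb_mulVec, initV_snocV, initV_snocV, snocV_last, snocV_last,
        herm_snoc, herm_snoc] at h1
      simpa using h1
    · show g' ∈ (Matrix.GeneralLinearGroup.det : GL (Fin n) F →* Fˣ).ker
      rw [MonoidHom.mem_ker]
      apply Units.ext
      rw [Matrix.GeneralLinearGroup.val_det_apply, hg'coe, hdet]
      rfl
  have h2 : embGL n g' ∈ TT (herm_unitary hF (n + 1)) :=
    map_TT_le hF n (Subgroup.mem_map_of_mem _ (IH hg'S))
  have h3 : embGL n g' = h := by
    apply Units.ext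
    rw [embGL_coe, hg'coe, hmat]
  rw [h3] at h2
  have : g = t⁻¹ * h := by rw [hh]; group
  rw [this]
  exact (TT _).mul_mem ((TT _).inv_mem ht) h2

/-- **Generation of `SU_n(q)` by unitary transvections** (matrix group form) -/
theorem SU_le_TT (hF : Fintype.card F = q ^ 2) (n : ℕ) (hn : 3 ≤ n) (h32 : ¬ (n = 3 ∧ q = 2)) :
    SUf (hermForm n F q) ≤ TT (herm_unitary hF n) := by
  have hq := one_lt_q hF
  by_cases hq2 : q = 2
  · have hn4 : 4 ≤ n := by
      by_contra hcon
      exact h32 ⟨by omega, hq2⟩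
    refine Nat.le_induction (m := 4)
      (P := fun k _ => SUf (hermForm k F q) ≤ TT (herm_unitary hF k)) ?_ ?_ n hn4
    · exact SU_le_four (herm_unitary hF 4) rfl
    · intro k hk IH
      exact SU_step hF k (by omega) (good_of hF (k + 1) (Or.inl (by omega))) IH
  · have hq3 : 2 < q := by omega
    refine Nat.le_induction (m := 2)
      (P := fun k _ => SUf (hermForm k F q) ≤ TT (herm_unitary hF k)) ?_ ?_ n (by omega)
    · exact SU_le_two (herm_unitary hF 2) rfl
    · intro k hk IH
      exact SU_step hF k (by omega) (good_of hF (k + 1) (Or.inr hq3)) IH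

theorem SU_eq_TT (hF : Fintype.card F = q ^ 2) (n : ℕ) (hn : 3 ≤ n) (h32 : ¬ (n = 3 ∧ q = 2)) :
    SUf (hermForm n F q) = TT (herm_unitary hF n) :=
  le_antisymm (SU_le_TT hF n hn h32) (TT_le_SUf _)

end Concrete

end Cfsg.Agent.Lib.Helper8.SUGen
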