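import Mathlib
import Cfsg.Agent.Lib.Helper8.SURegD
import Cfsg.Agent.S2578
import Cfsg.Agent.S0781

/-!
# Regular unipotent classes of `SU_n(q)`: bridging lemmas (helper8)
-/

set_option autoImplicit false

namespace Cfsg.Agent.Lib.Helper8.SUReg

open Cfsg Cfsg.Agent.S0277 Matrix Cfsg.Agent.H9.RegUni Cfsg.Agent.S2578
  Cfsg.Agent.Lib.Helper8.SUGen Cfsg.Agent.S0781

section
variable {K : Type*} [Field K] {q n : ℕ} (σ : K →+* K)

theorem mem_GU_iff (hσ : ∀ x, σ x = x ^ q) (g : GL (Fin n) K) :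
    g ∈ Cfsg.GU n K q ↔
      adj σ (g : Matrix (Fin n) (Fin n) K) * (g : Matrix (Fin n) (Fin n) K) = 1 := by
  rw [← isom_iff]
  constructor
  · intro h x y
    rw [stdB_eq_hermForm n σ hσ, stdB_eq_hermForm n σ hσ]
    exact h y x
  · intro h x y
    have := h y x
    rw [stdB_eq_hermForm n σ hσ, stdB_eq_hermForm n σ hσ] at this
    exact this

theorem adj_diagonal (v : Fin n → K) :
    adj σ (Matrix.diagonal v) = Matrix.diagonal (fun i => σ (v i)) := by
  ext i j
  rw [adj_apply]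
  by_cases h : i = j
  · subst h
    rw [Matrix.diagonal_apply_eq, Matrix.diagonal_apply_eq]
  · rw [Matrix.diagonal_apply_ne _ h, Matrix.diagonal_apply_ne _ (Ne.symm h), map_zero]

theorem gd_mem_GU (hσ : ∀ x, σ x = x ^ q) (hn : 1 ≤ n) (d : Kˣ) (hd : (d : K) * σ d = 1) :
    gd hn d ∈ Cfsg.GU n K q := by
  rw [mem_GU_iff σ hσ]
  change adj σ (Matrix.diagonal _) * Matrix.diagonal _ = 1
  rw [adj_diagonal, Matrix.diagonal_mul_diagonal, ← Matrix.diagonal_one]
  congr 1
  funext i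
  by_cases h : i = ⟨0, hn⟩
  · simp only [if_pos h]
    rw [mul_comm]
    exact hd
  · simp only [if_neg h]
    rw [map_one, one_mul]

theorem sc_mem_GU (hσ : ∀ x, σ x = x ^ q) (a : Kˣ) (ha : (a : K) * σ a = 1) :
    sc (n := n) a ∈ Cfsg.GU n K q := by
  rw [mem_GU_iff σ hσ]
  change adj σ (Matrix.scalar (Fin n) (a : K)) * Matrix.scalar (Fin n) (a : K) = 1
  rw [Matrix.scalar_apply, adj_diagonal, Matrix.diagonal_mul_diagonal, ← Matrix.diagonal_one]
  congr 1
  funext i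
  rw [mul_comm]
  exact ha

theorem det_adj (A : Matrix (Fin n) (Fin n) K) : (adj σ A).det = σ A.det := by
  unfold adj
  rw [Matrix.det_transpose, ← RingHom.mapMatrix_apply, ← RingHom.map_det]

theorem det_of_mem_GU (hσ : ∀ x, σ x = x ^ q) (g : GL (Fin n) K) (hg : g ∈ Cfsg.GU n K q) :
    (g : Matrix (Fin n) (Fin n) K).det * σ (g : Matrix (Fin n) (Fin n) K).det = 1 := by
  have h := (mem_GU_iff σ hσ g).1 hg
  have := congrArg Matrix.det h
  rw [Matrix.det_mul, det_adj, Matrix.det_one, mul_comm] at this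
  exact this

theorem mem_U1_iff (hσ : ∀ x, σ x = x ^ q) (d : Kˣ) :
    d ∈ (powMonoidHom (q + 1) : Kˣ →* Kˣ).ker ↔ (d : K) * σ d = 1 := by
  rw [MonoidHom.mem_ker, powMonoidHom_apply, hσ, ← pow_succ', Units.ext_iff,
    Units.val_pow_eq_pow_val, Units.val_one]

theorem mem_SUf_iff (g : GL (Fin n) K) :
    g ∈ SUf (hermForm n K q) ↔ g ∈ Cfsg.GU n K q ∧ Matrix.GeneralLinearGroup.det g = 1 := by
  unfold SUf Cfsg.GU Cfsg.Geo.specialLinear
  rw [Subgroup.mem_inf, MonoidHom.mem_ker]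

end

section
variable {K : Type*} [Field K] [Fintype K] {q n : ℕ}

theorem card_U1 (hK : Fintype.card K = q ^ 2) :
    Nat.card (powMonoidHom (q + 1) : Kˣ →* Kˣ).ker = q + 1 := by
  rw [IsCyclic.card_powMonoidHom_ker, Nat.card_units, Nat.card_eq_fintype_card, hK]
  apply Nat.gcd_eq_right
  cases q with
  | zero => simp
  | succ m =>
    refine ⟨m, ?_⟩
    apply Nat.sub_eq_of_eq_add
    ring

/-- conjugacy in `SU` from conjugacy by an element of `SUf` -/
theorem suconj (u u' : ↥(Cfsg.SU n K q)) (k : GL (Fin n) K) (hk : k ∈ SUf (hermForm n K q))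
    (h : k * phi n u = phi n u' * k) : IsConj u u' := by
  obtain ⟨c, rfl⟩ := exists_lift n k hk
  rw [isConj_iff]
  refine ⟨c, ?_⟩
  apply phi_injective n
  rw [map_mul, map_mul, map_inv, h, mul_inv_cancel_right]

end

end Cfsg.Agent.Lib.Helper8.SUReg
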