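import Mathlib
import Cfsg.Agent.Lib.Helper8.GUConjC
import Cfsg.Agent.Lib.Helper8.SURegE

/-!
# Hermitian invertible matrices are norms from the algebra they generate (helper8)
-/

set_option autoImplicit false

namespace Cfsg.Agent.Lib.Helper8.GUConj

open Polynomial Cfsg.Agent.Lib.Helper8.SUReg

variable {K : Type*} [Field K] (σ : K →+* K) {n : ℕ}

theorem charpoly_adj (s : Matrix (Fin n) (Fin n) K) : (adj σ s).charpoly = s.charpoly.map σ := by
  unfold adj
  rw [Matrix.charpoly_transpose, Matrix.charpoly_map]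

/-- an invertible Hermitian matrix `s` is of the form `adj t * t` with `t` a polynomial in `s` -/
theorem exists_norm_hermitian [Finite K] (hσ2 : ∀ a : K, σ (σ a) = a) (hσne : σ ≠ RingHom.id K)
    (htr : ∀ b : K, σ b = b → ∃ y : K, y + σ y = b) (s : Matrix (Fin n) (Fin n) K)
    (hs : adj σ s = s) (hdet : s.det ≠ 0) :
    ∃ p : K[X], adj σ (aeval s p) * aeval s p = s := by
  have hmσ : s.charpoly.map σ = s.charpoly := by rw [← charpoly_adj, hs]
  have hmon : s.charpoly.Monic := Matrix.charpoly_monic s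
  have hcop : IsCoprime (X : K[X]) s.charpoly := by
    rw [Polynomial.irreducible_X.coprime_iff_not_dvd, Polynomial.X_dvd_iff]
    intro h0
    apply hdet
    rw [Matrix.det_eq_sign_charpoly_coeff, h0, mul_zero]
  obtain ⟨p, hp⟩ := isNormMod_of_stable σ hσ2 hσne htr s.charpoly.natDegree s.charpoly rfl hmon hmσ
    X (by rw [Polynomial.map_X, sub_self]; exact dvd_zero _) hcop
  refine ⟨p, ?_⟩
  rw [adj_aeval, hs, ← map_mul]
  obtain ⟨r, hr⟩ := hp
  have e : p.map σ * p = X + s.charpoly * r := by rw [← hr]; ring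
  rw [e, map_add, aeval_X, map_mul, Matrix.aeval_self_charpoly, zero_mul, add_zero]

/-- unitary matrices conjugate by an invertible matrix are conjugate by a unitary matrix -/
theorem exists_unitary_conj_of_conj [Finite K] (hσ2 : ∀ a : K, σ (σ a) = a)
    (hσne : σ ≠ RingHom.id K) (htr : ∀ b : K, σ b = b → ∃ y : K, y + σ y = b)
    (A B g : Matrix (Fin n) (Fin n) K) (hA : adj σ A * A = 1) (hB : adj σ B * B = 1)
    (hg : g.det ≠ 0) (hgAB : g * A = B * g) :
    ∃ h : Matrix (Fin n) (Fin n) K, adj σ h * h = 1 ∧ h * A = B * h := by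
  have hA' : A * adj σ A = 1 := mul_eq_one_comm.1 hA
  set s := adj σ g * g with hs
  have hsH : adj σ s = s := by rw [hs, adj_mul, adj_adj σ hσ2]
  have hsdet : s.det ≠ 0 := by
    rw [hs, Matrix.det_mul, det_adj]
    exact mul_ne_zero (by rw [Ne, map_eq_zero]; exact hg) hg
  have h1 : adj σ g * B = A * adj σ g := by
    have e := congrArg (adj σ) hgAB
    rw [adj_mul, adj_mul] at e
    calc adj σ g * B = (A * adj σ A) * adj σ g * B := by rw [hA', Matrix.one_mul]
      _ = A * (adj σ A * adj σ g) * B := by simp only [Matrix.mul_assoc]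
      _ = A * (adj σ g * adj σ B) * B := by rw [e]
      _ = A * adj σ g * (adj σ B * B) := by simp only [Matrix.mul_assoc]
      _ = A * adj σ g := by rw [hB, Matrix.mul_one]
  have hsA : s * A = A * s := by
    calc s * A = adj σ g * (g * A) := by rw [hs, Matrix.mul_assoc]
      _ = adj σ g * B * g := by rw [hgAB, Matrix.mul_assoc]
      _ = A * s := by rw [h1, hs, Matrix.mul_assoc]
  obtain ⟨p, hp⟩ := exists_norm_hermitian σ hσ2 hσne htr s hsH hsdet
  set t := aeval s p with ht
  have htA : t * A = A * t := (commute_aeval s A hsA p).eq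
  have htdet : IsUnit t.det := by
    have e := congrArg Matrix.det hp
    rw [Matrix.det_mul] at e
    exact IsUnit.mk0 _ (right_ne_zero_of_mul (e ▸ hsdet))
  have htt : t * t⁻¹ = 1 := Matrix.mul_nonsing_inv t htdet
  have htt' : t⁻¹ * t = 1 := Matrix.nonsing_inv_mul t htdet
  have htiA : t⁻¹ * A = A * t⁻¹ := by
    calc t⁻¹ * A = t⁻¹ * A * (t * t⁻¹) := by rw [htt, Matrix.mul_one]
      _ = t⁻¹ * (A * t) * t⁻¹ := by simp only [Matrix.mul_assoc]
      _ = t⁻¹ * (t * A) * t⁻¹ := by rw [htA]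
      _ = (t⁻¹ * t) * A * t⁻¹ := by simp only [Matrix.mul_assoc]
      _ = A * t⁻¹ := by rw [htt', Matrix.one_mul]
  refine ⟨g * t⁻¹, ?_, ?_⟩
  · rw [adj_mul]
    calc adj σ t⁻¹ * adj σ g * (g * t⁻¹) = adj σ t⁻¹ * s * t⁻¹ := by
          rw [hs]; simp only [Matrix.mul_assoc]
      _ = adj σ t⁻¹ * (adj σ t * t) * t⁻¹ := by rw [hp]
      _ = (adj σ t⁻¹ * adj σ t) * (t * t⁻¹) := by simp only [Matrix.mul_assoc]
      _ = 1 := by rw [← adj_mul, htt, adj_one, Matrix.mul_one]
  · calc g * t⁻¹ * A = g * (t⁻¹ * A) := by rw [Matrix.mul_assoc]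
      _ = g * A * t⁻¹ := by rw [htiA, Matrix.mul_assoc]
      _ = B * (g * t⁻¹) := by rw [hgAB, Matrix.mul_assoc]

end Cfsg.Agent.Lib.Helper8.GUConj
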