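import Mathlib
import Cfsg.Prelude.Def_Classical

/-!
Transport of `SU n K q` and `PSU n K q` along a ring isomorphism `K ≃+* F`, and a unitarity criterion
for `3 × 3` matrices (author: helper8).
-/

set_option autoImplicit false

namespace Cfsg.Agent.Lib.Helper8.SUTransport

open Matrix Cfsg

section transport

variable {K F : Type*} [Field K] [Field F] (e : K ≃+* F) (n q : ℕ)

/-- `SL_n(K) ≃* SL_n(F)` -/
def slEquiv : SpecialLinearGroup (Fin n) K ≃* SpecialLinearGroup (Fin n) F where
  toFun := SpecialLinearGroup.map e.toRingHom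
  invFun := SpecialLinearGroup.map e.symm.toRingHom
  left_inv x := by
    apply Subtype.ext
    ext i j
    simp [SpecialLinearGroup.map_apply_coe, RingHom.mapMatrix_apply]
  right_inv x := by
    apply Subtype.ext
    ext i j
    simp [SpecialLinearGroup.map_apply_coe, RingHom.mapMatrix_apply]
  map_mul' x y := map_mul _ x y

theorem slEquiv_coe (x : SpecialLinearGroup (Fin n) K) :
    ((slEquiv e n x : SpecialLinearGroup (Fin n) F) : Matrix (Fin n) (Fin n) F) =
      (x : Matrix (Fin n) (Fin n) K).map e := rfl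

theorem hermForm_map (u v : Fin n → K) :
    hermForm n F q (fun i => e (u i)) (fun i => e (v i)) = e (hermForm n K q u v) := by
  unfold hermForm
  rw [map_sum]
  apply Finset.sum_congr rfl
  intro i _
  rw [map_mul, map_pow]

theorem mem_SU_iff (x : SpecialLinearGroup (Fin n) F) :
    x ∈ SU n F q ↔ ∀ u v : Fin n → F,
      hermForm n F q ((x : Matrix (Fin n) (Fin n) F) *ᵥ u) ((x : Matrix (Fin n) (Fin n) F) *ᵥ v) =
        hermForm n F q u v := Iff.rfl

theorem map_mem {x : SpecialLinearGroup (Fin n) K} (hx : x ∈ SU n K q) :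
    slEquiv e n x ∈ SU n F q := by
  rw [mem_SU_iff] at hx ⊢
  intro u v
  have hu : u = fun i => e (e.symm (u i)) := by funext i; simp
  have hv : v = fun i => e (e.symm (v i)) := by funext i; simp
  have key : ∀ w : Fin n → K, ((slEquiv e n x : SpecialLinearGroup (Fin n) F) :
      Matrix (Fin n) (Fin n) F) *ᵥ (fun i => e (w i)) =
        fun i => e (((x : Matrix (Fin n) (Fin n) K) *ᵥ w) i) := by
    intro w
    funext i
    rw [slEquiv_coe]
    exact (RingHom.map_mulVec e.toRingHom _ w i).symm
  rw [hu, hv, key, key, hermForm_map, hermForm_map, hx]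

/-- `SU_n(K) ≃* SU_n(F)` -/
def suEquiv : SU n K q ≃* SU n F q where
  toFun x := ⟨slEquiv e n x.1, map_mem e n q x.2⟩
  invFun y := ⟨slEquiv e.symm n y.1, map_mem e.symm n q y.2⟩
  left_inv x := Subtype.ext ((slEquiv e n).left_inv x.1)
  right_inv y := Subtype.ext ((slEquiv e n).right_inv y.1)
  map_mul' x y := Subtype.ext (map_mul (slEquiv e n) x.1 y.1)

theorem map_center {G H : Type*} [Group G] [Group H] (φ : G ≃* H) :
    (Subgroup.center G).map (φ : G →* H) = Subgroup.center H := by
  ext y
  rw [Subgroup.mem_map, Subgroup.mem_center_iff]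
  constructor
  · rintro ⟨x, hx, rfl⟩ z
    rw [Subgroup.mem_center_iff] at hx
    have := congrArg φ (hx (φ.symm z))
    simpa using this
  · intro hy
    refine ⟨φ.symm y, ?_, by simp⟩
    rw [Subgroup.mem_center_iff]
    intro z
    have := congrArg φ.symm (hy (φ z))
    simpa using this

/-- `PSU_n(K) ≃* PSU_n(F)` -/
def psuEquiv : PSU n K q ≃* PSU n F q :=
  QuotientGroup.congr _ _ (suEquiv e n q) (map_center (suEquiv e n q))

end transport

section criterion

variable {F : Type*} [Field F]

/-- a `3 × 3` matrix with orthonormal columns preserves the Hermitian form -/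
theorem herm_preserve {q : ℕ} (hadd : ∀ a b : F, (a + b) ^ q = a ^ q + b ^ q)
    (M : Matrix (Fin 3) (Fin 3) F)
    (hU : ∀ j k, ∑ i, M i j * (M i k) ^ q = if j = k then 1 else 0) (u w : Fin 3 → F) :
    hermForm 3 F q (M *ᵥ u) (M *ᵥ w) = hermForm 3 F q u w := by
  have h00 := hU 0 0
  have h01 := hU 0 1
  have h02 := hU 0 2
  have h10 := hU 1 0
  have h11 := hU 1 1
  have h12 := hU 1 2
  have h20 := hU 2 0
  have h21 := hU 2 1
  have h22 := hU 2 2
  rw [Fin.sum_univ_three] at h00 h01 h02 h10 h11 h12 h20 h21 h22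
  rw [if_pos rfl] at h00 h11 h22
  rw [if_neg (by decide)] at h01 h02 h10 h12 h20 h21
  unfold hermForm
  simp only [Matrix.mulVec, dotProduct, Fin.sum_univ_three, hadd, mul_pow]
  linear_combination (u 0 * w 0 ^ q) * h00 + (u 0 * w 1 ^ q) * h01 + (u 0 * w 2 ^ q) * h02 +
    (u 1 * w 0 ^ q) * h10 + (u 1 * w 1 ^ q) * h11 + (u 1 * w 2 ^ q) * h12 +
    (u 2 * w 0 ^ q) * h20 + (u 2 * w 1 ^ q) * h21 + (u 2 * w 2 ^ q) * h22

/-- scalar elements of `SU` are central -/
theorem scalar_mem_center {n q : ℕ} (x : SU n F q) (c : F)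
    (hx : ((x : SpecialLinearGroup (Fin n) F) : Matrix (Fin n) (Fin n) F) = c • 1) :
    x ∈ Subgroup.center (SU n F q) := by
  rw [Subgroup.mem_center_iff]
  intro z
  apply Subtype.ext
  apply Subtype.ext
  show ((z : SpecialLinearGroup (Fin n) F) : Matrix (Fin n) (Fin n) F) *
      ((x : SpecialLinearGroup (Fin n) F) : Matrix (Fin n) (Fin n) F) =
    ((x : SpecialLinearGroup (Fin n) F) : Matrix (Fin n) (Fin n) F) *
      ((z : SpecialLinearGroup (Fin n) F) : Matrix (Fin n) (Fin n) F)
  rw [hx]
  simp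

/-- elements whose matrices differ by a scalar have the same image in `PSU` -/
theorem mk_eq_of_scalar {n q : ℕ} (x y : SU n F q) (c : F)
    (hxy : ((x : SpecialLinearGroup (Fin n) F) : Matrix (Fin n) (Fin n) F) =
      c • ((y : SpecialLinearGroup (Fin n) F) : Matrix (Fin n) (Fin n) F)) :
    (QuotientGroup.mk x : PSU n F q) = QuotientGroup.mk y := by
  have hz : x * y⁻¹ ∈ Subgroup.center (SU n F q) := by
    apply scalar_mem_center _ c
    show ((x : SpecialLinearGroup (Fin n) F) : Matrix (Fin n) (Fin n) F) *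
      (((y : SpecialLinearGroup (Fin n) F)⁻¹ : SpecialLinearGroup (Fin n) F) :
        Matrix (Fin n) (Fin n) F) = c • 1
    rw [hxy, Matrix.smul_mul, ← Matrix.SpecialLinearGroup.coe_mul, mul_inv_cancel,
      Matrix.SpecialLinearGroup.coe_one]
  calc (QuotientGroup.mk x : PSU n F q) = QuotientGroup.mk (x * y⁻¹ * y) := by
        rw [inv_mul_cancel_right]
    _ = QuotientGroup.mk (x * y⁻¹) * QuotientGroup.mk y := rfl
    _ = QuotientGroup.mk y := by rw [(QuotientGroup.eq_one_iff _).2 hz, one_mul]

end criterion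

end Cfsg.Agent.Lib.Helper8.SUTransport
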