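import Mathlib

set_option autoImplicit false

namespace Cfsg.Agent.Lib.Helper8.PSL27Table

open Matrix

/-! ### the table of an isomorphism `SL_3(2) → PSL_2(7)` and its verification in `ℕ` -/

/-- the table, packed in base 2401 -/
def bigN : ℕ := 34928444705731694853216805273110385346614418443744377024128900253423373380173336687380925162707063095569886841220510621235120713013613564929708476578498587035355031238284800523293885200304940894376101741152070291491275823154269486516869422963933041115590534541724205636862275377479190190260216469282281030213113189346985874398623399502340379944307454471070933845067635030129754051257061852481405270167160192333133967325840295423973569410018714319707445380298003607010637978422674549403460936731133177611202435512793744029924674149450706445811472104892308910956337130780130417259745423057995956083947331210112539700309543132341536433008166485641341563398825617661326245751019442904490390819540594083596990369538565942845176478633951980370786807971484830268592299776743488389710426181871411444057727592764272008848041411892010637896769084224862756650112372239857607732395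201649693407253604763597466590174869932704947555657731721503502667319343688156092528138550631238024703119017746495924622976827408027151131129202742292627577052366272732422817769725697197146302019297079726508195781871090759542592672157673617716530767207614192508334015137011634255668854868386578056254516109523199040067263970532736321471426212987662489528455606302946912666717945799472906680709772415063579063102222239982983730448916231458724654920352140375606422571453076488673181094852269744971605913324484351032793605113734358893372234028228675168754782927109351863940764239715048898278065031123811852868664101271954892938740795023877609091327251938379551119599605100511801253894719050527750201974744453618000706644026812468465053030689029111417806197809539227778705858596984621494333861692903839789949549864456470727982709930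

/-- code of a 3×3 bit matrix -/
def ncode (a b c d e f g h i : ℕ) : ℕ :=
  a + 2 * b + 4 * c + 8 * d + 16 * e + 32 * f + 64 * g + 128 * h + 256 * i

/-- table lookup -/
def look (n : ℕ) : ℕ := bigN / 2401 ^ n % 2401

def ndet3 (a b c d e f g h i : ℕ) : ℕ :=
  (a * e * i + a * f * h + b * d * i + b * f * g + c * d * h + c * e * g) % 2

/-- multiplicativity up to sign, on codes -/
def nhomOK (a b c d e f g h i a' b' c' d' e' f' g' h' i' : ℕ) : Bool :=
  let m := look (ncode a b c d e f g h i)
  let n := look (ncode a' b' c' d' e' f' g' h' i')
  let k := look (ncode ((a * a' + b * d' + c * g') % 2) ((a * b' + b * e' + c * h') % 2)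
    ((a * c' + b * f' + c * i') % 2)
    ((d * a' + e * d' + f * g') % 2) ((d * b' + e * e' + f * h') % 2)
    ((d * c' + e * f' + f * i') % 2)
    ((g * a' + h * d' + i * g') % 2) ((g * b' + h * e' + i * h') % 2)
    ((g * c' + h * f' + i * i') % 2))
  (Nat.beq (k % 7) (((m % 7) * (n % 7) + (m / 7 % 7) * (n / 49 % 7)) % 7) &&
   Nat.beq (k / 7 % 7) (((m % 7) * (n / 7 % 7) + (m / 7 % 7) * (n / 343 % 7)) % 7) &&
   Nat.beq (k / 49 % 7) (((m / 49 % 7) * (n % 7) + (m / 343 % 7) * (n / 49 % 7)) % 7) &&
   Nat.beq (k / 343 % 7) (((m / 49 % 7) * (n / 7 % 7) + (m / 343 % 7) * (n / 343 % 7)) % 7)) ||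
  (Nat.beq ((k % 7 + ((m % 7) * (n % 7) + (m / 7 % 7) * (n / 49 % 7))) % 7) 0 &&
   Nat.beq ((k / 7 % 7 + ((m % 7) * (n / 7 % 7) + (m / 7 % 7) * (n / 343 % 7))) % 7) 0 &&
   Nat.beq ((k / 49 % 7 + ((m / 49 % 7) * (n % 7) + (m / 343 % 7) * (n / 49 % 7))) % 7) 0 &&
   Nat.beq ((k / 343 % 7 + ((m / 49 % 7) * (n / 7 % 7) + (m / 343 % 7) * (n / 343 % 7))) % 7) 0)

/-- determinant one and trivial kernel, on codes -/
def nrowOK (a b c d e f g h i : ℕ) : Bool :=
  let m := look (ncode a b c d e f g h i)
  Nat.beq (((m % 7) * (m / 343 % 7)) % 7) (((m / 7 % 7) * (m / 49 % 7) + 1) % 7) &&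
  (!(Nat.beq m 344 || Nat.beq m 2064) || Nat.beq (ncode a b c d e f g h i) 273)

def all2 (f : ℕ → Bool) : Bool := f 0 && f 1

theorem all2_iff (f : ℕ → Bool) : all2 f = true ↔ ∀ x < 2, f x = true := by
  unfold all2
  rw [Bool.and_eq_true]
  constructor
  · rintro ⟨h0, h1⟩ x hx
    interval_cases x
    · exact h0
    · exact h1
  · intro h
    exact ⟨h 0 (by norm_num), h 1 (by norm_num)⟩

def checkRow (a b c d e f g h i : ℕ) : Bool :=
  all2 fun a' => all2 fun b' => all2 fun c' => all2 fun d' => all2 fun e' => all2 fun f' =>
  all2 fun g' => all2 fun h' => all2 fun i' =>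
    (!(Nat.beq (ndet3 a' b' c' d' e' f' g' h' i') 1)) ||
      nhomOK a b c d e f g h i a' b' c' d' e' f' g' h' i'

def checkAll : Bool :=
  all2 fun a => all2 fun b => all2 fun c => all2 fun d => all2 fun e => all2 fun f =>
  all2 fun g => all2 fun h => all2 fun i =>
    (!(Nat.beq (ndet3 a b c d e f g h i) 1)) ||
      (nrowOK a b c d e f g h i && checkRow a b c d e f g h i)

set_option maxRecDepth 100000 in
theorem checkAll_true : checkAll = true := by
  decide +kernel

theorem check_row {a b c d e f g h i : ℕ} (ha : a < 2) (hb : b < 2) (hc : c < 2) (hd : d < 2)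
    (he : e < 2) (hf : f < 2) (hg : g < 2) (hh : h < 2) (hi : i < 2)
    (hdet : ndet3 a b c d e f g h i = 1) :
    nrowOK a b c d e f g h i = true ∧ checkRow a b c d e f g h i = true := by
  have h0 := checkAll_true
  unfold checkAll at h0
  simp only [all2_iff] at h0
  have h1 := h0 a ha b hb c hc d hd e he f hf g hg h hh i hi
  rw [hdet] at h1
  simpa using h1

theorem check_hom {a b c d e f g h i a' b' c' d' e' f' g' h' i' : ℕ}
    (ha : a < 2) (hb : b < 2) (hc : c < 2) (hd : d < 2)
    (he : e < 2) (hf : f < 2) (hg : g < 2) (hh : h < 2) (hi : i < 2)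
    (hdet : ndet3 a b c d e f g h i = 1)
    (ha' : a' < 2) (hb' : b' < 2) (hc' : c' < 2) (hd' : d' < 2)
    (he' : e' < 2) (hf' : f' < 2) (hg' : g' < 2) (hh' : h' < 2) (hi' : i' < 2)
    (hdet' : ndet3 a' b' c' d' e' f' g' h' i' = 1) :
    nhomOK a b c d e f g h i a' b' c' d' e' f' g' h' i' = true := by
  have h0 := (check_row ha hb hc hd he hf hg hh hi hdet).2
  unfold checkRow at h0
  simp only [all2_iff] at h0
  have h1 := h0 a' ha' b' hb' c' hc' d' hd' e' he' f' hf' g' hg' h' hh' i' hi'
  rw [hdet'] at h1
  simpa using h1

end Cfsg.Agent.Lib.Helper8.PSL27Table
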