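import Mathlib

/-!
# Self-reciprocal polynomials and the involution of `K[X]/(f)` (helper8)

For a field `K` with an involutive ring endomorphism `θ` and a monic polynomial `f` with
`f(0) ≠ 0` which is `θ`-self-reciprocal, the ring `AdjoinRoot f` carries a `θ`-semilinear
involution sending the root to its inverse.
-/

set_option autoImplicit false
set_option linter.unusedSectionVars false

namespace Cfsg.Agent.Lib.Helper8.SelfRec

open Polynomial

universe u

variable {K : Type u} [Field K]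

/-- `θ`-self-reciprocal monic polynomials with non-zero constant term -/
def IsSR (θ : K →+* K) (f : K[X]) : Prop :=
  f.Monic ∧ f.coeff 0 ≠ 0 ∧ (f.map θ).reverse = C (θ (f.coeff 0)) * f

variable {θ : K →+* K} {f : K[X]}

theorem IsSR.coeff_rev (hf : IsSR θ f) (j : ℕ) (hj : j ≤ f.natDegree) :
    θ (f.coeff (f.natDegree - j)) = θ (f.coeff 0) * f.coeff j := by
  have h := congrArg (fun g : K[X] => g.coeff j) hf.2.2
  beta_reduce at h
  rw [coeff_reverse, natDegree_map, revAt_le hj, coeff_map, coeff_C_mul] at h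
  exact h

/-- the inverse of the root -/
noncomputable def ainv (f : K[X]) : AdjoinRoot f :=
  -(AdjoinRoot.of f (f.coeff 0)⁻¹) * AdjoinRoot.mk f f.divX

theorem root_mul_ainv (h0 : f.coeff 0 ≠ 0) : AdjoinRoot.root f * ainv f = 1 := by
  have h1 : AdjoinRoot.mk f (X * f.divX + C (f.coeff 0)) = 0 := by
    rw [X_mul_divX_add, AdjoinRoot.mk_self]
  rw [map_add, map_mul, AdjoinRoot.mk_X, AdjoinRoot.mk_C] at h1
  have h2 : AdjoinRoot.root f * AdjoinRoot.mk f f.divX = -AdjoinRoot.of f (f.coeff 0) := by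
    linear_combination h1
  unfold ainv
  calc AdjoinRoot.root f * (-(AdjoinRoot.of f (f.coeff 0)⁻¹) * AdjoinRoot.mk f f.divX)
      = -(AdjoinRoot.of f (f.coeff 0)⁻¹) * (AdjoinRoot.root f * AdjoinRoot.mk f f.divX) := by ring
    _ = AdjoinRoot.of f ((f.coeff 0)⁻¹ * f.coeff 0) := by rw [h2, map_mul]; ring
    _ = 1 := by rw [inv_mul_cancel₀ h0, map_one]

theorem ainv_mul_root (h0 : f.coeff 0 ≠ 0) : ainv f * AdjoinRoot.root f = 1 := by
  rw [mul_comm, root_mul_ainv h0]

theorem root_pow_mul_ainv_pow (h0 : f.coeff 0 ≠ 0) (k : ℕ) :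
    AdjoinRoot.root f ^ k * ainv f ^ k = 1 := by
  rw [← mul_pow, root_mul_ainv h0, one_pow]

theorem eval₂_ainv (hf : IsSR θ f) :
    f.eval₂ ((AdjoinRoot.of f).comp θ) (ainv f) = 0 := by
  rw [← eval₂_map]
  let _ : Invertible (ainv f) := ⟨AdjoinRoot.root f, root_mul_ainv hf.2.1, ainv_mul_root hf.2.1⟩
  have h := eval₂_reverse_eq_zero_iff (AdjoinRoot.of f) (ainv f) (f.map θ)
  have h2 : ⅟(ainv f) = AdjoinRoot.root f := rfl
  rw [h2] at h
  rw [← h, hf.2.2, eval₂_mul, AdjoinRoot.eval₂_root, mul_zero]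

/-- the `θ`-semilinear involution of `K[X]/(f)` inverting the root -/
noncomputable def sig (hf : IsSR θ f) : AdjoinRoot f →+* AdjoinRoot f :=
  AdjoinRoot.lift ((AdjoinRoot.of f).comp θ) (ainv f) (eval₂_ainv hf)

theorem sig_root (hf : IsSR θ f) : sig hf (AdjoinRoot.root f) = ainv f := by
  unfold sig; rw [AdjoinRoot.lift_root]

theorem sig_of (hf : IsSR θ f) (x : K) : sig hf (AdjoinRoot.of f x) = AdjoinRoot.of f (θ x) := by
  unfold sig; rw [AdjoinRoot.lift_of]; rfl

theorem sig_ainv (hf : IsSR θ f) : sig hf (ainv f) = AdjoinRoot.root f := by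
  have h1 : ainv f * sig hf (ainv f) = 1 := by
    calc ainv f * sig hf (ainv f) = sig hf (AdjoinRoot.root f) * sig hf (ainv f) := by
          rw [sig_root hf]
      _ = 1 := by rw [← map_mul, root_mul_ainv hf.2.1, map_one]
  calc sig hf (ainv f) = (AdjoinRoot.root f * ainv f) * sig hf (ainv f) := by
        rw [root_mul_ainv hf.2.1, one_mul]
    _ = AdjoinRoot.root f * (ainv f * sig hf (ainv f)) := by ring
    _ = AdjoinRoot.root f := by rw [h1, mul_one]

theorem sig_sig (hθ : ∀ a, θ (θ a) = a) (hf : IsSR θ f) (c : AdjoinRoot f) :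
    sig hf (sig hf c) = c := by
  have h : (sig hf).comp (sig hf) = RingHom.id _ := by
    apply AdjoinRoot.ringHom_ext
    · ext x
      simp only [RingHom.comp_apply, RingHom.id_apply]
      rw [sig_of, sig_of, hθ]
    · rw [RingHom.comp_apply, sig_root, sig_ainv, RingHom.id_apply]
  exact congrArg (fun r : AdjoinRoot f →+* AdjoinRoot f => r c) h

theorem sig_surjective (hθ : ∀ a, θ (θ a) = a) (hf : IsSR θ f) :
    Function.Surjective (sig hf) := fun c => ⟨sig hf c, sig_sig hθ hf c⟩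

/-- the top-coefficient functional -/
noncomputable def tau (hm : f.Monic) : AdjoinRoot f →ₗ[K] K :=
  (lcoeff K (f.natDegree - 1)).comp (AdjoinRoot.modByMonicHom hm)

theorem tau_mk (hm : f.Monic) (p : K[X]) (hp : p.degree < f.degree) :
    tau hm (AdjoinRoot.mk f p) = p.coeff (f.natDegree - 1) := by
  unfold tau
  rw [LinearMap.comp_apply, AdjoinRoot.modByMonicHom_mk, (modByMonic_eq_self_iff hm).2 hp]
  rfl

theorem tau_of_mul (hm : f.Monic) (x : K) (c : AdjoinRoot f) :
    tau hm (AdjoinRoot.of f x * c) = x * tau hm c := by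
  have : AdjoinRoot.of f x * c = x • c := by
    rw [Algebra.smul_def, AdjoinRoot.algebraMap_eq]
  rw [this, map_smul, smul_eq_mul]

theorem exists_rep (hm : f.Monic) (c : AdjoinRoot f) :
    ∃ p : K[X], AdjoinRoot.mk f p = c ∧ p.degree < f.degree := by
  obtain ⟨p0, hp0⟩ := AdjoinRoot.mk_surjective c
  refine ⟨p0 %ₘ f, ?_, degree_modByMonic_lt _ hm⟩
  rw [← hp0, AdjoinRoot.mk_eq_mk]
  have := modByMonic_add_div p0 f
  exact ⟨-(p0 /ₘ f), by linear_combination this⟩

theorem tau_perfect (hm : f.Monic) (a : AdjoinRoot f)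
    (h : ∀ c, tau hm (a * c) = 0) : a = 0 := by
  obtain ⟨p, hp, hdeg⟩ := exists_rep hm a
  by_contra ha
  have hp0 : p ≠ 0 := by
    intro h0; apply ha; rw [← hp, h0, map_zero]
  have hdN : p.natDegree < f.natDegree := natDegree_lt_natDegree hp0 hdeg
  have h1 := h (AdjoinRoot.mk f (X ^ (f.natDegree - 1 - p.natDegree)))
  rw [← hp, ← map_mul, tau_mk hm] at h1
  · rw [coeff_mul_X_pow'] at h1
    rw [if_pos (by omega)] at h1
    have : f.natDegree - 1 - (f.natDegree - 1 - p.natDegree) = p.natDegree := by omega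
    rw [this] at h1
    exact hp0 (leadingCoeff_eq_zero.1 h1)
  · rw [degree_mul, degree_X_pow, degree_eq_natDegree hp0, degree_eq_natDegree hm.ne_zero]
    norm_cast
    omega

theorem tau_root_pow (hm : f.Monic) (j : ℕ) (hj : j < f.natDegree) :
    tau hm (AdjoinRoot.root f ^ j) = if j = f.natDegree - 1 then 1 else 0 := by
  rw [← AdjoinRoot.mk_X, ← map_pow, tau_mk hm]
  · rw [coeff_X_pow]
    by_cases h : j = f.natDegree - 1
    · rw [if_pos h, if_pos h.symm]
    · rw [if_neg h, if_neg (Ne.symm h)]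
  · rw [degree_X_pow, degree_eq_natDegree hm.ne_zero]
    exact_mod_cast hj

theorem tau_ainv (hm : f.Monic) (hN : 1 ≤ f.natDegree) :
    tau hm (ainv f) = -(f.coeff 0)⁻¹ := by
  unfold ainv
  rw [neg_mul, map_neg, tau_of_mul, tau_mk hm]
  · rw [coeff_divX, Nat.sub_add_cancel hN]
    have : f.coeff f.natDegree = 1 := hm
    rw [this, mul_one]
  · apply degree_divX_lt hm.ne_zero

end Cfsg.Agent.Lib.Helper8.SelfRec
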