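import Mathlib
import Cfsg.Agent.Lib.Helper8.SelfRecA

/-!
# The twisted reverse of a polynomial (helper8)
-/

set_option autoImplicit false
set_option linter.unusedSectionVars false

namespace Cfsg.Agent.Lib.Helper8.SelfRec

open Polynomial

universe u

variable {K : Type u} [Field K] (θ : K →+* K)

/-- the `θ`-twisted reverse -/
noncomputable def rv (p : K[X]) : K[X] := (p.map θ).reverse

theorem rv_mul (p r : K[X]) : rv θ (p * r) = rv θ p * rv θ r := by
  unfold rv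
  rw [Polynomial.map_mul, reverse_mul_of_domain]

theorem rv_C (a : K) : rv θ (C a) = C (θ a) := by
  unfold rv
  rw [map_C, reverse_C]

theorem reverse_reverse' (p : K[X]) (h0 : p.coeff 0 ≠ 0) : p.reverse.reverse = p := by
  have hN : p.reverse.natDegree = p.natDegree := by
    rw [reverse_natDegree, natTrailingDegree_eq_zero.2 (Or.inr h0), Nat.sub_zero]
  ext j
  rw [coeff_reverse, hN, coeff_reverse, revAt_invol]

theorem natDegree_rv (p : K[X]) (h0 : p.coeff 0 ≠ 0) : (rv θ p).natDegree = p.natDegree := by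
  unfold rv
  have h1 : (p.map θ).coeff 0 ≠ 0 := by
    rw [coeff_map]; exact (map_ne_zero θ).2 h0
  rw [reverse_natDegree, natTrailingDegree_eq_zero.2 (Or.inr h1), Nat.sub_zero, natDegree_map]

theorem coeff_zero_rv (p : K[X]) : (rv θ p).coeff 0 = θ p.leadingCoeff := by
  unfold rv
  rw [coeff_zero_reverse, leadingCoeff_map]

theorem leadingCoeff_rv (p : K[X]) (h0 : p.coeff 0 ≠ 0) :
    (rv θ p).leadingCoeff = θ (p.coeff 0) := by
  unfold rv
  have h1 : (p.map θ).coeff 0 ≠ 0 := by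
    rw [coeff_map]; exact (map_ne_zero θ).2 h0
  rw [reverse_leadingCoeff, trailingCoeff, natTrailingDegree_eq_zero.2 (Or.inr h1), coeff_map]

theorem rv_rv (hθ : ∀ a, θ (θ a) = a) (p : K[X]) (h0 : p.coeff 0 ≠ 0) : rv θ (rv θ p) = p := by
  have h1 : (p.map θ).coeff 0 ≠ 0 := by
    rw [coeff_map]; exact (map_ne_zero θ).2 h0
  have hN : (p.map θ).reverse.natDegree = p.natDegree := natDegree_rv θ p h0
  ext j
  unfold rv
  rw [coeff_reverse, natDegree_map, hN, coeff_map, coeff_reverse, natDegree_map, revAt_invol,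
    coeff_map, hθ]

theorem rv_ne_zero {p : K[X]} (hp : p ≠ 0) : rv θ p ≠ 0 := by
  unfold rv
  rw [Ne, reverse_eq_zero, Polynomial.map_eq_zero]
  exact hp

theorem isSR_iff {f : K[X]} : IsSR θ f ↔ f.Monic ∧ f.coeff 0 ≠ 0 ∧ rv θ f = C (θ (f.coeff 0)) * f :=
  Iff.rfl

theorem coeff_zero_mul_ne {p r : K[X]} (h : (p * r).coeff 0 ≠ 0) :
    p.coeff 0 ≠ 0 ∧ r.coeff 0 ≠ 0 := by
  rw [mul_coeff_zero] at h
  exact ⟨left_ne_zero_of_mul h, right_ne_zero_of_mul h⟩

/-- the norm-one property of the constant coefficient -/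
theorem IsSR.norm_coeff_zero {f : K[X]} (hf : IsSR θ f) : θ (f.coeff 0) * f.coeff 0 = 1 := by
  have h := hf.coeff_rev 0 (Nat.zero_le _)
  rw [Nat.sub_zero] at h
  have h1 : f.coeff f.natDegree = 1 := hf.1
  rw [h1, map_one] at h
  exact h.symm

/-- a cofactor of a self-reciprocal polynomial by a self-reciprocal polynomial is
self-reciprocal -/
theorem IsSR.of_mul {P g : K[X]} (hP : IsSR θ P) (hf : IsSR θ (P * g)) : IsSR θ g := by
  have h0 := coeff_zero_mul_ne hf.2.1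
  refine ⟨hP.1.of_mul_monic_left hf.1, h0.2, ?_⟩
  have h1 := hf.2.2
  change rv θ (P * g) = _ at h1
  rw [rv_mul, (isSR_iff θ).1 hP |>.2.2, mul_coeff_zero, map_mul, C_mul] at h1
  have hne : C (θ (P.coeff 0)) * P ≠ 0 := by
    apply mul_ne_zero
    · rw [Ne, C_eq_zero]; exact (map_ne_zero θ).2 h0.1
    · exact hP.1.ne_zero
  apply mul_left_cancel₀ hne
  change _ * rv θ g = _
  rw [h1]
  ring

/-- the monic twisted reciprocal -/
noncomputable def rc (p : K[X]) : K[X] := C (θ (p.coeff 0))⁻¹ * rv θ p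

theorem rc_monic {p : K[X]} (h0 : p.coeff 0 ≠ 0) : (rc θ p).Monic := by
  unfold rc Monic
  rw [leadingCoeff_mul, leadingCoeff_C, leadingCoeff_rv θ p h0,
    inv_mul_cancel₀ ((map_ne_zero θ).2 h0)]

theorem rc_coeff_zero {p : K[X]} (hm : p.Monic) : (rc θ p).coeff 0 = (θ (p.coeff 0))⁻¹ := by
  unfold rc
  rw [coeff_C_mul, coeff_zero_rv, hm.leadingCoeff, map_one, mul_one]

theorem rv_eq_of_rc {p : K[X]} (h0 : p.coeff 0 ≠ 0) :
    rv θ p = C (θ (p.coeff 0)) * rc θ p := by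
  unfold rc
  rw [← mul_assoc, ← C_mul, mul_inv_cancel₀ ((map_ne_zero θ).2 h0), C_1, one_mul]

theorem rc_dvd {p f : K[X]} (hf : IsSR θ f) (hp : p ∣ f) : rc θ p ∣ f := by
  obtain ⟨g, hg⟩ := hp
  have h0 : p.coeff 0 ≠ 0 := (coeff_zero_mul_ne (hg ▸ hf.2.1)).1
  have h1 : rv θ f = rv θ p * rv θ g := by rw [hg, rv_mul]
  have h2 := hf.2.2
  change rv θ f = _ at h2
  rw [h1, rv_eq_of_rc θ h0] at h2
  refine ⟨C (θ (f.coeff 0))⁻¹ * C (θ (p.coeff 0)) * rv θ g, ?_⟩
  have hf0 : θ (f.coeff 0) ≠ 0 := (map_ne_zero θ).2 hf.2.1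
  calc f = C (θ (f.coeff 0))⁻¹ * (C (θ (f.coeff 0)) * f) := by
        rw [← mul_assoc, ← C_mul, inv_mul_cancel₀ hf0, C_1, one_mul]
    _ = _ := by rw [← h2]; ring

theorem rc_irreducible (hθ : ∀ a, θ (θ a) = a) {p : K[X]} (h0 : p.coeff 0 ≠ 0)
    (hp : Irreducible p) : Irreducible (rc θ p) := by
  have hunit : IsUnit (C (θ (p.coeff 0))⁻¹ : K[X]) := by
    apply isUnit_C.2
    exact (isUnit_iff_ne_zero.2 (inv_ne_zero ((map_ne_zero θ).2 h0)))
  unfold rc
  rw [irreducible_isUnit_mul hunit]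
  constructor
  · intro hu
    have h1 := natDegree_eq_zero_of_isUnit hu
    rw [natDegree_rv θ p h0] at h1
    apply hp.not_isUnit
    rw [eq_C_of_natDegree_eq_zero h1]
    apply isUnit_C.2
    exact isUnit_iff_ne_zero.2 h0
  · intro a b hab
    have ha0b0 : a.coeff 0 ≠ 0 ∧ b.coeff 0 ≠ 0 := by
      apply coeff_zero_mul_ne
      rw [← hab, coeff_zero_rv]
      exact (map_ne_zero θ).2 (leadingCoeff_ne_zero.2 hp.ne_zero)
    have h2 : p = rv θ a * rv θ b := by
      rw [← rv_mul, ← hab, rv_rv θ hθ p h0]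
    rcases hp.isUnit_or_isUnit h2 with hu | hu
    · left
      have h1 := natDegree_eq_zero_of_isUnit hu
      rw [natDegree_rv θ a ha0b0.1] at h1
      rw [eq_C_of_natDegree_eq_zero h1]
      exact isUnit_C.2 (isUnit_iff_ne_zero.2 ha0b0.1)
    · right
      have h1 := natDegree_eq_zero_of_isUnit hu
      rw [natDegree_rv θ b ha0b0.2] at h1
      rw [eq_C_of_natDegree_eq_zero h1]
      exact isUnit_C.2 (isUnit_iff_ne_zero.2 ha0b0.2)

/-- a monic polynomial equal to its monic twisted reciprocal is self-reciprocal -/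
theorem isSR_of_rc_eq {p : K[X]} (hm : p.Monic) (h0 : p.coeff 0 ≠ 0) (h : rc θ p = p) :
    IsSR θ p := by
  refine ⟨hm, h0, ?_⟩
  change rv θ p = _
  rw [rv_eq_of_rc θ h0, h]

/-- the product of a monic polynomial with its monic twisted reciprocal is self-reciprocal -/
theorem isSR_mul_rc (hθ : ∀ a, θ (θ a) = a) {p : K[X]} (hm : p.Monic) (h0 : p.coeff 0 ≠ 0) :
    IsSR θ (p * rc θ p) := by
  have hθ0 : θ (p.coeff 0) ≠ 0 := (map_ne_zero θ).2 h0
  refine ⟨hm.mul (rc_monic θ h0), ?_, ?_⟩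
  · rw [mul_coeff_zero, rc_coeff_zero θ hm]
    exact mul_ne_zero h0 (inv_ne_zero hθ0)
  · change rv θ (p * rc θ p) = _
    rw [rv_mul, mul_coeff_zero, rc_coeff_zero θ hm]
    have h1 : rv θ (rc θ p) = C (p.coeff 0)⁻¹ * p := by
      unfold rc
      rw [rv_mul, rv_C, rv_rv θ hθ p h0, map_inv₀, hθ]
    have e : θ (p.coeff 0 * (θ (p.coeff 0))⁻¹) = θ (p.coeff 0) * (p.coeff 0)⁻¹ := by
      rw [map_mul, map_inv₀, hθ]
    rw [h1, rv_eq_of_rc θ h0, e, C_mul]
    ring

end Cfsg.Agent.Lib.Helper8.SelfRec
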