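import Mathlib
import Cfsg.Agent.Lib.Helper8.SelfRecC

/-!
# Monic polynomials supported on a finite family of monic irreducibles (helper8)
-/

set_option autoImplicit false
set_option linter.unusedSectionVars false

namespace Cfsg.Agent.Lib.Helper8.PrimeOrd

open Polynomial Cfsg.Agent.Lib.Helper8.SelfRec

universe u v

variable {K : Type u} [Field K] {ι : Type v} [Fintype ι] [DecidableEq ι]

/-- a finite family of pairwise distinct monic irreducible polynomials -/
structure IsFam (P : ι → K[X]) : Prop where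
  monic : ∀ j, (P j).Monic
  irred : ∀ j, Irreducible (P j)
  inj : Function.Injective P

/-- the monic polynomial with prescribed multiplicities -/
noncomputable def fe (P : ι → K[X]) (e : ι → ℕ) : K[X] := ∏ j, P j ^ e j

variable {P : ι → K[X]}

theorem fe_monic (hP : IsFam P) (e : ι → ℕ) : (fe P e).Monic :=
  monic_prod_of_monic _ _ (fun j _ => (hP.monic j).pow (e j))

theorem natDegree_fe (hP : IsFam P) (e : ι → ℕ) :
    (fe P e).natDegree = ∑ j, e j * (P j).natDegree := by
  unfold fe
  rw [natDegree_prod_of_monic _ _ (fun j _ => (hP.monic j).pow (e j))]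
  apply Finset.sum_congr rfl
  intro j _
  rw [(hP.monic j).natDegree_pow]

theorem fe_zero : fe P (0 : ι → ℕ) = 1 := by
  unfold fe
  simp

theorem isCoprime_of_ne (hP : IsFam P) {j k : ι} (hjk : j ≠ k) : IsCoprime (P j) (P k) := by
  rw [(hP.irred j).coprime_iff_not_dvd]
  intro hd
  apply hjk
  apply hP.inj
  exact eq_of_monic_of_associated (hP.monic j) (hP.monic k)
    ((hP.irred j).associated_of_dvd (hP.irred k) hd)

theorem fe_eq_mul (e : ι → ℕ) (j : ι) :
    fe P e = P j ^ e j * ∏ k ∈ Finset.univ.erase j, P k ^ e k := by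
  unfold fe
  exact (Finset.mul_prod_erase Finset.univ (fun k => P k ^ e k) (Finset.mem_univ j)).symm

theorem isCoprime_rest (hP : IsFam P) (e : ι → ℕ) (j : ι) :
    IsCoprime (P j) (∏ k ∈ Finset.univ.erase j, P k ^ e k) := by
  apply IsCoprime.prod_right
  intro k hk
  apply IsCoprime.pow_right
  exact isCoprime_of_ne hP (Finset.ne_of_mem_erase hk).symm

theorem pow_dvd_fe_iff (hP : IsFam P) (e : ι → ℕ) (j : ι) (n : ℕ) :
    P j ^ n ∣ fe P e ↔ n ≤ e j := by
  constructor
  · intro h
    rw [fe_eq_mul e j] at h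
    have h1 : P j ^ n ∣ P j ^ e j :=
      (isCoprime_rest hP e j).pow_left.dvd_of_dvd_mul_right h
    exact (pow_dvd_pow_iff (hP.monic j).ne_zero (hP.irred j).not_isUnit).1 h1
  · intro h
    rw [fe_eq_mul e j]
    exact Dvd.dvd.mul_right (pow_dvd_pow _ h) _

theorem fe_injective (hP : IsFam P) : Function.Injective (fe P) := by
  intro e e' h
  funext j
  apply le_antisymm
  · rw [← pow_dvd_fe_iff hP e' j, ← h, pow_dvd_fe_iff hP e j]
  · rw [← pow_dvd_fe_iff hP e j, h, pow_dvd_fe_iff hP e' j]

theorem dvd_fe (hP : IsFam P) (e : ι → ℕ) {h : K[X]} (hm : h.Monic) (hi : Irreducible h)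
    (hd : h ∣ fe P e) : ∃ j, h = P j ∧ e j ≠ 0 := by
  have hpr : Prime h := hi.prime
  unfold fe at hd
  rw [Prime.dvd_finsetProd_iff hpr] at hd
  obtain ⟨j, -, hj⟩ := hd
  have hej : e j ≠ 0 := by
    intro h0
    rw [h0, pow_zero] at hj
    exact hi.not_isUnit (isUnit_of_dvd_one hj)
  refine ⟨j, ?_, hej⟩
  have := hpr.dvd_of_dvd_pow hj
  exact eq_of_monic_of_associated hm (hP.monic j) (hi.associated_of_dvd (hP.irred j) this)

theorem dvd_fe_of_ne_zero (e : ι → ℕ) (j : ι) (hj : e j ≠ 0) : P j ∣ fe P e := by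
  rw [fe_eq_mul e j]
  exact Dvd.dvd.mul_right (dvd_pow_self _ hj) _

theorem fe_add (e e' : ι → ℕ) : fe P (e + e') = fe P e * fe P e' := by
  unfold fe
  rw [← Finset.prod_mul_distrib]
  apply Finset.prod_congr rfl
  intro j _
  rw [Pi.add_apply, pow_add]

theorem fe_single (j : ι) : fe P (Pi.single j 1) = P j := by
  unfold fe
  rw [Finset.prod_eq_single j]
  · simp
  · intro k _ hk
    simp [hk]
  · intro h; exact absurd (Finset.mem_univ j) h

/-- every monic polynomial all of whose monic irreducible factors are in the family is an `fe` -/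
theorem exists_fe (P : ι → K[X]) :
    ∀ (N : ℕ) (f : K[X]), f.natDegree = N → f.Monic →
      (∀ h : K[X], h.Monic → Irreducible h → h ∣ f → ∃ j, h = P j) → ∃ e, f = fe P e := by
  intro N
  induction N using Nat.strong_induction_on with
  | _ N ih =>
    intro f hN hm hsupp
    rcases Nat.eq_zero_or_pos N with hN0 | hNpos
    · subst hN0
      have : f = 1 := eq_one_of_monic_natDegree_zero hm hN
      exact ⟨0, by rw [this, fe_zero]⟩
    have hnu : ¬IsUnit f := not_isUnit_of_natDegree_pos f (by omega)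
    obtain ⟨h, hhm, hhi, hd⟩ := exists_monic_irreducible_factor f hnu
    obtain ⟨j, hj⟩ := hsupp h hhm hhi hd
    obtain ⟨g, hg⟩ := hd
    have hgm : g.Monic := hhm.of_mul_monic_left (hg ▸ hm)
    have hdeg : h.natDegree + g.natDegree = N := by
      rw [← hN, hg, natDegree_mul hhm.ne_zero hgm.ne_zero]
    have hhpos : 0 < h.natDegree := Irreducible.natDegree_pos hhi
    obtain ⟨e, he⟩ := ih g.natDegree (by omega) g rfl hgm (by
      intro h' hm' hi' hd'
      exact hsupp h' hm' hi' (hg ▸ Dvd.dvd.mul_left hd' h))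
    refine ⟨Pi.single j 1 + e, ?_⟩
    rw [fe_add, fe_single, ← hj, ← he, hg]

end Cfsg.Agent.Lib.Helper8.PrimeOrd
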