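import Mathlib

/-!
# Matrices of finite order and the irreducible factors of their characteristic polynomial (helper8)
-/

set_option autoImplicit false
set_option linter.unusedSectionVars false

namespace Cfsg.Agent.Lib.Helper8.PrimeOrd

open Polynomial Matrix

universe u

variable {K : Type u} [Field K] {n : Type*} [Fintype n] [DecidableEq n]

/-- if `g(M) = 0`, every irreducible factor of the characteristic polynomial divides `g` -/
theorem dvd_of_aeval_eq_zero (M : Matrix n n K) (g : K[X]) (hg : aeval M g = 0)
    {h : K[X]} (hi : Irreducible h) (hd : h ∣ M.charpoly) : h ∣ g := by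
  have : Fact (Irreducible h) := ⟨hi⟩
  set L := AdjoinRoot h
  set ρ : L := AdjoinRoot.root h
  set ML : Matrix n n L := M.map (algebraMap K L) with hML
  have hroot : (Matrix.toLin' ML).charpoly.IsRoot ρ := by
    rw [Matrix.charpoly_toLin', hML, Matrix.charpoly_map]
    obtain ⟨u, hu⟩ := hd
    rw [hu, Polynomial.map_mul, IsRoot.def, eval_mul, eval_map, AdjoinRoot.algebraMap_eq,
      AdjoinRoot.eval₂_root, zero_mul]
  rw [← Module.End.hasEigenvalue_iff_isRoot_charpoly] at hroot
  obtain ⟨v, hv⟩ := hroot.exists_hasEigenvector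
  have hv0 : v ≠ 0 := hv.2
  -- `g(ML) = 0`
  have hgL : aeval ML (g.map (algebraMap K L)) = 0 := by
    have hcomm : (algebraMap L (Matrix n n L)).comp (algebraMap K L) =
        ((algebraMap K L).mapMatrix (m := n)).comp (algebraMap K (Matrix n n K)) := by
      ext x i j
      simp only [RingHom.comp_apply, Matrix.algebraMap_matrix_apply, RingHom.mapMatrix_apply,
        Matrix.map_apply]
      split_ifs <;> simp
    have := map_aeval_eq_aeval_map hcomm g M
    rw [hg, map_zero] at this
    exact this.symm
  have hgL' : aeval (Matrix.toLin' ML) (g.map (algebraMap K L)) = 0 := by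
    have := Polynomial.aeval_algHom_apply (Matrix.toLinAlgEquiv' : Matrix n n L ≃ₐ[L] _).toAlgHom
      ML (g.map (algebraMap K L))
    rw [hgL, map_zero] at this
    exact this
  have h1 := Module.End.aeval_apply_of_hasEigenvector (p := g.map (algebraMap K L)) hv
  rw [hgL', LinearMap.zero_apply] at h1
  have h2 : (g.map (algebraMap K L)).eval ρ = 0 := by
    rcases smul_eq_zero.1 h1.symm with h3 | h3
    · exact h3
    · exact absurd h3 hv0
  rw [eval_map, ← aeval_def, AdjoinRoot.aeval_eq, AdjoinRoot.mk_eq_zero] at h2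
  exact h2

/-- a matrix with `M ^ r = 1`: every irreducible factor of the characteristic polynomial divides
`X ^ r - 1` -/
theorem dvd_X_pow_sub_one (M : Matrix n n K) (r : ℕ) (hM : M ^ r = 1)
    {h : K[X]} (hi : Irreducible h) (hd : h ∣ M.charpoly) : h ∣ X ^ r - 1 := by
  apply dvd_of_aeval_eq_zero M _ _ hi hd
  rw [map_sub, map_pow, aeval_X, map_one, hM, sub_self]

/-- a semisimple matrix whose characteristic polynomial divides a power of `g` is annihilated
by `g` -/
theorem aeval_eq_zero_of_semisimple (M : Matrix n n K)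
    (hss : Module.End.IsSemisimple (Matrix.toLin' M)) (g : K[X]) (N : ℕ)
    (hd : M.charpoly ∣ g ^ N) : aeval M g = 0 := by
  have h1 : Squarefree (minpoly K M) := by
    rw [← Matrix.minpoly_toLin']
    exact hss.minpoly_squarefree
  have h2 : minpoly K M ∣ g ^ N := (Matrix.minpoly_dvd_charpoly M).trans hd
  have h3 : minpoly K M ∣ g := h1.isRadical N g h2
  obtain ⟨u, hu⟩ := h3
  rw [hu, map_mul, minpoly.aeval, zero_mul]

theorem pow_eq_one_of_semisimple (M : Matrix n n K)
    (hss : Module.End.IsSemisimple (Matrix.toLin' M)) (r N : ℕ)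
    (hd : M.charpoly ∣ (X ^ r - 1) ^ N) : M ^ r = 1 := by
  have := aeval_eq_zero_of_semisimple M hss _ N hd
  rw [map_sub, map_pow, aeval_X, map_one, sub_eq_zero] at this
  exact this

theorem eq_one_of_semisimple (M : Matrix n n K)
    (hss : Module.End.IsSemisimple (Matrix.toLin' M)) (N : ℕ)
    (hd : M.charpoly ∣ (X - 1) ^ N) : M = 1 := by
  have := aeval_eq_zero_of_semisimple M hss _ N hd
  rw [map_sub, aeval_X, map_one, sub_eq_zero] at this
  exact this

end Cfsg.Agent.Lib.Helper8.PrimeOrd
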