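import Mathlib
import Cfsg.Agent.Lib.Helper8.PrimeOrdA

/-!
# The twisted reverse of a polynomial supported on a family closed under the twisted reciprocal
(helper8)
-/

set_option autoImplicit false
set_option linter.unusedSectionVars false

namespace Cfsg.Agent.Lib.Helper8.PrimeOrd

open Polynomial Cfsg.Agent.Lib.Helper8.SelfRec

universe u v

variable {K : Type u} [Field K] {ι : Type v} [Fintype ι] [DecidableEq ι] (θ : K →+* K)

theorem rv_one : rv θ (1 : K[X]) = 1 := by
  have := rv_C θ (1 : K)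
  simpa using this

/-- the twisted reverse as a monoid homomorphism -/
noncomputable def rvHom : K[X] →* K[X] where
  toFun := rv θ
  map_one' := rv_one θ
  map_mul' := rv_mul θ

theorem rvHom_apply (p : K[X]) : rvHom θ p = rv θ p := rfl

variable {P : ι → K[X]}

theorem rv_fe (h0 : ∀ j, (P j).coeff 0 ≠ 0) (s : ι → ι)
    (hs : Function.Involutive s) (hrc : ∀ j, rc θ (P j) = P (s j)) (e : ι → ℕ) :
    rv θ (fe P e) = C (∏ j, θ ((P j).coeff 0) ^ e j) * fe P (e ∘ s) := by
  unfold fe
  rw [← rvHom_apply, map_prod]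
  simp only [map_pow, rvHom_apply]
  have h1 : ∀ j, rv θ (P j) ^ e j = C (θ ((P j).coeff 0) ^ e j) * P (s j) ^ e j := by
    intro j
    rw [rv_eq_of_rc θ (h0 j), hrc, mul_pow, C_pow]
  simp only [h1]
  rw [Finset.prod_mul_distrib, ← map_prod]
  congr 1
  have := Equiv.prod_comp hs.toPerm (fun k => P k ^ (e ∘ s) k)
  rw [← this]
  apply Finset.prod_congr rfl
  intro j _
  simp only [Function.Involutive.coe_toPerm, Function.comp_apply, hs j]

theorem comp_eq_of_rv_fe (hP : IsFam P) (h0 : ∀ j, (P j).coeff 0 ≠ 0) (s : ι → ι)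
    (hs : Function.Involutive s) (hrc : ∀ j, rc θ (P j) = P (s j)) (e : ι → ℕ) (c' : K)
    (h : rv θ (fe P e) = C c' * fe P e) : e ∘ s = e := by
  rw [rv_fe θ h0 s hs hrc] at h
  have hc0 : (∏ j, θ ((P j).coeff 0) ^ e j) ≠ 0 := by
    apply Finset.prod_ne_zero_iff.2
    intro j _
    exact pow_ne_zero _ ((map_ne_zero θ).2 (h0 j))
  have h1 := congrArg leadingCoeff h
  rw [leadingCoeff_mul, leadingCoeff_mul, leadingCoeff_C, leadingCoeff_C,
    (fe_monic hP _).leadingCoeff, (fe_monic hP _).leadingCoeff, mul_one, mul_one] at h1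
  rw [← h1] at h
  have h2 : fe P (e ∘ s) = fe P e := by
    apply mul_left_cancel₀ _ h
    rw [Ne, C_eq_zero]
    exact hc0
  exact fe_injective hP h2

end Cfsg.Agent.Lib.Helper8.PrimeOrd
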