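import Mathlib
import Cfsg.Agent.Lib.Helper8.PrimeOrdB

/-!
# The family of monic irreducible factors of the `r`-th cyclotomic polynomial over a finite field
(helper8)
-/

set_option autoImplicit false
set_option linter.unusedSectionVars false

namespace Cfsg.Agent.Lib.Helper8.PrimeOrd

open Polynomial Cfsg.Agent.Lib.Helper8.SelfRec

universe u

section RC

variable {K : Type u} [Field K] (θ : K →+* K)

theorem rc_rc (hθ : ∀ a, θ (θ a) = a) {p : K[X]} (hm : p.Monic) (h0 : p.coeff 0 ≠ 0) :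
    rc θ (rc θ p) = p := by
  have hθ0 : θ (p.coeff 0) ≠ 0 := (map_ne_zero θ).2 h0
  have h1 : rv θ (rc θ p) = C (p.coeff 0)⁻¹ * p := by
    unfold rc
    rw [rv_mul, rv_C, rv_rv θ hθ p h0, map_inv₀ θ, hθ]
  have h2 : θ ((rc θ p).coeff 0) = (p.coeff 0)⁻¹ := by
    rw [rc_coeff_zero θ hm, map_inv₀ θ, hθ]
  calc rc θ (rc θ p) = C (θ ((rc θ p).coeff 0))⁻¹ * rv θ (rc θ p) := rfl
    _ = C (p.coeff 0) * (C (p.coeff 0)⁻¹ * p) := by rw [h2, h1, inv_inv]
    _ = p := by rw [← mul_assoc, ← C_mul, mul_inv_cancel₀ h0, C_1, one_mul]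

theorem reverse_X_pow_sub_one (r : ℕ) : (X ^ r - 1 : K[X]).reverse = 1 - X ^ r := by
  have h1 : (X ^ r - 1 : K[X]) = X ^ r + C (-1) := by simp [sub_eq_add_neg]
  have h2 : (X ^ r : K[X]).reverse = 1 := by
    have := reverse_mul_X_pow (1 : K[X]) r
    rw [one_mul] at this
    rw [this]
    have h3 := reverse_C (1 : K)
    rw [C_1] at h3
    exact h3
  rw [h1, reverse_add_C, h2, natDegree_X_pow]
  simp [sub_eq_add_neg]

theorem map_X_pow_sub_one (r : ℕ) : (X ^ r - 1 : K[X]).map θ = X ^ r - 1 := by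
  simp

theorem coeff_zero_X_pow_sub_one (r : ℕ) (hr : 0 < r) : (X ^ r - 1 : K[X]).coeff 0 = -1 := by
  simp [coeff_X_pow, hr.ne]

theorem isSR_X_pow_sub_one (r : ℕ) (hr : 0 < r) : IsSR θ (X ^ r - 1 : K[X]) := by
  refine ⟨monic_X_pow_sub_C 1 hr.ne', ?_, ?_⟩
  · rw [coeff_zero_X_pow_sub_one r hr]
    exact neg_ne_zero.2 one_ne_zero
  · rw [map_X_pow_sub_one, reverse_X_pow_sub_one, coeff_zero_X_pow_sub_one r hr, map_neg, map_one,
      C_neg, C_1]
    ring

theorem rc_X_sub_one : rc θ (X - 1 : K[X]) = X - 1 := by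
  have h1 := reverse_X_pow_sub_one (K := K) 1
  have h2 := map_X_pow_sub_one θ 1
  have h3 := coeff_zero_X_pow_sub_one (K := K) 1 one_pos
  rw [pow_one] at h1 h2 h3
  unfold rc rv
  rw [h2, h1, h3, map_neg, map_one, inv_neg, inv_one, C_neg, C_1]
  ring

end RC

section Cyc

variable (K : Type u) [Field K] [Fintype K] [DecidableEq K] (r : ℕ)

/-- the finite set of monic irreducible factors of `Φ_r` -/
noncomputable def cycFactors : Finset K[X] :=
  (UniqueFactorizationMonoid.normalizedFactors (cyclotomic r K)).toFinset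

variable {K r}

theorem mem_cycFactors {h : K[X]} :
    h ∈ cycFactors K r ↔ h.Monic ∧ Irreducible h ∧ h ∣ cyclotomic r K := by
  unfold cycFactors
  rw [Multiset.mem_toFinset,
    UniqueFactorizationMonoid.mem_normalizedFactors_iff' (cyclotomic_ne_zero r K)]
  constructor
  · rintro ⟨h1, h2, h3⟩
    refine ⟨?_, h1, h3⟩
    rw [← h2]
    exact monic_normalize h1.ne_zero
  · rintro ⟨h1, h2, h3⟩
    exact ⟨h2, h1.normalize_eq_self, h3⟩

variable (K r)

/-- the family of monic irreducible factors of `Φ_r`, indexed by a finite type -/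
def PP : ↥(cycFactors K r) → K[X] := Subtype.val

variable {K r}

theorem PP_monic (j : ↥(cycFactors K r)) : (PP K r j).Monic := (mem_cycFactors.1 j.2).1

theorem PP_irred (j : ↥(cycFactors K r)) : Irreducible (PP K r j) := (mem_cycFactors.1 j.2).2.1

theorem PP_dvd_cyc (j : ↥(cycFactors K r)) : PP K r j ∣ cyclotomic r K :=
  (mem_cycFactors.1 j.2).2.2

theorem isFam_PP : IsFam (PP K r) :=
  ⟨PP_monic, PP_irred, Subtype.val_injective⟩

theorem exists_PP {h : K[X]} (hm : h.Monic) (hi : Irreducible h) (hd : h ∣ cyclotomic r K) :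
    ∃ j, h = PP K r j :=
  ⟨⟨h, mem_cycFactors.2 ⟨hm, hi, hd⟩⟩, rfl⟩

variable [hr : Fact r.Prime]

theorem PP_dvd (j : ↥(cycFactors K r)) : PP K r j ∣ X ^ r - 1 := by
  rw [← cyclotomic_prime_mul_X_sub_one K r]
  exact Dvd.dvd.mul_right (PP_dvd_cyc j) _

theorem PP_eval_one (hrK : (r : K) ≠ 0) (j : ↥(cycFactors K r)) : (PP K r j).eval 1 ≠ 0 := by
  intro h0
  obtain ⟨u, hu⟩ := PP_dvd_cyc j
  have := congrArg (eval 1) hu
  rw [eval_one_cyclotomic_prime, eval_mul, h0, zero_mul] at this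
  exact hrK this

theorem PP_ne_X_sub_one (hrK : (r : K) ≠ 0) (j : ↥(cycFactors K r)) : PP K r j ≠ X - 1 := by
  intro h
  apply PP_eval_one hrK j
  rw [h]
  simp

theorem PP_coeff_zero (j : ↥(cycFactors K r)) : (PP K r j).coeff 0 ≠ 0 := by
  obtain ⟨u, hu⟩ := PP_dvd j
  have h1 : (PP K r j * u).coeff 0 ≠ 0 := by
    rw [← hu, coeff_zero_X_pow_sub_one r hr.out.pos]
    exact neg_ne_zero.2 one_ne_zero
  exact (coeff_zero_mul_ne h1).1

/-- the monic irreducible factors of `X ^ r - 1` -/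
theorem cases_of_dvd {h : K[X]} (hm : h.Monic) (hi : Irreducible h) (hd : h ∣ X ^ r - 1) :
    h = X - 1 ∨ ∃ j, h = PP K r j := by
  rw [← cyclotomic_prime_mul_X_sub_one K r] at hd
  rcases hi.prime.dvd_or_dvd hd with h1 | h1
  · exact Or.inr (exists_PP hm hi h1)
  · left
    have hX : Irreducible (X - 1 : K[X]) := by
      have := irreducible_X_sub_C (1 : K)
      rwa [C_1] at this
    have hXm : (X - 1 : K[X]).Monic := by
      have := monic_X_sub_C (1 : K)
      rwa [C_1] at this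
    exact eq_of_monic_of_associated hm hXm (hi.associated_of_dvd hX h1)

theorem rc_mem (θ : K →+* K) (hθ : ∀ a, θ (θ a) = a) (hrK : (r : K) ≠ 0)
    (j : ↥(cycFactors K r)) : rc θ (PP K r j) ∈ cycFactors K r := by
  have h0 := PP_coeff_zero j
  have hm := rc_monic θ h0
  have hi := rc_irreducible θ hθ h0 (PP_irred j)
  have hd := rc_dvd θ (isSR_X_pow_sub_one θ r hr.out.pos) (PP_dvd j)
  rcases cases_of_dvd hm hi hd with h1 | ⟨k, hk⟩
  · exfalso
    apply PP_ne_X_sub_one hrK j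
    have := rc_rc θ hθ (PP_monic j) h0
    rw [h1, rc_X_sub_one] at this
    exact this.symm
  · rw [hk]
    exact k.2

/-- the involution on the index set induced by the twisted reciprocal -/
noncomputable def sIdx (θ : K →+* K) (hθ : ∀ a, θ (θ a) = a) (hrK : (r : K) ≠ 0)
    (j : ↥(cycFactors K r)) : ↥(cycFactors K r) :=
  ⟨rc θ (PP K r j), rc_mem θ hθ hrK j⟩

theorem PP_sIdx (θ : K →+* K) (hθ : ∀ a, θ (θ a) = a) (hrK : (r : K) ≠ 0)
    (j : ↥(cycFactors K r)) : PP K r (sIdx θ hθ hrK j) = rc θ (PP K r j) := rfl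

theorem sIdx_involutive (θ : K →+* K) (hθ : ∀ a, θ (θ a) = a) (hrK : (r : K) ≠ 0) :
    Function.Involutive (sIdx θ hθ hrK) := by
  intro j
  apply Subtype.ext
  change rc θ (rc θ (PP K r j)) = PP K r j
  exact rc_rc θ hθ (PP_monic j) (PP_coeff_zero j)

end Cyc

end Cfsg.Agent.Lib.Helper8.PrimeOrd
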