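import Mathlib
import Cfsg.Agent.Lib.Helper8.SelfRecA

/-!
# The twisted form on `K[X]/(f)` for a self-reciprocal polynomial of even degree (helper8)
-/

set_option autoImplicit false
set_option linter.unusedSectionVars false

namespace Cfsg.Agent.Lib.Helper8.SelfRec

open Polynomial

universe u

variable {K : Type u} [Field K] {θ : K →+* K} {f : K[X]}

theorem mk_monomial (j : ℕ) (x : K) :
    AdjoinRoot.mk f (monomial j x) = AdjoinRoot.of f x * AdjoinRoot.root f ^ j := by
  rw [← C_mul_X_pow_eq_monomial, map_mul, map_pow, AdjoinRoot.mk_C, AdjoinRoot.mk_X]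

theorem fun_ext_of_monomials (hm : f.Monic) (L M : AdjoinRoot f → K)
    (hL : ∀ a b, L (a + b) = L a + L b) (hM : ∀ a b, M (a + b) = M a + M b)
    (h : ∀ j < f.natDegree, ∀ x : K,
      L (AdjoinRoot.of f x * AdjoinRoot.root f ^ j) = M (AdjoinRoot.of f x * AdjoinRoot.root f ^ j))
    (c : AdjoinRoot f) : L c = M c := by
  let L' : AdjoinRoot f →+ K := AddMonoidHom.mk' L hL
  let M' : AdjoinRoot f →+ K := AddMonoidHom.mk' M hM
  change L' c = M' c
  obtain ⟨p, rfl, hdeg⟩ := exists_rep hm c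
  by_cases hp0 : p = 0
  · rw [hp0, map_zero, map_zero, map_zero]
  have hdN : p.natDegree < f.natDegree := natDegree_lt_natDegree hp0 hdeg
  rw [p.as_sum_range' f.natDegree hdN, map_sum, map_sum, map_sum]
  apply Finset.sum_congr rfl
  intro j hj
  rw [mk_monomial]
  exact h j (Finset.mem_range.1 hj) _

theorem sig_of_mul_pow (hf : IsSR θ f) (x : K) (j : ℕ) :
    sig hf (AdjoinRoot.of f x * AdjoinRoot.root f ^ j) =
      AdjoinRoot.of f (θ x) * ainv f ^ j := by
  rw [map_mul, map_pow, sig_of, sig_root]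

theorem tau_sig (hf : IsSR θ f) (hN : 2 ≤ f.natDegree) (c : AdjoinRoot f) :
    tau hf.1 (AdjoinRoot.root f ^ (f.natDegree - 2) * sig hf c) =
      -(f.coeff 0)⁻¹ * θ (tau hf.1 c) := by
  apply fun_ext_of_monomials hf.1
    (fun c => tau hf.1 (AdjoinRoot.root f ^ (f.natDegree - 2) * sig hf c))
    (fun c => -(f.coeff 0)⁻¹ * θ (tau hf.1 c))
  · intro a b
    simp only [map_add, mul_add]
  · intro a b
    simp only [map_add, mul_add]
  · intro j hj x
    rw [sig_of_mul_pow, tau_of_mul, tau_root_pow hf.1 j hj]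
    have hrw : AdjoinRoot.root f ^ (f.natDegree - 2) * (AdjoinRoot.of f (θ x) * ainv f ^ j) =
        AdjoinRoot.of f (θ x) * (AdjoinRoot.root f ^ (f.natDegree - 2) * ainv f ^ j) := by ring
    rw [hrw, tau_of_mul]
    by_cases hj1 : j = f.natDegree - 1
    · rw [if_pos hj1, mul_one]
      have h2 : AdjoinRoot.root f ^ (f.natDegree - 2) * ainv f ^ j = ainv f := by
        have : j = (f.natDegree - 2) + 1 := by omega
        rw [this, pow_succ, ← mul_assoc, root_pow_mul_ainv_pow hf.2.1, one_mul]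
      rw [h2, tau_ainv hf.1 (by omega)]
      ring
    · rw [if_neg hj1, mul_zero, map_zero, mul_zero]
      have h2 : AdjoinRoot.root f ^ (f.natDegree - 2) * ainv f ^ j =
          AdjoinRoot.root f ^ (f.natDegree - 2 - j) := by
        have : f.natDegree - 2 = (f.natDegree - 2 - j) + j := by omega
        conv_lhs => rw [this, pow_add, mul_assoc, root_pow_mul_ainv_pow hf.2.1, mul_one]
      rw [h2, tau_root_pow hf.1 _ (by omega), if_neg (by omega), mul_zero]

/-- the twisted form on `K[X]/(f)` -/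
noncomputable def B0 (hf : IsSR θ f) (k : ℕ) (a b : AdjoinRoot f) : K :=
  tau hf.1 (AdjoinRoot.root f ^ k * a * sig hf b)

theorem B0_add_left (hf : IsSR θ f) (k : ℕ) (a a' b : AdjoinRoot f) :
    B0 hf k (a + a') b = B0 hf k a b + B0 hf k a' b := by
  unfold B0
  rw [← map_add]
  congr 1
  ring

theorem B0_add_right (hf : IsSR θ f) (k : ℕ) (a b b' : AdjoinRoot f) :
    B0 hf k a (b + b') = B0 hf k a b + B0 hf k a b' := by
  unfold B0
  rw [← map_add, map_add]
  congr 1
  ring

theorem B0_smul_left (hf : IsSR θ f) (k : ℕ) (x : K) (a b : AdjoinRoot f) :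
    B0 hf k (AdjoinRoot.of f x * a) b = x * B0 hf k a b := by
  unfold B0
  rw [← tau_of_mul]
  congr 1
  ring

theorem B0_smul_right (hf : IsSR θ f) (k : ℕ) (x : K) (a b : AdjoinRoot f) :
    B0 hf k a (AdjoinRoot.of f x * b) = θ x * B0 hf k a b := by
  unfold B0
  rw [← tau_of_mul, (sig hf).map_mul, sig_of]
  congr 1
  ring

theorem B0_root (hf : IsSR θ f) (k : ℕ) (a b : AdjoinRoot f) :
    B0 hf k (AdjoinRoot.root f * a) (AdjoinRoot.root f * b) = B0 hf k a b := by
  unfold B0
  rw [(sig hf).map_mul, sig_root]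
  congr 1
  calc AdjoinRoot.root f ^ k * (AdjoinRoot.root f * a) * (ainv f * sig hf b)
      = (AdjoinRoot.root f * ainv f) * (AdjoinRoot.root f ^ k * a * sig hf b) := by ring
    _ = _ := by rw [root_mul_ainv hf.2.1, one_mul]

theorem B0_swap (hθ : ∀ a, θ (θ a) = a) (hf : IsSR θ f) (k : ℕ) (hN : f.natDegree = 2 * k + 2)
    (a b : AdjoinRoot f) :
    B0 hf k b a = -(f.coeff 0)⁻¹ * θ (B0 hf k a b) := by
  unfold B0
  rw [← tau_sig hf (by omega)]
  congr 1
  rw [map_mul, map_mul, map_pow, sig_root, sig_sig hθ]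
  have : f.natDegree - 2 = k + k := by omega
  rw [this, pow_add]
  calc AdjoinRoot.root f ^ k * b * sig hf a
      = (AdjoinRoot.root f ^ k * ainv f ^ k) * (AdjoinRoot.root f ^ k * b * sig hf a) := by
        rw [root_pow_mul_ainv_pow hf.2.1, one_mul]
    _ = _ := by ring

theorem B0_nondeg (hθ : ∀ a, θ (θ a) = a) (hf : IsSR θ f) (k : ℕ) (a : AdjoinRoot f)
    (h : ∀ b, B0 hf k a b = 0) : a = 0 := by
  have h1 : AdjoinRoot.root f ^ k * a = 0 := by
    apply tau_perfect hf.1
    intro c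
    have := h (sig hf c)
    unfold B0 at this
    rw [sig_sig hθ] at this
    exact this
  calc a = (ainv f ^ k * AdjoinRoot.root f ^ k) * a := by
        rw [mul_comm (ainv f ^ k), root_pow_mul_ainv_pow hf.2.1, one_mul]
    _ = ainv f ^ k * (AdjoinRoot.root f ^ k * a) := by ring
    _ = 0 := by rw [h1, mul_zero]

theorem of_mul_eq_smul (x : K) (a : AdjoinRoot f) : AdjoinRoot.of f x * a = x • a := by
  rw [Algebra.smul_def, AdjoinRoot.algebraMap_eq]

theorem finrank_adjoinRoot (hm : f.Monic) : Module.finrank K (AdjoinRoot f) = f.natDegree := by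
  rw [(AdjoinRoot.powerBasis' hm).finrank, AdjoinRoot.powerBasis'_dim]

theorem charpoly_lmul_root (hm : f.Monic) :
    haveI := hm.finite_adjoinRoot
    (Algebra.lmul K (AdjoinRoot f) (AdjoinRoot.root f)).charpoly = f := by
  have := hm.finite_adjoinRoot
  have h1 := charpoly_leftMulMatrix (AdjoinRoot.powerBasis' hm)
  rw [Algebra.leftMulMatrix_apply, LinearMap.charpoly_toMatrix] at h1
  rw [AdjoinRoot.powerBasis'_gen] at h1
  rw [h1, AdjoinRoot.minpoly_root hm.ne_zero, hm.leadingCoeff, inv_one, C_1, mul_one]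

end Cfsg.Agent.Lib.Helper8.SelfRec
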