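import Mathlib
import Cfsg.Agent.S0755
import Cfsg.Agent.Lib.Helper8.SelfRecC
import Cfsg.Agent.Lib.Helper8.SelfRecB

/-!
# Realising self-reciprocal polynomials by unitary matrices: abstract transfer (helper8)
-/

set_option autoImplicit false
set_option linter.unusedSectionVars false

namespace Cfsg.Agent.Lib.Helper8.SUCount

open Module Matrix Polynomial Cfsg.Agent.Lib.Helper8.SelfRec

universe u

variable {K : Type u} [Field K] (σ : K →+* K)

/-- `f` is the characteristic polynomial of an `n × n` matrix which is unitary for `σ` -/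
def Real (n : ℕ) (f : K[X]) : Prop :=
  ∃ A : Matrix (Fin n) (Fin n) K, (A.map σ)ᵀ * A = 1 ∧ A.charpoly = f

theorem real_zero : Real σ 0 (1 : K[X]) := by
  refine ⟨1, ?_, ?_⟩
  · ext i; exact i.elim0
  · simp [Matrix.charpoly]

theorem Real.mul {n m : ℕ} {f g : K[X]} (hf : Real σ n f) (hg : Real σ m g) :
    Real σ (n + m) (f * g) := by
  obtain ⟨A, hA, hAf⟩ := hf
  obtain ⟨B, hB, hBg⟩ := hg
  set M : Matrix (Fin n ⊕ Fin m) (Fin n ⊕ Fin m) K := fromBlocks A 0 0 B with hM
  have hMM : (M.map σ)ᵀ * M = 1 := by
    rw [hM, fromBlocks_map, fromBlocks_transpose, fromBlocks_multiply]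
    simp only [Matrix.map_zero _ (map_zero σ), Matrix.transpose_zero, Matrix.zero_mul,
      Matrix.mul_zero, add_zero, zero_add, hA, hB, fromBlocks_one]
  refine ⟨Matrix.reindex finSumFinEquiv finSumFinEquiv M, ?_, ?_⟩
  · rw [Matrix.reindex_apply, ← Matrix.submatrix_map, Matrix.transpose_submatrix,
      Matrix.submatrix_mul_equiv, hMM, Matrix.submatrix_one_equiv]
  · rw [Matrix.charpoly_reindex, hM, Matrix.charpoly_fromBlocks_zero₁₂, hAf, hBg]

/-- an abstract Hermitian space with an isometry -/
structure IsHermIsom {V : Type u} [AddCommGroup V] [Module K V] (H : V → V → K)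
    (T : V →ₗ[K] V) : Prop where
  add_left : ∀ a a' b, H (a + a') b = H a b + H a' b
  smul_left : ∀ (c : K) a b, H (c • a) b = c * H a b
  herm : ∀ a b, H b a = σ (H a b)
  nondeg : ∀ a, (∀ b, H a b = 0) → a = 0
  isom : ∀ a b, H (T a) (T b) = H a b

variable {σ}

theorem real_of_abstract [Finite K] (hσ : σ ≠ RingHom.id K) (hσ2 : ∀ a, σ (σ a) = a)
    {V : Type u} [AddCommGroup V] [Module K V] [FiniteDimensional K V] {H : V → V → K}
    {T : V →ₗ[K] V} (h : IsHermIsom σ H T) (n : ℕ) (hn : Module.finrank K V = n) :
    Real σ n T.charpoly := by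
  subst hn
  have hadd_right : ∀ a b b', H a (b + b') = H a b + H a b' := by
    intro a b b'
    rw [h.herm (b + b') a, h.add_left, map_add, ← h.herm, ← h.herm]
  have hsmul_right : ∀ (c : K) a b, H a (c • b) = σ c * H a b := by
    intro c a b
    rw [h.herm (c • b) a, h.smul_left, map_mul, ← h.herm]
  let B : V →ₛₗ[σ] V →ₗ[K] K :=
    LinearMap.mk₂'ₛₗ σ (RingHom.id K) (fun x y => H y x)
      (fun x x' y => hadd_right y x x')
      (fun c x y => by rw [hsmul_right, smul_eq_mul])
      (fun x y y' => h.add_left y y' x)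
      (fun c x y => by rw [h.smul_left, RingHom.id_apply, smul_eq_mul])
  have hBapp : ∀ x y, B x y = H y x := fun x y => rfl
  have hS : B.IsSymm := ⟨fun x y => by rw [hBapp, hBapp, ← h.herm]⟩
  have hND : B.Nondegenerate := by
    constructor
    · intro x hx
      apply h.nondeg
      intro y
      have := hx y
      rw [hBapp, h.herm] at this
      exact (map_eq_zero σ).1 this
    · intro y hy
      apply h.nondeg
      intro x
      exact hy x
  obtain ⟨b, hb⟩ := Cfsg.Agent.S0755.result σ hσ hσ2 B hS hND
  -- the matrix of T in the orthonormal basis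
  set A : Matrix (Fin (Module.finrank K V)) (Fin (Module.finrank K V)) K :=
    LinearMap.toMatrix b b T with hAdef
  refine ⟨A, ?_, LinearMap.charpoly_toMatrix T b⟩
  have hrepr : ∀ (x : V) i, b.repr x i = H x (b i) := by
    intro x i
    have hx : x = ∑ j, b.repr x j • b j := (b.sum_repr x).symm
    conv_rhs => rw [hx]
    have : H (∑ j, b.repr x j • b j) (b i) = ∑ j, b.repr x j * H (b j) (b i) := by
      have hsum : ∀ (s : Finset (Fin (Module.finrank K V))),
          H (∑ j ∈ s, b.repr x j • b j) (b i) = ∑ j ∈ s, b.repr x j * H (b j) (b i) := by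
        intro s
        induction s using Finset.induction_on with
        | empty =>
          simp only [Finset.sum_empty]
          have := h.smul_left 0 0 (b i)
          rw [zero_smul, zero_mul] at this
          exact this
        | insert a s ha ih =>
          rw [Finset.sum_insert ha, Finset.sum_insert ha, h.add_left, h.smul_left, ih]
      exact hsum Finset.univ
    rw [this]
    have hbb : ∀ j, H (b j) (b i) = if i = j then 1 else 0 := by
      intro j
      rw [← hBapp, hb]
    simp only [hbb, mul_ite, mul_one, mul_zero, Finset.sum_ite_eq, Finset.mem_univ, if_true]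
  have hAij : ∀ i j, A i j = H (T (b j)) (b i) := by
    intro i j
    rw [hAdef, LinearMap.toMatrix_apply, hrepr]
  ext i j
  rw [Matrix.mul_apply]
  simp only [Matrix.transpose_apply, Matrix.map_apply, hAij]
  -- Σ_k σ(H (T b_i) b_k) * H (T b_j) b_k = H (T b_j) (T b_i)
  have hexp : ∀ y : V, H (T (b j)) y = ∑ k, σ (H y (b k)) * H (T (b j)) (b k) := by
    intro y
    have hy : y = ∑ k, b.repr y k • b k := (b.sum_repr y).symm
    conv_lhs => rw [hy]
    have hsum : ∀ (s : Finset (Fin (Module.finrank K V))),
        H (T (b j)) (∑ k ∈ s, b.repr y k • b k) =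
          ∑ k ∈ s, σ (b.repr y k) * H (T (b j)) (b k) := by
      intro s
      induction s using Finset.induction_on with
      | empty =>
        simp only [Finset.sum_empty]
        have := hsmul_right 0 (T (b j)) 0
        rw [zero_smul, map_zero, zero_mul] at this
        exact this
      | insert a s ha ih =>
        rw [Finset.sum_insert ha, Finset.sum_insert ha, hadd_right, hsmul_right, ih]
    rw [hsum Finset.univ]
    apply Finset.sum_congr rfl
    intro k _
    rw [hrepr]
  rw [← hexp (T (b i)), h.isom, ← hBapp, hb, Matrix.one_apply]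

end Cfsg.Agent.Lib.Helper8.SUCount
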