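import Mathlib
import Cfsg.Agent.Lib.Helper8.SUCountA

/-!
# Every self-reciprocal polynomial is the characteristic polynomial of a unitary matrix (helper8)
-/

set_option autoImplicit false
set_option linter.unusedSectionVars false

namespace Cfsg.Agent.Lib.Helper8.SUCount

open Module Matrix Polynomial Cfsg.Agent.Lib.Helper8.SelfRec

universe u

variable {K : Type u} [Field K] {σ : K →+* K}

theorem exists_not_fix' (hσ : σ ≠ RingHom.id K) : ∃ w : K, σ w ≠ w := by
  by_contra hno
  apply hσ
  apply RingHom.ext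
  intro w
  by_contra h
  exact hno ⟨w, h⟩

/-- Hilbert 90 for an involution -/
theorem exists_ratio' (hσ : σ ≠ RingHom.id K) (hσ2 : ∀ a, σ (σ a) = a) (d : K)
    (hd : d * σ d = 1) : ∃ ν : K, ν ≠ 0 ∧ σ ν = d * ν := by
  have key : ∀ w : K, σ (w + σ (d * w)) = d * (w + σ (d * w)) := by
    intro w
    rw [map_add, hσ2, map_mul, mul_add, ← mul_assoc, hd, one_mul, add_comm]
  by_cases h1 : 1 + σ d = 0
  · obtain ⟨w, hw⟩ := exists_not_fix' hσ
    refine ⟨w + σ (d * w), ?_, key w⟩
    have h2 : σ d = -1 := by linear_combination h1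
    rw [map_mul, h2]
    intro h3
    apply hw
    linear_combination -h3
  · refine ⟨1 + σ (d * 1), ?_, key 1⟩
    rw [mul_one]
    exact h1

theorem real_even [Finite K] (hσ : σ ≠ RingHom.id K) (hσ2 : ∀ a, σ (σ a) = a) {f : K[X]}
    (hf : IsSR σ f) (k : ℕ) (hN : f.natDegree = 2 * k + 2) : Real σ (2 * k + 2) f := by
  have hfin := hf.1.finite_adjoinRoot
  have h0 := hf.2.1
  have hnorm := hf.norm_coeff_zero
  have hσ0 : σ (f.coeff 0) ≠ 0 := (map_ne_zero σ).2 h0
  obtain ⟨ε, hε0, hε⟩ := exists_ratio' hσ hσ2 (-(f.coeff 0)⁻¹) (by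
    rw [map_neg, map_inv₀, neg_mul_neg, ← mul_inv, mul_comm, hnorm, inv_one])
  have hisom : IsHermIsom σ (fun a b => ε * B0 hf k a b)
      (Algebra.lmul K (AdjoinRoot f) (AdjoinRoot.root f)) := by
    refine ⟨?_, ?_, ?_, ?_, ?_⟩
    · intro a a' b
      simp only [B0_add_left, mul_add]
    · intro c a b
      rw [← of_mul_eq_smul, B0_smul_left]
      ring
    · intro a b
      rw [B0_swap hσ2 hf k hN, map_mul, hε]
      ring
    · intro a ha
      apply B0_nondeg hσ2 hf k a
      intro b
      have := ha b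
      exact (mul_eq_zero.1 this).resolve_left hε0
    · intro a b
      congr 1
      exact B0_root hf k a b
  have := real_of_abstract hσ hσ2 hisom (2 * k + 2) (by rw [finrank_adjoinRoot hf.1, hN])
  rw [charpoly_lmul_root hf.1] at this
  exact this

/-- the Hermitian functional attached to `ε` -/
noncomputable def ell {f : K[X]} (hf : IsSR σ f) (ε : K) (c : AdjoinRoot f) : K :=
  ε * tau hf.1 c + σ ε * σ (tau hf.1 (sig hf c))

theorem ell_add {f : K[X]} (hf : IsSR σ f) (ε : K) (c c' : AdjoinRoot f) :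
    ell hf ε (c + c') = ell hf ε c + ell hf ε c' := by
  unfold ell
  simp only [map_add]
  ring

theorem ell_of_mul (hσ2 : ∀ a, σ (σ a) = a) {f : K[X]} (hf : IsSR σ f) (ε x : K)
    (c : AdjoinRoot f) : ell hf ε (AdjoinRoot.of f x * c) = x * ell hf ε c := by
  unfold ell
  rw [tau_of_mul, (sig hf).map_mul, sig_of, tau_of_mul, map_mul, hσ2]
  ring

theorem ell_sig (hσ2 : ∀ a, σ (σ a) = a) {f : K[X]} (hf : IsSR σ f) (ε : K)
    (c : AdjoinRoot f) : ell hf ε (sig hf c) = σ (ell hf ε c) := by
  unfold ell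
  rw [sig_sig hσ2, map_add, map_mul, map_mul, hσ2, hσ2]
  ring

theorem real_irred [Finite K] (hσ : σ ≠ RingHom.id K) (hσ2 : ∀ a, σ (σ a) = a) {h : K[X]}
    (hh : IsSR σ h) (hirr : Irreducible h) : Real σ h.natDegree h := by
  have hfin := hh.1.finite_adjoinRoot
  have : Fact (Irreducible h) := ⟨hirr⟩
  have hNpos : 0 < h.natDegree := Irreducible.natDegree_pos hirr
  -- a value where some `ell ε` does not vanish
  obtain ⟨ε, c₁, hc₁⟩ : ∃ (ε : K) (c₁ : AdjoinRoot h), ell hh ε c₁ ≠ 0 := by
    set c₀ : AdjoinRoot h := AdjoinRoot.root h ^ (h.natDegree - 1) with hc₀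
    have ht : tau hh.1 c₀ = 1 := by
      rw [hc₀, tau_root_pow hh.1 _ (by omega), if_pos rfl]
    by_cases h1 : ell hh 1 c₀ = 0
    · obtain ⟨w, hw⟩ := exists_not_fix' hσ
      refine ⟨w, c₀, ?_⟩
      unfold ell at h1 ⊢
      rw [ht, map_one, one_mul, one_mul] at h1
      rw [ht, mul_one]
      have : σ (tau hh.1 (sig hh c₀)) = -1 := by linear_combination h1
      rw [this]
      intro h3
      apply hw
      linear_combination -h3
    · exact ⟨1, c₀, h1⟩
  have hisom : IsHermIsom σ (fun a b => ell hh ε (a * sig hh b))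
      (Algebra.lmul K (AdjoinRoot h) (AdjoinRoot.root h)) := by
    refine ⟨?_, ?_, ?_, ?_, ?_⟩
    · intro a a' b
      rw [add_mul, ell_add]
    · intro c a b
      rw [← of_mul_eq_smul, mul_assoc, ell_of_mul hσ2]
    · intro a b
      rw [← ell_sig hσ2, (sig hh).map_mul, sig_sig hσ2, mul_comm]
    · intro a ha
      by_contra ha0
      apply hc₁
      have := ha (sig hh (a⁻¹ * c₁))
      rw [sig_sig hσ2, ← mul_assoc, mul_inv_cancel₀ ha0, one_mul] at this
      exact this
    · intro a b
      congr 1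
      change AdjoinRoot.root h * a * sig hh (AdjoinRoot.root h * b) = _
      rw [(sig hh).map_mul, sig_root]
      calc AdjoinRoot.root h * a * (ainv h * sig hh b)
          = (AdjoinRoot.root h * ainv h) * (a * sig hh b) := by ring
        _ = _ := by rw [root_mul_ainv hh.2.1, one_mul]
  have := real_of_abstract hσ hσ2 hisom h.natDegree (finrank_adjoinRoot hh.1)
  rw [charpoly_lmul_root hh.1] at this
  exact this

theorem real_all [Finite K] (hσ : σ ≠ RingHom.id K) (hσ2 : ∀ a, σ (σ a) = a) :
    ∀ (N : ℕ) (f : K[X]), IsSR σ f → f.natDegree = N → Real σ N f := by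
  intro N
  induction N using Nat.strong_induction_on with
  | _ N ih =>
    intro f hf hN
    rcases Nat.eq_zero_or_pos N with hN0 | hNpos
    · subst hN0
      have : f = 1 := eq_one_of_monic_natDegree_zero hf.1 hN
      rw [this]
      exact real_zero σ
    have hnu : ¬IsUnit f := not_isUnit_of_natDegree_pos f (by omega)
    obtain ⟨h, hm, hirr, hdvd⟩ := exists_monic_irreducible_factor f hnu
    have hdeg_pos : 0 < h.natDegree := Irreducible.natDegree_pos hirr
    have h0 : h.coeff 0 ≠ 0 := by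
      obtain ⟨g, hg⟩ := hdvd
      exact (coeff_zero_mul_ne (hg ▸ hf.2.1)).1
    -- the self-reciprocal factor `P` containing `h`
    obtain ⟨P, hPsr, hPdvd, hPreal, hPpos⟩ : ∃ P : K[X], IsSR σ P ∧ P ∣ f ∧
        Real σ P.natDegree P ∧ 0 < P.natDegree := by
      by_cases hrc : rc σ h = h
      · have hsr := isSR_of_rc_eq σ hm h0 hrc
        exact ⟨h, hsr, hdvd, real_irred hσ hσ2 hsr hirr, hdeg_pos⟩
      · have hrcirr := rc_irreducible σ hσ2 h0 hirr
        have hrcm := rc_monic σ h0
        have hcop : IsCoprime h (rc σ h) := by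
          rw [hirr.coprime_iff_not_dvd]
          intro hd
          apply hrc
          exact (eq_of_monic_of_associated hm hrcm (hirr.associated_of_dvd hrcirr hd)).symm
        have hPdvd : h * rc σ h ∣ f := hcop.mul_dvd hdvd (rc_dvd σ hf hdvd)
        have hsr := isSR_mul_rc σ hσ2 hm h0
        have hdeg : (h * rc σ h).natDegree = 2 * (h.natDegree - 1) + 2 := by
          rw [natDegree_mul hm.ne_zero hrcm.ne_zero]
          unfold rc
          rw [natDegree_C_mul (inv_ne_zero ((map_ne_zero σ).2 h0)), natDegree_rv σ h h0]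
          omega
        refine ⟨h * rc σ h, hsr, hPdvd, ?_, by omega⟩
        rw [hdeg]
        exact real_even hσ hσ2 hsr _ hdeg
    obtain ⟨g, hg⟩ := hPdvd
    have hgsr : IsSR σ g := IsSR.of_mul σ hPsr (hg ▸ hf)
    have hdeg : P.natDegree + g.natDegree = N := by
      rw [← hN, hg, natDegree_mul hPsr.1.ne_zero hgsr.1.ne_zero]
    have hgreal := ih g.natDegree (by omega) g hgsr rfl
    have := hPreal.mul σ hgreal
    rw [hdeg, ← hg] at this
    exact this

end Cfsg.Agent.Lib.Helper8.SUCount
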