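import Mathlib
import Cfsg.Agent.H9.SemisimpleConj

/-!
# Semisimple isometries of alternating forms: basics, gluing, peeling (helper8)

`IsSpOp B A`: `A` is a semisimple isometry of the nondegenerate alternating form `B`.
`Conj B B' A A'`: there is a linear isometry `(V, B) → (V', B')` intertwining `A` and `A'`.
`peel`: the induction step of the Witt-type argument.
-/

set_option autoImplicit false
set_option linter.unusedSectionVars false

namespace Cfsg.Agent.Lib.Helper8.SpSS

open Module Cfsg.Agent.H9.IrredOp Cfsg.Agent.H9.SemisimpleConj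

universe u v w

variable {K : Type v} [Field K]

/-- a semisimple isometry of a nondegenerate alternating form -/
structure IsSpOp {V : Type*} [AddCommGroup V] [Module K V] (B : LinearMap.BilinForm K V)
    (A : Module.End K V) : Prop where
  alt : B.IsAlt
  sep : ∀ x, (∀ y, B x y = 0) → x = 0
  inv : ∀ x y, B (A x) (A y) = B x y
  ss : A.IsSemisimple

/-- an isometry intertwining the two operators -/
def Conj {V V' : Type*} [AddCommGroup V] [Module K V] [AddCommGroup V'] [Module K V']
    (B : LinearMap.BilinForm K V) (B' : LinearMap.BilinForm K V')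
    (A : Module.End K V) (A' : Module.End K V') : Prop :=
  ∃ φ : V ≃ₗ[K] V', (∀ x, φ (A x) = A' (φ x)) ∧ ∀ x y, B' (φ x) (φ y) = B x y

theorem Conj.symm {V V' : Type*} [AddCommGroup V] [Module K V] [AddCommGroup V'] [Module K V']
    {B : LinearMap.BilinForm K V} {B' : LinearMap.BilinForm K V'}
    {A : Module.End K V} {A' : Module.End K V'} (h : Conj B B' A A') : Conj B' B A' A := by
  obtain ⟨φ, h1, h2⟩ := h
  refine ⟨φ.symm, fun x => ?_, fun x y => ?_⟩
  · apply φ.injective
    rw [h1, LinearEquiv.apply_symm_apply, LinearEquiv.apply_symm_apply]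
  · rw [← h2, LinearEquiv.apply_symm_apply, LinearEquiv.apply_symm_apply]

section Basic

variable {V : Type*} [AddCommGroup V] [Module K V] [FiniteDimensional K V]
  {B : LinearMap.BilinForm K V} {A : Module.End K V}

theorem IsSpOp.swap (h : IsSpOp B A) (x y : V) : B y x = - B x y := (h.alt.neg_eq x y).symm

theorem IsSpOp.nondeg (h : IsSpOp B A) : B.Nondegenerate :=
  LinearMap.BilinForm.Nondegenerate.ofSeparatingLeft h.sep

theorem IsSpOp.injective (h : IsSpOp B A) : Function.Injective A := by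
  rw [← LinearMap.ker_eq_bot, LinearMap.ker_eq_bot']
  intro x hx
  apply h.sep
  intro y
  rw [← h.inv x y, hx, map_zero, LinearMap.zero_apply]

theorem IsSpOp.surjective (h : IsSpOp B A) : Function.Surjective A :=
  LinearMap.injective_iff_surjective.1 h.injective

theorem map_eq_of_invt (hinj : Function.Injective A) {W : Submodule K V}
    (hW : W ≤ W.comap A) : W.map A = W := by
  apply Submodule.eq_of_le_of_finrank_eq (Submodule.map_le_iff_le_comap.2 hW)
  exact (Submodule.equivMapOfInjective A hinj W).finrank_eq.symm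

theorem IsSpOp.orth_invt (h : IsSpOp B A) {W : Submodule K V} (hW : W ≤ W.comap A) :
    B.orthogonal W ≤ (B.orthogonal W).comap A := by
  intro y hy
  rw [Submodule.mem_comap, LinearMap.BilinForm.mem_orthogonal_iff]
  intro w hw
  have hw2 : w ∈ W.map A := by rw [map_eq_of_invt h.injective hW]; exact hw
  obtain ⟨w', hw', rfl⟩ := hw2
  rw [h.inv]
  exact hy w' hw'

theorem IsSpOp.isCompl (h : IsSpOp B A) {P : Submodule K V}
    (hd : Disjoint P (B.orthogonal P)) : IsCompl P (B.orthogonal P) :=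
  (LinearMap.BilinForm.isCompl_orthogonal_iff_disjoint h.alt.isRefl).2 hd

/-- the restriction to the orthogonal complement of a nondegenerate invariant subspace -/
theorem IsSpOp.restrict_orth (h : IsSpOp B A) {P : Submodule K V} (hP : P ≤ P.comap A)
    (hd : Disjoint P (B.orthogonal P)) :
    IsSpOp (B.restrict (B.orthogonal P)) (A.restrict (h.orth_invt hP)) := by
  refine ⟨fun x => ?_, fun x hx => ?_, fun x y => ?_, ?_⟩
  · exact h.alt.self_eq_zero (x : V)
  · have h1 : (x : V) ∈ B.orthogonal (B.orthogonal P) := by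
      rw [LinearMap.BilinForm.mem_orthogonal_iff]
      intro y hy
      rw [h.swap, neg_eq_zero]
      exact hx ⟨y, hy⟩
    rw [LinearMap.BilinForm.orthogonal_orthogonal h.nondeg h.alt.isRefl] at h1
    have h2 : (x : V) ∈ P ⊓ B.orthogonal P := ⟨h1, x.2⟩
    rw [hd.eq_bot, Submodule.mem_bot] at h2
    exact Subtype.ext h2
  · exact h.inv (x : V) (y : V)
  · exact h.ss.restrict ((Module.End.mem_invtSubmodule A).2 (h.orth_invt hP))

end Basic

section Glue

variable {V V' : Type*} [AddCommGroup V] [Module K V] [AddCommGroup V'] [Module K V']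

/-- glue equivalences of complementary pieces -/
noncomputable def glue {P Q : Submodule K V} {P' Q' : Submodule K V'} (hc : IsCompl P Q)
    (hc' : IsCompl P' Q') (φ₁ : P ≃ₗ[K] P') (φ₂ : Q ≃ₗ[K] Q') : V ≃ₗ[K] V' :=
  (Submodule.prodEquivOfIsCompl P Q hc).symm ≪≫ₗ (φ₁.prodCongr φ₂) ≪≫ₗ
    Submodule.prodEquivOfIsCompl P' Q' hc'

theorem glue_apply {P Q : Submodule K V} {P' Q' : Submodule K V'} (hc : IsCompl P Q)
    (hc' : IsCompl P' Q') (φ₁ : P ≃ₗ[K] P') (φ₂ : Q ≃ₗ[K] Q') (p : P) (q : Q) :
    glue hc hc' φ₁ φ₂ ((p : V) + (q : V)) = (φ₁ p : V') + (φ₂ q : V') := by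
  have h1 : (Submodule.prodEquivOfIsCompl P Q hc).symm ((p : V) + (q : V)) = (p, q) := by
    rw [LinearEquiv.symm_apply_eq, Submodule.coe_prodEquivOfIsCompl']
  unfold glue
  rw [LinearEquiv.trans_apply, LinearEquiv.trans_apply, h1, LinearEquiv.prodCongr_apply,
    Submodule.coe_prodEquivOfIsCompl']

theorem exists_decomp {P Q : Submodule K V} (hc : IsCompl P Q) (x : V) :
    ∃ (p : P) (q : Q), x = (p : V) + (q : V) := by
  have hx : x ∈ P ⊔ Q := by rw [hc.sup_eq_top]; exact Submodule.mem_top
  obtain ⟨p, hp, q, hq, rfl⟩ := Submodule.mem_sup.1 hx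
  exact ⟨⟨p, hp⟩, ⟨q, hq⟩, rfl⟩

theorem glue_conj [FiniteDimensional K V] [FiniteDimensional K V']
    {B : LinearMap.BilinForm K V} {B' : LinearMap.BilinForm K V'}
    {A : Module.End K V} {A' : Module.End K V'} (h : IsSpOp B A) (h' : IsSpOp B' A')
    {P : Submodule K V} {P' : Submodule K V'} (hP : P ≤ P.comap A)
    (hd : Disjoint P (B.orthogonal P)) (hd' : Disjoint P' (B'.orthogonal P'))
    (φ₁ : P ≃ₗ[K] P') (φ₂ : B.orthogonal P ≃ₗ[K] B'.orthogonal P')
    (h1 : ∀ p : P, (φ₁ (A.restrict hP p) : V') = A' (φ₁ p))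
    (h1' : ∀ p q : P, B' (φ₁ p) (φ₁ q) = B p q)
    (h2 : ∀ p, (φ₂ (A.restrict (h.orth_invt hP) p) : V') = A' (φ₂ p))
    (h2' : ∀ p q : B.orthogonal P, B' (φ₂ p) (φ₂ q) = B p q) : Conj B B' A A' := by
  have hc := h.isCompl hd
  have hc' := h'.isCompl hd'
  refine ⟨glue hc hc' φ₁ φ₂, fun x => ?_, fun x y => ?_⟩
  · obtain ⟨p, q, rfl⟩ := exists_decomp hc x
    have e1 : A ((p : V) + (q : V)) =
        ((A.restrict hP p : P) : V) + ((A.restrict (h.orth_invt hP) q : B.orthogonal P) : V) := by
      rw [map_add]; rfl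
    rw [e1, glue_apply, glue_apply, map_add, h1, h2]
  · obtain ⟨p, q, rfl⟩ := exists_decomp hc x
    obtain ⟨p₁, q₁, rfl⟩ := exists_decomp hc y
    rw [glue_apply, glue_apply]
    have c1 : ∀ (a : P') (b : B'.orthogonal P'), B' (a : V') (b : V') = 0 := fun a b =>
      (LinearMap.BilinForm.mem_orthogonal_iff.1 b.2) a a.2
    have c2 : ∀ (a : P') (b : B'.orthogonal P'), B' (b : V') (a : V') = 0 := fun a b => by
      rw [h'.swap, c1, neg_zero]
    have d1 : ∀ (a : P) (b : B.orthogonal P), B (a : V) (b : V) = 0 := fun a b =>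
      (LinearMap.BilinForm.mem_orthogonal_iff.1 b.2) a a.2
    have d2 : ∀ (a : P) (b : B.orthogonal P), B (b : V) (a : V) = 0 := fun a b => by
      rw [h.swap, d1, neg_zero]
    simp only [map_add, LinearMap.add_apply]
    rw [c1, c2, d1, d2, h1', h2']

end Glue

/-- the induction hypothesis of the main theorem -/
def IH (K : Type v) [Field K] (n : ℕ) : Prop :=
  ∀ m < n, ∀ (V V' : Type u) [AddCommGroup V] [Module K V] [FiniteDimensional K V]
    [AddCommGroup V'] [Module K V'] [FiniteDimensional K V']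
    (B : LinearMap.BilinForm K V) (B' : LinearMap.BilinForm K V')
    (A : Module.End K V) (A' : Module.End K V'), finrank K V = m → IsSpOp B A → IsSpOp B' A' →
    A.charpoly = A'.charpoly → Conj B B' A A'

/-- peeling off a common nondegenerate invariant piece -/
theorem peel {n : ℕ} (ih : IH.{u} K n) {V V' : Type u} [AddCommGroup V] [Module K V]
    [FiniteDimensional K V] [AddCommGroup V'] [Module K V'] [FiniteDimensional K V']
    {B : LinearMap.BilinForm K V} {B' : LinearMap.BilinForm K V'}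
    {A : Module.End K V} {A' : Module.End K V'} (hn : finrank K V = n) (h : IsSpOp B A)
    (h' : IsSpOp B' A') (hc : A.charpoly = A'.charpoly)
    {X : Type w} [AddCommGroup X] [Module K X] [FiniteDimensional K X] [Nontrivial X]
    (aX : Module.End K X) (j : X →ₗ[K] V) (j' : X →ₗ[K] V')
    (hj : ∀ x, A (j x) = j (aX x)) (hj' : ∀ x, A' (j' x) = j' (aX x))
    (hiso : ∀ x y, B (j x) (j y) = B' (j' x) (j' y))
    (hnd : ∀ x, (∀ y, B (j x) (j y) = 0) → x = 0) : Conj B B' A A' := by
  have hnd' : ∀ x, (∀ y, B' (j' x) (j' y) = 0) → x = 0 := fun x hx =>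
    hnd x (fun y => by rw [hiso]; exact hx y)
  have hjinj : Function.Injective j := by
    rw [← LinearMap.ker_eq_bot, LinearMap.ker_eq_bot']
    intro x hx
    apply hnd
    intro y
    rw [hx, map_zero, LinearMap.zero_apply]
  have hjinj' : Function.Injective j' := by
    rw [← LinearMap.ker_eq_bot, LinearMap.ker_eq_bot']
    intro x hx
    apply hnd'
    intro y
    rw [hx, map_zero, LinearMap.zero_apply]
  set P := LinearMap.range j with hPdef
  set P' := LinearMap.range j' with hP'def
  have hP : P ≤ P.comap A := by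
    rintro _ ⟨x, rfl⟩
    exact ⟨aX x, (hj x).symm⟩
  have hP' : P' ≤ P'.comap A' := by
    rintro _ ⟨x, rfl⟩
    exact ⟨aX x, (hj' x).symm⟩
  have hd : Disjoint P (B.orthogonal P) := by
    rw [Submodule.disjoint_def]
    rintro _ ⟨x, rfl⟩ hv
    have hx0 : x = 0 := hnd x (fun y => by
      rw [h.swap, neg_eq_zero]
      exact (LinearMap.BilinForm.mem_orthogonal_iff.1 hv) (j y) ⟨y, rfl⟩)
    rw [hx0, map_zero]
  have hd' : Disjoint P' (B'.orthogonal P') := by
    rw [Submodule.disjoint_def]
    rintro _ ⟨x, rfl⟩ hv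
    have hx0 : x = 0 := hnd' x (fun y => by
      rw [h'.swap, neg_eq_zero]
      exact (LinearMap.BilinForm.mem_orthogonal_iff.1 hv) (j' y) ⟨y, rfl⟩)
    rw [hx0, map_zero]
  let e₁ : X ≃ₗ[K] P := LinearEquiv.ofInjective j hjinj
  let e₁' : X ≃ₗ[K] P' := LinearEquiv.ofInjective j' hjinj'
  have he₁ : ∀ x, (e₁ x : V) = j x := fun x => rfl
  have he₁' : ∀ x, (e₁' x : V') = j' x := fun x => rfl
  let φ₁ : P ≃ₗ[K] P' := e₁.symm ≪≫ₗ e₁'
  have hφ₁ : ∀ x, φ₁ (e₁ x) = e₁' x := fun x => by
    change e₁' (e₁.symm (e₁ x)) = e₁' x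
    rw [LinearEquiv.symm_apply_apply]
  have hcP : (A.restrict hP).charpoly = aX.charpoly :=
    charpoly_eq_of_equiv aX (A.restrict hP) e₁ (fun v => Subtype.ext (hj v))
  have hcP' : (A'.restrict hP').charpoly = aX.charpoly :=
    charpoly_eq_of_equiv aX (A'.restrict hP') e₁' (fun v => Subtype.ext (hj' v))
  have hsplit : A.charpoly =
      (A.restrict hP).charpoly * (A.restrict (h.orth_invt hP)).charpoly :=
    split_charpoly (Submodule.prodEquivOfIsCompl P _ (h.isCompl hd)) (by
      rintro ⟨p, q⟩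
      rw [LinearMap.prodMap_apply, Submodule.coe_prodEquivOfIsCompl',
        Submodule.coe_prodEquivOfIsCompl', map_add]
      rfl)
  have hsplit' : A'.charpoly =
      (A'.restrict hP').charpoly * (A'.restrict (h'.orth_invt hP')).charpoly :=
    split_charpoly (Submodule.prodEquivOfIsCompl P' _ (h'.isCompl hd')) (by
      rintro ⟨p, q⟩
      rw [LinearMap.prodMap_apply, Submodule.coe_prodEquivOfIsCompl',
        Submodule.coe_prodEquivOfIsCompl', map_add]
      rfl)
  have hcq : (A.restrict (h.orth_invt hP)).charpoly =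
      (A'.restrict (h'.orth_invt hP')).charpoly := by
    have h3 : aX.charpoly * (A.restrict (h.orth_invt hP)).charpoly =
        aX.charpoly * (A'.restrict (h'.orth_invt hP')).charpoly := by
      rw [← hcP, ← hsplit, hc, hsplit', hcP', hcP]
    exact mul_left_cancel₀ (LinearMap.charpoly_monic aX).ne_zero h3
  have hfr : finrank K P + finrank K (B.orthogonal P) = finrank K V :=
    Submodule.finrank_add_eq_of_isCompl (h.isCompl hd)
  have hPpos : 0 < finrank K P := by
    rw [← e₁.finrank_eq]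
    exact Module.finrank_pos
  obtain ⟨φ₂, h2, h2'⟩ := ih (finrank K (B.orthogonal P)) (by omega) (B.orthogonal P)
    (B'.orthogonal P') (B.restrict _) (B'.restrict _) (A.restrict (h.orth_invt hP))
    (A'.restrict (h'.orth_invt hP')) rfl (h.restrict_orth hP hd) (h'.restrict_orth hP' hd') hcq
  refine glue_conj h h' hP hd hd' φ₁ φ₂ ?_ ?_ ?_ ?_
  · intro p
    obtain ⟨x, rfl⟩ := e₁.surjective p
    have e2 : A.restrict hP (e₁ x) = e₁ (aX x) := Subtype.ext (hj x)
    rw [e2, hφ₁, hφ₁, he₁', he₁', hj']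
  · intro p q
    obtain ⟨x, rfl⟩ := e₁.surjective p
    obtain ⟨y, rfl⟩ := e₁.surjective q
    rw [hφ₁, hφ₁, he₁', he₁', he₁, he₁, hiso]
  · intro p
    have := congrArg Subtype.val (h2 p)
    exact this
  · intro p q
    exact h2' p q

end Cfsg.Agent.Lib.Helper8.SpSS
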