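import Mathlib
import Cfsg.Agent.Lib.Helper8.UnitaryC
import Cfsg.Agent.Lib.Helper8.SpSSA

/-!
# Orthogonal complements for a nondegenerate unitary form on `F^n` (helper8)
-/

set_option autoImplicit false
set_option linter.unusedSectionVars false

namespace Cfsg.Agent.Lib.Helper8.SUSS

open Module Cfsg.Agent.Lib.Helper8.Unitary

variable {n : ℕ} {F : Type*} [Field F] {σ : F ≃+* F} {f : (Fin n → F) → (Fin n → F) → F}
variable (hf : Cfsg.Geo.IsUnitaryForm σ f)

/-- the orthogonal complement -/
def perp (S : Submodule F (Fin n → F)) : Submodule F (Fin n → F) where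
  carrier := {x | ∀ y ∈ S, f x y = 0}
  add_mem' := by
    intro a b ha hb y hy
    rw [hf.add_left, ha y hy, hb y hy, add_zero]
  zero_mem' := by
    intro y _
    exact f_zero_left hf y
  smul_mem' := by
    intro c x hx y hy
    rw [hf.smul_left, hx y hy, mul_zero]

theorem mem_perp (S : Submodule F (Fin n → F)) (x : Fin n → F) :
    x ∈ perp hf S ↔ ∀ y ∈ S, f x y = 0 := Iff.rfl

theorem mem_perp' (S : Submodule F (Fin n → F)) (x : Fin n → F) :
    x ∈ perp hf S ↔ ∀ y ∈ S, f y x = 0 :=
  ⟨fun h y hy => f_swap_eq_zero hf _ _ (h y hy), fun h y hy => f_swap_eq_zero hf _ _ (h y hy)⟩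

theorem perp_antitone {S T : Submodule F (Fin n → F)} (h : S ≤ T) : perp hf T ≤ perp hf S :=
  fun _ hx y hy => hx y (h hy)

theorem le_perp_perp (S : Submodule F (Fin n → F)) : S ≤ perp hf (perp hf S) :=
  fun y hy x hx => f_swap_eq_zero hf _ _ (hx y hy)

theorem perp_sup (S T : Submodule F (Fin n → F)) :
    perp hf (S ⊔ T) = perp hf S ⊓ perp hf T := by
  apply le_antisymm
  · exact le_inf (perp_antitone hf le_sup_left) (perp_antitone hf le_sup_right)
  · rintro x ⟨hx1, hx2⟩ y hy
    obtain ⟨s, hs, t, ht, rfl⟩ := Submodule.mem_sup.1 hy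
    rw [f_add_right hf, hx1 s hs, hx2 t ht, add_zero]

theorem perp_top : perp hf (⊤ : Submodule F (Fin n → F)) = ⊥ := by
  rw [Submodule.eq_bot_iff]
  intro x hx
  apply eq_zero_of_forall hf
  intro y
  exact f_swap_eq_zero hf _ _ (hx y Submodule.mem_top)

theorem finrank_perp (S : Submodule F (Fin n → F)) :
    finrank F (perp hf S) + finrank F S = n := by
  set k := finrank F S with hk
  let b := Module.finBasis F S
  let y : Fin k → Fin n → F := fun i => (b i : Fin n → F)
  have hy : LinearIndependent F y := by
    have := b.linearIndependent.map' S.subtype (Submodule.ker_subtype S)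
    exact this
  have hsurj : LinearMap.range (evalLin hf y) = ⊤ := by
    rw [eq_top_iff]
    intro a _
    obtain ⟨x, hx⟩ := exists_dual hf hf.involutive y hy a
    exact ⟨x, funext hx⟩
  have hker : LinearMap.ker (evalLin hf y) = perp hf S := by
    ext x
    rw [LinearMap.mem_ker, mem_perp]
    constructor
    · intro hx z hz
      have h1 : z = ∑ i, (b.repr ⟨z, hz⟩ i) • y i := by
        have h2 := b.sum_repr ⟨z, hz⟩
        have h3 := congrArg (fun w : S => (w : Fin n → F)) h2
        simp only [Submodule.coe_sum, Submodule.coe_smul] at h3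
        exact h3.symm
      rw [h1, f_sum_right hf]
      apply Finset.sum_eq_zero
      intro i _
      rw [f_smul_right hf]
      have h4 := congrFun hx i
      rw [evalLin_apply] at h4
      rw [h4]
      simp
    · intro hx
      funext i
      rw [evalLin_apply]
      exact hx _ (b i).2
  have h1 := LinearMap.finrank_range_add_finrank_ker (evalLin hf y)
  rw [hsurj, finrank_top, Module.finrank_fintype_fun_eq_card, Module.finrank_fintype_fun_eq_card,
    Fintype.card_fin, Fintype.card_fin, hker] at h1
  omega

theorem perp_perp (S : Submodule F (Fin n → F)) : perp hf (perp hf S) = S := by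
  symm
  apply Submodule.eq_of_le_of_finrank_eq (le_perp_perp hf S)
  have h1 := finrank_perp hf S
  have h2 := finrank_perp hf (perp hf S)
  omega

theorem perp_invt {E : Module.End F (Fin n → F)} (hE : ∀ x y, f (E x) (E y) = f x y)
    {S : Submodule F (Fin n → F)} (hS : S ≤ S.comap E) : perp hf S ≤ (perp hf S).comap E := by
  have hinj : Function.Injective E := by
    rw [← LinearMap.ker_eq_bot, LinearMap.ker_eq_bot']
    intro x hx
    apply eq_zero_of_forall hf
    intro y
    apply f_swap_eq_zero hf
    rw [← hE, hx]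
    exact f_zero_left hf _
  intro x hx
  rw [Submodule.mem_comap, mem_perp]
  intro y hy
  have hy2 : y ∈ S.map E := by
    rw [Cfsg.Agent.Lib.Helper8.SpSS.map_eq_of_invt hinj hS]
    exact hy
  obtain ⟨y', hy', rfl⟩ := hy2
  rw [hE]
  exact hx y' hy'

/-- a subspace meeting its orthogonal trivially is complemented by it -/
theorem isCompl_perp {S : Submodule F (Fin n → F)} (hd : S ⊓ perp hf S = ⊥) :
    IsCompl S (perp hf S) := by
  refine IsCompl.of_eq hd ?_
  apply Submodule.eq_top_of_disjoint
  · rw [Module.finrank_fintype_fun_eq_card, Fintype.card_fin]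
    have := finrank_perp hf S
    omega
  · exact disjoint_iff.2 hd

end Cfsg.Agent.Lib.Helper8.SUSS
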