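import Mathlib
import Cfsg.Agent.Lib.Helper8.SUSSA
import Cfsg.Agent.H9.SemisimpleConj

/-!
# Semisimple isometries of a unitary form: an irreducible invariant subspace with a normal
invariant complement (helper8)
-/

set_option autoImplicit false
set_option linter.unusedSectionVars false

namespace Cfsg.Agent.Lib.Helper8.SUSS

open Module Cfsg.Agent.Lib.Helper8.Unitary Cfsg.Agent.H9.IrredOp Cfsg.Agent.H9.SemisimpleConj

section Lattice

variable {K : Type*} [Field K] {V : Type*} [AddCommGroup V] [Module K V] [FiniteDimensional K V]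
  {E : Module.End K V}

theorem irred_sub_of_irred {W : Submodule K V} {hW : W ≤ W.comap E}
    (hirr : Irred (E.restrict hW)) (S : Submodule K V) (hSW : S ≤ W) (hS : S ≤ S.comap E) :
    S = ⊥ ∨ S = W := by
  set S' : Submodule K W := S.comap W.subtype with hS'
  have hS'inv : S' ≤ S'.comap (E.restrict hW) := by
    intro w hw
    rw [Submodule.mem_comap, hS', Submodule.mem_comap]
    exact hS hw
  rcases hirr.2 S' hS'inv with h | h
  · left
    rw [Submodule.eq_bot_iff]
    intro x hx
    have h1 : (⟨x, hSW hx⟩ : W) ∈ S' := hx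
    rw [h, Submodule.mem_bot] at h1
    exact congrArg Subtype.val h1
  · right
    apply le_antisymm hSW
    intro x hx
    have h1 : (⟨x, hx⟩ : W) ∈ S' := by rw [h]; exact Submodule.mem_top
    exact h1

theorem irred_of_irred_sub {W : Submodule K V} (hW : W ≤ W.comap E) (hne : W ≠ ⊥)
    (h : ∀ S : Submodule K V, S ≤ W → S ≤ S.comap E → S = ⊥ ∨ S = W) :
    Irred (E.restrict hW) := by
  refine ⟨Submodule.nontrivial_iff_ne_bot.2 hne, ?_⟩
  intro U hU
  have h1 : U.map W.subtype ≤ (U.map W.subtype).comap E := by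
    rintro _ ⟨u, hu, rfl⟩
    rw [Submodule.mem_comap]
    exact ⟨E.restrict hW u, hU hu, rfl⟩
  rcases h _ (Submodule.map_subtype_le W U) h1 with h2 | h2
  · left
    rw [Submodule.eq_bot_iff]
    intro u hu
    have h3 : W.subtype u ∈ U.map W.subtype := ⟨u, hu, rfl⟩
    rw [h2, Submodule.mem_bot] at h3
    exact Subtype.ext h3
  · right
    rw [eq_top_iff]
    intro w _
    have h3 : (w : V) ∈ U.map W.subtype := by rw [h2]; exact w.2
    obtain ⟨u, hu, hu'⟩ := h3
    have h4 : u = w := Subtype.ext hu'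
    rw [← h4]
    exact hu

end Lattice

section Split

variable {n : ℕ} {F : Type*} [Field F] {σ : F ≃+* F} {f : (Fin n → F) → (Fin n → F) → F}
variable (hf : Cfsg.Geo.IsUnitaryForm σ f)

/-- the partner of an irreducible invariant subspace is irreducible -/
theorem partner_irred {E : Module.End F (Fin n → F)} (hE : ∀ x y, f (E x) (E y) = f x y)
    {W U : Submodule F (Fin n → F)} (hW : W ≤ W.comap E) (hirr : Irred (E.restrict hW))
    (hU : U ≤ U.comap E) (hc : IsCompl (perp hf W) U) : Irred (E.restrict hU) := by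
  have hWne : W ≠ ⊥ := Submodule.nontrivial_iff_ne_bot.1 hirr.1
  have hWpos : 0 < finrank F W := by
    have := hirr.1
    exact Module.finrank_pos
  have hn : finrank F (Fin n → F) = n := by
    rw [Module.finrank_fintype_fun_eq_card, Fintype.card_fin]
  have hUdim : finrank F U = finrank F W := by
    have h1 := Submodule.finrank_add_eq_of_isCompl hc
    have h2 := finrank_perp hf W
    omega
  have hUne : U ≠ ⊥ := by
    intro h0
    rw [h0, finrank_bot] at hUdim
    omega
  apply irred_of_irred_sub hU hUne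
  intro S hSU hS
  by_cases h0 : S = ⊥
  · left; exact h0
  right
  have hR : W ⊓ perp hf S ≤ (W ⊓ perp hf S).comap E := by
    intro x hx
    exact ⟨hW hx.1, perp_invt hf hE hS hx.2⟩
  rcases irred_sub_of_irred hirr _ inf_le_left hR with h1 | h1
  · have hd1 := Submodule.finrank_sup_add_finrank_inf_eq W (perp hf S)
    rw [h1, finrank_bot, add_zero] at hd1
    have hd2 := finrank_perp hf S
    have hd3 : finrank F ↥(W ⊔ perp hf S) ≤ finrank F (Fin n → F) := Submodule.finrank_le _
    have hd4 : finrank F S ≤ finrank F U := Submodule.finrank_mono hSU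
    exact Submodule.eq_of_le_of_finrank_le hSU (by omega)
  · exfalso
    apply h0
    rw [Submodule.eq_bot_iff]
    intro v hv
    have h2 : W ≤ perp hf S := by
      rw [← h1]
      exact inf_le_right
    have h3 : v ∈ perp hf W := by
      rw [mem_perp']
      intro w hw
      exact h2 hw v hv
    have h4 : v ∈ perp hf W ⊓ U := ⟨h3, hSU hv⟩
    rw [hc.inf_eq_bot] at h4
    exact (Submodule.mem_bot F).1 h4

/-- an irreducible invariant subspace `W` with a partner `U` such that `perp U` is a complement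
of `W`; either `U = W` or both are totally isotropic -/
theorem exists_normal_split {E : Module.End F (Fin n → F)} (hE : ∀ x y, f (E x) (E y) = f x y)
    (hss : E.IsSemisimple) (hn : 1 ≤ n) :
    ∃ (W U : Submodule F (Fin n → F)) (hW : W ≤ W.comap E), Irred (E.restrict hW) ∧
      U ≤ U.comap E ∧ IsCompl W (perp hf U) ∧ (U = W ∨ (W ≤ perp hf W ∧ U ≤ perp hf U)) := by
  have hV : Nontrivial (Fin n → F) := by
    have : Nonempty (Fin n) := ⟨⟨0, hn⟩⟩
    infer_instance
  obtain ⟨W₁, hW₁, hirr₁⟩ := exists_irred_invt E hV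
  have hR : W₁ ⊓ perp hf W₁ ≤ (W₁ ⊓ perp hf W₁).comap E := by
    intro x hx
    exact ⟨hW₁ hx.1, perp_invt hf hE hW₁ hx.2⟩
  rcases irred_sub_of_irred hirr₁ _ inf_le_left hR with h1 | h1
  · exact ⟨W₁, W₁, hW₁, hirr₁, hW₁, isCompl_perp hf h1, Or.inl rfl⟩
  have hti₁ : W₁ ≤ perp hf W₁ := by
    calc W₁ = W₁ ⊓ perp hf W₁ := h1.symm
      _ ≤ perp hf W₁ := inf_le_right
  obtain ⟨U₁, hU₁inv, hc⟩ := Module.End.isSemisimple_iff.1 hss _
    ((Module.End.mem_invtSubmodule E).2 (perp_invt hf hE hW₁))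
  rw [Module.End.mem_invtSubmodule] at hU₁inv
  have hirrU := partner_irred hf hE hW₁ hirr₁ hU₁inv hc
  have hRU : U₁ ⊓ perp hf U₁ ≤ (U₁ ⊓ perp hf U₁).comap E := by
    intro x hx
    exact ⟨hU₁inv hx.1, perp_invt hf hE hU₁inv hx.2⟩
  rcases irred_sub_of_irred hirrU _ inf_le_left hRU with h2 | h2
  · exact ⟨U₁, U₁, hU₁inv, hirrU, hU₁inv, isCompl_perp hf h2, Or.inl rfl⟩
  have htiU : U₁ ≤ perp hf U₁ := by
    calc U₁ = U₁ ⊓ perp hf U₁ := h2.symm
      _ ≤ perp hf U₁ := inf_le_right
  refine ⟨W₁, U₁, hW₁, hirr₁, hU₁inv, ?_, Or.inr ⟨hti₁, htiU⟩⟩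
  have hdisj : W₁ ⊓ perp hf U₁ = ⊥ := by
    have e1 : W₁ ⊓ perp hf U₁ = perp hf (perp hf W₁ ⊔ U₁) := by
      rw [perp_sup, perp_perp]
    rw [e1, hc.sup_eq_top, perp_top]
  refine IsCompl.of_eq hdisj ?_
  apply Submodule.eq_top_of_disjoint
  · rw [Module.finrank_fintype_fun_eq_card, Fintype.card_fin]
    have h3 := Submodule.finrank_add_eq_of_isCompl hc
    rw [Module.finrank_fintype_fun_eq_card, Fintype.card_fin] at h3
    have h4 := finrank_perp hf W₁
    have h5 := finrank_perp hf U₁
    omega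
  · exact disjoint_iff.2 hdisj

end Split

end Cfsg.Agent.Lib.Helper8.SUSS
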