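import Mathlib
import Cfsg.Agent.Lib.Helper8.SUSSB
import Cfsg.Agent.Lib.Helper8.SURegE

/-!
# Semisimple unitary matrices: the centraliser in the unitary group has all determinants of
norm one (helper8)
-/

set_option autoImplicit false
set_option linter.unusedSectionVars false

namespace Cfsg.Agent.Lib.Helper8.SUSS

open Module Polynomial Cfsg.Agent.Lib.Helper8.Unitary Cfsg.Agent.H9.IrredOp
  Cfsg.Agent.H9.SemisimpleConj Cfsg.Agent.Lib.Helper8.SUReg

section Block

variable {K : Type*} [Field K] {V : Type*} [AddCommGroup V] [Module K V] [FiniteDimensional K V]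
  (E : Module.End K V) {W C : Submodule K V}

theorem proj_commute (hW : W ≤ W.comap E) (hC : C ≤ C.comap E) (hc : IsCompl W C) :
    Commute (W.projection C hc) E := by
  apply LinearMap.ext
  intro v
  obtain ⟨w, c, rfl⟩ := Cfsg.Agent.Lib.Helper8.SpSS.exists_decomp hc v
  rw [Module.End.mul_apply, Module.End.mul_apply, map_add, map_add, map_add,
    Submodule.projection_apply_left, Submodule.projection_apply_right, add_zero,
    Submodule.projection_apply_of_mem_left hc (hW w.2),
    (Submodule.projection_apply_eq_zero_iff hc).2 (hC c.2), add_zero]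

theorem det_block (hW : W ≤ W.comap E) (hc : IsCompl W C) (p : K[X]) :
    LinearMap.det (aeval E p * W.projection C hc + (1 - W.projection C hc)) =
      LinearMap.det (aeval (E.restrict hW) p) := by
  set φ := Submodule.prodEquivOfIsCompl W C hc with hφ
  have h1 : aeval E p * W.projection C hc + (1 - W.projection C hc) =
      (φ : (W × C) →ₗ[K] V) ∘ₗ (LinearMap.prodMap (aeval (E.restrict hW) p) LinearMap.id) ∘ₗ
        (φ.symm : V →ₗ[K] (W × C)) := by
    apply LinearMap.ext
    intro v
    obtain ⟨⟨w, c⟩, rfl⟩ := φ.surjective v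
    simp only [LinearMap.comp_apply, LinearEquiv.coe_coe, LinearEquiv.symm_apply_apply,
      LinearMap.prodMap_apply, LinearMap.id_apply]
    rw [hφ, Submodule.coe_prodEquivOfIsCompl', Submodule.coe_prodEquivOfIsCompl']
    rw [LinearMap.add_apply, Module.End.mul_apply, LinearMap.sub_apply, Module.End.one_apply,
      map_add, Submodule.projection_apply_left, Submodule.projection_apply_right, add_zero]
    have h2 := aeval_intertwine (E.restrict hW) E W.subtype (fun v => rfl) p w
    rw [Submodule.subtype_apply, Submodule.subtype_apply] at h2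
    rw [h2]
    abel
  rw [h1, LinearMap.det_conj, LinearMap.det_prodMap, LinearMap.det_id, mul_one]

end Block

section Normal

variable {n : ℕ} {F : Type*} [Field F] (τ : F →+* F)

/-- from a normal idempotent commuting with a unitary `g` to elements of the unitary centraliser -/
theorem unitary_of_normal (hτ2 : ∀ a, τ (τ a) = a) (g M : Matrix (Fin n) (Fin n) F)
    (hg : adj τ g * g = 1) (hMg : M * g = g * M) (hMN : M * adj τ M = adj τ M * M) (p : F[X])
    (hdet : (aeval g p * M + (1 - M)).det ≠ 0) :
    ∃ c : Matrix (Fin n) (Fin n) F, adj τ c * c = 1 ∧ c * g = g * c ∧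
      c.det = (aeval g p * M + (1 - M)).det * (τ (aeval g p * M + (1 - M)).det)⁻¹ := by
  set gi := adj τ g with hgi
  set N := adj τ M with hN
  set P := aeval g p with hP
  set Q := aeval gi (p.map τ) with hQ
  have hg' : g * gi = 1 := mul_eq_one_comm.1 hg
  have hadjgi : adj τ gi = g := adj_adj τ hτ2 g
  have cgg : Commute g gi := by
    change g * gi = gi * g
    rw [hg', hg]
  have cMg : Commute M g := hMg
  have cMgi : Commute M gi := by
    change M * gi = gi * M
    calc M * gi = (gi * g) * M * gi := by rw [hg, Matrix.one_mul]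
      _ = gi * (g * M) * gi := by simp only [Matrix.mul_assoc]
      _ = gi * (M * g) * gi := by rw [hMg]
      _ = gi * M * (g * gi) := by simp only [Matrix.mul_assoc]
      _ = gi * M := by rw [hg', Matrix.mul_one]
  have cNgi : Commute N gi := by
    change N * gi = gi * N
    have e := congrArg (adj τ) hMg
    rw [adj_mul, adj_mul] at e
    exact e.symm
  have cNg : Commute N g := by
    change N * g = g * N
    have e := congrArg (adj τ) cMgi.eq
    rw [adj_mul, adj_mul, hadjgi] at e
    exact e.symm
  have cPM : Commute P M := commute_aeval g M cMg.symm p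
  have cPN : Commute P N := commute_aeval g N cNg.symm p
  have cQM : Commute Q M := commute_aeval gi M cMgi.symm (p.map τ)
  have cQN : Commute Q N := commute_aeval gi N cNgi.symm (p.map τ)
  have cQg : Commute Q g := commute_aeval gi g cgg.symm (p.map τ)
  have cPQ : Commute P Q := commute_aeval g Q cQg.symm p
  have cPg : Commute P g := commute_aeval g g (Commute.refl g) p
  have cMN : Commute M N := hMN
  set X := P * M + (1 - M) with hX
  have hXa : adj τ X = N * Q + (1 - N) := by
    rw [hX, adj_add, adj_mul, adj_sub, adj_one, hP, adj_aeval]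
  set Xa := adj τ X with hXadef
  have cXXa : Commute X Xa := by
    rw [hXa, hX]
    have c1 : Commute (P * M) (N * Q) := (cPN.mul_right cPQ).mul_left (cMN.mul_right cQM.symm)
    have c2 : Commute (P * M) (1 - N) :=
      (Commute.one_right _).sub_right (cPN.mul_left cMN)
    have c3 : Commute (1 - M) (N * Q) :=
      (Commute.one_left _).sub_left (cMN.mul_right cQM.symm)
    have c4 : Commute (1 - M) (1 - N) :=
      (Commute.one_left _).sub_left ((Commute.one_right M).sub_right cMN)
    exact (c1.add_right c2).add_left (c3.add_right c4)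
  have cXg : Commute X g := by
    rw [hX]
    exact (cPg.mul_left cMg).add_left ((Commute.one_left g).sub_left cMg)
  have cXag : Commute Xa g := by
    rw [hXa]
    exact (cNg.mul_left cQg).add_left ((Commute.one_left g).sub_left cNg)
  have hdetXa : Xa.det = τ X.det := det_adj τ X
  have hdetXa0 : IsUnit Xa.det := by
    rw [hdetXa]
    exact IsUnit.mk0 _ (by rw [Ne, map_eq_zero]; exact hdet)
  set Z := Xa⁻¹ with hZ
  have hXaZ : Xa * Z = 1 := Matrix.mul_nonsing_inv Xa hdetXa0
  have hZXa : Z * Xa = 1 := Matrix.nonsing_inv_mul Xa hdetXa0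
  have hadjZX : adj τ Z * X = 1 := by
    have e := congrArg (adj τ) hXaZ
    rw [adj_mul, adj_one, hXadef, adj_adj τ hτ2] at e
    exact e
  have cZg : Commute Z g := by
    change Z * g = g * Z
    calc Z * g = Z * g * (Xa * Z) := by rw [hXaZ, Matrix.mul_one]
      _ = Z * (g * Xa) * Z := by simp only [Matrix.mul_assoc]
      _ = Z * (Xa * g) * Z := by rw [cXag.eq]
      _ = (Z * Xa) * g * Z := by simp only [Matrix.mul_assoc]
      _ = g * Z := by rw [hZXa, Matrix.one_mul]
  refine ⟨X * Z, ?_, ?_, ?_⟩
  · rw [adj_mul, ← hXadef]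
    calc adj τ Z * Xa * (X * Z) = adj τ Z * (Xa * X) * Z := by
          simp only [Matrix.mul_assoc]
      _ = adj τ Z * (X * Xa) * Z := by rw [cXXa.eq]
      _ = (adj τ Z * X) * (Xa * Z) := by simp only [Matrix.mul_assoc]
      _ = 1 := by rw [hadjZX, hXaZ, Matrix.mul_one]
  · exact (cXg.mul_left cZg).eq
  · rw [Matrix.det_mul, hZ, Matrix.det_nonsing_inv, Ring.inverse_eq_inv', hdetXa]

end Normal

end Cfsg.Agent.Lib.Helper8.SUSS
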