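import Mathlib
import Cfsg.Agent.Lib.Helper8.SUSSC

/-!
# Semisimple unitary matrices: the centraliser in the unitary group has all determinants of
norm one — main lemma (helper8)
-/

set_option autoImplicit false
set_option linter.unusedSectionVars false

namespace Cfsg.Agent.Lib.Helper8.SUSS

open Module Matrix Polynomial Cfsg.Agent.Lib.Helper8.Unitary Cfsg.Agent.H9.IrredOp
  Cfsg.Agent.H9.SemisimpleConj Cfsg.Agent.Lib.Helper8.SUReg

variable {n : ℕ} {F : Type*} [Field F] {σ : F ≃+* F} {f : (Fin n → F) → (Fin n → F) → F}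

theorem toLin'_aeval (g : Matrix (Fin n) (Fin n) F) (p : F[X]) :
    Matrix.toLin' (aeval g p) = aeval (Matrix.toLin' g) p := by
  have := Polynomial.aeval_algHom_apply
    (Matrix.toLinAlgEquiv' : Matrix (Fin n) (Fin n) F ≃ₐ[F] _).toAlgHom g p
  exact this.symm

variable (hf : Cfsg.Geo.IsUnitaryForm σ f)
include hf

theorem adj_eq_of_form
    (hadj : ∀ (A : Matrix (Fin n) (Fin n) F) x y,
      f (A *ᵥ x) y = f x (adj (σ : F →+* F) A *ᵥ y))
    (A B : Matrix (Fin n) (Fin n) F) (h : ∀ x y, f (A *ᵥ x) y = f x (B *ᵥ y)) :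
    adj (σ : F →+* F) A = B := by
  apply Matrix.toLin'.injective
  apply LinearMap.ext
  intro y
  rw [Matrix.toLin'_apply, Matrix.toLin'_apply]
  have h0 : adj (σ : F →+* F) A *ᵥ y - B *ᵥ y = 0 := by
    apply eq_zero_of_forall hf
    intro x
    rw [f_sub_right hf, ← hadj, h, sub_self]
  exact sub_eq_zero.1 h0

/-- the centraliser of a semisimple unitary matrix in the unitary group has elements of every
determinant of the form `ν / σ ν` -/
theorem exists_unitary_commute_det [Finite F]
    (hadj : ∀ (A : Matrix (Fin n) (Fin n) F) x y,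
      f (A *ᵥ x) y = f x (adj (σ : F →+* F) A *ᵥ y))
    (hn : 1 ≤ n) (g : Matrix (Fin n) (Fin n) F) (hg : adj (σ : F →+* F) g * g = 1)
    (hss : Module.End.IsSemisimple (Matrix.toLin' g)) (ν : F) (hν : ν ≠ 0) :
    ∃ c : Matrix (Fin n) (Fin n) F, adj (σ : F →+* F) c * c = 1 ∧ c * g = g * c ∧
      c.det = ν * (σ ν)⁻¹ := by
  set τ : F →+* F := (σ : F →+* F) with hτ
  have hτ2 : ∀ a, τ (τ a) = a := hf.involutive
  set E : Module.End F (Fin n → F) := Matrix.toLin' g with hEdef
  have hEv : ∀ x, E x = g *ᵥ x := fun x => Matrix.toLin'_apply g x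
  have hE : ∀ x y, f (E x) (E y) = f x y := by
    intro x y
    rw [hEv, hEv, hadj, Matrix.mulVec_mulVec, hg, Matrix.one_mulVec]
  obtain ⟨W, U, hW, hirr, hU, hc, hcase⟩ := exists_normal_split hf hE hss hn
  have hC : perp hf U ≤ (perp hf U).comap E := perp_invt hf hE hU
  set e : Module.End F (Fin n → F) := W.projection (perp hf U) hc with he
  set M : Matrix (Fin n) (Fin n) F := LinearMap.toMatrix' e with hM
  have hMlin : Matrix.toLin' M = e := by rw [hM, Matrix.toLin'_toMatrix']
  have hMv : ∀ x, M *ᵥ x = e x := by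
    intro x
    rw [← Matrix.toLin'_apply, hMlin]
  have hMg : M * g = g * M := by
    have h1 := proj_commute E hW hC hc
    apply Matrix.toLin'.injective
    rw [Matrix.toLin'_mul, Matrix.toLin'_mul, hMlin]
    exact h1.eq
  have hMN : M * adj τ M = adj τ M * M := by
    rcases hcase with hUW | ⟨hWti, hUti⟩
    · have hsym : ∀ x y, f (M *ᵥ x) y = f x (M *ᵥ y) := by
        intro x y
        rw [hMv, hMv]
        obtain ⟨w, c, rfl⟩ := Cfsg.Agent.Lib.Helper8.SpSS.exists_decomp hc x
        obtain ⟨w', c', rfl⟩ := Cfsg.Agent.Lib.Helper8.SpSS.exists_decomp hc y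
        have h1 : e ((w : Fin n → F) + (c : Fin n → F)) = w := by
          rw [map_add, he, Submodule.projection_apply_left, Submodule.projection_apply_right,
            add_zero]
        have h2 : e ((w' : Fin n → F) + (c' : Fin n → F)) = w' := by
          rw [map_add, he, Submodule.projection_apply_left, Submodule.projection_apply_right,
            add_zero]
        rw [h1, h2, f_add_right hf, hf.add_left]
        have h3 : f (w : Fin n → F) (c' : Fin n → F) = 0 :=
          (mem_perp' hf U _).1 c'.2 w (hUW ▸ w.2)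
        have h4 : f (c : Fin n → F) (w' : Fin n → F) = 0 := c.2 w' (hUW ▸ w'.2)
        rw [h3, h4, add_zero]
      rw [adj_eq_of_form hf hadj M M hsym]
    · have h1 : adj τ M * M = 0 := by
        apply Matrix.toLin'.injective
        apply LinearMap.ext
        intro y
        rw [Matrix.toLin'_apply, map_zero, LinearMap.zero_apply, ← Matrix.mulVec_mulVec]
        apply eq_zero_of_forall hf
        intro x
        rw [← hadj, hMv, hMv]
        exact hWti (Submodule.projection_apply_mem hc x) (e y)
          (Submodule.projection_apply_mem hc y)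
      have h2 : M * adj τ M = 0 := by
        apply Matrix.toLin'.injective
        apply LinearMap.ext
        intro y
        rw [Matrix.toLin'_apply, map_zero, LinearMap.zero_apply, ← Matrix.mulVec_mulVec, hMv, he,
          Submodule.projection_apply_eq_zero_iff, mem_perp']
        intro u hu
        rw [← hadj, hMv]
        have h3 : e u = 0 := (Submodule.projection_apply_eq_zero_iff hc).2 (hUti hu)
        rw [h3]
        exact f_zero_left hf _
      rw [h1, h2]
  have hirrF : Fact (Irreducible (minpoly F (E.restrict hW))) := ⟨hirr.minpoly_irreducible⟩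
  have hfin : Finite (KK (E.restrict hW)) := finite_KK _
  obtain ⟨κ, hκ⟩ := FiniteField.norm_surjective F (KK (E.restrict hW)) ν
  obtain ⟨p, rfl⟩ := AdjoinRoot.mk_surjective κ
  have hdetX : (aeval g p * M + (1 - M)).det = ν := by
    rw [← LinearMap.det_toLin']
    have e1 : Matrix.toLin' (aeval g p * M + (1 - M)) = aeval E p * e + (1 - e) := by
      rw [map_add, map_sub, Matrix.toLin'_mul, Matrix.toLin'_one, hMlin, toLin'_aeval]
      rfl
    rw [e1, det_block E hW hc p, ← rho_mk, hirr.det_rho, hκ]
  obtain ⟨c, hc1, hc2, hc3⟩ := unitary_of_normal τ hτ2 g M hg hMg hMN p (by rw [hdetX]; exact hν)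
  refine ⟨c, hc1, hc2, ?_⟩
  rw [hc3, hdetX]
  rfl

end Cfsg.Agent.Lib.Helper8.SUSS
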