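import Mathlib
import Cfsg.Agent.Lib.Helper8.SUSSD
import Cfsg.Agent.Lib.Helper8.GUConjD

/-!
# Semisimple elements of `SU_n(q)` with the same characteristic polynomial are conjugate (helper8)
-/

set_option autoImplicit false
set_option linter.unusedSectionVars false

namespace Cfsg.Agent.Lib.Helper8.SUSS

open Module Matrix Polynomial Cfsg Cfsg.Agent.Lib.Helper8.Unitary Cfsg.Agent.H9.IrredOp
  Cfsg.Agent.H9.SemisimpleConj Cfsg.Agent.Lib.Helper8.SUReg Cfsg.Agent.Lib.Helper8.SUGen
  Cfsg.Agent.S0781 Cfsg.Agent.S0277 Cfsg.Agent.Lib.Helper8.GUConj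

section H90

variable {F : Type*} [Field F] {σ : F ≃+* F}

/-- Hilbert 90 for an involution -/
theorem exists_ratio (hne : σ ≠ RingEquiv.refl F) (hinv : ∀ a : F, σ (σ a) = a) (d : F)
    (hd : d * σ d = 1) : ∃ ν : F, ν ≠ 0 ∧ σ ν = d * ν := by
  have key : ∀ w : F, σ (w + σ (d * w)) = d * (w + σ (d * w)) := by
    intro w
    rw [map_add, hinv, map_mul, mul_add, ← mul_assoc, hd, one_mul, add_comm]
  by_cases h1 : 1 + σ d = 0
  · obtain ⟨w, hw⟩ := exists_not_fix hne
    refine ⟨w + σ (d * w), ?_, key w⟩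
    have h2 : σ d = -1 := by linear_combination h1
    rw [map_mul, h2]
    intro h3
    apply hw
    linear_combination -h3
  · refine ⟨1 + σ (d * 1), ?_, key 1⟩
    rw [mul_one]
    exact h1

end H90

section Main

variable {F : Type*} [Field F] [Fintype F] {q : ℕ}

theorem herm_adj (hF : Fintype.card F = q ^ 2) (n : ℕ) (A : Matrix (Fin n) (Fin n) F)
    (x y : Fin n → F) :
    hermForm n F q (A *ᵥ x) y =
      hermForm n F q x (adj ((frobEquiv hF : F ≃+* F) : F →+* F) A *ᵥ y) := by
  have hτq : ∀ a, ((frobEquiv hF : F ≃+* F) : F →+* F) a = a ^ q := fun a => rfl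
  have hτ2 : ∀ a, ((frobEquiv hF : F ≃+* F) : F →+* F) (((frobEquiv hF : F ≃+* F) : F →+* F) a)
      = a := (herm_unitary hF n).involutive
  rw [← stdB_eq_hermForm n _ hτq, ← stdB_eq_hermForm n _ hτq, stdB_mulVec_right _ hτ2]

/-- semisimple elements of `SU_n(q)` with the same characteristic polynomial are conjugate -/
theorem su_isConj (hF : Fintype.card F = q ^ 2) (n : ℕ) (g h : ↥(Cfsg.SU n F q))
    (hgss : Module.End.IsSemisimple (Matrix.toLin'
      ((g : Matrix.SpecialLinearGroup (Fin n) F) : Matrix (Fin n) (Fin n) F)))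
    (hhss : Module.End.IsSemisimple (Matrix.toLin'
      ((h : Matrix.SpecialLinearGroup (Fin n) F) : Matrix (Fin n) (Fin n) F)))
    (hc : ((g : Matrix.SpecialLinearGroup (Fin n) F) : Matrix (Fin n) (Fin n) F).charpoly =
      ((h : Matrix.SpecialLinearGroup (Fin n) F) : Matrix (Fin n) (Fin n) F).charpoly) :
    IsConj g h := by
  rcases Nat.eq_zero_or_pos n with hn0 | hn
  · subst hn0
    have : g = h := by
      apply Subtype.ext
      apply Subtype.ext
      exact Subsingleton.elim _ _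
    rw [this]
  set σe : F ≃+* F := frobEquiv hF with hσe
  set τ : F →+* F := (σe : F →+* F) with hτ
  have hf := herm_unitary hF n
  have hτq : ∀ a, τ a = a ^ q := fun a => rfl
  have hτ2 : ∀ a, τ (τ a) = a := hf.involutive
  have hτne : τ ≠ RingHom.id F := by
    intro h0
    apply hf.ne_refl
    apply RingEquiv.ext
    intro a
    have := congrArg (fun r : F →+* F => r a) h0
    exact this
  have htr : ∀ b : F, τ b = b → ∃ y : F, y + τ y = b := fun b hb =>
    tr_surj hf.ne_refl hf.involutive b hb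
  set G : Matrix (Fin n) (Fin n) F :=
    ((g : Matrix.SpecialLinearGroup (Fin n) F) : Matrix (Fin n) (Fin n) F) with hGdef
  set H : Matrix (Fin n) (Fin n) F :=
    ((h : Matrix.SpecialLinearGroup (Fin n) F) : Matrix (Fin n) (Fin n) F) with hHdef
  have hG : adj τ G * G = 1 :=
    (mem_GU_iff τ hτq (phi n g)).1 ((mem_SUf_iff (phi n g)).1 (phi_mem n g)).1
  have hH : adj τ H * H = 1 :=
    (mem_GU_iff τ hτq (phi n h)).1 ((mem_SUf_iff (phi n h)).1 (phi_mem n h)).1
  obtain ⟨P, hP⟩ := exists_gl_conj G H hgss hhss hc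
  have hPdet : (P : Matrix (Fin n) (Fin n) F).det ≠ 0 := (Matrix.isUnits_det_units P).ne_zero
  obtain ⟨u, hu1, hu2⟩ := exists_unitary_conj_of_conj τ hτ2 hτne htr G H
    (P : Matrix (Fin n) (Fin n) F) hG hH hPdet hP
  have hud : u.det * τ u.det = 1 := by
    have e := congrArg Matrix.det hu1
    rw [Matrix.det_mul, det_adj, Matrix.det_one, mul_comm] at e
    exact e
  have hud0 : u.det ≠ 0 := left_ne_zero_of_mul_eq_one hud
  obtain ⟨ν, hν0, hν⟩ := exists_ratio hf.ne_refl hf.involutive u.det hud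
  obtain ⟨c, hc1, hc2, hc3⟩ := exists_unitary_commute_det hf (herm_adj hF n) hn G hG hgss ν hν0
  have hcdet : c.det = u.det⁻¹ := by
    rw [hc3, hν]
    field_simp
  set k := u * c with hk
  have hk1 : adj τ k * k = 1 := by
    rw [hk, adj_mul]
    calc adj τ c * adj τ u * (u * c) = adj τ c * (adj τ u * u) * c := by
          simp only [Matrix.mul_assoc]
      _ = 1 := by rw [hu1, Matrix.mul_one, hc1]
  have hk2 : k * G = H * k := by
    rw [hk]
    calc u * c * G = u * (c * G) := by rw [Matrix.mul_assoc]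
      _ = u * (G * c) := by rw [hc2]
      _ = (u * G) * c := by rw [Matrix.mul_assoc]
      _ = H * (u * c) := by rw [hu2, Matrix.mul_assoc]
  have hkdet : k.det = 1 := by
    rw [hk, Matrix.det_mul, hcdet, mul_inv_cancel₀ hud0]
  set kG : GL (Fin n) F := Matrix.GeneralLinearGroup.mkOfDetNeZero k (by rw [hkdet]; exact one_ne_zero)
    with hkG
  have hkGmem : kG ∈ SUf (hermForm n F q) := by
    rw [mem_SUf_iff]
    refine ⟨(mem_GU_iff τ hτq kG).2 hk1, ?_⟩
    apply Units.ext
    rw [Matrix.GeneralLinearGroup.val_det_apply]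
    exact hkdet
  apply suconj g h kG hkGmem
  apply Units.ext
  exact hk2

theorem natCast_ne_zero_of_coprime (p : ℕ) [Fact p.Prime] [CharP F p] (k : ℕ)
    (hk : k.Coprime p) : (k : F) ≠ 0 := by
  intro h0
  rw [CharP.cast_eq_zero_iff F p] at h0
  have := Nat.Coprime.eq_one_of_dvd hk.symm h0
  exact (Fact.out : p.Prime).one_lt.ne' this

theorem isSemisimple_of_orderOf_coprime (p : ℕ) [Fact p.Prime] [CharP F p] (n : ℕ)
    (g : ↥(Cfsg.SU n F q)) (hg : (orderOf g).Coprime p) :
    Module.End.IsSemisimple (Matrix.toLin'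
      ((g : Matrix.SpecialLinearGroup (Fin n) F) : Matrix (Fin n) (Fin n) F)) := by
  apply Cfsg.Agent.H9.SemisimpleConj.isSemisimple_of_pow_eq_one _ (orderOf g)
    (natCast_ne_zero_of_coprime p _ hg)
  rw [← Matrix.SpecialLinearGroup.coe_pow, ← Subgroup.coe_pow, pow_orderOf_eq_one]
  rfl

end Main

end Cfsg.Agent.Lib.Helper8.SUSS
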