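import Mathlib
import Cfsg.Agent.Lib.Helper8.SUCountB
import Cfsg.Agent.Lib.Helper8.SUSSE

/-!
# Characteristic polynomials of unitary matrices are self-reciprocal; lifting to `SU_n(q)`
(helper8)
-/

set_option autoImplicit false
set_option linter.unusedSectionVars false

namespace Cfsg.Agent.Lib.Helper8.SUCount

open Module Matrix Polynomial Cfsg Cfsg.Agent.Lib.Helper8.SelfRec Cfsg.Agent.Lib.Helper8.SUReg
  Cfsg.Agent.Lib.Helper8.SUGen Cfsg.Agent.S0781

universe u

section General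

variable {K : Type u} [Field K] {σ : K →+* K} {n : ℕ}

theorem neg_one_pow_sq (n : ℕ) : ((-1 : K) ^ n) * ((-1 : K) ^ n) = 1 := by
  rw [← mul_pow, neg_mul_neg, one_mul, one_pow]

theorem isSR_charpoly (A : Matrix (Fin n) (Fin n) K) (hA : (A.map σ)ᵀ * A = 1) :
    IsSR σ A.charpoly ∧ A.charpoly.coeff 0 = (-1) ^ n * A.det := by
  set B : Matrix (Fin n) (Fin n) K := (A.map σ)ᵀ with hB
  have hAB : A * B = 1 := mul_eq_one_comm.1 hA
  have hBinv : B⁻¹ = A := Matrix.inv_eq_right_inv hA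
  have hBunit : IsUnit B := ⟨⟨B, A, hA, hAB⟩, rfl⟩
  have hdetBA : B.det * A.det = 1 := by rw [← Matrix.det_mul, hA, Matrix.det_one]
  have hdetB0 : B.det ≠ 0 := left_ne_zero_of_mul_eq_one hdetBA
  have hdetA0 : A.det ≠ 0 := right_ne_zero_of_mul_eq_one hdetBA
  have hBchar : B.charpoly = A.charpoly.map σ := by
    rw [hB, Matrix.charpoly_transpose, Matrix.charpoly_map]
  have h1 := Matrix.charpoly_inv B hBunit
  rw [hBinv, Fintype.card_fin, ← Matrix.reverse_charpoly, hBchar, Ring.inverse_eq_inv'] at h1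
  have hcoeffA : A.charpoly.coeff 0 = (-1) ^ n * A.det := by
    have := Matrix.det_eq_sign_charpoly_coeff A
    rw [Fintype.card_fin] at this
    rw [this, ← mul_assoc, neg_one_pow_sq, one_mul]
  have hcoeffB : σ (A.charpoly.coeff 0) = (-1) ^ n * B.det := by
    have := Matrix.det_eq_sign_charpoly_coeff B
    rw [Fintype.card_fin, hBchar, coeff_map] at this
    rw [this, ← mul_assoc, neg_one_pow_sq, one_mul]
  refine ⟨⟨Matrix.charpoly_monic A, ?_, ?_⟩, hcoeffA⟩
  · rw [hcoeffA]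
    exact mul_ne_zero (pow_ne_zero _ (neg_ne_zero.2 one_ne_zero)) hdetA0
  · -- h1 : A.charpoly = (-1)^n * C (B.det)⁻¹ * (A.charpoly.map σ).reverse
    rw [hcoeffB]
    have h2 : (A.charpoly.map σ).reverse = C ((-1) ^ n * B.det) * A.charpoly := by
      conv_rhs => rw [h1]
      rw [C_mul, C_pow, C_neg, C_1]
      have : C B.det * C B.det⁻¹ = (1 : K[X]) := by
        rw [← C_mul, mul_inv_cancel₀ hdetB0, C_1]
      have hs : ((-1 : K[X]) ^ n) * ((-1 : K[X]) ^ n) = 1 := by
        rw [← mul_pow, neg_mul_neg, one_mul, one_pow]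
      calc (A.charpoly.map σ).reverse
          = (((-1 : K[X]) ^ n) * ((-1 : K[X]) ^ n)) * (C B.det * C B.det⁻¹) *
              (A.charpoly.map σ).reverse := by rw [this, hs, one_mul, one_mul]
        _ = _ := by ring
    exact h2

end General

section Concrete

variable {F : Type u} [Field F] [Fintype F] {q : ℕ}

/-- the involution `x ↦ x ^ q` as a ring homomorphism -/
noncomputable abbrev sg (hF : Fintype.card F = q ^ 2) : F →+* F :=
  ((frobEquiv hF : F ≃+* F) : F →+* F)

theorem sg_apply (hF : Fintype.card F = q ^ 2) (a : F) : sg hF a = a ^ q := rfl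

theorem sg_sg (hF : Fintype.card F = q ^ 2) (a : F) : sg hF (sg hF a) = a :=
  (herm_unitary hF 0).involutive a

theorem sg_ne_id (hF : Fintype.card F = q ^ 2) : sg hF ≠ RingHom.id F := by
  intro h0
  apply (herm_unitary hF 0).ne_refl
  apply RingEquiv.ext
  intro a
  have := congrArg (fun r : F →+* F => r a) h0
  exact this

theorem su_unitary (hF : Fintype.card F = q ^ 2) (n : ℕ) (g : ↥(Cfsg.SU n F q)) :
    (((g : Matrix.SpecialLinearGroup (Fin n) F) : Matrix (Fin n) (Fin n) F).map (sg hF))ᵀ *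
      ((g : Matrix.SpecialLinearGroup (Fin n) F) : Matrix (Fin n) (Fin n) F) = 1 :=
  (mem_GU_iff (sg hF) (sg_apply hF) (phi n g)).1 ((mem_SUf_iff (phi n g)).1 (phi_mem n g)).1

theorem exists_su_of_unitary (hF : Fintype.card F = q ^ 2) (n : ℕ)
    (A : Matrix (Fin n) (Fin n) F) (hA : (A.map (sg hF))ᵀ * A = 1) (hdet : A.det = 1) :
    ∃ g : ↥(Cfsg.SU n F q),
      ((g : Matrix.SpecialLinearGroup (Fin n) F) : Matrix (Fin n) (Fin n) F) = A := by
  set kG : GL (Fin n) F := Matrix.GeneralLinearGroup.mkOfDetNeZero A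
    (by rw [hdet]; exact one_ne_zero) with hkG
  have hk : kG ∈ SUf (hermForm n F q) := by
    rw [mem_SUf_iff]
    refine ⟨(mem_GU_iff (sg hF) (sg_apply hF) kG).2 hA, ?_⟩
    apply Units.ext
    rw [Matrix.GeneralLinearGroup.val_det_apply]
    exact hdet
  obtain ⟨B, hB⟩ := exists_lift n kG hk
  refine ⟨B, ?_⟩
  rw [← phi_coe, hB]
  rfl

/-- the characteristic polynomial of an element of `SU_n(q)` -/
theorem su_charpoly (hF : Fintype.card F = q ^ 2) (n : ℕ) (g : ↥(Cfsg.SU n F q)) :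
    IsSR (sg hF) ((g : Matrix.SpecialLinearGroup (Fin n) F) : Matrix (Fin n) (Fin n) F).charpoly ∧
    ((g : Matrix.SpecialLinearGroup (Fin n) F) : Matrix (Fin n) (Fin n) F).charpoly.coeff 0 =
      (-1) ^ n := by
  obtain ⟨h1, h2⟩ := isSR_charpoly _ (su_unitary hF n g)
  refine ⟨h1, ?_⟩
  rw [h2, (g : Matrix.SpecialLinearGroup (Fin n) F).2, mul_one]

/-- every self-reciprocal polynomial with constant term `(-1)^n` is the characteristic polynomial
of an element of `SU_n(q)` -/
theorem exists_su_charpoly (hF : Fintype.card F = q ^ 2) (n : ℕ) (f : F[X])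
    (hf : IsSR (sg hF) f) (hN : f.natDegree = n) (h0 : f.coeff 0 = (-1) ^ n) :
    ∃ g : ↥(Cfsg.SU n F q),
      ((g : Matrix.SpecialLinearGroup (Fin n) F) : Matrix (Fin n) (Fin n) F).charpoly = f := by
  obtain ⟨A, hA, hAf⟩ := real_all (sg_ne_id hF) (sg_sg hF) n f hf hN
  have hdet : A.det = 1 := by
    have := (isSR_charpoly A hA).2
    rw [hAf, h0] at this
    have h2 : ((-1 : F) ^ n) * ((-1 : F) ^ n) = 1 := neg_one_pow_sq n
    have h3 : ((-1 : F) ^ n) * ((-1 : F) ^ n) = ((-1 : F) ^ n) * (((-1 : F) ^ n) * A.det) := by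
      rw [← this]
    rw [← mul_assoc, h2, one_mul] at h3
    exact h3.symm
  obtain ⟨g, hg⟩ := exists_su_of_unitary hF n A hA hdet
  exact ⟨g, by rw [hg, hAf]⟩

end Concrete

end Cfsg.Agent.Lib.Helper8.SUCount
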