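import Mathlib
import Cfsg.Prelude.Def_Classical
import Cfsg.Prelude.Def_ClassicalGeometry
import Cfsg.Prelude.Def_FischerSpaces

set_option autoImplicit false

/-!
Reflections `x ↦ x - Q(v)⁻¹ f(x, v) v` of a quadratic form on a coordinate space: the basic
identities (isometry, involution, conjugation, scaling).
-/

namespace Cfsg.Agent.Lib.Helper8.Reflection

open Matrix Cfsg QuadraticMap

variable {ι : Type} [Fintype ι] [DecidableEq ι] {F : Type*} [Field F]
  (Q : QuadraticForm F (ι → F))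

theorem polarVec_dotProduct (v x : ι → F) : polarVec (⇑Q) v ⬝ᵥ x = polar (⇑Q) v x := by
  have hx : x = ∑ j, x j • (Pi.single j (1 : F) : ι → F) := by
    funext i
    simp [Finset.sum_apply, Pi.single_apply]
  conv_rhs => rw [hx]
  rw [show polar (⇑Q) v (∑ j, x j • (Pi.single j (1 : F) : ι → F)) =
    polarBilin Q v (∑ j, x j • (Pi.single j (1 : F) : ι → F)) from rfl, map_sum]
  unfold dotProduct polarVec
  refine Finset.sum_congr rfl (fun j _ => ?_)
  rw [map_smul, smul_eq_mul, mul_comm]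
  rfl

theorem reflectionMatrix_mulVec (v x : ι → F) :
    reflectionMatrix (⇑Q) v *ᵥ x = x - ((Q v)⁻¹ * polar (⇑Q) v x) • v := by
  unfold reflectionMatrix
  rw [Matrix.sub_mulVec, Matrix.one_mulVec, Matrix.smul_mulVec]
  congr 1
  funext i
  simp only [Matrix.mulVec, Matrix.vecMulVec_apply, Pi.smul_apply, smul_eq_mul]
  have : (fun j => v i * polarVec (⇑Q) v j) ⬝ᵥ x = v i * (polarVec (⇑Q) v ⬝ᵥ x) := by
    unfold dotProduct
    rw [Finset.mul_sum]
    exact Finset.sum_congr rfl (fun j _ => by ring)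
  rw [this, polarVec_dotProduct]
  ring

omit [Fintype ι] [DecidableEq ι] in
theorem Q_sub_smul (x v : ι → F) (t : F) :
    Q (x - t • v) = Q x + t * t * Q v - t * polar (⇑Q) v x := by
  have h := QuadraticMap.map_add (⇑Q) x (-(t • v))
  rw [← sub_eq_add_neg] at h
  rw [h, QuadraticMap.map_neg, QuadraticMap.map_smul, polar_neg_right, polar_smul_right,
    polar_comm]
  simp only [smul_eq_mul]
  ring

theorem Q_reflection (v : ι → F) (hv : Q v ≠ 0) (x : ι → F) :
    Q (reflectionMatrix (⇑Q) v *ᵥ x) = Q x := by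
  rw [reflectionMatrix_mulVec, Q_sub_smul]
  field_simp
  ring

omit [DecidableEq ι] in
theorem polar_of_isometry (g : Matrix ι ι F) (hg : ∀ x, Q (g *ᵥ x) = Q x) (x y : ι → F) :
    polar (⇑Q) (g *ᵥ x) (g *ᵥ y) = polar (⇑Q) x y := by
  unfold polar
  rw [← Matrix.mulVec_add, hg, hg, hg]

theorem reflection_reflection (v : ι → F) (hv : Q v ≠ 0) (x : ι → F) :
    reflectionMatrix (⇑Q) v *ᵥ (reflectionMatrix (⇑Q) v *ᵥ x) = x := by
  rw [reflectionMatrix_mulVec Q v (reflectionMatrix (⇑Q) v *ᵥ x), reflectionMatrix_mulVec Q v x,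
    polar_sub_right, polar_smul_right, polar_self]
  simp only [smul_eq_mul, nsmul_eq_mul, Nat.cast_ofNat]
  rw [sub_sub, ← add_smul]
  have : (Q v)⁻¹ * polar (⇑Q) v x +
      (Q v)⁻¹ * (polar (⇑Q) v x - (Q v)⁻¹ * polar (⇑Q) v x * (2 * Q v)) = 0 := by
    field_simp
    ring
  rw [this, zero_smul, sub_zero]

theorem reflectionMatrix_mul_self (v : ι → F) (hv : Q v ≠ 0) :
    reflectionMatrix (⇑Q) v * reflectionMatrix (⇑Q) v = 1 := by
  apply Matrix.toLin'.injective
  apply LinearMap.ext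
  intro x
  rw [Matrix.toLin'_mul, LinearMap.comp_apply, Matrix.toLin'_apply, Matrix.toLin'_apply,
    reflection_reflection Q v hv, Matrix.toLin'_one, LinearMap.id_apply]

theorem reflectionMatrix_smul (v : ι → F) (a : F) (ha : a ≠ 0) :
    reflectionMatrix (⇑Q) (a • v) = reflectionMatrix (⇑Q) v := by
  apply Matrix.toLin'.injective
  apply LinearMap.ext
  intro x
  rw [Matrix.toLin'_apply, Matrix.toLin'_apply, reflectionMatrix_mulVec, reflectionMatrix_mulVec,
    QuadraticMap.map_smul, polar_smul_left, smul_smul]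
  congr 2
  simp only [smul_eq_mul]
  by_cases hv : Q v = 0
  · simp [hv]
  · field_simp

theorem isometry_mul_reflection (g : Matrix ι ι F) (hg : ∀ x, Q (g *ᵥ x) = Q x) (v : ι → F) :
    g * reflectionMatrix (⇑Q) v = reflectionMatrix (⇑Q) (g *ᵥ v) * g := by
  apply Matrix.toLin'.injective
  apply LinearMap.ext
  intro x
  rw [Matrix.toLin'_mul, Matrix.toLin'_mul, LinearMap.comp_apply, LinearMap.comp_apply,
    Matrix.toLin'_apply, Matrix.toLin'_apply, Matrix.toLin'_apply, Matrix.toLin'_apply,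
    reflectionMatrix_mulVec, reflectionMatrix_mulVec, Matrix.mulVec_sub, Matrix.mulVec_smul,
    polar_of_isometry Q g hg, hg]


/-- the reflection as an element of `GL` -/
noncomputable def reflGL (v : ι → F) (hv : Q v ≠ 0) : GL ι F :=
  ⟨reflectionMatrix (⇑Q) v, reflectionMatrix (⇑Q) v, reflectionMatrix_mul_self Q v hv,
    reflectionMatrix_mul_self Q v hv⟩

theorem reflGL_val (v : ι → F) (hv : Q v ≠ 0) : (reflGL Q v hv).1 = reflectionMatrix (⇑Q) v := rfl

theorem reflGL_mem (v : ι → F) (hv : Q v ≠ 0) : reflGL Q v hv ∈ isometryGroup F (⇑Q) := by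
  intro u _
  exact Q_reflection Q v hv u

/-- the reflection as an isometry -/
noncomputable def refl (v : ι → F) (hv : Q v ≠ 0) : isometryGroup F (⇑Q) :=
  ⟨reflGL Q v hv, reflGL_mem Q v hv⟩

theorem refl_val (v : ι → F) (hv : Q v ≠ 0) :
    ((refl Q v hv : isometryGroup F (⇑Q)) : GL ι F).1 = reflectionMatrix (⇑Q) v := rfl

theorem isometryGroup_ext (g h : isometryGroup F (⇑Q))
    (hgh : ((g : GL ι F) : Matrix ι ι F) = ((h : GL ι F) : Matrix ι ι F)) : g = h :=
  Subtype.ext (Units.ext hgh)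

theorem refl_mul_self (v : ι → F) (hv : Q v ≠ 0) : refl Q v hv * refl Q v hv = 1 := by
  apply isometryGroup_ext
  exact reflectionMatrix_mul_self Q v hv

theorem refl_inv (v : ι → F) (hv : Q v ≠ 0) : (refl Q v hv)⁻¹ = refl Q v hv :=
  inv_eq_of_mul_eq_one_left (refl_mul_self Q v hv)

theorem isometry_apply (g : isometryGroup F (⇑Q)) (x : ι → F) :
    Q (((g : GL ι F) : Matrix ι ι F) *ᵥ x) = Q x := g.2 x x

theorem mul_refl (g : isometryGroup F (⇑Q)) (v : ι → F) (hv : Q v ≠ 0) :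
    g * refl Q v hv =
      refl Q (((g : GL ι F) : Matrix ι ι F) *ᵥ v) (by rw [isometry_apply]; exact hv) * g := by
  apply isometryGroup_ext
  exact isometry_mul_reflection Q _ (isometry_apply Q g) v

theorem conj_refl (g : isometryGroup F (⇑Q)) (v : ι → F) (hv : Q v ≠ 0) :
    g * refl Q v hv * g⁻¹ =
      refl Q (((g : GL ι F) : Matrix ι ι F) *ᵥ v) (by rw [isometry_apply]; exact hv) := by
  rw [mul_refl, mul_assoc, mul_inv_cancel, mul_one]

theorem refl_congr (v w : ι → F) (hv : Q v ≠ 0) (hw : Q w ≠ 0) (a : F) (ha : a ≠ 0)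
    (h : w = a • v) : refl Q w hw = refl Q v hv := by
  apply isometryGroup_ext
  rw [refl_val, refl_val, h, reflectionMatrix_smul Q v a ha]

theorem mem_reflectionsOfNorm_iff (c : F) (hc : c ≠ 0) (g : isometryGroup F (⇑Q)) :
    g ∈ reflectionsOfNorm (⇑Q) c ↔ ∃ (v : ι → F) (hv : Q v = c), g = refl Q v (hv ▸ hc) := by
  constructor
  · rintro ⟨v, hv, hg⟩
    exact ⟨v, hv, isometryGroup_ext Q _ _ hg⟩
  · rintro ⟨v, hv, rfl⟩
    exact ⟨v, hv, rfl⟩

theorem refl_apply (v : ι → F) (hv : Q v ≠ 0) (x : ι → F) :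
    ((refl Q v hv : isometryGroup F (⇑Q)) : GL ι F).1 *ᵥ x =
      x - ((Q v)⁻¹ * polar (⇑Q) v x) • v := reflectionMatrix_mulVec Q v x

end Cfsg.Agent.Lib.Helper8.Reflection
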