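import Mathlib
import Cfsg.Agent.S0765
import Cfsg.Agent.Lib.Helper5.Symp

/-!
# Symplectic matrices have determinant one and a self-reciprocal characteristic polynomial (helper8)
-/

set_option autoImplicit false
set_option linter.unusedSectionVars false

namespace Cfsg.Agent.Lib.Helper8.SpCount

open Module Matrix Cfsg Polynomial Cfsg.Agent.Lib.Helper5.Symp

variable {F : Type*} [Field F] {m : ℕ}

theorem det_sympTransvection (w : Fin m ⊕ Fin m → F) (c : F) :
    (sympTransvection m w c).det = 1 := by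
  unfold sympTransvection
  rw [← Matrix.vecMulVec_smul, Matrix.vecMulVec_eq (Fin 1),
    Matrix.det_one_add_replicateCol_mul_replicateRow]
  have h0 : (J (Fin m) F *ᵥ w) ⬝ᵥ w = 0 := by
    have := sympForm_self m w
    unfold sympForm at this
    rw [dotProduct_comm]
    exact this
  rw [smul_dotProduct, h0, smul_zero, add_zero]

theorem det_eq_one (g : symplecticGroup (Fin m) F) :
    (g : Matrix (Fin m ⊕ Fin m) (Fin m ⊕ Fin m) F).det = 1 := by
  have htop := Cfsg.Agent.S0765.result (F := F) m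
  have hg : g ∈ Subgroup.closure {A : Matrix.symplecticGroup (Fin m) F |
      ∃ (w : Fin m ⊕ Fin m → F) (c : F),
        (A : Matrix (Fin m ⊕ Fin m) (Fin m ⊕ Fin m) F) = Cfsg.sympTransvection m w c} := by
    rw [htop]; trivial
  induction hg using Subgroup.closure_induction with
  | mem x hx =>
    obtain ⟨w, c, hx⟩ := hx
    rw [hx, det_sympTransvection]
  | one => simp
  | mul x y _ _ hx hy =>
    rw [Submonoid.coe_mul, Matrix.det_mul, hx, hy, one_mul]
  | inv x _ hx =>
    have h1 : ((x⁻¹ * x : symplecticGroup (Fin m) F) :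
      Matrix (Fin m ⊕ Fin m) (Fin m ⊕ Fin m) F).det = 1 := by
      rw [inv_mul_cancel]; simp
    rw [Submonoid.coe_mul, Matrix.det_mul, hx, mul_one] at h1
    exact h1

theorem charpoly_inv_eq (g : symplecticGroup (Fin m) F) :
    ((g⁻¹ : symplecticGroup (Fin m) F) : Matrix (Fin m ⊕ Fin m) (Fin m ⊕ Fin m) F).charpoly =
      (g : Matrix (Fin m ⊕ Fin m) (Fin m ⊕ Fin m) F).charpoly := by
  rw [SymplecticGroup.coe_inv, Matrix.charpoly_mul_comm, ← Matrix.mul_assoc]
  have : J (Fin m) F * -J (Fin m) F = 1 := by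
    rw [Matrix.mul_neg, J_squared, neg_neg]
  rw [this, Matrix.one_mul, Matrix.charpoly_transpose]

theorem charpoly_reverse (g : symplecticGroup (Fin m) F) :
    (g : Matrix (Fin m ⊕ Fin m) (Fin m ⊕ Fin m) F).charpoly.reverse =
      (g : Matrix (Fin m ⊕ Fin m) (Fin m ⊕ Fin m) F).charpoly := by
  have h1 := charpoly_inv_eq g
  rw [SymplecticGroup.coe_inv', Matrix.charpoly_inv _
    ((Matrix.isUnit_iff_isUnit_det _).2 (by rw [det_eq_one]; exact isUnit_one)), det_eq_one,
    Ring.inverse_one] at h1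
  rw [Matrix.reverse_charpoly]
  have h2 : ((-1 : F[X]) ^ Fintype.card (Fin m ⊕ Fin m)) = 1 := by
    rw [Fintype.card_sum, Fintype.card_fin, ← two_mul, pow_mul]; simp
  rw [h2] at h1
  simpa using h1

theorem charpoly_natDegree (g : symplecticGroup (Fin m) F) :
    (g : Matrix (Fin m ⊕ Fin m) (Fin m ⊕ Fin m) F).charpoly.natDegree = 2 * m := by
  rw [Matrix.charpoly_natDegree_eq_dim, Fintype.card_sum, Fintype.card_fin, two_mul]

theorem charpoly_coeff_symm (g : symplecticGroup (Fin m) F) (k : ℕ) (hk : k ≤ 2 * m) :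
    (g : Matrix (Fin m ⊕ Fin m) (Fin m ⊕ Fin m) F).charpoly.coeff (2 * m - k) =
      (g : Matrix (Fin m ⊕ Fin m) (Fin m ⊕ Fin m) F).charpoly.coeff k := by
  have h := charpoly_reverse g
  have h2 : _ = _ := congrArg (fun f => Polynomial.coeff f k) h
  beta_reduce at h2
  rw [Polynomial.coeff_reverse, charpoly_natDegree, Polynomial.revAt_le hk] at h2
  exact h2

end Cfsg.Agent.Lib.Helper8.SpCount
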