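import Mathlib
import Cfsg.Agent.Lib.Helper8.SpSSA

/-!
# Semisimple isometries of alternating forms: irreducible pieces (helper8)

Radical dichotomy for embedded irreducible modules, the dual partner of an irreducible invariant
subspace, hyperbolic pieces, and existence of nondegenerate irreducible pieces.
-/

set_option autoImplicit false
set_option linter.unusedSectionVars false

namespace Cfsg.Agent.Lib.Helper8.SpSS

open Module Cfsg.Agent.H9.IrredOp Cfsg.Agent.H9.SemisimpleConj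

universe u v w

variable {K : Type v} [Field K]

section Irr

variable {V : Type*} [AddCommGroup V] [Module K V] [FiniteDimensional K V]
  {B : LinearMap.BilinForm K V} {A : Module.End K V}
  {W₀ : Type*} [AddCommGroup W₀] [Module K W₀] [FiniteDimensional K W₀] {a₀ : Module.End K W₀}

theorem isSemisimple_of_irred (hirr : Irred a₀) : a₀.IsSemisimple := by
  rw [Module.End.isSemisimple_iff]
  intro p hp
  rw [Module.End.mem_invtSubmodule] at hp
  rcases hirr.2 p hp with h | h
  · exact ⟨⊤, Module.End.invtSubmodule.top_mem a₀, by rw [h]; exact isCompl_bot_top⟩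
  · exact ⟨⊥, Module.End.invtSubmodule.bot_mem a₀, by rw [h]; exact isCompl_top_bot⟩

theorem rad_dichotomy (hinv : ∀ x y, B (A x) (A y) = B x y) (hirr : Irred a₀)
    (ha : Function.Surjective a₀) (ι : W₀ →ₗ[K] V) (hι : ∀ w, A (ι w) = ι (a₀ w)) :
    (∀ x y, B (ι x) (ι y) = 0) ∨ (∀ x, (∀ y, B (ι x) (ι y) = 0) → x = 0) := by
  set R : Submodule K W₀ := LinearMap.ker (B.compl₁₂ ι ι) with hR
  have hmem : ∀ x, x ∈ R ↔ ∀ y, B (ι x) (ι y) = 0 := by
    intro x
    rw [hR, LinearMap.mem_ker, LinearMap.ext_iff]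
    simp only [LinearMap.compl₁₂_apply, LinearMap.zero_apply]
  have hRinv : R ≤ R.comap a₀ := by
    intro x hx
    rw [Submodule.mem_comap, hmem]
    intro y
    obtain ⟨y', rfl⟩ := ha y
    rw [← hι, ← hι, hinv]
    exact (hmem x).1 hx y'
  rcases hirr.2 R hRinv with h0 | h1
  · right
    intro x hx
    have h2 : x ∈ R := (hmem x).2 hx
    rw [h0] at h2
    exact (Submodule.mem_bot K).1 h2
  · left
    intro x y
    exact (hmem x).1 (by rw [h1]; exact Submodule.mem_top) y

theorem sq_ne_one (hirr : Irred a₀) {B₀ : LinearMap.BilinForm K W₀} (halt : B₀.IsAlt)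
    (hsep : ∀ x, (∀ y, B₀ x y = 0) → x = 0) : a₀ * a₀ ≠ 1 := by
  intro hsq
  have hnt : Nontrivial W₀ := hirr.1
  have hpm : a₀ = 1 ∨ a₀ = -1 := by
    by_cases h1 : a₀ - 1 = 0
    · left; exact sub_eq_zero.1 h1
    · right
      have hcomm : Commute (a₀ - 1) a₀ := (Commute.refl a₀).sub_left (Commute.one_left a₀)
      have hbij := hirr.bijective_of_commute hcomm h1
      have hprod : (a₀ + 1) * (a₀ - 1) = 0 := by
        have e : (a₀ + 1) * (a₀ - 1) = a₀ * a₀ - 1 := by noncomm_ring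
        rw [e, hsq, sub_self]
      have h2 : a₀ + 1 = 0 := by
        apply LinearMap.ext
        intro v
        obtain ⟨u, rfl⟩ := hbij.2 v
        have h3 := LinearMap.congr_fun hprod u
        rw [Module.End.mul_apply] at h3
        exact h3
      exact eq_neg_of_add_eq_zero_left h2
  obtain ⟨w, hw⟩ := exists_ne (0 : W₀)
  have hspan : (K ∙ w) ≤ (K ∙ w).comap a₀ := by
    intro x hx
    rw [Submodule.mem_comap]
    rcases hpm with h | h
    · rw [h]; exact hx
    · rw [h, LinearMap.neg_apply]; exact (K ∙ w).neg_mem hx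
  rcases hirr.2 _ hspan with h0 | h1
  · exact hw ((Submodule.span_singleton_eq_bot).1 h0)
  · apply hw
    apply hsep
    intro y
    have hy : y ∈ K ∙ w := by rw [h1]; exact Submodule.mem_top
    obtain ⟨c, rfl⟩ := Submodule.mem_span_singleton.1 hy
    rw [map_smul, smul_eq_mul, halt.self_eq_zero, mul_zero]

theorem minpoly_dvd_charpoly_of_emb (ι : W₀ →ₗ[K] V) (hinj : Function.Injective ι)
    (hι : ∀ w, A (ι w) = ι (a₀ w)) : minpoly K a₀ ∣ A.charpoly := by
  refine dvd_trans (minpoly.dvd K a₀ ?_) (LinearMap.minpoly_dvd_charpoly A)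
  apply LinearMap.ext
  intro w
  apply hinj
  rw [← aeval_intertwine a₀ A ι hι, minpoly.aeval]
  simp

/-- the dual partner of an embedded module -/
theorem exists_partner (h : IsSpOp B A) (ι : W₀ →ₗ[K] V) (hinj : Function.Injective ι)
    (hι : ∀ w, A (ι w) = ι (a₀ w)) (a₀i : Module.End K W₀) (hai : ∀ w, a₀ (a₀i w) = w) :
    ∃ (U : Submodule K V) (hU : U ≤ U.comap A) (δ : U ≃ₗ[K] Module.Dual K W₀),
      IsCompl (B.orthogonal (LinearMap.range ι)) U ∧ (∀ u x, δ u x = B (ι x) u) ∧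
      (∀ u, δ (A.restrict hU u) = a₀i.dualMap (δ u)) := by
  set W := LinearMap.range ι with hWdef
  have hW : W ≤ W.comap A := by
    rintro _ ⟨x, rfl⟩
    exact ⟨a₀ x, (hι x).symm⟩
  obtain ⟨U, hUinv, hc⟩ := Module.End.isSemisimple_iff.1 h.ss _
    ((Module.End.mem_invtSubmodule A).2 (h.orth_invt hW))
  rw [Module.End.mem_invtSubmodule] at hUinv
  let δ₀ : U →ₗ[K] Module.Dual K W₀ := (LinearMap.lcomp K K ι) ∘ₗ B.flip ∘ₗ U.subtype
  have hδ₀ : ∀ (u : U) (x : W₀), δ₀ u x = B (ι x) u := fun u x => rfl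
  have hδinj : Function.Injective δ₀ := by
    rw [← LinearMap.ker_eq_bot, LinearMap.ker_eq_bot']
    intro u hu
    have h1 : (u : V) ∈ B.orthogonal W := by
      rw [LinearMap.BilinForm.mem_orthogonal_iff]
      rintro _ ⟨x, rfl⟩
      have h3 := LinearMap.congr_fun hu x
      rw [hδ₀] at h3
      exact h3
    have h2 : (u : V) ∈ B.orthogonal W ⊓ U := ⟨h1, u.2⟩
    rw [hc.inf_eq_bot, Submodule.mem_bot] at h2
    exact Subtype.ext h2
  have hdim : finrank K U = finrank K (Module.Dual K W₀) := by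
    rw [Subspace.dual_finrank_eq]
    have h1 := Submodule.finrank_add_eq_of_isCompl hc
    have h2 := LinearMap.BilinForm.finrank_orthogonal h.nondeg W
    have h3 : finrank K W = finrank K W₀ := LinearMap.finrank_range_of_inj hinj
    have h4 : finrank K W ≤ finrank K V := Submodule.finrank_le W
    omega
  refine ⟨U, hUinv, LinearMap.linearEquivOfInjective δ₀ hδinj hdim, hc, fun u x => ?_,
    fun u => ?_⟩
  · rw [LinearMap.linearEquivOfInjective_apply, hδ₀]
  · apply LinearMap.ext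
    intro x
    rw [LinearMap.linearEquivOfInjective_apply, LinearMap.linearEquivOfInjective_apply,
      LinearMap.dualMap_apply, hδ₀, hδ₀]
    change B (ι x) (A (u : V)) = _
    conv_lhs => rw [← hai x, ← hι]
    exact h.inv _ _

/-- the partner of an irreducible embedded module is irreducible -/
theorem partner_irred (h : IsSpOp B A) (hirr : Irred a₀) (ι : W₀ →ₗ[K] V)
    (hinj : Function.Injective ι) (hι : ∀ w, A (ι w) = ι (a₀ w)) {U : Submodule K V}
    (hU : U ≤ U.comap A) (hc : IsCompl (B.orthogonal (LinearMap.range ι)) U) :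
    Irred (A.restrict hU) := by
  set W := LinearMap.range ι with hWdef
  have hWdim : finrank K W = finrank K W₀ := LinearMap.finrank_range_of_inj hinj
  have hUdim : finrank K U = finrank K W := by
    have h1 := Submodule.finrank_add_eq_of_isCompl hc
    have h2 := LinearMap.BilinForm.finrank_orthogonal h.nondeg W
    have h4 : finrank K W ≤ finrank K V := Submodule.finrank_le W
    omega
  have hnt : Nontrivial W₀ := hirr.1
  have hW₀pos : 0 < finrank K W₀ := Module.finrank_pos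
  refine ⟨?_, ?_⟩
  · apply Module.nontrivial_of_finrank_pos (R := K)
    omega
  · intro U₁ hU₁
    by_cases h0 : U₁ = ⊥
    · left; exact h0
    right
    set U₁' : Submodule K V := U₁.map U.subtype with hU₁'def
    have hU₁'le : U₁' ≤ U := Submodule.map_subtype_le U U₁
    have hU₁'inv : U₁' ≤ U₁'.comap A := by
      rintro _ ⟨u, hu, rfl⟩
      rw [Submodule.mem_comap]
      exact ⟨A.restrict hU u, hU₁ hu, rfl⟩
    have hU₁'ne : U₁' ≠ ⊥ := by
      intro hb
      apply h0
      rw [Submodule.eq_bot_iff]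
      intro u hu
      have h3 : (U.subtype u) ∈ U₁' := ⟨u, hu, rfl⟩
      rw [hb, Submodule.mem_bot] at h3
      exact Subtype.ext h3
    set R : Submodule K W₀ := (B.orthogonal U₁').comap ι with hRdef
    have hRinv : R ≤ R.comap a₀ := by
      intro x hx
      rw [Submodule.mem_comap, hRdef, Submodule.mem_comap, ← hι]
      exact h.orth_invt hU₁'inv hx
    rcases hirr.2 R hRinv with hR | hR
    · have hdisj : W ⊓ B.orthogonal U₁' = ⊥ := by
        rw [Submodule.eq_bot_iff]
        rintro _ ⟨⟨x, rfl⟩, hx2⟩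
        have h3 : x ∈ R := hx2
        rw [hR, Submodule.mem_bot] at h3
        rw [h3, map_zero]
      have hd1 := Submodule.finrank_sup_add_finrank_inf_eq W (B.orthogonal U₁')
      rw [hdisj, finrank_bot, add_zero] at hd1
      have hd2 := LinearMap.BilinForm.finrank_orthogonal h.nondeg U₁'
      have hd3 : finrank K ↥(W ⊔ B.orthogonal U₁') ≤ finrank K V := Submodule.finrank_le _
      have hd4 : finrank K U₁' ≤ finrank K U := Submodule.finrank_mono hU₁'le
      have hd5 : finrank K U₁' ≤ finrank K V := Submodule.finrank_le _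
      have heq : U₁' = U := Submodule.eq_of_le_of_finrank_le hU₁'le (by omega)
      rw [eq_top_iff]
      intro u _
      have h3 : (u : V) ∈ U₁' := by rw [heq]; exact u.2
      obtain ⟨u', hu', hu''⟩ := h3
      have h4 : u' = u := Subtype.ext hu''
      rw [← h4]
      exact hu'
    · exfalso
      apply hU₁'ne
      rw [Submodule.eq_bot_iff]
      intro v hv
      have h1 : v ∈ B.orthogonal W := by
        rw [LinearMap.BilinForm.mem_orthogonal_iff]
        rintro _ ⟨x, rfl⟩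
        have hx : x ∈ R := by rw [hR]; exact Submodule.mem_top
        have h3 := (LinearMap.BilinForm.mem_orthogonal_iff.1 hx) v hv
        rw [h.swap, h3, neg_zero]
      have h2 : v ∈ B.orthogonal W ⊓ U := ⟨h1, hU₁'le hv⟩
      rw [hc.inf_eq_bot] at h2
      exact (Submodule.mem_bot K).1 h2

/-- a hyperbolic piece around a totally isotropic irreducible embedded module -/
theorem exists_hyp (h : IsSpOp B A) (hirr : Irred a₀) (ι : W₀ →ₗ[K] V)
    (hinj : Function.Injective ι) (hι : ∀ w, A (ι w) = ι (a₀ w)) (a₀i : Module.End K W₀)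
    (hai : ∀ w, a₀ (a₀i w) = w) (hti : ∀ x y, B (ι x) (ι y) = 0)
    (hB : ∀ (U : Submodule K V) (hU : U ≤ U.comap A), Irred (A.restrict hU) →
      ∀ x ∈ U, ∀ y ∈ U, B x y = 0) :
    ∃ j : W₀ × Module.Dual K W₀ →ₗ[K] V, (∀ p, A (j p) = j (a₀.prodMap a₀i.dualMap p)) ∧
      ∀ p q, B (j p) (j q) = q.2 p.1 - p.2 q.1 := by
  obtain ⟨U, hU, δ, hc, hδ, hδA⟩ := exists_partner h ι hinj hι a₀i hai
  have hUirr := partner_irred h hirr ι hinj hι hU hc
  have hUti := hB U hU hUirr
  let j : W₀ × Module.Dual K W₀ →ₗ[K] V :=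
    ι.coprod (U.subtype ∘ₗ (δ.symm : Module.Dual K W₀ →ₗ[K] U))
  have hj : ∀ x ξ, j (x, ξ) = ι x + ((δ.symm ξ : U) : V) := fun x ξ => by
    simp only [j, LinearMap.coprod_apply, LinearMap.comp_apply, LinearEquiv.coe_coe,
      Submodule.subtype_apply]
  refine ⟨j, ?_, ?_⟩
  · rintro ⟨x, ξ⟩
    rw [LinearMap.prodMap_apply, hj, hj, map_add, hι]
    congr 1
    have e1 := hδA (δ.symm ξ)
    rw [LinearEquiv.apply_symm_apply] at e1
    have e2 := congrArg δ.symm e1
    rw [LinearEquiv.symm_apply_apply] at e2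
    exact congrArg Subtype.val e2
  · rintro ⟨x, ξ⟩ ⟨y, η⟩
    rw [hj, hj]
    simp only [map_add, LinearMap.add_apply]
    rw [hti, hUti _ (δ.symm ξ).2 _ (δ.symm η).2]
    have e1 : B (ι x) ((δ.symm η : U) : V) = η x := by
      rw [← hδ, LinearEquiv.apply_symm_apply]
    have e2 : B ((δ.symm ξ : U) : V) (ι y) = - ξ y := by
      rw [h.swap, ← hδ, LinearEquiv.apply_symm_apply]
    rw [e1, e2]
    ring

end Irr

section Emb

variable {W₀ : Type*} [AddCommGroup W₀] [Module K W₀] [FiniteDimensional K W₀]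
  {a₀ : Module.End K W₀}
  {V' : Type u} [AddCommGroup V'] [Module K V'] [FiniteDimensional K V']
  {B' : LinearMap.BilinForm K V'} {A' : Module.End K V'}

theorem exists_emb (hirr : Irred a₀) (hss : A'.IsSemisimple)
    (hdvd : minpoly K a₀ ∣ A'.charpoly) :
    ∃ ι : W₀ →ₗ[K] V', Function.Injective ι ∧ ∀ w, A' (ι w) = ι (a₀ w) := by
  have hint : IsIntegral K a₀ := Algebra.IsIntegral.isIntegral a₀
  obtain ⟨U, C, _, _, _, _, _, _, b, Y', e, he, hb, hbq⟩ :=
    exists_split_of_dvd (minpoly K a₀) hirr.minpoly_irreducible (minpoly.monic hint)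
      (finrank K V') V' A' rfl hss hdvd
  obtain ⟨ψ, hψ⟩ := exists_equiv_of_irred hirr hb hbq.symm
  refine ⟨(e : U × C →ₗ[K] V') ∘ₗ LinearMap.inl K U C ∘ₗ (ψ : W₀ →ₗ[K] U), ?_, ?_⟩
  · intro x y hxy
    simp only [LinearMap.comp_apply, LinearEquiv.coe_coe, LinearMap.inl_apply] at hxy
    have h3 := e.injective hxy
    exact ψ.injective (Prod.ext_iff.1 h3).1
  · intro w
    simp only [LinearMap.comp_apply, LinearEquiv.coe_coe, LinearMap.inl_apply]
    rw [he, LinearMap.prodMap_apply, map_zero, hψ]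

/-- if an irreducible module carrying a nondegenerate invariant alternating form embeds, then it
embeds nondegenerately -/
theorem exists_nondeg_emb (h' : IsSpOp B' A') {B₀ : LinearMap.BilinForm K W₀}
    (h₀ : IsSpOp B₀ a₀) (hirr : Irred a₀) (ι₁ : W₀ →ₗ[K] V') (hinj : Function.Injective ι₁)
    (hι₁ : ∀ w, A' (ι₁ w) = ι₁ (a₀ w)) :
    ∃ ι' : W₀ →ₗ[K] V', (∀ w, A' (ι' w) = ι' (a₀ w)) ∧
      ∀ x, (∀ y, B' (ι' x) (ι' y) = 0) → x = 0 := by
  have hsurj := h₀.surjective
  rcases rad_dichotomy h'.inv hirr hsurj ι₁ hι₁ with hti₁ | hnd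
  swap
  · exact ⟨ι₁, hι₁, hnd⟩
  let a₀e : W₀ ≃ₗ[K] W₀ := LinearEquiv.ofBijective a₀ ⟨h₀.injective, hsurj⟩
  let a₀i : Module.End K W₀ := (a₀e.symm : W₀ →ₗ[K] W₀)
  have hai : ∀ w, a₀ (a₀i w) = w := fun w => a₀e.apply_symm_apply w
  have hia : ∀ w, a₀i (a₀ w) = w := fun w => a₀e.symm_apply_apply w
  obtain ⟨U, hU, δ, hc, hδ, hδA⟩ := exists_partner h' ι₁ hinj hι₁ a₀i hai
  let ρ₀ : W₀ →ₗ[K] Module.Dual K W₀ := B₀.flip
  have hρ₀ : ∀ x y, ρ₀ y x = B₀ x y := fun x y => rfl
  let ι₂ : W₀ →ₗ[K] V' := U.subtype ∘ₗ (δ.symm : Module.Dual K W₀ →ₗ[K] U) ∘ₗ ρ₀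
  have hι₂def : ∀ y, ι₂ y = ((δ.symm (ρ₀ y) : U) : V') := fun y => rfl
  have hι₂B : ∀ x y, B' (ι₁ x) (ι₂ y) = B₀ x y := by
    intro x y
    rw [hι₂def, ← hδ, LinearEquiv.apply_symm_apply, hρ₀]
  have hι₂ : ∀ w, A' (ι₂ w) = ι₂ (a₀ w) := by
    intro w
    rw [hι₂def, hι₂def]
    have e1 := hδA (δ.symm (ρ₀ w))
    rw [LinearEquiv.apply_symm_apply] at e1
    have e2 : a₀i.dualMap (ρ₀ w) = ρ₀ (a₀ w) := by
      apply LinearMap.ext
      intro x
      rw [LinearMap.dualMap_apply, hρ₀, hρ₀]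
      conv_rhs => rw [← hai x]
      rw [h₀.inv]
    rw [e2] at e1
    have e3 := congrArg δ.symm e1
    rw [LinearEquiv.symm_apply_apply] at e3
    exact congrArg Subtype.val e3
  rcases rad_dichotomy h'.inv hirr hsurj ι₂ hι₂ with hti₂ | hnd
  swap
  · exact ⟨ι₂, hι₂, hnd⟩
  have key : ∀ κ : Module.End K W₀, Commute κ a₀ →
      (∃ x y, B₀ x (κ y) - B₀ y (κ x) ≠ 0) →
      ∃ ι' : W₀ →ₗ[K] V', (∀ w, A' (ι' w) = ι' (a₀ w)) ∧
        ∀ x, (∀ y, B' (ι' x) (ι' y) = 0) → x = 0 := by
    rintro κ hκ ⟨x, y, hxy⟩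
    set ι₃ : W₀ →ₗ[K] V' := ι₁ + ι₂ ∘ₗ κ with hι₃def
    have hι₃ : ∀ w, A' (ι₃ w) = ι₃ (a₀ w) := by
      intro w
      simp only [hι₃def, LinearMap.add_apply, LinearMap.comp_apply, map_add]
      rw [hι₁, hι₂]
      have h3 := LinearMap.congr_fun hκ.eq w
      rw [Module.End.mul_apply, Module.End.mul_apply] at h3
      rw [h3]
    have hform : ∀ x y, B' (ι₃ x) (ι₃ y) = B₀ x (κ y) - B₀ y (κ x) := by
      intro x y
      simp only [hι₃def, LinearMap.add_apply, LinearMap.comp_apply, map_add]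
      rw [hti₁, hti₂, hι₂B, h'.swap, hι₂B]
      ring
    rcases rad_dichotomy h'.inv hirr hsurj ι₃ hι₃ with hti₃ | hnd
    · exfalso
      apply hxy
      rw [← hform, hti₃]
    · exact ⟨ι₃, hι₃, hnd⟩
  have hnt : Nontrivial W₀ := hirr.1
  by_cases h2 : (2 : K) = 0
  · apply key a₀ (Commute.refl a₀)
    have hne : a₀ + a₀i ≠ 0 := by
      intro h0
      apply sq_ne_one hirr h₀.alt h₀.sep
      apply LinearMap.ext
      intro w
      have h3 := LinearMap.congr_fun h0 (a₀ w)
      rw [LinearMap.add_apply, hia, LinearMap.zero_apply] at h3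
      rw [Module.End.mul_apply, Module.End.one_apply]
      have h4 : (2 : K) • w = 0 := by rw [h2, zero_smul]
      rw [two_smul] at h4
      have h5 : a₀ (a₀ w) = - w := eq_neg_of_add_eq_zero_left h3
      have h6 : (- w : W₀) = w := neg_eq_of_add_eq_zero_left h4
      rw [h5, h6]
    obtain ⟨y, hy⟩ : ∃ y, (a₀ + a₀i) y ≠ 0 := by
      by_contra hcon
      apply hne
      apply LinearMap.ext
      intro y
      by_contra hy
      exact hcon ⟨y, hy⟩
    obtain ⟨x, hx⟩ : ∃ x, B₀ x ((a₀ + a₀i) y) ≠ 0 := by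
      by_contra hcon
      apply hy
      apply h₀.sep
      intro x
      rw [h₀.swap, neg_eq_zero]
      by_contra hx
      exact hcon ⟨x, hx⟩
    refine ⟨x, y, ?_⟩
    have e1 : B₀ y (a₀ x) = - B₀ x (a₀i y) := by
      rw [h₀.swap]
      congr 1
      conv_lhs => rw [← hai y]
      rw [h₀.inv]
    rw [e1, sub_neg_eq_add, ← map_add]
    exact hx
  · apply key 1 (Commute.one_left a₀)
    obtain ⟨w, hw⟩ := exists_ne (0 : W₀)
    obtain ⟨y, hy⟩ : ∃ y, B₀ w y ≠ 0 := by
      by_contra hcon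
      apply hw
      apply h₀.sep
      intro y
      by_contra hy
      exact hcon ⟨y, hy⟩
    refine ⟨w, y, ?_⟩
    rw [Module.End.one_apply, Module.End.one_apply, h₀.swap w y, sub_neg_eq_add]
    intro h3
    apply hy
    have h4 : (2 : K) * B₀ w y = 0 := by rw [two_mul]; exact h3
    rcases mul_eq_zero.1 h4 with h5 | h5
    · exact absurd h5 h2
    · exact h5

end Emb

end Cfsg.Agent.Lib.Helper8.SpSS
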