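import Mathlib
import Cfsg.Agent.Lib.Helper8.SpSSD
import Cfsg.Agent.Lib.Helper5.Symp

/-!
# Semisimple symplectic matrices over a finite field with the same characteristic polynomial are
conjugate in the symplectic group (helper8)
-/

set_option autoImplicit false
set_option linter.unusedSectionVars false

namespace Cfsg.Agent.Lib.Helper8.SpSS

open Module Matrix Cfsg Cfsg.Agent.Lib.Helper5.Symp

variable {F : Type*} [Field F] {m : ℕ}

/-- the standard symplectic form as a bilinear form -/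
noncomputable def stdForm (F : Type*) [Field F] (m : ℕ) :
    LinearMap.BilinForm F (Fin m ⊕ Fin m → F) :=
  Matrix.toBilin' (J (Fin m) F)

theorem stdForm_apply (u v : Fin m ⊕ Fin m → F) : stdForm F m u v = sympForm m F u v := by
  unfold stdForm
  rw [Matrix.toBilin'_apply']
  rfl

theorem isSpOp_of_mem {g : Matrix (Fin m ⊕ Fin m) (Fin m ⊕ Fin m) F}
    (hg : g ∈ symplecticGroup (Fin m) F) (hss : Module.End.IsSemisimple (Matrix.toLin' g)) :
    IsSpOp (stdForm F m) (Matrix.toLin' g) := by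
  refine ⟨fun x => ?_, fun x hx => ?_, fun x y => ?_, hss⟩
  · rw [stdForm_apply]
    exact sympForm_self m x
  · have hJ : (J (Fin m) F).det ≠ 0 := (isUnit_det_J (Fin m) F).ne_zero
    apply (Matrix.nondegenerate_of_det_ne_zero hJ).eq_zero_of_ortho
    intro w
    have := hx w
    rw [stdForm_apply] at this
    exact this
  · rw [stdForm_apply, stdForm_apply, Matrix.toLin'_apply, Matrix.toLin'_apply]
    exact sympForm_of_mem m hg x y

/-- semisimple symplectic matrices with the same characteristic polynomial are conjugate in the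
symplectic group -/
theorem isConj_of_charpoly_eq [Finite F] (g h : symplecticGroup (Fin m) F)
    (hg : Module.End.IsSemisimple (Matrix.toLin' (g : Matrix (Fin m ⊕ Fin m) (Fin m ⊕ Fin m) F)))
    (hh : Module.End.IsSemisimple (Matrix.toLin' (h : Matrix (Fin m ⊕ Fin m) (Fin m ⊕ Fin m) F)))
    (hc : (g : Matrix (Fin m ⊕ Fin m) (Fin m ⊕ Fin m) F).charpoly =
      (h : Matrix (Fin m ⊕ Fin m) (Fin m ⊕ Fin m) F).charpoly) : IsConj g h := by
  have h1 := isSpOp_of_mem g.2 hg
  have h2 := isSpOp_of_mem h.2 hh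
  obtain ⟨φ, hφ, hφB⟩ := main h1 h2 (by rw [Matrix.charpoly_toLin', Matrix.charpoly_toLin', hc])
  set c : Matrix (Fin m ⊕ Fin m) (Fin m ⊕ Fin m) F :=
    LinearMap.toMatrix' (φ : (Fin m ⊕ Fin m → F) →ₗ[F] (Fin m ⊕ Fin m → F)) with hcdef
  have hcv : ∀ x, c *ᵥ x = φ x := by
    intro x
    rw [hcdef, ← Matrix.toLin'_apply, Matrix.toLin'_toMatrix']
    rfl
  have hcmem : c ∈ symplecticGroup (Fin m) F := by
    apply mem_of_sympForm
    intro u v
    rw [hcv, hcv, ← stdForm_apply, ← stdForm_apply, hφB]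
  have hcomm : c * (g : Matrix (Fin m ⊕ Fin m) (Fin m ⊕ Fin m) F) =
      (h : Matrix (Fin m ⊕ Fin m) (Fin m ⊕ Fin m) F) * c := by
    apply Matrix.toLin'.injective
    apply LinearMap.ext
    intro x
    rw [Matrix.toLin'_mul, Matrix.toLin'_mul, LinearMap.comp_apply, LinearMap.comp_apply,
      Matrix.toLin'_apply c, Matrix.toLin'_apply c, hcv, hcv, hφ]
  rw [isConj_iff]
  refine ⟨⟨c, hcmem⟩, ?_⟩
  rw [mul_inv_eq_iff_eq_mul]
  apply Subtype.ext
  exact hcomm

theorem natCast_ne_zero_of_coprime (p : ℕ) [Fact p.Prime] [CharP F p] (k : ℕ)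
    (hk : k.Coprime p) : (k : F) ≠ 0 := by
  intro h0
  rw [CharP.cast_eq_zero_iff F p] at h0
  have := Nat.Coprime.eq_one_of_dvd hk.symm h0
  exact (Fact.out : p.Prime).one_lt.ne' this

theorem isSemisimple_of_orderOf_coprime (p : ℕ) [Fact p.Prime] [CharP F p]
    (g : symplecticGroup (Fin m) F) (hg : (orderOf g).Coprime p) :
    Module.End.IsSemisimple
      (Matrix.toLin' (g : Matrix (Fin m ⊕ Fin m) (Fin m ⊕ Fin m) F)) := by
  apply Cfsg.Agent.H9.SemisimpleConj.isSemisimple_of_pow_eq_one _ (orderOf g)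
    (natCast_ne_zero_of_coprime p _ hg)
  rw [← SubmonoidClass.coe_pow, pow_orderOf_eq_one]
  rfl

end Cfsg.Agent.Lib.Helper8.SpSS
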