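import Mathlib
import Cfsg.Prelude.Def_OddOrderLocal
import Cfsg.Agent.H1.FrobPkg
import Cfsg.Agent.H1.Card

set_option autoImplicit false
set_option linter.unusedVariables false
set_option linter.unusedSectionVars false
set_option linter.style.haveILetI false

namespace Cfsg.Agent.Lib.Helper8.PF7

/-- The hypotheses of S1526 (Peterfalvi (7.11)) bundled: pairs `H i ⊴ L i` of Frobenius type,
pairwise coprime, TI with normaliser `L i`, whose conjugates cover `G`. -/
structure PartData {G : Type*} [Group G] {ι : Type*} (L H : ι → Subgroup G) : Prop where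
  hHL : ∀ i, H i < L i
  hH1 : ∀ i, H i ≠ ⊥
  hHn : ∀ i, ∀ x ∈ L i, ∀ h ∈ H i, x * h * x⁻¹ ∈ H i
  hfrob : ∀ i, ∀ h ∈ H i, h ≠ 1 → L i ⊓ Subgroup.centralizer ({h} : Set G) ≤ H i
  hcop : ∀ i j, i ≠ j → Nat.Coprime (Nat.card (H i)) (Nat.card (H j))
  hTI : ∀ i, Cfsg.IsTISubset (H i : Set G) ∧ Subgroup.normalizer (H i : Set G) = L i
  hcover : ∀ g : G, g ≠ 1 → ∃ i, ∃ x : G, x * g * x⁻¹ ∈ H i

namespace PartData

variable {G : Type*} [Group G] {ι : Type*} {L H : ι → Subgroup G}

/-- (0.1') TI: a conjugating element between non-identity elements of `H i` lies in `L i`. -/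
theorem mem_L_of_conj (P : PartData L H) {i : ι} {x g : G} (hx : x ∈ H i) (hx1 : x ≠ 1)
    (hg : g * x * g⁻¹ ∈ H i) : g ∈ L i := by
  by_contra hgL
  apply hx1
  refine (P.hTI i).1 g ?_ x hx hg
  rw [(P.hTI i).2]
  exact hgL

theorem mem_L_of_conj' (P : PartData L H) {i : ι} {x g : G} (hx : x ∈ H i) (hx1 : x ≠ 1)
    (hg : g⁻¹ * x * g ∈ H i) : g ∈ L i := by
  have h1 : g⁻¹ ∈ L i := P.mem_L_of_conj hx hx1 (by rwa [inv_inv])
  simpa using (L i).inv_mem h1

/-- conjugation by elements of `L i` preserves `H i`, both ways -/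
theorem conj_mem_iff (P : PartData L H) {i : ι} {l x : G} (hl : l ∈ L i) :
    l * x * l⁻¹ ∈ H i ↔ x ∈ H i := by
  constructor
  · intro h
    have := P.hHn i l⁻¹ ((L i).inv_mem hl) _ h
    have e : l⁻¹ * (l * x * l⁻¹) * l⁻¹⁻¹ = x := by group
    rwa [e] at this
  · intro h
    exact P.hHn i l hl x h

/-- (0.1) the centralizer in `G` of a non-identity element of `H i` lies in `H i`. -/
theorem centralizer_le (P : PartData L H) {i : ι} {x : G} (hx : x ∈ H i) (hx1 : x ≠ 1) :
    Subgroup.centralizer ({x} : Set G) ≤ H i := by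
  intro g hg
  have hg' : g * x = x * g := Subgroup.mem_centralizer_singleton_iff.mp hg
  have hgL : g ∈ L i := by
    apply P.mem_L_of_conj hx hx1
    have : g * x * g⁻¹ = x := by rw [hg']; group
    rw [this]; exact hx
  exact P.hfrob i x hx hx1 ⟨hgL, hg⟩

theorem H_le_L (P : PartData L H) (i : ι) : H i ≤ L i := (P.hHL i).le

/-- non-identity elements of `H i` and `H j`, `i ≠ j`, are never conjugate -/
theorem eq_of_conj_mem (P : PartData L H) [Finite G] {i j : ι} {x g : G} (hx : x ∈ H i) (hx1 : x ≠ 1)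
    (hg : g * x * g⁻¹ ∈ H j) : i = j := by
  by_contra hij
  apply hx1
  have h1 : orderOf x ∣ Nat.card (H i) := by
    have := Subgroup.orderOf_dvd_natCard (H i) hx
    exact this
  have h2 : orderOf x ∣ Nat.card (H j) := by
    have e : orderOf (g * x * g⁻¹) = orderOf x := by
      have := orderOf_injective (MulAut.conj g).toMonoidHom (MulAut.conj g).injective x
      simpa [MulAut.conj_apply] using this
    rw [← e]
    exact Subgroup.orderOf_dvd_natCard (H j) hg
  have h3 : orderOf x ∣ 1 := by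
    have := Nat.dvd_gcd h1 h2
    rwa [(P.hcop i j hij)] at this
  exact orderOf_eq_one_iff.mp (Nat.dvd_one.mp h3)

end PartData

/-- if `d` divides the index of every point stabilizer then `d` divides the size of the set -/
theorem dvd_card_of_dvd_index_stabilizer {M α : Type*} [Group M] [MulAction M α] [Finite α] (d : ℕ)
    (h : ∀ b : α, d ∣ (MulAction.stabilizer M b).index) : d ∣ Nat.card α := by
  classical
  haveI : Fintype (MulAction.orbitRel.Quotient M α) := Fintype.ofFinite _
  rw [Nat.card_congr (MulAction.selfEquivSigmaOrbits M α), Nat.card_sigma]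
  apply Finset.dvd_sum
  intro ω _
  rw [Nat.card_coe_set_eq, ← MulAction.index_stabilizer]
  exact h _

namespace PartData

variable {G : Type*} [Group G] {ι : Type*} {L H : ι → Subgroup G}

/-- conjugation action of `L i` on `H i ∖ {1}` -/
@[reducible] def conjAct (P : PartData L H) (i : ι) : MulAction ↥(L i) {x : G // x ∈ H i ∧ x ≠ 1} where
  smul l x := ⟨(l : G) * x.1 * (l : G)⁻¹, P.hHn i l l.2 x.1 x.2.1, by
      intro h
      apply x.2.2
      calc x.1 = (l : G)⁻¹ * ((l : G) * x.1 * (l : G)⁻¹) * l := by group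
        _ = 1 := by rw [h]; group⟩
  one_smul x := by
    apply Subtype.ext
    show ((1 : ↥(L i)) : G) * x.1 * ((1 : ↥(L i)) : G)⁻¹ = x.1
    simp
  mul_smul a b x := by
    apply Subtype.ext
    show ((a * b : ↥(L i)) : G) * x.1 * ((a * b : ↥(L i)) : G)⁻¹
      = (a : G) * ((b : G) * x.1 * (b : G)⁻¹) * (a : G)⁻¹
    simp only [Subgroup.coe_mul]
    group

theorem card_nonid [Finite G] (i : ι) :
    Nat.card {x : G // x ∈ H i ∧ x ≠ 1} = Nat.card (H i) - 1 := by
  classical
  have e : {x : G // x ∈ H i ∧ x ≠ 1} ≃ {y : ↥(H i) // y ≠ 1} :=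
    { toFun := fun x => ⟨⟨x.1, x.2.1⟩, fun h => x.2.2 (by simpa using congrArg Subtype.val h)⟩
      invFun := fun y => ⟨y.1.1, y.1.2, fun h => y.2 (Subtype.ext h)⟩
      left_inv := fun x => rfl
      right_inv := fun y => rfl }
  rw [Nat.card_congr e]
  haveI : Fintype ↥(H i) := Fintype.ofFinite _
  rw [Nat.card_eq_fintype_card, Fintype.card_subtype_compl, Fintype.card_subtype_eq, Nat.card_eq_fintype_card]

/-- (0.3) `e_i ∣ h_i - 1`. -/
theorem relIndex_dvd_pred (P : PartData L H) [Finite G] (i : ι) :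
    (H i).relIndex (L i) ∣ Nat.card (H i) - 1 := by
  letI := P.conjAct i
  rw [← card_nonid (H := H) i]
  apply dvd_card_of_dvd_index_stabilizer (M := ↥(L i))
  intro b
  have hle : MulAction.stabilizer ↥(L i) b ≤ (H i).subgroupOf (L i) := by
    intro l hl
    rw [MulAction.mem_stabilizer_iff] at hl
    have h1 : (l : G) * b.1 * (l : G)⁻¹ = b.1 := congrArg Subtype.val hl
    rw [Subgroup.mem_subgroupOf]
    apply P.hfrob i b.1 b.2.1 b.2.2
    refine ⟨l.2, ?_⟩
    show (l : G) ∈ Subgroup.centralizer {b.1}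
    rw [Subgroup.mem_centralizer_singleton_iff]
    calc (l : G) * b.1 = ((l : G) * b.1 * (l : G)⁻¹) * l := by group
      _ = b.1 * l := by rw [h1]
  exact Subgroup.index_dvd_of_le hle

theorem card_H_pos [Finite G] (i : ι) : 0 < Nat.card (H i) := Nat.card_pos

theorem one_lt_card_H (P : PartData L H) [Finite G] (i : ι) : 1 < Nat.card (H i) :=
  (Subgroup.one_lt_card_iff_ne_bot (H i)).mpr (P.hH1 i)

/-- `h_i = 1 + e_i t_i` with `t_i := (h_i - 1)/e_i`. -/
theorem card_H_eq (P : PartData L H) [Finite G] (i : ι) :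
    Nat.card (H i) = 1 + (H i).relIndex (L i) * ((Nat.card (H i) - 1) / (H i).relIndex (L i)) := by
  have h1 := Nat.mul_div_cancel' (P.relIndex_dvd_pred i)
  have h2 := P.one_lt_card_H i
  omega

/-- (0.2) `gcd(h_i, e_i) = 1`. -/
theorem coprime_card_relIndex (P : PartData L H) [Finite G] (i : ι) :
    (Nat.card (H i)).Coprime ((H i).relIndex (L i)) := by
  have h1 := P.card_H_eq i
  rw [h1]
  simp

theorem card_L (P : PartData L H) (i : ι) :
    Nat.card (L i) = (H i).relIndex (L i) * Nat.card (H i) :=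
  Cfsg.Agent.H1.card_eq_relIndex_mul_card (P.H_le_L i)

theorem relIndex_ne_one (P : PartData L H) (i : ι) : (H i).relIndex (L i) ≠ 1 := by
  intro h
  have : L i ≤ H i := Subgroup.relIndex_eq_one.mp h
  exact absurd (lt_of_lt_of_le (P.hHL i) this) (lt_irrefl _)

theorem relIndex_dvd_card_G (P : PartData L H) (i : ι) : (H i).relIndex (L i) ∣ Nat.card G :=
  (Subgroup.relIndex_dvd_card (H i) (L i)).trans (Subgroup.card_subgroup_dvd_card (L i))

/-- (0.3) `e_i` is odd and at least `3`. -/
theorem odd_relIndex (P : PartData L H) (hodd : Odd (Nat.card G)) (i : ι) :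
    Odd ((H i).relIndex (L i)) :=
  Odd.of_dvd_nat hodd (P.relIndex_dvd_card_G i)

theorem three_le_relIndex (P : PartData L H) [Finite G] (hodd : Odd (Nat.card G)) (i : ι) :
    3 ≤ (H i).relIndex (L i) := by
  have h1 := P.odd_relIndex hodd i
  have h2 := P.relIndex_ne_one i
  obtain ⟨k, hk⟩ := h1
  omega

theorem odd_card_H (hodd : Odd (Nat.card G)) (i : ι) : Odd (Nat.card (H i)) :=
  Odd.of_dvd_nat hodd (Subgroup.card_subgroup_dvd_card (H i))

/-- (0.3) `t_i = (h_i - 1)/e_i` is even and at least `2`. -/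
theorem even_t (P : PartData L H) [Finite G] (hodd : Odd (Nat.card G)) (i : ι) :
    Even ((Nat.card (H i) - 1) / (H i).relIndex (L i)) := by
  have h1 := P.card_H_eq i
  have h2 := P.odd_relIndex hodd i
  have h3 := odd_card_H (H := H) hodd i
  by_contra hne
  rw [Nat.not_even_iff_odd] at hne
  have h4 : Odd ((H i).relIndex (L i) * ((Nat.card (H i) - 1) / (H i).relIndex (L i))) :=
    h2.mul hne
  have h5 : Even (1 + (H i).relIndex (L i) * ((Nat.card (H i) - 1) / (H i).relIndex (L i))) :=
    Odd.add_odd odd_one h4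
  rw [← h1] at h5
  exact (Nat.not_even_iff_odd.mpr h3) h5

theorem two_le_t (P : PartData L H) [Finite G] (hodd : Odd (Nat.card G)) (i : ι) :
    2 ≤ (Nat.card (H i) - 1) / (H i).relIndex (L i) := by
  have h1 := P.card_H_eq i
  have h2 := P.even_t hodd i
  have h3 := P.one_lt_card_H i
  obtain ⟨k, hk⟩ := h2
  rcases Nat.eq_zero_or_pos k with rfl | hk0
  · rw [hk] at h1
    omega
  · omega

/-- (0.2) Thompson: `H i` is nilpotent. -/
theorem nilpotent_H (P : PartData L H) [Finite G] (i : ι) : Group.IsNilpotent ↥(H i) := by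
  obtain ⟨q, hq, hqe⟩ := Nat.exists_prime_and_dvd (P.relIndex_ne_one i)
  haveI : Fact q.Prime := ⟨hq⟩
  have hqL : q ∣ Nat.card ↥(L i) := hqe.trans (Subgroup.relIndex_dvd_card (H i) (L i))
  obtain ⟨w, hw⟩ := exists_prime_orderOf_dvd_card' q hqL
  have hwH : (w : G) ∉ H i := by
    intro hmem
    have h1 : orderOf (w : G) ∣ Nat.card (H i) := Subgroup.orderOf_dvd_natCard (H i) hmem
    rw [Subgroup.orderOf_coe, hw] at h1
    have h2 := Nat.dvd_gcd h1 hqe
    rw [P.coprime_card_relIndex i] at h2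
    exact hq.one_lt.ne' (Nat.dvd_one.mp h2)
  apply Cfsg.Agent.H1.nilpotent_of_prime_order_fpf (H i) (w : G) _ hq
  · have : (w : G) ^ q = ((w ^ q : ↥(L i)) : G) := by simp
    rw [this, ← hw, pow_orderOf_eq_one]; rfl
  · intro y hy hcomm
    by_contra hy1
    apply hwH
    apply P.hfrob i y hy hy1
    refine ⟨w.2, ?_⟩
    show (w : G) ∈ Subgroup.centralizer {y}
    rw [Subgroup.mem_centralizer_singleton_iff]
    exact hcomm
  · rw [(P.hTI i).2]; exact w.2

/-- `H i` as a normal subgroup of the group `↥(L i)` -/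
theorem normal_subgroupOf (P : PartData L H) (i : ι) : ((H i).subgroupOf (L i)).Normal := by
  constructor
  intro n hn g
  rw [Subgroup.mem_subgroupOf] at hn ⊢
  simpa using P.hHn i g g.2 n hn

/-- (0.2) Schur–Zassenhaus: a complement `W` of `H i` in the group `↥(L i)`, acting without
fixed points on `H i`. -/
theorem exists_complement (P : PartData L H) [Finite G] (i : ι) :
    ∃ W : Subgroup ↥(L i), Subgroup.IsComplement' ((H i).subgroupOf (L i)) W ∧
      Nat.card W = (H i).relIndex (L i) ∧ W ≠ ⊥ ∧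
      (∀ w ∈ W, w ≠ 1 → ∀ n ∈ (H i).subgroupOf (L i), w * n = n * w → n = 1) := by
  haveI := P.normal_subgroupOf i
  have hcop : Nat.Coprime (Nat.card ((H i).subgroupOf (L i))) ((H i).subgroupOf (L i)).index := by
    have h1 : Nat.card ((H i).subgroupOf (L i)) = Nat.card (H i) :=
      Nat.card_congr (Subgroup.subgroupOfEquivOfLe (P.H_le_L i)).toEquiv
    rw [h1]
    exact P.coprime_card_relIndex i
  obtain ⟨W, hW⟩ := Subgroup.exists_right_complement'_of_coprime hcop
  have hcard : Nat.card W = (H i).relIndex (L i) := by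
    have h1 := hW.symm.index_eq_card
    exact h1.symm
  have hdisj : ∀ x : ↥(L i), x ∈ (H i).subgroupOf (L i) → x ∈ W → x = 1 := by
    intro x h1 h2
    have := hW.disjoint
    rw [Subgroup.disjoint_def] at this
    exact this h1 h2
  refine ⟨W, hW, hcard, ?_, ?_⟩
  · intro h
    rw [h, Subgroup.card_bot] at hcard
    exact P.relIndex_ne_one i hcard.symm
  · intro w hw hw1 n hn hcomm
    by_contra hn1
    apply hw1
    apply hdisj w _ hw
    rw [Subgroup.mem_subgroupOf] at hn ⊢
    have hn1' : (n : G) ≠ 1 := fun h => hn1 (Subtype.ext h)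
    apply P.hfrob i (n : G) hn hn1'
    refine ⟨w.2, ?_⟩
    show (w : G) ∈ Subgroup.centralizer {(n : G)}
    rw [Subgroup.mem_centralizer_singleton_iff]
    exact congrArg Subtype.val hcomm

end PartData

end Cfsg.Agent.Lib.Helper8.PF7
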