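import Mathlib
import Cfsg.Prelude.Def_OddOrderLocal
import Cfsg.Agent.H1.FrobPkg
import Cfsg.Agent.H1.Card
import Cfsg.Agent.Lib.Helper8.PF7A

set_option autoImplicit false
set_option linter.unusedVariables false
set_option linter.unusedSectionVars false
set_option linter.style.haveILetI false

namespace Cfsg.Agent.Lib.Helper8.PF7

/-- ONE pair `H < L` of S1526-type: `H ⊴ L`, centraliser condition, `H` a TI-subset with normaliser
`L`.  (The per-index hypotheses of S1526; no covering, no coprimality.) -/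
structure PairData {G : Type*} [Group G] (L H : Subgroup G) : Prop where
  hHL : H < L
  hH1 : H ≠ ⊥
  hHn : ∀ x ∈ L, ∀ h ∈ H, x * h * x⁻¹ ∈ H
  hfrob : ∀ h ∈ H, h ≠ 1 → L ⊓ Subgroup.centralizer ({h} : Set G) ≤ H
  hTI : Cfsg.IsTISubset (H : Set G) ∧ Subgroup.normalizer (H : Set G) = L

/-- every index of a `PartData` gives a `PairData` -/
theorem PartData.pair {G : Type*} [Group G] {ι : Type*} {L H : ι → Subgroup G}
    (P : PartData L H) (i : ι) : PairData (L i) (H i) :=
  ⟨P.hHL i, P.hH1 i, P.hHn i, P.hfrob i, P.hTI i⟩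

namespace PairData

variable {G : Type*} [Group G] {L H : Subgroup G}

theorem H_le_L (P : PairData L H) : H ≤ L := P.hHL.le

/-- TI fusion -/
theorem mem_L_of_conj (P : PairData L H) {x g : G} (hx : x ∈ H) (hx1 : x ≠ 1)
    (hg : g * x * g⁻¹ ∈ H) : g ∈ L := by
  by_contra hgL
  apply hx1
  refine P.hTI.1 g ?_ x hx hg
  rw [P.hTI.2]
  exact hgL

/-- the centralizer in `G` of a non-identity element of `H` lies in `H`. -/
theorem centralizer_le (P : PairData L H) {x : G} (hx : x ∈ H) (hx1 : x ≠ 1) :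
    Subgroup.centralizer ({x} : Set G) ≤ H := by
  intro g hg
  have hg' : g * x = x * g := Subgroup.mem_centralizer_singleton_iff.mp hg
  have hgL : g ∈ L := by
    apply P.mem_L_of_conj hx hx1
    have : g * x * g⁻¹ = x := by rw [hg']; group
    rw [this]; exact hx
  exact P.hfrob x hx hx1 ⟨hgL, hg⟩

/-- conjugation action of `L` on `H ∖ {1}` -/
@[reducible] def conjAct (P : PairData L H) : MulAction ↥L {x : G // x ∈ H ∧ x ≠ 1} where
  smul l x := ⟨(l : G) * x.1 * (l : G)⁻¹, P.hHn l l.2 x.1 x.2.1, by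
      intro h
      apply x.2.2
      calc x.1 = (l : G)⁻¹ * ((l : G) * x.1 * (l : G)⁻¹) * l := by group
        _ = 1 := by rw [h]; group⟩
  one_smul x := by
    apply Subtype.ext
    show ((1 : ↥L) : G) * x.1 * ((1 : ↥L) : G)⁻¹ = x.1
    simp
  mul_smul a b x := by
    apply Subtype.ext
    show ((a * b : ↥L) : G) * x.1 * ((a * b : ↥L) : G)⁻¹
      = (a : G) * ((b : G) * x.1 * (b : G)⁻¹) * (a : G)⁻¹
    simp only [Subgroup.coe_mul]
    group

theorem card_nonid [Finite G] (H : Subgroup G) :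
    Nat.card {x : G // x ∈ H ∧ x ≠ 1} = Nat.card H - 1 := by
  classical
  have e : {x : G // x ∈ H ∧ x ≠ 1} ≃ {y : ↥H // y ≠ 1} :=
    { toFun := fun x => ⟨⟨x.1, x.2.1⟩, fun h => x.2.2 (by simpa using congrArg Subtype.val h)⟩
      invFun := fun y => ⟨y.1.1, y.1.2, fun h => y.2 (Subtype.ext h)⟩
      left_inv := fun x => rfl
      right_inv := fun y => rfl }
  rw [Nat.card_congr e]
  haveI : Fintype ↥H := Fintype.ofFinite _
  rw [Nat.card_eq_fintype_card, Fintype.card_subtype_compl, Fintype.card_subtype_eq,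
    Nat.card_eq_fintype_card]

/-- `|L : H| ∣ |H| - 1`. -/
theorem relIndex_dvd_pred (P : PairData L H) [Finite G] :
    H.relIndex L ∣ Nat.card H - 1 := by
  letI := P.conjAct
  rw [← card_nonid H]
  apply dvd_card_of_dvd_index_stabilizer (M := ↥L)
  intro b
  have hle : MulAction.stabilizer ↥L b ≤ H.subgroupOf L := by
    intro l hl
    rw [MulAction.mem_stabilizer_iff] at hl
    have h1 : (l : G) * b.1 * (l : G)⁻¹ = b.1 := congrArg Subtype.val hl
    rw [Subgroup.mem_subgroupOf]
    apply P.hfrob b.1 b.2.1 b.2.2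
    refine ⟨l.2, ?_⟩
    show (l : G) ∈ Subgroup.centralizer {b.1}
    rw [Subgroup.mem_centralizer_singleton_iff]
    calc (l : G) * b.1 = ((l : G) * b.1 * (l : G)⁻¹) * l := by group
      _ = b.1 * l := by rw [h1]
  exact Subgroup.index_dvd_of_le hle

theorem one_lt_card_H (P : PairData L H) [Finite G] : 1 < Nat.card H :=
  (Subgroup.one_lt_card_iff_ne_bot H).mpr P.hH1

theorem card_H_eq (P : PairData L H) [Finite G] :
    Nat.card H = 1 + H.relIndex L * ((Nat.card H - 1) / H.relIndex L) := by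
  have h1 := Nat.mul_div_cancel' P.relIndex_dvd_pred
  have h2 := P.one_lt_card_H
  omega

theorem coprime_card_relIndex (P : PairData L H) [Finite G] :
    (Nat.card H).Coprime (H.relIndex L) := by
  have h1 := P.card_H_eq
  rw [h1]
  simp

theorem relIndex_ne_one (P : PairData L H) : H.relIndex L ≠ 1 := by
  intro h
  have : L ≤ H := Subgroup.relIndex_eq_one.mp h
  exact absurd (lt_of_lt_of_le P.hHL this) (lt_irrefl _)

/-- Thompson: `H` is nilpotent. -/
theorem nilpotent_H (P : PairData L H) [Finite G] : Group.IsNilpotent ↥H := by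
  obtain ⟨q, hq, hqe⟩ := Nat.exists_prime_and_dvd P.relIndex_ne_one
  haveI : Fact q.Prime := ⟨hq⟩
  have hqL : q ∣ Nat.card ↥L := hqe.trans (Subgroup.relIndex_dvd_card H L)
  obtain ⟨w, hw⟩ := exists_prime_orderOf_dvd_card' q hqL
  have hwH : (w : G) ∉ H := by
    intro hmem
    have h1 : orderOf (w : G) ∣ Nat.card H := Subgroup.orderOf_dvd_natCard H hmem
    rw [Subgroup.orderOf_coe, hw] at h1
    have h2 := Nat.dvd_gcd h1 hqe
    rw [P.coprime_card_relIndex] at h2
    exact hq.one_lt.ne' (Nat.dvd_one.mp h2)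
  apply Cfsg.Agent.H1.nilpotent_of_prime_order_fpf H (w : G) _ hq
  · have : (w : G) ^ q = ((w ^ q : ↥L) : G) := by simp
    rw [this, ← hw, pow_orderOf_eq_one]; rfl
  · intro y hy hcomm
    by_contra hy1
    apply hwH
    apply P.hfrob y hy hy1
    refine ⟨w.2, ?_⟩
    show (w : G) ∈ Subgroup.centralizer {y}
    rw [Subgroup.mem_centralizer_singleton_iff]
    exact hcomm
  · rw [P.hTI.2]; exact w.2

theorem normal_subgroupOf (P : PairData L H) : (H.subgroupOf L).Normal := by
  constructor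
  intro n hn g
  rw [Subgroup.mem_subgroupOf] at hn ⊢
  simpa using P.hHn g g.2 n hn

/-- Schur–Zassenhaus complement inside the group `↥L`. -/
theorem exists_complement (P : PairData L H) [Finite G] :
    ∃ W : Subgroup ↥L, Subgroup.IsComplement' (H.subgroupOf L) W ∧
      Nat.card W = H.relIndex L ∧ W ≠ ⊥ ∧
      (∀ w ∈ W, w ≠ 1 → ∀ n ∈ H.subgroupOf L, w * n = n * w → n = 1) := by
  haveI := P.normal_subgroupOf
  have hcop : Nat.Coprime (Nat.card (H.subgroupOf L)) (H.subgroupOf L).index := by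
    have h1 : Nat.card (H.subgroupOf L) = Nat.card H :=
      Nat.card_congr (Subgroup.subgroupOfEquivOfLe P.H_le_L).toEquiv
    rw [h1]
    exact P.coprime_card_relIndex
  obtain ⟨W, hW⟩ := Subgroup.exists_right_complement'_of_coprime hcop
  have hcard : Nat.card W = H.relIndex L := by
    have h1 := hW.symm.index_eq_card
    exact h1.symm
  have hdisj : ∀ x : ↥L, x ∈ H.subgroupOf L → x ∈ W → x = 1 := by
    intro x h1 h2
    have := hW.disjoint
    rw [Subgroup.disjoint_def] at this
    exact this h1 h2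
  refine ⟨W, hW, hcard, ?_, ?_⟩
  · intro h
    rw [h, Subgroup.card_bot] at hcard
    exact P.relIndex_ne_one hcard.symm
  · intro w hw hw1 n hn hcomm
    by_contra hn1
    apply hw1
    apply hdisj w _ hw
    rw [Subgroup.mem_subgroupOf] at hn ⊢
    have hn1' : (n : G) ≠ 1 := fun h => hn1 (Subtype.ext h)
    apply P.hfrob (n : G) hn hn1'
    refine ⟨w.2, ?_⟩
    show (w : G) ∈ Subgroup.centralizer {(n : G)}
    rw [Subgroup.mem_centralizer_singleton_iff]
    exact congrArg Subtype.val hcomm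

/-- **All the hypotheses of S1524** for one pair: `H` nilpotent and a complement `W₁ ≤ L` in `G`
acting without fixed points. -/
theorem exists_s1524_data (P : PairData L H) [Finite G] :
    Group.IsNilpotent ↥H ∧ ∃ W₁ : Subgroup G, W₁ ≤ L ∧ W₁ ≠ ⊥ ∧ H ⊓ W₁ = ⊥ ∧ H ⊔ W₁ = L ∧
      (∀ w ∈ W₁, w ≠ 1 → ∀ h ∈ H, w * h = h * w → h = 1) := by
  refine ⟨P.nilpotent_H, ?_⟩
  obtain ⟨W, hW, -, hWne, hfpf⟩ := P.exists_complement
  refine ⟨W.map L.subtype, ?_, ?_, ?_, ?_, ?_⟩
  · exact Subgroup.map_subtype_le W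
  · intro h
    apply hWne
    exact (Subgroup.map_eq_bot_iff_of_injective W L.subtype_injective).mp h
  · rw [eq_bot_iff]
    intro x hx
    obtain ⟨hxH, hxW⟩ := hx
    obtain ⟨w, hwW, rfl⟩ := hxW
    have h1 : w ∈ H.subgroupOf L := Subgroup.mem_subgroupOf.mpr hxH
    have h2 := hW.disjoint
    rw [Subgroup.disjoint_def] at h2
    have h3 : w = 1 := h2 h1 hwW
    rw [h3]
    simp
  · have h1 := hW.sup_eq_top
    have h2 := congrArg (Subgroup.map L.subtype) h1
    rw [Subgroup.map_sup, Subgroup.subgroupOf_map_subtype, ← MonoidHom.range_eq_map,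
      Subgroup.range_subtype, inf_of_le_left P.H_le_L] at h2
    exact h2
  · intro w hw hw1 h hh hcomm
    obtain ⟨w', hw'W, rfl⟩ := hw
    have hw'1 : w' ≠ 1 := by
      intro h0
      apply hw1
      rw [h0]; simp
    have hhL : h ∈ L := P.H_le_L hh
    have := hfpf w' hw'W hw'1 ⟨h, hhL⟩ (Subgroup.mem_subgroupOf.mpr hh) (Subtype.ext hcomm)
    exact congrArg Subtype.val this

end PairData

end Cfsg.Agent.Lib.Helper8.PF7
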