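import Mathlib
import Cfsg.Agent.Lib.Helper8.GS1
import Cfsg.Agent.Lib.helper3.GNS0
import Cfsg.Agent.Lib.helper3.GlO2

/-!
# S4914, part 2 (piece A): the orbit facts for characters of the normal Sylow `p`-subgroup `Q`.
-/

set_option autoImplicit false
set_option linter.style.haveILetI false
set_option linter.unusedSectionVars false
set_option linter.unusedVariables false

namespace Cfsg.Agent.Lib.Helper8.GS

open Cfsg Cfsg.Agent.Lib.helper3.Irr Cfsg.Agent.Lib.helper3.CharBasic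
open Cfsg.Agent.Lib.helper3.Glaub Cfsg.Agent.Lib.helper3.GlP Cfsg.Agent.Lib.helper3.GlO
open Cfsg.Agent.Lib.helper3.IndFun
open Cfsg.Agent.Lib.helper3.GNS (ip res ip_eq_classInner)
open scoped ComplexConjugate

attribute [local instance] cAct

variable {G : Type*} [Group G] [Finite G]

/-- The conjugate by `m ∈ N_G(Q)` of an irreducible character, in `ConjBy` form. -/
theorem conjBy_normAction (Q : Subgroup G) (m : Subgroup.normalizer (Q : Set G))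
    (θ : IrrCharacter ↥Q) :
    letI := normAction Q
    ConjBy Q (m : G) (θ : ↥Q → ℂ) ((m • θ : IrrCharacter ↥Q) : ↥Q → ℂ) := by
  letI := normAction Q
  intro q q' hq
  rw [normAction_apply]
  apply congrArg (θ : ↥Q → ℂ)
  apply Subtype.ext
  rw [conjN_apply, hq]
  push_cast
  group

theorem exists_conjBy (Q : Subgroup G) (g : G) (hg : g ∈ Subgroup.normalizer (Q : Set G))
    (θ : IrrCharacter ↥Q) : ∃ θ' : IrrCharacter ↥Q, ConjBy Q g (θ : ↥Q → ℂ) (θ' : ↥Q → ℂ) := by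
  letI := normAction Q
  exact ⟨(⟨g, hg⟩ : Subgroup.normalizer (Q : Set G)) • θ, conjBy_normAction Q ⟨g, hg⟩ θ⟩

/-- `Q` fixes the extension by zero of a class function of `Q`. -/
theorem Q_fixes (Q : Subgroup G) (θ : ↥Q → ℂ) (hθ : IsClassFunction ↥Q θ) :
    ∀ q ∈ Q, q • extendByZero Q θ = extendByZero Q θ := by
  intro q hq
  rw [smul_extendByZero_eq_iff Q q (Subgroup.le_normalizer hq)]
  intro r r' hr
  have : r' = (⟨q, hq⟩ : ↥Q) * r * (⟨q, hq⟩ : ↥Q)⁻¹ := by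
    apply Subtype.ext
    rw [hr]
    simp
  rw [this]
  exact hθ r ⟨q, hq⟩

theorem Q_fixes_irr (Q : Subgroup G) (θ : IrrCharacter ↥Q) :
    ∀ q ∈ Q, q • extendByZero Q (θ : ↥Q → ℂ) = extendByZero Q (θ : ↥Q → ℂ) :=
  Q_fixes Q _ (isClassFunction_of_isCharacter (isCharacter_of_isIrrCharacter θ.2))

/-- Conjugation by `g ∈ N_G(Q)` preserves the inner product with a `g`-invariant function. -/
theorem ip_conjBy (Q : Subgroup G) (g : G) (hg : g ∈ Subgroup.normalizer (Q : Set G))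
    (F θ θ' : ↥Q → ℂ) (hF : ConjBy Q g F F) (hθ : ConjBy Q g θ θ') :
    ip F θ' = ip F θ := by
  classical
  letI : Fintype ↥Q := Fintype.ofFinite _
  rw [ip_eq_classInner, ip_eq_classInner]
  set σ : ↥Q ≃* ↥Q := conjN Q ⟨g, hg⟩ with hσ
  have h1 : F = fun q => F (σ q) := by
    funext q
    exact (hF q (σ q) rfl).symm
  have h2 : θ = fun q => θ' (σ q) := by
    funext q
    exact (hθ q (σ q) rfl).symm
  conv_rhs => rw [h1, h2]
  exact (classInner_comp_mulEquiv σ F θ').symm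

/-- (1e) conjugate characters of `Q` by an element of `X` have the same multiplicity in a class
function of `X`. -/
theorem ip_res_conj (X Q : Subgroup G) (hQX : Q ≤ X) (ξ : ↥X → ℂ) (hξ : IsClassFunction ↥X ξ)
    (θ θ' : ↥Q → ℂ) (c : G) (hc : c ∈ X) (hcQ : c ∈ Subgroup.normalizer (Q : Set G))
    (hconj : ∀ q q' : ↥Q, (q' : G) = c * q * c⁻¹ → θ' q' = θ q) :
    ip (res hQX ξ) θ' = ip (res hQX ξ) θ := by
  apply ip_conjBy Q c hcQ _ θ θ' _ hconj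
  intro q q' hq
  show ξ ⟨q', hQX q'.2⟩ = ξ ⟨q, hQX q.2⟩
  have : (⟨q', hQX q'.2⟩ : ↥X) = (⟨c, hc⟩ : ↥X) * ⟨q, hQX q.2⟩ * (⟨c, hc⟩ : ↥X)⁻¹ := by
    apply Subtype.ext
    rw [hq]
    simp
  rw [this]
  exact hξ _ _

/-- Invariance of the multiplicity under an element leaving `χ` invariant. -/
theorem ip_res_conj_of_pinv (P X Q : Subgroup G) (hQX : Q ≤ X) (ξ : ↥X → ℂ) (hξ : PInv P X ξ)
    (θ θ' : ↥Q → ℂ) (x : G) (hx : x ∈ P) (hxQ : x ∈ Subgroup.normalizer (Q : Set G))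
    (hconj : ConjBy Q x θ θ') :
    ip (res hQX ξ) θ' = ip (res hQX ξ) θ := by
  apply ip_conjBy Q x hxQ _ θ θ' _ hconj
  intro q q' hq
  exact hξ x hx ⟨q, hQX q.2⟩ ⟨q', hQX q'.2⟩ hq

/-- Clifford: two irreducible constituents of `χ_Q` are conjugate under `X`. -/
theorem exists_conjBy_of_over (X Q : Subgroup G) (hQX : Q ≤ X)
    (hXn : X ≤ Subgroup.normalizer (Q : Set G)) (χ : IrrCharacter ↥X) (θ θ' : IrrCharacter ↥Q)
    (h1 : ip (res hQX (χ : ↥X → ℂ)) (θ : ↥Q → ℂ) ≠ 0)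
    (h2 : ip (res hQX (χ : ↥X → ℂ)) (θ' : ↥Q → ℂ) ≠ 0) :
    ∃ k ∈ X, ConjBy Q k (θ : ↥Q → ℂ) (θ' : ↥Q → ℂ) := by
  classical
  letI : Fintype G := Fintype.ofFinite _
  letI : Fintype ↥X := Fintype.ofFinite _
  letI : Fintype ↥Q := Fintype.ofFinite _
  haveI : (Q.subgroupOf X).Normal := (Subgroup.normal_subgroupOf_iff_le_normalizer hQX).mpr hXn
  rw [ip_eq_classInner] at h1 h2
  obtain ⟨hall, -⟩ := clifford_sub X Q hQX hXn χ θ h1
  obtain ⟨g, hg⟩ := hall θ' h2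
  refine ⟨g, g.2, ?_⟩
  have := conjBy_normAction Q (Subgroup.inclusion hXn g) θ
  rw [hg] at this
  exact this

/-- Existence of an irreducible constituent of the restriction to `Q`. -/
theorem exists_under (X Q : Subgroup G) (hQX : Q ≤ X) (χ : IrrCharacter ↥X) :
    ∃ θ : IrrCharacter ↥Q, ip (res hQX (χ : ↥X → ℂ)) (θ : ↥Q → ℂ) ≠ 0 := by
  classical
  letI : Fintype ↥Q := Fintype.ofFinite _
  have hc : IsCharacter ↥Q (res hQX (χ : ↥X → ℂ)) :=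
    isCharacter_comp (isCharacter_of_isIrrCharacter χ.2) (Subgroup.inclusion hQX)
  have h0 : res hQX (χ : ↥X → ℂ) ≠ 0 := by
    intro h
    have := congrFun h 1
    exact apply_one_ne_zero χ.2 this
  obtain ⟨θ, hθ⟩ := exists_constituent hc h0
  refine ⟨θ, ?_⟩
  rw [ip_eq_classInner]
  exact hθ

section main

variable {p : ℕ} [hp : Fact p.Prime] {P K Q C : Subgroup G}

theorem pinv_iff_smul (h : Hyp p P K Q C) (θ : ↥Q → ℂ) :
    PInv P Q θ ↔ ∀ x ∈ P, x • extendByZero Q θ = extendByZero Q θ := by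
  constructor
  · intro hθ x hx
    exact (smul_extendByZero_eq_iff Q x (h.hPn hx) θ θ).mpr (hθ x hx)
  · intro hθ x hx
    exact (smul_extendByZero_eq_iff Q x (h.hPn hx) θ θ).mp (hθ x hx)

/-- (1a) a `P`-invariant irreducible character of `K` lies over a `P`-fixed character of `Q`. -/
theorem exists_fixed_under (h : Hyp p P K Q C) (χ : IrrCharacter ↥K) (hχ : PInv P K χ) :
    ∃ θ : IrrCharacter ↥Q, PInv P Q θ ∧ ip (res h.hQK (χ : ↥K → ℂ)) (θ : ↥Q → ℂ) ≠ 0 := by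
  obtain ⟨θ₀, hθ₀⟩ := exists_under K Q h.hQK χ
  have hcf := isClassFunction_of_isCharacter (isCharacter_of_isIrrCharacter χ.2)
  have hst : ∀ x ∈ P, ∃ k ∈ K, x • extendByZero Q (θ₀ : ↥Q → ℂ)
      = k • extendByZero Q (θ₀ : ↥Q → ℂ) := by
    intro x hx
    obtain ⟨θ₁, hθ₁⟩ := exists_conjBy Q x (h.hPn hx) θ₀
    have h1 : ip (res h.hQK (χ : ↥K → ℂ)) (θ₁ : ↥Q → ℂ) ≠ 0 := by
      rw [ip_res_conj_of_pinv P K Q h.hQK _ hχ _ _ x hx (h.hPn hx) hθ₁]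
      exact hθ₀
    obtain ⟨k, hk, hkc⟩ := exists_conjBy_of_over K Q h.hQK h.hKn χ θ₀ θ₁ hθ₀ h1
    refine ⟨k, hk, ?_⟩
    rw [(smul_extendByZero_eq_iff Q x (h.hPn hx) _ _).mpr hθ₁,
      (smul_extendByZero_eq_iff Q k (h.hKn hk) _ _).mpr hkc]
  obtain ⟨k, hk, hfix⟩ := h.exists_fixed_in_orbit (Q_fixes_irr Q θ₀) hst
  obtain ⟨θ, hθ⟩ := exists_conjBy Q k (h.hKn hk) θ₀
  have hE : k • extendByZero Q (θ₀ : ↥Q → ℂ) = extendByZero Q (θ : ↥Q → ℂ) :=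
    (smul_extendByZero_eq_iff Q k (h.hKn hk) _ _).mpr hθ
  refine ⟨θ, ?_, ?_⟩
  · rw [pinv_iff_smul h]
    intro x hx
    rw [← hE]
    exact hfix x hx
  · rw [ip_res_conj K Q h.hQK _ hcf _ _ k hk (h.hKn hk) hθ]
    exact hθ₀

/-- (1b) two `P`-fixed `K`-conjugate characters of `Q` are `C`-conjugate. -/
theorem exists_conj_mem_C (h : Hyp p P K Q C) (θ θ' : IrrCharacter ↥Q)
    (hθ : PInv P Q (θ : ↥Q → ℂ)) (hθ' : PInv P Q (θ' : ↥Q → ℂ)) (k : G) (hk : k ∈ K)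
    (hc : ConjBy Q k (θ : ↥Q → ℂ) (θ' : ↥Q → ℂ)) :
    ∃ c ∈ C, ConjBy Q c (θ : ↥Q → ℂ) (θ' : ↥Q → ℂ) := by
  have hka := (smul_extendByZero_eq_iff Q k (h.hKn hk) _ _).mpr hc
  obtain ⟨c, hcC, hca⟩ := h.exists_mem_C_smul_eq (Q_fixes_irr Q θ)
    ((pinv_iff_smul h _).mp hθ) ((pinv_iff_smul h _).mp hθ') hk hka
  exact ⟨c, hcC, (smul_extendByZero_eq_iff Q c (h.hCn hcC) _ _).mp hca⟩

/-- (1b), Clifford form. -/
theorem exists_conj_of_fixed (h : Hyp p P K Q C) (χ : IrrCharacter ↥K) (θ θ' : IrrCharacter ↥Q)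
    (hθ : PInv P Q (θ : ↥Q → ℂ)) (hθ' : PInv P Q (θ' : ↥Q → ℂ))
    (h1 : ip (res h.hQK (χ : ↥K → ℂ)) (θ : ↥Q → ℂ) ≠ 0)
    (h2 : ip (res h.hQK (χ : ↥K → ℂ)) (θ' : ↥Q → ℂ) ≠ 0) :
    ∃ c ∈ C, ∀ q q' : ↥Q, (q' : G) = c * q * c⁻¹ → (θ' : ↥Q → ℂ) q' = (θ : ↥Q → ℂ) q := by
  obtain ⟨k, hk, hkc⟩ := exists_conjBy_of_over K Q h.hQK h.hKn χ θ θ' h1 h2
  exact exists_conj_mem_C h θ θ' hθ hθ' k hk hkc

/-- (1c) every `Q`-constituent of a `P`-invariant irreducible character of `C` is `P`-fixed. -/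
theorem fixed_of_under (h : Hyp p P K Q C) (ξ : IrrCharacter ↥C) (hξ : PInv P C ξ)
    (θ : IrrCharacter ↥Q) (hθ : ip (res h.hQC (ξ : ↥C → ℂ)) (θ : ↥Q → ℂ) ≠ 0) :
    PInv P Q (θ : ↥Q → ℂ) := by
  rw [pinv_iff_smul h]
  apply h.fixed_of_orbit_stable (Q_fixes_irr Q θ)
  intro x hx
  obtain ⟨θ₁, hθ₁⟩ := exists_conjBy Q x (h.hPn hx) θ
  have h1 : ip (res h.hQC (ξ : ↥C → ℂ)) (θ₁ : ↥Q → ℂ) ≠ 0 := by
    rw [ip_res_conj_of_pinv P C Q h.hQC _ hξ _ _ x hx (h.hPn hx) hθ₁]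
    exact hθ
  obtain ⟨c, hc, hcc⟩ := exists_conjBy_of_over C Q h.hQC h.hCn ξ θ θ₁ hθ h1
  refine ⟨c, hc, ?_⟩
  rw [(smul_extendByZero_eq_iff Q x (h.hPn hx) _ _).mpr hθ₁,
    (smul_extendByZero_eq_iff Q c (h.hCn hc) _ _).mpr hcc]

/-- (1d) the index congruence. -/
theorem relIndex_modEq (h : Hyp p P K Q C) (θ : IrrCharacter ↥Q)
    (hθ : PInv P Q (θ : ↥Q → ℂ)) :
    (inertiaIn Q K (θ : ↥Q → ℂ)).relIndex K ≡ (inertiaIn Q C (θ : ↥Q → ℂ)).relIndex C [MOD p] :=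
  h.relIndex_modEq (Q_fixes_irr Q θ) ((pinv_iff_smul h _).mp hθ)

/-- (1f) `P` normalizes the inertia groups of a `P`-fixed character. -/
theorem conj_mem_inertiaIn_K (h : Hyp p P K Q C) (θ : ↥Q → ℂ) (hθ : PInv P Q θ) {x t : G}
    (hx : x ∈ P) (ht : t ∈ inertiaIn Q K θ) : x * t * x⁻¹ ∈ inertiaIn Q K θ := by
  have hfix := (pinv_iff_smul h θ).mp hθ
  obtain ⟨ht1, ht2⟩ := Subgroup.mem_inf.mp ht
  refine Subgroup.mem_inf.mpr ⟨?_, h.hKP hx ht2⟩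
  rw [MulAction.mem_stabilizer_iff] at ht1 ⊢
  rw [mul_smul, mul_smul, hfix _ (inv_mem hx), ht1, hfix _ hx]

theorem conj_mem_inertiaIn_C (h : Hyp p P K Q C) (θ : ↥Q → ℂ) (hθ : PInv P Q θ) {x t : G}
    (hx : x ∈ P) (ht : t ∈ inertiaIn Q C θ) : x * t * x⁻¹ ∈ inertiaIn Q C θ := by
  have hfix := (pinv_iff_smul h θ).mp hθ
  obtain ⟨ht1, ht2⟩ := Subgroup.mem_inf.mp ht
  refine Subgroup.mem_inf.mpr ⟨?_, h.hPC hx ht2⟩
  rw [MulAction.mem_stabilizer_iff] at ht1 ⊢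
  rw [mul_smul, mul_smul, hfix _ (inv_mem hx), ht1, hfix _ hx]

theorem le_normalizer_of_conj_mem (P T : Subgroup G)
    (hT : ∀ x ∈ P, ∀ t ∈ T, x * t * x⁻¹ ∈ T) : P ≤ Subgroup.normalizer (T : Set G) := by
  intro x hx
  rw [Subgroup.mem_normalizer_iff]
  intro t
  constructor
  · exact hT x hx t
  · intro ht
    have := hT x⁻¹ (inv_mem hx) _ ht
    have e : x⁻¹ * (x * t * x⁻¹) * x⁻¹⁻¹ = t := by group
    rwa [e] at this

theorem le_normalizer_inertiaIn_K (h : Hyp p P K Q C) (θ : ↥Q → ℂ) (hθ : PInv P Q θ) :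
    P ≤ Subgroup.normalizer ((inertiaIn Q K θ : Subgroup G) : Set G) :=
  le_normalizer_of_conj_mem P _ (fun x hx t ht => conj_mem_inertiaIn_K h θ hθ hx ht)

theorem le_normalizer_inertiaIn_C (h : Hyp p P K Q C) (θ : ↥Q → ℂ) (hθ : PInv P Q θ) :
    P ≤ Subgroup.normalizer ((inertiaIn Q C θ : Subgroup G) : Set G) :=
  le_normalizer_of_conj_mem P _ (fun x hx t ht => conj_mem_inertiaIn_C h θ hθ hx ht)

end main

end Cfsg.Agent.Lib.Helper8.GS
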