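import Mathlib

/-!
# Elementary lemmas on involutions and Sylow 2-subgroups

Used for the statement on simple groups with an involution whose centralizer contains at most
three involutions.
-/

set_option autoImplicit false

namespace Cfsg.Agent.Lib.Helper8.ThreeInv

section

variable {G : Type*} [Group G]

theorem four_le_card {α : Type*} [Finite α] (a b c d : α) (hab : a ≠ b) (hac : a ≠ c)
    (had : a ≠ d) (hbc : b ≠ c) (hbd : b ≠ d) (hcd : c ≠ d) : 4 ≤ Nat.card α := by
  classical
  have := Fintype.ofFinite α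
  rw [Nat.card_eq_fintype_card]
  have h : ({a, b, c, d} : Finset α).card = 4 := by
    rw [Finset.card_insert_of_notMem, Finset.card_insert_of_notMem, Finset.card_insert_of_notMem,
      Finset.card_singleton]
    · simpa using hcd
    · simp [hbc, hbd]
    · simp [hab, hac, had]
  rw [← h]
  exact Finset.card_le_univ _

theorem orderOf_two_iff {a : G} : orderOf a = 2 ↔ a * a = 1 ∧ a ≠ 1 := by
  constructor
  · intro h
    refine ⟨?_, ?_⟩
    · rw [← pow_two, ← h, pow_orderOf_eq_one]
    · rintro rfl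
      rw [orderOf_one] at h
      omega
  · rintro ⟨h1, h2⟩
    have : Fact (Nat.Prime 2) := ⟨Nat.prime_two⟩
    exact orderOf_eq_prime (by rw [pow_two, h1]) h2

theorem inv_eq_self_of_orderOf_two {a : G} (h : orderOf a = 2) : a⁻¹ = a :=
  inv_eq_of_mul_eq_one_left (orderOf_two_iff.mp h).1

theorem orderOf_conj_two {a : G} (h : orderOf a = 2) (g : G) : orderOf (g * a * g⁻¹) = 2 := by
  rw [orderOf_two_iff] at h ⊢
  refine ⟨?_, ?_⟩
  · calc g * a * g⁻¹ * (g * a * g⁻¹) = g * (a * a) * g⁻¹ := by group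
      _ = 1 := by rw [h.1]; group
  · intro h1
    apply h.2
    calc a = g⁻¹ * (g * a * g⁻¹) * g := by group
      _ = 1 := by rw [h1]; group

/-- two involutions whose product has odd order are conjugate -/
theorem isConj_of_odd {u v : G} (hu : u * u = 1) (hv : v * v = 1)
    (hodd : Odd (orderOf (u * v))) : IsConj u v := by
  obtain ⟨j, hj⟩ := hodd
  have hu' : u⁻¹ = u := inv_eq_of_mul_eq_one_left hu
  have hv' : v⁻¹ = v := inv_eq_of_mul_eq_one_left hv
  have hinv : (u * v)⁻¹ = v * u := by rw [mul_inv_rev, hu', hv']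
  have hs : SemiconjBy u (u * v)⁻¹ (u * v) := by
    change u * (u * v)⁻¹ = u * v * u
    rw [hinv, mul_assoc]
  have h1 : u * ((u * v) ^ j)⁻¹ = (u * v) ^ j * u := by
    rw [← inv_pow]
    exact hs.pow_right j
  have h2 : (u * v) ^ (2 * j) = (u * v)⁻¹ := by
    apply eq_inv_of_mul_eq_one_left
    rw [← pow_succ, ← hj]
    exact pow_orderOf_eq_one _
  rw [isConj_iff]
  refine ⟨(u * v) ^ j, ?_⟩
  calc (u * v) ^ j * u * ((u * v) ^ j)⁻¹ = (u * v) ^ j * (u * ((u * v) ^ j)⁻¹) := by group
    _ = (u * v) ^ j * ((u * v) ^ j * u) := by rw [h1]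
    _ = (u * v) ^ (2 * j) * u := by rw [two_mul, pow_add, mul_assoc]
    _ = v := by rw [h2, hinv, mul_assoc, hu, mul_one]

/-- the central involution of the dihedral group generated by two involutions whose product has
even order -/
theorem dihedral_center {a b : G} (ha : a * a = 1) (hb : b * b = 1) (k : ℕ)
    (hk : orderOf (a * b) = 2 * k) (hk0 : 0 < k) :
    orderOf ((a * b) ^ k) = 2 ∧ (a * b) ^ k * a = a * (a * b) ^ k ∧
      (a * b) ^ k * b = b * (a * b) ^ k := by
  have ha' : a⁻¹ = a := inv_eq_of_mul_eq_one_left ha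
  have hb' : b⁻¹ = b := inv_eq_of_mul_eq_one_left hb
  have hinv : (a * b)⁻¹ = b * a := by rw [mul_inv_rev, ha', hb']
  have h2 : ((a * b) ^ k)⁻¹ = (a * b) ^ k := by
    apply inv_eq_of_mul_eq_one_left
    rw [← pow_add, ← two_mul, ← hk]
    exact pow_orderOf_eq_one _
  have hsa : SemiconjBy a (a * b)⁻¹ (a * b) := by
    change a * (a * b)⁻¹ = a * b * a
    rw [hinv, mul_assoc]
  have hsb : SemiconjBy b (a * b)⁻¹ (a * b) := by
    change b * (a * b)⁻¹ = a * b * b
    rw [hinv, mul_assoc a b b, hb, mul_one, ← mul_assoc, hb, one_mul]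
  refine ⟨?_, ?_, ?_⟩
  · rw [orderOf_pow' _ hk0.ne', hk, Nat.gcd_eq_right (Dvd.intro_left 2 rfl)]
    exact Nat.mul_div_cancel _ hk0
  · have := hsa.pow_right k
    rw [inv_pow, h2] at this
    exact this.symm
  · have := hsb.pow_right k
    rw [inv_pow, h2] at this
    exact this.symm

end

end Cfsg.Agent.Lib.Helper8.ThreeInv
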