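import Mathlib
import Cfsg.Prelude.Def_Characters
import Cfsg.Prelude.Def_Blocks
import Cfsg.Agent.Lib.helper3.RealOdd1
import Cfsg.Agent.Lib.helper3.Inflate2
import Cfsg.Agent.Lib.helper3.Irr11
import Cfsg.Agent.Lib.Helper8.GS6

/-!
# Isaacs–Navarro, real characters of `p'`-degree (S4861–S4864), part 1:
the hypothesis "every real-valued irreducible character has degree prime to `p`" and its
inheritance by normal subgroups of odd index and by quotients.
-/

set_option autoImplicit false
set_option linter.style.haveILetI false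
set_option linter.unusedSectionVars false
set_option linter.unusedVariables false

namespace Cfsg.Agent.Lib.Helper8.IN

open Cfsg Cfsg.Agent.Lib.helper3.Irr Cfsg.Agent.Lib.helper3.CharBasic
open Cfsg.Agent.Lib.helper3.IndFun Cfsg.Agent.Lib.helper3.RealOdd Cfsg.Agent.Lib.Helper4.FS
open Cfsg.Agent.Lib.Helper8.GSN
open scoped ComplexConjugate

/-- Every real-valued irreducible character has degree prime to `p`. -/
def RealHyp (p : ℕ) (G : Type*) [Group G] : Prop :=
  ∀ χ : IrrCharacter G, (∀ g : G, ((χ : G → ℂ) g).im = 0) → ¬ p ∣ charDegree (χ : G → ℂ)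

variable {G : Type*} [Group G]

/-- (R1) over a real irreducible character of a normal subgroup of odd index there is a
real irreducible character of the group. -/
theorem exists_real_over [Fintype G] (N : Subgroup G) [N.Normal] [Fintype N] (hodd : Odd N.index)
    (θ : IrrCharacter N) (hθ : ∀ n : N, ((θ : N → ℂ) n).im = 0) :
    ∃ χ : IrrCharacter G, (∀ g : G, ((χ : G → ℂ) g).im = 0) ∧
      classInner (fun n : N => (χ : G → ℂ) n) (θ : N → ℂ) ≠ 0 := by
  classical
  by_contra hcon
  push Not at hcon
  have h1 := sum_fsInd_mul_classInner N hodd θ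
  have h2 : ∀ χ : IrrCharacter G,
      fsInd (χ : G → ℂ) * classInner (fun n : N => (χ : G → ℂ) n) (θ : N → ℂ) = 0 := by
    intro χ
    by_cases hr : ∀ g : G, ((χ : G → ℂ) g).im = 0
    · rw [hcon χ hr, mul_zero]
    · have : fsInd (χ : G → ℂ) = 0 := by
        by_contra hne
        apply hr
        intro g
        exact Complex.conj_eq_iff_im.mp (real_of_fsInd_ne_zero χ.2 hne g)
      rw [this, zero_mul]
  rw [Finset.sum_eq_zero (fun χ _ => h2 χ)] at h1
  rcases fsInd_eq_or_of_real θ.2 (fun n => Complex.conj_eq_iff_im.mpr (hθ n)) with h | h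
  · rw [h] at h1
    exact zero_ne_one h1
  · rw [h] at h1
    norm_num at h1

/-- The hypothesis passes to normal subgroups of odd index. -/
theorem RealHyp.of_odd_index [Finite G] {p : ℕ} (h : RealHyp p G) (N : Subgroup G) [N.Normal]
    (hodd : Odd N.index) : RealHyp p ↥N := by
  classical
  letI : Fintype G := Fintype.ofFinite G
  letI : Fintype N := Fintype.ofFinite N
  intro θ hθ hdvd
  obtain ⟨χ, hχr, hχθ⟩ := exists_real_over N hodd θ hθ
  obtain ⟨dχ, hdχ⟩ := exists_nat_apply_one (isCharacter_of_isIrrCharacter χ.2)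
  obtain ⟨dθ, hdθ⟩ := exists_nat_apply_one (isCharacter_of_isIrrCharacter θ.2)
  have h1 := constituent_degree_dvd N (χ : G → ℂ) χ.2 (θ : N → ℂ) θ.2 hχθ dχ dθ hdχ hdθ
  apply h χ hχr
  rw [charDegree_eq_of_apply_one hdχ]
  rw [charDegree_eq_of_apply_one hdθ] at hdvd
  exact dvd_trans hdvd h1

/-- The hypothesis passes to quotients. -/
theorem RealHyp.quotient [Finite G] {p : ℕ} (h : RealHyp p G) (N : Subgroup G) [N.Normal] :
    RealHyp p (G ⧸ N) := by
  intro ψ hψ hdvd
  have hirr : IsIrrCharacter G (inflate N (ψ : G ⧸ N → ℂ)) := isIrrCharacter_inflate N ψ.2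
  apply h ⟨_, hirr⟩
  · intro g
    exact hψ _
  · exact hdvd

end Cfsg.Agent.Lib.Helper8.IN
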