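import Mathlib
import Cfsg.Agent.Lib.Helper8.IN1
import Cfsg.Agent.Lib.helper3.GoingDown2
import Cfsg.Agent.Lib.helper3.Irr10
import Cfsg.Agent.Lib.Helper8.GS1
import Cfsg.Agent.S4444

/-!
# Isaacs–Navarro, real characters of `p'`-degree, part 2:
an abelian normal `p'`-subgroup `N` with `C_N(P) = 1` lies in the kernel of every irreducible
character of degree prime to `p`.
-/

set_option autoImplicit false
set_option linter.style.haveILetI false
set_option linter.unusedSectionVars false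
set_option linter.unusedVariables false

namespace Cfsg.Agent.Lib.Helper8.IN

open Cfsg Cfsg.Agent.Lib.helper3.Irr Cfsg.Agent.Lib.helper3.CharBasic
open Cfsg.Agent.Lib.helper3.IndFun
open Cfsg.Agent.Lib.Helper8.GS Cfsg.Agent.Lib.Helper8.GSN
open scoped ComplexConjugate

variable {G : Type*} [Group G]

/-- The left action of `G` on functions on a normal subgroup by conjugation. -/
@[reducible] noncomputable def conjAct (N : Subgroup G) [hN : N.Normal] : MulAction G (↥N → ℂ) where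
  smul g θ := conjFun N θ g⁻¹
  one_smul θ := by
    show conjFun N θ (1 : G)⁻¹ = θ
    rw [inv_one, conjFun_one]
  mul_smul a b θ := by
    show conjFun N θ (a * b)⁻¹ = conjFun N (conjFun N θ b⁻¹) a⁻¹
    rw [conjFun_mul, mul_inv_rev]

theorem conjFun_apply_one' (N : Subgroup G) [hN : N.Normal] (θ : ↥N → ℂ) (g : G) :
    conjFun N θ g 1 = θ 1 := by
  unfold conjFun
  congr 1
  apply Subtype.ext
  simp

/-- A `P`-invariant irreducible character of an abelian `p'`-group `N` with `C_N(P) = 1` is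
trivial (via the Glauberman correspondence S4444). -/
theorem eq_one_of_invariant [Finite G] (p : ℕ) [hp : Fact p.Prime] (N : Subgroup G) [hN : N.Normal]
    (hNab : ∀ a b : ↥N, a * b = b * a) (hNp : (Nat.card ↥N).Coprime p)
    (P : Subgroup G) (hP : IsPGroup p ↥P)
    (hC : ∀ n ∈ N, (∀ x ∈ P, x * n * x⁻¹ = n) → n = 1)
    (ψ : ↥N → ℂ) (hψ : IsIrrCharacter ↥N ψ)
    (hinv : ∀ x ∈ P, conjFun N ψ x = ψ) : ψ = fun _ => 1 := by
  classical
  letI : Fintype G := Fintype.ofFinite G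
  letI : Fintype ↥N := Fintype.ofFinite _
  set C : Subgroup G := N ⊓ Subgroup.centralizer (P : Set G) with hCdef
  letI : Fintype ↥C := Fintype.ofFinite _
  have hCG : C ≤ N := inf_le_left
  have hC1 : ∀ c : ↥C, c = 1 := by
    intro c
    apply Subtype.ext
    obtain ⟨hcN, hcC⟩ := Subgroup.mem_inf.mp c.2
    rw [Subgroup.mem_centralizer_iff] at hcC
    apply hC _ hcN
    intro x hx
    rw [hcC x hx, mul_inv_cancel_right]
  haveI : Subsingleton ↥C := ⟨fun a b => by rw [hC1 a, hC1 b]⟩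
  have hcop : (Nat.card ↥N).Coprime (Nat.card ↥P) := by
    obtain ⟨k, hk⟩ := (IsPGroup.iff_card).mp hP
    rw [hk]
    exact Nat.Coprime.pow_right k hNp
  have hnorm : ∀ s ∈ P, ∀ g ∈ N, s * g * s⁻¹ ∈ N := fun s _ g hg => hN.conj_mem g hg s
  obtain ⟨-, -, h3, -⟩ := Cfsg.Agent.S4444.result (Γ := G) N P hnorm hcop p hp.out hP C rfl hCG
  have hinvψ : ∀ s ∈ P, ∀ g g' : ↥N, (g' : G) = s * g * s⁻¹ → ψ g' = ψ g := by
    intro s hs g g' hgg'
    have := congrFun (hinv s hs) g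
    rw [← this]
    unfold conjFun
    congr 1
    exact Subtype.ext hgg'
  have hone : IsIrrCharacter ↥N (fun _ => (1 : ℂ)) := isIrrCharacter_one
  have hβ : IsIrrCharacter ↥C (fun _ => (1 : ℂ)) := isIrrCharacter_one
  have hcard : Nat.card ↥C = 1 := Nat.card_of_subsingleton (1 : ↥C)
  have hψ1 : ψ 1 = 1 := apply_one_eq_one_of_comm hNab hψ
  have e1 : classInner (fun c : ↥C => ψ ⟨c, hCG c.2⟩) (fun _ : ↥C => (1 : ℂ)) = ((1 : ℕ) : ℂ) := by
    unfold classInner
    rw [hcard, Fintype.sum_subsingleton _ (1 : ↥C)]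
    beta_reduce
    have : (⟨((1 : ↥C) : G), hCG (1 : ↥C).2⟩ : ↥N) = 1 := Subtype.ext rfl
    rw [this, hψ1]
    simp
  have e2 : classInner (fun c : ↥C => (fun _ : ↥N => (1 : ℂ)) ⟨c, hCG c.2⟩)
      (fun _ : ↥C => (1 : ℂ)) = ((1 : ℕ) : ℂ) := by
    unfold classInner
    rw [hcard, Fintype.sum_subsingleton _ (1 : ↥C)]
    simp
  have hp1 : ¬ p ∣ 1 := hp.out.one_lt.ne' ∘ Nat.dvd_one.mp
  have := h3 ⟨ψ, hψ⟩ ⟨fun _ => 1, hone⟩ hinvψ (fun _ _ _ _ _ => rfl) ⟨fun _ => 1, hβ⟩ 1 1 e1 hp1 e2 hp1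
  exact congrArg Subtype.val this

/-- An abelian normal `p'`-subgroup `N` with `C_N(P) = 1` lies in the kernel of every
irreducible character of degree prime to `p`. -/
theorem const_of_not_dvd [Finite G] (p : ℕ) [hp : Fact p.Prime] (N : Subgroup G) [hN : N.Normal]
    (hNab : ∀ a b : ↥N, a * b = b * a) (hNp : (Nat.card ↥N).Coprime p)
    (P : Subgroup G) (hP : IsPGroup p ↥P)
    (hC : ∀ n ∈ N, (∀ x ∈ P, x * n * x⁻¹ = n) → n = 1)
    (χ : IrrCharacter G) (hχ : ¬ p ∣ charDegree (χ : G → ℂ)) :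
    ∀ g n : G, n ∈ N → (χ : G → ℂ) (g * n) = (χ : G → ℂ) g := by
  classical
  letI : Fintype G := Fintype.ofFinite G
  letI : Fintype ↥N := Fintype.ofFinite _
  have hχc := isCharacter_of_isIrrCharacter χ.2
  have hres : IsCharacter ↥N (fun n : ↥N => (χ : G → ℂ) n) := isCharacter_restrict hχc N
  have hne : (fun n : ↥N => (χ : G → ℂ) n) ≠ 0 := by
    intro h
    have := congrFun h 1
    exact apply_one_ne_zero χ.2 this
  obtain ⟨θ₀, hθ₀⟩ := exists_constituent hres hne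
  obtain ⟨e, he0, he', hcl, -, -⟩ := clifford_finset N (χ : G → ℂ) χ.2 (θ₀ : ↥N → ℂ) θ₀.2 hθ₀
  set O := Finset.univ.image (conjFun N (θ₀ : ↥N → ℂ)) with hO
  obtain ⟨dχ, hdχ⟩ := exists_nat_apply_one hχc
  obtain ⟨dθ, hdθ⟩ := exists_nat_apply_one (isCharacter_of_isIrrCharacter θ₀.2)
  -- the orbit size divides the degree
  have hdvd : O.card ∣ dχ := by
    have h1 := congrFun hcl 1
    rw [Pi.smul_apply, Finset.sum_apply] at h1
    have h2 : ∀ ψ ∈ O, ψ 1 = (dθ : ℂ) := by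
      intro ψ hψ
      obtain ⟨g, -, rfl⟩ := Finset.mem_image.mp hψ
      rw [← hdθ]
      exact conjFun_apply_one' N _ g
    rw [Finset.sum_congr rfl h2, Finset.sum_const, smul_eq_mul, nsmul_eq_mul] at h1
    have h3 : (χ : G → ℂ) ((1 : ↥N) : G) = (dχ : ℂ) := hdχ
    rw [h3] at h1
    have h4 : dχ = e * (O.card * dθ) := by exact_mod_cast h1
    rw [h4]
    exact ⟨e * dθ, by ring⟩
  have hpO : ¬ p ∣ O.card := by
    intro h
    apply hχ
    rw [charDegree_eq_of_apply_one hdχ]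
    exact dvd_trans h hdvd
  -- a `P`-fixed point in the orbit
  letI := conjAct N
  have hstab : ∀ x ∈ P, ∀ a ∈ (O : Set (↥N → ℂ)), x • a ∈ (O : Set (↥N → ℂ)) := by
    intro x _ a ha
    obtain ⟨g, -, rfl⟩ := Finset.mem_image.mp (Finset.mem_coe.mp ha)
    show conjFun N (conjFun N (θ₀ : ↥N → ℂ) g) x⁻¹ ∈ (O : Set (↥N → ℂ))
    rw [conjFun_mul]
    exact Finset.mem_coe.mpr (Finset.mem_image.mpr ⟨_, Finset.mem_univ _, rfl⟩)
  obtain ⟨ψ, hψO, hψfix⟩ := exists_fixed_of_not_dvd p P hP (O : Set (↥N → ℂ)) (Finset.finite_toSet O)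
    hstab (by rw [Set.ncard_coe_finset]; exact hpO)
  obtain ⟨g₀, -, hg₀⟩ := Finset.mem_image.mp (Finset.mem_coe.mp hψO)
  have hψirr : IsIrrCharacter ↥N ψ := by
    rw [← hg₀]
    exact isIrrCharacter_conjFun N θ₀.2 g₀
  have hψcon : classInner (fun n : ↥N => (χ : G → ℂ) n) ψ ≠ 0 := by
    rw [← hg₀, classInner_restrict_conjFun N _ (isClassFunction_of_isCharacter hχc)]
    exact hθ₀
  have hψ1 : ψ = fun _ => 1 := by
    apply eq_one_of_invariant p N hNab hNp P hP hC ψ hψirr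
    intro x hx
    have := hψfix x⁻¹ (P.inv_mem hx)
    have h2 : (x⁻¹ : G) • ψ = conjFun N ψ x := by
      show conjFun N ψ (x⁻¹)⁻¹ = conjFun N ψ x
      rw [inv_inv]
    rw [h2] at this
    exact this
  -- Clifford with the trivial character
  rw [hψ1] at hψcon
  obtain ⟨e', -, -, hcl', -, -⟩ := clifford_finset N (χ : G → ℂ) χ.2 (fun _ : ↥N => (1 : ℂ))
    isIrrCharacter_one hψcon
  have himg : Finset.univ.image (conjFun N (fun _ : ↥N => (1 : ℂ))) = {fun _ : ↥N => (1 : ℂ)} := by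
    ext f
    simp only [Finset.mem_image, Finset.mem_univ, true_and, Finset.mem_singleton]
    constructor
    · rintro ⟨g, rfl⟩
      rfl
    · rintro rfl
      exact ⟨1, rfl⟩
  rw [himg, Finset.sum_singleton] at hcl'
  have hval : ∀ n : ↥N, (χ : G → ℂ) n = (e' : ℂ) := by
    intro n
    have := congrFun hcl' n
    simpa using this
  intro g n hn
  apply apply_mul_of_apply_eq_one hχc
  have h1 := hval ⟨n, hn⟩
  have h2 := hval 1
  simp only at h1
  rw [h1]
  exact h2.symm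

end Cfsg.Agent.Lib.Helper8.IN
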