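import Mathlib
import Cfsg.Agent.Lib.Helper8.IN2
import Cfsg.Agent.Lib.helper3.Irr13

/-!
# Isaacs–Navarro, real characters of `p'`-degree, part 3: counting real classes.
-/

set_option autoImplicit false
set_option linter.style.haveILetI false
set_option linter.unusedSectionVars false
set_option linter.unusedVariables false

namespace Cfsg.Agent.Lib.Helper8.IN

open Cfsg Cfsg.Agent.Lib.helper3.Irr Cfsg.Agent.Lib.helper3.CharBasic
open Cfsg.Agent.Lib.helper3.IndFun
open scoped ComplexConjugate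

variable {G : Type*} [Group G]

/-- If every real irreducible character of `G` is constant on the cosets of `N`, then `G` has at
most as many real irreducible characters as `G ⧸ N`. -/
theorem card_real_le [Finite G] (N : Subgroup G) [hN : N.Normal]
    (hall : ∀ χ : IrrCharacter G, (∀ g : G, ((χ : G → ℂ) g).im = 0) →
      ∀ g n : G, n ∈ N → (χ : G → ℂ) (g * n) = (χ : G → ℂ) g) :
    Nat.card {χ : IrrCharacter G // ∀ g : G, ((χ : G → ℂ) g).im = 0}
      ≤ Nat.card {ψ : IrrCharacter (G ⧸ N) // ∀ y : G ⧸ N, ((ψ : G ⧸ N → ℂ) y).im = 0} := by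
  classical
  have hex : ∀ χ : {χ : IrrCharacter G // ∀ g : G, ((χ : G → ℂ) g).im = 0},
      ∃ ψ : G ⧸ N → ℂ, IsIrrCharacter (G ⧸ N) ψ ∧ (χ.1 : G → ℂ) = inflate N ψ :=
    fun χ => exists_eq_inflate χ.1.2 N (hall χ.1 χ.2)
  choose F hF1 hF2 using hex
  have hreal : ∀ χ, ∀ y : G ⧸ N, ((F χ) y).im = 0 := by
    intro χ y
    obtain ⟨g, rfl⟩ := QuotientGroup.mk_surjective y
    have := χ.2 g
    rw [hF2 χ, inflate_apply] at this
    exact this
  haveI : Finite (IrrCharacter (G ⧸ N)) := by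
    letI : Fintype (G ⧸ N) := Fintype.ofFinite _
    exact Finite.of_fintype _
  apply Nat.card_le_card_of_injective (fun χ => (⟨⟨F χ, hF1 χ⟩, hreal χ⟩ :
    {ψ : IrrCharacter (G ⧸ N) // ∀ y : G ⧸ N, ((ψ : G ⧸ N → ℂ) y).im = 0}))
  intro χ χ' h
  have h1 : F χ = F χ' := congrArg (fun z => (z.1 : G ⧸ N → ℂ)) h
  apply Subtype.ext
  apply Subtype.ext
  rw [hF2 χ, hF2 χ', h1]

/-- If `G → G ⧸ N` has a homomorphic section and `G` has at most as many real irreducible
characters as `G ⧸ N`, then `N` contains no nontrivial real element of `G`. -/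
theorem eq_one_of_real_of_section [Finite G] (N : Subgroup G) [hN : N.Normal]
    (s : G ⧸ N →* G) (hs : ∀ y : G ⧸ N, ((s y : G) : G ⧸ N) = y)
    (hle : Nat.card {χ : IrrCharacter G // ∀ g : G, ((χ : G → ℂ) g).im = 0}
      ≤ Nat.card {ψ : IrrCharacter (G ⧸ N) // ∀ y : G ⧸ N, ((ψ : G ⧸ N → ℂ) y).im = 0})
    (v : G) (hv : v ∈ N) (hreal : IsConj v v⁻¹) : v = 1 := by
  classical
  by_contra hv1
  rw [card_real_irr_eq_card_real_classes, card_real_irr_eq_card_real_classes] at hle
  have hmap : ∀ C : {C : ConjClasses (G ⧸ N) // IsRealClass C},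
      IsRealClass (ConjClasses.map s C.1) := by
    rintro ⟨C, hC⟩
    obtain ⟨y, rfl⟩ := ConjClasses.exists_rep C
    have h1 : IsConj y y⁻¹ := (isRealClass_mk_iff y).mp hC
    have h2 : IsConj (s y) (s y)⁻¹ := by
      rw [← map_inv]
      exact s.map_isConj h1
    exact (isRealClass_mk_iff (s y)).mpr h2
  letI : Fintype {C : ConjClasses G // IsRealClass C} := Fintype.ofFinite _
  letI : Fintype {C : ConjClasses (G ⧸ N) // IsRealClass C} := Fintype.ofFinite _
  rw [Nat.card_eq_fintype_card, Nat.card_eq_fintype_card] at hle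
  have hlt := Fintype.card_lt_of_injective_of_notMem
    (fun C : {C : ConjClasses (G ⧸ N) // IsRealClass C} =>
      (⟨ConjClasses.map s C.1, hmap C⟩ : {C : ConjClasses G // IsRealClass C}))
    (b := ⟨ConjClasses.mk v, (isRealClass_mk_iff v).mpr hreal⟩) ?_ ?_
  · exact absurd hle (not_le.mpr hlt)
  · rintro ⟨C, hC⟩ ⟨C', hC'⟩ h
    have h1 : ConjClasses.map s C = ConjClasses.map s C' := congrArg Subtype.val h
    apply Subtype.ext
    show C = C'
    obtain ⟨y, rfl⟩ := ConjClasses.exists_rep C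
    obtain ⟨y', rfl⟩ := ConjClasses.exists_rep C'
    have h2 : IsConj (s y) (s y') := ConjClasses.mk_eq_mk_iff_isConj.mp h1
    have h3 := (QuotientGroup.mk' N).map_isConj h2
    simp only [QuotientGroup.mk'_apply, hs] at h3
    exact ConjClasses.mk_eq_mk_iff_isConj.mpr h3
  · rintro ⟨⟨C, hC⟩, h⟩
    have h1 : ConjClasses.map s C = ConjClasses.mk v := congrArg Subtype.val h
    obtain ⟨y, rfl⟩ := ConjClasses.exists_rep C
    have h2 : IsConj (s y) v := ConjClasses.mk_eq_mk_iff_isConj.mp h1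
    have h3 := (QuotientGroup.mk' N).map_isConj h2
    simp only [QuotientGroup.mk'_apply, hs] at h3
    have h4 : ((v : G) : G ⧸ N) = 1 := (QuotientGroup.eq_one_iff v).mpr hv
    rw [h4, isConj_one_left] at h3
    rw [h3, map_one] at h2
    exact hv1 (isConj_one_right.mp h2)

end Cfsg.Agent.Lib.Helper8.IN
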