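import Mathlib

/-!
# Isaacs–Navarro, real characters of `p'`-degree, part 4: group-theoretic basics.
`gen q G` (the subgroup generated by the `q`-elements), the hypothesis "some solvable normal
subgroup has index prime to `p`", complements and sections.
-/

set_option autoImplicit false
set_option linter.style.haveILetI false
set_option linter.unusedSectionVars false
set_option linter.unusedVariables false

namespace Cfsg.Agent.Lib.Helper8.IN

variable {G : Type*} [Group G]

/-- The subgroup generated by the elements of `q`-power order. -/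
abbrev gen (q : ℕ) (G : Type*) [Group G] : Subgroup G :=
  Subgroup.closure {g : G | ∃ k : ℕ, orderOf g = q ^ k}

theorem gen_normal (q : ℕ) : (gen q G).Normal := by
  constructor
  intro n hn g
  have h1 : (gen q G).map (MulAut.conj g).toMonoidHom ≤ gen q G := by
    rw [gen, MonoidHom.map_closure, Subgroup.closure_le]
    rintro _ ⟨x, ⟨k, hk⟩, rfl⟩
    apply Subgroup.subset_closure
    refine ⟨k, ?_⟩
    rw [← hk]
    exact (MulAut.conj g).orderOf_eq x
  have h2 : (MulAut.conj g).toMonoidHom n ∈ (gen q G).map (MulAut.conj g).toMonoidHom :=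
    Subgroup.mem_map_of_mem _ hn
  have h3 := h1 h2
  simpa using h3

theorem le_gen_of_isPGroup (q : ℕ) [Fact q.Prime] (H : Subgroup G) (hH : IsPGroup q ↥H) :
    H ≤ gen q G := by
  intro h hh
  apply Subgroup.subset_closure
  obtain ⟨k, hk⟩ := (IsPGroup.iff_orderOf.mp hH) ⟨h, hh⟩
  refine ⟨k, ?_⟩
  rw [← hk, Subgroup.orderOf_mk]

theorem not_dvd_index_gen [Finite G] (q : ℕ) [Fact q.Prime] : ¬ q ∣ (gen q G).index := by
  obtain ⟨P⟩ : Nonempty (Sylow q G) := inferInstance
  have h1 : (P : Subgroup G) ≤ gen q G := le_gen_of_isPGroup q _ P.2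
  have h2 := Subgroup.index_dvd_of_le h1
  intro h
  exact P.not_dvd_index (dvd_trans h h2)

theorem odd_index_gen_two [Finite G] : Odd (gen 2 G).index := by
  haveI : Fact (Nat.Prime 2) := ⟨Nat.prime_two⟩
  have := not_dvd_index_gen (G := G) 2
  rw [← even_iff_two_dvd, Nat.not_even_iff_odd] at this
  exact this

theorem gen_quotient_eq_top (q : ℕ) [Fact q.Prime] (N : Subgroup G) [N.Normal]
    (h : gen q G = ⊤) : gen q (G ⧸ N) = ⊤ := by
  have h1 : (gen q G).map (QuotientGroup.mk' N) ≤ gen q (G ⧸ N) := by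
    rw [gen, MonoidHom.map_closure, Subgroup.closure_le]
    rintro _ ⟨x, ⟨k, hk⟩, rfl⟩
    apply Subgroup.subset_closure
    have h2 : orderOf (QuotientGroup.mk' N x) ∣ q ^ k := by
      rw [← hk]
      exact orderOf_map_dvd _ x
    obtain ⟨j, -, hj⟩ := (Nat.dvd_prime_pow (Fact.out : q.Prime)).mp h2
    exact ⟨j, hj⟩
  rw [h, ← MonoidHom.range_eq_map, MonoidHom.range_eq_top.mpr (QuotientGroup.mk'_surjective N)] at h1
  exact top_le_iff.mp h1

theorem gen_gen_eq_top (q : ℕ) : gen q ↥(gen q G) = ⊤ := by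
  rw [eq_top_iff]
  rintro ⟨x, hx⟩ -
  induction hx using Subgroup.closure_induction with
  | mem x hx =>
    apply Subgroup.subset_closure
    obtain ⟨k, hk⟩ := hx
    refine ⟨k, ?_⟩
    rw [← hk, Subgroup.orderOf_mk]
  | one => exact Subgroup.one_mem _
  | mul x y hx hy ihx ihy =>
    have := Subgroup.mul_mem _ ihx ihy
    exact this
  | inv x hx ihx =>
    have := Subgroup.inv_mem _ ihx
    exact this

theorem commute_of_gen_top (q : ℕ) (h : gen q G = ⊤) (N : Subgroup G)
    (hall : ∀ s : G, (∃ k : ℕ, orderOf s = q ^ k) → ∀ n ∈ N, s * n = n * s) :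
    ∀ g : G, ∀ n ∈ N, g * n = n * g := by
  have h1 : gen q G ≤ Subgroup.centralizer (N : Set G) := by
    rw [gen, Subgroup.closure_le]
    intro s hs
    rw [SetLike.mem_coe, Subgroup.mem_centralizer_iff]
    intro n hn
    exact (hall s hs n hn).symm
  intro g n hn
  have h2 : g ∈ Subgroup.centralizer (N : Set G) := h1 (by rw [h]; exact Subgroup.mem_top g)
  rw [Subgroup.mem_centralizer_iff] at h2
  exact (h2 n hn).symm

/-- Some solvable normal subgroup has index prime to `p`. -/
def SolvHyp (p : ℕ) (G : Type*) [Group G] : Prop :=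
  ∃ L : Subgroup G, L.Normal ∧ Group.IsSolvable ↥L ∧ ¬ p ∣ L.index

theorem SolvHyp.of_gen [Finite G] (p : ℕ) [Fact p.Prime] (h : Group.IsSolvable ↥(gen p G)) :
    SolvHyp p G :=
  ⟨gen p G, gen_normal p, h, not_dvd_index_gen p⟩

theorem SolvHyp.subgroup [Finite G] {p : ℕ} (h : SolvHyp p G) (K : Subgroup G) :
    SolvHyp p ↥K := by
  obtain ⟨L, hLn, hLs, hLi⟩ := h
  refine ⟨L.subgroupOf K, inferInstance, ?_, ?_⟩
  · let f : ↥(L.subgroupOf K) →* ↥L :=
      (K.subtype.comp (L.subgroupOf K).subtype).codRestrict L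
        (fun x => Subgroup.mem_subgroupOf.mp x.2)
    have hf : Function.Injective f := by
      intro a b hab
      have := congrArg (fun z : ↥L => (z : G)) hab
      exact Subtype.ext (Subtype.ext this)
    exact Group.isSolvable_of_isSolvable_injective hf
  · intro hd
    apply hLi
    exact dvd_trans hd (Subgroup.relIndex_dvd_index_of_normal L K)

theorem SolvHyp.quotient [Finite G] {p : ℕ} (h : SolvHyp p G) (N : Subgroup G) [N.Normal] :
    SolvHyp p (G ⧸ N) := by
  obtain ⟨L, hLn, hLs, hLi⟩ := h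
  refine ⟨L.map (QuotientGroup.mk' N), hLn.map _ (QuotientGroup.mk'_surjective N), ?_, ?_⟩
  · exact Group.isSolvable_of_surjective ((QuotientGroup.mk' N).subgroupMap_surjective L)
  · intro hd
    apply hLi
    exact dvd_trans hd (L.index_map_dvd (QuotientGroup.mk'_surjective N))

/-- A `p`-subgroup lies in every normal subgroup of index prime to `p`. -/
theorem le_of_not_dvd_index [Finite G] (p : ℕ) [Fact p.Prime] (L : Subgroup G) [L.Normal]
    (hLi : ¬ p ∣ L.index) (P : Subgroup G) (hP : IsPGroup p ↥P) : P ≤ L := by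
  intro x hx
  rw [← QuotientGroup.eq_one_iff]
  obtain ⟨k, hk⟩ := (IsPGroup.iff_orderOf.mp hP) ⟨x, hx⟩
  rw [Subgroup.orderOf_mk] at hk
  have h1 : orderOf (x : G ⧸ L) ∣ p ^ k := by
    rw [← hk]
    exact orderOf_map_dvd (QuotientGroup.mk' L) x
  have h2 : orderOf (x : G ⧸ L) ∣ L.index := by
    rw [Subgroup.index_eq_card]
    exact orderOf_dvd_natCard _
  have hcop : Nat.Coprime (p ^ k) L.index :=
    Nat.Coprime.pow_left k ((Nat.Prime.coprime_iff_not_dvd (Fact.out : p.Prime)).mpr hLi)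
  have h3 : orderOf (x : G ⧸ L) ∣ Nat.gcd (p ^ k) L.index := Nat.dvd_gcd h1 h2
  rw [hcop] at h3
  exact orderOf_eq_one_iff.mp (Nat.dvd_one.mp h3)

/-- A complement of a normal subgroup gives a homomorphic section of the quotient map. -/
theorem exists_section_of_complement (N H : Subgroup G) [N.Normal] (h1 : H ⊓ N = ⊥)
    (h2 : H ⊔ N = ⊤) :
    ∃ s : G ⧸ N →* G, ∀ y : G ⧸ N, ((s y : G) : G ⧸ N) = y := by
  let f : ↥H →* G ⧸ N := (QuotientGroup.mk' N).comp H.subtype
  have hinj : Function.Injective f := by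
    rw [injective_iff_map_eq_one]
    intro h hh
    have h3 : (h : G) ∈ N := (QuotientGroup.eq_one_iff _).mp hh
    have h4 : (h : G) ∈ H ⊓ N := ⟨h.2, h3⟩
    rw [h1, Subgroup.mem_bot] at h4
    exact Subtype.ext h4
  have hsurj : Function.Surjective f := by
    intro y
    obtain ⟨g, rfl⟩ := QuotientGroup.mk_surjective y
    have hg : g ∈ H ⊔ N := by rw [h2]; exact Subgroup.mem_top g
    rw [← SetLike.mem_coe, Subgroup.mul_normal, Set.mem_mul] at hg
    obtain ⟨h, hh, n, hn, rfl⟩ := hg
    refine ⟨⟨h, hh⟩, ?_⟩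
    show ((h : G) : G ⧸ N) = ((h * n : G) : G ⧸ N)
    rw [QuotientGroup.eq]
    simpa using hn
  let e : ↥H ≃* G ⧸ N := MulEquiv.ofBijective f ⟨hinj, hsurj⟩
  refine ⟨H.subtype.comp e.symm.toMonoidHom, ?_⟩
  intro y
  have : f (e.symm y) = y := e.apply_symm_apply y
  exact this

/-- If a `2`-element does not centralize the normal subgroup `N`, then `N` contains a nontrivial
real element. -/
theorem exists_real_of_not_centralize (N : Subgroup G) [hN : N.Normal] :
    ∀ (k : ℕ) (s : G), s ^ (2 ^ k) = 1 → (∃ n ∈ N, s * n * s⁻¹ ≠ n) →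
      ∃ u ∈ N, u ≠ 1 ∧ IsConj u u⁻¹ := by
  intro k
  induction k with
  | zero =>
    intro s hs hnc
    rw [pow_zero, pow_one] at hs
    obtain ⟨n, -, hn⟩ := hnc
    exfalso
    apply hn
    rw [hs]
    group
  | succ k ih =>
    intro s hs hnc
    by_cases h2 : ∃ n ∈ N, (s ^ 2) * n * (s ^ 2)⁻¹ ≠ n
    · apply ih (s ^ 2) _ h2
      rw [← pow_mul, ← pow_succ']
      exact hs
    · push Not at h2
      obtain ⟨v, hv, hvs⟩ := hnc
      refine ⟨v⁻¹ * (s * v * s⁻¹), N.mul_mem (N.inv_mem hv) (hN.conj_mem v hv s), ?_, ?_⟩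
      · intro h
        apply hvs
        have := congrArg (fun z => v * z) h
        simpa using this
      · rw [isConj_iff]
        refine ⟨s, ?_⟩
        have h3 := h2 v hv
        have h4 : s * s * v * s⁻¹ * s⁻¹ = v := by
          have h5 : s * s * v * s⁻¹ * s⁻¹ = s ^ 2 * v * (s ^ 2)⁻¹ := by
            rw [pow_two, mul_inv_rev]
            simp only [mul_assoc]
          rw [h5, h3]
        calc s * (v⁻¹ * (s * v * s⁻¹)) * s⁻¹
            = (s * v * s⁻¹)⁻¹ * (s * s * v * s⁻¹ * s⁻¹) := by group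
          _ = (s * v * s⁻¹)⁻¹ * v := by rw [h4]
          _ = (v⁻¹ * (s * v * s⁻¹))⁻¹ := by group

end Cfsg.Agent.Lib.Helper8.IN
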