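import Mathlib
import Cfsg.Agent.Lib.Helper8.IN3
import Cfsg.Agent.Lib.Helper8.IN4

/-!
# Isaacs–Navarro, real characters of `p'`-degree, part 5 (S4861):
if `O^{p'}(G)` is solvable and every real irreducible character has `p'`-degree, then
`O^{2'}(G)` has a normal Sylow `p`-subgroup.
-/

set_option autoImplicit false
set_option linter.style.haveILetI false
set_option linter.unusedSectionVars false
set_option linter.unusedVariables false

namespace Cfsg.Agent.Lib.Helper8.IN

open Cfsg

universe u

section basics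

variable {G : Type*} [Group G]

theorem exists_minimal_normal [Finite G] [Nontrivial G] :
    ∃ N : Subgroup G, N.Normal ∧ N ≠ ⊥ ∧
      ∀ M : Subgroup G, M.Normal → M ≤ N → M = ⊥ ∨ M = N := by
  have hwf : WellFounded ((· < ·) : Subgroup G → Subgroup G → Prop) := wellFounded_lt
  have hne : ({N : Subgroup G | N.Normal ∧ N ≠ ⊥}).Nonempty :=
    ⟨⊤, inferInstance, top_ne_bot⟩
  obtain ⟨N, ⟨hNn, hN0⟩, hmin⟩ := hwf.has_min _ hne
  refine ⟨N, hNn, hN0, ?_⟩
  intro M hMn hMN
  by_cases hM0 : M = ⊥
  · exact Or.inl hM0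
  · right
    by_contra hne
    exact hmin M ⟨hMn, hM0⟩ (lt_of_le_of_ne hMN hne)

theorem le_normalizer_of_conj_mem' (P T : Subgroup G)
    (hT : ∀ x ∈ P, ∀ t ∈ T, x * t * x⁻¹ ∈ T) : P ≤ Subgroup.normalizer (T : Set G) := by
  intro x hx
  rw [Subgroup.mem_normalizer_iff]
  intro t
  constructor
  · exact hT x hx t
  · intro ht
    have := hT x⁻¹ (inv_mem hx) _ ht
    have e : x⁻¹ * (x * t * x⁻¹) * x⁻¹⁻¹ = t := by group
    rwa [e] at this

/-- A Sylow subgroup centralizing the normal subgroup `N`, with `PN` normal, is normal. -/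
theorem normal_of_centralizes [Finite G] {p : ℕ} [Fact p.Prime] (P : Sylow p G) (N : Subgroup G)
    [hN : N.Normal] (hM : ((P : Subgroup G) ⊔ N).Normal)
    (hcent : ∀ x ∈ (P : Subgroup G), ∀ n ∈ N, x * n = n * x) : (P : Subgroup G).Normal := by
  haveI := hM
  have hfr := Sylow.normalizer_sup_eq_top' P (N := (P : Subgroup G) ⊔ N) le_sup_left
  rw [← Subgroup.normalizer_eq_top_iff, eq_top_iff, ← hfr]
  apply sup_le le_rfl
  apply sup_le Subgroup.le_normalizer
  apply le_normalizer_of_conj_mem'
  intro n hn x hx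
  have h1 : n * x * n⁻¹ = x := by
    rw [← hcent x hx n hn, mul_inv_cancel_right]
  rw [h1]
  exact hx

/-- A normal `p`-subgroup lies in every Sylow `p`-subgroup. -/
theorem le_sylow_of_normal {p : ℕ} [Fact p.Prime] (P : Sylow p G) (N : Subgroup G)
    [hN : N.Normal] (hNp : IsPGroup p ↥N) : N ≤ (P : Subgroup G) := by
  have h1 : IsPGroup p ↥((P : Subgroup G) ⊔ N) := IsPGroup.to_sup_of_normal_right P.2 hNp
  have h2 := P.3 h1 le_sup_left
  rw [← h2]
  exact le_sup_right

/-- The `p`-elements of an abelian normal subgroup form a normal `p`-subgroup. -/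
theorem exists_ppart (p : ℕ) (N : Subgroup G) [hN : N.Normal]
    (hNab : ∀ a ∈ N, ∀ b ∈ N, a * b = b * a) :
    ∃ Np : Subgroup G, Np.Normal ∧ Np ≤ N ∧ IsPGroup p ↥Np ∧
      ∀ n ∈ N, (∃ k : ℕ, n ^ (p ^ k) = 1) → n ∈ Np := by
  let Np : Subgroup G :=
    { carrier := {n | n ∈ N ∧ ∃ k : ℕ, n ^ (p ^ k) = 1}
      one_mem' := ⟨N.one_mem, 0, one_pow _⟩
      mul_mem' := by
        rintro a b ⟨ha, j, hj⟩ ⟨hb, k, hk⟩
        refine ⟨N.mul_mem ha hb, j + k, ?_⟩
        have hc : Commute a b := hNab a ha b hb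
        rw [hc.mul_pow, pow_add, pow_mul, hj, one_pow, one_mul, mul_comm (p ^ j), pow_mul, hk,
          one_pow]
      inv_mem' := by
        rintro a ⟨ha, j, hj⟩
        exact ⟨N.inv_mem ha, j, by rw [inv_pow, hj, inv_one]⟩ }
  refine ⟨Np, ?_, fun n hn => hn.1, ?_, fun n hn hk => ⟨hn, hk⟩⟩
  · constructor
    rintro n ⟨hn, k, hk⟩ g
    refine ⟨hN.conj_mem n hn g, k, ?_⟩
    rw [conj_pow, hk, mul_one, mul_inv_cancel]
  · rintro ⟨n, hn, k, hk⟩
    exact ⟨k, Subtype.ext hk⟩

end basics

/-- The main induction: a finite group generated by its `2`-elements, with a solvable normal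
subgroup of `p'`-index and all real irreducible characters of `p'`-degree, has a normal Sylow
`p`-subgroup. -/
theorem normal_sylow_aux (p : ℕ) [hp : Fact p.Prime] :
    ∀ (n : ℕ) (G : Type u) [Group G] [Finite G], Nat.card G = n → SolvHyp p G → RealHyp p G →
      gen 2 G = ⊤ → ∀ P : Sylow p G, (P : Subgroup G).Normal := by
  intro n
  induction n using Nat.strong_induction_on with
  | _ n ih =>
  intro G _ _ hcard hsolv hreal hgen P
  by_contra hPn
  haveI : Fact (Nat.Prime 2) := ⟨Nat.prime_two⟩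
  haveI : Nontrivial G := by
    by_contra hnt
    rw [not_nontrivial_iff_subsingleton] at hnt
    apply hPn
    have : (P : Subgroup G) = ⊤ := Subsingleton.elim _ _
    rw [this]
    infer_instance
  obtain ⟨N, hNn, hN0, hNmin⟩ := exists_minimal_normal (G := G)
  haveI := hNn
  -- the quotient
  have hlt : Nat.card (G ⧸ N) < n := by
    rw [← hcard, Subgroup.card_eq_card_quotient_mul_card_subgroup N]
    have h1 : 1 < Nat.card ↥N := N.one_lt_card_iff_ne_bot.mpr hN0
    have h2 : 0 < Nat.card (G ⧸ N) := Nat.card_pos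
    nlinarith
  have hq := ih _ hlt (G ⧸ N) rfl (hsolv.quotient N) (hreal.quotient N)
    (gen_quotient_eq_top 2 N hgen) (P.mapSurjective (QuotientGroup.mk'_surjective N))
  have hM : ((P : Subgroup G) ⊔ N).Normal := by
    have h1 : ((P : Subgroup G).map (QuotientGroup.mk' N)).comap (QuotientGroup.mk' N)
        = (P : Subgroup G) ⊔ N := by
      rw [Subgroup.comap_map_eq, QuotientGroup.ker_mk']
    rw [← h1]
    have h2 : ((P : Subgroup G).map (QuotientGroup.mk' N)).Normal := by
      rw [Sylow.coe_mapSurjective] at hq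
      exact hq
    exact h2.comap _
  haveI := hM
  have hfr : Subgroup.normalizer ((P : Subgroup G) : Set G) ⊔ N = ⊤ := by
    have h1 := Sylow.normalizer_sup_eq_top' P (N := (P : Subgroup G) ⊔ N) le_sup_left
    rw [eq_top_iff, ← h1]
    apply sup_le
    · exact le_sup_left
    · apply sup_le
      · exact le_trans Subgroup.le_normalizer le_sup_left
      · exact le_sup_right
  -- Case A
  have hA : ¬ N ≤ (P : Subgroup G) := by
    intro h
    apply hPn
    have h1 : (P : Subgroup G) ⊔ N = P := sup_eq_left.mpr h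
    rw [h1] at hM
    exact hM
  -- Case B
  have hB : ¬ (∀ x ∈ (P : Subgroup G), ∀ n ∈ N, x * n = n * x) :=
    fun h => hPn (normal_of_centralizes P N hM h)
  obtain ⟨L, hLn, hLs, hLi⟩ := hsolv
  haveI := hLn
  haveI := hLs
  have hPL : (P : Subgroup G) ≤ L := le_of_not_dvd_index p L hLi P P.2
  have hNL : N ≤ L := by
    rcases hNmin (N ⊓ L) inferInstance inf_le_left with h | h
    · exfalso
      apply hB
      intro x hx n hn
      have hdis : Disjoint N L := disjoint_iff.mpr h
      exact (Subgroup.commute_of_normal_of_disjoint N L hNn hLn hdis n x hn (hPL hx)).symm.eq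
    · exact inf_eq_left.mp h
  haveI : Group.IsSolvable ↥N :=
    Group.isSolvable_of_isSolvable_injective (Subgroup.inclusion_injective hNL)
  -- `N` is abelian
  have hNab' : ∀ a ∈ N, ∀ b ∈ N, a * b = b * a := by
    have hc : ⁅N, N⁆ = ⊥ := by
      rcases hNmin ⁅N, N⁆ (Subgroup.commutator_normal N N) (Subgroup.commutator_le_self N)
        with h | h
      · exact h
      · exfalso
        haveI : Nontrivial ↥N := (Subgroup.nontrivial_iff_ne_bot N).mpr hN0
        have h1 := Group.IsSolvable.commutator_lt_top_of_nontrivial ↥N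
        have h2 : (commutator ↥N).map N.subtype = (⊤ : Subgroup ↥N).map N.subtype := by
          rw [Subgroup.map_subtype_commutator, h, ← MonoidHom.range_eq_map, Subgroup.range_subtype]
        exact h1.ne (Subgroup.map_injective N.subtype_injective h2)
    rw [Subgroup.commutator_eq_bot_iff_le_centralizer] at hc
    intro a ha b hb
    have h1 := hc ha
    rw [Subgroup.mem_centralizer_iff] at h1
    exact (h1 b hb).symm
  have hNab : ∀ a b : ↥N, a * b = b * a := fun a b => Subtype.ext (hNab' a a.2 b b.2)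
  -- `N` is a `p'`-group
  have hNp : (Nat.card ↥N).Coprime p := by
    obtain ⟨Np, hNpn, hNpN, hNpp, hNpall⟩ := exists_ppart p N hNab'
    rcases hNmin Np hNpn hNpN with h | h
    · rw [Nat.coprime_comm, Nat.Prime.coprime_iff_not_dvd hp.out]
      intro hd
      obtain ⟨x, hx⟩ := exists_prime_orderOf_dvd_card' (G := ↥N) p hd
      have h1 : (x : G) ∈ Np := by
        apply hNpall _ x.2
        refine ⟨1, ?_⟩
        rw [pow_one, ← hx, ← Subgroup.coe_pow, pow_orderOf_eq_one]
        rfl
      rw [h, Subgroup.mem_bot] at h1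
      have h2 : x = 1 := Subtype.ext h1
      rw [h2, orderOf_one] at hx
      exact hp.out.one_lt.ne hx
    · exfalso
      apply hA
      rw [h] at hNpp
      exact le_sylow_of_normal P N hNpp
  -- `C_N(P)` is normal in `G`
  have hCn : (N ⊓ Subgroup.centralizer ((P : Subgroup G) : Set G)).Normal := by
    rw [← Subgroup.normalizer_eq_top_iff, eq_top_iff, ← hfr]
    apply sup_le
    · apply le_normalizer_of_conj_mem'
      intro h hh c hc
      obtain ⟨hcN, hcC⟩ := Subgroup.mem_inf.mp hc
      rw [Subgroup.mem_centralizer_iff] at hcC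
      refine Subgroup.mem_inf.mpr ⟨hNn.conj_mem c hcN h, ?_⟩
      rw [Subgroup.mem_centralizer_iff]
      intro x hx
      have hx' : h⁻¹ * x * h ∈ (P : Subgroup G) := by
        have := (Subgroup.mem_normalizer_iff.mp (Subgroup.inv_mem _ hh) x).mp hx
        simpa using this
      have h1 := hcC _ hx'
      calc x * (h * c * h⁻¹) = h * ((h⁻¹ * x * h) * c) * h⁻¹ := by group
        _ = h * (c * (h⁻¹ * x * h)) * h⁻¹ := by rw [h1]
        _ = h * c * h⁻¹ * x := by group
    · apply le_normalizer_of_conj_mem'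
      intro n hn c hc
      obtain ⟨hcN, hcC⟩ := Subgroup.mem_inf.mp hc
      have h1 : n * c * n⁻¹ = c := by
        rw [hNab' n hn c hcN, mul_inv_cancel_right]
      rw [h1]
      exact hc
  have hC : ∀ n ∈ N, (∀ x ∈ (P : Subgroup G), x * n * x⁻¹ = n) → n = 1 := by
    rcases hNmin _ hCn inf_le_left with h | h
    · intro n hn hfix
      have h1 : n ∈ N ⊓ Subgroup.centralizer ((P : Subgroup G) : Set G) := by
        refine Subgroup.mem_inf.mpr ⟨hn, ?_⟩
        rw [Subgroup.mem_centralizer_iff]
        intro x hx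
        have := hfix x hx
        calc x * n = (x * n * x⁻¹) * x := by group
          _ = n * x := by rw [this]
      rw [h, Subgroup.mem_bot] at h1
      exact h1
    · exfalso
      apply hB
      intro x hx n hn
      have h1 : n ∈ N ⊓ Subgroup.centralizer ((P : Subgroup G) : Set G) := by
        rw [h]; exact hn
      have h2 := (Subgroup.mem_inf.mp h1).2
      rw [Subgroup.mem_centralizer_iff] at h2
      exact h2 x hx
  -- the complement
  have hPN : (P : Subgroup G) ⊓ N = ⊥ := by
    apply disjoint_iff.mp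
    apply Subgroup.disjoint_of_coprime_natCard
    obtain ⟨k, hk⟩ := (IsPGroup.iff_card).mp P.2
    rw [hk]
    exact Nat.Coprime.pow_left k ((Nat.coprime_comm).mp hNp)
  have hHN : Subgroup.normalizer ((P : Subgroup G) : Set G) ⊓ N = ⊥ := by
    rw [eq_bot_iff]
    intro n hn
    obtain ⟨hnH, hnN⟩ := Subgroup.mem_inf.mp hn
    rw [Subgroup.mem_bot]
    apply hC n hnN
    intro x hx
    have h1 : x * n * x⁻¹ * n⁻¹ ∈ (P : Subgroup G) ⊓ N := by
      refine Subgroup.mem_inf.mpr ⟨?_, ?_⟩
      · have h2 : n * x⁻¹ * n⁻¹ ∈ (P : Subgroup G) :=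
          (Subgroup.mem_normalizer_iff.mp hnH x⁻¹).mp (Subgroup.inv_mem _ hx)
        have h3 : x * n * x⁻¹ * n⁻¹ = x * (n * x⁻¹ * n⁻¹) := by group
        rw [h3]
        exact Subgroup.mul_mem _ hx h2
      · exact N.mul_mem (hNn.conj_mem n hnN x) (N.inv_mem hnN)
    rw [hPN, Subgroup.mem_bot] at h1
    have h2 := congrArg (fun z => z * n) h1
    simpa using h2
  obtain ⟨s, hs⟩ := exists_section_of_complement N _ hHN hfr
  -- every real irreducible character is constant on the cosets of `N`
  have hall : ∀ χ : IrrCharacter G, (∀ g : G, ((χ : G → ℂ) g).im = 0) →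
      ∀ g n : G, n ∈ N → (χ : G → ℂ) (g * n) = (χ : G → ℂ) g :=
    fun χ hχ => const_of_not_dvd p N hNab hNp (P : Subgroup G) P.2 hC χ (hreal χ hχ)
  have hle := card_real_le N hall
  have hno : ∀ v ∈ N, IsConj v v⁻¹ → v = 1 := eq_one_of_real_of_section N s hs hle
  -- all `2`-elements centralize `N`
  have h2cent : ∀ t : G, (∃ k : ℕ, orderOf t = 2 ^ k) → ∀ n ∈ N, t * n = n * t := by
    rintro t ⟨k, hk⟩
    by_contra hcon
    push Not at hcon
    obtain ⟨n, hn, hne⟩ := hcon
    have h1 : t ^ (2 ^ k) = 1 := by rw [← hk]; exact pow_orderOf_eq_one t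
    have h2 : ∃ n ∈ N, t * n * t⁻¹ ≠ n := by
      refine ⟨n, hn, ?_⟩
      intro h
      apply hne
      calc t * n = (t * n * t⁻¹) * t := by group
        _ = n * t := by rw [h]
    obtain ⟨u, hu, hu1, hur⟩ := exists_real_of_not_centralize N k t h1 h2
    exact hu1 (hno u hu hur)
  exact hB (fun x _ n hn => commute_of_gen_top 2 hgen N h2cent x n hn)

/-- S4861, in terms of `gen`/`RealHyp`. -/
theorem normal_sylow_gen_two {G : Type u} [Group G] [Finite G] (p : ℕ) [Fact p.Prime]
    (hsolv : Group.IsSolvable ↥(gen p G)) (hreal : RealHyp p G) (Q : Sylow p ↥(gen 2 G)) :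
    (Q : Subgroup ↥(gen 2 G)).Normal := by
  haveI := gen_normal (G := G) 2
  exact normal_sylow_aux p _ ↥(gen 2 G) rfl ((SolvHyp.of_gen p hsolv).subgroup _)
    (hreal.of_odd_index _ odd_index_gen_two) (gen_gen_eq_top 2) Q

end Cfsg.Agent.Lib.Helper8.IN
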