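import Mathlib
import Cfsg.Agent.Lib.Helper8.SUGenI

/-!
# Overgroups in `SU_n(q)`: the set of centres of unitary transvections in a subgroup (helper8)

`SSu hf M` is the set of isotropic vectors all of whose unitary transvections lie in `M`.
`sieg hf u y β` is the Siegel transformation `x ↦ x + f(x,u) y + ((β - f(y,y)) f(x,u) - f(x,y)) u`.
-/

set_option autoImplicit false

namespace Cfsg.Agent.Lib.Helper8.SUMax

open Cfsg Matrix Cfsg.Agent.S5631 Cfsg.Agent.S5643 Cfsg.Agent.Lib.Helper8.Unitary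
  Cfsg.Agent.Lib.Helper8.SUGen

variable {n : ℕ} {F : Type*} [Field F] {σ : F ≃+* F} {f : (Fin n → F) → (Fin n → F) → F}
variable (hf : Cfsg.Geo.IsUnitaryForm σ f)

/-- isotropic centres all of whose unitary transvections lie in `M` -/
def SSu (M : Subgroup (GL (Fin n) F)) : Set (Fin n → F) :=
  {w | ∃ hw : f w w = 0, ∀ z : F, z + σ z = 0 → ut hf w hw z ∈ M}

lemma mem_SSu (M : Subgroup (GL (Fin n) F)) (w : Fin n → F) :
    w ∈ SSu hf M ↔ ∃ hw : f w w = 0, ∀ z : F, z + σ z = 0 → ut hf w hw z ∈ M := Iff.rfl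

lemma SSu_iso (M : Subgroup (GL (Fin n) F)) (w : Fin n → F) (hw : w ∈ SSu hf M) : f w w = 0 := by
  obtain ⟨h, -⟩ := hw
  exact h

/-- a subgroup containing all unitary transvections contains `TT` -/
lemma TT_le_of_SSu (M : Subgroup (GL (Fin n) F)) (h : ∀ x, f x x = 0 → x ∈ SSu hf M) :
    TT hf ≤ M := by
  rw [TT, Subgroup.closure_le]
  rintro g ⟨u, hu, z, hz, rfl⟩
  obtain ⟨_, h2⟩ := h u hu
  exact h2 z hz

lemma SSu_smul (M : Subgroup (GL (Fin n) F)) (a : F) (w : Fin n → F) (hw : w ∈ SSu hf M) :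
    a • w ∈ SSu hf M := by
  obtain ⟨hw0, hwM⟩ := hw
  have h0 : f (a • w) (a • w) = 0 := by rw [hf.smul_left, f_smul_right hf, hw0]; ring
  refine ⟨h0, fun z hz => ?_⟩
  have e : ut hf (a • w) h0 z = ut hf w hw0 (z * (a * σ a)) := by
    apply GL_ext
    intro x
    rw [ut_mulVec, ut_mulVec, f_smul_right hf, map_mul, map_mul, hf.involutive]
    match_scalars <;> ring
  rw [e]
  apply hwM
  rw [map_mul, map_mul, hf.involutive]
  linear_combination (a * σ a) * hz

lemma SSu_mulVec (M : Subgroup (GL (Fin n) F)) (hMS : M ≤ SUf f) (g : GL (Fin n) F) (hg : g ∈ M)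
    (w : Fin n → F) (hw : w ∈ SSu hf M) :
    (g : Matrix (Fin n) (Fin n) F) *ᵥ w ∈ SSu hf M := by
  obtain ⟨hw0, hwM⟩ := hw
  have hiso := SUf_iso g (hMS hg)
  have h0 : f ((g : Matrix (Fin n) (Fin n) F) *ᵥ w) ((g : Matrix (Fin n) (Fin n) F) *ᵥ w) = 0 := by
    rw [hiso, hw0]
  refine ⟨h0, fun z hz => ?_⟩
  have e : ut hf _ h0 z = g * ut hf w hw0 z * g⁻¹ := by
    apply GL_ext
    intro x
    rw [ut_mulVec, mul_mulVec, mul_mulVec, ut_mulVec, Matrix.mulVec_add, Matrix.mulVec_smul,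
      mulVec_inv_mulVec]
    congr 3
    have := hiso (((g⁻¹ : GL (Fin n) F) : Matrix (Fin n) (Fin n) F) *ᵥ x) w
    rw [mulVec_inv_mulVec] at this
    exact this
  rw [e]
  exact M.mul_mem (M.mul_mem hg (hwM z hz)) (M.inv_mem hg)

include hf in
/-- the Siegel transformation -/
noncomputable def sieg (u y : Fin n → F) (hu : f u u = 0) (hyu : f y u = 0) (β : F) :
    GL (Fin n) F :=
  tvf hf u (σ β • u - y) (by
    rw [f_sub_right hf, f_smul_right hf, hu, f_swap_eq_zero hf _ _ hyu]; ring) *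
  tvf hf y u hyu

lemma sieg_mulVec (u y : Fin n → F) (hu : f u u = 0) (hyu : f y u = 0) (β : F) (x : Fin n → F) :
    ((sieg hf u y hu hyu β : GL (Fin n) F) : Matrix (Fin n) (Fin n) F) *ᵥ x =
      x + f x u • y + ((β - f y y) * f x u - f x y) • u := by
  rw [sieg, mul_mulVec, tvf_mulVec, tvf_mulVec]
  simp only [hf.add_left, f_sub_right hf, hf.smul_left, f_smul_right hf, hf.involutive, hyu]
  match_scalars <;> ring

lemma sieg_mem (u y : Fin n → F) (hu : f u u = 0) (hyu : f y u = 0) (β : F)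
    (hβ : β + σ β = f y y) : sieg hf u y hu hyu β ∈ SUf f := by
  refine ⟨fun x x' => ?_, ?_⟩
  · show f (((sieg hf u y hu hyu β : GL (Fin n) F) : Matrix (Fin n) (Fin n) F) *ᵥ x)
      (((sieg hf u y hu hyu β : GL (Fin n) F) : Matrix (Fin n) (Fin n) F) *ᵥ x') = f x x'
    rw [sieg_mulVec, sieg_mulVec]
    have huy : f u y = 0 := f_swap_eq_zero hf _ _ hyu
    have h1 : f u x' = σ (f x' u) := hf.herm u x'
    have h2 : f y x' = σ (f x' y) := hf.herm y x'
    have h3 : σ (f y y) = f y y := f_self_fix hf y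
    simp only [hf.add_left, f_add_right hf, hf.smul_left, f_smul_right hf, hu, hyu, huy,
      map_sub, map_mul, hf.involutive, h1, h2, h3]
    have hσβ : σ β = f y y - β := by linear_combination hβ
    rw [hσβ]
    ring
  · exact (Cfsg.Geo.specialLinear (Fin n) F).mul_mem (tvf_mem_SL hf _ _ _) (tvf_mem_SL hf _ _ _)

/-- a Siegel transformation with `u ∈ W` (totally singular) stabilizes `W` -/
lemma sieg_stab (W : Submodule F (Fin n → F)) (hW : Cfsg.Geo.IsTotallySingularFor f W)
    (u y : Fin n → F) (huW : u ∈ W) (hyu : f y u = 0) (β : F) :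
    sieg hf u y (hW u huW u huW) hyu β ∈ Cfsg.Geo.subspaceStabilizer W := by
  rw [mem_stab_iff]
  intro x
  rw [sieg_mulVec]
  constructor
  · intro hx
    rw [hW x hx u huW, zero_smul, add_zero, mul_zero, zero_sub]
    exact W.add_mem hx (W.smul_mem _ huW)
  · intro hx
    have h1 := hW _ hx u huW
    rw [hf.add_left, hf.add_left, hf.smul_left, hf.smul_left, hyu, hW u huW u huW, mul_zero,
      mul_zero, add_zero, add_zero] at h1
    rw [h1, zero_smul, add_zero, mul_zero, zero_sub] at hx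
    have := W.sub_mem hx (W.smul_mem (-(f x y)) huW)
    rwa [add_sub_cancel_right] at this

/-- unitary transvections with centre perpendicular to `W` stabilize `W` -/
lemma ut_stab_of_perp (W : Submodule F (Fin n → F)) (x : Fin n → F) (hx : f x x = 0)
    (hxW : ∀ w ∈ W, f x w = 0) (z : F) : ut hf x hx z ∈ Cfsg.Geo.subspaceStabilizer W := by
  rw [mem_stab_iff]
  intro v
  rw [ut_mulVec]
  constructor
  · intro hv
    rw [f_swap_eq_zero hf _ _ (hxW v hv), mul_zero, zero_smul, add_zero]; exact hv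
  · intro hv
    have h1 := hxW _ hv
    rw [f_add_right hf, f_smul_right hf, hx, mul_zero, add_zero] at h1
    rw [f_swap_eq_zero hf _ _ h1, mul_zero, zero_smul, add_zero] at hv
    exact hv

/-- unitary transvections with centre in `W` stabilize `W` -/
lemma ut_stab_of_mem (W : Submodule F (Fin n → F)) (x : Fin n → F) (hx : f x x = 0)
    (hxW : x ∈ W) (z : F) : ut hf x hx z ∈ Cfsg.Geo.subspaceStabilizer W := by
  rw [mem_stab_iff]
  intro v
  rw [ut_mulVec]
  exact (Submodule.add_mem_iff_left W (W.smul_mem _ hxW)).symm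

lemma ut_mem_SUf (x : Fin n → F) (hx : f x x = 0) (z : F) (hz : z + σ z = 0) :
    ut hf x hx z ∈ SUf f := TT_le_SUf hf (ut_mem hf x hx z hz)

end Cfsg.Agent.Lib.Helper8.SUMax
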