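import Mathlib
import Cfsg.Agent.Lib.Lead.NormalPComplement

/-!
# Sharply 3-transitive groups of even degree (towards S0729), part A: generic group lemmas

(author: helper8)
-/

set_option autoImplicit false
set_option linter.unusedVariables false
set_option linter.unusedSectionVars false
set_option linter.style.haveILetI false
set_option linter.unusedSimpArgs false

namespace Cfsg.Agent.Lib.Helper8.Sh3

/-- an element whose order is prime to the index of a normal subgroup lies in it -/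
theorem mem_of_coprime_index {G : Type*} [Group G] [Finite G] (N : Subgroup G) [N.Normal] (x : G)
    (h : Nat.Coprime (orderOf x) N.index) : x ∈ N := by
  rw [← QuotientGroup.eq_one_iff]
  have h1 : (x : G ⧸ N) ^ orderOf x = 1 := by
    rw [← QuotientGroup.mk_pow, pow_orderOf_eq_one]; rfl
  have h2 : (x : G ⧸ N) ^ N.index = 1 := by
    rw [Subgroup.index_eq_card]; exact pow_card_eq_one'
  have h3 := pow_gcd_eq_one.2 ⟨h1, h2⟩
  rw [Nat.Coprime] at h
  rw [h, pow_one] at h3
  exact h3

/-- a free action of a finite group `K` on a finite set `X`: `|K|` divides `|X|` -/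
theorem card_dvd_card_of_free {K X : Type*} [Group K] [Finite K] [Finite X] [MulAction K X]
    (hfree : ∀ (k : K) (x : X), k • x = x → k = 1) : Nat.card K ∣ Nat.card X := by
  classical
  haveI : Fintype (MulAction.orbitRel.Quotient K X) := Fintype.ofFinite _
  rw [Nat.card_congr (MulAction.selfEquivSigmaOrbits K X), Nat.card_sigma]
  apply Finset.dvd_sum
  intro ω _
  have hstab : MulAction.stabilizer K ω.out = ⊥ := by
    rw [Subgroup.eq_bot_iff_forall]
    intro k hk
    exact hfree k _ hk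
  have e := MulAction.orbitEquivQuotientStabilizer K ω.out
  rw [Nat.card_congr e, hstab]
  rw [Nat.card_congr (QuotientGroup.quotientBot (G := K)).toEquiv]

/-- set version: a free action on an invariant finite subset -/
theorem card_dvd_ncard_of_free {K α : Type*} [Group K] [Finite K] [MulAction K α] (S : Set α)
    (hS : S.Finite) (hinv : ∀ (k : K), ∀ x ∈ S, k • x ∈ S)
    (hfree : ∀ (k : K), ∀ x ∈ S, k • x = x → k = 1) : Nat.card K ∣ S.ncard := by
  haveI : Finite ↥S := hS
  letI : MulAction K ↥S :=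
    { smul := fun k x => ⟨k • x.1, hinv k x.1 x.2⟩
      one_smul := fun x => Subtype.ext (one_smul K x.1)
      mul_smul := fun a b x => Subtype.ext (mul_smul a b x.1) }
  have h := card_dvd_card_of_free (K := K) (X := ↥S) (by
    intro k x hx
    exact hfree k x.1 x.2 (congrArg Subtype.val hx))
  rwa [Nat.card_coe_set_eq] at h

/-- an involutory automorphism without non-trivial fixed points on a stable finite subgroup inverts
it -/
theorem inv_of_fpf_on {H : Type*} [Group H] (σ : H ≃* H) (hσ : ∀ h, σ (σ h) = h)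
    (Y : Subgroup H) [Finite Y] (hYσ : ∀ y ∈ Y, σ y ∈ Y) (h1 : ∀ y ∈ Y, σ y = y → y = 1) :
    ∀ y ∈ Y, σ y = y⁻¹ := by
  let f : Y → Y := fun x => ⟨(x : H)⁻¹ * σ x, Y.mul_mem (Y.inv_mem x.2) (hYσ x x.2)⟩
  have hinj : Function.Injective f := by
    intro x x' hxx
    have h : (x : H)⁻¹ * σ x = (x' : H)⁻¹ * σ x' := congrArg Subtype.val hxx
    have hfx : σ ((x' : H) * (x : H)⁻¹) = (x' : H) * (x : H)⁻¹ := by
      rw [map_mul, map_inv]
      have e : σ (x' : H) = (x' : H) * ((x : H)⁻¹ * σ x) := by rw [h]; group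
      rw [e]; group
    have h2 := h1 _ (Y.mul_mem x'.2 (Y.inv_mem x.2)) hfx
    rw [mul_inv_eq_one] at h2
    exact Subtype.ext h2.symm
  have hsurj := Finite.injective_iff_surjective.1 hinj
  intro y hy
  obtain ⟨x, hx⟩ := hsurj ⟨y, hy⟩
  have e : y = (x : H)⁻¹ * σ x := (congrArg Subtype.val hx).symm
  rw [e, map_mul, map_inv, hσ]; group

/-- a finite group with a fixed-point-free involutory automorphism is commutative and inverted -/
theorem comm_of_fpf_invol {U : Type*} [Group U] [Finite U] (τ : U ≃* U) (hτ : ∀ u, τ (τ u) = u)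
    (hfpf : ∀ u, τ u = u → u = 1) : (∀ u, τ u = u⁻¹) ∧ ∀ u v : U, u * v = v * u := by
  have hinv : ∀ u, τ u = u⁻¹ := fun u =>
    inv_of_fpf_on τ hτ ⊤ (fun y _ => Subgroup.mem_top _) (fun y _ h => hfpf y h) u (Subgroup.mem_top u)
  refine ⟨hinv, fun u v => ?_⟩
  have h := hinv (u * v)
  rw [map_mul, hinv u, hinv v, mul_inv_rev] at h
  have h2 := congrArg (fun t => t⁻¹) h
  simp only [mul_inv_rev, inv_inv] at h2
  exact h2.symm

/-- **the `σ`-principle**: if `σ` is an involutory automorphism of `H` with at most two fixed points and `H`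
has no subgroup of index 2, then every `σ`-stable normal subgroup of odd order is central. -/
theorem sigma_central {H : Type*} [Group H] [Finite H] (σ : H ≃* H) (hσ : ∀ h, σ (σ h) = h)
    (j : H) (hj2 : j * j = 1) (hfix : ∀ h, σ h = h → h = 1 ∨ h = j)
    (hno : ∀ N : Subgroup H, N.index ≠ 2)
    (Y : Subgroup H) [hYn : Y.Normal] (hYσ : ∀ y ∈ Y, σ y ∈ Y) (hYodd : Odd (Nat.card Y)) :
    Y ≤ Subgroup.center H := by
  classical
  have h1 : ∀ y ∈ Y, σ y = y → y = 1 := by
    intro y hy hfy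
    rcases hfix y hfy with h | h
    · exact h
    · have hd : orderOf y ∣ 2 := orderOf_dvd_of_pow_eq_one (by rw [pow_two, h]; exact hj2)
      have hd2 : orderOf y ∣ Nat.card Y := Y.orderOf_dvd_natCard hy
      have hg : Nat.gcd 2 (Nat.card Y) = 1 := Nat.coprime_two_left.2 hYodd
      have h3 : orderOf y ∣ 1 := hg ▸ Nat.dvd_gcd hd hd2
      exact orderOf_eq_one_iff.1 (Nat.dvd_one.1 h3)
  have h2 : ∀ y ∈ Y, σ y = y⁻¹ := inv_of_fpf_on σ hσ Y hYσ h1
  have h3 : ∀ h : H, ∀ y ∈ Y, ((σ h)⁻¹ * h) * y = y * ((σ h)⁻¹ * h) := by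
    intro h y hy
    have hc : h * y * h⁻¹ ∈ Y := hYn.conj_mem y hy h
    have e1 : σ (h * y * h⁻¹) = (h * y * h⁻¹)⁻¹ := h2 _ hc
    rw [map_mul, map_mul, map_inv, h2 y hy] at e1
    have e2 : ((σ h)⁻¹ * h) * y⁻¹ = y⁻¹ * ((σ h)⁻¹ * h) := by
      calc ((σ h)⁻¹ * h) * y⁻¹ = (σ h)⁻¹ * (h * y * h⁻¹)⁻¹ * h := by group
        _ = (σ h)⁻¹ * (σ h * y⁻¹ * (σ h)⁻¹) * h := by rw [e1]
        _ = y⁻¹ * ((σ h)⁻¹ * h) := by group
    calc ((σ h)⁻¹ * h) * y = y * (y⁻¹ * ((σ h)⁻¹ * h)) * y := by group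
      _ = y * (((σ h)⁻¹ * h) * y⁻¹) * y := by rw [e2]
      _ = y * ((σ h)⁻¹ * h) := by group
  set C := Subgroup.centralizer (Y : Set H) with hCdef
  have hψ : ∀ h, (σ h)⁻¹ * h ∈ C := fun h =>
    Subgroup.mem_centralizer_iff.2 (fun y hy => (h3 h y hy).symm)
  have key : ∀ p p' : H, (σ p)⁻¹ * p = (σ p')⁻¹ * p' → p' = p ∨ p' = j * p := by
    intro p p' h
    have hfx : σ (p' * p⁻¹) = p' * p⁻¹ := by
      rw [map_mul, map_inv]
      have e : σ p' = p' * ((σ p)⁻¹ * p)⁻¹ := by rw [h]; group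
      rw [e]; group
    rcases hfix _ hfx with h' | h'
    · left; rw [mul_inv_eq_one] at h'; exact h'
    · right; rw [← h']; group
  have hcard : Nat.card H ≤ 2 * Nat.card C := by
    haveI := Fintype.ofFinite H
    haveI := Fintype.ofFinite C
    let ψ : H → C := fun h => ⟨_, hψ h⟩
    have hfib : ∀ c ∈ (Finset.univ : Finset H).image ψ,
        (Finset.univ.filter (fun h => ψ h = c)).card ≤ 2 := by
      intro c _
      by_contra hcon
      push Not at hcon
      obtain ⟨p₁, p₂, p₃, m1, m2, m3, n12, n13, n23⟩ := Finset.two_lt_card_iff.1 hcon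
      simp only [Finset.mem_filter, Finset.mem_univ, true_and] at m1 m2 m3
      have k12 := key p₁ p₂ (congrArg Subtype.val (m1.trans m2.symm))
      have k13 := key p₁ p₃ (congrArg Subtype.val (m1.trans m3.symm))
      rcases k12 with h | h
      · exact n12 h.symm
      rcases k13 with h' | h'
      · exact n13 h'.symm
      exact n23 (h.trans h'.symm)
    have h5 := Finset.card_le_mul_card_image (Finset.univ : Finset H) 2 hfib
    rw [Finset.card_univ] at h5
    calc Nat.card H = Fintype.card H := Nat.card_eq_fintype_card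
      _ ≤ 2 * ((Finset.univ : Finset H).image ψ).card := h5
      _ ≤ 2 * Fintype.card C := Nat.mul_le_mul_left 2 (Finset.card_le_univ _)
      _ = 2 * Nat.card C := by rw [Nat.card_eq_fintype_card]
  have hidx : C.index ≤ 2 := by
    have h6 := C.card_mul_index
    have h7 : 0 < Nat.card C := Nat.card_pos
    by_contra hcon
    push Not at hcon
    have : 3 * Nat.card C ≤ Nat.card C * C.index := by
      rw [mul_comm]; exact Nat.mul_le_mul_left _ hcon
    omega
  have hC : C = ⊤ := by
    have h0 : C.index ≠ 0 := Subgroup.index_ne_zero_of_finite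
    have h2' := hno C
    have h8 : C.index = 1 := by omega
    exact Subgroup.index_eq_one.1 h8
  intro y hy
  rw [Subgroup.mem_center_iff]
  intro g
  have hg : g ∈ C := hC ▸ Subgroup.mem_top g
  exact (Subgroup.mem_centralizer_iff.1 hg y hy).symm

/-- from a subgroup of index 2 to a `σ`-stable one -/
theorem exists_sigma_stable_index_two {H : Type*} [Group H] (σ : H ≃* H) (hσ : ∀ h, σ (σ h) = h)
    (N : Subgroup H) (hN : N.index = 2) :
    ∃ N' : Subgroup H, N'.index = 2 ∧ ∀ n ∈ N', σ n ∈ N' := by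
  classical
  by_cases hst : ∀ n ∈ N, σ n ∈ N
  · exact ⟨N, hN, hst⟩
  push Not at hst
  obtain ⟨n₀, hn₀, hn₀'⟩ := hst
  have hmul : ∀ a b : H, a * b ∈ N ↔ (a ∈ N ↔ b ∈ N) := fun a b =>
    Subgroup.mul_mem_iff_of_index_two hN
  let N' : Subgroup H :=
    { carrier := {h | h ∈ N ↔ σ h ∈ N}
      one_mem' := by
        show (1 : H) ∈ N ↔ σ 1 ∈ N
        rw [map_one]
      mul_mem' := by
        intro a b ha hb
        have ha' : a ∈ N ↔ σ a ∈ N := ha
        have hb' : b ∈ N ↔ σ b ∈ N := hb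
        show a * b ∈ N ↔ σ (a * b) ∈ N
        rw [map_mul, hmul, hmul, ha', hb']
      inv_mem' := by
        intro a ha
        have ha' : a ∈ N ↔ σ a ∈ N := ha
        show a⁻¹ ∈ N ↔ σ a⁻¹ ∈ N
        rw [map_inv, inv_mem_iff, inv_mem_iff, ha'] }
  have hmem : ∀ h, h ∈ N' ↔ (h ∈ N ↔ σ h ∈ N) := fun h => Iff.rfl
  refine ⟨N', ?_, ?_⟩
  · rw [Subgroup.index_eq_two_iff]
    refine ⟨n₀, fun b => ?_⟩
    rw [hmem, hmem, map_mul, hmul, hmul]
    by_cases h1 : b ∈ N <;> by_cases h2 : σ b ∈ N <;> simp [h1, h2, hn₀, hn₀', Xor]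
  · intro n hn
    rw [hmem] at hn ⊢
    rw [hσ]
    exact hn.symm

open Cfsg in
/-- a group of even order with a normal 2-complement has a subgroup of index 2 -/
theorem exists_index_two_of_hasNormalPComplement {H : Type*} [Group H] [Finite H]
    (h : HasNormalPComplement 2 H) (heven : 2 ∣ Nat.card H) : ∃ N : Subgroup H, N.index = 2 := by
  haveI : Fact (Nat.Prime 2) := ⟨Nat.prime_two⟩
  obtain ⟨N, hN, hc, k, hk⟩ :=
    Cfsg.Agent.Lib.Lead.NormalPComplement.exists_normal_of_hasNormalPComplement h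
  haveI := hN
  have hk1 : 1 ≤ k := by
    rcases k with _ | k
    · exfalso
      rw [pow_zero] at hk
      have h1 := N.card_mul_index
      rw [hk, mul_one] at h1
      rw [← h1] at heven
      have : Nat.gcd (Nat.card N) 2 = 1 := hc
      have h2 : 2 ∣ Nat.gcd (Nat.card N) 2 := Nat.dvd_gcd heven (dvd_refl 2)
      rw [this] at h2
      omega
    · omega
  have hQ : Nat.card (H ⧸ N) = 2 ^ k := by rw [← Subgroup.index_eq_card, hk]
  obtain ⟨K, hK⟩ := Sylow.exists_subgroup_card_pow_prime 2 (n := k - 1) (G := H ⧸ N)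
    (by rw [hQ]; exact pow_dvd_pow 2 (by omega))
  refine ⟨K.comap (QuotientGroup.mk' N), ?_⟩
  rw [Subgroup.index_comap_of_surjective _ (QuotientGroup.mk'_surjective N)]
  have h1 := K.card_mul_index
  rw [hK, hQ] at h1
  have h2 : (2 : ℕ) ^ k = 2 ^ (k - 1) * 2 := by
    rw [← pow_succ]; congr 1; omega
  rw [h2] at h1
  exact Nat.eq_of_mul_eq_mul_left (by positivity) h1

end Cfsg.Agent.Lib.Helper8.Sh3
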