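import Mathlib
import Cfsg.Prelude.Def_LieExceptional
import Cfsg.Agent.Lib.Helper8.Sh3A

/-!
# From the conclusion of the abstract Brauer–Suzuki–Wall theorem to a Zassenhaus action (part A)

(author: helper8)  `Q` a subgroup with `C(x) = Q` for all `x ∈ Q^#`, `N(Q) = Q ⊔ D`, `Q ⊓ D = ⊥`,
`|Q| = 2 |D| + 1`, `2 |G| = q (q + 1) (q - 1)`: abstract action lemmas.
-/

set_option autoImplicit false
set_option linter.unusedVariables false
set_option linter.unusedSectionVars false
set_option linter.unusedSimpArgs false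
set_option linter.unnecessarySimpa false
set_option linter.style.haveILetI false

namespace Cfsg.Agent.Lib.Helper8.BswD

open MulAction

section cc
variable {G : Type*} [Group G] (Q : Subgroup G)

/-- a subgroup which is the centraliser of each of its nonidentity elements is abelian -/
theorem comm_of_cc (hCQ : ∀ x ∈ Q, x ≠ 1 → Subgroup.centralizer ({x} : Set G) = Q) :
    ∀ x ∈ Q, ∀ y ∈ Q, x * y = y * x := by
  intro x hx y hy
  by_cases h : x = 1
  · rw [h, one_mul, mul_one]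
  · have hy' : y ∈ Subgroup.centralizer ({x} : Set G) := by rw [hCQ x hx h]; exact hy
    exact Subgroup.mem_centralizer_iff.1 hy' x rfl

/-- such a subgroup is a TI subgroup, in the strong form -/
theorem mem_normalizer_of_conj_mem
    (hCQ : ∀ x ∈ Q, x ≠ 1 → Subgroup.centralizer ({x} : Set G) = Q) {g u : G} (hu : u ∈ Q)
    (hu1 : u ≠ 1) (hv : g⁻¹ * u * g ∈ Q) : g ∈ Subgroup.normalizer (Q : Set G) := by
  have hv1 : g⁻¹ * u * g ≠ 1 := by
    intro h
    apply hu1
    have : u = g * (g⁻¹ * u * g) * g⁻¹ := by group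
    rw [this, h]
    group
  have hCu := hCQ u hu hu1
  have hCv := hCQ _ hv hv1
  rw [Subgroup.mem_normalizer_iff]
  intro h
  constructor
  · intro hh
    rw [← hCv, Subgroup.mem_centralizer_iff] at hh
    have e := hh _ rfl
    rw [← hCu, Subgroup.mem_centralizer_iff]
    intro k hk
    rw [Set.mem_singleton_iff.1 hk]
    have : u * (g * h * g⁻¹) = g * ((g⁻¹ * u * g) * h) * g⁻¹ := by group
    rw [this, e]
    group
  · intro hh
    rw [← hCu, Subgroup.mem_centralizer_iff] at hh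
    have e := hh _ rfl
    rw [← hCv, Subgroup.mem_centralizer_iff]
    intro k hk
    rw [Set.mem_singleton_iff.1 hk]
    have : (g⁻¹ * u * g) * h = g⁻¹ * (u * (g * h * g⁻¹)) * g := by group
    rw [this, e]
    group

end cc

/-- the order of a product of two subgroups meeting trivially, one normalising the other -/
theorem card_sup_of_le_normalizer' {G : Type*} [Group G] (A B : Subgroup G)
    (hAB : B ≤ Subgroup.normalizer (A : Set G)) (hinf : A ⊓ B = ⊥) :
    Nat.card ↥(A ⊔ B) = Nat.card A * Nat.card B := by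
  rw [← Nat.card_prod]
  symm
  have hmem : ∀ (a : A) (b : B), (a : G) * (b : G) ∈ A ⊔ B := fun a b =>
    Subgroup.mul_mem _ (Subgroup.mem_sup_left a.2) (Subgroup.mem_sup_right b.2)
  apply Nat.card_congr
  refine Equiv.ofBijective
    (fun p : A × B => (⟨(p.1 : G) * (p.2 : G), hmem p.1 p.2⟩ : ↥(A ⊔ B))) ⟨?_, ?_⟩
  · rintro ⟨a, b⟩ ⟨a', b'⟩ h
    have h' : (a : G) * b = a' * b' := congrArg Subtype.val h
    have h1 : (a' : G)⁻¹ * a = b' * (b : G)⁻¹ := by
      rw [inv_mul_eq_iff_eq_mul, ← mul_assoc, ← h', mul_assoc, mul_inv_cancel, mul_one]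
    have h2 : (a' : G)⁻¹ * a ∈ A ⊓ B := by
      refine ⟨A.mul_mem (A.inv_mem a'.2) a.2, ?_⟩
      rw [h1]
      exact B.mul_mem b'.2 (B.inv_mem b.2)
    rw [hinf, Subgroup.mem_bot, inv_mul_eq_one] at h2
    have h3 : (b : G) = b' := by
      rw [h2] at h'
      exact mul_left_cancel h'
    exact Prod.ext (Subtype.ext h2.symm) (Subtype.ext h3)
  · rintro ⟨g, hg⟩
    have := hg
    rw [← SetLike.mem_coe, Subgroup.coe_mul_of_right_le_normalizer_left A B hAB, Set.mem_mul] at this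
    obtain ⟨a, ha, b, hb, rfl⟩ := this
    exact ⟨(⟨a, ha⟩, ⟨b, hb⟩), rfl⟩

section action
variable {G Ω : Type*} [Group G] [Finite G] [MulAction G Ω] [Finite Ω] (Q : Subgroup G) (x : Ω)

/-- a semiregular subgroup of the right order is regular -/
theorem regular_of_semiregular (hQx : ∀ u ∈ Q, u • x = x)
    (hsemi : ∀ u ∈ Q, ∀ ω : Ω, ω ≠ x → u • ω = ω → u = 1)
    (hcard : Nat.card Ω = Nat.card Q + 1) :
    ∀ y z : Ω, y ≠ x → z ≠ x → ∃! u : Q, (u : G) • y = z := by
  classical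
  intro y z hy hz
  have hne : ∀ u : Q, (u : G) • y ≠ x := by
    intro u h
    apply hy
    have : (u : G) • y = (u : G) • x := by rw [h, hQx u u.2]
    exact MulAction.injective _ this
  let f : Q → {ω : Ω // ω ≠ x} := fun u => ⟨(u : G) • y, hne u⟩
  have hinj : Function.Injective f := by
    intro u u' huu
    have e : (u : G) • y = (u' : G) • y := congrArg Subtype.val huu
    have h1 : ((u' : G)⁻¹ * u) = 1 := by
      apply hsemi _ (Q.mul_mem (Q.inv_mem u'.2) u.2) y hy
      rw [mul_smul, e, inv_smul_smul]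
    exact Subtype.ext (inv_mul_eq_one.1 h1).symm
  have hc : Nat.card Q = Nat.card {ω : Ω // ω ≠ x} := by
    have h1 : Nat.card {ω : Ω // ω ≠ x} = Nat.card (({x} : Set Ω)ᶜ : Set Ω) := rfl
    rw [h1, Nat.card_coe_set_eq, Set.ncard_compl, Set.ncard_singleton, hcard]
    omega
  have hbij : Function.Bijective f := (Nat.bijective_iff_injective_and_card f).2 ⟨hinj, hc⟩
  obtain ⟨u, hu⟩ := hbij.2 ⟨z, hz⟩
  refine ⟨u, congrArg Subtype.val hu, ?_⟩
  intro u' hu'
  apply hinj
  rw [hu]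
  exact Subtype.ext hu'

/-- double transitivity from a regular subgroup of the point stabiliser -/
theorem two_trans_of_regular [IsPretransitive G Ω] (hQx : ∀ u ∈ Q, u • x = x)
    (hreg : ∀ y z : Ω, y ≠ x → z ≠ x → ∃ u ∈ Q, u • y = z)
    {a b c d : Ω} (hab : a ≠ b) (hcd : c ≠ d) : ∃ g : G, g • a = c ∧ g • b = d := by
  obtain ⟨g₁, hg₁⟩ := exists_smul_eq G a x
  obtain ⟨g₂, hg₂⟩ := exists_smul_eq G c x
  have h1 : g₁ • b ≠ x := by
    intro h
    rw [← hg₁] at h
    exact hab (MulAction.injective _ h).symm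
  have h2 : g₂ • d ≠ x := by
    intro h
    rw [← hg₂] at h
    exact hcd (MulAction.injective _ h).symm
  obtain ⟨u, hu, hub⟩ := hreg _ _ h1 h2
  refine ⟨g₂⁻¹ * u * g₁, ?_, ?_⟩
  · rw [mul_smul, mul_smul, hg₁, hQx u hu, inv_smul_eq_iff, hg₂]
  · rw [mul_smul, mul_smul, hub, inv_smul_smul]

/-- three-point stabilisers are trivial -/
theorem fix3_of_regular [IsPretransitive G Ω] (hQx : ∀ u ∈ Q, u • x = x)
    (hnorm : ∀ h : G, h • x = x → ∀ u ∈ Q, h⁻¹ * u * h ∈ Q)
    (hsemi : ∀ u ∈ Q, ∀ ω : Ω, ω ≠ x → u • ω = ω → u = 1)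
    (hreg : ∀ y z : Ω, y ≠ x → z ≠ x → ∃ u ∈ Q, u • y = z)
    (hC : ∀ u ∈ Q, u ≠ 1 → ∀ h : G, h * u = u * h → h ∈ Q) :
    ∀ g : G, ∀ a b c : Ω, a ≠ b → b ≠ c → a ≠ c → g • a = a → g • b = b → g • c = c → g = 1 := by
  intro g a b c hab hbc hac ha hb hc
  obtain ⟨g₁, hg₁⟩ := exists_smul_eq G a x
  have hb' : g₁ • b ≠ x := by
    intro h
    rw [← hg₁] at h
    exact hab (MulAction.injective _ h).symm
  have hc' : g₁ • c ≠ x := by
    intro h
    rw [← hg₁] at h
    exact hac (MulAction.injective _ h).symm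
  obtain ⟨u, hu, hubc⟩ := hreg _ _ hb' hc'
  have hu1 : u ≠ 1 := by
    rintro rfl
    rw [one_smul] at hubc
    exact hbc (MulAction.injective _ hubc)
  set h : G := g₁ * g * g₁⁻¹ with hh
  have hhx : h • x = x := by
    rw [hh, mul_smul, mul_smul, ← hg₁, inv_smul_smul, ha]
  have hhb : h • (g₁ • b) = g₁ • b := by
    rw [hh, mul_smul, mul_smul, inv_smul_smul, hb]
  have hhc : h • (g₁ • c) = g₁ • c := by
    rw [hh, mul_smul, mul_smul, inv_smul_smul, hc]
  have hinvx : h⁻¹ • x = x := by rw [inv_smul_eq_iff, hhx]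
  -- the commutator `h⁻¹ u⁻¹ h u` lies in `Q` and fixes `g₁ • b`
  have hcomm : h⁻¹ * u⁻¹ * h * u = 1 := by
    apply hsemi _ (Q.mul_mem (hnorm h hhx _ (Q.inv_mem hu)) hu) (g₁ • b) hb'
    rw [mul_smul, mul_smul, mul_smul, hubc, hhc, ← hubc, inv_smul_smul, inv_smul_eq_iff, hhb]
  have hcu : h * u = u * h := by
    have : h * u = u * h * (h⁻¹ * u⁻¹ * h * u) := by group
    rw [this, hcomm, mul_one]
  have hhQ : h ∈ Q := hC u hu hu1 h hcu
  have hh1 : h = 1 := hsemi h hhQ (g₁ • b) hb' hhb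
  have : g = g₁⁻¹ * h * g₁ := by rw [hh]; group
  rw [this, hh1]
  group

end action

end Cfsg.Agent.Lib.Helper8.BswD
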