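import Mathlib

/-!
# Camina pairs: the basic definition (shared by the pieces of S4140)
-/

namespace Cfsg.Agent.Lib.Helper8.Cam

/-- The Camina condition for a subgroup `N` of `G`: every `g ∉ N` is conjugate to `g * n`
for every `n ∈ N`. -/
def IsCam {G : Type*} [Group G] (N : Subgroup G) : Prop :=
  ∀ g : G, g ∉ N → ∀ n ∈ N, ∃ x : G, x * g * x⁻¹ = g * n

end Cfsg.Agent.Lib.Helper8.Cam
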