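import Mathlib
import Cfsg.Agent.Lib.Helper8.CamDefs

/-!
# Camina pairs: basic lemmas (piece A of S4140)
-/

set_option autoImplicit false
set_option linter.unusedVariables false
set_option linter.unusedSectionVars false
set_option linter.style.haveILetI false

namespace Cfsg.Agent.Lib.Helper8.Cam

variable {G : Type*} [Group G] [Finite G] (N : Subgroup G) [N.Normal]

/-- (A1) -/
theorem pow_orderOf_eq_one (hc : IsCam N) {g n : G} (hg : g ∉ N) (hn : n ∈ N)
    (hgn : Commute g n) : n ^ orderOf g = 1 := by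
  obtain ⟨x, hx⟩ := hc g hg n hn
  have h1 : orderOf (g * n) = orderOf g := by
    rw [← hx]
    exact (MulAut.conj x).orderOf_eq g
  have h2 : (g * n) ^ orderOf g = 1 := by
    rw [← h1]; exact _root_.pow_orderOf_eq_one _
  rw [hgn.mul_pow, _root_.pow_orderOf_eq_one, one_mul] at h2
  exact h2

/-- the preimage in `G` of the centralizer of `gN` in `G ⧸ N`. -/
noncomputable def cstar (g : G) : Subgroup G :=
  (Subgroup.centralizer ({(QuotientGroup.mk g : G ⧸ N)} : Set (G ⧸ N))).comap (QuotientGroup.mk' N)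

theorem mem_cstar_iff (g t : G) : t ∈ cstar N g ↔ g⁻¹ * (t * g * t⁻¹) ∈ N := by
  unfold cstar
  rw [Subgroup.mem_comap, Subgroup.mem_centralizer_singleton_iff, QuotientGroup.mk'_apply,
    ← QuotientGroup.eq]
  rw [QuotientGroup.mk_mul, QuotientGroup.mk_mul, QuotientGroup.mk_inv]
  constructor
  · intro h
    rw [h]; group
  · intro h
    exact (mul_inv_eq_iff_eq_mul.mp h.symm)

theorem card_cstar_quot (g : G) :
    Nat.card (cstar N g) =
      Nat.card N * Nat.card (Subgroup.centralizer ({(QuotientGroup.mk g : G ⧸ N)} : Set (G ⧸ N))) := by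
  set C := Subgroup.centralizer ({(QuotientGroup.mk g : G ⧸ N)} : Set (G ⧸ N)) with hC
  have hidx : (cstar N g).index = C.index := by
    unfold cstar
    exact Subgroup.index_comap_of_surjective C (QuotientGroup.mk'_surjective N)
  have h1 : Nat.card (cstar N g) * (cstar N g).index = Nat.card G := Subgroup.card_mul_index _
  have h2 : Nat.card C * C.index = Nat.card (G ⧸ N) := Subgroup.card_mul_index _
  have h3 : Nat.card G = Nat.card (G ⧸ N) * Nat.card N :=
    Subgroup.card_eq_card_quotient_mul_card_subgroup N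
  have hpos : 0 < C.index := Nat.pos_of_ne_zero (Subgroup.index_ne_zero_of_finite)
  have : Nat.card (cstar N g) * C.index = (Nat.card N * Nat.card C) * C.index := by
    rw [← hidx, h1, h3, ← h2, hidx]; ring
  exact Nat.eq_of_mul_eq_mul_right hpos this

theorem card_cstar_cam (hc : IsCam N) {g : G} (hg : g ∉ N) :
    Nat.card (cstar N g) = Nat.card N * Nat.card (Subgroup.centralizer ({g} : Set G)) := by
  classical
  choose! x hx using hc g hg
  rw [← Nat.card_prod]
  symm
  apply Nat.card_congr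
  have hxmem : ∀ n ∈ N, x n ∈ cstar N g := by
    intro n hn
    rw [mem_cstar_iff, hx n hn]
    simpa using hn
  refine Equiv.ofBijective (fun nc => ⟨x nc.1.1 * nc.2.1, ?_⟩) ⟨?_, ?_⟩
  · refine (cstar N g).mul_mem (hxmem _ nc.1.2) ?_
    rw [mem_cstar_iff]
    have := Subgroup.mem_centralizer_singleton_iff.mp nc.2.2
    have h : nc.2.1 * g * nc.2.1⁻¹ = g := by rw [this]; group
    rw [h]; simp
  · rintro ⟨⟨n, hn⟩, ⟨c, hcc⟩⟩ ⟨⟨n', hn'⟩, ⟨c', hcc'⟩⟩ h
    simp only [Subtype.mk.injEq] at h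
    have hc1 : c * g * c⁻¹ = g := by
      have := Subgroup.mem_centralizer_singleton_iff.mp hcc
      rw [this]; group
    have hc2 : c' * g * c'⁻¹ = g := by
      have := Subgroup.mem_centralizer_singleton_iff.mp hcc'
      rw [this]; group
    have e1 : (x n * c) * g * (x n * c)⁻¹ = g * n := by
      calc (x n * c) * g * (x n * c)⁻¹ = x n * (c * g * c⁻¹) * (x n)⁻¹ := by group
        _ = g * n := by rw [hc1, hx n hn]
    have e2 : (x n' * c') * g * (x n' * c')⁻¹ = g * n' := by
      calc (x n' * c') * g * (x n' * c')⁻¹ = x n' * (c' * g * c'⁻¹) * (x n')⁻¹ := by group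
        _ = g * n' := by rw [hc2, hx n' hn']
    rw [h, e2] at e1
    have hnn : n' = n := mul_left_cancel e1
    subst hnn
    have hcc2 : c = c' := mul_left_cancel h
    subst hcc2
    rfl
  · rintro ⟨t, ht⟩
    have hn : g⁻¹ * (t * g * t⁻¹) ∈ N := (mem_cstar_iff N g t).mp ht
    set n := g⁻¹ * (t * g * t⁻¹) with hndef
    refine ⟨⟨⟨n, hn⟩, ⟨(x n)⁻¹ * t, ?_⟩⟩, ?_⟩
    · rw [Subgroup.mem_centralizer_singleton_iff]
      have h1 : x n * g * (x n)⁻¹ = g * n := hx n hn
      have h2 : g * n = t * g * t⁻¹ := by rw [hndef]; group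
      have h3 : (x n)⁻¹ * (t * g * t⁻¹) * x n = g := by
        rw [← h2, ← h1]; group
      calc (x n)⁻¹ * t * g = ((x n)⁻¹ * (t * g * t⁻¹) * x n) * ((x n)⁻¹ * t) := by group
        _ = g * ((x n)⁻¹ * t) := by rw [h3]
    · apply Subtype.ext
      simp

/-- (A2) -/
theorem card_centralizer_eq (hc : IsCam N) {g : G} (hg : g ∉ N) :
    Nat.card (Subgroup.centralizer ({g} : Set G)) =
      Nat.card (Subgroup.centralizer ({(QuotientGroup.mk g : G ⧸ N)} : Set (G ⧸ N))) := by
  have h1 := card_cstar_quot N g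
  have h2 := card_cstar_cam N hc hg
  rw [h2] at h1
  exact Nat.eq_of_mul_eq_mul_left Nat.card_pos h1

/-- (A4) -/
theorem inf_centralizer_eq_bot (hc : IsCam N) {q : ℕ} [Fact q.Prime] {g : G} (hg : g ∉ N)
    (hgq : ∃ k : ℕ, orderOf g = q ^ k) (V : Subgroup G) (hVN : V ≤ N)
    (hV : (Nat.card V).Coprime q) : V ⊓ Subgroup.centralizer ({g} : Set G) = ⊥ := by
  obtain ⟨k, hk⟩ := hgq
  rw [eq_bot_iff]
  rintro v ⟨hvV, hvc⟩
  rw [Subgroup.mem_bot]
  have hcomm : Commute g v := by
    have := Subgroup.mem_centralizer_singleton_iff.mp hvc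
    exact this.symm
  have h1 : v ^ (q ^ k) = 1 := by
    rw [← hk]; exact pow_orderOf_eq_one N hc hg (hVN hvV) hcomm
  have h2 : orderOf v ∣ q ^ k := orderOf_dvd_of_pow_eq_one h1
  have h3 : orderOf v ∣ Nat.card V := by
    have := Subgroup.orderOf_dvd_natCard V hvV
    exact this
  have h4 : (orderOf v).Coprime (q ^ k) := (Nat.Coprime.coprime_dvd_left h3 hV).pow_right k
  have h5 : orderOf v = 1 := Nat.Coprime.eq_one_of_dvd h4 h2
  exact orderOf_eq_one_iff.mp h5

/-- (A3) -/
theorem exists_prime_of_not_frob (hc : IsCam N) (x y : G) (hx : x ∈ N) (hx1 : x ≠ 1)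
    (hy : y ∈ Subgroup.centralizer ({x} : Set G)) (hyN : y ∉ N) :
    ∃ q : ℕ, q.Prime ∧ q ∣ Nat.card N ∧ q ∣ N.index := by
  set yb : G ⧸ N := QuotientGroup.mk y with hyb
  have hyb1 : yb ≠ 1 := by
    intro h
    exact hyN ((QuotientGroup.eq_one_iff y).mp h)
  have hd1 : orderOf yb ≠ 1 := by
    intro h; exact hyb1 (orderOf_eq_one_iff.mp h)
  set q := Nat.minFac (orderOf yb) with hqdef
  have hq : q.Prime := Nat.minFac_prime hd1
  haveI : Fact q.Prime := ⟨hq⟩
  have hqd : q ∣ orderOf yb := Nat.minFac_dvd _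
  have hqI : q ∣ N.index := by
    rw [Subgroup.index_eq_card]
    exact hqd.trans (orderOf_dvd_natCard yb)
  refine ⟨q, hq, ?_, hqI⟩
  -- the q-part of y
  set k := orderOf y with hkdef
  have hk0 : k ≠ 0 := (orderOf_pos y).ne'
  set m := k / q ^ (k.factorization q) with hmdef
  have hmk : q ^ (k.factorization q) * m = k := Nat.ordProj_mul_ordCompl_eq_self k q
  have hm0 : m ≠ 0 := by
    intro h; rw [h, mul_zero] at hmk; exact hk0 hmk.symm
  have hmdvd : m ∣ k := ⟨q ^ (k.factorization q), by rw [mul_comm]; exact hmk.symm⟩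
  set g := y ^ m with hgdef
  have hgord : orderOf g = q ^ (k.factorization q) := by
    rw [hgdef, orderOf_pow_of_dvd hm0 hmdvd]
    rw [← hkdef]
    conv_lhs => rw [← hmk]
    exact Nat.mul_div_cancel _ (Nat.pos_of_ne_zero hm0)
  have hgN : g ∉ N := by
    intro hgN
    have h1 : yb ^ m = 1 := by
      rw [hyb, ← QuotientGroup.mk_pow]
      exact (QuotientGroup.eq_one_iff _).mpr hgN
    have h2 : orderOf yb ∣ m := orderOf_dvd_of_pow_eq_one h1
    have h3 : q ∣ m := hqd.trans h2
    exact Nat.not_dvd_ordCompl hq hk0 h3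
  have hcomm : Commute g x := by
    have := Subgroup.mem_centralizer_singleton_iff.mp hy
    have hyx : Commute y x := this
    exact hyx.pow_left m
  have h1 : x ^ (q ^ (k.factorization q)) = 1 := by
    rw [← hgord]; exact pow_orderOf_eq_one N hc hgN hx hcomm
  have h2 : orderOf x ∣ q ^ (k.factorization q) := orderOf_dvd_of_pow_eq_one h1
  obtain ⟨j, hj, hjx⟩ := (Nat.dvd_prime_pow hq).mp h2
  have hj0 : j ≠ 0 := by
    intro h; rw [h, pow_zero] at hjx; exact hx1 (orderOf_eq_one_iff.mp hjx)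
  have h3 : q ∣ orderOf x := by rw [hjx]; exact dvd_pow_self q hj0
  exact h3.trans (Subgroup.orderOf_dvd_natCard N hx)

end Cfsg.Agent.Lib.Helper8.Cam
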