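import Mathlib
import Cfsg.Agent.Lib.Helper8.CamA
import Cfsg.Agent.S0081
import Cfsg.Agent.H1.Frattini

/-!
# Camina pairs: `N` is `p`-nilpotent for `p ∣ |G : N|` (piece B of S4140), via Tate's theorem
-/

set_option autoImplicit false
set_option linter.unusedVariables false
set_option linter.unusedSectionVars false
set_option linter.style.haveILetI false

namespace Cfsg.Agent.Lib.Helper8.Cam

/-- orbit–stabilizer for conjugation, in `Nat.card` form. -/
theorem card_range_conj_mul {X : Type*} [Group X] [Finite X] (g : X) :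
    Nat.card (Set.range fun u : X => u * g * u⁻¹) *
      Nat.card (Subgroup.centralizer ({g} : Set X)) = Nat.card X := by
  classical
  have hx : ∀ y : Set.range fun u : X => u * g * u⁻¹, ∃ u : X, u * g * u⁻¹ = y.1 := fun y => y.2
  choose x hx using hx
  rw [← Nat.card_prod]
  apply Nat.card_congr
  refine Equiv.ofBijective (fun yc => x yc.1 * yc.2.1) ⟨?_, ?_⟩
  · rintro ⟨y, ⟨c, hcc⟩⟩ ⟨y', ⟨c', hcc'⟩⟩ h
    simp only at h
    have hc1 : c * g * c⁻¹ = g := by
      have := Subgroup.mem_centralizer_singleton_iff.mp hcc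
      rw [this]; group
    have hc2 : c' * g * c'⁻¹ = g := by
      have := Subgroup.mem_centralizer_singleton_iff.mp hcc'
      rw [this]; group
    have e1 : (x y * c) * g * (x y * c)⁻¹ = y.1 := by
      calc (x y * c) * g * (x y * c)⁻¹ = x y * (c * g * c⁻¹) * (x y)⁻¹ := by group
        _ = y.1 := by rw [hc1, hx y]
    have e2 : (x y' * c') * g * (x y' * c')⁻¹ = y'.1 := by
      calc (x y' * c') * g * (x y' * c')⁻¹ = x y' * (c' * g * c'⁻¹) * (x y')⁻¹ := by group
        _ = y'.1 := by rw [hc2, hx y']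
    rw [h, e2] at e1
    have hyy : y' = y := Subtype.ext e1
    subst hyy
    have hcc2 : c = c' := mul_left_cancel h
    subst hcc2
    rfl
  · intro t
    set y : Set.range fun u : X => u * g * u⁻¹ := ⟨t * g * t⁻¹, ⟨t, rfl⟩⟩ with hy
    refine ⟨⟨y, ⟨(x y)⁻¹ * t, ?_⟩⟩, ?_⟩
    · rw [Subgroup.mem_centralizer_singleton_iff]
      have h1 : x y * g * (x y)⁻¹ = t * g * t⁻¹ := hx y
      have h3 : (x y)⁻¹ * (t * g * t⁻¹) * x y = g := by
        rw [← h1]; group
      calc (x y)⁻¹ * t * g = ((x y)⁻¹ * (t * g * t⁻¹) * x y) * ((x y)⁻¹ * t) := by group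
        _ = g * ((x y)⁻¹ * t) := by rw [h3]
    · simp

variable {G : Type*} [Group G] [Finite G] (N : Subgroup G) [N.Normal]

/-- (B1) -/
theorem inf_sylow_le_frattini (hc : IsCam N) (p : ℕ) [Fact p.Prime] (P : Sylow p G)
    (hP : ¬ (P : Subgroup G) ≤ N) :
    N ⊓ (P : Subgroup G) ≤ (frattini P).map (P : Subgroup G).subtype := by
  classical
  have hp : p.Prime := Fact.out
  have hPp : IsPGroup p (↥(P : Subgroup G)) := P.isPGroup'
  set P₀ : Subgroup ↥(P : Subgroup G) := N.subgroupOf (P : Subgroup G) with hP₀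
  haveI : P₀.Normal := Subgroup.Normal.subgroupOf inferInstance _
  have hP₀top : P₀ ≠ ⊤ := by
    intro h
    apply hP
    intro y hy
    have : (⟨y, hy⟩ : ↥(P : Subgroup G)) ∈ P₀ := by rw [h]; trivial
    exact Subgroup.mem_subgroupOf.mp this
  -- nontrivial quotient and central element
  haveI : Nontrivial (↥(P : Subgroup G) ⧸ P₀) := by
    rw [← not_subsingleton_iff_nontrivial]
    intro hs
    exact hP₀top (QuotientGroup.subgroup_eq_top_of_subsingleton P₀ hs)
  have hQp : IsPGroup p (↥(P : Subgroup G) ⧸ P₀) := hPp.to_quotient P₀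
  haveI : Nontrivial (Subgroup.center (↥(P : Subgroup G) ⧸ P₀)) := hQp.center_nontrivial
  obtain ⟨⟨zb, hzb⟩, hzb1⟩ := exists_ne (1 : Subgroup.center (↥(P : Subgroup G) ⧸ P₀))
  obtain ⟨g', hg'⟩ := QuotientGroup.mk_surjective zb
  have hzb1' : zb ≠ 1 := fun h => hzb1 (Subtype.ext h)
  have hg'P₀ : g' ∉ P₀ := by
    intro h
    apply hzb1'
    rw [← hg']
    exact (QuotientGroup.eq_one_iff g').mpr h
  have hgN : (g' : G) ∉ N := fun h => hg'P₀ (Subgroup.mem_subgroupOf.mpr h)
  have hcent : ∀ u : ↥(P : Subgroup G), g'⁻¹ * (u * g' * u⁻¹) ∈ P₀ := by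
    intro u
    rw [← QuotientGroup.eq, QuotientGroup.mk_mul, QuotientGroup.mk_mul, QuotientGroup.mk_inv, hg']
    have := Subgroup.mem_center_iff.mp hzb (QuotientGroup.mk u)
    rw [this]; group
  -- the centralizer of g' in P has order dividing the index of N
  set C := Subgroup.centralizer ({g'} : Set ↥(P : Subgroup G)) with hC
  have hCdvd : Nat.card C ∣ N.index := by
    have h1 : C.map (P : Subgroup G).subtype ≤ Subgroup.centralizer ({(g' : G)} : Set G) := by
      rintro _ ⟨c, hcC, rfl⟩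
      rw [Subgroup.mem_centralizer_singleton_iff]
      have := Subgroup.mem_centralizer_singleton_iff.mp hcC
      exact congrArg Subtype.val this
    have h2 : Nat.card (C.map (P : Subgroup G).subtype) = Nat.card C :=
      (Nat.card_congr (C.equivMapOfInjective _ (Subgroup.subtype_injective _)).toEquiv).symm
    have h3 := Subgroup.card_dvd_of_le h1
    rw [h2, card_centralizer_eq N hc hgN] at h3
    rw [Subgroup.index_eq_card]
    exact h3.trans (Subgroup.card_subgroup_dvd_card _)
  have hP₀dvd : Nat.card P₀ ∣ Nat.card N := by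
    have h2 : Nat.card (P₀.map (P : Subgroup G).subtype) = Nat.card P₀ :=
      (Nat.card_congr (P₀.equivMapOfInjective _ (Subgroup.subtype_injective _)).toEquiv).symm
    rw [← h2, hP₀, Subgroup.subgroupOf_map_subtype]
    exact Subgroup.card_dvd_of_le inf_le_left
  obtain ⟨c, hCc⟩ := (IsPGroup.iff_card.mp (hPp.to_subgroup C))
  obtain ⟨b, hP₀b⟩ := (IsPGroup.iff_card.mp (hPp.to_subgroup P₀))
  have hPcard : Nat.card (P : Subgroup G) = p ^ (Nat.card G).factorization p :=
    Sylow.card_eq_multiplicity P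
  have hle : Nat.card C * Nat.card P₀ ≤ Nat.card (P : Subgroup G) := by
    have h1 : Nat.card C * Nat.card P₀ ∣ Nat.card G := by
      rw [← Subgroup.card_mul_index N, mul_comm (Nat.card N)]
      exact Nat.mul_dvd_mul hCdvd hP₀dvd
    rw [hCc, hP₀b, ← pow_add] at h1 ⊢
    rw [hPcard]
    have hG0 : Nat.card G ≠ 0 := Nat.card_pos.ne'
    have := (hp.pow_dvd_iff_le_factorization hG0).mp h1
    exact Nat.pow_le_pow_right hp.pos this
  -- the orbit of g' is the coset g' P₀
  set O : Set ↥(P : Subgroup G) := Set.range fun u : ↥(P : Subgroup G) => u * g' * u⁻¹ with hO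
  set S : Set ↥(P : Subgroup G) := {y | g'⁻¹ * y ∈ P₀} with hS
  have hOS : O ⊆ S := by
    rintro _ ⟨u, rfl⟩
    exact hcent u
  have hScard : Nat.card S = Nat.card P₀ := by
    apply Nat.card_congr
    refine ⟨fun y => ⟨g'⁻¹ * y.1, y.2⟩, fun w => ⟨g' * w.1, ?_⟩, ?_, ?_⟩
    · show g'⁻¹ * (g' * w.1) ∈ P₀
      rw [inv_mul_cancel_left]; exact w.2
    · intro y; apply Subtype.ext; simp
    · intro w; apply Subtype.ext; simp
  have hOcard : Nat.card O * Nat.card C = Nat.card (P : Subgroup G) := card_range_conj_mul g'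
  have hOS' : O = S := by
    haveI : Finite S := Set.toFinite S
    apply Set.eq_of_subset_of_ncard_le hOS _ (Set.toFinite S)
    rw [← Nat.card_coe_set_eq, ← Nat.card_coe_set_eq, hScard]
    have hCpos : 0 < Nat.card C := Nat.card_pos
    have : Nat.card C * Nat.card P₀ ≤ Nat.card C * Nat.card O := by
      rw [mul_comm (Nat.card C) (Nat.card O), hOcard]; exact hle
    exact Nat.le_of_mul_le_mul_left this hCpos
  -- conclusion
  rintro w ⟨hwN, hwP⟩
  set w' : ↥(P : Subgroup G) := ⟨w, hwP⟩ with hw'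
  have hw'P₀ : w' ∈ P₀ := Subgroup.mem_subgroupOf.mpr hwN
  have hmem : g' * w' ∈ S := by
    show g'⁻¹ * (g' * w') ∈ P₀
    rw [inv_mul_cancel_left]; exact hw'P₀
  rw [← hOS'] at hmem
  obtain ⟨u, hu⟩ := hmem
  have hu' : u * g' * u⁻¹ = g' * w' := hu
  have hw'comm : w' = g'⁻¹ * u * g'⁻¹⁻¹ * u⁻¹ := by
    rw [inv_inv]
    have : w' = g'⁻¹ * (u * g' * u⁻¹) := by rw [hu']; group
    rw [this]; group
  have hfr : w' ∈ frattini ↥(P : Subgroup G) := by
    apply Cfsg.Agent.H1.commutator_le_frattini hPp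
    rw [hw'comm]
    have := Subgroup.commutator_mem_commutator (H₁ := (⊤ : Subgroup ↥(P : Subgroup G)))
      (H₂ := ⊤) (Subgroup.mem_top g'⁻¹) (Subgroup.mem_top u)
    rw [commutatorElement_def] at this
    exact this
  exact ⟨w', hfr, rfl⟩

/-- a normal `p`-complement of a normal subgroup `N` of `G`, as a normal subgroup of `G`. -/
theorem normal_of_hasNormalPComplement (p : ℕ) [Fact p.Prime]
    (h : Cfsg.HasNormalPComplement p ↥N) :
    ∃ M : Subgroup G, M.Normal ∧ M ≤ N ∧ (Nat.card M).Coprime p ∧ ∃ k : ℕ, M.relIndex N = p ^ k := by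
  classical
  have hp : p.Prime := Fact.out
  obtain ⟨P', K, hKn, hKc⟩ := h
  haveI := hKn
  have hmul : Nat.card K * Nat.card (P' : Subgroup ↥N) = Nat.card ↥N := hKc.card_mul_card
  obtain ⟨k, hk⟩ := IsPGroup.iff_card.mp P'.isPGroup'
  have hP'card : Nat.card (P' : Subgroup ↥N) = p ^ (Nat.card ↥N).factorization p :=
    Sylow.card_eq_multiplicity P'
  have hN0 : Nat.card ↥N ≠ 0 := Nat.card_pos.ne'
  have hKcop : (Nat.card K).Coprime p := by
    have h1 : Nat.card K = Nat.card ↥N / p ^ (Nat.card ↥N).factorization p := by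
      have h0 : Nat.card K * p ^ (Nat.card ↥N).factorization p = Nat.card ↥N := by
        rw [← hP'card]; exact hmul
      exact (Nat.div_eq_of_eq_mul_left (pow_pos hp.pos _) h0.symm).symm
    rw [h1]
    exact (Nat.coprime_ordCompl hp hN0).symm
  have hKidx : K.index = p ^ k := by
    rw [← hk]
    exact hKc.symm.index_eq_card
  -- K is the set of p'-elements of N
  have hKchar : ∀ x : ↥N, x ∈ K ↔ (orderOf x).Coprime p := by
    intro x
    constructor
    · intro hx
      exact Nat.Coprime.coprime_dvd_left (Subgroup.orderOf_dvd_natCard K hx) hKcop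
    · intro hx
      have h1 : orderOf (QuotientGroup.mk x : ↥N ⧸ K) ∣ orderOf x :=
        orderOf_dvd_of_pow_eq_one (by
          rw [← QuotientGroup.mk_pow, _root_.pow_orderOf_eq_one]; exact QuotientGroup.mk_one K)
      have h2 : orderOf (QuotientGroup.mk x : ↥N ⧸ K) ∣ p ^ k := by
        rw [← hKidx, Subgroup.index_eq_card]
        exact orderOf_dvd_natCard _
      have h3 : (orderOf (QuotientGroup.mk x : ↥N ⧸ K)).Coprime (p ^ k) :=
        (Nat.Coprime.coprime_dvd_left h1 hx).pow_right k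
      have h4 : orderOf (QuotientGroup.mk x : ↥N ⧸ K) = 1 := Nat.Coprime.eq_one_of_dvd h3 h2
      exact (QuotientGroup.eq_one_iff x).mp (orderOf_eq_one_iff.mp h4)
  refine ⟨K.map N.subtype, ?_, Subgroup.map_subtype_le K, ?_, k, ?_⟩
  · refine ⟨fun m hm g => ?_⟩
    obtain ⟨x, hxK, rfl⟩ := hm
    have hmemN : g * (x : G) * g⁻¹ ∈ N := (inferInstance : N.Normal).conj_mem _ x.2 g
    refine ⟨⟨g * (x : G) * g⁻¹, hmemN⟩, ?_, rfl⟩
    show (⟨g * (x : G) * g⁻¹, hmemN⟩ : ↥N) ∈ K
    rw [hKchar]
    have h1 : orderOf (⟨g * (x : G) * g⁻¹, hmemN⟩ : ↥N) = orderOf (g * (x : G) * g⁻¹) :=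
      Subgroup.orderOf_mk (g * (x : G) * g⁻¹) hmemN
    have h2 : orderOf (g * (x : G) * g⁻¹) = orderOf (x : G) := (MulAut.conj g).orderOf_eq _
    have h3 : orderOf (x : G) = orderOf x := Subgroup.orderOf_coe x
    rw [h1, h2, h3]
    exact (hKchar x).mp hxK
  · have : Nat.card (K.map N.subtype) = Nat.card K :=
      (Nat.card_congr (K.equivMapOfInjective _ (Subgroup.subtype_injective _)).toEquiv).symm
    rw [this]; exact hKcop
  · have : (K.map N.subtype).subgroupOf N = K := by
      unfold Subgroup.subgroupOf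
      exact Subgroup.comap_map_eq_self_of_injective (Subgroup.subtype_injective _) K
    unfold Subgroup.relIndex
    rw [this, hKidx]

/-- (B) -/
theorem exists_normal_pcomplement (hc : IsCam N) (p : ℕ) [Fact p.Prime] (hp : p ∣ N.index) :
    ∃ M : Subgroup G, M.Normal ∧ M ≤ N ∧ (Nat.card M).Coprime p ∧ ∃ k : ℕ, M.relIndex N = p ^ k := by
  classical
  have hpp : p.Prime := Fact.out
  obtain ⟨P⟩ : Nonempty (Sylow p G) := inferInstance
  have hPN : ¬ (P : Subgroup G) ≤ N := by
    intro hle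
    have h1 : Nat.card (P : Subgroup G) ∣ Nat.card N := Subgroup.card_dvd_of_le hle
    rw [Sylow.card_eq_multiplicity P] at h1
    have h2 : p ^ ((Nat.card G).factorization p + 1) ∣ Nat.card G := by
      have h3 : p ^ ((Nat.card G).factorization p) * p ∣ Nat.card N * N.index :=
        Nat.mul_dvd_mul h1 hp
      rw [Subgroup.card_mul_index N] at h3
      rw [pow_succ]; exact h3
    exact Nat.pow_succ_factorization_not_dvd Nat.card_pos.ne' hpp h2
  exact normal_of_hasNormalPComplement N p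
    (Cfsg.Agent.S0081.result P N (inf_sylow_le_frattini N hc p P hPN))

end Cfsg.Agent.Lib.Helper8.Cam
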