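import Mathlib

/-!
# Canonical lifts of a class of involutions to a central extension

Let `G` act transitively on `X`, let `T : X → G` be an equivariant family of involutions (`g * T x * g⁻¹ = T (g • x)`),
and let the stabiliser of a point be perfect.  For a surjective homomorphism `σ : Γ → G` with central kernel, the
family lifts to an equivariant family in `Γ`, and, given one commuting pair `T a * T c = T u`, to an equivariant family
of involutions `L` with `L a * L c = L u`.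
-/

set_option autoImplicit false

namespace Cfsg.Agent.Lib.Helper8.CanonLift

variable {Γ G X : Type*} [Group Γ] [Group G] [MulAction G X]

/-- an equivariant family of involutions over an equivariant family of involutions -/
structure Lifts (σ : Γ →* G) (T : X → G) where
  L : X → Γ
  map : ∀ x, σ (L x) = T x
  conj : ∀ (h : Γ) (x : X), h * L x * h⁻¹ = L (σ h • x)
  sq : ∀ x, L x * L x = 1

section exist

variable (σ : Γ →* G) (T : X → G)

theorem comm_of_ker (hcen : σ.ker ≤ Subgroup.center Γ) {z : Γ} (hz : σ z = 1) (y : Γ) :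
    z * y = y * z :=
  (Subgroup.mem_center_iff.1 (hcen (MonoidHom.mem_ker.2 hz)) y).symm

/-- the factor by which the conjugate of `t₀` by `k` differs from `t₀` -/
def cf (t₀ k : Γ) : Γ := k * t₀ * k⁻¹ * t₀⁻¹

variable {σ T}

theorem map_cf (hT : ∀ (g : G) (x : X), g * T x * g⁻¹ = T (g • x)) {x₀ : X} {t₀ : Γ}
    (ht₀ : σ t₀ = T x₀) {k : Γ} (hk : σ k • x₀ = x₀) : σ (cf t₀ k) = 1 := by
  unfold cf
  rw [map_mul, map_mul, map_mul, map_inv, map_inv, ht₀, hT, hk, mul_inv_cancel]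

theorem cf_mul (hcen : σ.ker ≤ Subgroup.center Γ) {t₀ k k' : Γ} (hk' : σ (cf t₀ k') = 1) :
    cf t₀ (k * k') = cf t₀ k * cf t₀ k' := by
  have hz := comm_of_ker σ hcen hk'
  have e : k' * t₀ * k'⁻¹ = cf t₀ k' * t₀ := by unfold cf; group
  calc cf t₀ (k * k') = k * (k' * t₀ * k'⁻¹) * k⁻¹ * t₀⁻¹ := by unfold cf; group
    _ = k * (cf t₀ k' * t₀) * k⁻¹ * t₀⁻¹ := by rw [e]
    _ = (k * cf t₀ k') * t₀ * k⁻¹ * t₀⁻¹ := by group
    _ = (cf t₀ k' * k) * t₀ * k⁻¹ * t₀⁻¹ := by rw [hz k]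
    _ = cf t₀ k' * (k * t₀ * k⁻¹ * t₀⁻¹) := by group
    _ = cf t₀ k' * cf t₀ k := rfl
    _ = cf t₀ k * cf t₀ k' := hz _

theorem cf_mul_ker (hcen : σ.ker ≤ Subgroup.center Γ) {t₀ k z : Γ} (hz : σ z = 1) :
    cf t₀ (k * z) = cf t₀ k := by
  have h := comm_of_ker σ hcen hz
  calc cf t₀ (k * z) = k * (z * t₀) * z⁻¹ * k⁻¹ * t₀⁻¹ := by unfold cf; group
    _ = k * (t₀ * z) * z⁻¹ * k⁻¹ * t₀⁻¹ := by rw [h t₀]
    _ = cf t₀ k := by unfold cf; group

theorem cf_congr (hcen : σ.ker ≤ Subgroup.center Γ) {t₀ k k' : Γ} (h : σ k = σ k') :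
    cf t₀ k = cf t₀ k' := by
  have hz : σ (k'⁻¹ * k) = 1 := by rw [map_mul, map_inv, h, inv_mul_cancel]
  have := cf_mul_ker (t₀ := t₀) (k := k') hcen hz
  rw [← this]
  congr 1
  group

/-- the lifts of the elements of the stabiliser of `x₀` centralise a lift of `T x₀` -/
theorem stab_centralizes (hsurj : Function.Surjective σ) (hcen : σ.ker ≤ Subgroup.center Γ)
    (hT : ∀ (g : G) (x : X), g * T x * g⁻¹ = T (g • x))
    (x₀ : X) (hperf : commutator ↥(MulAction.stabilizer G x₀) = ⊤)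
    (t₀ : Γ) (ht₀ : σ t₀ = T x₀) (k : Γ) (hk : σ k • x₀ = x₀) : k * t₀ * k⁻¹ = t₀ := by
  -- the homomorphism from the stabiliser to the centre
  let lft : ↥(MulAction.stabilizer G x₀) → Γ := fun s => Classical.choose (hsurj s.1)
  have hlft : ∀ s, σ (lft s) = s.1 := fun s => Classical.choose_spec (hsurj s.1)
  have hst : ∀ s : ↥(MulAction.stabilizer G x₀), σ (lft s) • x₀ = x₀ := fun s => by
    rw [hlft]; exact s.2
  have hmem : ∀ s, cf t₀ (lft s) ∈ Subgroup.center Γ := fun s =>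
    hcen (MonoidHom.mem_ker.2 (map_cf hT ht₀ (hst s)))
  have hmul : ∀ s s' : ↥(MulAction.stabilizer G x₀),
      cf t₀ (lft (s * s')) = cf t₀ (lft s) * cf t₀ (lft s') := by
    intro s s'
    rw [← cf_mul hcen (map_cf hT ht₀ (hst s'))]
    apply cf_congr hcen
    rw [hlft, map_mul, hlft, hlft, Subgroup.coe_mul]
  obtain ⟨c, hc⟩ : ∃ c : ↥(MulAction.stabilizer G x₀) →* ↥(Subgroup.center Γ),
      ∀ s, (c s).1 = cf t₀ (lft s) :=
    ⟨MonoidHom.mk' (fun s => ⟨cf t₀ (lft s), hmem s⟩) (fun s s' => Subtype.ext (hmul s s')),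
      fun s => rfl⟩
  have hker : ∀ s : ↥(MulAction.stabilizer G x₀), s ∈ commutator ↥(MulAction.stabilizer G x₀) →
      c s = 1 := by
    intro s hs
    rw [commutator_eq_closure] at hs
    induction hs using Subgroup.closure_induction with
    | mem s hs =>
      obtain ⟨s₁, s₂, rfl⟩ := hs
      have hcm : c s₁ * c s₂ = c s₂ * c s₁ :=
        Subtype.ext (Subgroup.mem_center_iff.1 (c s₂).2 (c s₁).1)
      rw [map_commutatorElement, commutatorElement_def, hcm, mul_assoc,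
        mul_assoc, mul_inv_cancel_left, mul_inv_cancel]
    | one => exact map_one c
    | mul x y _ _ hx hy => rw [map_mul, hx, hy, one_mul]
    | inv x _ hx => rw [map_inv, hx, inv_one]
  have h1 : c ⟨σ k, hk⟩ = 1 := hker _ (by rw [hperf]; exact Subgroup.mem_top _)
  have h2 : cf t₀ (lft ⟨σ k, hk⟩) = 1 := by
    rw [← hc, h1]
    rfl
  have h3 : cf t₀ k = 1 := by
    rw [← h2]
    apply cf_congr hcen
    rw [hlft]
  unfold cf at h3
  calc k * t₀ * k⁻¹ = (k * t₀ * k⁻¹ * t₀⁻¹) * t₀ := by group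
    _ = t₀ := by rw [h3, one_mul]

/-- **the equivariant family of involutions** -/
theorem exists_lifts (hsurj : Function.Surjective σ) (hcen : σ.ker ≤ Subgroup.center Γ)
    (hT : ∀ (g : G) (x : X), g * T x * g⁻¹ = T (g • x)) (hsq : ∀ x, T x * T x = 1)
    [MulAction.IsPretransitive G X] (x₀ : X)
    (hperf : commutator ↥(MulAction.stabilizer G x₀) = ⊤)
    (a c u : X) (hac : T a * T c = T u) (hca : T c • a = a) :
    ∃ Λ : Lifts σ T, Λ.L a * Λ.L c = Λ.L u := by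
  obtain ⟨t₀, ht₀⟩ := hsurj (T x₀)
  have key := stab_centralizes hsurj hcen hT x₀ hperf t₀ ht₀
  -- elements moving the base point, and their lifts
  choose gX hgX using fun x : X => MulAction.exists_smul_eq G x₀ x
  choose lX hlX using fun x : X => hsurj (gX x)
  -- the first family
  obtain ⟨L₀, map₀, conj₀⟩ : ∃ L₀ : X → Γ, (∀ x, σ (L₀ x) = T x) ∧
      ∀ (h : Γ) (x : X), h * L₀ x * h⁻¹ = L₀ (σ h • x) := by
    refine ⟨fun x => lX x * t₀ * (lX x)⁻¹, ?_, ?_⟩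
    · intro x
      show σ (lX x * t₀ * (lX x)⁻¹) = T x
      rw [map_mul, map_mul, map_inv, ht₀, hlX, hT, hgX]
    · intro h x
      set y := σ h • x with hy
      set k := (lX y)⁻¹ * h * lX x with hk
      have hkx : σ k • x₀ = x₀ := by
        rw [hk, map_mul, map_mul, map_inv, hlX, hlX, mul_smul, mul_smul, hgX, ← hy, inv_smul_eq_iff,
          hgX]
      have e := key k hkx
      show h * (lX x * t₀ * (lX x)⁻¹) * h⁻¹ = lX y * t₀ * (lX y)⁻¹
      calc h * (lX x * t₀ * (lX x)⁻¹) * h⁻¹ = lX y * (k * t₀ * k⁻¹) * (lX y)⁻¹ := by rw [hk]; group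
        _ = lX y * t₀ * (lX y)⁻¹ := by rw [e]
  have sqx₀ : ∀ x, ∃ l : Γ, l * L₀ x₀ * l⁻¹ = L₀ x := by
    intro x
    refine ⟨lX x, ?_⟩
    rw [conj₀, hlX, hgX]
  -- the common square
  set ζ := L₀ x₀ * L₀ x₀ with hζ
  have hζk : σ ζ = 1 := by rw [hζ, map_mul, map₀, hsq]
  have hζc := comm_of_ker σ hcen hζk
  have sq₀ : ∀ x, L₀ x * L₀ x = ζ := by
    intro x
    obtain ⟨l, h1⟩ := sqx₀ x
    rw [← h1]
    calc l * L₀ x₀ * l⁻¹ * (l * L₀ x₀ * l⁻¹) = l * (L₀ x₀ * L₀ x₀) * l⁻¹ := by group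
      _ = l * ζ * l⁻¹ := by rw [hζ]
      _ = ζ := by rw [← hζc l]; group
  -- the factor of the commuting pair
  set η := (L₀ u)⁻¹ * (L₀ a * L₀ c) with hη
  have hηk : σ η = 1 := by rw [hη, map_mul, map_inv, map_mul, map₀, map₀, map₀, hac, inv_mul_cancel]
  have hηc := comm_of_ker σ hcen hηk
  have hac₀ : L₀ a * L₀ c = L₀ u * η := by rw [hη]; group
  have hcomm : L₀ c * L₀ a = L₀ a * L₀ c := by
    have h1 := conj₀ (L₀ c) a
    rw [map₀, hca] at h1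
    calc L₀ c * L₀ a = (L₀ c * L₀ a * (L₀ c)⁻¹) * L₀ c := by group
      _ = L₀ a * L₀ c := by rw [h1]
  have hζη : ζ = η * η := by
    have h1 : (L₀ a * L₀ c) * (L₀ a * L₀ c) = ζ * ζ := by
      calc (L₀ a * L₀ c) * (L₀ a * L₀ c) = L₀ a * (L₀ c * L₀ a) * L₀ c := by group
        _ = L₀ a * (L₀ a * L₀ c) * L₀ c := by rw [hcomm]
        _ = (L₀ a * L₀ a) * (L₀ c * L₀ c) := by group
        _ = ζ * ζ := by rw [sq₀, sq₀]
    have h2 : (L₀ u * η) * (L₀ u * η) = ζ * (η * η) := by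
      calc (L₀ u * η) * (L₀ u * η) = L₀ u * (η * L₀ u) * η := by group
        _ = L₀ u * (L₀ u * η) * η := by rw [hηc]
        _ = (L₀ u * L₀ u) * (η * η) := by group
        _ = ζ * (η * η) := by rw [sq₀]
    rw [hac₀, h2] at h1
    exact (mul_left_cancel h1).symm
  have hηi : σ η⁻¹ = 1 := by rw [map_inv, hηk, inv_one]
  have hηic := comm_of_ker σ hcen hηi
  refine ⟨⟨fun x => L₀ x * η⁻¹, ?_, ?_, ?_⟩, ?_⟩
  · intro x
    rw [map_mul, map₀, hηi, mul_one]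
  · intro h x
    show h * (L₀ x * η⁻¹) * h⁻¹ = L₀ (σ h • x) * η⁻¹
    rw [← conj₀ h x]
    calc h * (L₀ x * η⁻¹) * h⁻¹ = h * L₀ x * (η⁻¹ * h⁻¹) := by group
      _ = h * L₀ x * (h⁻¹ * η⁻¹) := by rw [hηic]
      _ = h * L₀ x * h⁻¹ * η⁻¹ := by group
  · intro x
    show L₀ x * η⁻¹ * (L₀ x * η⁻¹) = 1
    calc L₀ x * η⁻¹ * (L₀ x * η⁻¹) = L₀ x * (η⁻¹ * L₀ x) * η⁻¹ := by group
      _ = L₀ x * (L₀ x * η⁻¹) * η⁻¹ := by rw [hηic]
      _ = (L₀ x * L₀ x) * (η * η)⁻¹ := by group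
      _ = 1 := by rw [sq₀, hζη, mul_inv_cancel]
  · show L₀ a * η⁻¹ * (L₀ c * η⁻¹) = L₀ u * η⁻¹
    calc L₀ a * η⁻¹ * (L₀ c * η⁻¹) = L₀ a * (η⁻¹ * L₀ c) * η⁻¹ := by group
      _ = L₀ a * (L₀ c * η⁻¹) * η⁻¹ := by rw [hηic]
      _ = (L₀ a * L₀ c) * η⁻¹ * η⁻¹ := by group
      _ = L₀ u * η⁻¹ := by rw [hac₀]; group

end exist

/-! ### consequences -/

namespace Lifts

variable {σ : Γ →* G} {T : X → G} (Λ : Lifts σ T)

theorem inv_L (x : X) : (Λ.L x)⁻¹ = Λ.L x := inv_eq_of_mul_eq_one_left (Λ.sq x)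

theorem conj' (x y : X) : Λ.L y * Λ.L x * Λ.L y = Λ.L (T y • x) := by
  have h := Λ.conj (Λ.L y) x
  rw [Λ.inv_L, Λ.map] at h
  exact h

/-- the product of the lifts along a list of points -/
def ev (ps : List X) : Γ := (ps.map Λ.L).prod

theorem map_ev (ps : List X) : σ (Λ.ev ps) = (ps.map T).prod := by
  unfold ev
  rw [map_list_prod, List.map_map]
  congr 1
  apply List.map_congr_left
  intro x _
  exact Λ.map x

theorem ev_append (ps qs : List X) : Λ.ev (ps ++ qs) = Λ.ev ps * Λ.ev qs := by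
  unfold ev
  rw [List.map_append, List.prod_append]

theorem ev_reverse (ps : List X) : Λ.ev ps.reverse = (Λ.ev ps)⁻¹ := by
  induction ps with
  | nil => simp [ev]
  | cons p ps ih =>
    rw [List.reverse_cons, ev_append, ih]
    unfold ev
    simp only [List.map_cons, List.map_nil, List.prod_cons, List.prod_nil, mul_one, mul_inv_rev, Λ.inv_L]

/-- a conjugate of a member of the family by a word in the family -/
theorem ev_conj (ps : List X) (q : X) :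
    Λ.ev (ps ++ q :: ps.reverse) = Λ.L ((ps.map T).prod • q) := by
  rw [ev_append, ← List.singleton_append, ev_append, ev_reverse, ← Λ.map_ev, ← Λ.conj]
  unfold ev
  simp [mul_assoc]

theorem comm_of_fix {x y : X} (h : T y • x = x) : Λ.L x * Λ.L y = Λ.L y * Λ.L x := by
  have h1 := Λ.conj' x y
  rw [h] at h1
  calc Λ.L x * Λ.L y = (Λ.L y * Λ.L x * Λ.L y) * Λ.L y := by rw [h1]
    _ = Λ.L y * Λ.L x * (Λ.L y * Λ.L y) := by group
    _ = Λ.L y * Λ.L x := by rw [Λ.sq, mul_one]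

theorem dih2 {x y : X} (h : T y • x = x) : (Λ.L x * Λ.L y) ^ 2 = 1 := by
  rw [pow_two]
  calc Λ.L x * Λ.L y * (Λ.L x * Λ.L y) = Λ.L x * (Λ.L y * Λ.L x) * Λ.L y := by group
    _ = Λ.L x * (Λ.L x * Λ.L y) * Λ.L y := by rw [Λ.comm_of_fix h]
    _ = (Λ.L x * Λ.L x) * (Λ.L y * Λ.L y) := by group
    _ = 1 := by rw [Λ.sq, Λ.sq, one_mul]

theorem dih3 {x y : X} (h : T x • (T y • x) = y) : (Λ.L x * Λ.L y) ^ 3 = 1 := by
  have h1 : Λ.L x * (Λ.L y * Λ.L x * Λ.L y) * Λ.L x = Λ.L y := by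
    rw [Λ.conj' x y, Λ.conj', h]
  calc (Λ.L x * Λ.L y) ^ 3 = (Λ.L x * (Λ.L y * Λ.L x * Λ.L y) * Λ.L x) * Λ.L y := by
        rw [pow_succ, pow_two]; group
    _ = 1 := by rw [h1, Λ.sq]

theorem dih4 (hT : ∀ (g : G) (x : X), g * T x * g⁻¹ = T (g • x)) (hsq : ∀ x, T x * T x = 1)
    {x y : X} (h : T y • (T x • (T y • x)) = x) : (Λ.L x * Λ.L y) ^ 4 = 1 := by
  have hyi : (T y)⁻¹ = T y := inv_eq_of_mul_eq_one_left (hsq y)
  have h0 : T (T y • x) • x = x := by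
    rw [← hT, hyi, mul_smul, mul_smul]
    exact h
  have h1 := Λ.dih2 h0
  have h2 : Λ.L x * Λ.L y * (Λ.L x * Λ.L y) = Λ.L x * Λ.L (T y • x) := by
    rw [← Λ.conj' x y]; group
  calc (Λ.L x * Λ.L y) ^ 4 = (Λ.L x * Λ.L y * (Λ.L x * Λ.L y)) ^ 2 := by
        rw [← pow_two, ← pow_mul]
    _ = 1 := by rw [h2, h1]

/-- the family generates the group when the kernel lies in the commutator subgroup -/
theorem closure_eq_top (hcen : σ.ker ≤ Subgroup.center Γ)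
    (hder : σ.ker ≤ commutator Γ) [MulAction.IsPretransitive G X] (S : Set X) (hS : S.Nonempty)
    (hgen : Subgroup.closure (T '' S) = ⊤) : Subgroup.closure (Λ.L '' S) = ⊤ := by
  set Γ₁ := Subgroup.closure (Λ.L '' S) with hΓ₁
  -- the subgroup maps onto `G`
  have hmap : ∀ g : G, ∃ h ∈ Γ₁, σ h = g := by
    intro g
    have hg : g ∈ Subgroup.closure (T '' S) := by rw [hgen]; exact Subgroup.mem_top _
    induction hg using Subgroup.closure_induction with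
    | mem g hg =>
      obtain ⟨x, hx, rfl⟩ := hg
      exact ⟨Λ.L x, Subgroup.subset_closure ⟨x, hx, rfl⟩, Λ.map x⟩
    | one => exact ⟨1, Γ₁.one_mem, map_one σ⟩
    | mul a b _ _ ha hb =>
      obtain ⟨h1, hm1, rfl⟩ := ha
      obtain ⟨h2, hm2, rfl⟩ := hb
      exact ⟨h1 * h2, Γ₁.mul_mem hm1 hm2, map_mul σ h1 h2⟩
    | inv a _ ha =>
      obtain ⟨h1, hm1, rfl⟩ := ha
      exact ⟨h1⁻¹, Γ₁.inv_mem hm1, map_inv σ h1⟩
  -- the subgroup contains the whole family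
  obtain ⟨s₀, hs₀⟩ := hS
  have hall : ∀ x, Λ.L x ∈ Γ₁ := by
    intro x
    obtain ⟨g, hg⟩ := MulAction.exists_smul_eq G s₀ x
    obtain ⟨h, hh, rfl⟩ := hmap g
    rw [← hg, ← Λ.conj]
    exact Γ₁.mul_mem (Γ₁.mul_mem hh (Subgroup.subset_closure ⟨s₀, hs₀, rfl⟩)) (Γ₁.inv_mem hh)
  -- every element is in the subgroup up to the kernel
  have hdec : ∀ z : Γ, ∃ h ∈ Γ₁, σ (h⁻¹ * z) = 1 := by
    intro z
    obtain ⟨h, hh, hσ⟩ := hmap (σ z)
    exact ⟨h, hh, by rw [map_mul, map_inv, hσ, inv_mul_cancel]⟩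
  -- the commutators are in the subgroup
  have hcomm : commutator Γ ≤ Γ₁ := by
    rw [commutator_eq_closure, Subgroup.closure_le]
    rintro _ ⟨p, q, rfl⟩
    rw [commutatorElement_def]
    obtain ⟨h₁, hm₁, hz₁⟩ := hdec p
    obtain ⟨h₂, hm₂, hz₂⟩ := hdec q
    have c₁ := comm_of_ker σ hcen hz₁
    have c₂ := comm_of_ker σ hcen hz₂
    set z₁ := h₁⁻¹ * p with hz₁d
    set z₂ := h₂⁻¹ * q with hz₂d
    have hp : p = h₁ * z₁ := by rw [hz₁d]; group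
    have hq : q = h₂ * z₂ := by rw [hz₂d]; group
    have : p * q * p⁻¹ * q⁻¹ = h₁ * h₂ * h₁⁻¹ * h₂⁻¹ := by
      rw [hp, hq]
      calc h₁ * z₁ * (h₂ * z₂) * (h₁ * z₁)⁻¹ * (h₂ * z₂)⁻¹
          = h₁ * (z₁ * h₂) * (z₂ * z₁⁻¹) * h₁⁻¹ * z₂⁻¹ * h₂⁻¹ := by group
        _ = h₁ * (h₂ * z₁) * (z₁⁻¹ * z₂) * h₁⁻¹ * z₂⁻¹ * h₂⁻¹ := by rw [c₁ h₂, c₂ z₁⁻¹]
        _ = h₁ * h₂ * (z₂ * h₁⁻¹) * z₂⁻¹ * h₂⁻¹ := by group
        _ = h₁ * h₂ * (h₁⁻¹ * z₂) * z₂⁻¹ * h₂⁻¹ := by rw [c₂ h₁⁻¹]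
        _ = h₁ * h₂ * h₁⁻¹ * h₂⁻¹ := by group
    show p * q * p⁻¹ * q⁻¹ ∈ Γ₁
    rw [this]
    exact Γ₁.mul_mem (Γ₁.mul_mem (Γ₁.mul_mem hm₁ hm₂) (Γ₁.inv_mem hm₁)) (Γ₁.inv_mem hm₂)
  rw [Subgroup.eq_top_iff']
  intro z
  obtain ⟨h, hh, hz⟩ := hdec z
  have h1 : h⁻¹ * z ∈ Γ₁ := hcomm (hder (MonoidHom.mem_ker.2 hz))
  have h2 : z = h * (h⁻¹ * z) := by group
  rw [h2]
  exact Γ₁.mul_mem hh h1

end Lifts

end Cfsg.Agent.Lib.Helper8.CanonLift
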