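import Mathlib

/-!
A concrete nine-element field `F9 = 𝔽₃[i]` (author: helper8), with decidable equality and a
kernel-friendly `Fintype` instance.
-/

set_option autoImplicit false

namespace Cfsg.Agent.Lib.Helper8

/-- the field with nine elements, `a + b i` with `i² = -1` over `ZMod 3` -/
structure F9 : Type where
  re : ZMod 3
  im : ZMod 3
  deriving DecidableEq

namespace F9

/-- the equivalence with pairs -/
def equivProd : F9 ≃ ZMod 3 × ZMod 3 where
  toFun x := (x.re, x.im)
  invFun p := ⟨p.1, p.2⟩
  left_inv := fun ⟨_, _⟩ => rfl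
  right_inv := fun ⟨_, _⟩ => rfl

instance instFintype : Fintype F9 := Fintype.ofEquiv _ equivProd.symm

instance instZero : Zero F9 := ⟨⟨0, 0⟩⟩
instance instOne : One F9 := ⟨⟨1, 0⟩⟩
instance instAdd : Add F9 := ⟨fun x y => ⟨x.re + y.re, x.im + y.im⟩⟩
instance instMul : Mul F9 :=
  ⟨fun x y => ⟨x.re * y.re - x.im * y.im, x.re * y.im + x.im * y.re⟩⟩
instance instNeg : Neg F9 := ⟨fun x => ⟨-x.re, -x.im⟩⟩
instance instInv : Inv F9 :=
  ⟨fun x => ⟨x.re * (x.re * x.re + x.im * x.im), -x.im * (x.re * x.re + x.im * x.im)⟩⟩

instance instCommRing : CommRing F9 where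
  add_assoc := by decide +kernel
  zero_add := by decide +kernel
  add_zero := by decide +kernel
  add_comm := by decide +kernel
  neg_add_cancel := by decide +kernel
  left_distrib := by decide +kernel
  right_distrib := by decide +kernel
  zero_mul := by decide +kernel
  mul_zero := by decide +kernel
  mul_assoc := by decide +kernel
  one_mul := by decide +kernel
  mul_one := by decide +kernel
  mul_comm := by decide +kernel
  nsmul := nsmulRec
  zsmul := zsmulRec

instance instField : Field F9 where
  exists_pair_ne := ⟨0, 1, by decide⟩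
  mul_inv_cancel := by decide +kernel
  inv_zero := rfl
  nnqsmul := _
  qsmul := _

theorem card : Fintype.card F9 = 9 := rfl

/-- the square root of `-1` -/
def I : F9 := ⟨0, 1⟩

end F9

end Cfsg.Agent.Lib.Helper8
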