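import Mathlib
import Cfsg.Agent.H1.ThompsonNPC

/-! Equivariance of `Z(J_e(P))` (`Cfsg.centerThompsonOf`) under automorphisms. -/

set_option autoImplicit false

namespace Cfsg.Agent.Lib.Helper8.ThompsonMap

theorem centerThompsonOf_map {T : Type*} [Group T] [Finite T] (p : ℕ) (σ : T ≃* T)
    (P : Subgroup T) :
    (Cfsg.centerThompsonOf p P).map σ.toMonoidHom =
      Cfsg.centerThompsonOf p (P.map σ.toMonoidHom) := by
  have hinj : ∀ (D : Subgroup T), ∀ x ∈ D, σ.toMonoidHom x = 1 → x = 1 := by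
    intro D x _ hx
    exact σ.injective (hx.trans (map_one σ).symm)
  unfold Cfsg.centerThompsonOf
  rw [Cfsg.Agent.H1.thompsonSubgroupOf_map (p := p) σ.toMonoidHom P (hinj P),
    Cfsg.Agent.H1.center_map σ.toMonoidHom (Cfsg.thompsonSubgroupOf p P) (hinj _)]

end Cfsg.Agent.Lib.Helper8.ThompsonMap
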