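import Cfsg.Agent.Lib.Helper6.SSApp
import Cfsg.Agent.Lib.Helper6.SimpCrit

/-!
# Tools for permutation groups given by lists: exact orbits of a subgroup generated by lists,
seventh powers
-/

set_option autoImplicit false

namespace Cfsg.Agent.Lib.Helper8.J2Simp

open Cfsg.Agent.Lib.Helper6.SS Cfsg.Agent.Lib.Helper6.TC

variable {n : ℕ}

/-- the seventh power of a list permutation -/
def pow7 (a : List ℕ) : List ℕ := cmp a (cmp a (cmp a (cmp a (cmp a (cmp a a)))))

theorem valid_pow7 {a : List ℕ} (ha : Valid n a) : Valid n (pow7 a) :=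
  ha.cmp (ha.cmp (ha.cmp (ha.cmp (ha.cmp (ha.cmp ha)))))

theorem toPerm_pow7 {a : List ℕ} (ha : Valid n a) : toPerm n (pow7 a) = toPerm n a ^ 7 := by
  have h2 := ha.cmp ha
  have h3 := ha.cmp h2
  have h4 := ha.cmp h3
  have h5 := ha.cmp h4
  have h6 := ha.cmp h5
  rw [pow7, toPerm_cmp ha h6, toPerm_cmp ha h5, toPerm_cmp ha h4, toPerm_cmp ha h3,
    toPerm_cmp ha h2, toPerm_cmp ha ha]
  simp only [pow_succ, pow_zero, one_mul, mul_assoc]

/-- the set of the points of a list -/
def lset (n : ℕ) (L : List ℕ) : Set (Fin n) := {b | b.val ∈ L}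

/-- the subgroup generated by the permutations of a list of lists -/
noncomputable def lgrp (n : ℕ) (S : List (List ℕ)) : Subgroup (Equiv.Perm (Fin n)) :=
  Subgroup.closure {g | ∃ s ∈ S, g = toPerm n s}

theorem toPerm_mem_lgrp {S : List (List ℕ)} {s : List ℕ} (hs : s ∈ S) :
    toPerm n s ∈ lgrp n S := Subgroup.subset_closure ⟨s, hs, rfl⟩

/-- the test that the list of points is mapped into itself by the lists of `S` -/
def closedOK (S : List (List ℕ)) (L : List ℕ) : Bool :=
  S.all fun s => L.all fun x => L.contains (s.getD x 0)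

theorem mapsTo_of_closedOK {S : List (List ℕ)} {L : List ℕ} (hS : ∀ s ∈ S, Valid n s)
    (h : closedOK S L = true) :
    ∀ g ∈ lgrp n S, Set.MapsTo g (lset n L) (lset n L) := by
  intro g hg
  rw [lgrp] at hg
  induction hg using Subgroup.closure_induction with
  | mem x hx =>
    obtain ⟨s, hs, rfl⟩ := hx
    intro b hb
    rw [closedOK, List.all_eq_true] at h
    have h1 := h s hs
    rw [List.all_eq_true] at h1
    have h2 := h1 b.val hb
    rw [List.contains_iff_mem] at h2
    show ((toPerm n s b : Fin n) : ℕ) ∈ L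
    rw [toPerm_apply (hS s hs)]
    exact h2
  | one => intro b hb; exact hb
  | mul x y _ _ hx hy => intro b hb; exact hx (hy hb)
  | inv x _ hx =>
    have : Finite (lset n L) := inferInstance
    exact Equiv.Perm.perm_symm_mapsTo_of_mapsTo x hx

/-- **exact orbits**: a list of points that is closed under the generators and reached from
its first point along a tree is the orbit of its first point -/
theorem lset_eq_orbit {S : List (List ℕ)} {L : List ℕ} {tree : List (ℕ × ℕ)}
    (hS : ∀ s ∈ S, Valid n s) (hlt : ∀ p ∈ L, p < n) (h0 : 0 < L.length)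
    (ht : ptreeOK S L tree = true) (hc : closedOK S L = true) :
    lset n L = {b | ∃ g ∈ lgrp n S, g ⟨L[0], hlt _ (List.getElem_mem h0)⟩ = b} := by
  ext b
  constructor
  · intro hb
    have hb' : b.val ∈ L := hb
    obtain ⟨k, hk, hkb⟩ := List.getElem_of_mem hb'
    obtain ⟨g, hg, hgk⟩ := ptree_mem (lgrp n S)
      (fun s hs => ⟨hS s hs, toPerm_mem_lgrp hs⟩) hlt ht h0 k hk
    exact ⟨g, hg, Fin.ext (by rw [hgk, hkb])⟩
  · rintro ⟨g, hg, rfl⟩
    exact mapsTo_of_closedOK hS hc g hg (List.getElem_mem h0)

/-- the number of points of a list without repetition -/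
theorem ncard_lset {L : List ℕ} (hlt : ∀ p ∈ L, p < n) (hnd : L.Nodup) :
    (lset n L).ncard = L.length := by
  classical
  have h1 : lset n L = Set.range (fun i : Fin L.length =>
      (⟨L[i.val], hlt _ (List.getElem_mem i.isLt)⟩ : Fin n)) := by
    ext b
    constructor
    · intro hb
      have hb' : b.val ∈ L := hb
      obtain ⟨k, hk, hkb⟩ := List.getElem_of_mem hb'
      exact ⟨⟨k, hk⟩, Fin.ext hkb⟩
    · rintro ⟨i, rfl⟩
      exact List.getElem_mem i.isLt
  rw [h1, Set.ncard_eq_toFinset_card', Set.toFinset_range, Finset.card_image_of_injective,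
    Finset.card_univ, Fintype.card_fin]
  intro i j hij
  have := congrArg Fin.val hij
  simp only at this
  exact Fin.ext ((List.Nodup.getElem_inj_iff hnd).1 this)

end Cfsg.Agent.Lib.Helper8.J2Simp
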