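import Cfsg.Agent.Lib.Helper8.J2SimpData
import Cfsg.Agent.Lib.Helper8.J2SimpA
import Cfsg.Agent.Lib.Lead.J2.PermGrp

/-! Kernel checks for the simplicity of the group of the 315 lines (generated by a script): elements of order seven -/

set_option autoImplicit false
set_option maxRecDepth 1000000

namespace Cfsg.Agent.Lib.Helper8.J2Simp

open Cfsg.Agent.J2 Cfsg.Agent.Lib.Helper6.SS

theorem chk_u0 : prodL 315 [g77, g24, g77, g165, g24, g202] = uL0 := by decide +kernel

theorem chk_v0 : prodL 315 [g202, g24, g165, g77, g24, g77, g24] = vL0 := by decide +kernel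

theorem chk_uv0 : Cfsg.Agent.Lib.Helper6.SS.cmp uL0 vL0 = g24 := by decide +kernel

theorem chk_u7_0 : pow7 uL0 = idL 315 := by decide +kernel

theorem chk_v7_0 : pow7 vL0 = idL 315 := by decide +kernel

theorem chk_u1 : prodL 315 [g24, g77, g165, g24, g202, g77, g165] = uL1 := by decide +kernel

theorem chk_v1 : prodL 315 [g165, g77, g202, g24, g165, g77, g24, g77] = vL1 := by decide +kernel

theorem chk_uv1 : Cfsg.Agent.Lib.Helper6.SS.cmp uL1 vL1 = g77 := by decide +kernel

theorem chk_u7_1 : pow7 uL1 = idL 315 := by decide +kernel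

theorem chk_v7_1 : pow7 vL1 = idL 315 := by decide +kernel

end Cfsg.Agent.Lib.Helper8.J2Simp
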