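import Cfsg.Agent.Lib.Helper8.J2SimpData
import Cfsg.Agent.Lib.Helper8.J2SimpA
import Cfsg.Agent.Lib.Lead.J2.PermGrp

/-! Kernel checks for the simplicity of the group of the 315 lines (generated by a script): elements of order seven -/

set_option autoImplicit false
set_option maxRecDepth 1000000

namespace Cfsg.Agent.Lib.Helper8.J2Simp

open Cfsg.Agent.J2 Cfsg.Agent.Lib.Helper6.SS

theorem chk_u2 : prodL 315 [g24, g77, g165, g24, g202, g77] = uL2 := by decide +kernel

theorem chk_v2 : prodL 315 [g77, g202, g24, g165, g77, g24, g165] = vL2 := by decide +kernel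

theorem chk_uv2 : Cfsg.Agent.Lib.Helper6.SS.cmp uL2 vL2 = g165 := by decide +kernel

theorem chk_u7_2 : pow7 uL2 = idL 315 := by decide +kernel

theorem chk_v7_2 : pow7 vL2 = idL 315 := by decide +kernel

theorem chk_u3 : prodL 315 [g24, g202, g77, g24, g77, g165] = uL3 := by decide +kernel

theorem chk_v3 : prodL 315 [g165, g77, g24, g77, g202, g24, g202] = vL3 := by decide +kernel

theorem chk_uv3 : Cfsg.Agent.Lib.Helper6.SS.cmp uL3 vL3 = g202 := by decide +kernel

theorem chk_u7_3 : pow7 uL3 = idL 315 := by decide +kernel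

theorem chk_v7_3 : pow7 vL3 = idL 315 := by decide +kernel

end Cfsg.Agent.Lib.Helper8.J2Simp
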