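import Cfsg.Agent.Lib.Helper8.J2SimpChk1
import Cfsg.Agent.Lib.Helper8.J2SimpChk2
import Cfsg.Agent.Lib.Helper8.J2SimpChk3

/-!
# The permutation group of the 315 lines is simple (given its order)
-/

set_option autoImplicit false

namespace Cfsg.Agent.Lib.Helper8.J2Simp

open Cfsg.Agent.J2 Cfsg.Agent.Lib.Helper6.SS Cfsg.Agent.Lib.Helper6.TC
  Cfsg.Agent.Lib.Helper6.Simp

theorem gens_spec : ∀ g ∈ [g24, g77, g165, g202], Valid 315 g ∧ toPerm 315 g ∈ PJ2 := by
  intro g hg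
  simp only [List.mem_cons, List.not_mem_nil, or_false] at hg
  rcases hg with rfl | rfl | rfl | rfl
  · exact ⟨valid_g24, Subgroup.subset_closure (Or.inl rfl)⟩
  · exact ⟨valid_g77, Subgroup.subset_closure (Or.inr (Or.inl rfl))⟩
  · exact ⟨valid_g165, Subgroup.subset_closure (Or.inr (Or.inr (Or.inl rfl)))⟩
  · exact ⟨valid_g202, Subgroup.subset_closure (Or.inr (Or.inr (Or.inr rfl)))⟩

theorem word_spec {us : List (List ℕ)} (h : ∀ u ∈ us, u ∈ [g24, g77, g165, g202]) :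
    Valid 315 (prodL 315 us) ∧ toPerm 315 (prodL 315 us) ∈ PJ2 := by
  have hv : ∀ u ∈ us, Valid 315 u := fun u hu => (gens_spec u (h u hu)).1
  refine ⟨valid_prodL hv, ?_⟩
  rw [toPerm_prodL hv]
  apply Subgroup.list_prod_mem
  intro σ hσ
  rw [List.mem_map] at hσ
  obtain ⟨u, hu, rfl⟩ := hσ
  exact (gens_spec u (h u hu)).2

/-- membership of the letters of a word in the list of the generators -/
theorem sub_gens (w : List ℕ) :
    ∀ u ∈ w.map (fun i => [g24, g77, g165, g202].getD i g24), u ∈ [g24, g77, g165, g202] := by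
  intro u hu
  rw [List.mem_map] at hu
  obtain ⟨i, _, rfl⟩ := hu
  rcases i with _ | _ | _ | _ | i
  · exact List.mem_cons_self
  · exact List.mem_cons_of_mem _ List.mem_cons_self
  · exact List.mem_cons_of_mem _ (List.mem_cons_of_mem _ List.mem_cons_self)
  · exact List.mem_cons_of_mem _ (List.mem_cons_of_mem _ (List.mem_cons_of_mem _ List.mem_cons_self))
  · exact List.mem_cons_self

theorem hL1_spec : Valid 315 hL1 ∧ toPerm 315 hL1 ∈ PJ2 := by
  rw [← chk_h1]; exact word_spec (sub_gens [1, 0, 3, 1, 3, 2, 0])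

theorem hL2_spec : Valid 315 hL2 ∧ toPerm 315 hL2 ∈ PJ2 := by
  rw [← chk_h2]; exact word_spec (sub_gens [2, 0, 3, 1, 3, 0, 2])

theorem hL3_spec : Valid 315 hL3 ∧ toPerm 315 hL3 ∈ PJ2 := by
  rw [← chk_h3]; exact word_spec (sub_gens [2, 1, 3, 1, 3, 0, 1, 3])

theorem hL_spec : ∀ s ∈ [hL1, hL2, hL3], Valid 315 s ∧ toPerm 315 s ∈ PJ2 := by
  intro s hs
  simp only [List.mem_cons, List.not_mem_nil, or_false] at hs
  rcases hs with rfl | rfl | rfl
  · exact hL1_spec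
  · exact hL2_spec
  · exact hL3_spec

/-- the subgroup of the stabilizer of the line `0` -/
noncomputable def H' : Subgroup (Equiv.Perm (Fin 315)) := lgrp 315 [hL1, hL2, hL3]

theorem H'_le : H' ≤ PJ2 := by
  rw [H', lgrp, Subgroup.closure_le]
  rintro g ⟨s, hs, rfl⟩
  exact (hL_spec s hs).2

/-- the base point -/
def o : Fin 315 := ⟨0, by norm_num⟩

theorem H'_fix : ∀ g ∈ H', g o = o := by
  intro g hg
  have h := mapsTo_of_closedOK (n := 315) (fun s hs => (hL_spec s hs).1) chk_fix0 g hg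
  have h1 : o ∈ lset 315 [0] := by
    show (0 : ℕ) ∈ [0]
    exact List.mem_cons_self
  have h2 : ((g o : Fin 315) : ℕ) ∈ [0] := h h1
  rw [List.mem_singleton] at h2
  exact Fin.ext h2

theorem tpts_lt : ∀ p ∈ tpts, p < 315 := by
  have := chk_tlen.2.2
  rw [List.all_eq_true] at this
  intro p hp
  simpa using this p hp

theorem trans_PJ2 (a : Fin 315) : ∃ z ∈ PJ2, z o = a := by
  have h0 : 0 < tpts.length := by rw [chk_tlen.1]; norm_num
  have hmem : a.val ∈ tpts := by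
    have := chk_tcover
    rw [List.all_eq_true] at this
    have h := this a.val (List.mem_range.2 a.isLt)
    rwa [List.contains_iff_mem] at h
  obtain ⟨k, hk, hka⟩ := List.getElem_of_mem hmem
  obtain ⟨z, hz, hzk⟩ := ptree_mem PJ2 gens_spec tpts_lt chk_ttree h0 k hk
  refine ⟨z, hz, ?_⟩
  have e0 : tpts[0] = 0 := by
    have := chk_tlen.2.1
    rwa [List.getD_eq_getElem _ _ h0] at this
  have e1 : (⟨tpts[0], tpts_lt _ (List.getElem_mem h0)⟩ : Fin 315) = o := Fin.ext e0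
  rw [e1] at hzk
  exact Fin.ext (by rw [hzk, hka])

/-- the lengths of the suborbits -/
def sLen : Fin 5 → ℕ := ![10, 32, 32, 80, 160]

theorem dLs_spec : ∀ i : Fin 5, ptreeOK [hL1, hL2, hL3] (dLs i) (dTs i) = true ∧
    closedOK [hL1, hL2, hL3] (dLs i) = true ∧ (dLs i).length = sLen i ∧ (dLs i).Nodup ∧
    (dLs i).all (fun p => decide (p < 315)) = true ∧ (dLs i).contains 0 = false := by
  intro i
  fin_cases i
  · exact ⟨chk_dT1, chk_dC1, chk_dN1⟩
  · exact ⟨chk_dT2, chk_dC2, chk_dN2⟩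
  · exact ⟨chk_dT3, chk_dC3, chk_dN3⟩
  · exact ⟨chk_dT4, chk_dC4, chk_dN4⟩
  · exact ⟨chk_dT5, chk_dC5, chk_dN5⟩

theorem dLs_lt (i : Fin 5) : ∀ p ∈ dLs i, p < 315 := by
  have := (dLs_spec i).2.2.2.2.1
  rw [List.all_eq_true] at this
  intro p hp
  simpa using this p hp

theorem dLs_pos (i : Fin 5) : 0 < (dLs i).length := by
  rw [(dLs_spec i).2.2.1]
  fin_cases i <;> simp [sLen]

theorem harith : ∀ I : Finset (Fin 5), I.Nonempty → (1 + ∑ i ∈ I, sLen i) ∣ 315 →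
    1 + ∑ i ∈ I, sLen i = 315 := by decide

/-- each generator is a product of two elements whose seventh power is trivial -/
theorem gen_mem_closure7 {g u v : List ℕ} (hg : toPerm 315 g ∈ PJ2)
    (hu : Valid 315 u ∧ toPerm 315 u ∈ PJ2) (hv : Valid 315 v ∧ toPerm 315 v ∈ PJ2)
    (huv : Cfsg.Agent.Lib.Helper6.SS.cmp u v = g) (hu7 : pow7 u = idL 315) (hv7 : pow7 v = idL 315) :
    (⟨toPerm 315 g, hg⟩ : ↥PJ2) ∈ Subgroup.closure {x : ↥PJ2 | x ^ 7 = 1} := by
  have e : (⟨toPerm 315 g, hg⟩ : ↥PJ2) = ⟨toPerm 315 u, hu.2⟩ * ⟨toPerm 315 v, hv.2⟩ := by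
    apply Subtype.ext
    show toPerm 315 g = toPerm 315 u * toPerm 315 v
    rw [← huv, toPerm_cmp hu.1 hv.1]
  rw [e]
  apply Subgroup.mul_mem
  · apply Subgroup.subset_closure
    apply Subtype.ext
    show toPerm 315 u ^ 7 = 1
    rw [← toPerm_pow7 hu.1, hu7, toPerm_idL]
  · apply Subgroup.subset_closure
    apply Subtype.ext
    show toPerm 315 v ^ 7 = 1
    rw [← toPerm_pow7 hv.1, hv7, toPerm_idL]

theorem hgen7 : Subgroup.closure {x : ↥PJ2 | x ^ 7 = 1} = ⊤ := by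
  rw [eq_top_iff]
  have htop : Subgroup.closure (((↑) : ↥PJ2 → Equiv.Perm (Fin 315)) ⁻¹'
      {toPerm 315 g24, toPerm 315 g77, toPerm 315 g165, toPerm 315 g202}) = ⊤ :=
    Subgroup.closure_closure_coe_preimage
  rw [← htop, Subgroup.closure_le]
  have hu0 : Valid 315 uL0 ∧ toPerm 315 uL0 ∈ PJ2 := by
    rw [← chk_u0]; exact word_spec (sub_gens [1, 0, 1, 2, 0, 3])
  have hv0 : Valid 315 vL0 ∧ toPerm 315 vL0 ∈ PJ2 := by
    rw [← chk_v0]; exact word_spec (sub_gens [3, 0, 2, 1, 0, 1, 0])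
  have hu1 : Valid 315 uL1 ∧ toPerm 315 uL1 ∈ PJ2 := by
    rw [← chk_u1]; exact word_spec (sub_gens [0, 1, 2, 0, 3, 1, 2])
  have hv1 : Valid 315 vL1 ∧ toPerm 315 vL1 ∈ PJ2 := by
    rw [← chk_v1]; exact word_spec (sub_gens [2, 1, 3, 0, 2, 1, 0, 1])
  have hu2 : Valid 315 uL2 ∧ toPerm 315 uL2 ∈ PJ2 := by
    rw [← chk_u2]; exact word_spec (sub_gens [0, 1, 2, 0, 3, 1])
  have hv2 : Valid 315 vL2 ∧ toPerm 315 vL2 ∈ PJ2 := by
    rw [← chk_v2]; exact word_spec (sub_gens [1, 3, 0, 2, 1, 0, 2])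
  have hu3 : Valid 315 uL3 ∧ toPerm 315 uL3 ∈ PJ2 := by
    rw [← chk_u3]; exact word_spec (sub_gens [0, 3, 1, 0, 1, 2])
  have hv3 : Valid 315 vL3 ∧ toPerm 315 vL3 ∈ PJ2 := by
    rw [← chk_v3]; exact word_spec (sub_gens [2, 1, 0, 1, 3, 0, 3])
  rintro z (hz | hz | hz | hz)
  · have : z = ⟨toPerm 315 g24, (gens_spec g24 (by simp)).2⟩ := Subtype.ext hz
    rw [this]
    exact gen_mem_closure7 _ hu0 hv0 chk_uv0 chk_u7_0 chk_v7_0
  · have : z = ⟨toPerm 315 g77, (gens_spec g77 (by simp)).2⟩ := Subtype.ext hz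
    rw [this]
    exact gen_mem_closure7 _ hu1 hv1 chk_uv1 chk_u7_1 chk_v7_1
  · have : z = ⟨toPerm 315 g165, (gens_spec g165 (by simp)).2⟩ := Subtype.ext hz
    rw [this]
    exact gen_mem_closure7 _ hu2 hv2 chk_uv2 chk_u7_2 chk_v7_2
  · have : z = ⟨toPerm 315 g202, (gens_spec g202 (by simp)).2⟩ := Subtype.ext hz
    rw [this]
    exact gen_mem_closure7 _ hu3 hv3 chk_uv3 chk_u7_3 chk_v7_3

/-- **the group of the 315 lines is simple**, given its order -/
theorem simple_PJ2 (hcard : Nat.card ↥PJ2 = 604800) : IsSimpleGroup ↥PJ2 := by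
  have hfin : Finite ↥PJ2 := inferInstance
  refine isSimpleGroup_of_cert (G := ↥PJ2) (n := 315) PJ2.subtype (Subgroup.subtype_injective _) o
    ?_ (H'.subgroupOf PJ2) ?_ (fun i => lset 315 (dLs i)) ?_ ?_ ?_ ?_ sLen ?_ harith 7 ?_ hgen7
    (by norm_num)
  · intro a
    obtain ⟨z, hz, hza⟩ := trans_PJ2 a
    exact ⟨⟨z, hz⟩, hza⟩
  · intro h hh
    rw [Subgroup.mem_subgroupOf] at hh
    exact H'_fix _ hh
  · intro i
    refine ⟨⟨(dLs i)[0]'(dLs_pos i), dLs_lt i _ (List.getElem_mem (dLs_pos i))⟩, ?_⟩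
    rw [lset_eq_orbit (fun s hs => (hL_spec s hs).1) (dLs_lt i) (dLs_pos i) (dLs_spec i).1
      (dLs_spec i).2.1]
    ext b
    constructor
    · rintro ⟨g, hg, rfl⟩
      exact ⟨⟨g, H'_le hg⟩, Subgroup.mem_subgroupOf.2 hg, rfl⟩
    · rintro ⟨h, hh, rfl⟩
      exact ⟨h.1, Subgroup.mem_subgroupOf.1 hh, rfl⟩
  · intro b
    have := chk_cover
    rw [List.all_eq_true] at this
    have h := this b.val (List.mem_range.2 b.isLt)
    rw [Bool.or_eq_true, beq_iff_eq, List.any_eq_true] at h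
    rcases h with h | ⟨i, _, hi⟩
    · exact Or.inl (Fin.ext h)
    · rw [List.contains_iff_mem] at hi
      exact Or.inr ⟨i, hi⟩
  · intro i j hij b hbi hbj
    have := chk_disj i j hij
    rw [List.all_eq_true] at this
    have h := this b.val hbi
    have hbj' : b.val ∈ dLs j := hbj
    rw [← List.contains_iff_mem] at hbj'
    rw [hbj'] at h
    exact Bool.false_ne_true h
  · intro i hi
    have h0 : (0 : ℕ) ∈ dLs i := hi
    rw [← List.contains_iff_mem, (dLs_spec i).2.2.2.2.2] at h0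
    exact Bool.false_ne_true h0
  · intro i
    rw [ncard_lset (dLs_lt i) (dLs_spec i).2.2.2.1, (dLs_spec i).2.2.1]
  · rw [hcard]
    norm_num

end Cfsg.Agent.Lib.Helper8.J2Simp
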