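import Cfsg.Agent.Lib.Helper8.LwH4D

/-!
# Livingstone–Wagner, Hall-type lemma (H4), part E: the exceptional points and the free points
-/

set_option autoImplicit false

namespace Cfsg.Agent.Lib.Helper8.LW

open MulAction

namespace Quad

section sets

variable {T Ξ : Type*} [Group T] [Finite T] [MulAction T Ξ] [Fintype Ξ] [DecidableEq Ξ]
  (c : Quad T Ξ)

/-- the four base points -/
def B : Finset Ξ := {c.p1, c.p2, c.p3, c.p4}

/-- the two points fixed by `t` only -/
def P : Finset Ξ := fixF c.t \ c.E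

/-- the non-free points -/
def U : Finset Ξ := c.B ∪ fixF c.t

omit [Finite T] [Fintype Ξ] in
theorem mem_B {x : Ξ} : x ∈ c.B ↔ x = c.p1 ∨ x = c.p2 ∨ x = c.p3 ∨ x = c.p4 := by
  simp [B]

omit [Finite T] [Fintype Ξ] in
theorem card_B : c.B.card = 4 := by
  rw [B, Finset.card_insert_of_notMem, Finset.card_insert_of_notMem, Finset.card_pair c.h34]
  · simp only [Finset.mem_insert, Finset.mem_singleton]
    rintro (h | h)
    · exact c.h23 h
    · exact c.h24 h
  · simp only [Finset.mem_insert, Finset.mem_singleton]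
    rintro (h | h | h)
    · exact c.h12 h
    · exact c.h13 h
    · exact c.h14 h

omit [Finite T] in
theorem B_disj : Disjoint c.B (fixF c.t) := by
  rw [Finset.disjoint_left]
  intro x hx hx2
  rw [mem_fixF] at hx2
  rw [mem_B] at hx
  rcases hx with rfl | rfl | rfl | rfl
  · rw [c.t1] at hx2; exact c.h12 hx2.symm
  · rw [c.t2] at hx2; exact c.h12 hx2
  · rw [c.t3] at hx2; exact c.h34 hx2.symm
  · rw [c.t4] at hx2; exact c.h34 hx2

omit [Finite T] in
theorem card_U : c.U.card = 4 + (fixF c.t : Finset Ξ).card := by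
  rw [U, Finset.card_union_of_disjoint c.B_disj, c.card_B]

omit [Finite T] [Fintype Ξ] in
theorem t_mem_B {x : Ξ} (hx : x ∈ c.B) : c.t • x ∈ c.B := by
  rw [mem_B] at hx ⊢
  rcases hx with rfl | rfl | rfl | rfl
  · rw [c.t1]; tauto
  · rw [c.t2]; tauto
  · rw [c.t3]; tauto
  · rw [c.t4]; tauto

omit [Finite T] [Fintype Ξ] in
theorem u_mem_B {x : Ξ} (hx : x ∈ c.B) : c.u • x ∈ c.B := by
  rw [mem_B] at hx ⊢
  rcases hx with rfl | rfl | rfl | rfl
  · rw [c.u1]; tauto
  · rw [c.u2]; tauto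
  · rw [c.u3]; tauto
  · rw [c.u4]; tauto

omit [Finite T] in
theorem t_mem_U {x : Ξ} (hx : x ∈ c.U) : c.t • x ∈ c.U := by
  rw [U, Finset.mem_union] at hx ⊢
  rcases hx with hx | hx
  · left; exact c.t_mem_B hx
  · right
    rw [mem_fixF] at hx ⊢
    rw [hx, hx]

omit [Finite T] in
theorem u_mem_U {x : Ξ} (hx : x ∈ c.U) : c.u • x ∈ c.U := by
  rw [U, Finset.mem_union] at hx ⊢
  rcases hx with hx | hx
  · left; exact c.u_mem_B hx
  · right
    rw [mem_fixF] at hx ⊢
    rw [c.t_smul_u, hx]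

omit [Finite T] in
theorem v_mem_U {x : Ξ} (hx : x ∈ c.U) : c.v • x ∈ c.U := by
  rw [c.v_smul]
  exact c.t_mem_U (c.u_mem_U hx)

omit [Finite T] in
theorem t_free {w : Ξ} (hw : w ∉ c.U) : c.t • w ∉ c.U := by
  intro h
  apply hw
  have := c.t_mem_U h
  rwa [c.t_smul_t] at this

omit [Finite T] in
theorem u_free {w : Ξ} (hw : w ∉ c.U) : c.u • w ∉ c.U := by
  intro h
  apply hw
  have := c.u_mem_U h
  rwa [c.u_smul_u] at this

omit [Finite T] in
theorem v_free {w : Ξ} (hw : w ∉ c.U) : c.v • w ∉ c.U := by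
  intro h
  apply hw
  have := c.v_mem_U h
  rwa [c.v_smul_v] at this

omit [Finite T] in
theorem E_sub_U : c.E ⊆ c.U := by
  intro x hx
  rw [E, Finset.mem_inter] at hx
  rw [U, Finset.mem_union]
  right; exact hx.1

omit [Finite T] in
theorem P_sub_U : c.P ⊆ c.U := by
  intro x hx
  rw [P, Finset.mem_sdiff] at hx
  rw [U, Finset.mem_union]
  right; exact hx.1

omit [Finite T] in
theorem t_ne_free {w : Ξ} (hw : w ∉ c.U) : c.t • w ≠ w := by
  intro h
  apply hw
  rw [U, Finset.mem_union]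
  right; rw [mem_fixF]; exact h

variable (h4 : IsMultiplyPretransitive T Ξ 4)
  (hodd : ∀ (g : T) (x : Fin 4 ↪ Ξ), (∀ i, g • x i = x i) → g ^ 2 = 1 → g = 1)
  (hcard : 7 ≤ Fintype.card Ξ)

include h4 hodd hcard

theorem u_ne_free {w : Ξ} (hw : w ∉ c.U) : c.u • w ≠ w := by
  intro h
  apply hw
  have : w ∈ (fixF c.u : Finset Ξ) := mem_fixF.mpr h
  rw [(c.fix_u_eq h4 hodd hcard).1, Finset.mem_union] at this
  rcases this with h1 | h1
  · rw [U, Finset.mem_union]; left
    rw [mem_B]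
    rw [Finset.mem_insert, Finset.mem_singleton] at h1
    tauto
  · exact c.E_sub_U h1

theorem v_ne_free {w : Ξ} (hw : w ∉ c.U) : c.v • w ≠ w := by
  intro h
  apply hw
  have : w ∈ (fixF c.v : Finset Ξ) := mem_fixF.mpr h
  rw [c.fix_v_eq h4 hodd hcard, Finset.mem_union] at this
  rcases this with h1 | h1
  · rw [U, Finset.mem_union]; left
    rw [mem_B]
    rw [Finset.mem_insert, Finset.mem_singleton] at h1
    tauto
  · exact c.E_sub_U h1

theorem card_P : c.P.card = 2 := by
  have hsub : c.E ⊆ fixF c.t := by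
    intro x hx
    rw [E, Finset.mem_inter] at hx
    exact hx.1
  rw [P, Finset.card_sdiff_of_subset hsub]
  have := (c.fix_u_eq h4 hodd hcard).2
  omega

omit h4 hcard in
theorem card_U_le : c.U.card ≤ 7 := by
  rw [c.card_U]
  have := c.card_fix_t_le hodd
  omega

end sets

end Quad

end Cfsg.Agent.Lib.Helper8.LW
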