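import Cfsg.Agent.Lib.Helper8.LwH4G

/-!
# Livingstone–Wagner, Hall-type lemma (H4), part H: the bound `|Ξ| ≤ 11`
-/

set_option autoImplicit false

namespace Cfsg.Agent.Lib.Helper8.LW

open MulAction

namespace Quad

section good

variable {T Ξ : Type*} [Group T] [Finite T] [MulAction T Ξ] [Fintype Ξ] [DecidableEq Ξ]
  (c : Quad T Ξ)

/-- the behaviour of the involutions `e` on the six exceptional points -/
structure Good (g : T) : Prop where
  invol : ∀ x : Ξ, g • g • x = x
  p3 : g • c.p3 = c.p1 ∨ g • c.p3 = c.p2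
  p4 : g • c.p4 = c.p1 ∨ g • c.p4 = c.p2
  onP : ∀ x ∈ c.P, g • x ∈ c.P ∧ g • x ≠ x

variable {c}

variable (h4 : IsMultiplyPretransitive T Ξ 4)
  (hodd : ∀ (g : T) (x : Fin 4 ↪ Ξ), (∀ i, g • x i = x i) → g ^ 2 = 1 → g = 1)
  (hcard : 7 ≤ Fintype.card Ξ)

include h4 hodd hcard in
theorem Good.agree {g g' : T} (hg : c.Good g) (hg' : c.Good g') (h3 : g • c.p3 = g' • c.p3) :
    ∀ x ∈ c.B ∪ c.P, g • x = g' • x := by
  have hinj := MulAction.injective (α := T) (β := Ξ) g
  have hinj' := MulAction.injective (α := T) (β := Ξ) g'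
  have hne : g • c.p3 ≠ g • c.p4 := fun h => c.h34 (hinj h)
  have hne' : g' • c.p3 ≠ g' • c.p4 := fun h => c.h34 (hinj' h)
  have h4' : g • c.p4 = g' • c.p4 := by
    rcases hg.p3 with a3 | a3 <;> rcases hg.p4 with a4 | a4 <;> rcases hg'.p3 with b3 | b3 <;>
      rcases hg'.p4 with b4 | b4 <;> simp_all
  have hp1 : g • c.p1 = g' • c.p1 := by
    rcases hg.p3 with a3 | a3
    · have e1 : g • c.p1 = c.p3 := by rw [← a3, hg.invol]
      have e2 : g' • c.p1 = c.p3 := by rw [← a3, h3, hg'.invol]
      rw [e1, e2]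
    · rcases hg.p4 with a4 | a4
      · have e1 : g • c.p1 = c.p4 := by rw [← a4, hg.invol]
        have e2 : g' • c.p1 = c.p4 := by rw [← a4, h4', hg'.invol]
        rw [e1, e2]
      · exact absurd (a3.trans a4.symm) hne
  have hp2 : g • c.p2 = g' • c.p2 := by
    rcases hg.p3 with a3 | a3
    · rcases hg.p4 with a4 | a4
      · exact absurd (a3.trans a4.symm) hne
      · have e1 : g • c.p2 = c.p4 := by rw [← a4, hg.invol]
        have e2 : g' • c.p2 = c.p4 := by rw [← a4, h4', hg'.invol]
        rw [e1, e2]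
    · have e1 : g • c.p2 = c.p3 := by rw [← a3, hg.invol]
      have e2 : g' • c.p2 = c.p3 := by rw [← a3, h3, hg'.invol]
      rw [e1, e2]
  intro x hx
  rw [Finset.mem_union] at hx
  rcases hx with hx | hx
  · rw [c.mem_B] at hx
    rcases hx with rfl | rfl | rfl | rfl
    · exact hp1
    · exact hp2
    · exact h3
    · exact h4'
  · have hc := c.card_P h4 hodd hcard
    have h1 := hg.onP x hx
    have h2 := hg'.onP x hx
    have hcard1 : (c.P.erase x).card = 1 := by
      rw [Finset.card_erase_of_mem hx, hc]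
    have m1 : g • x ∈ c.P.erase x := Finset.mem_erase.mpr ⟨h1.2, h1.1⟩
    have m2 : g' • x ∈ c.P.erase x := Finset.mem_erase.mpr ⟨h2.2, h2.1⟩
    exact Finset.card_le_one.mp (le_of_eq hcard1) _ m1 _ m2

include h4 hodd hcard in
theorem IsE.good {e : T} {w : Ξ} (h : c.IsE e w) (hw : w ∉ c.U) : c.Good e := by
  have hfixv := c.fix_v_eq h4 hodd hcard
  have hp3 : c.p3 ∉ c.E := by
    intro hmem
    have := (c.mem_E.mp hmem).1
    rw [c.t3] at this
    exact c.h34 this.symm
  have hp4 : c.p4 ∉ c.E := by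
    intro hmem
    have := (c.mem_E.mp hmem).1
    rw [c.t4] at this
    exact c.h34 this
  have aux : ∀ y : Ξ, c.u • y = y → y ∉ c.E → e • y = c.p1 ∨ e • y = c.p2 := by
    intro y hy hyE
    have hv : e • y ∈ (fixF c.v : Finset Ξ) := by
      rw [mem_fixF]
      have := h.smul_u y
      rw [hy] at this
      exact this.symm
    rw [hfixv, Finset.mem_union, Finset.mem_insert, Finset.mem_singleton] at hv
    rcases hv with hv | hv
    · exact hv
    · exfalso
      have := h.fix_E h4 hodd hcard hv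
      rw [h.smul_smul] at this
      rw [← this] at hv
      exact hyE hv
  refine ⟨h.smul_smul, aux _ c.u3 hp3, aux _ c.u4 hp4, ?_⟩
  intro x hx
  have hx' := hx
  rw [P, Finset.mem_sdiff, mem_fixF] at hx'
  obtain ⟨hxt, hxE⟩ := hx'
  constructor
  · rw [P, Finset.mem_sdiff, mem_fixF]
    constructor
    · rw [← h.smul_t, hxt]
    · intro hmem
      have := h.fix_E h4 hodd hcard hmem
      rw [h.smul_smul] at this
      rw [← this] at hmem
      exact hxE hmem
  · intro hfix
    have : x ∈ (fixF e : Finset Ξ) := mem_fixF.mpr hfix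
    rw [h.fix_eq h4 hodd hcard hw, Finset.mem_union, Finset.mem_insert, Finset.mem_singleton] at this
    rcases this with (h1 | h1) | h1
    · apply c.u_free hw
      rw [← h1]; exact c.P_sub_U hx
    · apply c.v_free hw
      rw [← h1]; exact c.P_sub_U hx
    · exact hxE h1

omit [Finite T] in
theorem Good.mul_t {e : T} (hg : c.Good e) (hcomm : c.t * e = e * c.t) : c.Good (e * c.t) := by
  have hst : ∀ x : Ξ, e • c.t • x = c.t • e • x := by
    intro x
    rw [← mul_smul, ← hcomm, mul_smul]
  refine ⟨?_, ?_, ?_, ?_⟩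
  · intro x
    rw [mul_smul, mul_smul, ← hst, c.t_smul_t, hg.invol]
  · rw [mul_smul, c.t3]; exact hg.p4
  · rw [mul_smul, c.t4]; exact hg.p3
  · intro x hx
    have hx' := hx
    rw [P, Finset.mem_sdiff, mem_fixF] at hx'
    rw [mul_smul, hx'.1]
    exact hg.onP x hx

end good

end Quad

section final

variable {T Ξ : Type*} [Group T] [Finite T] [MulAction T Ξ]

omit [Group T] [Finite T] [MulAction T Ξ] in
theorem pigeon2 {a b x y z : Ξ} (hx : x = a ∨ x = b) (hy : y = a ∨ y = b) (hz : z = a ∨ z = b)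
    (hxy : x ≠ y) (hxz : x ≠ z) : y = z := by
  rcases hx with rfl | rfl <;> rcases hy with rfl | rfl <;> rcases hz with rfl | rfl <;> simp_all

omit [Finite T] in
/-- two elements agreeing on at least five points are equal -/
theorem eq_of_agree [Fintype Ξ] [DecidableEq Ξ]
    (htriv : ∀ (g : T) (x : Fin 5 ↪ Ξ), (∀ i, g • x i = x i) → g = 1)
    (s : Finset Ξ) (hs : 5 ≤ s.card) {a b : T} (h : ∀ x ∈ s, a • x = b • x) : a = b := by
  obtain ⟨f, hf⟩ := Function.Embedding.exists_of_card_le_finset (α := Fin 5) (s := s)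
    (by simp only [Fintype.card_fin]; exact hs)
  have : a⁻¹ * b = 1 := by
    apply htriv _ f
    intro i
    have hm : f i ∈ s := by
      apply hf
      exact Set.mem_range_self i
    rw [mul_smul, ← h _ hm, inv_smul_smul]
  rw [inv_mul_eq_one] at this
  exact this

/-- **Hall-type lemma (H4).** A 4-transitive group in which no involution fixes four points and
only the identity fixes five points has degree at most 11. -/
theorem four_trans_bound [Finite Ξ] (h4 : IsMultiplyPretransitive T Ξ 4)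
    (hodd : ∀ (g : T) (x : Fin 4 ↪ Ξ), (∀ i, g • x i = x i) → g ^ 2 = 1 → g = 1)
    (htriv : ∀ (g : T) (x : Fin 5 ↪ Ξ), (∀ i, g • x i = x i) → g = 1) :
    Nat.card Ξ ≤ 11 := by
  classical
  have : Fintype Ξ := Fintype.ofFinite Ξ
  rw [Nat.card_eq_fintype_card]
  by_contra hcon
  push Not at hcon
  have hcard : 7 ≤ Fintype.card Ξ := by omega
  obtain ⟨x⟩ : Nonempty (Fin 4 ↪ Ξ) := by
    apply Function.Embedding.nonempty_of_card_le
    simp only [Fintype.card_fin]; omega
  obtain ⟨c⟩ := exists_quad h4 hodd x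
  have hU := c.card_U_le hodd
  -- two free points in different orbits
  have hcompl : 5 ≤ (c.Uᶜ).card := by
    rw [Finset.card_compl]; omega
  obtain ⟨w, hw⟩ : (c.Uᶜ).Nonempty := by
    rw [← Finset.card_pos]; omega
  rw [Finset.mem_compl] at hw
  set O : Finset Ξ := {w, c.t • w, c.u • w, c.v • w} with hO
  have hOcard : O.card ≤ 4 := by
    rw [hO]
    exact Finset.card_le_four
  obtain ⟨w', hw'⟩ : (c.Uᶜ \ O).Nonempty := by
    rw [← Finset.card_pos]
    have := Finset.le_card_sdiff O (c.Uᶜ)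
    omega
  rw [Finset.mem_sdiff, Finset.mem_compl] at hw'
  obtain ⟨hw'U, hw'O⟩ := hw'
  have hnot : ¬ c.InOrb w w' := by
    intro h
    apply hw'O
    rw [hO]
    simp only [Finset.mem_insert, Finset.mem_singleton]
    exact h
  have hnot' : ¬ c.InOrb w' w := fun h => hnot (c.inOrb_symm h)
  obtain ⟨e, he1, he2, he3, he4⟩ := c.exists_e h4 hodd hcard hw
  obtain ⟨e', he1', he2', he3', he4'⟩ := c.exists_e h4 hodd hcard hw'U
  have hE : c.IsE e w := ⟨he1, he2, he3, he4⟩
  have hE' : c.IsE e' w' := ⟨he1', he2', he3', he4'⟩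
  have hG := hE.good h4 hodd hcard hw
  have hG' := hE'.good h4 hodd hcard hw'U
  have hGt := hG.mul_t he2
  -- `e'` does not stabilise the orbit of `w`
  have hkey := hE'.not_inOrb h4 hodd hcard hw'U hw hnot'
  have hcard6 : 5 ≤ (c.B ∪ c.P).card := by
    have hdisj : Disjoint c.B c.P := by
      apply Finset.disjoint_of_subset_right _ c.B_disj
      intro y hy
      rw [Quad.P, Finset.mem_sdiff] at hy
      exact hy.1
    rw [Finset.card_union_of_disjoint hdisj, c.card_B, c.card_P h4 hodd hcard]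
    norm_num
  by_cases h3 : e • c.p3 = e' • c.p3
  · have := eq_of_agree htriv _ hcard6 (hG.agree h4 hodd hcard hG' h3)
    apply hkey
    rw [← this, he4]
    right; left; rfl
  · have hinj := MulAction.injective (α := T) (β := Ξ) e
    have hne : e • c.p3 ≠ e • c.p4 := fun h => c.h34 (hinj h)
    have h3' : (e * c.t) • c.p3 = e' • c.p3 := by
      rw [mul_smul, c.t3]
      exact pigeon2 hG.p3 hG.p4 hG'.p3 hne h3
    have := eq_of_agree htriv _ hcard6 (hGt.agree h4 hodd hcard hG' h3')
    apply hkey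
    rw [← this, mul_smul, hE.smul_tw]
    left; rfl

end final

end Cfsg.Agent.Lib.Helper8.LW
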