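import Mathlib

/-!
# Witt's lemma for Sylow subgroups of point stabilisers, and the group induced by the normaliser
on the fixed points
-/

set_option autoImplicit false

namespace Cfsg.Agent.Lib.Helper8.LW747

open MulAction Equiv

variable {α : Type*} [Fintype α] [DecidableEq α]

/-- conjugacy of two subgroups of Sylow order inside a subgroup `K` of `Perm α` -/
theorem sylow_conj_in (K P P' : Subgroup (Perm α)) {p : ℕ} [Fact p.Prime] (hP : P ≤ K)
    (hP' : P' ≤ K) (hc : Nat.card P = p ^ (Nat.card K).factorization p)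
    (hc' : Nat.card P' = p ^ (Nat.card K).factorization p) :
    ∃ h ∈ K, ∀ q, q ∈ P' ↔ h⁻¹ * q * h ∈ P := by
  have e1 : Nat.card (P.subgroupOf K) = Nat.card P :=
    Nat.card_congr (Subgroup.subgroupOfEquivOfLe hP).toEquiv
  have e2 : Nat.card (P'.subgroupOf K) = Nat.card P' :=
    Nat.card_congr (Subgroup.subgroupOfEquivOfLe hP').toEquiv
  let S : Sylow p K := Sylow.ofCard (P.subgroupOf K) (by rw [e1, hc])
  let S' : Sylow p K := Sylow.ofCard (P'.subgroupOf K) (by rw [e2, hc'])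
  obtain ⟨h, hh⟩ := MulAction.exists_smul_eq K S S'
  refine ⟨h.1, h.2, ?_⟩
  intro q
  constructor
  · intro hq
    have hqK : q ∈ K := hP' hq
    have h1 : (⟨q, hqK⟩ : K) ∈ (S' : Subgroup K) := by
      show (⟨q, hqK⟩ : K) ∈ P'.subgroupOf K
      rw [Subgroup.mem_subgroupOf]; exact hq
    rw [← hh, Sylow.coe_subgroup_smul, Subgroup.mem_smul_pointwise_iff_exists] at h1
    obtain ⟨s, hs, hs2⟩ := h1
    have hs' : (s : Perm α) ∈ P := by
      have : s ∈ P.subgroupOf K := hs
      rwa [Subgroup.mem_subgroupOf] at this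
    have h3 : (h : Perm α) * (s : Perm α) * (h : Perm α)⁻¹ = q := by
      have := congrArg (fun z : K => (z : Perm α)) hs2
      simpa [MulAut.smul_def] using this
    rw [← h3]
    have : (h : Perm α)⁻¹ * ((h : Perm α) * (s : Perm α) * (h : Perm α)⁻¹) * (h : Perm α)
        = (s : Perm α) := by group
    rw [this]; exact hs'
  · intro hq
    have hqK : h.1⁻¹ * q * h.1 ∈ K := hP hq
    have hqK' : q ∈ K := by
      have := K.mul_mem (K.mul_mem h.2 hqK) (K.inv_mem h.2)
      have e : (h.1 * (h.1⁻¹ * q * h.1) * h.1⁻¹) = q := by group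
      rwa [e] at this
    have h1 : (⟨h.1⁻¹ * q * h.1, hqK⟩ : K) ∈ (S : Subgroup K) := by
      show (⟨h.1⁻¹ * q * h.1, hqK⟩ : K) ∈ P.subgroupOf K
      rw [Subgroup.mem_subgroupOf]; exact hq
    have h2 : (⟨q, hqK'⟩ : K) ∈ ((h • S : Sylow p K) : Subgroup K) := by
      rw [Sylow.coe_subgroup_smul, Subgroup.mem_smul_pointwise_iff_exists]
      refine ⟨⟨h.1⁻¹ * q * h.1, hqK⟩, h1, ?_⟩
      apply Subtype.ext
      have e : (h.1 * (h.1⁻¹ * q * h.1) * h.1⁻¹) = q := by group
      simpa [MulAut.smul_def] using e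
    rw [hh] at h2
    have h3 : (⟨q, hqK'⟩ : K) ∈ P'.subgroupOf K := h2
    rwa [Subgroup.mem_subgroupOf] at h3

omit [Fintype α] [DecidableEq α] in
theorem apply_inv_self' (f : Perm α) (x : α) : f (f⁻¹ x) = x := f.apply_symm_apply x

omit [Fintype α] [DecidableEq α] in
theorem inv_apply_self' (f : Perm α) (x : α) : f⁻¹ (f x) = x := f.symm_apply_apply x

/-- the pointwise stabiliser in `G` of a set, as a subgroup of `Perm α` -/
def fixP (G : Subgroup (Perm α)) (S : Set α) : Subgroup (Perm α) :=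
  (fixingSubgroup G S).map G.subtype

omit [Fintype α] [DecidableEq α] in
theorem mem_fixP {G : Subgroup (Perm α)} {S : Set α} {g : Perm α} :
    g ∈ fixP G S ↔ g ∈ G ∧ ∀ x ∈ S, g x = x := by
  unfold fixP
  rw [Subgroup.mem_map]
  constructor
  · rintro ⟨h, hh, rfl⟩
    refine ⟨h.2, fun x hx => ?_⟩
    have := (mem_fixingSubgroup_iff G).mp hh x hx
    simpa [Subgroup.smul_def] using this
  · rintro ⟨hg, hx⟩
    refine ⟨⟨g, hg⟩, ?_, rfl⟩
    rw [mem_fixingSubgroup_iff]
    intro x hxS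
    simpa [Subgroup.smul_def] using hx x hxS

omit [Fintype α] [DecidableEq α] in
theorem card_fixP (G : Subgroup (Perm α)) (S : Set α) :
    Nat.card (fixP G S) = Nat.card (fixingSubgroup G S) := by
  unfold fixP
  exact Subgroup.card_map_of_injective G.subtype_injective

omit [DecidableEq α] in
/-- a subgroup of Sylow order in a pointwise stabiliser is a maximal `p`-subgroup of it -/
theorem eq_of_card_sylow (G P : Subgroup (Perm α)) (S : Set α) (p : ℕ) [Fact p.Prime]
    (hsyl : Nat.card P = p ^ (Nat.card (fixingSubgroup G S)).factorization p)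
    (R : Subgroup (Perm α)) (hR : IsPGroup p R) (hPR : P ≤ R) (hRG : R ≤ G)
    (hRS : ∀ r ∈ R, ∀ x ∈ S, r x = x) : R = P := by
  have hRK : R ≤ fixP G S := fun r hr => mem_fixP.mpr ⟨hRG hr, hRS r hr⟩
  have hdvd : Nat.card R ∣ Nat.card (fixP G S) := Subgroup.card_dvd_of_le hRK
  rw [card_fixP] at hdvd
  obtain ⟨m, hm⟩ := hR.exists_card_eq
  rw [hm] at hdvd
  have hle : m ≤ (Nat.card (fixingSubgroup G S)).factorization p :=
    (Nat.Prime.pow_dvd_iff_le_factorization (Fact.out : p.Prime) Nat.card_pos.ne').mp hdvd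
  have hcard : Nat.card R ≤ Nat.card P := by
    rw [hm, hsyl]
    exact Nat.pow_le_pow_right (Fact.out : p.Prime).pos hle
  exact (Subgroup.eq_of_le_of_card_ge hPR hcard).symm

/-- **Witt's lemma**: if `P` is a Sylow `p`-subgroup of the pointwise stabiliser of the image of
`y`, `G` is `t`-transitive and `x, y` are `t`-tuples of fixed points of `P`, then some element
of `N_G(P)` maps `x` to `y`. -/
theorem witt_exists (G P : Subgroup (Perm α)) (hPG : P ≤ G) (p : ℕ) [Fact p.Prime] (t : ℕ)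
    (hG : IsMultiplyPretransitive G α t) (x y : Fin t ↪ α)
    (hx : ∀ i, ∀ q ∈ P, q (x i) = x i) (hy : ∀ i, ∀ q ∈ P, q (y i) = y i)
    (hsyl : Nat.card P = p ^ (Nat.card (fixingSubgroup G (Set.range y))).factorization p) :
    ∃ n ∈ G, n ∈ Subgroup.normalizer (P : Set (Perm α)) ∧ ∀ i, n (x i) = y i := by
  obtain ⟨g, hg⟩ := exists_smul_eq G x y
  have hgi : ∀ i, (g : Perm α) (x i) = y i := by
    intro i
    have := DFunLike.congr_fun hg i
    simpa [Subgroup.smul_def] using this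
  -- the conjugate `g P g⁻¹`
  let P' : Subgroup (Perm α) := P.map (MulAut.conj (g : Perm α)).toMonoidHom
  have hP'mem : ∀ q, q ∈ P' ↔ (g : Perm α)⁻¹ * q * (g : Perm α) ∈ P := by
    intro q
    constructor
    · rintro ⟨r, hr, rfl⟩
      have : (g : Perm α)⁻¹ * ((MulAut.conj (g : Perm α)).toMonoidHom r) * (g : Perm α) = r := by
        simp only [MulEquiv.coe_toMonoidHom, MulAut.conj_apply]
        group
      rw [this]; exact hr
    · intro hq
      refine ⟨(g : Perm α)⁻¹ * q * (g : Perm α), hq, ?_⟩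
      simp [MulAut.conj_apply]
      group
  have hcardP' : Nat.card P' = Nat.card P :=
    Subgroup.card_map_of_injective (MulAut.conj (g : Perm α)).injective
  have hPK : P ≤ fixP G (Set.range y) := by
    intro q hq
    refine mem_fixP.mpr ⟨hPG hq, ?_⟩
    rintro _ ⟨i, rfl⟩
    exact hy i q hq
  have hP'K : P' ≤ fixP G (Set.range y) := by
    intro q hq
    rw [hP'mem] at hq
    have hqG : q ∈ G := by
      have := G.mul_mem (G.mul_mem g.2 (hPG hq)) (G.inv_mem g.2)
      have e : ((g : Perm α) * ((g : Perm α)⁻¹ * q * (g : Perm α)) * (g : Perm α)⁻¹) = q := by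
        group
      rwa [e] at this
    refine mem_fixP.mpr ⟨hqG, ?_⟩
    rintro _ ⟨i, rfl⟩
    have h1 := hx i _ hq
    rw [Perm.mul_apply, Perm.mul_apply, hgi i] at h1
    -- g⁻¹ (q (y i)) = x i
    have h2 := congrArg (g : Perm α) h1
    rw [apply_inv_self', hgi i] at h2
    exact h2
  have hc : Nat.card P = p ^ (Nat.card (fixP G (Set.range y))).factorization p := by
    rw [card_fixP]; exact hsyl
  obtain ⟨h, hhK, hh⟩ := sylow_conj_in (fixP G (Set.range y)) P P' hPK hP'K hc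
    (by rw [hcardP']; exact hc)
  obtain ⟨hhG, hhfix⟩ := mem_fixP.mp hhK
  refine ⟨h⁻¹ * (g : Perm α), G.mul_mem (G.inv_mem hhG) g.2, ?_, ?_⟩
  · rw [Subgroup.mem_normalizer_iff]
    intro q
    have e : h⁻¹ * (g : Perm α) * q * (h⁻¹ * (g : Perm α))⁻¹
        = h⁻¹ * ((g : Perm α) * q * (g : Perm α)⁻¹) * h := by group
    rw [e, ← hh, hP'mem]
    have e2 : (g : Perm α)⁻¹ * ((g : Perm α) * q * (g : Perm α)⁻¹) * (g : Perm α) = q := by group
    rw [e2]
  · intro i
    rw [Perm.mul_apply, hgi i]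
    have := hhfix (y i) ⟨i, rfl⟩
    rw [Perm.inv_eq_iff_eq]; exact this.symm

/-- the group induced on `Φ` by the elements of `G` normalising `P` (meant for `Φ = Fix P`) -/
def normImage (G P : Subgroup (Perm α)) (Φ : Finset α) : Subgroup (Perm ↥Φ) where
  carrier := {σ | ∃ g ∈ G, g ∈ Subgroup.normalizer (P : Set (Perm α)) ∧ ∀ x : ↥Φ, g (x : α) = σ x}
  mul_mem' := by
    rintro σ τ ⟨g, hg, hgn, hgσ⟩ ⟨h, hh, hhn, hhτ⟩
    refine ⟨g * h, G.mul_mem hg hh, Subgroup.mul_mem _ hgn hhn, fun x => ?_⟩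
    rw [Perm.mul_apply, hhτ, hgσ, Perm.mul_apply]
  one_mem' := ⟨1, G.one_mem, Subgroup.one_mem _, fun x => rfl⟩
  inv_mem' := by
    rintro σ ⟨g, hg, hgn, hgσ⟩
    refine ⟨g⁻¹, G.inv_mem hg, Subgroup.inv_mem _ hgn, fun x => ?_⟩
    have := hgσ (σ⁻¹ x)
    rw [apply_inv_self'] at this
    rw [Perm.inv_eq_iff_eq]; exact this.symm

omit [Fintype α] [DecidableEq α] in
theorem mem_normImage {G P : Subgroup (Perm α)} {Φ : Finset α} {σ : Perm ↥Φ} :
    σ ∈ normImage G P Φ ↔
      ∃ g ∈ G, g ∈ Subgroup.normalizer (P : Set (Perm α)) ∧ ∀ x : ↥Φ, g (x : α) = σ x :=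
  Iff.rfl

omit [Fintype α] [DecidableEq α] in
/-- an element normalising `P` preserves the fixed point set of `P` -/
theorem normalizer_maps_fix (P : Subgroup (Perm α)) (Φ : Finset α)
    (hΦ : ∀ x, x ∈ Φ ↔ ∀ q ∈ P, q x = x) (g : Perm α)
    (hg : g ∈ Subgroup.normalizer (P : Set (Perm α))) (x : α) : g x ∈ Φ ↔ x ∈ Φ := by
  rw [hΦ, hΦ]
  constructor
  · intro h q hq
    have hq' : g * q * g⁻¹ ∈ P := (Subgroup.mem_normalizer_iff.mp hg q).mp hq
    have := h _ hq'
    simp only [Perm.mul_apply, inv_apply_self'] at this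
    exact g.injective this
  · intro h q hq
    have hq' : g⁻¹ * q * g ∈ P := (Subgroup.mem_normalizer_iff''.mp hg q).mp hq
    have := h _ hq'
    simp only [Perm.mul_apply] at this
    have h2 := congrArg g this
    rwa [apply_inv_self'] at h2

/-- every element of `N_G(P)` induces an element of `normImage` -/
theorem exists_normImage_of_mem (G P : Subgroup (Perm α)) (Φ : Finset α)
    (hΦ : ∀ x, x ∈ Φ ↔ ∀ q ∈ P, q x = x) (g : Perm α) (hgG : g ∈ G)
    (hg : g ∈ Subgroup.normalizer (P : Set (Perm α))) :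
    ∃ σ ∈ normImage G P Φ, ∀ x : ↥Φ, g (x : α) = σ x :=
  ⟨Perm.subtypePerm g (normalizer_maps_fix P Φ hΦ g hg), ⟨g, hgG, hg, fun _ => rfl⟩,
    fun _ => rfl⟩

/-- **Witt**: the group induced by `N_G(P)` on `Fix P` is `t`-transitive. -/
theorem normImage_pretransitive (G P : Subgroup (Perm α)) (hPG : P ≤ G) (Φ : Finset α)
    (hΦ : ∀ x, x ∈ Φ ↔ ∀ q ∈ P, q x = x) (p : ℕ) [Fact p.Prime] (t : ℕ)
    (hG : IsMultiplyPretransitive G α t)
    (hsyl : ∀ S : Finset α, S ⊆ Φ → S.card = t →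
      Nat.card P = p ^ (Nat.card (fixingSubgroup G (S : Set α))).factorization p) :
    IsMultiplyPretransitive (normImage G P Φ) ↥Φ t := by
  refine ⟨fun x y => ?_⟩
  let x' : Fin t ↪ α := x.trans (Function.Embedding.subtype _)
  let y' : Fin t ↪ α := y.trans (Function.Embedding.subtype _)
  have hx' : ∀ i, ∀ q ∈ P, q (x' i) = x' i := fun i q hq => (hΦ _).mp (x i).2 q hq
  have hy' : ∀ i, ∀ q ∈ P, q (y' i) = y' i := fun i q hq => (hΦ _).mp (y i).2 q hq
  have hS : Nat.card P = p ^ (Nat.card (fixingSubgroup G (Set.range y'))).factorization p := by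
    have := hsyl (Finset.univ.map y') ?_ ?_
    · simpa using this
    · intro a ha
      rw [Finset.mem_map] at ha
      obtain ⟨i, _, rfl⟩ := ha
      exact (y i).2
    · simp
  obtain ⟨n, hnG, hnN, hn⟩ := witt_exists G P hPG p t hG x' y' hx' hy' hS
  obtain ⟨σ, hσ, hσn⟩ := exists_normImage_of_mem G P Φ hΦ n hnG hnN
  refine ⟨⟨σ, hσ⟩, ?_⟩
  ext i
  have h1 := hσn (x i)
  have h2 := hn i
  show ((σ (x i) : ↥Φ) : α) = y i
  rw [← h1]
  exact h2

/-- elements of `normImage` of order at most two fixing `t` points are trivial, when `P` is a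
Sylow `2`-subgroup of every `t`-point stabiliser of points of `Fix P`. -/
theorem normImage_noInv (G P : Subgroup (Perm α)) (hPG : P ≤ G) (Φ : Finset α)
    (hΦ : ∀ x, x ∈ Φ ↔ ∀ q ∈ P, q x = x) (t : ℕ)
    (hsyl : ∀ S : Finset α, S ⊆ Φ → S.card = t →
      Nat.card P = 2 ^ (Nat.card (fixingSubgroup G (S : Set α))).factorization 2)
    (σ : normImage G P Φ) (x : Fin t ↪ ↥Φ) (hx : ∀ i, σ • x i = x i) (hσ : σ ^ 2 = 1) :
    σ = 1 := by
  have : Fact (Nat.Prime 2) := ⟨Nat.prime_two⟩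
  obtain ⟨g, hgG, hgN, hg⟩ := mem_normImage.mp σ.2
  -- the odd part of the order of `g`
  obtain ⟨a, b, hb, hab⟩ := Nat.exists_eq_two_pow_mul_odd (orderOf_pos g).ne'
  set g' : Perm α := g ^ b with hg'
  have hg'G : g' ∈ G := G.pow_mem hgG b
  have hg'N : g' ∈ Subgroup.normalizer (P : Set (Perm α)) := Subgroup.pow_mem _ hgN b
  -- `g'` induces `σ ^ b = σ`
  have hσb : (σ : Perm ↥Φ) ^ b = σ := by
    obtain ⟨c, rfl⟩ := hb
    have h2 : (σ : Perm ↥Φ) ^ 2 = 1 := by
      have := congrArg (fun z : normImage G P Φ => (z : Perm ↥Φ)) hσ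
      simpa using this
    rw [pow_succ, pow_mul, h2, one_pow, one_mul]
  have hpow : ∀ (m : ℕ) (z : ↥Φ), (g ^ m) (z : α) = ((σ : Perm ↥Φ) ^ m) z := by
    intro m
    induction m with
    | zero => intro z; simp
    | succ m ih =>
      intro z
      rw [pow_succ, pow_succ, Perm.mul_apply, Perm.mul_apply, hg, ih]
  have hg'σ : ∀ z : ↥Φ, g' (z : α) = (σ : Perm ↥Φ) z := by
    intro z
    rw [hg', hpow, hσb]
  -- `g'` is a 2-element
  have hg'2 : IsPGroup 2 (Subgroup.zpowers g') := by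
    rw [IsPGroup.iff_card, Nat.card_zpowers]
    refine ⟨a, ?_⟩
    rw [hg', orderOf_pow' g (by rintro rfl; simp at hb), hab]
    have : Nat.gcd (2 ^ a * b) b = b := Nat.gcd_eq_right (Dvd.intro_left _ rfl)
    rw [this, Nat.mul_div_cancel _ (Nat.pos_of_ne_zero (by rintro rfl; simp at hb))]
  -- the set of the `t` points
  let S : Finset α := Finset.univ.map (x.trans (Function.Embedding.subtype _))
  have hSΦ : S ⊆ Φ := by
    intro a ha
    rw [Finset.mem_map] at ha
    obtain ⟨i, _, rfl⟩ := ha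
    exact (x i).2
  have hScard : S.card = t := by simp [S]
  have hP2 : IsPGroup 2 P := by
    rw [IsPGroup.iff_card]
    exact ⟨_, hsyl S hSΦ hScard⟩
  have hR : IsPGroup 2 (Subgroup.zpowers g' ⊔ P : Subgroup (Perm α)) :=
    IsPGroup.to_sup_of_normal_right' hg'2 hP2 (by
      rw [Subgroup.zpowers_le]; exact hg'N)
  have hRP : (Subgroup.zpowers g' ⊔ P : Subgroup (Perm α)) = P := by
    refine eq_of_card_sylow G P (S : Set α) 2 (hsyl S hSΦ hScard) _ hR le_sup_right ?_ ?_
    · rw [sup_le_iff, Subgroup.zpowers_le]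
      exact ⟨hg'G, hPG⟩
    · -- everything in the join fixes `S` pointwise
      have hle : (Subgroup.zpowers g' ⊔ P : Subgroup (Perm α)) ≤ fixP ⊤ (S : Set α) := by
        rw [sup_le_iff, Subgroup.zpowers_le]
        constructor
        · refine mem_fixP.mpr ⟨Subgroup.mem_top _, ?_⟩
          intro z hz
          rw [Finset.mem_coe, Finset.mem_map] at hz
          obtain ⟨i, _, rfl⟩ := hz
          show g' ((x i : ↥Φ) : α) = ((x i : ↥Φ) : α)
          rw [hg'σ]
          have := hx i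
          exact congrArg Subtype.val this
        · intro q hq
          refine mem_fixP.mpr ⟨Subgroup.mem_top _, ?_⟩
          intro z hz
          exact (hΦ z).mp (hSΦ hz) q hq
      intro r hr z hz
      exact (mem_fixP.mp (hle hr)).2 z hz
  have hg'P : g' ∈ P := by
    rw [← hRP]
    exact (le_sup_left : Subgroup.zpowers g' ≤ _) (Subgroup.mem_zpowers g')
  apply Subtype.ext
  ext z
  show (((σ : Perm ↥Φ) z : ↥Φ) : α) = ((1 : Perm ↥Φ) z : ↥Φ)
  rw [← hg'σ z]
  exact (hΦ z).mp z.2 g' hg'P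

end Cfsg.Agent.Lib.Helper8.LW747
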