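import Cfsg.Agent.Lib.Helper8.AltPresentation
import Cfsg.Agent.Lib.Helper6.SimpDC
import Cfsg.Agent.Lib.Helper6.T3Gen

/-!
# A criterion for a non-split double cover of the alternating group of degree 8

A group of order 40320 with a central involution `z` which is a commutator, and six elements that satisfy the
relations of Carmichael modulo `z`, is a non-split double cover of the alternating group of degree 8.
-/

set_option autoImplicit false

namespace Cfsg.Agent.Lib.Helper8.DCoverA8

open scoped commutatorElement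

variable {C : Type*} [Group C]

theorem mem_zpowers_of {z x : C} (h : x = 1 ∨ x = z) : x ∈ Subgroup.zpowers z := by
  rcases h with h | h
  · rw [h]; exact one_mem _
  · rw [h]; exact Subgroup.mem_zpowers z

theorem eq_of_mem_zpowers {z x : C} (hz2 : z * z = 1) (h : x ∈ Subgroup.zpowers z) : x = 1 ∨ x = z := by
  obtain ⟨k, rfl⟩ := Subgroup.mem_zpowers_iff.1 h
  have hk : k = 2 * (k / 2) + k % 2 := (Int.mul_ediv_add_emod k 2).symm
  have h2 : z ^ (2 : ℤ) = 1 := by
    rw [zpow_ofNat, pow_two, hz2]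
  rw [hk, zpow_add, zpow_mul, h2, one_zpow, one_mul]
  rcases Int.emod_two_eq_zero_or_one k with h | h
  · left; rw [h, zpow_zero]
  · right; rw [h, zpow_one]

theorem nonsplit_of_carmichael [Finite C] (z : C) (hz : ∀ c : C, c * z = z * c) (hz2 : z * z = 1)
    (hzne : z ≠ 1) (hcard : Nat.card C = 40320) (y : ℕ → C)
    (h0 : y 0 ^ 3 = 1 ∨ y 0 ^ 3 = z)
    (h1 : ∀ i, 1 ≤ i → i ≤ 5 → (y i ^ 2 = 1 ∨ y i ^ 2 = z))
    (h2 : ∀ i, i + 1 ≤ 5 → ((y i * y (i + 1)) ^ 3 = 1 ∨ (y i * y (i + 1)) ^ 3 = z))
    (h3 : ∀ i j, i + 1 < j → j ≤ 5 → ((y i * y j) ^ 2 = 1 ∨ (y i * y j) ^ 2 = z))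
    (hne : y 0 ≠ 1 ∧ y 0 ≠ z) (a b : C) (hab : ⁅a, b⁆ = z) :
    Cfsg.IsNonsplitDoubleCover C (alternatingGroup (Fin 8)) := by
  classical
  set Z : Subgroup C := Subgroup.zpowers z with hZ
  have hZn : Z.Normal := by
    constructor
    intro n hn g
    have hc : g * n = n * g := by
      rcases eq_of_mem_zpowers hz2 hn with rfl | rfl
      · rw [mul_one, one_mul]
      · exact hz g
    rw [hc, mul_assoc, mul_inv_cancel, mul_one]
    exact hn
  have hordz : orderOf z = 2 := by
    haveI : Fact (Nat.Prime 2) := ⟨Nat.prime_two⟩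
    exact orderOf_eq_prime (by rw [pow_two]; exact hz2) hzne
  have hcardZ : Nat.card Z = 2 := by
    rw [hZ, Nat.card_zpowers, hordz]
  have hcardQ : Nat.card (C ⧸ Z) = 20160 := by
    have h := Subgroup.card_eq_card_quotient_mul_card_subgroup Z
    rw [hcard, hcardZ] at h
    omega
  have hmk : ∀ x : C, (x = 1 ∨ x = z) → ((x : C ⧸ Z) = 1) := fun x hx =>
    (QuotientGroup.eq_one_iff x).2 (mem_zpowers_of hx)
  obtain ⟨e⟩ := Cfsg.Agent.Lib.Helper8.AltPresentation.iso_of_gens (Q := C ⧸ Z) 5 (by norm_num)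
    (fun i => ((y i : C) : C ⧸ Z))
    (by rw [← QuotientGroup.mk_pow]; exact hmk _ h0)
    (fun i hi1 hi5 => by rw [← QuotientGroup.mk_pow]; exact hmk _ (h1 i hi1 hi5))
    (fun i hi => by rw [← QuotientGroup.mk_mul, ← QuotientGroup.mk_pow]; exact hmk _ (h2 i hi))
    (fun i j hij hj => by rw [← QuotientGroup.mk_mul, ← QuotientGroup.mk_pow]; exact hmk _ (h3 i j hij hj))
    (by
      intro h
      rcases eq_of_mem_zpowers hz2 ((QuotientGroup.eq_one_iff (y 0)).1 h) with h' | h'
      · exact hne.1 h'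
      · exact hne.2 h')
    (by rw [hcardQ]; decide)
  have e8 : C ⧸ Z ≃* alternatingGroup (Fin 8) := e
  set π : C →* alternatingGroup (Fin 8) := e8.toMonoidHom.comp (QuotientGroup.mk' Z) with hπ
  have hsurj : Function.Surjective π := e8.surjective.comp (QuotientGroup.mk'_surjective Z)
  have hker : π.ker = Z := by
    ext x
    rw [MonoidHom.mem_ker, hπ, MonoidHom.comp_apply]
    constructor
    · intro h
      have : (QuotientGroup.mk' Z) x = 1 := e8.injective (by rw [map_one]; exact h)
      exact (QuotientGroup.eq_one_iff x).1 this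
    · intro h
      have : (QuotientGroup.mk' Z) x = 1 := (QuotientGroup.eq_one_iff x).2 h
      rw [this]
      exact map_one _
  have hcardA : Nat.card (alternatingGroup (Fin 8)) = 20160 := by
    rw [← Nat.card_congr e8.toEquiv, hcardQ]
  have hsimple : IsSimpleGroup (alternatingGroup (Fin 8)) :=
    alternatingGroup.isSimpleGroup (by rw [Nat.card_eq_fintype_card, Fintype.card_fin]; norm_num)
  have hcen : Subgroup.center (alternatingGroup (Fin 8)) = ⊥ := by
    apply Cfsg.Agent.Lib.Helper6.T3Gen.center_eq_bot_of_simple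
    rw [hcardA]
    norm_num
  refine Cfsg.Agent.Lib.Helper6.Simp.isNonsplitDoubleCover_of_card π hsurj (by rw [hcard, hcardA]) hcen ?_
  intro L hL
  have hLn : L.Normal := Subgroup.normal_of_index_eq_two hL
  -- the quotient by `L` is commutative, so `L` contains the commutators
  have hzL : z ∈ L := by
    have hcq : Nat.card (C ⧸ L) = 2 := by rw [← Subgroup.index_eq_card]; exact hL
    haveI : Fact (Nat.Prime 2) := ⟨Nat.prime_two⟩
    have hcyc : IsCyclic (C ⧸ L) := isCyclic_of_prime_card hcq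
    have hcomm : ∀ u v : C ⧸ L, u * v = v * u := fun u v => hcyc.commGroup.mul_comm u v
    rw [← hab, ← QuotientGroup.eq_one_iff, commutatorElement_def, QuotientGroup.mk_mul, QuotientGroup.mk_mul,
      QuotientGroup.mk_mul, QuotientGroup.mk_inv, QuotientGroup.mk_inv, hcomm (a : C ⧸ L) (b : C ⧸ L)]
    group
  have hZL : Z ≤ L := by
    rw [hZ, Subgroup.zpowers_le]
    exact hzL
  have hidx : (L.map π).index = 2 := by
    rw [Subgroup.index_map, hker, sup_eq_left.2 hZL, MonoidHom.range_eq_top.2 hsurj, Subgroup.index_top, mul_one]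
    exact hL
  have hMn : (L.map π).Normal := Subgroup.normal_of_index_eq_two hidx
  rcases hsimple.eq_bot_or_eq_top_of_normal (L.map π) hMn with h | h
  · rw [h, Subgroup.index_bot, hcardA] at hidx
    omega
  · rw [h, Subgroup.index_top] at hidx
    omega

end Cfsg.Agent.Lib.Helper8.DCoverA8
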