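import Cfsg.Agent.Lib.Helper8.McLCent
import Cfsg.Agent.Lib.Helper8.DCoverA8

/-!
# The involutions of the McLaughlin group

All involutions are conjugate, and the centraliser of an involution is a non-split double cover of the alternating
group of degree 8.
-/

set_option autoImplicit false

namespace Cfsg.Agent.Lib.Helper8.McLCent

open Cfsg Cfsg.Agent.McLP Cfsg.Agent.J3O Cfsg.Agent.PG
open scoped commutatorElement

/-! ### counting a class -/

theorem card_conj_class {G : Type*} [Group G] [Finite G] (z : G) :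
    (MulAction.orbit (ConjAct G) z).ncard * Nat.card (Subgroup.centralizer ({z} : Set G)) = Nat.card G := by
  have h1 := MulAction.index_stabilizer (ConjAct G) z
  have h2 := Subgroup.card_mul_index (MulAction.stabilizer (ConjAct G) z)
  have h3 : Nat.card (Subgroup.centralizer ({z} : Set G)) = Nat.card (MulAction.stabilizer (ConjAct G) z) := by
    rw [Subgroup.centralizer_eq_comap_stabilizer]
    exact Nat.card_congr
      { toFun := fun x => ⟨ConjAct.toConjAct x.1, x.2⟩
        invFun := fun y => ⟨ConjAct.ofConjAct y.1, y.2⟩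
        left_inv := fun _ => rfl
        right_inv := fun _ => rfl }
  have h4 : Nat.card (ConjAct G) = Nat.card G := rfl
  rw [h3, ← h1, mul_comm, h2, h4]

/-! ### the elements of `H` -/

theorem z1_memH : z1.1 ∈ H := mem_H_of_comm z1 rfl

/-- the involution, in `H` -/
noncomputable def zH : ↥H := ⟨z1.1, z1_memH⟩

theorem enc_zH : enc 275 zH.1 = cz := enc_zs.1

theorem eqH_of_code {x y : ↥H} (h : enc 275 x.1 = enc 275 y.1) : x = y :=
  Subtype.ext (enc_injective n_le h)

theorem enc_mulH (x y : ↥H) : enc 275 (x * y).1 = pmul 275 (enc 275 x.1) (enc 275 y.1) := by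
  rw [Subgroup.coe_mul, pmul_enc n_le]

theorem enc_oneH : enc 275 (1 : ↥H).1 = pone 275 := by
  rw [Subgroup.coe_one, pone_eq]

theorem zH_central (c : ↥H) : c * zH = zH * c := by
  have h := H_le_cent c.2
  rw [Subgroup.mem_centralizer_iff] at h
  exact Subtype.ext (h z1.1 rfl).symm

theorem zH_sq : zH * zH = 1 := by
  apply Subtype.ext
  have h := z1_sq
  rw [pow_two] at h
  have h' : (z1 * z1 : ↥P).1 = (1 : ↥P).1 := congrArg Subtype.val h
  exact h'

theorem zH_ne : zH ≠ 1 := by
  intro h
  apply z1_ne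
  apply Subtype.ext
  have h' : (zH : ↥H).1 = (1 : ↥H).1 := congrArg Subtype.val h
  exact h'

/-- the six elements, and their inverses -/
noncomputable def yH (k : ℕ) : ↥H := regH slpY (idxY.getD k 0)

theorem getD_map_of_lt {α β : Type*} (f : α → β) (l : List α) (k : ℕ) (hk : k < l.length) (a : α) (b : β) :
    (l.map f).getD k b = f (l.getD k a) := by
  rw [List.getD_eq_getElem _ _ (by rwa [List.length_map]), List.getD_eq_getElem _ _ hk, List.getElem_map]

set_option maxRecDepth 100000 in
theorem enc_yH (k : ℕ) (hk : k < 12) : enc 275 (yH k).1 = cy.getD k 0 := by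
  have h := chk_ys
  rw [runK_eq] at h
  have hlen : k < idxY.length := by rw [chk_idxY]; exact hk
  have e := getD_map_of_lt (fun i => (run 275 slpY [cc2i, cc2, cc1i, cc1]).getD i (pone 275)) idxY k hlen 0 0
  rw [h] at e
  rw [yH, enc_regH, e]

/-- the function of the codes -/
def yc (k : ℕ) : ℕ := cy.getD k 0

theorem rels : relsOK yc = true := chk_rels

theorem pow_three_eq (x : ↥H) : enc 275 (x ^ 3).1 = pmul 275 (enc 275 x.1) (pmul 275 (enc 275 x.1) (enc 275 x.1)) := by
  rw [pow_succ', pow_two, enc_mulH, enc_mulH]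

theorem pow_two_eq (x : ↥H) : enc 275 (x ^ 2).1 = pmul 275 (enc 275 x.1) (enc 275 x.1) := by
  rw [pow_two, enc_mulH]

theorem one_or_z {x : ↥H} (h : (enc 275 x.1 == pone 275) = true ∨ (enc 275 x.1 == cz) = true) :
    x = 1 ∨ x = zH := by
  rcases h with h | h
  · left
    apply eqH_of_code
    rw [beq_iff_eq] at h
    rw [h, enc_oneH]
  · right
    apply eqH_of_code
    rw [beq_iff_eq] at h
    rw [h, enc_zH]

/-- **the centraliser of `z1` is a non-split double cover of the alternating group of degree 8** -/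
theorem nonsplit_H : Cfsg.IsNonsplitDoubleCover ↥H (alternatingGroup (Fin 8)) := by
  have hfin : Finite ↥H := Nat.finite_of_card_ne_zero (by rw [card_H]; norm_num)
  have hr := rels
  rw [relsOK, Bool.and_eq_true, Bool.and_eq_true, Bool.and_eq_true, Bool.and_eq_true, Bool.and_eq_true,
    Bool.and_eq_true, Bool.and_eq_true] at hr
  obtain ⟨⟨⟨⟨⟨⟨⟨r0, r1⟩, r2⟩, r3⟩, r4⟩, r5⟩, r6⟩, r7⟩ := hr
  rw [List.all_eq_true] at r1 r2 r3 r4
  have ey : ∀ k, k < 12 → enc 275 (yH k).1 = yc k := enc_yH
  refine Cfsg.Agent.Lib.Helper8.DCoverA8.nonsplit_of_carmichael zH zH_central zH_sq zH_ne card_H yH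
    ?_ ?_ ?_ ?_ ?_ (yH 1) (yH 3) ?_
  · left
    apply eqH_of_code
    rw [pow_three_eq, ey 0 (by norm_num), enc_oneH]
    exact beq_iff_eq.1 r0
  · intro i hi1 hi5
    right
    apply eqH_of_code
    have h := r1 (i - 1) (List.mem_range.2 (by omega))
    have e : i - 1 + 1 = i := by omega
    rw [e] at h
    rw [pow_two_eq, ey i (by omega), enc_zH]
    exact beq_iff_eq.1 h
  · intro i hi
    have h := r2 i (List.mem_range.2 (by omega))
    rw [Bool.or_eq_true] at h
    apply one_or_z
    rw [pow_three_eq, enc_mulH, ey i (by omega), ey (i + 1) (by omega)]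
    exact h
  · intro i j hij hj
    have h := r3 i (List.mem_range.2 (by omega))
    rw [List.all_eq_true] at h
    have h' := h j (List.mem_range.2 (by omega))
    rw [Bool.or_eq_true, Bool.or_eq_true] at h'
    rcases h' with h' | h'
    · rw [Bool.not_eq_true', decide_eq_false_iff_not] at h'
      exact absurd hij h'
    · apply one_or_z
      rw [pow_two_eq, enc_mulH, ey i (by omega), ey j (by omega)]
      exact h'
  · constructor
    · intro h
      rw [Bool.not_eq_true', beq_eq_false_iff_ne] at r6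
      apply r6
      rw [← ey 0 (by norm_num), h, enc_oneH]
    · intro h
      rw [Bool.not_eq_true', beq_eq_false_iff_ne] at r7
      apply r7
      rw [← ey 0 (by norm_num), h, enc_zH]
  · -- the commutator
    have i1 : yH 7 = (yH 1)⁻¹ := by
      apply eq_inv_of_mul_eq_one_right
      apply eqH_of_code
      have h := r4 1 (List.mem_range.2 (by norm_num))
      rw [enc_mulH, ey 1 (by norm_num), ey 7 (by norm_num), enc_oneH]
      exact beq_iff_eq.1 h
    have i3 : yH 9 = (yH 3)⁻¹ := by
      apply eq_inv_of_mul_eq_one_right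
      apply eqH_of_code
      have h := r4 3 (List.mem_range.2 (by norm_num))
      rw [enc_mulH, ey 3 (by norm_num), ey 9 (by norm_num), enc_oneH]
      exact beq_iff_eq.1 h
    have e : ⁅yH 1, yH 3⁆ = (yH 1 * yH 3) * (yH 7 * yH 9) := by
      rw [commutatorElement_def, i1, i3]
      group
    rw [e]
    apply eqH_of_code
    rw [enc_mulH, enc_mulH, enc_mulH, ey 1 (by norm_num), ey 3 (by norm_num), ey 7 (by norm_num),
      ey 9 (by norm_num), enc_zH]
    exact beq_iff_eq.1 r5

/-! ### one class of involutions -/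

theorem card_centralizer_z1 : Nat.card (Subgroup.centralizer ({z1} : Set ↥P)) = 40320 := by
  have h : (Subgroup.centralizer ({z1} : Set ↥P)).map P.subtype = H := by
    ext g
    constructor
    · rintro ⟨x, hx, rfl⟩
      rw [SetLike.mem_coe, Subgroup.mem_centralizer_iff] at hx
      exact mem_H_of_comm x (hx z1 rfl).symm
    · intro hg
      refine ⟨⟨g, H_le hg⟩, ?_, rfl⟩
      rw [SetLike.mem_coe, Subgroup.mem_centralizer_iff]
      intro h hh
      rw [Set.mem_singleton_iff] at hh
      subst hh
      have h2 := H_le_cent hg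
      rw [Subgroup.mem_centralizer_iff] at h2
      exact Subtype.ext (h2 z1.1 rfl)
  rw [← card_H, ← h]
  exact (Subgroup.card_map_of_injective P.subtype_injective).symm

theorem card_class : (MulAction.orbit (ConjAct ↥P) z1).ncard = 22275 := by
  have h := card_conj_class z1
  rw [card_centralizer_z1, card_P] at h
  exact Nat.eq_of_mul_eq_mul_right (show 0 < 40320 by norm_num) (h.trans (by norm_num))

/-- the involutions -/
def Inv : Set ↥P := {y | y ^ 2 = 1 ∧ y ≠ 1}

theorem ncard_Inv_le : Inv.ncard ≤ 22275 := by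
  have hF : ((filterFL mclForest cond1).toFinset).card ≤ 22275 := le_trans (List.toFinset_card_le _) chk_n1
  have hmaps : ∀ y ∈ Inv, enc 275 y.1 ∈ (((filterFL mclForest cond1).toFinset : Finset ℕ) : Set ℕ) := by
    intro y hy
    rw [Finset.mem_coe, List.mem_toFinset]
    exact mem_filterFL (inv_in_forest y hy.1 hy.2) rfl
  have hinj : Set.InjOn (fun y : ↥P => enc 275 y.1) Inv := by
    intro x _ y _ h
    exact Subtype.ext (enc_injective n_le h)
  have h := Set.ncard_le_ncard_of_injOn (fun y : ↥P => enc 275 y.1) hmaps hinj (Finset.finite_toSet _)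
  rw [Set.ncard_coe_finset] at h
  exact le_trans h hF

theorem orbit_subset : MulAction.orbit (ConjAct ↥P) z1 ⊆ Inv := by
  intro y hy
  rw [ConjAct.mem_orbit_conjAct] at hy
  obtain ⟨c, hc⟩ := isConj_iff.1 hy
  have hz : z1 * z1 = 1 := by rw [← pow_two]; exact z1_sq
  have e : y = c⁻¹ * z1 * c := by rw [← hc]; group
  constructor
  · rw [e, pow_two]
    calc c⁻¹ * z1 * c * (c⁻¹ * z1 * c) = c⁻¹ * (z1 * z1) * c := by group
      _ = 1 := by rw [hz]; group
  · intro h1
    apply z1_ne
    rw [← hc, h1]
    group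

theorem orbit_eq : MulAction.orbit (ConjAct ↥P) z1 = Inv := by
  apply Set.eq_of_subset_of_ncard_le orbit_subset _ (Set.toFinite _)
  rw [card_class]
  exact ncard_Inv_le

theorem isConj_z1 (y : ↥P) (hy : orderOf y = 2) : IsConj y z1 := by
  have h : y ∈ Inv := by
    constructor
    · rw [← hy]
      exact pow_orderOf_eq_one y
    · intro h1
      rw [h1, orderOf_one] at hy
      omega
  rw [← orbit_eq] at h
  exact ConjAct.mem_orbit_conjAct.1 h

theorem isConj_P (x y : ↥P) (hx : orderOf x = 2) (hy : orderOf y = 2) : IsConj x y :=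
  (isConj_z1 x hx).trans (isConj_z1 y hy).symm

/-! ### the statement for the McLaughlin group -/

theorem orderOf_z1 : orderOf z1 = 2 := by
  haveI : Fact (Nat.Prime 2) := ⟨Nat.prime_two⟩
  exact orderOf_eq_prime z1_sq z1_ne

theorem cent_comm (x : ↥(Subgroup.centralizer ({mclEquiv.symm z1} : Set ↥Cfsg.Spor.McL))) :
    mclEquiv x.1 * z1 = z1 * mclEquiv x.1 := by
  have h := x.2
  rw [Subgroup.mem_centralizer_iff] at h
  have h2 := congrArg mclEquiv (h _ rfl)
  rw [map_mul, map_mul, MulEquiv.apply_symm_apply] at h2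
  exact h2.symm

/-- the homomorphism from the centraliser of the involution of the McLaughlin group to `H` -/
noncomputable def centHom :
    ↥(Subgroup.centralizer ({mclEquiv.symm z1} : Set ↥Cfsg.Spor.McL)) →* ↥H where
  toFun x := ⟨(mclEquiv x.1).1, mem_H_of_comm (mclEquiv x.1) (cent_comm x)⟩
  map_one' := by
    apply Subtype.ext
    show (mclEquiv ((1 : ↥(Subgroup.centralizer ({mclEquiv.symm z1} : Set ↥Cfsg.Spor.McL))) : ↥Cfsg.Spor.McL)).1 = 1
    rw [Subgroup.coe_one, map_one, Subgroup.coe_one]
  map_mul' := by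
    intro x y
    apply Subtype.ext
    show (mclEquiv ((x * y : ↥(Subgroup.centralizer ({mclEquiv.symm z1} : Set ↥Cfsg.Spor.McL))) : ↥Cfsg.Spor.McL)).1 =
      (mclEquiv x.1).1 * (mclEquiv y.1).1
    rw [Subgroup.coe_mul, map_mul, Subgroup.coe_mul]

theorem centHom_bijective : Function.Bijective centHom := by
  constructor
  · intro x y hxy
    have h0 : (centHom x).1 = (centHom y).1 := congrArg Subtype.val hxy
    have h1 : (mclEquiv x.1).1 = (mclEquiv y.1).1 := h0
    exact Subtype.ext (mclEquiv.injective (Subtype.ext h1))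
  · intro g
    have hg : (⟨g.1, H_le g.2⟩ : ↥P) * z1 = z1 * ⟨g.1, H_le g.2⟩ := by
      have h2 := H_le_cent g.2
      rw [Subgroup.mem_centralizer_iff] at h2
      exact Subtype.ext (h2 z1.1 rfl).symm
    refine ⟨⟨mclEquiv.symm ⟨g.1, H_le g.2⟩, ?_⟩, ?_⟩
    · rw [Subgroup.mem_centralizer_iff]
      intro h hh
      rw [Set.mem_singleton_iff] at hh
      subst hh
      rw [← map_mul, ← map_mul, hg]
    · apply Subtype.ext
      show (mclEquiv (mclEquiv.symm ⟨g.1, H_le g.2⟩)).1 = g.1
      rw [MulEquiv.apply_symm_apply]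

/-- the centraliser of the involution of the McLaughlin group that corresponds to `z1` is isomorphic to `H` -/
noncomputable def centEquiv :
    ↥(Subgroup.centralizer ({mclEquiv.symm z1} : Set ↥Cfsg.Spor.McL)) ≃* ↥H :=
  MulEquiv.ofBijective centHom centHom_bijective

/-- **the involutions of the McLaughlin group**: one class, with a centraliser that is a non-split double cover of the
alternating group of degree 8 -/
theorem mcl_involutions : (∀ x y : ↥Cfsg.Spor.McL, orderOf x = 2 → orderOf y = 2 → IsConj x y) ∧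
    ∃ t : ↥Cfsg.Spor.McL, orderOf t = 2 ∧
      Cfsg.IsNonsplitDoubleCover ↥(Subgroup.centralizer ({t} : Set ↥Cfsg.Spor.McL)) ↥(alternatingGroup (Fin 8)) := by
  constructor
  · intro x y hx hy
    have h := isConj_P (mclEquiv x) (mclEquiv y) (by rw [MulEquiv.orderOf_eq]; exact hx)
      (by rw [MulEquiv.orderOf_eq]; exact hy)
    obtain ⟨c, hc⟩ := isConj_iff.1 h
    refine isConj_iff.2 ⟨mclEquiv.symm c, ?_⟩
    apply mclEquiv.injective
    rw [map_mul, map_mul, map_inv, MulEquiv.apply_symm_apply]
    exact hc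
  · refine ⟨mclEquiv.symm z1, ?_, ?_⟩
    · rw [MulEquiv.orderOf_eq]
      exact orderOf_z1
    · have hfin : Finite ↥H := Nat.finite_of_card_ne_zero (by rw [card_H]; norm_num)
      exact Cfsg.Agent.Lib.Helper6.T3Gen.isNonsplitDoubleCover_of_equiv centEquiv.symm nonsplit_H

end Cfsg.Agent.Lib.Helper8.McLCent
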