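import Cfsg.Agent.Lib.Helper8.McLCentData
import Cfsg.Agent.Lib.Lead.McL.OutData
import Cfsg.Agent.Lib.Lead.PG.Tight

/-! # The McLaughlin group on 275 points: kernel checks for the centraliser of an involution -/

set_option autoImplicit false
set_option maxRecDepth 100000

namespace Cfsg.Agent.Lib.Helper8.McLCent

open Cfsg.Agent.McLP Cfsg.Agent.J3O Cfsg.Agent.PG

theorem chk_cs : runK 275 slpC [cbi, cb, cai, ca] (fun R => idxC.map fun i => R.getD i (pone 275)) =
    [cc1, cc2, cc1i, cc2i] := by decide +kernel

theorem chk_idxC : idxC.length = 4 := by decide +kernel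

theorem chk_comm : pmul 275 cc1 cz = pmul 275 cz cc1 ∧ pmul 275 cc2 cz = pmul 275 cz cc2 ∧
    pmul 275 cc1 cc1i = pone 275 ∧ pmul 275 cc2 cc2i = pone 275 := by decide +kernel

theorem chk_chainH : runK 275 chainHProg [cc2i, cc2, cc1i, cc1] (fun regs =>
    chainOK 275 [] chainHBase (chainHIdx.map fun l => l.map fun i => regs.getD i (pone 275))) = true := by
  decide +kernel

theorem chk_prodH : (chainHIdx.map List.length).prod = 40320 := by decide +kernel

theorem chk_chainT : runK 275 chainTProg [cbi, cb, cai, ca] (fun regs =>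
    chainOK 275 [] chainTBase (chainTIdx.map fun l => l.map fun i => regs.getD i (pone 275)) &&
    Nat.ble (centBound cz chainTBase (chainTIdx.map fun l => l.map fun i => regs.getD i (pone 275))) 40320) =
    true := by
  decide +kernel

theorem chk_prodT : (chainTIdx.map List.length).prod = 898128000 := by decide +kernel

theorem chk_ys : runK 275 slpY [cc2i, cc2, cc1i, cc1] (fun R => idxY.map fun i => R.getD i (pone 275)) = cy := by
  decide +kernel

theorem chk_idxY : idxY.length = 12 := by decide +kernel

/-- the relations of Carmichael modulo the centre, on the codes -/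
def relsOK (y : ℕ → ℕ) : Bool :=
  (pmul 275 (y 0) (pmul 275 (y 0) (y 0)) == pone 275) &&
  ((List.range 5).all fun i => pmul 275 (y (i + 1)) (y (i + 1)) == cz) &&
  ((List.range 5).all fun i =>
    (pmul 275 (pmul 275 (y i) (y (i + 1))) (pmul 275 (pmul 275 (y i) (y (i + 1))) (pmul 275 (y i) (y (i + 1)))) ==
      pone 275) ||
    (pmul 275 (pmul 275 (y i) (y (i + 1))) (pmul 275 (pmul 275 (y i) (y (i + 1))) (pmul 275 (y i) (y (i + 1)))) ==
      cz)) &&
  ((List.range 6).all fun i => (List.range 6).all fun j => !(decide (i + 1 < j)) ||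
    ((pmul 275 (pmul 275 (y i) (y j)) (pmul 275 (y i) (y j)) == pone 275) ||
     (pmul 275 (pmul 275 (y i) (y j)) (pmul 275 (y i) (y j)) == cz))) &&
  ((List.range 6).all fun i => pmul 275 (y i) (y (i + 6)) == pone 275) &&
  (pmul 275 (pmul 275 (y 1) (y 3)) (pmul 275 (y 7) (y 9)) == cz) &&
  (!(y 0 == pone 275)) && (!(y 0 == cz))

theorem chk_rels : relsOK (fun i => cy.getD i 0) = true := by decide +kernel

end Cfsg.Agent.Lib.Helper8.McLCent
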