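import Mathlib
import Cfsg.Prelude.Def_SporadicCombinatorics

/-!
Monomial automorphisms of a linear code (author: helper8): composition and inverses of
`Cfsg.monomialMap`, the group of permutation parts, and the count
`|Aut| = |permutation parts| * |diagonal automorphisms|`.
-/

set_option autoImplicit false

namespace Cfsg.Agent.Lib.Helper8.MonomialAut

open Cfsg

variable {α : Type*} {F : Type*} [Field F]

theorem mm_apply (σ : Equiv.Perm α) (c : α → Fˣ) (x : α → F) (i : α) :
    monomialMap σ c x i = (c i : F) * x (σ.symm i) := rfl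

theorem mm_add (σ : Equiv.Perm α) (c : α → Fˣ) (x y : α → F) :
    monomialMap σ c (x + y) = monomialMap σ c x + monomialMap σ c y := by
  funext i; simp [mm_apply, mul_add]

theorem mm_sub (σ : Equiv.Perm α) (c : α → Fˣ) (x y : α → F) :
    monomialMap σ c (x - y) = monomialMap σ c x - monomialMap σ c y := by
  funext i; simp [mm_apply, mul_sub]

theorem mm_comp (σ τ : Equiv.Perm α) (c d : α → Fˣ) (x : α → F) :
    monomialMap σ c (monomialMap τ d x) = monomialMap (σ * τ) (fun i => c i * d (σ.symm i)) x := by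
  funext i
  simp only [mm_apply, Units.val_mul]
  rw [mul_assoc]
  rfl

theorem mm_one (x : α → F) : monomialMap (1 : Equiv.Perm α) (1 : α → Fˣ) x = x := by
  funext i
  have h1 : (Equiv.symm (1 : Equiv.Perm α)) i = i := rfl
  simp [mm_apply, h1]

theorem mm_injective (σ : Equiv.Perm α) (c : α → Fˣ) : Function.Injective (monomialMap (F := F) σ c) := by
  intro x y h
  funext j
  have := congrFun h (σ j)
  simp only [mm_apply, Equiv.symm_apply_apply] at this
  exact mul_left_cancel₀ (Units.ne_zero _) this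

/-- the inverse sign vector -/
def invC (σ : Equiv.Perm α) (c : α → Fˣ) : α → Fˣ := fun i => (c (σ i))⁻¹

theorem mm_inv_left (σ : Equiv.Perm α) (c : α → Fˣ) (x : α → F) :
    monomialMap σ⁻¹ (invC σ c) (monomialMap σ c x) = x := by
  funext i
  simp only [mm_apply, invC]
  have h1 : (σ⁻¹ : Equiv.Perm α).symm i = σ i := rfl
  rw [h1, Equiv.symm_apply_apply, ← mul_assoc, ← Units.val_mul, inv_mul_cancel, Units.val_one, one_mul]

variable (C : Submodule F (α → F))

/-- `(σ, c)` preserves the code -/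
def Pres (σ : Equiv.Perm α) (c : α → Fˣ) : Prop := ∀ x ∈ C, monomialMap σ c x ∈ C

variable {C}

theorem pres_surj [Finite ↥C] {σ : Equiv.Perm α} {c : α → Fˣ} (h : Pres C σ c) (x : α → F) (hx : x ∈ C) :
    ∃ y ∈ C, monomialMap σ c y = x := by
  let f : ↥C → ↥C := fun y => ⟨monomialMap σ c y.1, h y.1 y.2⟩
  have hf : Function.Injective f := by
    intro a b hab
    exact Subtype.ext (mm_injective σ c (congrArg Subtype.val hab))
  obtain ⟨y, hy⟩ := (Finite.injective_iff_surjective.mp hf) ⟨x, hx⟩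
  exact ⟨y.1, y.2, congrArg Subtype.val hy⟩

theorem pres_inv [Finite ↥C] {σ : Equiv.Perm α} {c : α → Fˣ} (h : Pres C σ c) :
    Pres C σ⁻¹ (invC σ c) := by
  intro x hx
  obtain ⟨y, hy, rfl⟩ := pres_surj h x hx
  rw [mm_inv_left]
  exact hy

theorem pres_mul {σ τ : Equiv.Perm α} {c d : α → Fˣ} (h1 : Pres C σ c) (h2 : Pres C τ d) :
    Pres C (σ * τ) (fun i => c i * d (σ.symm i)) := by
  intro x hx
  rw [← mm_comp]
  exact h1 _ (h2 x hx)

theorem pres_one : Pres C 1 (1 : α → Fˣ) := by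
  intro x hx
  rw [mm_one]; exact hx

/-- the permutation parts -/
def permParts (C : Submodule F (α → F)) : Set (Equiv.Perm α) := {σ | ∃ c, Pres C σ c}

/-- the diagonal automorphisms -/
def diagAuts (C : Submodule F (α → F)) : Set (α → Fˣ) := {d | Pres C 1 d}

theorem permParts_mul {σ τ : Equiv.Perm α} (h1 : σ ∈ permParts C) (h2 : τ ∈ permParts C) :
    σ * τ ∈ permParts C := by
  obtain ⟨c, hc⟩ := h1
  obtain ⟨d, hd⟩ := h2
  exact ⟨_, pres_mul hc hd⟩

theorem permParts_inv [Finite ↥C] {σ : Equiv.Perm α} (h1 : σ ∈ permParts C) : σ⁻¹ ∈ permParts C := by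
  obtain ⟨c, hc⟩ := h1
  exact ⟨_, pres_inv hc⟩

theorem permParts_one : (1 : Equiv.Perm α) ∈ permParts C := ⟨1, pres_one⟩

/-- the permutation parts as a subgroup -/
def permSubgroup (C : Submodule F (α → F)) [Finite ↥C] : Subgroup (Equiv.Perm α) where
  carrier := permParts C
  mul_mem' := permParts_mul
  one_mem' := permParts_one
  inv_mem' := permParts_inv

theorem pres_mul_diag [Finite ↥C] {σ : Equiv.Perm α} {c₀ : α → Fˣ} (h0 : Pres C σ c₀) (d : α → Fˣ) :
    Pres C σ (d * c₀) ↔ Pres C 1 d := by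
  have key : ∀ x, monomialMap (1 : Equiv.Perm α) d (monomialMap σ c₀ x) = monomialMap σ (d * c₀) x := by
    intro x
    rw [mm_comp]
    rfl
  constructor
  · intro h x hx
    obtain ⟨y, hy, rfl⟩ := pres_surj h0 x hx
    rw [key]
    exact h y hy
  · intro h x hx
    rw [← key]
    exact h _ (h0 x hx)

theorem card_aut [Finite ↥C] :
    Nat.card {f : Equiv.Perm α × (α → Fˣ) // ∀ x ∈ C, monomialMap f.1 f.2 x ∈ C} =
      Nat.card (permParts C) * Nat.card (diagAuts C) := by
  classical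
  have hch : ∀ σ : permParts C, ∃ c, Pres C σ.1 c := fun σ => σ.2
  choose c₀ hc₀ using hch
  let e : {f : Equiv.Perm α × (α → Fˣ) // ∀ x ∈ C, monomialMap f.1 f.2 x ∈ C} ≃
      (permParts C) × (diagAuts C) :=
    { toFun := fun f => (⟨f.1.1, ⟨f.1.2, f.2⟩⟩, ⟨f.1.2 * (c₀ ⟨f.1.1, ⟨f.1.2, f.2⟩⟩)⁻¹, by
        show Pres C 1 _
        rw [← pres_mul_diag (hc₀ ⟨f.1.1, ⟨f.1.2, f.2⟩⟩), inv_mul_cancel_right]
        exact f.2⟩)
      invFun := fun p => ⟨(p.1.1, p.2.1 * c₀ p.1), (pres_mul_diag (hc₀ p.1) p.2.1).2 p.2.2⟩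
      left_inv := by
        rintro ⟨⟨σ, c⟩, hf⟩
        apply Subtype.ext
        simp
      right_inv := by
        rintro ⟨⟨σ, hσ⟩, ⟨d, hd⟩⟩
        simp }
  rw [Nat.card_congr e, Nat.card_prod]

end Cfsg.Agent.Lib.Helper8.MonomialAut
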