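import Mathlib

/-!
Multiple transitivity from a levelwise transversal (author: helper8): if for each level `k < n`
and each point `y` distinct from the first `k` base points a subgroup `Q` contains an element
fixing the first `k` base points and moving the `k`-th base point to `y`, then `Q` maps the base
`n`-tuple onto every injective `n`-tuple.
-/

set_option autoImplicit false

namespace Cfsg.Agent.Lib.Helper8.Extend

theorem extend_aux {α : Type*} (Q : Subgroup (Equiv.Perm α)) (b : ℕ → α) (n : ℕ)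
    (hT : ∀ k < n, ∀ y, (∀ i < k, y ≠ b i) →
      ∃ τ ∈ Q, (∀ i < k, τ (b i) = b i) ∧ τ (b k) = y) :
    ∀ j ≤ n, ∀ t : ℕ → α, (∀ i < n, ∀ i' < n, t i = t i' → i = i') →
      (∀ i < n - j, t i = b i) → ∃ σ ∈ Q, ∀ i < n, σ (b i) = t i := by
  intro j
  induction j with
  | zero =>
    intro _ t _ ht
    exact ⟨1, Q.one_mem, fun i hi => by rw [Equiv.Perm.one_apply]; exact (ht i (by omega)).symm⟩
  | succ j ih =>
    intro hj t hinj ht
    have hk : n - (j + 1) < n := by omega
    obtain ⟨τ, hτQ, hτfix, hτk⟩ := hT (n - (j + 1)) hk (t (n - (j + 1))) (by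
      intro i hi h
      rw [← ht i hi] at h
      have := hinj _ hk _ (by omega) h
      omega)
    obtain ⟨σ', hσ'Q, hσ'⟩ := ih (by omega) (fun i => τ⁻¹ (t i)) (by
      intro i hi i' hi' h
      exact hinj i hi i' hi' (τ⁻¹.injective h)) (by
      intro i hi
      show τ⁻¹ (t i) = b i
      rw [Equiv.Perm.inv_eq_iff_eq]
      by_cases hik : i < n - (j + 1)
      · rw [hτfix i hik, ht i hik]
      · have : i = n - (j + 1) := by omega
        rw [this, hτk])
    refine ⟨τ * σ', Q.mul_mem hτQ hσ'Q, fun i hi => ?_⟩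
    rw [Equiv.Perm.mul_apply, hσ' i hi]
    exact τ.apply_symm_apply (t i)

/-- `n`-fold transitivity from a levelwise transversal -/
theorem extend {α : Type*} (Q : Subgroup (Equiv.Perm α)) (b : ℕ → α) (n : ℕ)
    (hT : ∀ k < n, ∀ y, (∀ i < k, y ≠ b i) →
      ∃ τ ∈ Q, (∀ i < k, τ (b i) = b i) ∧ τ (b k) = y)
    (t : ℕ → α) (hinj : ∀ i < n, ∀ i' < n, t i = t i' → i = i') :
    ∃ σ ∈ Q, ∀ i < n, σ (b i) = t i :=
  extend_aux Q b n hT n le_rfl t hinj (fun i hi => by omega)

end Cfsg.Agent.Lib.Helper8.Extend
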