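import Mathlib
import Cfsg.Prelude.Def_SporadicCombinatorics

/-!
The hexacode made explicit (author: helper8): a concrete four-element field `F4`, an
isomorphism from any four-element field carrying a chosen root `ω` of `x^2 + x + 1` to `F4`
mapping `ω` to `F4.w`, the parametrisation of the hexacode by `F4^3`, and a decidable
membership test (Hermitian parity checks).
-/

set_option autoImplicit false

namespace Cfsg.Agent.Lib.Helper8.Hexacode

open Cfsg

/-- the field with four elements `0, 1, ω, ω²` -/
inductive F4 : Type
  | z | o | w | v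
  deriving DecidableEq

namespace F4

/-- addition -/
def add : F4 → F4 → F4
  | z, b => b
  | o, z => o | o, o => z | o, w => v | o, v => w
  | w, z => w | w, o => v | w, w => z | w, v => o
  | v, z => v | v, o => w | v, w => o | v, v => z

/-- multiplication -/
def mul : F4 → F4 → F4
  | z, _ => z
  | o, b => b
  | w, z => z | w, o => w | w, w => v | w, v => o
  | v, z => z | v, o => v | v, w => o | v, v => w

/-- inverse -/
def inv : F4 → F4
  | z => z | o => o | w => v | v => w

instance instFintype : Fintype F4 :=
  ⟨⟨([z, o, w, v] : List F4), by decide⟩, fun x => by cases x <;> decide⟩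

instance instZero : Zero F4 := ⟨z⟩
instance instOne : One F4 := ⟨o⟩
instance instAdd : Add F4 := ⟨add⟩
instance instMul : Mul F4 := ⟨mul⟩
instance instNeg : Neg F4 := ⟨id⟩
instance instInv : Inv F4 := ⟨inv⟩

instance instCommRing : CommRing F4 where
  add_assoc := by decide
  zero_add := by decide
  add_zero := by decide
  add_comm := by decide
  neg_add_cancel := by decide
  left_distrib := by decide
  right_distrib := by decide
  zero_mul := by decide
  mul_zero := by decide
  mul_assoc := by decide
  one_mul := by decide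
  mul_one := by decide
  mul_comm := by decide
  nsmul := nsmulRec
  zsmul := zsmulRec

instance instField : Field F4 where
  exists_pair_ne := ⟨z, o, by decide⟩
  mul_inv_cancel := by decide
  inv_zero := rfl
  nnqsmul := _
  qsmul := _

theorem card : Fintype.card F4 = 4 := rfl

theorem zero_def : (0 : F4) = z := rfl
theorem one_def : (1 : F4) = o := rfl

/-- the Frobenius automorphism, swapping `w` and `v` -/
def conj : F4 ≃+* F4 where
  toFun := fun a => match a with | z => z | o => o | w => v | v => w
  invFun := fun a => match a with | z => z | o => o | w => v | v => w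
  left_inv := by decide
  right_inv := by decide
  map_mul' := by decide
  map_add' := by decide

theorem roots : ∀ a : F4, a ^ 2 + a + 1 = 0 → a = w ∨ a = v := by decide

end F4

/-- any four-element field with a root `ω` of `x² + x + 1` is isomorphic to `F4` with `ω ↦ w` -/
theorem exists_iso (F : Type*) [Field F] [Fintype F] (hF : Fintype.card F = 4) (ω : F)
    (hω : ω ^ 2 + ω + 1 = 0) : ∃ e : F ≃+* F4, e ω = F4.w := by
  let e₀ : F ≃+* F4 := FiniteField.ringEquivOfCardEq (K := F) (K' := F4) (by rw [hF, F4.card])
  have h : (e₀ ω) ^ 2 + e₀ ω + 1 = 0 := by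
    rw [← map_pow, ← map_add, ← map_one e₀, ← map_add, hω, map_zero]
  rcases F4.roots _ h with h1 | h1
  · exact ⟨e₀, h1⟩
  · refine ⟨e₀.trans F4.conj, ?_⟩
    rw [RingEquiv.trans_apply, h1]
    rfl

/-! ### transport of the hexacode along a ring isomorphism -/

theorem map_mem {K K' : Type*} [Field K] [Field K'] (e : K ≃+* K') (ω : K) (x : Fin 6 → K)
    (hx : x ∈ hexacode K ω) : (fun i => e (x i)) ∈ hexacode K' (e ω) := by
  unfold hexacode at hx ⊢
  rw [Submodule.mem_span_triple] at hx ⊢
  obtain ⟨a, b, c, rfl⟩ := hx
  refine ⟨e a, e b, e c, ?_⟩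
  funext i
  fin_cases i <;> simp [map_pow]

theorem map_mem_iff {K K' : Type*} [Field K] [Field K'] (e : K ≃+* K') (ω : K) (x : Fin 6 → K) :
    (fun i => e (x i)) ∈ hexacode K' (e ω) ↔ x ∈ hexacode K ω := by
  constructor
  · intro h
    have := map_mem e.symm (e ω) _ h
    simpa using this
  · exact map_mem e ω x

/-! ### the concrete hexacode -/

open F4

/-- the three spanning words -/
def vb : Fin 3 → Fin 6 → F4 := ![![w, v, v, w, v, w], ![v, w, w, v, v, w], ![v, w, v, w, w, v]]

/-- the word with coefficients `t` -/
def word (t : F4 × F4 × F4) : Fin 6 → F4 :=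
  fun i => t.1 * vb 0 i + t.2.1 * vb 1 i + t.2.2 * vb 2 i

theorem w_sq : (w : F4) ^ 2 = v := by decide

theorem mem_iff_word (y : Fin 6 → F4) : y ∈ hexacode F4 w ↔ ∃ t, word t = y := by
  unfold hexacode
  rw [Submodule.mem_span_triple, w_sq]
  constructor
  · rintro ⟨a, b, c, rfl⟩
    refine ⟨(a, b, c), ?_⟩
    funext i
    fin_cases i <;> rfl
  · rintro ⟨⟨a, b, c⟩, rfl⟩
    refine ⟨a, b, c, ?_⟩
    funext i
    fin_cases i <;> rfl

theorem word_zero : ∀ t : F4 × F4 × F4, word t = 0 → t = 0 := by decide +kernel

theorem word_sub (t t' : F4 × F4 × F4) : word (t - t') = word t - word t' := by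
  funext i
  simp only [word, Prod.fst_sub, Prod.snd_sub, Pi.sub_apply]
  ring

theorem word_injective : Function.Injective word := by
  intro t t' h
  have h1 : word (t - t') = 0 := by rw [word_sub, h, sub_self]
  exact sub_eq_zero.1 (word_zero _ h1)

/-- Hermitian parity checks -/
def IsHex (y : Fin 6 → F4) : Prop := ∀ k : Fin 3, ∑ i, y i * (vb k i) ^ 2 = 0

instance decIsHex (y : Fin 6 → F4) : Decidable (IsHex y) := by
  unfold IsHex; infer_instance

theorem isHex_word : ∀ t, IsHex (word t) := by decide +kernel

set_option maxRecDepth 100000 in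
theorem word_of_isHex : ∀ y0 y1 y2 y3 y4 y5 : F4, IsHex ![y0, y1, y2, y3, y4, y5] →
    ∃ t, word t = ![y0, y1, y2, y3, y4, y5] := by decide +kernel

theorem eq_vec (y : Fin 6 → F4) : y = ![y 0, y 1, y 2, y 3, y 4, y 5] := by
  funext i
  fin_cases i <;> rfl

theorem mem_iff_isHex (y : Fin 6 → F4) : y ∈ hexacode F4 w ↔ IsHex y := by
  rw [mem_iff_word]
  constructor
  · rintro ⟨t, rfl⟩
    exact isHex_word t
  · intro h
    rw [eq_vec y] at h ⊢
    exact word_of_isHex _ _ _ _ _ _ h

end Cfsg.Agent.Lib.Helper8.Hexacode
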