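import Mathlib
import Cfsg.Prelude.Def_Blocks
import Cfsg.Agent.S0907
import Cfsg.Agent.Lib.helper3.BlockBasic
import Cfsg.Agent.Lib.helper3.RankOne2
import Cfsg.Agent.Lib.helper3.AlgInt
import Cfsg.Agent.Lib.helper3.Lin
import Cfsg.Agent.Lib.helper3.LocalM3

/-! Brauer-style consequences of weak block orthogonality (helper8, for S0904 / S4500). -/

set_option autoImplicit false
set_option linter.style.haveILetI false
set_option linter.unusedSectionVars false
set_option linter.unusedVariables false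

namespace Cfsg.Agent.Lib.Helper8.Brauer

open Cfsg Cfsg.Agent.Lib.helper3.Block Cfsg.Agent.Lib.helper3.Irr Cfsg.Agent.Lib.helper3.Lin
open Cfsg.Agent.Lib.helper3.CharBasic
open scoped ComplexConjugate

variable {G : Type*} [Group G] [Finite G]

/-- the principal character as a member of `IrrCharacter G` -/
noncomputable def oneIrr (G : Type*) [Group G] [Finite G] : IrrCharacter G :=
  ⟨fun _ => 1, isIrrCharacter_one⟩

theorem oneIrr_mem_principalBlock {s : ℕ} (M : Ideal Cfsg.AlgInt) (hM : Cfsg.IsPModular s M) :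
    oneIrr G ∈ Cfsg.principalBlock M G :=
  sameBlock_refl hM.2.1.ne_top _

theorem isPBlock_principalBlock (M : Ideal Cfsg.AlgInt) :
    Cfsg.IsPBlock M (Cfsg.principalBlock M G) :=
  ⟨oneIrr G, rfl⟩

/-- **Weak orthogonality against the principal character.**  If `s ∣ orderOf x`, then it cannot
happen that every non-principal character `χ` of the principal `s`-block has degree divisible by
`t` or vanishes at `x` (`t ≠ 1`). -/
theorem weak_orth_contra (s : ℕ) [Fact s.Prime] (M : Ideal Cfsg.AlgInt)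
    (hM : Cfsg.IsPModular s M) (x : G) (hx : s ∣ orderOf x) (t : ℕ) (ht : t ≠ 1)
    (h : ∀ χ : IrrCharacter G, χ ∈ Cfsg.principalBlock M G → (χ : G → ℂ) ≠ (fun _ => 1) →
      t ∣ Cfsg.charDegree (χ : G → ℂ) ∨ (χ : G → ℂ) x = 0) : False := by
  classical
  letI : Fintype G := Fintype.ofFinite G
  have hs : s.Prime := Fact.out
  have h0 := Cfsg.Agent.S0907.result s M hM (Cfsg.principalBlock M G) (isPBlock_principalBlock M)
    (1 : G) x (by rw [orderOf_one]; exact hs.one_lt.ne' ∘ Nat.dvd_one.mp) hx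
  rw [finsum_mem_eq_sum_filter_irr] at h0
  set F := Finset.univ.filter (fun χ : IrrCharacter G => χ ∈ Cfsg.principalBlock M G) with hF
  have h1F : oneIrr G ∈ F := by
    rw [hF, Finset.mem_filter]
    exact ⟨Finset.mem_univ _, oneIrr_mem_principalBlock M hM⟩
  rw [← Finset.add_sum_erase F _ h1F] at h0
  -- the other terms
  have hterm : ∀ χ ∈ F.erase (oneIrr G), ∃ w : ℂ, IsIntegral ℤ w ∧
      (χ : G → ℂ) 1 * conj ((χ : G → ℂ) x) = (t : ℂ) * w := by
    intro χ hχ
    rw [Finset.mem_erase, hF, Finset.mem_filter] at hχ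
    obtain ⟨hne, -, hB⟩ := hχ
    have hne' : (χ : G → ℂ) ≠ fun _ => 1 := fun hh => hne (Subtype.ext hh)
    have hint : IsIntegral ℤ (conj ((χ : G → ℂ) x)) :=
      map_isIntegral_int (starRingEnd ℂ)
        (isIntegral_of_isCharacter (isCharacter_of_isIrrCharacter χ.2) x)
    rcases h χ hB hne' with ⟨c, hc⟩ | hz
    · refine ⟨(c : ℂ) * conj ((χ : G → ℂ) x), ?_, ?_⟩
      · exact (isIntegral_algebraMap (R := ℤ) (A := ℂ) (x := (c : ℤ))).mul hint |> fun hh => by
          simpa using hh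
      · rw [apply_one_eq_charDegree χ, hc]
        push_cast
        ring
    · refine ⟨0, isIntegral_zero, ?_⟩
      rw [hz, map_zero, mul_zero, mul_zero]
  choose! w hw using hterm
  have hsum : ∑ χ ∈ F.erase (oneIrr G), (χ : G → ℂ) 1 * conj ((χ : G → ℂ) x)
      = (t : ℂ) * ∑ χ ∈ F.erase (oneIrr G), w χ := by
    rw [Finset.mul_sum]
    exact Finset.sum_congr rfl (fun χ hχ => (hw χ hχ).2)
  rw [hsum] at h0
  have hW : IsIntegral ℤ (∑ χ ∈ F.erase (oneIrr G), w χ) :=
    IsIntegral.sum _ (fun χ hχ => (hw χ hχ).1)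
  have hone : ((oneIrr G : IrrCharacter G) : G → ℂ) 1 * conj (((oneIrr G : IrrCharacter G) : G → ℂ) x)
      = 1 := by
    show (1 : ℂ) * conj (1 : ℂ) = 1
    simp
  rw [hone] at h0
  have ht0 : (t : ℤ) ≠ 0 := by
    intro h00
    have ht0' : t = 0 := by exact_mod_cast h00
    rw [ht0'] at h0
    simp at h0
  have hdvd : (t : ℤ) ∣ (-1 : ℤ) := by
    apply Cfsg.Agent.Lib.helper3.AlgInt.int_dvd_of_eq_mul_isIntegral hW _ ht0
    push_cast
    linear_combination (-1 : ℂ) * h0
  have : (t : ℤ) ∣ 1 := (dvd_neg.mp hdvd)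
  have ht1 : t ∣ 1 := by exact_mod_cast this
  exact ht (Nat.dvd_one.mp ht1)

end Cfsg.Agent.Lib.Helper8.Brauer
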