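import Mathlib
import Cfsg.Prelude.Def_Blocks
import Cfsg.Agent.Lib.Helper8.BrauerA
import Cfsg.Agent.S0910
import Cfsg.Agent.Lib.helper3.DefectZero
import Cfsg.Agent.Lib.helper3.Degrees

/-! S0904 (helper8, after lead's note): in a simple group of order `p^a q^b r` a Sylow
`r`-subgroup is self-centralizing. -/

set_option autoImplicit false
set_option linter.style.haveILetI false
set_option linter.unusedSectionVars false
set_option linter.unusedVariables false

namespace Cfsg.Agent.Lib.Helper8.Brauer

open Cfsg Cfsg.Agent.Lib.helper3.Block Cfsg.Agent.Lib.helper3.Irr Cfsg.Agent.Lib.helper3.Lin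
open Cfsg.Agent.Lib.helper3.CharBasic Cfsg.Agent.Lib.helper3.LocalM Cfsg.Agent.Lib.helper3.Central
open Module
open scoped ComplexConjugate

variable {G : Type*} [Group G] [Finite G]

/-- Key lemma: no element of order `s` centralizes an element of order `r`. -/
theorem no_commuting_pair [IsSimpleGroup G] (hna : ∃ a b : G, a * b ≠ b * a)
    (s t r a' b' : ℕ) (hs : s.Prime) (ht : t.Prime) (hr : r.Prime) (hst : s ≠ t) (hsr : s ≠ r)
    (htr : t ≠ r) (hcard : Nat.card G = s ^ a' * t ^ b' * r) (g y : G) (hg : orderOf g = r)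
    (hy : orderOf y = s) (hyg : Commute y g) : False := by
  classical
  letI : Fintype G := Fintype.ofFinite G
  haveI : Fact s.Prime := ⟨hs⟩
  haveI : Fact r.Prime := ⟨hr⟩
  obtain ⟨M, hM⟩ := exists_isPModular s hs
  have hcop : (orderOf y).Coprime (orderOf g) := by
    rw [hy, hg]
    exact (Nat.coprime_primes hs hr).mpr hsr
  have hord : orderOf (y * g) = s * r := by
    rw [hyg.orderOf_mul_eq_mul_orderOf_of_coprime hcop, hy, hg]
  apply weak_orth_contra s M hM (y * g) (by rw [hord]; exact dvd_mul_right s r) t ht.one_lt.ne'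
  intro χ hχB hχ1
  obtain ⟨d, hd1, hdvd, hdpos⟩ := irr_degree_dvd_card χ.2
  rw [charDegree_eq hd1]
  by_cases htd : t ∣ d
  · exact Or.inl htd
  right
  have hdt : d.Coprime (t ^ b') :=
    Nat.Coprime.pow_right b' ((Nat.Prime.coprime_iff_not_dvd ht).mpr htd).symm
  have hd2 : d ∣ s ^ a' * r := by
    apply hdt.dvd_of_dvd_mul_right
    rw [hcard] at hdvd
    convert hdvd using 1
    ring
  by_cases hrd : r ∣ d
  · -- defect zero for `r`
    obtain ⟨m, ρ, hirr, hρ⟩ := χ.2
    haveI := hirr
    have hfin : finrank ℂ (Fin m → ℂ) = d := by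
      have := Representation.char_one ρ
      rw [hρ, hd1] at this
      exact_mod_cast this.symm
    have hr2 : ¬ r ^ (1 + 1) ∣ Nat.card G := by
      rw [hcard]
      intro hdiv
      have h1 : r * r ∣ (s ^ a' * t ^ b') * r := by
        rw [← pow_two]; exact hdiv
      have h2 : r ∣ s ^ a' * t ^ b' := (Nat.mul_dvd_mul_iff_right hr.pos).mp h1
      rcases (Nat.Prime.dvd_mul hr).mp h2 with h3 | h3
      · exact hsr ((Nat.prime_dvd_prime_iff_eq hr hs).mp (hr.dvd_of_dvd_pow h3)).symm
      · exact htr ((Nat.prime_dvd_prime_iff_eq hr ht).mp (hr.dvd_of_dvd_pow h3)).symm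
    have hz := Cfsg.Agent.Lib.helper3.BrauerInd.character_eq_zero_of_defect_zero ρ r 1 hr2
      (by rw [pow_one, hfin]; exact hrd) (y * g) (by rw [hord]; exact dvd_mul_left r s)
    rw [← hρ]
    exact hz
  · exfalso
    have hdr : d.Coprime r := ((Nat.Prime.coprime_iff_not_dvd hr).mpr hrd).symm
    have hd3 : d ∣ s ^ a' := hdr.dvd_of_dvd_mul_right hd2
    obtain ⟨i, -, hi⟩ := (Nat.dvd_prime_pow hs).mp hd3
    apply hχ1
    apply Cfsg.Agent.S0910.result s M hM hna χ hχB i
    rw [hd1, hi]
    push_cast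
    rfl

/-- S0904. -/
theorem s0904 [IsSimpleGroup G] (p q r a b : ℕ) (hp : p.Prime) (hq : q.Prime) [hr : Fact r.Prime]
    (hpq : p ≠ q) (hpr : p ≠ r) (hqr : q ≠ r) (hcard : Nat.card G = p ^ a * q ^ b * r)
    (S : Sylow r G) : Subgroup.centralizer (S : Set G) = (S : Subgroup G) := by
  classical
  have hr' : r.Prime := hr.out
  -- `|S| = r`
  have hfac : (Nat.card G).factorization r = 1 := by
    rw [hcard, Nat.factorization_mul
        (mul_ne_zero (pow_ne_zero _ hp.ne_zero) (pow_ne_zero _ hq.ne_zero)) hr'.ne_zero,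
      Nat.factorization_mul (pow_ne_zero _ hp.ne_zero) (pow_ne_zero _ hq.ne_zero)]
    simp only [Finsupp.coe_add, Pi.add_apply, Nat.factorization_pow, Finsupp.coe_smul,
      Pi.smul_apply, smul_eq_mul]
    rw [Nat.factorization_eq_zero_of_not_dvd
        (fun h => hpr ((Nat.prime_dvd_prime_iff_eq hr' hp).mp h).symm),
      Nat.factorization_eq_zero_of_not_dvd
        (fun h => hqr ((Nat.prime_dvd_prime_iff_eq hr' hq).mp h).symm),
      hr'.factorization_self]
    simp
  have hScard : Nat.card (S : Subgroup G) = r := by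
    rw [S.card_eq_multiplicity, hfac, pow_one]
  haveI hScyc : IsCyclic (S : Subgroup G) := isCyclic_of_prime_card hScard
  have hSle : (S : Subgroup G) ≤ Subgroup.centralizer ((S : Subgroup G) : Set G) :=
    Subgroup.le_centralizer_iff_isMulCommutative.mpr inferInstance
  by_cases hab : ∀ x y : G, x * y = y * x
  · -- abelian case
    letI : CommGroup G := { (inferInstance : Group G) with mul_comm := hab }
    have hprime : (Nat.card G).Prime := IsSimpleGroup.prime_card
    have hrG : r ∣ Nat.card G := by rw [hcard]; exact dvd_mul_left r _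
    have hGr : Nat.card G = r := ((Nat.prime_dvd_prime_iff_eq hr' hprime).mp hrG).symm
    have hStop : (S : Subgroup G) = ⊤ :=
      (Subgroup.card_eq_iff_eq_top _).mp (by rw [hScard, hGr])
    rw [hStop]
    rw [eq_top_iff]
    intro x _
    rw [Subgroup.mem_centralizer_iff]
    intro y _
    exact hab y x
  · push Not at hab
    obtain ⟨x₀, y₀, hxy⟩ := hab
    have hna : ∃ a b : G, a * b ≠ b * a := ⟨x₀, y₀, hxy⟩
    -- an element of order r in S
    obtain ⟨g, hg⟩ := exists_prime_orderOf_dvd_card' (G := ↥(S : Subgroup G)) r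
      (by rw [hScard])
    have hgo : orderOf (g : G) = r := by rw [Subgroup.orderOf_coe, hg]
    set C := Subgroup.centralizer ((S : Subgroup G) : Set G) with hC
    have key : ∀ (s t a' b' : ℕ), s.Prime → t.Prime → s ≠ t → s ≠ r → t ≠ r →
        Nat.card G = s ^ a' * t ^ b' * r → ¬ s ∣ Nat.card C := by
      intro s t a' b' hs ht hst hsr htr hc hsC
      haveI : Fact s.Prime := ⟨hs⟩
      obtain ⟨y, hy⟩ := exists_prime_orderOf_dvd_card' (G := ↥C) s hsC
      have hyo : orderOf (y : G) = s := by rw [Subgroup.orderOf_coe, hy]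
      have hcomm : Commute (y : G) (g : G) := by
        have := (Subgroup.mem_centralizer_iff.mp y.2) (g : G) g.2
        exact this.symm
      exact no_commuting_pair hna s t r a' b' hs ht hr' hst hsr htr hc (g : G) (y : G) hgo hyo hcomm
    have hpC := key p q a b hp hq hpq hpr hqr hcard
    have hqC := key q p b a hq hp hpq.symm hqr hpr (by rw [hcard]; ring)
    have hCdvd : Nat.card C ∣ p ^ a * q ^ b * r := by
      rw [← hcard]; exact Subgroup.card_subgroup_dvd_card C
    have hCp : (Nat.card C).Coprime (p ^ a) :=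
      Nat.Coprime.pow_right a ((Nat.Prime.coprime_iff_not_dvd hp).mpr hpC).symm
    have hCq : (Nat.card C).Coprime (q ^ b) :=
      Nat.Coprime.pow_right b ((Nat.Prime.coprime_iff_not_dvd hq).mpr hqC).symm
    have hCr : Nat.card C ∣ r := by
      have h1 : Nat.card C ∣ (p ^ a * q ^ b) * r := hCdvd
      have h2 : (Nat.card C).Coprime (p ^ a * q ^ b) := Nat.Coprime.mul_right hCp hCq
      exact h2.dvd_of_dvd_mul_left h1
    have hle : Nat.card C ≤ Nat.card (S : Subgroup G) := by
      rw [hScard]; exact Nat.le_of_dvd hr'.pos hCr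
    exact (Subgroup.eq_of_le_of_card_ge hSle hle).symm

end Cfsg.Agent.Lib.Helper8.Brauer
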