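import Mathlib
import Cfsg.Agent.Lib.Helper4.Simple
import Cfsg.Agent.Lib.Helper4.SylowPrime
import Cfsg.Agent.Lib.Helper5.O5040A

/-!
# The invariant-fixed-point-set trick for Sylow subgroups of prime order

Let `G` be a finite simple group, `P` a Sylow `p`-subgroup of order `p`, `n` the number of Sylow
`p`-subgroups.  An element `c` of prime order `q` centralizing `P` acts on the `n` cosets of `N(P)`
with a number `f` of fixed points such that `f ≡ 1 mod p` and `f ≡ n mod q` (`mod 4` when `q = 2`).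
If these congruences force `f = n`, then `c = 1`, a contradiction.
-/

set_option autoImplicit false
set_option linter.style.haveILetI false

namespace Cfsg.Agent.Lib.Helper8.SylKill

open MulAction Cfsg.Agent.Lib.Helper4.Simple Cfsg.Agent.Lib.Helper4.SylowPrime
  Cfsg.Agent.Lib.Helper5.O5040

variable {G : Type*} [Group G] [Finite G]

/-- If the `q`-part of `|N(P)|` does not divide `p - 1`, then `q` divides `|C(P)|`. -/
theorem prime_dvd_card_centralizer {p q : ℕ} [hp : Fact p.Prime] [hq : Fact q.Prime]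
    (P : Sylow p G) (hP : Nat.card (P : Subgroup G) = p) (k : ℕ)
    (hk : q ^ k ∣ Nat.card (Subgroup.normalizer ((P : Subgroup G) : Set G)))
    (hk' : ¬ q ^ k ∣ p - 1) :
    q ∣ Nat.card (Subgroup.centralizer ((P : Subgroup G) : Set G)) := by
  by_contra hq'
  have hcyc : IsCyclic (P : Subgroup G) := by
    haveI : Fact (Nat.card (P : Subgroup G)).Prime := ⟨by rw [hP]; exact hp.out⟩
    exact isCyclic_of_prime_card rfl
  have h1 := relIndex_centralizer_normalizer_dvd (P : Subgroup G)
  rw [hcyc.card_mulAut, hP, Nat.totient_prime hp.out] at h1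
  have hle : Subgroup.centralizer ((P : Subgroup G) : Set G)
      ≤ Subgroup.normalizer ((P : Subgroup G) : Set G) := Subgroup.centralizer_le_normalizer _
  have h2 : Nat.card (Subgroup.centralizer ((P : Subgroup G) : Set G)) *
      (Subgroup.centralizer ((P : Subgroup G) : Set G)).relIndex
        (Subgroup.normalizer ((P : Subgroup G) : Set G))
      = Nat.card (Subgroup.normalizer ((P : Subgroup G) : Set G)) := by
    have h3 := ((Subgroup.centralizer ((P : Subgroup G) : Set G)).subgroupOf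
      (Subgroup.normalizer ((P : Subgroup G) : Set G))).card_mul_index
    rw [← Subgroup.relIndex] at h3
    rw [← h3]
    congr 1
    exact (Nat.card_congr (Subgroup.subgroupOfEquivOfLe hle).toEquiv).symm
  have hcop : Nat.Coprime (q ^ k) (Nat.card (Subgroup.centralizer ((P : Subgroup G) : Set G))) :=
    Nat.Coprime.pow_left k ((Nat.Prime.coprime_iff_not_dvd hq.out).2 hq')
  rw [← h2] at hk
  have h3 : q ^ k ∣ (Subgroup.centralizer ((P : Subgroup G) : Set G)).relIndex
      (Subgroup.normalizer ((P : Subgroup G) : Set G)) := hcop.dvd_of_dvd_mul_left hk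
  exact hk' (h3.trans h1)

/-- An element of order `q` centralizing `P`. -/
theorem exists_centralizing {p q : ℕ} [hp : Fact p.Prime] [hq : Fact q.Prime]
    (P : Sylow p G) (hP : Nat.card (P : Subgroup G) = p) (k : ℕ)
    (hk : q ^ k ∣ Nat.card (Subgroup.normalizer ((P : Subgroup G) : Set G)))
    (hk' : ¬ q ^ k ∣ p - 1) :
    ∃ c : G, orderOf c = q ∧ ∀ x ∈ (P : Subgroup G), c * x = x * c := by
  have h := prime_dvd_card_centralizer P hP k hk hk'
  obtain ⟨c, hc⟩ := exists_prime_orderOf_dvd_card'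
    (G := Subgroup.centralizer ((P : Subgroup G) : Set G)) q h
  refine ⟨(c : G), by rw [Subgroup.orderOf_coe, hc], ?_⟩
  intro x hx
  exact (Subgroup.mem_centralizer_iff.1 c.2 x hx).symm

variable [IsSimpleGroup G]

/-- The kill for an element of odd prime order (or any prime order `q`, using `mod q`). -/
theorem kill_fix {p q : ℕ} [hp : Fact p.Prime] [hq : Fact q.Prime]
    (P : Sylow p G) (hP : Nat.card (P : Subgroup G) = p) (hPG : Nat.card G ≠ p) (k : ℕ)
    (hk : q ^ k ∣ Nat.card (Subgroup.normalizer ((P : Subgroup G) : Set G)))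
    (hk' : ¬ q ^ k ∣ p - 1)
    (harith : ∀ f : ℕ, f ≤ Nat.card (Sylow p G) → f % p = 1 →
      f % q = Nat.card (Sylow p G) % q → f = Nat.card (Sylow p G)) : False := by
  obtain ⟨c, hc, hcomm⟩ := exists_centralizing P hP k hk hk'
  obtain ⟨H, hH⟩ : ∃ H : Subgroup G, H = Subgroup.normalizer ((P : Subgroup G) : Set G) :=
    ⟨_, rfl⟩
  have hcard : Nat.card (G ⧸ H) = Nat.card (Sylow p G) := by
    rw [hH, P.card_eq_index_normalizer]; rfl
  -- a generator
  obtain ⟨x, hx, hx1⟩ : ∃ x ∈ (P : Subgroup G), x ≠ 1 := by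
    rcases Subgroup.bot_or_exists_ne_one (P : Subgroup G) with h | h
    · rw [h, Subgroup.card_bot] at hP
      exact absurd hP.symm hp.out.one_lt.ne'
    · exact h
  have hxp : x ^ p = 1 := by
    have h0 : (⟨x, hx⟩ : (P : Subgroup G)) ^ Nat.card (P : Subgroup G) = 1 := pow_card_eq_one'
    rw [hP] at h0
    exact congrArg Subtype.val h0
  have h1 : Nat.card (fixedBy (G ⧸ H) x) = 1 :=
    card_fixedBy_eq_one_of_le p P hP H (by rw [hH]) x hx hx1
  have hmod1 : Nat.card (fixedBy (G ⧸ H) c) ≡ 1 [MOD p] :=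
    card_fixedBy_modEq_one p x c hxp (hcomm x hx) h1
  have hcq : c ^ q = 1 := by rw [← hc]; exact pow_orderOf_eq_one c
  have hmod2 : Nat.card (fixedBy (G ⧸ H) c) ≡ Nat.card (G ⧸ H) [MOD q] :=
    card_fixedBy_modEq_card q c hcq
  have hle : Nat.card (fixedBy (G ⧸ H) c) ≤ Nat.card (G ⧸ H) :=
    Nat.card_le_card_of_injective _ Subtype.val_injective
  rw [hcard] at hmod2 hle
  have hf := harith _ hle (by
    have := hmod1
    unfold Nat.ModEq at this
    rw [this, Nat.mod_eq_of_lt hp.out.one_lt]) hmod2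
  have hHtop : H ≠ ⊤ := by
    intro htop
    have hn : (P : Subgroup G).Normal := by
      rw [← Subgroup.normalizer_eq_top_iff, ← hH, htop]
    rcases hn.eq_bot_or_eq_top with hb | ht
    · rw [hb, Subgroup.card_bot] at hP
      exact absurd hP.symm hp.out.one_lt.ne'
    · rw [ht, Subgroup.card_top] at hP
      exact hPG hP
  have hc1 : c = 1 := eq_one_of_card_fixedBy_eq H hHtop c (by rw [hf, hcard])
  rw [hc1, orderOf_one] at hc
  exact hq.out.one_lt.ne hc

/-- The kill for an involution, using the parity `mod 4`. -/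
theorem kill_fix_two {p : ℕ} [hp : Fact p.Prime]
    (P : Sylow p G) (hP : Nat.card (P : Subgroup G) = p) (hPG : Nat.card G ≠ p)
    (hG : 2 < Nat.card G) (k : ℕ)
    (hk : 2 ^ k ∣ Nat.card (Subgroup.normalizer ((P : Subgroup G) : Set G)))
    (hk' : ¬ 2 ^ k ∣ p - 1)
    (harith : ∀ f : ℕ, f ≤ Nat.card (Sylow p G) → f % p = 1 →
      f % 4 = Nat.card (Sylow p G) % 4 → f = Nat.card (Sylow p G)) : False := by
  haveI : Fact (Nat.Prime 2) := ⟨Nat.prime_two⟩
  obtain ⟨c, hc, hcomm⟩ := exists_centralizing (q := 2) P hP k hk hk'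
  obtain ⟨H, hH⟩ : ∃ H : Subgroup G, H = Subgroup.normalizer ((P : Subgroup G) : Set G) :=
    ⟨_, rfl⟩
  have hcard : Nat.card (G ⧸ H) = Nat.card (Sylow p G) := by
    rw [hH, P.card_eq_index_normalizer]; rfl
  obtain ⟨x, hx, hx1⟩ : ∃ x ∈ (P : Subgroup G), x ≠ 1 := by
    rcases Subgroup.bot_or_exists_ne_one (P : Subgroup G) with h | h
    · rw [h, Subgroup.card_bot] at hP
      exact absurd hP.symm hp.out.one_lt.ne'
    · exact h
  have hxp : x ^ p = 1 := by
    have h0 : (⟨x, hx⟩ : (P : Subgroup G)) ^ Nat.card (P : Subgroup G) = 1 := pow_card_eq_one'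
    rw [hP] at h0
    exact congrArg Subtype.val h0
  have h1 : Nat.card (fixedBy (G ⧸ H) x) = 1 :=
    card_fixedBy_eq_one_of_le p P hP H (by rw [hH]) x hx hx1
  have hmod1 : Nat.card (fixedBy (G ⧸ H) c) ≡ 1 [MOD p] :=
    card_fixedBy_modEq_one p x c hxp (hcomm x hx) h1
  have hcc : c * c = 1 := by rw [← pow_two, ← hc]; exact pow_orderOf_eq_one c
  have hmod2 : Nat.card (G ⧸ H) % 4 = Nat.card (fixedBy (G ⧸ H) c) % 4 :=
    card_mod_four_eq hG c hcc
  have hle : Nat.card (fixedBy (G ⧸ H) c) ≤ Nat.card (G ⧸ H) :=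
    Nat.card_le_card_of_injective _ Subtype.val_injective
  rw [hcard] at hmod2 hle
  have hf := harith _ hle (by
    have := hmod1
    unfold Nat.ModEq at this
    rw [this, Nat.mod_eq_of_lt hp.out.one_lt]) hmod2.symm
  have hHtop : H ≠ ⊤ := by
    intro htop
    have hn : (P : Subgroup G).Normal := by
      rw [← Subgroup.normalizer_eq_top_iff, ← hH, htop]
    rcases hn.eq_bot_or_eq_top with hb | ht
    · rw [hb, Subgroup.card_bot] at hP
      exact absurd hP.symm hp.out.one_lt.ne'
    · rw [ht, Subgroup.card_top] at hP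
      exact hPG hP
  have hc1 : c = 1 := eq_one_of_card_fixedBy_eq H hHtop c (by rw [hf, hcard])
  rw [hc1, orderOf_one] at hc
  norm_num at hc

end Cfsg.Agent.Lib.Helper8.SylKill
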