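import Mathlib
import Cfsg.Prelude.Def_CaseTheorems
import Cfsg.Agent.S3305
import Cfsg.Agent.H1.Cores

/-!
# S3304 piece (P-Q) `quot_hyp` (helper8, for helper5's split)

The hypothesis "distinct Sylow 2-subgroups meet in a group of 2-rank at most 1" passes to
`G ⧸ O(G)`: this is the proof of `S3305` plus injectivity (`O(G)` has odd order).
-/

set_option autoImplicit false
open Cfsg

namespace Cfsg.Agent.Lib.Helper5.S3304

theorem quot_hyp {G : Type*} [Group G] [Finite G]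
    (hI : ∀ S T : Sylow 2 G, S ≠ T → Cfsg.PRankLE 2 1 ↥((S : Subgroup G) ⊓ (T : Subgroup G))) :
    ∀ S T : Sylow 2 (G ⧸ Cfsg.oddCore G), S ≠ T →
      Cfsg.PRankLE 2 1 ↥((S : Subgroup (G ⧸ Cfsg.oddCore G)) ⊓ (T : Subgroup (G ⧸ Cfsg.oddCore G))) := by
  intro Sb Tb hne
  have h2 : Fact (Nat.Prime 2) := ⟨Nat.prime_two⟩
  set H : Subgroup G := Cfsg.oddCore G with hH
  have hπ : Function.Surjective (QuotientGroup.mk' H) := QuotientGroup.mk'_surjective H
  have hHodd : (Nat.card H).Coprime 2 := Cfsg.Agent.H1.pPrimeCore_coprime 2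
  obtain ⟨S₀, hS₀⟩ := Sylow.mapSurjective_surjective hπ 2 Sb
  obtain ⟨T₀, hT₀⟩ := Sylow.mapSurjective_surjective hπ 2 Tb
  have hS₀' : (S₀ : Subgroup G).map (QuotientGroup.mk' H) = (Sb : Subgroup (G ⧸ H)) := by
    rw [← hS₀]; rfl
  have hT₀' : (T₀ : Subgroup G).map (QuotientGroup.mk' H) = (Tb : Subgroup (G ⧸ H)) := by
    rw [← hT₀]; rfl
  let f : ((Sb : Subgroup (G ⧸ H)) ⊓ (Tb : Subgroup (G ⧸ H))).comap (QuotientGroup.mk' H) →*
      ↥((Sb : Subgroup (G ⧸ H)) ⊓ (Tb : Subgroup (G ⧸ H))) :=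
    ((QuotientGroup.mk' H).comp (Subgroup.subtype _)).codRestrict _ (fun d => d.2)
  have hf : Function.Surjective f := by
    rintro ⟨d, hd⟩
    obtain ⟨g, rfl⟩ := hπ d
    exact ⟨⟨g, hd⟩, rfl⟩
  obtain ⟨R⟩ : Nonempty (Sylow 2
    (((Sb : Subgroup (G ⧸ H)) ⊓ (Tb : Subgroup (G ⧸ H))).comap (QuotientGroup.mk' H))) :=
    inferInstance
  have hDbp : IsPGroup 2 ↥((Sb : Subgroup (G ⧸ H)) ⊓ (Tb : Subgroup (G ⧸ H))) :=
    Sb.isPGroup'.to_le inf_le_left
  have htop : (⊤ : Subgroup ↥((Sb : Subgroup (G ⧸ H)) ⊓ (Tb : Subgroup (G ⧸ H))))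
      = ((R.mapSurjective hf : Sylow 2 _) : Subgroup _) :=
    (R.mapSurjective hf).is_maximal' (hDbp.to_subgroup ⊤) le_top
  -- the subgroup R₀ of G
  have hR₀p : IsPGroup 2 ((R : Subgroup _).map
      (((Sb : Subgroup (G ⧸ H)) ⊓ (Tb : Subgroup (G ⧸ H))).comap
        (QuotientGroup.mk' H)).subtype : Subgroup G) :=
    R.isPGroup'.map _
  have hR₀D : ∀ r ∈ ((R : Subgroup _).map
      (((Sb : Subgroup (G ⧸ H)) ⊓ (Tb : Subgroup (G ⧸ H))).comap
        (QuotientGroup.mk' H)).subtype : Subgroup G),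
      QuotientGroup.mk' H r ∈ (Sb : Subgroup (G ⧸ H)) ⊓ (Tb : Subgroup (G ⧸ H)) := by
    rintro _ ⟨r, _, rfl⟩
    exact r.2
  obtain ⟨S₁, hRS₁, hS₁⟩ := Cfsg.Agent.S3305.exists_sylow_ge H Sb S₀ hS₀' _ hR₀p
    (fun r hr => (Subgroup.mem_inf.1 (hR₀D r hr)).1)
  obtain ⟨T₁, hRT₁, hT₁⟩ := Cfsg.Agent.S3305.exists_sylow_ge H Tb T₀ hT₀' _ hR₀p
    (fun r hr => (Subgroup.mem_inf.1 (hR₀D r hr)).2)
  have hne' : S₁ ≠ T₁ := by
    intro h
    apply hne
    apply Sylow.ext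
    rw [← hS₁, ← hT₁, h]
  have hrk := hI S₁ T₁ hne'
  -- the embedding of `R` into `S₁ ⊓ T₁`
  let ι : (R : Subgroup _) →* ↥((S₁ : Subgroup G) ⊓ (T₁ : Subgroup G)) :=
    { toFun := fun r => ⟨((r : _) : G), Subgroup.mem_inf.2
        ⟨hRS₁ ⟨r.1, r.2, rfl⟩, hRT₁ ⟨r.1, r.2, rfl⟩⟩⟩
      map_one' := rfl
      map_mul' := fun _ _ => rfl }
  have hι : Function.Injective ι := by
    intro r s hrs
    apply Subtype.ext
    apply Subtype.ext
    exact congrArg (fun z : ↥((S₁ : Subgroup G) ⊓ (T₁ : Subgroup G)) => (z : G)) hrs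
  -- the restriction of `f` to `R` is bijective
  set g : ↥(R : Subgroup ↥(((Sb : Subgroup (G ⧸ H)) ⊓ (Tb : Subgroup (G ⧸ H))).comap
      (QuotientGroup.mk' H))) →* ↥((Sb : Subgroup (G ⧸ H)) ⊓ (Tb : Subgroup (G ⧸ H))) :=
    f.comp (Subgroup.subtype (R : Subgroup ↥(((Sb : Subgroup (G ⧸ H)) ⊓
      (Tb : Subgroup (G ⧸ H))).comap (QuotientGroup.mk' H)))) with hg
  have hgsurj : Function.Surjective g := by
    intro d
    have hd : d ∈ (⊤ : Subgroup ↥((Sb : Subgroup (G ⧸ H)) ⊓ (Tb : Subgroup (G ⧸ H)))) :=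
      Subgroup.mem_top d
    rw [htop] at hd
    obtain ⟨r, hr, rfl⟩ := hd
    exact ⟨⟨r, hr⟩, rfl⟩
  have hginj : Function.Injective g := by
    rw [injective_iff_map_eq_one]
    intro r hr
    -- the underlying element of `G`
    have h1 : QuotientGroup.mk' H ((r.1 : _) : G) = 1 := congrArg Subtype.val hr
    have h2' : ((r.1 : _) : G) ∈ H := (QuotientGroup.eq_one_iff _).1 h1
    -- order of the element: a power of two dividing an odd number
    obtain ⟨k, hk⟩ := (IsPGroup.iff_orderOf.1 R.isPGroup') r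
    have h3 : orderOf ((r.1 : _) : G) = 2 ^ k := by
      rw [← hk, Subgroup.orderOf_coe, Subgroup.orderOf_coe]
    have h4 : orderOf ((r.1 : _) : G) ∣ Nat.card H := Subgroup.orderOf_dvd_natCard H h2'
    have h5 : orderOf ((r.1 : _) : G) = 1 := by
      have hc : (Nat.card H).Coprime (2 ^ k) := hHodd.pow_right k
      rw [h3] at h4 ⊢
      exact Nat.eq_one_of_dvd_coprimes hc.symm (dvd_refl _) h4
    have h6 : ((r.1 : _) : G) = 1 := orderOf_eq_one_iff.1 h5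
    apply Subtype.ext
    apply Subtype.ext
    exact h6
  -- now transport a commutative subgroup of exponent 2
  intro A hAc hA2
  have hb : Function.Bijective g := ⟨hginj, hgsurj⟩
  set e := MulEquiv.ofBijective g hb with he
  -- `B` : the copy of `A` inside `S₁ ⊓ T₁`
  set B : Subgroup ↥((S₁ : Subgroup G) ⊓ (T₁ : Subgroup G)) :=
    (A.map e.symm.toMonoidHom).map ι with hB
  have hcard : Nat.card ↥B = Nat.card ↥A := by
    rw [hB, Subgroup.card_map_of_injective hι,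
      Subgroup.card_map_of_injective e.symm.injective]
  have hBc : IsMulCommutative ↥B := by
    rw [hB]
    have : IsMulCommutative ↥(A.map e.symm.toMonoidHom) := Subgroup.map_isMulCommutative _ _
    exact Subgroup.map_isMulCommutative _ _
  have hB2 : ∀ b ∈ B, b ^ 2 = 1 := by
    rintro _ ⟨_, ⟨a, ha, rfl⟩, rfl⟩
    rw [← map_pow, ← map_pow, hA2 a ha, map_one, map_one]
  have := hrk B hBc hB2
  rwa [hcard] at this

end Cfsg.Agent.Lib.Helper5.S3304
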