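import Mathlib

/-!
# S4022: shared definitions (conjugacy of subgroups, the hypotheses) and basic lemmas
-/

set_option autoImplicit false
set_option linter.style.haveILetI false
set_option linter.unusedSectionVars false
set_option linter.unusedVariables false

namespace Cfsg.Agent.Lib.Helper8.SameOrd

universe u

section defs

variable {G : Type u} [Group G]

/-- `K` is a conjugate of `H` (in the shape of the statement S4022) -/
def Cj (H K : Subgroup G) : Prop := ∃ g : G, K = H.map (MulAut.conj g).toMonoidHom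

theorem mem_map_conj {H : Subgroup G} {g x : G} :
    x ∈ H.map (MulAut.conj g).toMonoidHom ↔ g⁻¹ * x * g ∈ H := by
  constructor
  · rintro ⟨y, hy, rfl⟩
    have : g⁻¹ * ((MulAut.conj g).toMonoidHom y) * g = y := by
      simp [mul_assoc]
    rw [this]
    exact hy
  · intro h
    exact ⟨g⁻¹ * x * g, h, by simp [mul_assoc]⟩

theorem Cj.refl (H : Subgroup G) : Cj H H := by
  refine ⟨1, ?_⟩
  ext x
  rw [mem_map_conj]
  simp

theorem Cj.symm {H K : Subgroup G} (h : Cj H K) : Cj K H := by
  obtain ⟨g, rfl⟩ := h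
  refine ⟨g⁻¹, ?_⟩
  ext x
  rw [mem_map_conj, mem_map_conj]
  have : g⁻¹ * (g⁻¹⁻¹ * x * g⁻¹) * g = x := by group
  rw [this]

theorem Cj.trans {H K L : Subgroup G} (h1 : Cj H K) (h2 : Cj K L) : Cj H L := by
  obtain ⟨g, rfl⟩ := h1
  obtain ⟨g', rfl⟩ := h2
  refine ⟨g' * g, ?_⟩
  ext x
  rw [mem_map_conj, mem_map_conj, mem_map_conj]
  have : g⁻¹ * (g'⁻¹ * x * g') * g = (g' * g)⁻¹ * x * (g' * g) := by group
  rw [this]

theorem Cj.card_eq {H K : Subgroup G} (h : Cj H K) : Nat.card K = Nat.card H := by
  obtain ⟨g, rfl⟩ := h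
  exact Subgroup.card_map_of_injective (MulAut.conj g).injective

/-- conjugacy is compatible with `⊔` -/
theorem map_conj_sup (H K : Subgroup G) (g : G) :
    (H ⊔ K).map (MulAut.conj g).toMonoidHom =
      H.map (MulAut.conj g).toMonoidHom ⊔ K.map (MulAut.conj g).toMonoidHom :=
  Subgroup.map_sup H K _

/-- a normal subgroup is fixed by conjugation -/
theorem map_conj_normal (N : Subgroup G) [hN : N.Normal] (g : G) :
    N.map (MulAut.conj g).toMonoidHom = N := by
  ext x
  rw [mem_map_conj]
  constructor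
  · intro h
    have := hN.conj_mem _ h g
    simpa [mul_assoc] using this
  · intro h
    have := hN.conj_mem _ h g⁻¹
    simpa [mul_assoc] using this

/-- lifting conjugacy from a quotient: for `N ≤ H`, `N ≤ K`. -/
theorem Cj.of_quotient (N : Subgroup G) [N.Normal] {H K : Subgroup G} (hH : N ≤ H) (hK : N ≤ K)
    (h : Cj (H.map (QuotientGroup.mk' N)) (K.map (QuotientGroup.mk' N))) : Cj H K := by
  obtain ⟨gbar, hg⟩ := h
  obtain ⟨g, rfl⟩ := QuotientGroup.mk_surjective gbar
  refine ⟨g, ?_⟩
  have h1 : (H.map (MulAut.conj g).toMonoidHom).map (QuotientGroup.mk' N) =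
      K.map (QuotientGroup.mk' N) := by
    rw [hg, Subgroup.map_map, Subgroup.map_map]
    congr 1
  have hN' : N ≤ H.map (MulAut.conj g).toMonoidHom := by
    rw [← map_conj_normal N g]
    exact Subgroup.map_mono hH
  have h2 := congrArg (Subgroup.comap (QuotientGroup.mk' N)) h1
  rw [Subgroup.comap_map_eq, Subgroup.comap_map_eq, QuotientGroup.ker_mk',
    sup_eq_left.mpr hN', sup_eq_left.mpr hK] at h2
  exact h2.symm

/-- hypothesis (D): `p`-subgroups of the same order are conjugate, for every prime `p` -/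
def HypD (G : Type u) [Group G] : Prop :=
  ∀ p : ℕ, p.Prime → ∀ H K : Subgroup G, IsPGroup p H → IsPGroup p K →
    Nat.card H = Nat.card K → Cj H K

/-- hypothesis (C): the Sylow `p`-subgroups are cyclic for `p ≠ r` -/
def HypC (r : ℕ) (G : Type u) [Group G] : Prop :=
  ∀ p : ℕ, p.Prime → p ≠ r → ∀ P : Sylow p G, IsCyclic P

/-- the conclusion: subgroups of the same order are conjugate -/
def Concl (G : Type u) [Group G] : Prop :=
  ∀ H K : Subgroup G, Nat.card H = Nat.card K → Cj H K

/-- the class of groups considered -/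
structure X (r : ℕ) (G : Type u) [Group G] : Prop where
  solv : Group.IsSolvable G
  hD : HypD G
  hC : HypC r G

end defs

end Cfsg.Agent.Lib.Helper8.SameOrd
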