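import Mathlib
import Cfsg.Agent.Lib.Helper8.Sh3A
import Cfsg.Agent.H2.UniqueOrderP
import Cfsg.Agent.H2.NCA.A1
import Cfsg.Agent.Lib.S3358.QXc1

/-!
# Sharply 3-transitive groups of even degree (towards S0729), part B: two normal complements

(author: helper8)

* `hasNormal3Complement`: a finite group with at most one subgroup of order 3, central, has a normal
  3-complement;
* `hasNormal2Complement`: a finite group of order prime to 3 with at most one involution has a normal
  2-complement.
-/

set_option autoImplicit false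
set_option linter.unusedVariables false
set_option linter.unusedSectionVars false
set_option linter.style.haveILetI false

namespace Cfsg.Agent.Lib.Helper8.Sh3

open Cfsg

universe u

/-- conjugation by an element of the normalizer, as an automorphism of the subgroup -/
noncomputable def conjOn {M : Type*} [Group M] (Q : Subgroup M) (g : M)
    (hg : g ∈ Subgroup.normalizer (Q : Set M)) : MulAut ↥Q :=
  MulAut.congr (Subgroup.subgroupOfEquivOfLe (Subgroup.le_normalizer (H := Q)))
    (MulAut.conjNormal (H := Q.subgroupOf (Subgroup.normalizer (Q : Set M)))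
      (⟨g, hg⟩ : ↥(Subgroup.normalizer (Q : Set M))))

theorem conjOn_apply {M : Type*} [Group M] (Q : Subgroup M) (g : M)
    (hg : g ∈ Subgroup.normalizer (Q : Set M)) (x : ↥Q) :
    ((conjOn Q g hg x : ↥Q) : M) = g * x * g⁻¹ := by
  unfold conjOn
  rfl

theorem conjOn_pow {M : Type*} [Group M] (Q : Subgroup M) (g : M)
    (hg : g ∈ Subgroup.normalizer (Q : Set M)) (n : ℕ) :
    conjOn Q g hg ^ n = conjOn Q (g ^ n) (Subgroup.pow_mem _ hg n) := by
  unfold conjOn
  rw [← map_pow, ← map_pow]
  rfl

theorem conjOn_one {M : Type*} [Group M] (Q : Subgroup M)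
    (h1 : (1 : M) ∈ Subgroup.normalizer (Q : Set M)) : conjOn Q 1 h1 = 1 := by
  ext x
  rw [conjOn_apply]
  simp

/-- with at most one subgroup of order 3, Sylow 3-subgroups are cyclic -/
theorem isCyclic_sylow_three {H : Type u} [Group H] [Finite H]
    (h3 : ∀ x y : H, orderOf x = 3 → orderOf y = 3 → y ∈ Subgroup.zpowers x)
    [Fact (Nat.Prime 3)] (P : Sylow 3 H) : IsCyclic ↥P := by
  have hle : ∀ A B : Subgroup ↥P, Nat.card A = 3 → Nat.card B = 3 → B ≤ A := by
    intro A B hA hB
    haveI : Nontrivial A := by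
      rw [← Finite.one_lt_card_iff_nontrivial, hA]; omega
    obtain ⟨a, haA, ha1⟩ := Subgroup.exists_ne_one_of_nontrivial A
    have hao : orderOf a = 3 := by
      have h1 := A.orderOf_dvd_natCard haA
      rw [hA] at h1
      rcases (Nat.dvd_prime (by norm_num : Nat.Prime 3)).1 h1 with h | h
      · exact absurd (orderOf_eq_one_iff.1 h) ha1
      · exact h
    intro b hbB
    by_cases hb1 : b = 1
    · rw [hb1]; exact A.one_mem
    have hbo : orderOf b = 3 := by
      have h1 := B.orderOf_dvd_natCard hbB
      rw [hB] at h1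
      rcases (Nat.dvd_prime (by norm_num : Nat.Prime 3)).1 h1 with h | h
      · exact absurd (orderOf_eq_one_iff.1 h) hb1
      · exact h
    have hao' : orderOf (a : H) = 3 := by rw [Subgroup.orderOf_coe]; exact hao
    have hbo' : orderOf (b : H) = 3 := by rw [Subgroup.orderOf_coe]; exact hbo
    obtain ⟨k, hk⟩ := Subgroup.mem_zpowers_iff.1 (h3 _ _ hao' hbo')
    have : b = a ^ k := by
      apply Subtype.ext
      rw [Subgroup.coe_zpow]; exact hk.symm
    rw [this]
    exact A.zpow_mem haA k
  rcases Cfsg.Agent.H2.UOP.main 3 P.isPGroup'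
    (fun A B hA hB => le_antisymm (hle B A hB hA) (hle A B hA hB)) with h | ⟨h, -⟩
  · exact h
  · omega

/-- a finite group with at most one subgroup of order 3, which is central, has a normal
3-complement -/
theorem hasNormal3Complement {H : Type u} [Group H] [Finite H]
    (h3 : ∀ x y : H, orderOf x = 3 → orderOf y = 3 → y ∈ Subgroup.zpowers x)
    (hc3 : ∀ x : H, orderOf x = 3 → x ∈ Subgroup.center H) : HasNormalPComplement 3 H := by
  haveI : Fact (Nat.Prime 3) := ⟨by norm_num⟩
  obtain ⟨P⟩ : Nonempty (Sylow 3 H) := inferInstance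
  have hcyc : IsCyclic ↥P := isCyclic_sylow_three h3 P
  have hPcomm : ∀ x y : H, x ∈ (P : Subgroup H) → y ∈ (P : Subgroup H) → x * y = y * x := by
    intro x y hx hy
    letI := IsCyclic.commGroup (α := ↥P)
    have := mul_comm (⟨x, hx⟩ : ↥P) ⟨y, hy⟩
    exact congrArg Subtype.val this
  apply Cfsg.Agent.Lib.Lead.NormalPComplement.hasNormalPComplement_of_p'_centralize P
  intro Q hQ g hg hcop
  -- conjugation by `g` fixes `Q` pointwise
  have hconj : ∀ x ∈ Q, g * x * g⁻¹ ∈ Q := fun x hx =>
    (Subgroup.mem_normalizer_iff.1 hg x).1 hx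
  have main : ∀ n : ℕ, ∀ x ∈ Q, orderOf x = n → g * x * g⁻¹ = x := by
    intro n
    induction n using Nat.strong_induction_on with
    | _ n ih =>
      intro x hx hxn
      obtain ⟨i, hi⟩ := (IsPGroup.iff_orderOf.1 P.isPGroup') ⟨x, hQ hx⟩
      rw [Subgroup.orderOf_mk] at hi
      rcases i with _ | i
      · rw [pow_zero, orderOf_eq_one_iff] at hi
        rw [hi]; group
      -- the cube of `x` has smaller order
      have hx3o : orderOf (x ^ 3) = 3 ^ i := by
        rw [orderOf_pow' x (by norm_num : (3 : ℕ) ≠ 0), hi, pow_succ]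
        rw [Nat.gcd_eq_right (Dvd.intro_left _ rfl)]
        exact Nat.mul_div_cancel _ (by norm_num)
      have hlt : 3 ^ i < n := by
        rw [← hxn, hi, pow_succ]
        have : 0 < 3 ^ i := by positivity
        omega
      have hx3 : g * x ^ 3 * g⁻¹ = x ^ 3 := ih (3 ^ i) hlt (x ^ 3) (Q.pow_mem hx 3) hx3o
      set y := g * x * g⁻¹ with hy
      have hyQ : y ∈ Q := hconj x hx
      set c := x⁻¹ * y with hc
      have hcQ : c ∈ Q := Q.mul_mem (Q.inv_mem hx) hyQ
      have hy3 : y ^ 3 = x ^ 3 := by rw [hy, conj_pow, hx3]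
      have hcomm : Commute x⁻¹ y := hPcomm _ _ (hQ (Q.inv_mem hx)) (hQ hyQ)
      have hcube : c ^ 3 = 1 := by
        rw [hc, hcomm.mul_pow, hy3, inv_pow, inv_mul_cancel]
      have hcc : g * c = c * g := by
        by_cases hc1 : c = 1
        · rw [hc1]; group
        · have hco : orderOf c = 3 := by
            have h1 : orderOf c ∣ 3 := orderOf_dvd_of_pow_eq_one hcube
            rcases (Nat.dvd_prime (by norm_num : Nat.Prime 3)).1 h1 with h | h
            · exact absurd (orderOf_eq_one_iff.1 h) hc1
            · exact h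
          exact Subgroup.mem_center_iff.1 (hc3 c hco) g
      have hxy : y = x * c := by rw [hc]; group
      have hpow : ∀ k : ℕ, g ^ k * x * (g ^ k)⁻¹ = x * c ^ k := by
        intro k
        induction k with
        | zero => simp
        | succ k ihk =>
          have hck : g * c ^ k = c ^ k * g := by
            have : Commute g c := hcc
            exact (this.pow_right k)
          calc g ^ (k + 1) * x * (g ^ (k + 1))⁻¹
              = g * (g ^ k * x * (g ^ k)⁻¹) * g⁻¹ := by rw [pow_succ']; group
            _ = g * (x * c ^ k) * g⁻¹ := by rw [ihk]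
            _ = (g * x * g⁻¹) * (g * c ^ k) * g⁻¹ := by group
            _ = (x * c) * (c ^ k * g) * g⁻¹ := by rw [hck, ← hy, hxy]
            _ = x * c ^ (k + 1) := by rw [pow_succ']; group
      have h4 := hpow (orderOf g)
      rw [pow_orderOf_eq_one] at h4
      have hco1 : c ^ orderOf g = 1 := by
        have : x * c ^ orderOf g = x := by rw [← h4]; group
        exact mul_left_cancel (a := x) (by rw [this, mul_one])
      have hc1 : c ^ Nat.gcd (orderOf g) 3 = 1 := pow_gcd_eq_one.2 ⟨hco1, hcube⟩
      rw [Nat.Coprime] at hcop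
      rw [hcop, pow_one] at hc1
      rw [hxy, hc1, mul_one]
  rw [Subgroup.mem_centralizer_iff]
  intro x hx
  have h5 := main (orderOf x) x hx rfl
  calc x * g = (g * x * g⁻¹) * g := by rw [h5]
    _ = g * x := by group

/-- every automorphism of the quaternion group of order 8 has order dividing 24 -/
theorem aut_pow_24 {X : Type*} [Group X] (e : X ≃* QuaternionGroup 2) (β : MulAut X) :
    β ^ 24 = 1 := by
  obtain ⟨Φ, hΦ⟩ := Cfsg.Agent.S3358L.QXc1_exists_embedding
  set γ : MulAut (QuaternionGroup 2) := MulAut.congr e β with hγ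
  have h24 : (Φ γ) ^ 24 = 1 := by
    have hcard : Fintype.card (Equiv.Perm (Fin 4)) = 24 := by
      rw [Fintype.card_perm, Fintype.card_fin]; rfl
    rw [← hcard]
    exact pow_card_eq_one
  have hγ24 : γ ^ 24 = 1 := by
    apply hΦ
    rw [map_pow, h24, map_one]
  have : MulAut.congr e (β ^ 24) = MulAut.congr e 1 := by rw [map_pow, ← hγ, hγ24, map_one]
  exact (MulAut.congr e).injective this

/-- an odd-order automorphism of order prime to 3 of a finite 2-group with a unique involution is
trivial -/
theorem aut_eq_one_of_coprime_six {X : Type*} [Group X] [Finite X] (hX : IsPGroup 2 X) (z : X)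
    (hz1 : z ≠ 1) (hz2 : z * z = 1) (huniq : ∀ x : X, x * x = 1 → x = 1 ∨ x = z)
    (β : MulAut X) (o : ℕ) (ho : Nat.Coprime o 2) (ho3 : Nat.Coprime o 3) (hβ : β ^ o = 1) :
    β = 1 := by
  by_contra hβ1
  have hodd : Odd o := Nat.coprime_two_right.1 ho
  obtain ⟨e⟩ := Cfsg.Agent.H2.NCA.lemmaL hX z hz1 hz2 huniq β hβ1 o hodd hβ
  obtain ⟨Φ, hΦ⟩ := Cfsg.Agent.S3358L.QXc1_exists_embedding
  set γ : MulAut (QuaternionGroup 2) := MulAut.congr e β with hγ
  have h24 : (Φ γ) ^ 24 = 1 := by
    have hcard : Fintype.card (Equiv.Perm (Fin 4)) = 24 := by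
      rw [Fintype.card_perm, Fintype.card_fin]; rfl
    rw [← hcard]
    exact pow_card_eq_one
  have hγ24 : γ ^ 24 = 1 := by
    apply hΦ
    rw [map_pow, h24, map_one]
  have hγo : γ ^ o = 1 := by
    rw [hγ, ← map_pow, hβ, map_one]
  have hg : γ ^ Nat.gcd o 24 = 1 := pow_gcd_eq_one.2 ⟨hγo, hγ24⟩
  have hcop : Nat.Coprime o 24 := by
    have : (24 : ℕ) = 2 ^ 3 * 3 := by norm_num
    rw [this]
    exact Nat.Coprime.mul_right (Nat.Coprime.pow_right 3 ho) ho3
  rw [Nat.Coprime] at hcop
  rw [hcop, pow_one] at hg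
  apply hβ1
  have : MulAut.congr e β = MulAut.congr e 1 := by rw [← hγ, hg, map_one]
  exact (MulAut.congr e).injective this

/-- a finite group of order prime to 3 with at most one involution has a normal 2-complement -/
theorem hasNormal2Complement {M : Type u} [Group M] [Finite M] (h3 : ¬ 3 ∣ Nat.card M)
    (j : M) (hjuniq : ∀ x : M, x * x = 1 → x = 1 ∨ x = j) : HasNormalPComplement 2 M := by
  haveI : Fact (Nat.Prime 2) := ⟨Nat.prime_two⟩
  obtain ⟨P⟩ : Nonempty (Sylow 2 M) := inferInstance
  apply Cfsg.Agent.Lib.Lead.NormalPComplement.hasNormalPComplement_of_p'_centralize P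
  intro Q hQ g hg hcop
  set β := conjOn Q g hg with hβdef
  have hβo : β ^ orderOf g = 1 := by
    rw [hβdef, conjOn_pow]
    have : ∀ (y : M) (hy : y ∈ Subgroup.normalizer (Q : Set M)), y = 1 → conjOn Q y hy = 1 := by
      intro y hy h1
      subst h1
      exact conjOn_one Q hy
    exact this _ _ (pow_orderOf_eq_one g)
  have hβ1 : β = 1 := by
    by_contra hne
    -- `Q` is non-trivial
    obtain ⟨x, hx⟩ : ∃ x : ↥Q, β x ≠ x := by
      by_contra hcon
      push Not at hcon
      apply hne
      ext y
      rw [hcon y]; rfl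
    have hx1 : x ≠ 1 := by
      rintro rfl
      exact hx (map_one β)
    have hQ2 : IsPGroup 2 ↥Q := P.isPGroup'.to_le hQ
    haveI : Nontrivial ↥Q := ⟨⟨x, 1, hx1⟩⟩
    have h2dvd : 2 ∣ Nat.card ↥Q := by
      obtain ⟨n, hn⟩ := IsPGroup.iff_card.1 hQ2
      rcases n with _ | n
      · exfalso
        rw [pow_zero] at hn
        have := (Finite.one_lt_card_iff_nontrivial (α := ↥Q)).2 inferInstance
        omega
      · rw [hn, pow_succ]; exact Dvd.intro_left _ rfl
    obtain ⟨z, hz⟩ := exists_prime_orderOf_dvd_card' (G := ↥Q) 2 h2dvd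
    have hz1 : z ≠ 1 := by
      rintro rfl
      rw [orderOf_one] at hz
      omega
    have hz2 : z * z = 1 := by
      rw [← pow_two, ← hz]; exact pow_orderOf_eq_one z
    have hzj : (z : M) = j := by
      have h1 : (z : M) * (z : M) = 1 := by
        have := congrArg Subtype.val hz2
        simpa using this
      rcases hjuniq _ h1 with h | h
      · exact absurd (Subtype.ext h) hz1
      · exact h
    have huniq : ∀ y : ↥Q, y * y = 1 → y = 1 ∨ y = z := by
      intro y hy
      have h1 : (y : M) * (y : M) = 1 := by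
        have := congrArg Subtype.val hy
        simpa using this
      rcases hjuniq _ h1 with h | h
      · left; exact Subtype.ext h
      · right; exact Subtype.ext (h.trans hzj.symm)
    have ho3 : Nat.Coprime (orderOf g) 3 := by
      rw [Nat.coprime_comm, Nat.Prime.coprime_iff_not_dvd (by norm_num : Nat.Prime 3)]
      intro h
      exact h3 (h.trans (orderOf_dvd_natCard g))
    exact hne (aut_eq_one_of_coprime_six hQ2 z hz1 hz2 huniq β (orderOf g) hcop ho3 hβo)
  rw [Subgroup.mem_centralizer_iff]
  intro y hy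
  have h5 : ((β ⟨y, hy⟩ : ↥Q) : M) = g * y * g⁻¹ := conjOn_apply Q g hg ⟨y, hy⟩
  rw [hβ1] at h5
  have h6 : y = g * y * g⁻¹ := h5
  calc y * g = (g * y * g⁻¹) * g := by rw [← h6]
    _ = g * y := by group

end Cfsg.Agent.Lib.Helper8.Sh3
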