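import Mathlib
import Cfsg.Agent.Lib.Helper8.Sh3B

/-!
# Sharply 3-transitive groups of even degree (towards S0729), part C: the structure theorem

(author: helper8)

Let `H` be a finite group with a unique involution `j`, an involutory automorphism `σ` whose fixed points are
`1, j`, at most one subgroup of order 3 and no subgroup of index 2.  Then `H` is not commutative,
`|H| ≤ 12 |Z(H)|`, `6 ∣ |Z(H)|` and `72 ∣ |H|`.
-/

set_option autoImplicit false
set_option linter.unusedVariables false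
set_option linter.unusedSectionVars false
set_option linter.style.haveILetI false
set_option maxHeartbeats 800000

namespace Cfsg.Agent.Lib.Helper8.Sh3

open Cfsg

universe u

theorem orderOf_conj' {H : Type*} [Group H] (g x : H) : orderOf (g * x * g⁻¹) = orderOf x := by
  have := MulEquiv.orderOf_eq (MulAut.conj g) x
  rwa [MulAut.conj_apply] at this

/-- coprime divisors: the product divides -/
theorem mul_dvd_of_coprime3 {a b c n : ℕ} (hab : Nat.Coprime a b) (hac : Nat.Coprime a c)
    (hbc : Nat.Coprime b c) (ha : a ∣ n) (hb : b ∣ n) (hc : c ∣ n) : a * b * c ∣ n :=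
  Nat.Coprime.mul_dvd_of_dvd_of_dvd (Nat.Coprime.mul_left hac hbc)
    (Nat.Coprime.mul_dvd_of_dvd_of_dvd hab ha hb) hc

theorem not_comm_q8 : ¬ ∀ a b : QuaternionGroup 2, a * b = b * a := by decide

/-- with a central Hall subgroup `Y` and a normal subgroup `M = Y T` of 3-power index, the Sylow
2-subgroup `T` is normal -/
theorem sylow_two_normal {H : Type u} [Group H] [Finite H] (M Y : Subgroup H) (k e : ℕ)
    [hMn : M.Normal] (hk : M.index = 3 ^ k) (hYM : Y ≤ M) (hYc : Y ≤ Subgroup.center H)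
    (hYodd : Odd (Nat.card Y)) (hMcard : Nat.card M = Nat.card Y * 2 ^ e)
    (hHcard : Nat.card H = Nat.card Y * 2 ^ e * 3 ^ k) [Fact (Nat.Prime 2)] (T : Sylow 2 H) :
    Nat.card T = 2 ^ e ∧ (T : Subgroup H) ≤ M ∧ (T : Subgroup H).Normal := by
  have hpow : ∀ x ∈ (T : Subgroup H), ∃ i : ℕ, orderOf x = 2 ^ i := by
    intro x hx
    obtain ⟨i, hi⟩ := (IsPGroup.iff_orderOf.1 T.isPGroup') ⟨x, hx⟩
    rw [Subgroup.orderOf_mk] at hi
    exact ⟨i, hi⟩
  have hTM : (T : Subgroup H) ≤ M := by
    intro x hx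
    obtain ⟨i, hi⟩ := hpow x hx
    apply mem_of_coprime_index
    rw [hi, hk]
    exact Nat.Coprime.pow i k (by norm_num)
  have hY2 : Nat.Coprime (Nat.card Y) 2 := Nat.coprime_two_right.2 hYodd
  have hTcard : Nat.card T = 2 ^ e := by
    have h1 : 2 ^ e ∣ Nat.card T := by
      apply T.pow_dvd_card_of_pow_dvd_card
      rw [hHcard]
      exact ⟨Nat.card Y * 3 ^ k, by ring⟩
    obtain ⟨i, hi⟩ := IsPGroup.iff_card.1 T.isPGroup'
    have h2 : Nat.card T ∣ Nat.card Y * 2 ^ e := by
      rw [← hMcard]; exact Subgroup.card_dvd_of_le hTM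
    have h3 : Nat.card T ∣ 2 ^ e := by
      apply Nat.Coprime.dvd_of_dvd_mul_left _ h2
      rw [hi]
      exact (Nat.Coprime.pow_left i hY2.symm)
    exact Nat.dvd_antisymm h3 h1
  have hsup : Y ⊔ (T : Subgroup H) = M := by
    apply Subgroup.eq_of_le_of_card_ge (sup_le hYM hTM)
    have h1 : Nat.card Y ∣ Nat.card ↥(Y ⊔ (T : Subgroup H)) := Subgroup.card_dvd_of_le le_sup_left
    have h2 : Nat.card T ∣ Nat.card ↥(Y ⊔ (T : Subgroup H)) := Subgroup.card_dvd_of_le le_sup_right
    have h3 : Nat.card Y * Nat.card T ∣ Nat.card ↥(Y ⊔ (T : Subgroup H)) := by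
      apply Nat.Coprime.mul_dvd_of_dvd_of_dvd _ h1 h2
      rw [hTcard]; exact Nat.Coprime.pow_right e hY2
    rw [hMcard, ← hTcard]
    exact Nat.le_of_dvd Nat.card_pos h3
  have hMN : M ≤ Subgroup.normalizer ((T : Subgroup H) : Set H) := by
    rw [← hsup]
    apply sup_le _ Subgroup.le_normalizer
    intro g hg
    have hgc := Subgroup.mem_center_iff.1 (hYc hg)
    rw [Subgroup.mem_normalizer_iff]
    intro h
    have : g * h * g⁻¹ = h := by
      rw [← hgc h]; group
    rw [this]
  haveI hT'n : ((T : Subgroup H).subgroupOf M).Normal :=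
    (Subgroup.normal_subgroupOf_iff_le_normalizer hTM).2 hMN
  have hT'idx : ((T : Subgroup H).subgroupOf M).index = Nat.card Y := by
    have h1 := ((T : Subgroup H).subgroupOf M).card_mul_index
    have h2 : Nat.card ↥((T : Subgroup H).subgroupOf M) = 2 ^ e := by
      rw [Nat.card_congr (Subgroup.subgroupOfEquivOfLe hTM).toEquiv]; exact hTcard
    rw [h2, hMcard, mul_comm] at h1
    exact Nat.eq_of_mul_eq_mul_right (by positivity) h1
  refine ⟨hTcard, hTM, ?_⟩
  constructor
  intro x hx g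
  obtain ⟨i, hi⟩ := hpow x hx
  have hxM : g * x * g⁻¹ ∈ M := hMn.conj_mem x (hTM hx) g
  have : (⟨g * x * g⁻¹, hxM⟩ : ↥M) ∈ (T : Subgroup H).subgroupOf M := by
    apply mem_of_coprime_index
    rw [hT'idx, Subgroup.orderOf_mk, orderOf_conj', hi]
    exact Nat.Coprime.pow_left i hY2.symm
  exact Subgroup.mem_subgroupOf.1 this

section
variable {H : Type u} [Group H] [Finite H]
    (σ : H ≃* H) (hσ : ∀ h, σ (σ h) = h)
    (j : H) (hj1 : j ≠ 1) (hj2 : j * j = 1) (hjuniq : ∀ x : H, x * x = 1 → x = 1 ∨ x = j)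
    (hfix : ∀ h, σ h = h → h * h = 1)
    (h3 : ∀ x y : H, orderOf x = 3 → orderOf y = 3 → y ∈ Subgroup.zpowers x)
    (hno : ∀ N : Subgroup H, N.index ≠ 2)

include hσ hj2 hjuniq hfix h3 hno in
/-- elements of order 3 are central -/
theorem order_three_central (x : H) (hx : orderOf x = 3) : x ∈ Subgroup.center H := by
  have hfix' : ∀ h, σ h = h → h = 1 ∨ h = j := fun h hh => hjuniq h (hfix h hh)
  have hn : (Subgroup.zpowers x).Normal := by
    constructor
    intro n hn g
    obtain ⟨k, rfl⟩ := Subgroup.mem_zpowers_iff.1 hn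
    have h1 : g * x * g⁻¹ ∈ Subgroup.zpowers x := h3 x _ hx (by rw [orderOf_conj', hx])
    have h2 : g * x ^ k * g⁻¹ = (g * x * g⁻¹) ^ k := by rw [conj_zpow]
    rw [h2]
    exact Subgroup.zpow_mem _ h1 k
  haveI := hn
  have hs : ∀ y ∈ Subgroup.zpowers x, σ y ∈ Subgroup.zpowers x := by
    intro y hy
    obtain ⟨k, rfl⟩ := Subgroup.mem_zpowers_iff.1 hy
    rw [map_zpow]
    exact Subgroup.zpow_mem _ (h3 x _ hx (by rw [MulEquiv.orderOf_eq, hx])) k
  have hodd : Odd (Nat.card (Subgroup.zpowers x)) := by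
    rw [Nat.card_zpowers, hx]; exact ⟨1, rfl⟩
  exact sigma_central σ hσ j hj2 hfix' hno (Subgroup.zpowers x) hs hodd
    (Subgroup.mem_zpowers x)

include hσ hj1 hj2 hjuniq hfix h3 hno in
/-- the central Hall `{2,3}'`-subgroup `Y` and the normal 3-complement `M` -/
theorem exists_central_hall : ∃ (M Y : Subgroup H) (k e : ℕ), M.Normal ∧ M.index = 3 ^ k ∧
    Nat.Coprime (Nat.card M) 3 ∧ Y ≤ M ∧ Y ≤ Subgroup.center H ∧ Odd (Nat.card Y) ∧
    Nat.Coprime (Nat.card Y) 3 ∧
    Nat.card M = Nat.card Y * 2 ^ e ∧ Nat.card H = Nat.card Y * 2 ^ e * 3 ^ k := by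
  haveI : Fact (Nat.Prime 3) := ⟨by norm_num⟩
  haveI : Fact (Nat.Prime 2) := ⟨Nat.prime_two⟩
  have hfix' : ∀ h, σ h = h → h = 1 ∨ h = j := fun h hh => hjuniq h (hfix h hh)
  have hc3 := order_three_central σ hσ j hj2 hjuniq hfix h3 hno
  obtain ⟨M, hMn, hMc, k, hk⟩ :=
    Cfsg.Agent.Lib.Lead.NormalPComplement.exists_normal_of_hasNormalPComplement
      (hasNormal3Complement h3 hc3)
  haveI := hMn
  have hjo : orderOf j = 2 := orderOf_eq_prime (by rw [pow_two]; exact hj2) hj1
  have hjM : j ∈ M := by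
    apply mem_of_coprime_index
    rw [hjo, hk]
    exact Nat.Coprime.pow_right k (by norm_num)
  have h3M : ¬ 3 ∣ Nat.card ↥M := by
    intro h
    have : Nat.gcd (Nat.card ↥M) 3 = 1 := hMc
    have h2 : 3 ∣ Nat.gcd (Nat.card ↥M) 3 := Nat.dvd_gcd h (dvd_refl 3)
    rw [this] at h2
    omega
  have hjuniqM : ∀ x : ↥M, x * x = 1 → x = 1 ∨ x = ⟨j, hjM⟩ := by
    intro x hx
    have h1 : (x : H) * (x : H) = 1 := by
      have := congrArg Subtype.val hx
      simpa using this
    rcases hjuniq _ h1 with h | h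
    · left; exact Subtype.ext h
    · right; exact Subtype.ext h
  obtain ⟨Y₀, hY₀n, hY₀c, e, he⟩ :=
    Cfsg.Agent.Lib.Lead.NormalPComplement.exists_normal_of_hasNormalPComplement
      (hasNormal2Complement h3M ⟨j, hjM⟩ hjuniqM)
  haveI := hY₀n
  set Y : Subgroup H := Y₀.map M.subtype with hYdef
  have hYcard : Nat.card Y = Nat.card Y₀ :=
    Subgroup.card_map_of_injective M.subtype_injective
  have hYM : Y ≤ M := by
    rintro x ⟨y, -, rfl⟩
    exact y.2
  have hMcard : Nat.card M = Nat.card Y * 2 ^ e := by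
    rw [hYcard, ← he]; exact (Y₀.card_mul_index).symm
  have hHcard : Nat.card H = Nat.card Y * 2 ^ e * 3 ^ k := by
    rw [← hMcard, ← hk]; exact (M.card_mul_index).symm
  have hYodd : Odd (Nat.card Y) := by
    rw [hYcard]; exact Nat.coprime_two_right.1 hY₀c
  have hY3 : Nat.Coprime (Nat.card Y) 3 := by
    apply Nat.Coprime.coprime_dvd_left _ hMc
    rw [hMcard]; exact Dvd.intro _ rfl
  have hYmem : ∀ x : H, x ∈ Y ↔ Nat.Coprime (orderOf x) 6 := by
    intro x
    constructor
    · intro hx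
      have hd : orderOf x ∣ Nat.card Y := Y.orderOf_dvd_natCard hx
      have h2 : Nat.Coprime (Nat.card Y) 2 := Nat.coprime_two_right.2 hYodd
      have h6 : Nat.Coprime (Nat.card Y) 6 := by
        have : (6 : ℕ) = 2 * 3 := by norm_num
        rw [this]; exact Nat.Coprime.mul_right h2 hY3
      exact Nat.Coprime.coprime_dvd_left hd h6
    · intro hx
      have hx2 : Nat.Coprime (orderOf x) 2 := Nat.Coprime.coprime_dvd_right (by norm_num) hx
      have hx3 : Nat.Coprime (orderOf x) 3 := Nat.Coprime.coprime_dvd_right (by norm_num) hx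
      have hxM : x ∈ M := by
        apply mem_of_coprime_index
        rw [hk]; exact Nat.Coprime.pow_right k hx3
      have hxY₀ : (⟨x, hxM⟩ : ↥M) ∈ Y₀ := by
        apply mem_of_coprime_index
        rw [he, Subgroup.orderOf_mk]; exact Nat.Coprime.pow_right e hx2
      exact ⟨⟨x, hxM⟩, hxY₀, rfl⟩
  have hYn : Y.Normal := by
    constructor
    intro n hn g
    rw [hYmem] at hn ⊢
    rwa [orderOf_conj']
  haveI := hYn
  have hYσ : ∀ y ∈ Y, σ y ∈ Y := by
    intro y hy
    rw [hYmem] at hy ⊢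
    rwa [MulEquiv.orderOf_eq]
  have hYc : Y ≤ Subgroup.center H := sigma_central σ hσ j hj2 hfix' hno Y hYσ hYodd
  exact ⟨M, Y, k, e, hMn, hk, hMc, hYM, hYc, hYodd, hY3, hMcard, hHcard⟩

include hσ hj1 hj2 hjuniq hfix h3 hno in
/-- **the structure theorem** -/
theorem structure_main : (¬ ∀ a b : H, a * b = b * a) ∧
    Nat.card H ≤ 12 * Nat.card (Subgroup.center H) ∧
    6 ∣ Nat.card (Subgroup.center H) ∧ 72 ∣ Nat.card H := by
  haveI : Fact (Nat.Prime 3) := ⟨by norm_num⟩
  haveI : Fact (Nat.Prime 2) := ⟨Nat.prime_two⟩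
  obtain ⟨M, Y, k, e, hMn, hk, hMc, hYM, hYc, hYodd, hY3, hMcard, hHcard⟩ :=
    exists_central_hall σ hσ j hj1 hj2 hjuniq hfix h3 hno
  haveI := hMn
  obtain ⟨T⟩ : Nonempty (Sylow 2 H) := inferInstance
  obtain ⟨hTcard, hTM, hTn⟩ := sylow_two_normal M Y k e hk hYM hYc hYodd hMcard hHcard T
  haveI := hTn
  have hY2 : Nat.Coprime (Nat.card Y) 2 := Nat.coprime_two_right.2 hYodd
  obtain ⟨P⟩ : Nonempty (Sylow 3 H) := inferInstance
  haveI hPcyc : IsCyclic ↥P := isCyclic_sylow_three h3 P
  have hPcard : Nat.card P = 3 ^ k := by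
    have h1 : 3 ^ k ∣ Nat.card P := by
      apply P.pow_dvd_card_of_pow_dvd_card
      rw [hHcard]; exact Dvd.intro_left _ rfl
    obtain ⟨i, hi⟩ := IsPGroup.iff_card.1 P.isPGroup'
    have h2 : Nat.card P ∣ Nat.card Y * 2 ^ e * 3 ^ k := by
      rw [← hHcard]; exact Subgroup.card_subgroup_dvd_card _
    have h3' : Nat.card P ∣ 3 ^ k := by
      apply Nat.Coprime.dvd_of_dvd_mul_left _ h2
      rw [hi]
      apply Nat.Coprime.pow_left
      apply Nat.Coprime.mul_right hY3.symm
      exact Nat.Coprime.pow_right e (by norm_num)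
    exact Nat.dvd_antisymm h3' h1
  obtain ⟨d', hd'⟩ := IsCyclic.exists_generator (α := ↥P)
  set d : H := (d' : H) with hddef
  have hdo : orderOf d = 3 ^ k := by
    have h1 : orderOf d' = Nat.card ↥P := orderOf_eq_card_of_forall_mem_zpowers hd'
    rw [hddef, Subgroup.orderOf_coe, h1]; exact hPcard
  have hPd : ∀ x ∈ (P : Subgroup H), ∃ n : ℤ, d ^ n = x := by
    intro x hx
    obtain ⟨n, hn⟩ := Subgroup.mem_zpowers_iff.1 (hd' ⟨x, hx⟩)
    refine ⟨n, ?_⟩
    have := congrArg Subtype.val hn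
    rwa [Subgroup.coe_zpow] at this
  have hjo : orderOf j = 2 := orderOf_eq_prime (by rw [pow_two]; exact hj2) hj1
  have hTidx : (T : Subgroup H).index = Nat.card Y * 3 ^ k := by
    have h1 := (T : Subgroup H).card_mul_index
    rw [hTcard, hHcard] at h1
    have h2 : 2 ^ e * (T : Subgroup H).index = 2 ^ e * (Nat.card Y * 3 ^ k) := by
      rw [h1]; ring
    exact Nat.eq_of_mul_eq_mul_left (by positivity) h2
  have hjT : j ∈ (T : Subgroup H) := by
    apply mem_of_coprime_index
    rw [hjo, hTidx]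
    exact Nat.Coprime.mul_right hY2.symm (Nat.Coprime.pow_right k (by norm_num))
  have heven : 2 ∣ Nat.card H := hjo ▸ orderOf_dvd_natCard j
  set β : MulAut ↥(T : Subgroup H) := MulAut.conjNormal d with hβdef
  by_cases hβ : β = 1
  · exfalso
    have hdT : ∀ t ∈ (T : Subgroup H), d * t * d⁻¹ = t := by
      intro t ht
      have h1 : ((β ⟨t, ht⟩ : ↥(T : Subgroup H)) : H) = d * t * d⁻¹ :=
        MulAut.conjNormal_apply d ⟨t, ht⟩
      rw [hβ] at h1
      exact h1.symm
    set C := Subgroup.centralizer ((T : Subgroup H) : Set H) with hCdef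
    have hYC : Y ≤ C := by
      intro y hy
      rw [Subgroup.mem_centralizer_iff]
      intro t _
      exact Subgroup.mem_center_iff.1 (hYc hy) t
    have hPC : (P : Subgroup H) ≤ C := by
      intro x hx
      obtain ⟨n, rfl⟩ := hPd x hx
      rw [Subgroup.mem_centralizer_iff]
      intro t ht
      have hc : Commute d t := by
        show d * t = t * d
        calc d * t = (d * t * d⁻¹) * d := by group
          _ = t * d := by rw [hdT t ht]
      exact ((hc.zpow_left n).eq).symm
    have hidx : C.index ∣ 2 ^ e := by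
      have h1 : Nat.card Y * 3 ^ k ∣ Nat.card C := by
        apply Nat.Coprime.mul_dvd_of_dvd_of_dvd (Nat.Coprime.pow_right k hY3)
          (Subgroup.card_dvd_of_le hYC)
        rw [← hPcard]; exact Subgroup.card_dvd_of_le hPC
      obtain ⟨m, hm⟩ := h1
      have h2 := C.card_mul_index
      rw [hm, hHcard] at h2
      have h3' : Nat.card Y * 3 ^ k * (m * C.index) = Nat.card Y * 3 ^ k * 2 ^ e := by
        rw [← mul_assoc, h2]; ring
      have h4 : m * C.index = 2 ^ e := Nat.eq_of_mul_eq_mul_left (by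
        have := Nat.card_pos (α := Y); positivity) h3'
      exact Dvd.intro_left _ h4
    have hnc : HasNormalPComplement 2 H := by
      apply Cfsg.Agent.Lib.Lead.NormalPComplement.hasNormalPComplement_of_p'_centralize T
      intro Q hQ g hg hcop
      have hgC : g ∈ C := by
        apply mem_of_coprime_index
        exact Nat.Coprime.coprime_dvd_right hidx (Nat.Coprime.pow_right e hcop)
      rw [Subgroup.mem_centralizer_iff]
      intro x hx
      exact Subgroup.mem_centralizer_iff.1 hgC x (hQ hx)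
    obtain ⟨N, hN⟩ := exists_index_two_of_hasNormalPComplement hnc heven
    exact hno N hN
  · -- the main case
    have hβpow : β ^ (3 ^ k) = 1 := by
      rw [hβdef, ← map_pow, ← hdo, pow_orderOf_eq_one, map_one]
    have hz1 : (⟨j, hjT⟩ : ↥(T : Subgroup H)) ≠ 1 := by
      intro h
      exact hj1 (congrArg Subtype.val h)
    have hz2 : (⟨j, hjT⟩ : ↥(T : Subgroup H)) * ⟨j, hjT⟩ = 1 := Subtype.ext hj2
    have huniqT : ∀ x : ↥(T : Subgroup H), x * x = 1 → x = 1 ∨ x = ⟨j, hjT⟩ := by
      intro x hx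
      have h1 : (x : H) * (x : H) = 1 := by
        have := congrArg Subtype.val hx
        simpa using this
      rcases hjuniq _ h1 with h | h
      · left; exact Subtype.ext h
      · right; exact Subtype.ext h
    obtain ⟨eT⟩ := Cfsg.Agent.H2.NCA.lemmaL T.isPGroup' ⟨j, hjT⟩ hz1 hz2 huniqT β hβ (3 ^ k)
      (Odd.pow ⟨1, rfl⟩) hβpow
    have hT8 : Nat.card T = 8 := by
      rw [Nat.card_congr eT.toEquiv, Nat.card_eq_fintype_card, QuaternionGroup.card]
    have he8 : 2 ^ e = 8 := by rw [← hTcard]; exact hT8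
    have hnonab : ¬ ∀ a b : H, a * b = b * a := by
      intro hab
      apply not_comm_q8
      intro a b
      have h1 := hab ((eT.symm a : ↥(T : Subgroup H)) : H) ((eT.symm b : ↥(T : Subgroup H)) : H)
      have h2 : eT.symm a * eT.symm b = eT.symm b * eT.symm a := Subtype.ext h1
      have h3' := congrArg eT h2
      simpa using h3'
    have hβ24 : β ^ 24 = 1 := aut_pow_24 eT β
    have hk2 : 2 ≤ k := by
      by_contra hcon
      push Not at hcon
      apply hβ
      have hdc : d ∈ Subgroup.center H := by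
        interval_cases k
        · rw [pow_zero, orderOf_eq_one_iff] at hdo
          rw [hdo]; exact Subgroup.one_mem _
        · rw [pow_one] at hdo
          exact order_three_central σ hσ j hj2 hjuniq hfix h3 hno d hdo
      ext t
      rw [hβdef, MulAut.conjNormal_apply, MulAut.one_apply]
      have := Subgroup.mem_center_iff.1 hdc (t : H)
      rw [← this]; group
    have hβ3 : β ^ 3 = 1 := by
      have hg : β ^ Nat.gcd (3 ^ k) 24 = 1 := pow_gcd_eq_one.2 ⟨hβpow, hβ24⟩
      have hd3 : Nat.gcd (3 ^ k) 24 ∣ 3 := by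
        have h1 : Nat.gcd (3 ^ k) 24 ∣ 3 * 8 := Nat.gcd_dvd_right _ _
        apply Nat.Coprime.dvd_of_dvd_mul_right _ h1
        apply Nat.Coprime.coprime_dvd_left (Nat.gcd_dvd_left _ _)
        exact Nat.Coprime.pow_left k (by norm_num)
      obtain ⟨m, hm⟩ := hd3
      rw [hm, pow_mul, hg, one_pow]
    have hd3T : ∀ t ∈ (T : Subgroup H), d ^ 3 * t = t * d ^ 3 := by
      intro t ht
      have h1 : (((β ^ 3) ⟨t, ht⟩ : ↥(T : Subgroup H)) : H) = d ^ 3 * t * (d ^ 3)⁻¹ := by
        rw [hβdef, ← map_pow]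
        exact MulAut.conjNormal_apply (d ^ 3) ⟨t, ht⟩
      rw [hβ3] at h1
      have h2 : t = d ^ 3 * t * (d ^ 3)⁻¹ := h1
      calc d ^ 3 * t = (d ^ 3 * t * (d ^ 3)⁻¹) * d ^ 3 := by group
        _ = t * d ^ 3 := by rw [← h2]
    -- `d ^ 3` is central
    have hd3c : d ^ 3 ∈ Subgroup.center H := by
      set C' := Subgroup.centralizer ({d ^ 3} : Set H) with hC'def
      have hmemC' : ∀ g : H, g ∈ C' ↔ d ^ 3 * g = g * d ^ 3 := by
        intro g
        rw [hC'def, Subgroup.mem_centralizer_iff]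
        constructor
        · intro h; exact h _ rfl
        · intro h x hx
          rw [Set.mem_singleton_iff.1 hx]; exact h
      have hYC' : Y ≤ C' := by
        intro y hy
        rw [hmemC']
        exact Subgroup.mem_center_iff.1 (hYc hy) (d ^ 3)
      have hTC' : (T : Subgroup H) ≤ C' := by
        intro t ht
        rw [hmemC']; exact hd3T t ht
      have hPC' : (P : Subgroup H) ≤ C' := by
        intro x hx
        obtain ⟨n, rfl⟩ := hPd x hx
        rw [hmemC']
        exact (((Commute.refl d).pow_left 3).zpow_right n).eq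
      have hdvd : Nat.card Y * 2 ^ e * 3 ^ k ∣ Nat.card C' := by
        apply mul_dvd_of_coprime3 (Nat.Coprime.pow_right e hY2) (Nat.Coprime.pow_right k hY3)
          (Nat.Coprime.pow e k (by norm_num)) (Subgroup.card_dvd_of_le hYC')
        · rw [← hTcard]; exact Subgroup.card_dvd_of_le hTC'
        · rw [← hPcard]; exact Subgroup.card_dvd_of_le hPC'
      have htop : C' = ⊤ := by
        apply Subgroup.eq_top_of_le_card
        rw [hHcard]
        exact Nat.le_of_dvd Nat.card_pos hdvd
      rw [Subgroup.mem_center_iff]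
      intro g
      have hg : g ∈ C' := htop ▸ Subgroup.mem_top g
      exact ((hmemC' g).1 hg).symm
    have hjc : j ∈ Subgroup.center H := by
      rw [Subgroup.mem_center_iff]
      intro g
      have h1 : (g * j * g⁻¹) * (g * j * g⁻¹) = 1 := by
        calc (g * j * g⁻¹) * (g * j * g⁻¹) = g * (j * j) * g⁻¹ := by group
          _ = 1 := by rw [hj2]; group
      rcases hjuniq _ h1 with h | h
      · exfalso
        apply hj1
        have : j = g⁻¹ * (g * j * g⁻¹) * g := by group
        rw [this, h]; group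
      · calc g * j = (g * j * g⁻¹) * g := by group
          _ = j * g := by rw [h]
    have hd3o : orderOf (d ^ 3) = 3 ^ (k - 1) := by
      rw [orderOf_pow' d (by norm_num : (3 : ℕ) ≠ 0), hdo]
      have hk' : k = (k - 1) + 1 := by omega
      rw [hk', pow_succ, Nat.gcd_eq_right (Dvd.intro_left _ rfl)]
      rw [Nat.mul_div_cancel _ (by norm_num : 0 < 3)]
      congr 1
    have hZ2 : 2 ∣ Nat.card (Subgroup.center H) := by
      rw [← hjo]; exact Subgroup.orderOf_dvd_natCard _ hjc
    have hZY : Nat.card Y ∣ Nat.card (Subgroup.center H) := Subgroup.card_dvd_of_le hYc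
    have hZ3 : 3 ^ (k - 1) ∣ Nat.card (Subgroup.center H) := by
      rw [← hd3o]; exact Subgroup.orderOf_dvd_natCard _ hd3c
    have hprod : 2 * Nat.card Y * 3 ^ (k - 1) ∣ Nat.card (Subgroup.center H) :=
      mul_dvd_of_coprime3 hY2.symm (Nat.Coprime.pow_right _ (by norm_num))
        (Nat.Coprime.pow_right _ hY3) hZ2 hZY hZ3
    have hHeq : Nat.card H = 12 * (2 * Nat.card Y * 3 ^ (k - 1)) := by
      rw [hHcard, he8]
      have hk' : k = (k - 1) + 1 := by omega
      conv_lhs => rw [hk', pow_succ]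
      ring
    refine ⟨hnonab, ?_, ?_, ?_⟩
    · rw [hHeq]
      exact Nat.mul_le_mul_left 12 (Nat.le_of_dvd Nat.card_pos hprod)
    · have h3Z : 3 ∣ Nat.card (Subgroup.center H) := by
        apply dvd_trans _ hZ3
        have hk' : k - 1 = (k - 2) + 1 := by omega
        rw [hk', pow_succ]; exact Dvd.intro_left _ rfl
      have : (6 : ℕ) = 2 * 3 := by norm_num
      rw [this]
      exact Nat.Coprime.mul_dvd_of_dvd_of_dvd (by norm_num) hZ2 h3Z
    · rw [hHcard, he8]
      have hk' : k = (k - 2) + 2 := by omega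
      rw [hk', pow_add]
      exact ⟨Nat.card Y * 3 ^ (k - 2), by ring⟩

end

end Cfsg.Agent.Lib.Helper8.Sh3
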