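import Mathlib
import Cfsg.Agent.Lib.Helper8.Sh3A

/-!
# Sharply 3-transitive groups of even degree (towards S0729), part D: the action on the kernel

(author: helper8)
-/

set_option autoImplicit false
set_option linter.unusedVariables false
set_option linter.unusedSectionVars false
set_option linter.style.haveILetI false
set_option maxHeartbeats 800000

namespace Cfsg.Agent.Lib.Helper8.Sh3

/-- the additive endomorphism attached to an automorphism of a commutative group -/
def toEnd {U : Type*} [CommGroup U] (f : MulAut U) : AddMonoid.End (Additive U) :=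
  MonoidHom.toAdditive f.toMonoidHom

theorem toEnd_apply {U : Type*} [CommGroup U] (f : MulAut U) (u : U) :
    toEnd f (Additive.ofMul u) = Additive.ofMul (f u) := rfl

theorem toEnd_mul {U : Type*} [CommGroup U] (f g : MulAut U) :
    toEnd (f * g) = toEnd f * toEnd g := rfl

/-- **Schur-type lemma**: if a commuting set `Z` of automorphisms of a commutative group `U` leaves no proper
non-trivial subgroup invariant, then any two automorphisms commuting with `Z` commute. -/
theorem comm_of_irreducible {U : Type*} [CommGroup U] (Z : Set (MulAut U))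
    (hZ : ∀ a ∈ Z, ∀ b ∈ Z, a * b = b * a)
    (hirr : ∀ U₁ : Subgroup U, (∀ c ∈ Z, ∀ u ∈ U₁, c u ∈ U₁) → U₁ = ⊥ ∨ U₁ = ⊤)
    (f g : MulAut U) (hf : ∀ c ∈ Z, f * c = c * f) (hg : ∀ c ∈ Z, g * c = c * g) :
    f * g = g * f := by
  classical
  by_cases hU : ∀ u : U, u = 1
  · ext u
    rw [hU ((f * g) u), hU ((g * f) u)]
  push Not at hU
  obtain ⟨u₀, hu₀⟩ := hU
  set s : Set (AddMonoid.End (Additive U)) := toEnd '' Z with hs
  set R := Subring.closure s with hR
  have hscomm : ∀ x ∈ s, ∀ y ∈ s, x * y = y * x := by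
    rintro x ⟨a, ha, rfl⟩ y ⟨b, hb, rfl⟩
    rw [← toEnd_mul, ← toEnd_mul, hZ a ha b hb]
  have hRcomm : ∀ r ∈ R, ∀ r' ∈ R, r * r' = r' * r := by
    intro r hr r' hr'
    have := (Subring.isMulCommutative_closure hscomm).is_comm.comm
      (⟨r, hr⟩ : Subring.closure s) ⟨r', hr'⟩
    exact congrArg Subtype.val this
  -- automorphisms commuting with `Z` commute with `R`
  have hcomR : ∀ f' : MulAut U, (∀ c ∈ Z, f' * c = c * f') → ∀ r ∈ R, toEnd f' * r = r * toEnd f' := by
    intro f' hf' r hr
    have hle : R ≤ Subring.centralizer {toEnd f'} := by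
      rw [hR, Subring.closure_le]
      rintro x ⟨c, hc, rfl⟩
      rw [SetLike.mem_coe, Subring.mem_centralizer_iff]
      intro y hy
      rw [Set.mem_singleton_iff.1 hy, ← toEnd_mul, ← toEnd_mul, hf' c hc]
    have := Subring.mem_centralizer_iff.1 (hle hr) (toEnd f') rfl
    exact this
  set a₀ : Additive U := Additive.ofMul u₀ with ha₀
  -- the cyclic submodule generated by `u₀`
  let U₁ : Subgroup U :=
    { carrier := {u | ∃ r ∈ R, r a₀ = Additive.ofMul u}
      one_mem' := ⟨0, R.zero_mem, rfl⟩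
      mul_mem' := by
        rintro a b ⟨r, hr, hra⟩ ⟨r', hr', hrb⟩
        refine ⟨r + r', R.add_mem hr hr', ?_⟩
        show r a₀ + r' a₀ = _
        rw [hra, hrb]; rfl
      inv_mem' := by
        rintro a ⟨r, hr, hra⟩
        refine ⟨-r, R.neg_mem hr, ?_⟩
        show -(r a₀) = _
        rw [hra]; rfl }
  have hU₁inv : ∀ c ∈ Z, ∀ u ∈ U₁, c u ∈ U₁ := by
    rintro c hc u ⟨r, hr, hru⟩
    refine ⟨toEnd c * r, R.mul_mem (Subring.subset_closure ⟨c, hc, rfl⟩) hr, ?_⟩
    show toEnd c (r a₀) = _
    rw [hru]; rfl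
  have hu₀U₁ : u₀ ∈ U₁ := ⟨1, R.one_mem, rfl⟩
  have htop : U₁ = ⊤ := by
    rcases hirr U₁ hU₁inv with h | h
    · exfalso
      rw [h, Subgroup.mem_bot] at hu₀U₁
      exact hu₀ hu₀U₁
    · exact h
  have hall : ∀ u : U, ∃ r ∈ R, r a₀ = Additive.ofMul u := by
    intro u
    have : u ∈ U₁ := htop ▸ Subgroup.mem_top u
    exact this
  obtain ⟨rf, hrf, hrf'⟩ := hall (f u₀)
  obtain ⟨rg, hrg, hrg'⟩ := hall (g u₀)
  have hfa : toEnd f a₀ = rf a₀ := hrf'.symm
  have hga : toEnd g a₀ = rg a₀ := hrg'.symm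
  ext u
  obtain ⟨r, hr, hru⟩ := hall u
  have key : ∀ (f' g' : MulAut U) (rf' rg' : AddMonoid.End (Additive U)),
      (∀ r ∈ R, toEnd f' * r = r * toEnd f') → (∀ r ∈ R, toEnd g' * r = r * toEnd g') →
      rf' ∈ R → rg' ∈ R → toEnd f' a₀ = rf' a₀ → toEnd g' a₀ = rg' a₀ →
      toEnd f' (toEnd g' (r a₀)) = (r * rg' * rf') a₀ := by
    intro f' g' rf' rg' hcf hcg hrf hrg hf0 hg0
    have h1 : toEnd g' (r a₀) = r (rg' a₀) := by
      have := DFunLike.congr_fun (hcg r hr) a₀
      rw [← hg0]
      exact this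
    rw [h1]
    have h2 : toEnd f' (r (rg' a₀)) = (r * rg') (rf' a₀) := by
      have := DFunLike.congr_fun (hcf (r * rg') (R.mul_mem hr hrg)) a₀
      rw [← hf0]
      exact this
    rw [h2]; rfl
  have e1 := key f g rf rg (hcomR f hf) (hcomR g hg) hrf hrg hfa hga
  have e2 := key g f rg rf (hcomR g hg) (hcomR f hf) hrg hrf hga hfa
  have e3 : (r * rg * rf) = (r * rf * rg) := by
    rw [mul_assoc, hRcomm rg hrg rf hrf, ← mul_assoc]
  have e4 : toEnd f (toEnd g (Additive.ofMul u)) = toEnd g (toEnd f (Additive.ofMul u)) := by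
    rw [← hru, e1, e2, e3]
  exact Additive.ofMul.injective e4

universe u v

/-- a group of even order acting fixed-point-freely on a finite group `U`: `U` is commutative and the
involution of `H` is unique -/
theorem kernel_comm_and_unique_invol {H : Type u} [Group H] [Finite H] {U : Type v} [Group U]
    [Finite U] (φ : H →* MulAut U)
    (hfpf : ∀ h : H, h ≠ 1 → ∀ u : U, φ h u = u → u = 1)
    (hcard : Nat.card U = Nat.card H + 1) (heven : 2 ∣ Nat.card H) :
    (∀ u v : U, u * v = v * u) ∧
      ∃ j : H, j ≠ 1 ∧ j * j = 1 ∧ ∀ x : H, x * x = 1 → x = 1 ∨ x = j := by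
  haveI : Fact (Nat.Prime 2) := ⟨Nat.prime_two⟩
  obtain ⟨j, hjo⟩ := exists_prime_orderOf_dvd_card' (G := H) 2 heven
  have hj1 : j ≠ 1 := by
    rintro rfl
    rw [orderOf_one] at hjo
    omega
  have hj2 : j * j = 1 := by
    rw [← pow_two, ← hjo]; exact pow_orderOf_eq_one j
  have hinvol : ∀ x : H, x * x = 1 → ∀ u, φ x (φ x u) = u := by
    intro x hx u
    have : (φ x * φ x) u = u := by rw [← map_mul, hx, map_one]; rfl
    exact this
  have hj := comm_of_fpf_invol (φ j) (hinvol j hj2) (hfpf j hj1)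
  refine ⟨hj.2, j, hj1, hj2, ?_⟩
  intro x hx
  by_cases hx1 : x = 1
  · left; exact hx1
  right
  have hxinv := (comm_of_fpf_invol (φ x) (hinvol x hx) (hfpf x hx1)).1
  haveI : Nontrivial U := by
    rw [← Finite.one_lt_card_iff_nontrivial, hcard]
    have := Nat.card_pos (α := H)
    omega
  obtain ⟨u, hu⟩ := exists_ne (1 : U)
  have h1 : φ (j * x) u = u := by
    rw [map_mul]
    show φ j (φ x u) = u
    rw [hxinv u, hj.1, inv_inv]
  have h2 : j * x = 1 := by
    by_contra hne
    exact hu (hfpf _ hne u h1)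
  calc x = (j * j) * x := by rw [hj2, one_mul]
    _ = j * (j * x) := by group
    _ = j := by rw [h2, mul_one]

/-- the numerical core of the counting argument -/
theorem counting_arith {z m₁ m₂ n c : ℕ} (hz : 0 < z) (h1 : z ∣ m₁ - 1) (h2 : z ∣ n - m₁)
    (hn : n = m₁ * m₂) (hm1 : 2 ≤ m₁) (hm1n : m₁ < n) (hc : n = c + 1) (h12 : c ≤ 12 * z)
    (h6 : 6 ∣ z) (h72 : 72 ∣ c) : False := by
  have hm2 : 2 ≤ m₂ := by
    rcases m₂ with _ | _ | m₂
    · rw [hn] at hm1n; omega
    · rw [hn] at hm1n; omega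
    · omega
  -- `z` is prime to `m₁`
  have hcop : Nat.Coprime z m₁ := by
    have hg1 : Nat.gcd z m₁ ∣ m₁ - 1 := dvd_trans (Nat.gcd_dvd_left _ _) h1
    have hg2 : Nat.gcd z m₁ ∣ m₁ := Nat.gcd_dvd_right _ _
    have hg3 : Nat.gcd z m₁ ∣ m₁ - (m₁ - 1) := Nat.dvd_sub hg2 hg1
    have : m₁ - (m₁ - 1) = 1 := by omega
    rw [this] at hg3
    exact Nat.dvd_one.1 hg3
  have h3 : z ∣ m₂ - 1 := by
    have h4 : n - m₁ = m₁ * (m₂ - 1) := by
      rw [hn, Nat.mul_sub, mul_one]
    rw [h4] at h2
    exact hcop.dvd_of_dvd_mul_left h2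
  have hz1 : z ≤ m₁ - 1 := Nat.le_of_dvd (by omega) h1
  have hz2 : z ≤ m₂ - 1 := Nat.le_of_dvd (by omega) h3
  have hn2 : (z + 1) * (z + 1) ≤ n := by
    rw [hn]
    exact Nat.mul_le_mul (by omega) (by omega)
  have hz10 : z ≤ 10 := by
    by_contra hcon
    push Not at hcon
    nlinarith
  obtain ⟨t, ht⟩ := h6
  have hz6 : z = 6 := by omega
  subst hz6
  obtain ⟨w, hw⟩ := h72
  have hc72 : c = 72 := by
    have : 37 ≤ c + 1 := by rw [← hc]; omega
    omega
  have hn73 : n = 73 := by omega
  have hp : Nat.Prime 73 := by norm_num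
  have hd : m₁ ∣ 73 := by rw [← hn73, hn]; exact Dvd.intro _ rfl
  rcases (Nat.dvd_prime hp).1 hd with h | h
  · omega
  · omega

/-- **the counting argument**: the structure found in part C is incompatible with a regular
fixed-point-free action on the non-identity elements of a commutative group -/
theorem false_of_structure {H : Type u} [Group H] [Finite H] {U : Type v} [CommGroup U]
    [Finite U] (φ : H →* MulAut U)
    (hfpf : ∀ h : H, h ≠ 1 → ∀ u : U, φ h u = u → u = 1)
    (hcard : Nat.card U = Nat.card H + 1)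
    (hnonab : ¬ ∀ a b : H, a * b = b * a)
    (h12 : Nat.card H ≤ 12 * Nat.card (Subgroup.center H))
    (h6 : 6 ∣ Nat.card (Subgroup.center H)) (h72 : 72 ∣ Nat.card H) : False := by
  classical
  haveI : Nontrivial U := by
    rw [← Finite.one_lt_card_iff_nontrivial, hcard]
    have := Nat.card_pos (α := H)
    omega
  obtain ⟨u₁, hu₁⟩ := exists_ne (1 : U)
  have hinj : Function.Injective φ := by
    rw [injective_iff_map_eq_one]
    intro h hh
    by_contra hne
    apply hu₁
    apply hfpf h hne u₁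
    rw [hh]; rfl
  by_cases hirr : ∀ U₁ : Subgroup U,
      (∀ c ∈ Subgroup.center H, ∀ u ∈ U₁, φ c u ∈ U₁) → U₁ = ⊥ ∨ U₁ = ⊤
  · -- the irreducible case
    apply hnonab
    intro a b
    apply hinj
    rw [map_mul, map_mul]
    apply comm_of_irreducible (φ '' (Subgroup.center H : Set H))
    · rintro x ⟨c, hc, rfl⟩ y ⟨c', hc', rfl⟩
      rw [← map_mul, ← map_mul, Subgroup.mem_center_iff.1 hc c']
    · intro U₁ hU₁
      apply hirr U₁
      intro c hc u hu
      exact hU₁ (φ c) ⟨c, hc, rfl⟩ u hu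
    · rintro x ⟨c, hc, rfl⟩
      rw [← map_mul, ← map_mul, Subgroup.mem_center_iff.1 hc a]
    · rintro x ⟨c, hc, rfl⟩
      rw [← map_mul, ← map_mul, Subgroup.mem_center_iff.1 hc b]
  · push Not at hirr
    obtain ⟨U₁, hU₁inv, hU₁bot, hU₁top⟩ := hirr
    letI : MulAction (Subgroup.center H) U :=
      { smul := fun c u => φ c u
        one_smul := fun u => by
          show φ ((1 : Subgroup.center H) : H) u = u
          rw [Subgroup.coe_one, map_one]; rfl
        mul_smul := fun a b u => by
          show φ ((a * b : Subgroup.center H) : H) u = φ a (φ b u)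
          rw [Subgroup.coe_mul, map_mul]; rfl }
    have hsmul : ∀ (c : Subgroup.center H) (u : U), c • u = φ c u := fun _ _ => rfl
    have hfree : ∀ (c : Subgroup.center H) (u : U), u ≠ 1 → c • u = u → c = 1 := by
      intro c u hu hcu
      by_contra hne
      apply hu
      apply hfpf (c : H) _ u hcu
      intro h
      exact hne (Subtype.ext h)
    have hd1 : Nat.card (Subgroup.center H) ∣ Nat.card U₁ - 1 := by
      have h := card_dvd_ncard_of_free (K := Subgroup.center H) ((U₁ : Set U) \ {1})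
        (Set.toFinite _)
        (by
          rintro c u ⟨hu, hu1⟩
          refine ⟨hU₁inv c c.2 u hu, ?_⟩
          intro h
          apply hu1
          rw [Set.mem_singleton_iff] at h ⊢
          rw [hsmul] at h
          have : φ (c : H) u = φ (c : H) 1 := by rw [h, map_one]
          exact (φ (c : H)).injective this)
        (by
          rintro c u ⟨hu, hu1⟩ hcu
          exact hfree c u hu1 hcu)
      rwa [Set.ncard_sdiff_singleton_of_mem (Subgroup.one_mem U₁), ← Nat.card_coe_set_eq] at h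
    have hd2 : Nat.card (Subgroup.center H) ∣ Nat.card U - Nat.card U₁ := by
      have h := card_dvd_ncard_of_free (K := Subgroup.center H) ((U₁ : Set U)ᶜ)
        (Set.toFinite _)
        (by
          intro c u hu hcu
          apply hu
          have h1 := hU₁inv (c⁻¹ : Subgroup.center H) (c⁻¹).2 (c • u) hcu
          rw [hsmul] at h1
          have h2 : φ ((c⁻¹ : Subgroup.center H) : H) (φ (c : H) u) = u := by
            rw [Subgroup.coe_inv, map_inv]
            exact (φ (c : H)).symm_apply_apply u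
          rw [h2] at h1
          exact h1)
        (by
          intro c u hu hcu
          apply hfree c u _ hcu
          rintro rfl
          exact hu (Subgroup.one_mem U₁))
      rwa [Set.ncard_compl, ← Nat.card_coe_set_eq] at h
    have hm1 : 2 ≤ Nat.card U₁ := by
      have h1 : Nat.card U₁ ≠ 1 := fun h => hU₁bot (Subgroup.card_eq_one.1 h)
      have h2 := Nat.card_pos (α := U₁)
      omega
    have hm1n : Nat.card U₁ < Nat.card U := by
      have h1 : Nat.card U₁ ≠ Nat.card U := fun h => hU₁top ((Subgroup.card_eq_iff_eq_top U₁).1 h)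
      have h2 := Subgroup.card_le_card_group U₁
      omega
    have hn : Nat.card U = Nat.card U₁ * U₁.index := (U₁.card_mul_index).symm
    exact counting_arith Nat.card_pos hd1 hd2 hn hm1 hm1n hcard h12 h6 h72

end Cfsg.Agent.Lib.Helper8.Sh3
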