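import Mathlib
import Cfsg.Agent.Lib.Helper8.Sh3C
import Cfsg.Agent.Lib.Helper8.Sh3D

/-!
# Sharply 3-transitive groups of even degree (towards S0729), part E: the abstract theorem

(author: helper8)

A finite group `H` of even order acting regularly (by automorphisms) on the non-identity elements of a finite group
`U`, with an involutory automorphism `σ` all of whose fixed points are of order at most 2, and with at most one
subgroup of order 3, has a `σ`-stable subgroup of index 2.
-/

set_option autoImplicit false
set_option linter.unusedVariables false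
set_option linter.unusedSectionVars false
set_option linter.style.haveILetI false

namespace Cfsg.Agent.Lib.Helper8.Sh3

universe u v

theorem exists_index_two_sigma {H : Type u} [Group H] [Finite H] {U : Type v} [Group U] [Finite U]
    (φ : H →* MulAut U)
    (hfpf : ∀ h : H, h ≠ 1 → ∀ u : U, φ h u = u → u = 1)
    (hcard : Nat.card U = Nat.card H + 1) (heven : 2 ∣ Nat.card H)
    (σ : H ≃* H) (hσ : ∀ h, σ (σ h) = h) (hfix : ∀ h, σ h = h → h * h = 1)
    (h3 : ∀ x y : H, orderOf x = 3 → orderOf y = 3 → y ∈ Subgroup.zpowers x) :
    ∃ N : Subgroup H, N.index = 2 ∧ ∀ n ∈ N, σ n ∈ N := by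
  obtain ⟨hcomm, j, hj1, hj2, hjuniq⟩ := kernel_comm_and_unique_invol φ hfpf hcard heven
  have hex : ∃ N : Subgroup H, N.index = 2 := by
    by_contra hno
    push Not at hno
    obtain ⟨hnonab, h12, h6, h72⟩ := structure_main σ hσ j hj1 hj2 hjuniq hfix h3 hno
    letI : CommGroup U := { ‹Group U› with mul_comm := hcomm }
    exact false_of_structure φ hfpf hcard hnonab h12 h6 h72
  obtain ⟨N, hN⟩ := hex
  exact exists_sigma_stable_index_two σ hσ N hN

end Cfsg.Agent.Lib.Helper8.Sh3
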