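import Mathlib
import Cfsg.Agent.Lib.Helper8.Sh3E
import Cfsg.Agent.H2.SharpThreeA
import Cfsg.Agent.Lib.Lead.SharpThree
import Cfsg.Agent.Lib.Helper4.WagnerBase

/-!
# Sharply 3-transitive groups of even degree (S0729), part F: the permutation side

(author: helper8)
-/

set_option autoImplicit false
set_option linter.unusedVariables false
set_option linter.unusedSectionVars false
set_option linter.style.haveILetI false
set_option maxHeartbeats 1000000

namespace Cfsg.Agent.Lib.Helper8.Sh3

open MulAction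

/-- **S0729, abstract form**: in a sharply 3-transitive group of even degree the stabiliser `H` of two points
`a, b` has a subgroup of index 2 normalised by the element `s` swapping `a, b` and fixing `c`. -/
theorem sharp3_index_two {Γ α : Type*} [Group Γ] [MulAction Γ α] [Fintype α] [FaithfulSMul Γ α]
    (heven : Even (Fintype.card α)) (h6 : 6 ≤ Fintype.card α)
    (h3 : IsMultiplyPretransitive Γ α 3)
    (hsharp : ∀ x : Fin 3 ↪ α, stabilizer Γ x = ⊥)
    {a b c : α} (hab : a ≠ b) (hac : a ≠ c) (hbc : b ≠ c) (s : Γ) (hsa : s • a = b)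
    (hsb : s • b = a) (hsc : s • c = c) :
    ∃ N : Subgroup Γ, N ≤ stabilizer Γ a ⊓ stabilizer Γ b ∧
      (N.subgroupOf (stabilizer Γ a ⊓ stabilizer Γ b)).Normal ∧
      N.relIndex (stabilizer Γ a ⊓ stabilizer Γ b) = 2 ∧ ∀ n ∈ N, s * n * s⁻¹ ∈ N := by
  classical
  haveI hGfin : Finite Γ :=
    Finite.of_injective (MulAction.toPerm (α := Γ) (β := α)) MulAction.toPerm_injective
  have hfix : ∀ g : Γ, ∀ a b c : α, a ≠ b → b ≠ c → a ≠ c → g • a = a → g • b = b → g • c = c →
      g = 1 := fun g a b c hab hbc hac ha hb hc =>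
    Cfsg.Agent.Lead.SharpThree.eq_one_of_fix3 hsharp g hab hac hbc ha hb hc
  set HS : Subgroup Γ := stabilizer Γ a ⊓ stabilizer Γ b with hHSdef
  have hHSmem : ∀ g : Γ, g ∈ HS ↔ g • a = a ∧ g • b = b := by
    intro g
    rw [hHSdef, Subgroup.mem_inf, mem_stabilizer_iff, mem_stabilizer_iff]
  obtain ⟨K, K1, K2, K3, K4⟩ := Cfsg.Agent.H2.SharpThree.exists_K (by omega) h3 hfix a b c hab hac hbc
  -- regularity of `K`
  have Kreg : ∀ k ∈ K, ∀ k' ∈ K, k • b = k' • b → k = k' := by
    intro k hk k' hk' h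
    by_contra hne
    have h1 : k'⁻¹ * k ≠ 1 := by
      intro h1
      apply hne
      rw [inv_mul_eq_one] at h1
      exact h1.symm
    refine K2 (k'⁻¹ * k) (K.mul_mem (K.inv_mem hk') hk) h1 b hab.symm ?_
    rw [mul_smul, h, inv_smul_smul]
  -- cardinalities
  have hKcard : Nat.card K = Fintype.card α - 1 := by
    have h1 : Nat.card K = Nat.card ({a}ᶜ : Set α) := by
      apply Nat.card_eq_of_bijective (fun k : K => (⟨(k : Γ) • b, by
        intro h
        have h' : (k : Γ) • b = a := h
        rw [← K1 k k.2] at h'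
        exact hab (MulAction.injective (k : Γ) h').symm⟩ : ({a}ᶜ : Set α)))
      constructor
      · intro k k' h
        have h' : (k : Γ) • b = (k' : Γ) • b := congrArg Subtype.val h
        exact Subtype.ext (Kreg k k.2 k' k'.2 h')
      · rintro ⟨x, hx⟩
        obtain ⟨k, hk, hkx⟩ := K3 x hx
        exact ⟨⟨k, hk⟩, Subtype.ext hkx⟩
    rw [h1, Nat.card_coe_set_eq, Set.ncard_compl, Set.ncard_singleton, Nat.card_eq_fintype_card]
  have hHScard : Nat.card HS = Fintype.card α - 2 := by
    have h1 : Nat.card HS = Nat.card (({a, b} : Set α)ᶜ : Set α) := by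
      apply Nat.card_eq_of_bijective (fun h : HS => (⟨(h : Γ) • c, by
        have hh := (hHSmem h).1 h.2
        intro hmem
        rcases hmem with h' | h'
        · have h'' : (h : Γ) • c = a := h'
          rw [← hh.1] at h''
          exact hac (MulAction.injective (h : Γ) h'').symm
        · have h'' : (h : Γ) • c = b := h'
          rw [← hh.2] at h''
          exact hbc (MulAction.injective (h : Γ) h'').symm⟩ : (({a, b} : Set α)ᶜ : Set α)))
      constructor
      · intro h h' hh'
        have e : (h : Γ) • c = (h' : Γ) • c := congrArg Subtype.val hh'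
        have hh := (hHSmem h).1 h.2
        have hh2 := (hHSmem h').1 h'.2
        have : (h' : Γ)⁻¹ * (h : Γ) = 1 := by
          apply hfix _ a b c hab hbc hac
          · rw [mul_smul, hh.1, inv_smul_eq_iff, hh2.1]
          · rw [mul_smul, hh.2, inv_smul_eq_iff, hh2.2]
          · rw [mul_smul, e, inv_smul_smul]
        rw [inv_mul_eq_one] at this
        exact Subtype.ext this.symm
      · rintro ⟨x, hx⟩
        have hxa : x ≠ a := fun h => hx (Or.inl h)
        have hxb : x ≠ b := fun h => hx (Or.inr h)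
        obtain ⟨g, hg1, hg2, hg3⟩ := Cfsg.Agent.Lib.Helper4.Wagner.three_elementwise h3
          hab hac hbc hab (Ne.symm hxa) (Ne.symm hxb)
        exact ⟨⟨g, (hHSmem g).2 ⟨hg1, hg2⟩⟩, Subtype.ext hg3⟩
    rw [h1, Nat.card_coe_set_eq, Set.ncard_compl, Set.ncard_pair hab, Nat.card_eq_fintype_card]
  have hcard : Nat.card K = Nat.card HS + 1 := by
    rw [hKcard, hHScard]; omega
  have hHSeven : 2 ∣ Nat.card HS := by
    rw [hHScard]
    obtain ⟨m, hm⟩ := heven
    omega
  -- the conjugation action of `HS` on `K`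
  have hKle : K ≤ stabilizer Γ a := fun k hk => mem_stabilizer_iff.2 (K1 k hk)
  haveI hKn : (K.subgroupOf (stabilizer Γ a)).Normal := by
    constructor
    intro n hn g
    rw [Subgroup.mem_subgroupOf] at hn ⊢
    have := K4 (g : Γ) (mem_stabilizer_iff.1 g.2) (n : Γ) hn
    simpa using this
  set φ : ↥HS →* MulAut ↥K :=
    ((MulAut.congr (Subgroup.subgroupOfEquivOfLe hKle)).toMonoidHom.comp
      (MulAut.conjNormal (H := K.subgroupOf (stabilizer Γ a)))).comp
      (Subgroup.inclusion (inf_le_left : HS ≤ stabilizer Γ a)) with hφdef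
  have hφ : ∀ (h : ↥HS) (u : ↥K), ((φ h u : ↥K) : Γ) = (h : Γ) * (u : Γ) * (h : Γ)⁻¹ := by
    intro h u
    rfl
  have hfpf : ∀ h : ↥HS, h ≠ 1 → ∀ u : ↥K, φ h u = u → u = 1 := by
    intro h hh u hu
    by_contra hu1
    apply hh
    have hu1' : (u : Γ) ≠ 1 := fun h' => hu1 (Subtype.ext h')
    have hhf := (hHSmem h).1 h.2
    have e : (h : Γ) * (u : Γ) * (h : Γ)⁻¹ = (u : Γ) := by
      rw [← hφ h u, hu]
    have hx1 : (u : Γ) • b ≠ b := K2 u u.2 hu1' b hab.symm
    have hx2 : (u : Γ) • b ≠ a := by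
      intro h'
      rw [← K1 u u.2] at h'
      exact hab (MulAction.injective (u : Γ) h').symm
    have hx3 : (h : Γ) • ((u : Γ) • b) = (u : Γ) • b := by
      have : (h : Γ) * (u : Γ) = (u : Γ) * (h : Γ) := by
        calc (h : Γ) * (u : Γ) = ((h : Γ) * (u : Γ) * (h : Γ)⁻¹) * (h : Γ) := by group
          _ = (u : Γ) * (h : Γ) := by rw [e]
      rw [← mul_smul, this, mul_smul, hhf.2]
    have := hfix (h : Γ) a b ((u : Γ) • b) hab (Ne.symm hx1) (Ne.symm hx2) hhf.1 hhf.2 hx3
    exact Subtype.ext this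
  -- the involution `s`
  have hs2 : s * s = 1 := by
    apply hfix _ a b c hab hbc hac
    · rw [mul_smul, hsa, hsb]
    · rw [mul_smul, hsb, hsa]
    · rw [mul_smul, hsc, hsc]
  have hsinv : s⁻¹ = s := inv_eq_of_mul_eq_one_left hs2
  have hs1 : s ≠ 1 := by
    intro h
    rw [h, one_smul] at hsa
    exact hab hsa
  have hsconj : ∀ h ∈ HS, s * h * s⁻¹ ∈ HS := by
    intro h hh
    have hhf := (hHSmem h).1 hh
    rw [hHSmem, hsinv]
    constructor
    · rw [mul_smul, mul_smul, hsa, hhf.2, hsb]
    · rw [mul_smul, mul_smul, hsb, hhf.1, hsa]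
  have hsN : s ∈ Subgroup.normalizer (HS : Set Γ) := by
    rw [Subgroup.mem_normalizer_iff]
    intro h
    constructor
    · exact hsconj h
    · intro hh
      have := hsconj _ hh
      rw [hsinv] at this
      have e : s * (s * h * s) * s = h := by
        calc s * (s * h * s) * s = (s * s) * h * (s * s) := by group
          _ = h := by rw [hs2]; group
      rw [hsinv] at hh
      rw [e] at this
      exact this
  set σ : ↥HS ≃* ↥HS := conjOn HS s hsN with hσdef
  have hσapp : ∀ h : ↥HS, ((σ h : ↥HS) : Γ) = s * (h : Γ) * s⁻¹ := fun h => conjOn_apply HS s hsN h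
  have hσ : ∀ h, σ (σ h) = h := by
    intro h
    apply Subtype.ext
    rw [hσapp, hσapp, hsinv]
    calc s * (s * (h : Γ) * s) * s = (s * s) * (h : Γ) * (s * s) := by group
      _ = (h : Γ) := by rw [hs2]; group
  have hσfix : ∀ h, σ h = h → h * h = 1 := by
    intro h hh
    have hhf := (hHSmem h).1 h.2
    have e : s * (h : Γ) = (h : Γ) * s := by
      have := congrArg Subtype.val hh
      rw [hσapp] at this
      calc s * (h : Γ) = (s * (h : Γ) * s⁻¹) * s := by group
        _ = (h : Γ) * s := by rw [this]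
    -- the three points `c`, `h c`, `h h c` are fixed by `s`
    have f1 : s • ((h : Γ) • c) = (h : Γ) • c := by
      rw [← mul_smul, e, mul_smul, hsc]
    have f2 : s • ((h : Γ) • (h : Γ) • c) = (h : Γ) • (h : Γ) • c := by
      rw [← mul_smul, e, mul_smul, f1]
    have hcase : (h : Γ) • c = c ∨ (h : Γ) • (h : Γ) • c = c := by
      by_contra hcon
      push Not at hcon
      apply hs1
      refine hfix s c ((h : Γ) • c) ((h : Γ) • (h : Γ) • c) (Ne.symm hcon.1) ?_ (Ne.symm hcon.2)
        hsc f1 f2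
      intro h'
      exact hcon.1 (MulAction.injective (h : Γ) h').symm
    apply Subtype.ext
    show (h : Γ) * (h : Γ) = 1
    rcases hcase with h' | h'
    · have : (h : Γ) = 1 := hfix _ a b c hab hbc hac hhf.1 hhf.2 h'
      rw [this, one_mul]
    · apply hfix _ a b c hab hbc hac
      · rw [mul_smul, hhf.1, hhf.1]
      · rw [mul_smul, hhf.2, hhf.2]
      · rw [mul_smul, h']
  -- at most one subgroup of order 3
  have hle := Cfsg.Agent.Lead.SharpThree.card_order3_le_two (K := Γ) (Ω := α) h3 hsharp hab hac hbc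
  have h3' : ∀ x y : ↥HS, orderOf x = 3 → orderOf y = 3 → y ∈ Subgroup.zpowers x := by
    intro x y hx hy
    by_contra hcon
    have hxo : orderOf (x : Γ) = 3 := by rw [Subgroup.orderOf_coe]; exact hx
    have hyo : orderOf (y : Γ) = 3 := by rw [Subgroup.orderOf_coe]; exact hy
    have hxio : orderOf ((x : Γ)⁻¹) = 3 := by rw [orderOf_inv]; exact hxo
    have hyx : y ≠ x := fun h => hcon (h ▸ Subgroup.mem_zpowers x)
    have hyxi : y ≠ x⁻¹ := fun h => hcon (h ▸ Subgroup.inv_mem _ (Subgroup.mem_zpowers x))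
    have hxx : (x : Γ) ≠ (x : Γ)⁻¹ := by
      intro h
      have h2 : (x : Γ) ^ 2 = 1 := by
        rw [pow_two]
        nth_rewrite 2 [h]
        exact mul_inv_cancel _
      have := orderOf_dvd_of_pow_eq_one h2
      rw [hxo] at this
      omega
    have fx := (hHSmem x).1 x.2
    have fy := (hHSmem y).1 y.2
    have fxi := (hHSmem _).1 (HS.inv_mem x.2)
    haveI : Fintype {z : Γ // z • a = a ∧ z • b = b ∧ orderOf z = 3} := Fintype.ofFinite _
    rw [Nat.card_eq_fintype_card] at hle
    have hlt : 2 < Fintype.card {z : Γ // z • a = a ∧ z • b = b ∧ orderOf z = 3} := by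
      rw [Fintype.two_lt_card_iff]
      refine ⟨⟨(x : Γ), fx.1, fx.2, hxo⟩, ⟨(x : Γ)⁻¹, fxi.1, fxi.2, hxio⟩,
        ⟨(y : Γ), fy.1, fy.2, hyo⟩, ?_, ?_, ?_⟩
      · intro h
        exact hxx (Subtype.mk.inj h)
      · intro h
        have h' : (x : Γ) = (y : Γ) := Subtype.mk.inj h
        exact hyx (Subtype.ext h'.symm)
      · intro h
        have h' : (x : Γ)⁻¹ = (y : Γ) := Subtype.mk.inj h
        exact hyxi (Subtype.ext h'.symm)
    omega
  obtain ⟨N₀, hN₀idx, hN₀σ⟩ := exists_index_two_sigma φ hfpf hcard hHSeven σ hσ hσfix h3'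
  refine ⟨N₀.map HS.subtype, ?_, ?_, ?_, ?_⟩
  · rintro x ⟨y, -, rfl⟩
    exact y.2
  · have : (N₀.map HS.subtype).subgroupOf HS = N₀ :=
      Subgroup.comap_map_eq_self_of_injective HS.subtype_injective N₀
    rw [this]
    exact Subgroup.normal_of_index_eq_two hN₀idx
  · have : (N₀.map HS.subtype).subgroupOf HS = N₀ :=
      Subgroup.comap_map_eq_self_of_injective HS.subtype_injective N₀
    rw [Subgroup.relIndex, this]
    exact hN₀idx
  · rintro n ⟨y, hy, rfl⟩
    refine ⟨σ y, hN₀σ y hy, ?_⟩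
    exact hσapp y

end Cfsg.Agent.Lib.Helper8.Sh3
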