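import Mathlib
import Cfsg.Agent.Lib.Helper8.Sh3F

/-!
# Sharply 3-transitive groups of even degree have a subgroup of index 2 (Bruhat-type construction)

Data: a point stabiliser `B = U H` (`U` regular normal on the other points, `H` the stabiliser of two points
`a, b`), an involution `s` swapping `a, b`, and a subgroup `N` of index 2 in `H` normalised by `s`.
We build a homomorphism `ψ` onto `{1, -1}` with `ψ (u h) = χ h`, `ψ (u₁ s h u₂) = ε χ h`.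

(author: helper8)
-/

set_option autoImplicit false
set_option linter.unusedVariables false
set_option linter.unusedSectionVars false
set_option linter.style.haveILetI false
set_option maxHeartbeats 1000000

namespace Cfsg.Agent.Lib.Helper8.Sh3

open MulAction

/-- the data of the Bruhat-type construction -/
structure BData (Γ α : Type*) [Group Γ] [MulAction Γ α] where
  a : α
  b : α
  c : α
  hab : a ≠ b
  hca : c ≠ a
  hcb : c ≠ b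
  U : Subgroup Γ
  N : Subgroup Γ
  s : Γ
  hs2 : s * s = 1
  hsa : s • a = b
  hsb : s • b = a
  hUa : ∀ u ∈ U, u • a = a
  hUsemi : ∀ u ∈ U, u • b = b → u = 1
  hUtrans : ∀ x, x ≠ a → ∃ u ∈ U, u • b = x
  hUnorm : ∀ h : Γ, h • a = a → ∀ u ∈ U, h * u * h⁻¹ ∈ U
  hNidx : ∀ h k : Γ, h • a = a → h • b = b → k • a = a → k • b = b →
    (h * k ∈ N ↔ (h ∈ N ↔ k ∈ N))
  hNs : ∀ n ∈ N, s * n * s ∈ N
  hHtrans : ∀ x y, x ≠ a → x ≠ b → y ≠ a → y ≠ b → ∃ h : Γ, h • a = a ∧ h • b = b ∧ h • x = y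

namespace BData

variable {Γ α : Type*} [Group Γ] [MulAction Γ α] (D : BData Γ α)

/-- membership in the two-point stabiliser -/
def InH (h : Γ) : Prop := h • D.a = D.a ∧ h • D.b = D.b

lemma inH_one : D.InH 1 := ⟨one_smul _ _, one_smul _ _⟩

lemma inH_mul {h k : Γ} (hh : D.InH h) (hk : D.InH k) : D.InH (h * k) :=
  ⟨by rw [mul_smul, hk.1, hh.1], by rw [mul_smul, hk.2, hh.2]⟩

lemma inH_inv {h : Γ} (hh : D.InH h) : D.InH h⁻¹ :=
  ⟨by rw [inv_smul_eq_iff, hh.1], by rw [inv_smul_eq_iff, hh.2]⟩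

lemma sinv : D.s⁻¹ = D.s := inv_eq_of_mul_eq_one_left D.hs2

lemma hss (x : Γ) : D.s * (D.s * x) = x := by rw [← mul_assoc, D.hs2, one_mul]

lemma inH_s {h : Γ} (hh : D.InH h) : D.InH (D.s * h * D.s) :=
  ⟨by rw [mul_smul, mul_smul, D.hsa, hh.2, D.hsb], by rw [mul_smul, mul_smul, D.hsb, hh.1, D.hsa]⟩

lemma s_conj_inv (h : Γ) : (D.s * h * D.s)⁻¹ = D.s * h⁻¹ * D.s := by
  rw [mul_inv_rev, mul_inv_rev, D.sinv, mul_assoc]

lemma U_inv_smul_a {u : Γ} (hu : u ∈ D.U) : u⁻¹ • D.a = D.a := by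
  rw [inv_smul_eq_iff, D.hUa u hu]

lemma U_smul_b_ne_a {u : Γ} (hu : u ∈ D.U) : u • D.b ≠ D.a := by
  intro h
  have h' : u • D.b = u • D.a := by rw [h, D.hUa u hu]
  exact D.hab (MulAction.injective u h').symm

lemma U_eq_of_smul_b {u v : Γ} (hu : u ∈ D.U) (hv : v ∈ D.U) (h : u • D.b = v • D.b) : u = v := by
  have h1 : v⁻¹ * u = 1 := by
    apply D.hUsemi _ (D.U.mul_mem (D.U.inv_mem hv) hu)
    rw [mul_smul, h, inv_smul_smul]
  rw [inv_mul_eq_one] at h1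
  exact h1.symm

lemma U_inH_eq_one {x : Γ} (hx : x ∈ D.U) (hx' : D.InH x) : x = 1 := D.hUsemi x hx hx'.2

lemma U_conj {h u : Γ} (hh : D.InH h) (hu : u ∈ D.U) : h * u * h⁻¹ ∈ D.U := D.hUnorm h hh.1 u hu

lemma U_conj' {h u : Γ} (hh : D.InH h) (hu : u ∈ D.U) : h⁻¹ * u * h ∈ D.U := by
  have := D.hUnorm h⁻¹ (D.inH_inv hh).1 u hu
  rwa [inv_inv] at this

open Classical in
/-- the character of `H` with kernel `N` -/
noncomputable def chi (h : Γ) : ℤˣ := if h ∈ D.N then 1 else -1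

lemma chi_one : D.chi 1 = 1 := by
  unfold chi
  rw [if_pos D.N.one_mem]

lemma chi_mul {h k : Γ} (hh : D.InH h) (hk : D.InH k) : D.chi (h * k) = D.chi h * D.chi k := by
  have := D.hNidx h k hh.1 hh.2 hk.1 hk.2
  unfold chi
  by_cases h1 : h ∈ D.N <;> by_cases h2 : k ∈ D.N <;> simp [h1, h2, this]

lemma chi_eq_of_iff {h k : Γ} (hiff : h ∈ D.N ↔ k ∈ D.N) : D.chi h = D.chi k := by
  unfold chi
  by_cases h1 : k ∈ D.N
  · rw [if_pos h1, if_pos (hiff.2 h1)]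
  · rw [if_neg h1, if_neg (fun h2 => h1 (hiff.1 h2))]

lemma chi_inv (h : Γ) : D.chi h⁻¹ = D.chi h := D.chi_eq_of_iff inv_mem_iff

lemma chi_s {h : Γ} (hh : D.InH h) : D.chi (D.s * h * D.s) = D.chi h := by
  have : D.s * h * D.s ∈ D.N ↔ h ∈ D.N := by
    constructor
    · intro h1
      have h2 := D.hNs _ h1
      have e : D.s * (D.s * h * D.s) * D.s = h := by
        simp only [mul_assoc, D.hs2, mul_one, D.hss]
      rwa [e] at h2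
    · exact D.hNs h
  exact D.chi_eq_of_iff this

lemma chi_mul_self (h : Γ) : D.chi h * D.chi h = 1 := Int.units_mul_self _

/-- `g = u h` -/
def Small (g h : Γ) : Prop := D.InH h ∧ ∃ u ∈ D.U, g = u * h

/-- `g = u₁ s h u₂` -/
def Big (g h : Γ) : Prop := D.InH h ∧ ∃ u₁ ∈ D.U, ∃ u₂ ∈ D.U, g = u₁ * D.s * h * u₂

lemma small_exists {g : Γ} (hg : g • D.a = D.a) : ∃ h, D.Small g h := by
  have hgb : g • D.b ≠ D.a := by
    intro h
    have h' : g • D.b = g • D.a := by rw [h, hg]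
    exact D.hab (MulAction.injective g h').symm
  obtain ⟨u, hu, hub⟩ := D.hUtrans _ hgb
  refine ⟨u⁻¹ * g, ⟨?_, ?_⟩, u, hu, by group⟩
  · rw [mul_smul, hg, D.U_inv_smul_a hu]
  · rw [mul_smul, inv_smul_eq_iff, hub]

lemma big_exists {g : Γ} (hg : g • D.a ≠ D.a) : ∃ h, D.Big g h := by
  obtain ⟨u₁, hu₁, hu₁b⟩ := D.hUtrans _ hg
  have hg' : g⁻¹ • D.a ≠ D.a := by
    intro h
    apply hg
    rw [inv_smul_eq_iff] at h
    exact h.symm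
  obtain ⟨w, hw, hwb⟩ := D.hUtrans _ hg'
  refine ⟨D.s * u₁⁻¹ * g * w, ⟨?_, ?_⟩, u₁, hu₁, w⁻¹, D.U.inv_mem hw, ?_⟩
  · rw [mul_smul, mul_smul, mul_smul, D.hUa w hw, ← hu₁b, inv_smul_smul, D.hsb]
  · rw [mul_smul, mul_smul, mul_smul, hwb, smul_inv_smul, D.U_inv_smul_a hu₁, D.hsa]
  · simp only [mul_assoc, D.hss, mul_inv_cancel, mul_one, mul_inv_cancel_left]

lemma small_fix {g h : Γ} (hs : D.Small g h) : g • D.a = D.a := by
  obtain ⟨hh, u, hu, rfl⟩ := hs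
  rw [mul_smul, hh.1, D.hUa u hu]

lemma big_smul_a {u₁ h u₂ : Γ} (hh : D.InH h) (hu₂ : u₂ ∈ D.U) :
    (u₁ * D.s * h * u₂) • D.a = u₁ • D.b := by
  rw [mul_smul, mul_smul, mul_smul, D.hUa u₂ hu₂, hh.1, D.hsa]

lemma big_move {g h : Γ} (hb : D.Big g h) : g • D.a ≠ D.a := by
  obtain ⟨hh, u₁, hu₁, u₂, hu₂, rfl⟩ := hb
  rw [D.big_smul_a hh hu₂]
  exact D.U_smul_b_ne_a hu₁

lemma small_unique {g h h' : Γ} (h1 : D.Small g h) (h2 : D.Small g h') : h = h' := by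
  obtain ⟨hh, u, hu, rfl⟩ := h1
  obtain ⟨hh', u', hu', e⟩ := h2
  have e1 : u'⁻¹ * u = h' * h⁻¹ := by
    calc u'⁻¹ * u = u'⁻¹ * (u * h) * h⁻¹ := by group
      _ = u'⁻¹ * (u' * h') * h⁻¹ := by rw [e]
      _ = h' * h⁻¹ := by group
  have e2 : u'⁻¹ * u = 1 := by
    apply D.U_inH_eq_one (D.U.mul_mem (D.U.inv_mem hu') hu)
    rw [e1]
    exact D.inH_mul hh' (D.inH_inv hh)
  rw [e2] at e1
  have := mul_inv_eq_one.1 e1.symm
  exact this.symm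

lemma big_unique {g h h' : Γ} (h1 : D.Big g h) (h2 : D.Big g h') : h = h' := by
  obtain ⟨hh, u₁, hu₁, u₂, hu₂, rfl⟩ := h1
  obtain ⟨hh', v₁, hv₁, v₂, hv₂, e⟩ := h2
  have ea := congrArg (fun x : Γ => x • D.a) e
  simp only [D.big_smul_a hh hu₂, D.big_smul_a hh' hv₂] at ea
  have e0 : u₁ = v₁ := D.U_eq_of_smul_b hu₁ hv₁ ea
  subst e0
  have e1 : h * u₂ = h' * v₂ := by
    have e' : u₁ * D.s * (h * u₂) = u₁ * D.s * (h' * v₂) := by
      simpa only [mul_assoc] using e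
    exact mul_left_cancel e'
  have e2 : h'⁻¹ * h = v₂ * u₂⁻¹ := by
    calc h'⁻¹ * h = h'⁻¹ * (h * u₂) * u₂⁻¹ := by group
      _ = h'⁻¹ * (h' * v₂) * u₂⁻¹ := by rw [e1]
      _ = v₂ * u₂⁻¹ := by group
  have e3 : v₂ * u₂⁻¹ = 1 := by
    apply D.U_inH_eq_one (D.U.mul_mem hv₂ (D.U.inv_mem hu₂))
    rw [← e2]
    exact D.inH_mul (D.inH_inv hh') hh
  rw [e3] at e2
  have := inv_mul_eq_one.1 e2
  exact this.symm

/-- the constant `ε`: the `H`-part of `s v s` has the same `χ`-value for all `v ∈ U ∖ 1` -/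
def IsEps (e : ℤˣ) : Prop := ∀ v ∈ D.U, v ≠ 1 → ∀ h, D.Big (D.s * v * D.s) h → D.chi h = e

lemma svs_move {v : Γ} (hv : v ∈ D.U) (hv1 : v ≠ 1) : (D.s * v * D.s) • D.a ≠ D.a := by
  intro h
  apply hv1
  apply D.hUsemi v hv
  rw [mul_smul, mul_smul, D.hsa] at h
  have h' : D.s • (D.s • (v • D.b)) = D.s • D.a := by rw [h]
  rw [← mul_smul, D.hs2, one_smul, D.hsa] at h'
  exact h'

lemma exists_isEps : ∃ e, D.IsEps e := by
  obtain ⟨u₀, hu₀, hu₀c⟩ := D.hUtrans D.c D.hca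
  have hu₀1 : u₀ ≠ 1 := by
    intro h
    rw [h, one_smul] at hu₀c
    exact D.hcb hu₀c.symm
  obtain ⟨h₀, hh₀, w₁, hw₁, w₂, hw₂, e₀⟩ := D.big_exists (D.svs_move hu₀ hu₀1)
  refine ⟨D.chi h₀, ?_⟩
  intro v hv hv1 h hbig
  have hxa : v • D.b ≠ D.a := D.U_smul_b_ne_a hv
  have hxb : v • D.b ≠ D.b := fun h' => hv1 (D.hUsemi v hv h')
  obtain ⟨k, hka, hkb, hkc⟩ := D.hHtrans D.c (v • D.b) D.hca D.hcb hxa hxb
  have hk : D.InH k := ⟨hka, hkb⟩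
  have hkinv : k⁻¹ • D.b = D.b := (D.inH_inv hk).2
  have hv' : k * u₀ * k⁻¹ = v := by
    apply D.U_eq_of_smul_b (D.U_conj hk hu₀) hv
    rw [mul_smul, mul_smul, hkinv, hu₀c, hkc]
  -- decomposition of `s v s`
  set k' := D.s * k * D.s with hk'def
  have hk' : D.InH k' := D.inH_s hk
  have hk'inv : k'⁻¹ = D.s * k⁻¹ * D.s := D.s_conj_inv k
  have hbig' : D.Big (D.s * v * D.s) (k * h₀ * k'⁻¹) := by
    refine ⟨D.inH_mul (D.inH_mul hk hh₀) (D.inH_inv hk'), k' * w₁ * k'⁻¹, D.U_conj hk' hw₁,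
      k' * w₂ * k'⁻¹, D.U_conj hk' hw₂, ?_⟩
    have e1 : D.s * v * D.s = k' * (D.s * u₀ * D.s) * k'⁻¹ := by
      rw [hk'inv, hk'def, ← hv']
      simp only [mul_assoc, D.hss]
    rw [e1, e₀]
    have e2 : k' * D.s = D.s * k := by
      rw [hk'def]
      simp only [mul_assoc, D.hs2, mul_one]
    calc k' * (w₁ * D.s * h₀ * w₂) * k'⁻¹
        = (k' * w₁ * k'⁻¹) * (k' * D.s) * h₀ * k'⁻¹ * (k' * w₂ * k'⁻¹) := by group
      _ = k' * w₁ * k'⁻¹ * D.s * (k * h₀ * k'⁻¹) * (k' * w₂ * k'⁻¹) := by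
        rw [e2]
        group
  rw [D.big_unique hbig hbig', D.chi_mul (D.inH_mul hk hh₀) (D.inH_inv hk'),
    D.chi_mul hk hh₀, D.chi_inv, D.chi_s hk]
  rw [mul_comm (D.chi k), mul_assoc, D.chi_mul_self, mul_one]

/-- the graph of `ψ` -/
def Rel (e : ℤˣ) (g : Γ) (x : ℤˣ) : Prop :=
  (∃ h, D.Small g h ∧ x = D.chi h) ∨ (∃ h, D.Big g h ∧ x = e * D.chi h)

lemma rel_exists (e : ℤˣ) (g : Γ) : ∃ x, D.Rel e g x := by
  by_cases hg : g • D.a = D.a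
  · obtain ⟨h, hh⟩ := D.small_exists hg
    exact ⟨_, Or.inl ⟨h, hh, rfl⟩⟩
  · obtain ⟨h, hh⟩ := D.big_exists hg
    exact ⟨_, Or.inr ⟨h, hh, rfl⟩⟩

lemma rel_unique {e : ℤˣ} {g : Γ} {x y : ℤˣ} (hx : D.Rel e g x) (hy : D.Rel e g y) : x = y := by
  rcases hx with ⟨h, hh, rfl⟩ | ⟨h, hh, rfl⟩ <;> rcases hy with ⟨h', hh', rfl⟩ | ⟨h', hh', rfl⟩
  · rw [D.small_unique hh hh']
  · exact absurd (D.small_fix hh) (D.big_move hh')
  · exact absurd (D.small_fix hh') (D.big_move hh)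
  · rw [D.big_unique hh hh']

lemma rel_U (e : ℤˣ) {u : Γ} (hu : u ∈ D.U) : D.Rel e u 1 :=
  Or.inl ⟨1, ⟨D.inH_one, u, hu, (mul_one u).symm⟩, D.chi_one.symm⟩

lemma rel_H (e : ℤˣ) {k : Γ} (hk : D.InH k) : D.Rel e k (D.chi k) :=
  Or.inl ⟨k, ⟨hk, 1, D.U.one_mem, (one_mul k).symm⟩, rfl⟩

lemma rel_s (e : ℤˣ) : D.Rel e D.s e :=
  Or.inr ⟨1, ⟨D.inH_one, 1, D.U.one_mem, 1, D.U.one_mem, by simp⟩, by rw [D.chi_one, mul_one]⟩

lemma rel_mul_U {e : ℤˣ} {g : Γ} {x : ℤˣ} (hx : D.Rel e g x) {u : Γ} (hu : u ∈ D.U) :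
    D.Rel e (g * u) x := by
  rcases hx with ⟨h, ⟨hh, u', hu', rfl⟩, rfl⟩ | ⟨h, ⟨hh, u₁, hu₁, u₂, hu₂, rfl⟩, rfl⟩
  · refine Or.inl ⟨h, ⟨hh, u' * (h * u * h⁻¹), D.U.mul_mem hu' (D.U_conj hh hu), by group⟩, rfl⟩
  · refine Or.inr ⟨h, ⟨hh, u₁, hu₁, u₂ * u, D.U.mul_mem hu₂ hu, by group⟩, rfl⟩

lemma rel_mul_H {e : ℤˣ} {g : Γ} {x : ℤˣ} (hx : D.Rel e g x) {k : Γ} (hk : D.InH k) :
    D.Rel e (g * k) (x * D.chi k) := by
  rcases hx with ⟨h, ⟨hh, u', hu', rfl⟩, rfl⟩ | ⟨h, ⟨hh, u₁, hu₁, u₂, hu₂, rfl⟩, rfl⟩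
  · refine Or.inl ⟨h * k, ⟨D.inH_mul hh hk, u', hu', by group⟩, (D.chi_mul hh hk).symm⟩
  · refine Or.inr ⟨h * k, ⟨D.inH_mul hh hk, u₁, hu₁, k⁻¹ * u₂ * k, D.U_conj' hk hu₂, by group⟩, ?_⟩
    rw [D.chi_mul hh hk, mul_assoc]

lemma rel_mul_s {e : ℤˣ} (he : D.IsEps e) {g : Γ} {x : ℤˣ} (hx : D.Rel e g x) :
    D.Rel e (g * D.s) (x * e) := by
  rcases hx with ⟨h, ⟨hh, u', hu', rfl⟩, rfl⟩ | ⟨h, ⟨hh, u₁, hu₁, u₂, hu₂, rfl⟩, rfl⟩
  · -- `u h s = u s (s h s)`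
    refine Or.inr ⟨D.s * h * D.s, ⟨D.inH_s hh, u', hu', 1, D.U.one_mem, ?_⟩, ?_⟩
    · simp only [mul_assoc, D.hss, mul_one]
    · rw [D.chi_s hh, mul_comm]
  · by_cases hu₂1 : u₂ = 1
    · subst hu₂1
      refine Or.inl ⟨D.s * h * D.s, ⟨D.inH_s hh, u₁, hu₁, ?_⟩, ?_⟩
      · simp only [mul_assoc, mul_one]
      · rw [D.chi_s hh, mul_comm e, mul_assoc, Int.units_mul_self, mul_one]
    · obtain ⟨h₂, hh₂, v₁, hv₁, v₂, hv₂, e₂⟩ := D.big_exists (D.svs_move hu₂ hu₂1)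
      have hχ : D.chi h₂ = e := he u₂ hu₂ hu₂1 h₂ ⟨hh₂, v₁, hv₁, v₂, hv₂, e₂⟩
      set h' := D.s * h * D.s with hh'def
      have hh' : D.InH h' := D.inH_s hh
      refine Or.inr ⟨h * h₂, ⟨D.inH_mul hh hh₂, u₁ * (h' * v₁ * h'⁻¹),
        D.U.mul_mem hu₁ (D.U_conj hh' hv₁), v₂, hv₂, ?_⟩, ?_⟩
      · have e3 : u₁ * D.s * h * u₂ * D.s = u₁ * h' * (D.s * u₂ * D.s) := by
          rw [hh'def]
          simp only [mul_assoc, D.hss]
        have e4 : h' * D.s = D.s * h := by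
          rw [hh'def]
          simp only [mul_assoc, D.hs2, mul_one]
        rw [e3, e₂]
        calc u₁ * h' * (v₁ * D.s * h₂ * v₂)
            = u₁ * (h' * v₁ * h'⁻¹) * (h' * D.s) * h₂ * v₂ := by group
          _ = u₁ * (h' * v₁ * h'⁻¹) * D.s * (h * h₂) * v₂ := by
            rw [e4]
            group
      · rw [D.chi_mul hh hh₂, hχ, mul_assoc]

/-- the function `ψ` -/
noncomputable def psi (e : ℤˣ) (g : Γ) : ℤˣ := Classical.choose (D.rel_exists e g)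

lemma psi_spec (e : ℤˣ) (g : Γ) : D.Rel e g (D.psi e g) := Classical.choose_spec (D.rel_exists e g)

lemma psi_eq {e : ℤˣ} {g : Γ} {x : ℤˣ} (hx : D.Rel e g x) : D.psi e g = x :=
  D.rel_unique (D.psi_spec e g) hx

/-- `x` is right-multiplicative for `ψ` -/
def IsMulR (e : ℤˣ) (x : Γ) : Prop := ∀ g, D.psi e (g * x) = D.psi e g * D.psi e x

lemma isMulR_mul {e : ℤˣ} {x y : Γ} (hx : D.IsMulR e x) (hy : D.IsMulR e y) : D.IsMulR e (x * y) := by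
  intro g
  rw [← mul_assoc, hy (g * x), hx g, hy x, mul_assoc]

lemma isMulR_U (e : ℤˣ) {u : Γ} (hu : u ∈ D.U) : D.IsMulR e u := by
  intro g
  rw [D.psi_eq (D.rel_mul_U (D.psi_spec e g) hu), D.psi_eq (D.rel_U e hu), mul_one]

lemma isMulR_H (e : ℤˣ) {k : Γ} (hk : D.InH k) : D.IsMulR e k := by
  intro g
  rw [D.psi_eq (D.rel_mul_H (D.psi_spec e g) hk), D.psi_eq (D.rel_H e hk)]

lemma isMulR_s {e : ℤˣ} (he : D.IsEps e) : D.IsMulR e D.s := by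
  intro g
  rw [D.psi_eq (D.rel_mul_s he (D.psi_spec e g)), D.psi_eq (D.rel_s e)]

lemma isMulR_all {e : ℤˣ} (he : D.IsEps e) (x : Γ) : D.IsMulR e x := by
  by_cases hx : x • D.a = D.a
  · obtain ⟨h, hh, u, hu, rfl⟩ := D.small_exists hx
    exact D.isMulR_mul (D.isMulR_U e hu) (D.isMulR_H e hh)
  · obtain ⟨h, hh, u₁, hu₁, u₂, hu₂, rfl⟩ := D.big_exists hx
    exact D.isMulR_mul (D.isMulR_mul (D.isMulR_mul (D.isMulR_U e hu₁) (D.isMulR_s he))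
      (D.isMulR_H e hh)) (D.isMulR_U e hu₂)

/-- the homomorphism `ψ` -/
noncomputable def psiHom {e : ℤˣ} (he : D.IsEps e) : Γ →* ℤˣ where
  toFun := D.psi e
  map_one' := D.psi_eq (D.rel_U e D.U.one_mem)
  map_mul' x y := D.isMulR_all he y x

/-- the Bruhat-type construction gives a subgroup of index 2 -/
theorem exists_index_two (h₀ : Γ) (hh₀ : D.InH h₀) (hh₀N : h₀ ∉ D.N) :
    ∃ M : Subgroup Γ, M.index = 2 := by
  obtain ⟨e, he⟩ := D.exists_isEps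
  refine ⟨(D.psiHom he).ker, ?_⟩
  rw [Subgroup.index_eq_two_iff]
  have h1 : D.psiHom he h₀ = -1 := by
    show D.psi e h₀ = -1
    rw [D.psi_eq (D.rel_H e hh₀)]
    unfold chi
    rw [if_neg hh₀N]
  refine ⟨h₀, fun g => ?_⟩
  rw [MonoidHom.mem_ker, MonoidHom.mem_ker, map_mul, h1]
  rcases Int.units_eq_one_or (D.psiHom he g) with h2 | h2
  · rw [h2]
    right
    exact ⟨rfl, by decide⟩
  · rw [h2]
    left
    exact ⟨by decide, by decide⟩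

end BData

end Cfsg.Agent.Lib.Helper8.Sh3
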