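import Mathlib
import Cfsg.Agent.Lib.Helper8.Sh3G
import Cfsg.Agent.Lib.Helper5.Zassenhaus

/-!
# Sharply 3-transitive groups of even degree are not simple; consequence for Zassenhaus groups

(author: helper8)
-/

set_option autoImplicit false
set_option linter.unusedVariables false
set_option linter.unusedSectionVars false
set_option linter.style.haveILetI false
set_option maxHeartbeats 1000000

namespace Cfsg.Agent.Lib.Helper8.Sh3

open MulAction

/-- the stabiliser of two points in a sharply 3-transitive group of degree `n + 1` has order `n - 1` -/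
theorem card_two_point_stab {Γ α : Type*} [Group Γ] [MulAction Γ α] [Fintype α] [Finite Γ]
    (h3 : IsMultiplyPretransitive Γ α 3)
    (hfix : ∀ g : Γ, ∀ a b c : α, a ≠ b → b ≠ c → a ≠ c → g • a = a → g • b = b → g • c = c → g = 1)
    {a b c : α} (hab : a ≠ b) (hac : a ≠ c) (hbc : b ≠ c) :
    Nat.card ↥(stabilizer Γ a ⊓ stabilizer Γ b) = Fintype.card α - 2 := by
  classical
  set HS : Subgroup Γ := stabilizer Γ a ⊓ stabilizer Γ b with hHSdef
  have hHSmem : ∀ g : Γ, g ∈ HS ↔ g • a = a ∧ g • b = b := by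
    intro g
    rw [hHSdef, Subgroup.mem_inf, mem_stabilizer_iff, mem_stabilizer_iff]
  have h1 : Nat.card HS = Nat.card (({a, b} : Set α)ᶜ : Set α) := by
    apply Nat.card_eq_of_bijective (fun h : HS => (⟨(h : Γ) • c, by
      have hh := (hHSmem h).1 h.2
      intro hmem
      rcases hmem with h' | h'
      · have h'' : (h : Γ) • c = a := h'
        rw [← hh.1] at h''
        exact hac (MulAction.injective (h : Γ) h'').symm
      · have h'' : (h : Γ) • c = b := h'
        rw [← hh.2] at h''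
        exact hbc (MulAction.injective (h : Γ) h'').symm⟩ : (({a, b} : Set α)ᶜ : Set α)))
    constructor
    · intro h h' hh'
      have e : (h : Γ) • c = (h' : Γ) • c := congrArg Subtype.val hh'
      have hh := (hHSmem h).1 h.2
      have hh2 := (hHSmem h').1 h'.2
      have : (h' : Γ)⁻¹ * (h : Γ) = 1 := by
        apply hfix _ a b c hab hbc hac
        · rw [mul_smul, hh.1, inv_smul_eq_iff, hh2.1]
        · rw [mul_smul, hh.2, inv_smul_eq_iff, hh2.2]
        · rw [mul_smul, e, inv_smul_smul]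
      rw [inv_mul_eq_one] at this
      exact Subtype.ext this.symm
    · rintro ⟨x, hx⟩
      have hxa : x ≠ a := fun h => hx (Or.inl h)
      have hxb : x ≠ b := fun h => hx (Or.inr h)
      obtain ⟨g, hg1, hg2, hg3⟩ := Cfsg.Agent.Lib.Helper4.Wagner.three_elementwise h3
        hab hac hbc hab (Ne.symm hxa) (Ne.symm hxb)
      exact ⟨⟨g, (hHSmem g).2 ⟨hg1, hg2⟩⟩, Subtype.ext hg3⟩
  rw [h1, Nat.card_coe_set_eq, Set.ncard_compl, Set.ncard_pair hab, Nat.card_eq_fintype_card]

/-- **A sharply 3-transitive group of even degree has a subgroup of index 2.** -/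
theorem exists_index_two_sharp3 {Γ α : Type*} [Group Γ] [MulAction Γ α] [Fintype α]
    [FaithfulSMul Γ α] (heven : Even (Fintype.card α)) (h4 : 4 ≤ Fintype.card α)
    (h3 : IsMultiplyPretransitive Γ α 3)
    (hsharp : ∀ x : Fin 3 ↪ α, stabilizer Γ x = ⊥) : ∃ M : Subgroup Γ, M.index = 2 := by
  classical
  haveI hGfin : Finite Γ :=
    Finite.of_injective (MulAction.toPerm (α := Γ) (β := α)) MulAction.toPerm_injective
  have hfix : ∀ g : Γ, ∀ a b c : α, a ≠ b → b ≠ c → a ≠ c → g • a = a → g • b = b → g • c = c →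
      g = 1 := fun g a b c hab hbc hac ha hb hc =>
    Cfsg.Agent.Lead.SharpThree.eq_one_of_fix3 hsharp g hab hac hbc ha hb hc
  obtain ⟨a, b, c, hab, hac, hbc⟩ := Fintype.two_lt_card_iff.1 (by omega : 2 < Fintype.card α)
  obtain ⟨s, hsa, hsb, hsc⟩ := Cfsg.Agent.Lib.Helper4.Wagner.three_elementwise h3
    hab hac hbc hab.symm hbc hac
  have hs2 : s * s = 1 := by
    apply hfix _ a b c hab hbc hac
    · rw [mul_smul, hsa, hsb]
    · rw [mul_smul, hsb, hsa]
    · rw [mul_smul, hsc, hsc]
  have hsinv : s⁻¹ = s := inv_eq_of_mul_eq_one_left hs2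
  set HS : Subgroup Γ := stabilizer Γ a ⊓ stabilizer Γ b with hHSdef
  have hHSmem : ∀ g : Γ, g ∈ HS ↔ g • a = a ∧ g • b = b := by
    intro g
    rw [hHSdef, Subgroup.mem_inf, mem_stabilizer_iff, mem_stabilizer_iff]
  -- the subgroup `N`
  have hN : ∃ N : Subgroup Γ, N ≤ HS ∧ N.relIndex HS = 2 ∧ ∀ n ∈ N, s * n * s⁻¹ ∈ N := by
    by_cases h6 : 6 ≤ Fintype.card α
    · obtain ⟨N, h1, h2, h3', h4'⟩ :=
        sharp3_index_two heven h6 h3 hsharp hab hac hbc s hsa hsb hsc
      exact ⟨N, h1, h3', h4'⟩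
    · have hc4 : Fintype.card α = 4 := by
        obtain ⟨m, hm⟩ := heven
        omega
      have hHScard : Nat.card HS = Fintype.card α - 2 := card_two_point_stab h3 hfix hab hac hbc
      refine ⟨⊥, bot_le, ?_, ?_⟩
      · rw [Subgroup.relIndex_bot_left, hHScard, hc4]
      · intro n hn
        rw [Subgroup.mem_bot] at hn ⊢
        rw [hn]
        group
  obtain ⟨N, hNle, hNrel, hNs⟩ := hN
  have hidx : (N.subgroupOf HS).index = 2 := hNrel
  obtain ⟨K, K1, K2, K3, K4⟩ :=
    Cfsg.Agent.H2.SharpThree.exists_K (by omega) h3 hfix a b c hab hac hbc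
  obtain ⟨h₀, hh₀, hh₀N⟩ : ∃ h₀ ∈ HS, h₀ ∉ N := by
    by_contra hcon
    push Not at hcon
    have hle : HS ≤ N := hcon
    rw [← Subgroup.relIndex_eq_one] at hle
    omega
  let D : BData Γ α :=
    { a := a
      b := b
      c := c
      hab := hab
      hca := hac.symm
      hcb := hbc.symm
      U := K
      N := N
      s := s
      hs2 := hs2
      hsa := hsa
      hsb := hsb
      hUa := K1
      hUsemi := by
        intro u hu hub
        by_contra hne
        exact K2 u hu hne b hab.symm hub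
      hUtrans := K3
      hUnorm := K4
      hNidx := by
        intro h k hha hhb hka hkb
        have hh : h ∈ HS := (hHSmem h).2 ⟨hha, hhb⟩
        have hk : k ∈ HS := (hHSmem k).2 ⟨hka, hkb⟩
        have := Subgroup.mul_mem_iff_of_index_two hidx (a := (⟨h, hh⟩ : ↥HS)) (b := ⟨k, hk⟩)
        simpa [Subgroup.mem_subgroupOf] using this
      hNs := by
        intro n hn
        have := hNs n hn
        rwa [hsinv] at this
      hHtrans := by
        intro x y hxa hxb hya hyb
        exact Cfsg.Agent.Lib.Helper4.Wagner.three_elementwise h3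
          hab hxa.symm hxb.symm hab hya.symm hyb.symm }
  exact D.exists_index_two h₀ ((hHSmem h₀).1 hh₀) hh₀N

/-- triple transitivity from its elementwise form -/
theorem three_pretransitive_of_elementwise {Γ X : Type*} [Group Γ] [MulAction Γ X]
    (h : ∀ a b c a' b' c' : X, a ≠ b → a ≠ c → b ≠ c → a' ≠ b' → a' ≠ c' → b' ≠ c' →
      ∃ g : Γ, g • a = a' ∧ g • b = b' ∧ g • c = c') :
    IsMultiplyPretransitive Γ X 3 := by
  constructor
  intro x y
  have hx : ∀ i j : Fin 3, i ≠ j → x i ≠ x j := fun i j hij e => hij (x.injective e)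
  have hy : ∀ i j : Fin 3, i ≠ j → y i ≠ y j := fun i j hij e => hij (y.injective e)
  obtain ⟨g, h0, h1, h2⟩ := h (x 0) (x 1) (x 2) (y 0) (y 1) (y 2)
    (hx _ _ (by decide)) (hx _ _ (by decide)) (hx _ _ (by decide))
    (hy _ _ (by decide)) (hy _ _ (by decide)) (hy _ _ (by decide))
  refine ⟨g, ?_⟩
  ext i
  fin_cases i
  · exact h0
  · exact h1
  · exact h2

section Zassenhaus

variable {G Ω : Type*} [Group G] [MulAction G Ω]

/-- in a Zassenhaus group of degree `n + 1` the order of a two-point stabiliser divides `n - 1` -/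
theorem zassenhaus_card_dvd [Finite G] [Fintype Ω] (hZ : Cfsg.IsZassenhausGroup G Ω) {a b : Ω}
    (hab : a ≠ b) :
    Nat.card ↥(stabilizer G a ⊓ stabilizer G b) ∣ Fintype.card Ω - 2 := by
  classical
  have hfix := hZ.2.2.1
  set H : Subgroup G := stabilizer G a ⊓ stabilizer G b with hHdef
  have hHmem : ∀ g : G, g ∈ H ↔ g • a = a ∧ g • b = b := by
    intro g
    rw [hHdef, Subgroup.mem_inf, mem_stabilizer_iff, mem_stabilizer_iff]
  have h1 := card_dvd_ncard_of_free (K := ↥H) (α := Ω) (({a, b} : Set Ω)ᶜ) (Set.toFinite _)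
    (by
      intro k x hx hmem
      have hk := (hHmem k).1 k.2
      rw [Subgroup.smul_def] at hmem
      rcases hmem with h' | h'
      · have h'' : (k : G) • x = a := h'
        rw [← hk.1] at h''
        exact hx (Or.inl (MulAction.injective (k : G) h''))
      · have h'' : (k : G) • x = b := h'
        rw [← hk.2] at h''
        exact hx (Or.inr (MulAction.injective (k : G) h'')))
    (by
      intro k x hx hkx
      have hk := (hHmem k).1 k.2
      rw [Subgroup.smul_def] at hkx
      have hxa : x ≠ a := fun h => hx (Or.inl h)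
      have hxb : x ≠ b := fun h => hx (Or.inr h)
      exact Subtype.ext (hfix (k : G) a b x hab hxb.symm hxa.symm hk.1 hk.2 hkx))
  rwa [Set.ncard_compl, Set.ncard_pair hab, Nat.card_eq_fintype_card (α := Ω)] at h1

/-- a simple Zassenhaus group with two-point stabiliser of even order is not sharply 3-transitive -/
theorem zassenhaus_simple_card_ne [Finite G] [Fintype Ω] (hZ : Cfsg.IsZassenhausGroup G Ω)
    [IsSimpleGroup G] {a b : Ω} (hab : a ≠ b)
    (heven : Even (Nat.card ↥(stabilizer G a ⊓ stabilizer G b))) :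
    Nat.card ↥(stabilizer G a ⊓ stabilizer G b) ≠ Fintype.card Ω - 2 := by
  classical
  intro hcard
  have h := Cfsg.Agent.Lib.Helper5.Zass.hyp_of_zassenhaus hZ
  haveI : FaithfulSMul G Ω := hZ.1
  have hfix := hZ.2.2.1
  set H : Subgroup G := stabilizer G a ⊓ stabilizer G b with hHdef
  have hHmem : ∀ g : G, g ∈ H ↔ g • a = a ∧ g • b = b := by
    intro g
    rw [hHdef, Subgroup.mem_inf, mem_stabilizer_iff, mem_stabilizer_iff]
  obtain ⟨c, hca, hcb⟩ := Cfsg.Agent.Lib.Helper5.Zass.exists_third h a b hab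
  have hc3 : 3 ≤ Fintype.card Ω := by
    have : 2 < Fintype.card Ω := Fintype.two_lt_card_iff.2 ⟨a, b, c, hab, hca.symm, hcb.symm⟩
    omega
  -- `H` is transitive on the other points
  have htrans : ∀ x : Ω, x ≠ a → x ≠ b → ∃ k ∈ H, k • c = x := by
    let φ : ↥H → (({a, b} : Set Ω)ᶜ : Set Ω) := fun k => ⟨(k : G) • c, by
      have hk := (hHmem k).1 k.2
      intro hmem
      rcases hmem with h' | h'
      · have h'' : (k : G) • c = a := h'
        rw [← hk.1] at h''
        exact hca (MulAction.injective (k : G) h'')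
      · have h'' : (k : G) • c = b := h'
        rw [← hk.2] at h''
        exact hcb (MulAction.injective (k : G) h'')⟩
    have hφinj : Function.Injective φ := by
      intro k k' hkk
      have e : (k : G) • c = (k' : G) • c := congrArg Subtype.val hkk
      have hk := (hHmem k).1 k.2
      have hk' := (hHmem k').1 k'.2
      have : (k' : G)⁻¹ * (k : G) = 1 := by
        apply hfix _ a b c hab hcb.symm hca.symm
        · rw [mul_smul, hk.1, inv_smul_eq_iff, hk'.1]
        · rw [mul_smul, hk.2, inv_smul_eq_iff, hk'.2]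
        · rw [mul_smul, e, inv_smul_smul]
      rw [inv_mul_eq_one] at this
      exact Subtype.ext this.symm
    have hcards : Nat.card ↥H = Nat.card (({a, b} : Set Ω)ᶜ : Set Ω) := by
      rw [hcard, Nat.card_coe_set_eq, Set.ncard_compl, Set.ncard_pair hab,
        Nat.card_eq_fintype_card]
    have hφbij : Function.Bijective φ :=
      (Nat.bijective_iff_injective_and_card φ).2 ⟨hφinj, hcards⟩
    intro x hxa hxb
    obtain ⟨k, hk⟩ := hφbij.2 ⟨x, by
      intro hmem
      rcases hmem with h' | h'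
      · exact hxa h'
      · exact hxb h'⟩
    exact ⟨k, k.2, congrArg Subtype.val hk⟩
  -- triple transitivity
  have h3 : IsMultiplyPretransitive G Ω 3 := by
    apply three_pretransitive_of_elementwise
    intro x y z x' y' z' hxy hxz hyz hxy' hxz' hyz'
    obtain ⟨g₁, hg₁x, hg₁y⟩ := h.h2 hxy hab
    obtain ⟨g₂, hg₂x, hg₂y⟩ := h.h2 hxy' hab
    have hz1a : g₁ • z ≠ a := by
      intro h'
      rw [← hg₁x] at h'
      exact hxz (MulAction.injective g₁ h').symm
    have hz1b : g₁ • z ≠ b := by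
      intro h'
      rw [← hg₁y] at h'
      exact hyz (MulAction.injective g₁ h').symm
    have hz2a : g₂ • z' ≠ a := by
      intro h'
      rw [← hg₂x] at h'
      exact hxz' (MulAction.injective g₂ h').symm
    have hz2b : g₂ • z' ≠ b := by
      intro h'
      rw [← hg₂y] at h'
      exact hyz' (MulAction.injective g₂ h').symm
    obtain ⟨k₁, hk₁, hk₁c⟩ := htrans _ hz1a hz1b
    obtain ⟨k₂, hk₂, hk₂c⟩ := htrans _ hz2a hz2b
    have hk₁' := (hHmem k₁).1 hk₁
    have hk₂' := (hHmem k₂).1 hk₂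
    refine ⟨g₂⁻¹ * k₂ * k₁⁻¹ * g₁, ?_, ?_, ?_⟩
    · rw [mul_smul, mul_smul, mul_smul, hg₁x, inv_smul_eq_iff.2 hk₁'.1.symm, hk₂'.1,
        inv_smul_eq_iff, hg₂x]
    · rw [mul_smul, mul_smul, mul_smul, hg₁y, inv_smul_eq_iff.2 hk₁'.2.symm, hk₂'.2,
        inv_smul_eq_iff, hg₂y]
    · rw [mul_smul, mul_smul, mul_smul, ← hk₁c, inv_smul_smul, hk₂c, inv_smul_smul]
  have hsharp : ∀ x : Fin 3 ↪ Ω, stabilizer G x = ⊥ := by
    intro x
    rw [eq_bot_iff]
    intro g hg
    rw [mem_stabilizer_iff] at hg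
    rw [Subgroup.mem_bot]
    have hx : ∀ i j : Fin 3, i ≠ j → x i ≠ x j := fun i j hij e => hij (x.injective e)
    have e0 : g • x 0 = x 0 := congrArg (fun e : Fin 3 ↪ Ω => e 0) hg
    have e1 : g • x 1 = x 1 := congrArg (fun e : Fin 3 ↪ Ω => e 1) hg
    have e2 : g • x 2 = x 2 := congrArg (fun e : Fin 3 ↪ Ω => e 2) hg
    exact hfix g (x 0) (x 1) (x 2) (hx _ _ (by decide)) (hx _ _ (by decide)) (hx _ _ (by decide))
      e0 e1 e2
  have hevenΩ : Even (Fintype.card Ω) := by
    obtain ⟨m, hm⟩ := heven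
    rw [hcard] at hm
    exact ⟨m + 1, by omega⟩
  have h4 : 4 ≤ Fintype.card Ω := by
    obtain ⟨m, hm⟩ := hevenΩ
    omega
  obtain ⟨M, hM⟩ := exists_index_two_sharp3 hevenΩ h4 h3 hsharp
  haveI hMn : M.Normal := Subgroup.normal_of_index_eq_two hM
  rcases hMn.eq_bot_or_eq_top with hM' | hM'
  · rw [hM', Subgroup.index_bot] at hM
    -- `|G| = 2` forces `H = ⊤`
    have hdvd : Nat.card ↥H ∣ Nat.card G := Subgroup.card_subgroup_dvd_card H
    rw [hM] at hdvd
    have hle := Nat.le_of_dvd (by norm_num) hdvd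
    have hpos : 0 < Nat.card ↥H := Nat.card_pos
    have hH2 : Nat.card ↥H = 2 := by
      obtain ⟨m, hm⟩ := heven
      omega
    have htop : H = ⊤ := (Subgroup.card_eq_iff_eq_top H).1 (by rw [hH2, hM])
    obtain ⟨g, hga, -⟩ := h.h2 hab hab.symm
    have hg : g ∈ H := by rw [htop]; exact Subgroup.mem_top g
    exact hab (((hHmem g).1 hg).1.symm.trans hga)
  · rw [hM', Subgroup.index_top] at hM
    omega

/-- **In a simple Zassenhaus group of degree `n + 1` with two-point stabilisers of even order `d`, `2 d = n - 1`.** -/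
theorem zassenhaus_simple_even_two_mul [Finite G] [Fintype Ω] (hZ : Cfsg.IsZassenhausGroup G Ω)
    [IsSimpleGroup G] {a b : Ω} (hab : a ≠ b)
    (heven : Even (Nat.card ↥(stabilizer G a ⊓ stabilizer G b)))
    (hlarge : Fintype.card Ω - 2 ≤ 2 * Nat.card ↥(stabilizer G a ⊓ stabilizer G b)) :
    2 * Nat.card ↥(stabilizer G a ⊓ stabilizer G b) = Fintype.card Ω - 2 := by
  have h := Cfsg.Agent.Lib.Helper5.Zass.hyp_of_zassenhaus hZ
  obtain ⟨c, hca, hcb⟩ := Cfsg.Agent.Lib.Helper5.Zass.exists_third h a b hab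
  have hc3 : 2 < Fintype.card Ω := Fintype.two_lt_card_iff.2 ⟨a, b, c, hab, hca.symm, hcb.symm⟩
  have hne := zassenhaus_simple_card_ne hZ hab heven
  obtain ⟨m, hm⟩ := zassenhaus_card_dvd hZ hab
  have hpos : 0 < Nat.card ↥(stabilizer G a ⊓ stabilizer G b) := Nat.card_pos
  set d := Nat.card ↥(stabilizer G a ⊓ stabilizer G b) with hd
  have hm1 : m ≠ 0 := by
    intro h0
    rw [h0, mul_zero] at hm
    omega
  have hm2 : m ≠ 1 := by
    intro h1
    rw [h1, mul_one] at hm
    exact hne hm.symm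
  have hm3 : m < 3 := by
    by_contra hcon
    push Not at hcon
    have : d * 3 ≤ d * m := Nat.mul_le_mul_left d hcon
    omega
  have hm4 : m = 2 := by omega
  rw [hm, hm4, mul_comm]

end Zassenhaus

end Cfsg.Agent.Lib.Helper8.Sh3
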