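import Mathlib
import Cfsg.Agent.H9.QuadFin
import Cfsg.Agent.S2624

/-!
# Counting the vectors of given norm in a quadratic space over a finite field (helper8)
-/

set_option autoImplicit false
set_option linter.unusedSectionVars false

namespace Cfsg.Agent.Lib.Helper8.QType

open QuadraticMap Module

universe u v w

variable {F : Type v} [Field F] [Fintype F]

section Count

variable {V : Type u} [AddCommGroup V] [Module F V] [FiniteDimensional F V]
  {V₂ : Type w} [AddCommGroup V₂] [Module F V₂] [FiniteDimensional F V₂]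

/-- the number of vectors of norm `c` -/
noncomputable def nc (Q : QuadraticForm F V) (c : F) : ℕ := Nat.card {v : V // Q v = c}

theorem finite_of_fd (F : Type v) [Field F] [Fintype F] (V : Type u) [AddCommGroup V] [Module F V]
    [FiniteDimensional F V] : Finite V := Module.finite_of_finite F

theorem nc_congr {Q₁ : QuadraticForm F V} {Q₂ : QuadraticForm F V₂} (e : Q₁.IsometryEquiv Q₂)
    (c : F) : nc Q₂ c = nc Q₁ c := by
  unfold nc
  apply Nat.card_congr
  refine ⟨fun v => ⟨e.symm v.1, by rw [← e.map_app, e.apply_symm_apply]; exact v.2⟩,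
    fun v => ⟨e v.1, by rw [e.map_app]; exact v.2⟩, fun v => Subtype.ext ?_,
    fun v => Subtype.ext ?_⟩
  · exact e.apply_symm_apply v.1
  · exact e.symm_apply_apply v.1

theorem sum_nc (Q : QuadraticForm F V) : ∑ c : F, nc Q c = Nat.card V := by
  have : Finite V := finite_of_fd F V
  rw [← Nat.card_congr (Equiv.sigmaFiberEquiv (fun v : V => Q v)), Nat.card_sigma]
  rfl

theorem nc_prod (Q₁ : QuadraticForm F V) (Q₂ : QuadraticForm F V₂) (c : F) :
    nc (Q₁.prod Q₂) c = ∑ a : F, nc Q₁ a * nc Q₂ (c - a) := by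
  have : Finite V := finite_of_fd F V
  have : Finite V₂ := finite_of_fd F V₂
  unfold nc
  let e : {v : V × V₂ // Q₁.prod Q₂ v = c} ≃
      Σ a : F, {v : V // Q₁ v = a} × {v : V₂ // Q₂ v = c - a} :=
    { toFun := fun v => ⟨Q₁ v.1.1, ⟨v.1.1, rfl⟩, ⟨v.1.2, by
        have := v.2
        rw [QuadraticMap.prod_apply] at this
        exact eq_sub_of_add_eq' this⟩⟩
      invFun := fun x => ⟨(x.2.1.1, x.2.2.1), by
        rw [QuadraticMap.prod_apply, x.2.1.2, x.2.2.2]; ring⟩
      left_inv := fun v => rfl
      right_inv := by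
        rintro ⟨a, ⟨v₁, h₁⟩, ⟨v₂, h₂⟩⟩
        subst h₁
        rfl }
  rw [Nat.card_congr e, Nat.card_sigma]
  apply Finset.sum_congr rfl
  intro a _
  rw [Nat.card_prod]

/-- a similarity with multiplier `c` maps the vectors of norm `a` onto those of norm `c * a` -/
theorem nc_mul_of_scaling (Q : QuadraticForm F V) (g : V ≃ₗ[F] V) (c : F) (hc : c ≠ 0)
    (hg : ∀ v, Q (g v) = c * Q v) (a : F) : nc Q (c * a) = nc Q a := by
  unfold nc
  apply Nat.card_congr
  have hginv : ∀ v, Q v = c * Q (g.symm v) := by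
    intro v
    rw [← hg, LinearEquiv.apply_symm_apply]
  refine ⟨fun v => ⟨g.symm v.1, ?_⟩, fun v => ⟨g v.1, by rw [hg, v.2]⟩,
    fun v => Subtype.ext (LinearEquiv.apply_symm_apply g v.1),
    fun v => Subtype.ext (LinearEquiv.symm_apply_apply g v.1)⟩
  have := hginv v.1
  rw [v.2] at this
  exact (mul_left_cancel₀ hc this).symm

end Count

end Cfsg.Agent.Lib.Helper8.QType
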