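import Mathlib
import Cfsg.Agent.Lib.Helper8.QTypeA

/-!
# Similarities and the zero count of an orthogonal sum (helper8)
-/

set_option autoImplicit false
set_option linter.unusedSectionVars false

namespace Cfsg.Agent.Lib.Helper8.QType

open QuadraticMap Module Cfsg.Agent.H9.QuadFin

universe u v w

variable {F : Type v} [Field F] [Fintype F]

section Scal

variable {V : Type u} [AddCommGroup V] [Module F V] [FiniteDimensional F V]
  {V₂ : Type w} [AddCommGroup V₂] [Module F V₂] [FiniteDimensional F V₂]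

theorem nondeg_comp (Q : QuadraticForm F V) (hQ : (polarBilin Q).Nondegenerate)
    (φ : V₂ ≃ₗ[F] V) : (polarBilin (Q.comp (φ : V₂ →ₗ[F] V))).Nondegenerate := by
  rw [nondeg_iff] at hQ ⊢
  intro x hx
  have : (φ : V₂ →ₗ[F] V) x = 0 := by
    apply hQ
    intro y
    have := hx (φ.symm y)
    rw [polar_comp_lin] at this
    simpa using this
  simpa using this

/-- every non-zero scalar is the multiplier of a similarity of a nondegenerate quadratic space of
even positive dimension over a finite field -/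
theorem exists_scaling (Q : QuadraticForm F V) (hQ : (polarBilin Q).Nondegenerate) (l : ℕ)
    (hV : finrank F V = 2 * l + 2) (c : F) (hc : c ≠ 0) :
    ∃ g : V ≃ₗ[F] V, ∀ v, Q (g v) = c * Q v := by
  let b : Basis (Fin (2 * l + 2)) F V := Module.finBasisOfFinrankEq F V hV
  let φ : (Fin (2 * l + 2) → F) ≃ₗ[F] V := b.equivFun.symm
  obtain ⟨g', hg'⟩ := Cfsg.Agent.S2624.result (F := F) (n := 2 * l + 2) (by omega)
    ⟨l + 1, by ring⟩ (Q.comp (φ : (Fin (2 * l + 2) → F) →ₗ[F] V)) (nondeg_comp Q hQ φ) c hc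
  refine ⟨(φ.symm.trans g').trans φ, fun v => ?_⟩
  have := hg' (φ.symm v)
  simp only [comp_apply, LinearEquiv.coe_coe] at this
  rw [LinearEquiv.apply_symm_apply] at this
  rw [← this]
  rfl

theorem nc_eq_nc_one (Q : QuadraticForm F V) (hQ : (polarBilin Q).Nondegenerate) (l : ℕ)
    (hV : finrank F V = 2 * l + 2) (c : F) (hc : c ≠ 0) : nc Q c = nc Q 1 := by
  obtain ⟨g, hg⟩ := exists_scaling Q hQ l hV c hc
  have := nc_mul_of_scaling Q g c hc hg 1
  rwa [mul_one] at this

theorem card_eq_nc (Q : QuadraticForm F V) (hQ : (polarBilin Q).Nondegenerate) (l : ℕ)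
    (hV : finrank F V = 2 * l + 2) :
    Fintype.card F ^ (2 * l + 2) = nc Q 0 + (Fintype.card F - 1) * nc Q 1 := by
  classical
  have h1 := sum_nc Q
  rw [Module.natCard_eq_pow_finrank (K := F) (V := V), hV, Nat.card_eq_fintype_card] at h1
  rw [← h1, ← Finset.add_sum_erase Finset.univ _ (Finset.mem_univ (0 : F))]
  congr 1
  rw [Finset.sum_congr rfl (fun c hc => nc_eq_nc_one Q hQ l hV c (Finset.ne_of_mem_erase hc)),
    Finset.sum_const, Finset.card_erase_of_mem (Finset.mem_univ _), Finset.card_univ, smul_eq_mul]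

/-- the zero count of an orthogonal sum -/
theorem nc_zero_prod (Q₁ : QuadraticForm F V) (hQ₁ : (polarBilin Q₁).Nondegenerate) (l₁ : ℕ)
    (hV₁ : finrank F V = 2 * l₁ + 2) (Q₂ : QuadraticForm F V₂)
    (hQ₂ : (polarBilin Q₂).Nondegenerate) (l₂ : ℕ) (hV₂ : finrank F V₂ = 2 * l₂ + 2) :
    nc (Q₁.prod Q₂) 0 = nc Q₁ 0 * nc Q₂ 0 + (Fintype.card F - 1) * (nc Q₁ 1 * nc Q₂ 1) := by
  classical
  rw [nc_prod, ← Finset.add_sum_erase Finset.univ _ (Finset.mem_univ (0 : F)), sub_zero]
  congr 1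
  have : ∀ a ∈ Finset.univ.erase (0 : F), nc Q₁ a * nc Q₂ (0 - a) = nc Q₁ 1 * nc Q₂ 1 := by
    intro a ha
    have ha0 : a ≠ 0 := Finset.ne_of_mem_erase ha
    rw [nc_eq_nc_one Q₁ hQ₁ l₁ hV₁ a ha0, nc_eq_nc_one Q₂ hQ₂ l₂ hV₂ (0 - a)
      (by rw [zero_sub]; exact neg_ne_zero.2 ha0)]
  rw [Finset.sum_congr rfl this, Finset.sum_const, Finset.card_erase_of_mem (Finset.mem_univ _),
    Finset.card_univ, smul_eq_mul]

end Scal

end Cfsg.Agent.Lib.Helper8.QType
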