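import Mathlib
import Cfsg.Agent.Lib.Helper8.QTypeB
import Cfsg.Agent.H9.QuadStd
import Cfsg.Agent.S0289
import Cfsg.Agent.S0290
import Cfsg.Agent.S2617

/-!
# The type (plus or minus) of a nondegenerate quadratic space of even dimension over a finite
field, through its zero count (helper8)
-/

set_option autoImplicit false
set_option linter.unusedSectionVars false

namespace Cfsg.Agent.Lib.Helper8.QType

open QuadraticMap Module Cfsg.Agent.H9.QuadFin

universe u v w

variable {F : Type v} [Field F] [Fintype F]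

section Ty

variable {V : Type u} [AddCommGroup V] [Module F V] [FiniteDimensional F V]
  {V₂ : Type w} [AddCommGroup V₂] [Module F V₂] [FiniteDimensional F V₂]

/-- `Q` is nondegenerate of dimension `2l+2` and of type `ε = ±1` -/
def HasType (Q : QuadraticForm F V) (l : ℕ) (ε : ℤ) : Prop :=
  finrank F V = 2 * l + 2 ∧ (polarBilin Q).Nondegenerate ∧ (ε = 1 ∨ ε = -1) ∧
    (nc Q 0 : ℤ) = (Fintype.card F : ℤ) ^ (2 * l + 1) +
      ε * ((Fintype.card F : ℤ) - 1) * (Fintype.card F : ℤ) ^ l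

theorem one_lt_card : (1 : ℤ) < (Fintype.card F : ℤ) := by
  exact_mod_cast Fintype.one_lt_card

theorem HasType.nc_one {Q : QuadraticForm F V} {l : ℕ} {ε : ℤ} (h : HasType Q l ε) :
    (nc Q 1 : ℤ) = (Fintype.card F : ℤ) ^ (2 * l + 1) - ε * (Fintype.card F : ℤ) ^ l := by
  obtain ⟨hV, hQ, -, hz⟩ := h
  have h1 := card_eq_nc Q hQ l hV
  have hq : 1 ≤ Fintype.card F := Fintype.card_pos
  have h2 : ((Fintype.card F : ℤ)) ^ (2 * l + 2) =
      (nc Q 0 : ℤ) + ((Fintype.card F : ℤ) - 1) * (nc Q 1 : ℤ) := by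
    have := congrArg (fun n : ℕ => (n : ℤ)) h1
    simp only [Nat.cast_pow, Nat.cast_add, Nat.cast_mul, Nat.cast_sub hq, Nat.cast_one] at this
    exact this
  rw [hz] at h2
  have h3 : ((Fintype.card F : ℤ) - 1) ≠ 0 := by
    have := one_lt_card (F := F)
    omega
  apply mul_left_cancel₀ h3
  have : (Fintype.card F : ℤ) ^ (2 * l + 2) =
      (Fintype.card F : ℤ) * (Fintype.card F : ℤ) ^ (2 * l + 1) := by
    rw [pow_succ]; ring
  rw [this] at h2
  linear_combination -h2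

theorem HasType.unique {Q : QuadraticForm F V} {l : ℕ} {ε ε' : ℤ} (h : HasType Q l ε)
    (h' : HasType Q l ε') : ε = ε' := by
  have e := h.2.2.2
  rw [h'.2.2.2] at e
  have h3 : ((Fintype.card F : ℤ) - 1) ≠ 0 := by
    have := one_lt_card (F := F)
    omega
  have h4 : ((Fintype.card F : ℤ)) ^ l ≠ 0 := by
    apply pow_ne_zero
    have := one_lt_card (F := F)
    omega
  have h5 : ε' * (((Fintype.card F : ℤ) - 1) * (Fintype.card F : ℤ) ^ l) =
      ε * (((Fintype.card F : ℤ) - 1) * (Fintype.card F : ℤ) ^ l) := by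
    linear_combination e
  exact (mul_right_cancel₀ (mul_ne_zero h3 h4) h5).symm

theorem HasType.congr {Q₁ : QuadraticForm F V} {Q₂ : QuadraticForm F V₂}
    (e : Q₁.IsometryEquiv Q₂) {l : ℕ} {ε : ℤ} (h : HasType Q₁ l ε) : HasType Q₂ l ε := by
  obtain ⟨hV, hQ, hε, hz⟩ := h
  refine ⟨?_, ?_, hε, ?_⟩
  · rw [← hV]
    exact (LinearEquiv.finrank_eq e.toLinearEquiv).symm
  · rw [nondeg_iff] at hQ ⊢
    intro x hx
    have : e.symm x = 0 := by
      apply hQ
      intro y
      have := hx (e y)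
      have h2 : polar Q₂ x (e y) = polar Q₁ (e.symm x) y := by
        have e1 : x + e y = e (e.symm x + y) := by
          rw [map_add e, e.apply_symm_apply]
        simp only [polar]
        rw [e1, e.map_app, e.map_app, ← e.map_app (e.symm x), e.apply_symm_apply]
      rw [h2] at this
      exact this
    have h3 := congrArg e this
    rwa [e.apply_symm_apply, map_zero] at h3
  · rw [nc_congr e]
    exact hz

theorem nondeg_prod (Q₁ : QuadraticForm F V) (hQ₁ : (polarBilin Q₁).Nondegenerate)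
    (Q₂ : QuadraticForm F V₂) (hQ₂ : (polarBilin Q₂).Nondegenerate) :
    (polarBilin (Q₁.prod Q₂)).Nondegenerate := by
  rw [nondeg_iff] at hQ₁ hQ₂ ⊢
  intro x hx
  apply Prod.ext
  · apply hQ₁
    intro y
    have := hx (y, 0)
    rw [polar_prod] at this
    simpa [polar] using this
  · apply hQ₂
    intro y
    have := hx (0, y)
    rw [polar_prod] at this
    simpa [polar] using this

theorem HasType.prod {Q₁ : QuadraticForm F V} {Q₂ : QuadraticForm F V₂} {l₁ l₂ : ℕ}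
    {ε₁ ε₂ : ℤ} (h₁ : HasType Q₁ l₁ ε₁) (h₂ : HasType Q₂ l₂ ε₂) :
    HasType (Q₁.prod Q₂) (l₁ + l₂ + 1) (ε₁ * ε₂) := by
  have n1 := h₁.nc_one
  have n2 := h₂.nc_one
  obtain ⟨hV₁, hQ₁, hε₁, hz₁⟩ := h₁
  obtain ⟨hV₂, hQ₂, hε₂, hz₂⟩ := h₂
  refine ⟨?_, nondeg_prod Q₁ hQ₁ Q₂ hQ₂, ?_, ?_⟩
  · rw [Module.finrank_prod, hV₁, hV₂]; ring
  · rcases hε₁ with rfl | rfl <;> rcases hε₂ with rfl | rfl <;> simp
  · have hq : 1 ≤ Fintype.card F := Fintype.card_pos
    have h0 := nc_zero_prod Q₁ hQ₁ l₁ hV₁ Q₂ hQ₂ l₂ hV₂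
    have h0' : (nc (Q₁.prod Q₂) 0 : ℤ) = (nc Q₁ 0 : ℤ) * (nc Q₂ 0 : ℤ) +
        ((Fintype.card F : ℤ) - 1) * ((nc Q₁ 1 : ℤ) * (nc Q₂ 1 : ℤ)) := by
      have := congrArg (fun n : ℕ => (n : ℤ)) h0
      simp only [Nat.cast_add, Nat.cast_mul, Nat.cast_sub hq, Nat.cast_one] at this
      exact this
    rw [h0', hz₁, hz₂, n1, n2]
    have e1 : ε₁ * ε₁ = 1 := by rcases hε₁ with rfl | rfl <;> norm_num
    have e2 : ε₂ * ε₂ = 1 := by rcases hε₂ with rfl | rfl <;> norm_num
    set q : ℤ := (Fintype.card F : ℤ)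
    have p1 : q ^ (2 * l₁ + 1) = q * (q ^ l₁) ^ 2 := by ring
    have p2 : q ^ (2 * l₂ + 1) = q * (q ^ l₂) ^ 2 := by ring
    have p3 : q ^ (2 * (l₁ + l₂ + 1) + 1) = q ^ 3 * (q ^ l₁) ^ 2 * (q ^ l₂) ^ 2 := by ring
    have p4 : q ^ (l₁ + l₂ + 1) = q * q ^ l₁ * q ^ l₂ := by ring
    rw [p1, p2, p3, p4]
    ring

end Ty

section Std

theorem hasType_QP (l : ℕ) : HasType (Cfsg.Agent.S0287.QP (F := F) (l + 1)) l 1 := by
  refine ⟨?_, Cfsg.Agent.S0287.nondegenerate (l + 1), Or.inl rfl, ?_⟩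
  · rw [Module.finrank_pi, Fintype.card_sum, Fintype.card_fin]; ring
  · have h := Cfsg.Agent.S0289.result (F := F) rfl (l + 1) (by omega)
    have h' : nc (Cfsg.Agent.S0287.QP (F := F) (l + 1)) 0 =
        Fintype.card F ^ (2 * (l + 1) - 1) + Fintype.card F ^ (l + 1) -
          Fintype.card F ^ (l + 1 - 1) := by
      rw [← h]
      unfold nc
      apply Nat.card_congr
      apply Equiv.subtypeEquivRight
      intro v
      rw [Cfsg.Agent.S0287.QP_apply]
    rw [h']
    have e1 : 2 * (l + 1) - 1 = 2 * l + 1 := by omega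
    have e2 : l + 1 - 1 = l := by omega
    rw [e1, e2]
    have hq : 1 ≤ Fintype.card F := Fintype.card_pos
    have hle : Fintype.card F ^ l ≤ Fintype.card F ^ (2 * l + 1) + Fintype.card F ^ (l + 1) := by
      have : Fintype.card F ^ l ≤ Fintype.card F ^ (l + 1) := Nat.pow_le_pow_right hq (by omega)
      omega
    rw [Nat.cast_sub hle]
    push_cast
    ring

theorem hasType_QM (l : ℕ) (a c : F)
    (hac : ∀ z₁ z₂ : F, z₁ ^ 2 + a * z₁ * z₂ + c * z₂ ^ 2 = 0 → z₁ = 0 ∧ z₂ = 0) :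
    HasType (Cfsg.Agent.S0288.QM (F := F) l a c) l (-1) := by
  refine ⟨?_, Cfsg.Agent.S0288.nondegenerate l a c (Cfsg.Agent.S0288.disc_ne_zero a c hac),
    Or.inr rfl, ?_⟩
  · rw [Module.finrank_pi, Fintype.card_sum, Fintype.card_sum, Fintype.card_fin, Fintype.card_fin]
    ring
  · have h := Cfsg.Agent.S0290.result (F := F) rfl (l + 1) (by omega) a c hac
    have h' : nc (Cfsg.Agent.S0288.QM (F := F) l a c) 0 =
        Fintype.card F ^ (2 * (l + 1) - 1) + Fintype.card F ^ (l + 1 - 1) -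
          Fintype.card F ^ (l + 1) := by
      rw [← h]
      unfold nc
      apply Nat.card_congr
      apply Equiv.subtypeEquivRight
      intro v
      rw [Cfsg.Agent.S0288.QM_apply]
      rfl
    rw [h']
    have e1 : 2 * (l + 1) - 1 = 2 * l + 1 := by omega
    have e2 : l + 1 - 1 = l := by omega
    rw [e1, e2]
    have hq : 1 ≤ Fintype.card F := Fintype.card_pos
    have hle : Fintype.card F ^ (l + 1) ≤ Fintype.card F ^ (2 * l + 1) + Fintype.card F ^ l := by
      have : Fintype.card F ^ (l + 1) ≤ Fintype.card F ^ (2 * l + 1) :=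
        Nat.pow_le_pow_right hq (by omega)
      omega
    rw [Nat.cast_sub hle]
    push_cast
    ring

variable {V : Type u} [AddCommGroup V] [Module F V] [FiniteDimensional F V]

/-- every nondegenerate quadratic space of even positive dimension has a type -/
theorem exists_hasType (Q : QuadraticForm F V) (hQ : (polarBilin Q).Nondegenerate) (l : ℕ)
    (hV : finrank F V = 2 * l + 2) : ∃ ε, HasType Q l ε := by
  rcases Cfsg.Agent.H9.QuadStd.classify_even Q hQ l hV with ⟨g, hg⟩ | ⟨ζ, hζ, g, hg⟩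
  · refine ⟨1, HasType.congr (Q₁ := Cfsg.Agent.S0287.QP (F := F) (l + 1)) ?_ (hasType_QP l)⟩
    exact (⟨g, fun v => by rw [Cfsg.Agent.S0287.QP_apply]; exact hg v⟩ :
      Q.IsometryEquiv (Cfsg.Agent.S0287.QP (F := F) (l + 1))).symm
  · refine ⟨-1, HasType.congr (Q₁ := Cfsg.Agent.S0288.QM (F := F) l 1 ζ) ?_
      (hasType_QM l 1 ζ (Cfsg.Agent.S2617.aniso_of_rootless hζ))⟩
    exact (⟨g, fun v => by rw [Cfsg.Agent.S0288.QM_apply]; exact hg v⟩ :
      Q.IsometryEquiv (Cfsg.Agent.S0288.QM (F := F) l 1 ζ)).symm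

end Std

end Cfsg.Agent.Lib.Helper8.QType
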