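import Mathlib
import Cfsg.Agent.Lib.Helper8.BG15A
import Cfsg.Agent.S0022
import Cfsg.Agent.S0027
import Cfsg.Agent.S1446

/-!
Bender–Glauberman §15, helper8: an abstract consequence of S1446 (B&G Theorem 3.7-type) through a
quotient: if a Frobenius group `D ⋊ K` (`|K|` prime) acts coprimely on a nilpotent group `Q`,
`Q₀ := C_Q(D)` is normal in the ambient group and `C_Q(K)` is cyclic, then `D'` centralizes `Q`.
-/

set_option autoImplicit false
set_option linter.unusedSectionVars false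
set_option linter.unusedVariables false
set_option linter.style.haveILetI false
set_option maxHeartbeats 4000000
open Cfsg
open scoped commutatorElement Pointwise

namespace Cfsg.Agent.Lib.Helper8.BG15

universe u

theorem derived_le_centralizer_of_frobenius {H : Type u} [Group H] [Finite H]
    (hodd : Odd (Nat.card H)) {Q D K : Subgroup H} (hQnil : Group.IsNilpotent ↥Q)
    (hDQ : D ≤ Subgroup.normalizer (Q : Set H)) (hKQ : K ≤ Subgroup.normalizer (Q : Set H))
    (hKD : K ≤ Subgroup.normalizer (D : Set H)) (hD1 : D ≠ ⊥) (hKp : (Nat.card ↥K).Prime)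
    (hcop : (Nat.card ↥(D ⊔ K : Subgroup H)).Coprime (Nat.card ↥Q))
    (hfrob : ∀ k ∈ K, k ≠ 1 → D ⊓ Subgroup.centralizer ({k} : Set H) = ⊥)
    (hsolv : Group.IsSolvable ↥(D ⊔ K : Subgroup H))
    [hN : (Q ⊓ Subgroup.centralizer (D : Set H)).Normal]
    (hCK : IsCyclic ↥(Q ⊓ Subgroup.centralizer (K : Set H) : Subgroup H)) :
    ⁅D, D⁆ ≤ Subgroup.centralizer (Q : Set H) := by
  classical
  obtain ⟨N, hNdef⟩ : ∃ N : Subgroup H, N = Q ⊓ Subgroup.centralizer (D : Set H) := ⟨_, rfl⟩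
  haveI hNn : N.Normal := hNdef ▸ hN
  have hNQ : N ≤ Q := hNdef ▸ inf_le_left
  have hNCD : N ≤ Subgroup.centralizer (D : Set H) := hNdef ▸ inf_le_right
  by_cases hQN : Q ≤ N
  · have h1 : D ≤ Subgroup.centralizer (Q : Set H) := by
      rw [Subgroup.le_centralizer_iff]
      exact hQN.trans hNCD
    exact (Subgroup.commutator_le_self D).trans h1
  haveI hQsolv : Group.IsSolvable ↥Q := by
    haveI := hQnil
    infer_instance
  have hcopD : (Nat.card ↥D).Coprime (Nat.card ↥Q) :=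
    hcop.coprime_dvd_left (Subgroup.card_dvd_of_le le_sup_left)
  have hcopK : (Nat.card ↥K).Coprime (Nat.card ↥Q) :=
    hcop.coprime_dvd_left (Subgroup.card_dvd_of_le le_sup_right)
  have hDKN : (D ⊔ K) ⊓ N = ⊥ :=
    (Subgroup.disjoint_of_coprime_natCard
      (hcop.coprime_dvd_right (Subgroup.card_dvd_of_le hNQ))).eq_bot
  have hDK : D ⊓ K = ⊥ := by
    rw [eq_bot_iff]
    intro d hd
    rw [Subgroup.mem_bot]
    by_contra hd1
    have h1 : d ∈ D ⊓ Subgroup.centralizer ({d} : Set H) := by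
      refine Subgroup.mem_inf.mpr ⟨hd.1, ?_⟩
      rw [Subgroup.mem_centralizer_iff]
      intro z hz
      rw [Set.mem_singleton_iff] at hz
      rw [hz]
    rw [hfrob d hd.2 hd1, Subgroup.mem_bot] at h1
    exact hd1 h1
  have hK1 : K ≠ ⊥ := by
    intro h0
    rw [h0, Subgroup.card_bot] at hKp
    exact Nat.not_prime_one hKp
  let π := QuotientGroup.mk' N
  have hker : π.ker = N := QuotientGroup.ker_mk' N
  have hπeq : ∀ a b : H, π a = π b ↔ a⁻¹ * b ∈ N := by
    intro a b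
    show (QuotientGroup.mk a : H ⧸ N) = QuotientGroup.mk b ↔ _
    exact QuotientGroup.eq
  have hπ1 : ∀ a : H, π a = 1 ↔ a ∈ N := by
    intro a
    rw [← MonoidHom.mem_ker, hker]
  -- hypotheses of S1446
  have e1 : D.map π ≠ ⊥ := by
    rw [Ne, Subgroup.map_eq_bot_iff, hker]
    intro h0
    apply hD1
    rw [eq_bot_iff, ← hDKN]
    exact le_inf le_sup_left h0
  have e2 : K.map π ≠ ⊥ := by
    rw [Ne, Subgroup.map_eq_bot_iff, hker]
    intro h0
    apply hK1
    rw [eq_bot_iff, ← hDKN]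
    exact le_inf le_sup_right h0
  have e3 : D.map π ⊓ K.map π = ⊥ := by
    rw [eq_bot_iff]
    rintro x ⟨⟨d, hd, rfl⟩, ⟨k, hk, hkd⟩⟩
    rw [Subgroup.mem_bot]
    have h1 : k⁻¹ * d ∈ N := (hπeq k d).mp hkd
    have h2 : k⁻¹ * d ∈ (D ⊔ K) ⊓ N :=
      Subgroup.mem_inf.mpr ⟨Subgroup.mul_mem _ (Subgroup.inv_mem _ (Subgroup.mem_sup_right hk))
        (Subgroup.mem_sup_left hd), h1⟩
    rw [hDKN, Subgroup.mem_bot] at h2
    have h3 : d = k := by
      have : d = k * (k⁻¹ * d) := by group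
      rw [this, h2, mul_one]
    have h4 : d ∈ D ⊓ K := Subgroup.mem_inf.mpr ⟨hd, h3 ▸ hk⟩
    rw [hDK, Subgroup.mem_bot] at h4
    rw [h4, map_one]
  have e4 : K.map π ≤ Subgroup.normalizer ((D.map π : Subgroup (H ⧸ N)) : Set (H ⧸ N)) :=
    (Subgroup.map_mono hKD).trans (Subgroup.le_normalizer_map π)
  have e5 : ∀ r ∈ K.map π, r ≠ 1 →
      D.map π ⊓ Subgroup.centralizer ({r} : Set (H ⧸ N)) = ⊥ := by
    rintro _ ⟨k, hk, rfl⟩ hr1
    have hk1 : k ≠ 1 := by
      intro h0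
      apply hr1
      rw [h0, map_one]
    rw [eq_bot_iff]
    rintro _ ⟨⟨d, hd, rfl⟩, hdc⟩
    rw [Subgroup.mem_bot]
    have hcomm : π k * π d = π d * π k :=
      Subgroup.mem_centralizer_iff.mp hdc (π k) (Set.mem_singleton _)
    have h1 : (d * k)⁻¹ * (k * d) ∈ N := by
      rw [← hπeq, map_mul, map_mul, hcomm]
    have h2 : (d * k)⁻¹ * (k * d) ∈ D := by
      have hkd : k⁻¹ * d⁻¹ * k ∈ D := by
        have := (Subgroup.mem_normalizer_iff.mp (hKD (K.inv_mem hk)) d⁻¹).mp (D.inv_mem hd)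
        rwa [inv_inv] at this
      have : (d * k)⁻¹ * (k * d) = (k⁻¹ * d⁻¹ * k) * d := by group
      rw [this]
      exact D.mul_mem hkd hd
    have h3 : (d * k)⁻¹ * (k * d) ∈ (D ⊔ K) ⊓ N :=
      Subgroup.mem_inf.mpr ⟨Subgroup.mem_sup_left h2, h1⟩
    rw [hDKN, Subgroup.mem_bot] at h3
    have h4 : k * d = d * k := by
      have : k * d = (d * k) * ((d * k)⁻¹ * (k * d)) := by group
      rw [this, h3, mul_one]
    have h5 : d ∈ D ⊓ Subgroup.centralizer ({k} : Set H) := by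
      refine Subgroup.mem_inf.mpr ⟨hd, ?_⟩
      rw [Subgroup.mem_centralizer_iff]
      intro z hz
      rw [Set.mem_singleton_iff] at hz
      rw [hz]
      exact h4
    rw [hfrob k hk hk1, Subgroup.mem_bot] at h5
    rw [h5, map_one]
  have e6 : Group.IsSolvable ↥(D.map π ⊔ K.map π : Subgroup (H ⧸ N)) := by
    rw [← Subgroup.map_sup]
    haveI := hsolv
    exact Group.isSolvable_of_surjective (π.subgroupMap_surjective (D ⊔ K))
  have e7 : Odd (Nat.card ↥(D.map π ⊔ K.map π : Subgroup (H ⧸ N))) := by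
    rw [← Subgroup.map_sup]
    exact Odd.of_dvd_nat hodd
      ((Subgroup.card_map_dvd (D ⊔ K) π).trans (Subgroup.card_subgroup_dvd_card _))
  have e8 : Q.map π ≠ ⊥ := by
    rw [Ne, Subgroup.map_eq_bot_iff, hker]
    exact hQN
  have e9 : Group.IsNilpotent ↥(Q.map π) := nilpotent_map π Q hQnil
  have e10 : D.map π ≤ Subgroup.normalizer ((Q.map π : Subgroup (H ⧸ N)) : Set (H ⧸ N)) :=
    (Subgroup.map_mono hDQ).trans (Subgroup.le_normalizer_map π)
  have e11 : K.map π ≤ Subgroup.normalizer ((Q.map π : Subgroup (H ⧸ N)) : Set (H ⧸ N)) :=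
    (Subgroup.map_mono hKQ).trans (Subgroup.le_normalizer_map π)
  have e12 : (Nat.card ↥(D.map π ⊔ K.map π : Subgroup (H ⧸ N))).Coprime
      (Nat.card ↥(Q.map π)) := by
    rw [← Subgroup.map_sup]
    exact (hcop.coprime_dvd_left (Subgroup.card_map_dvd (D ⊔ K) π)).coprime_dvd_right
      (Subgroup.card_map_dvd Q π)
  -- fixed points lift (S0022)
  have hNtop : ∀ X : Subgroup H, X ≤ Subgroup.normalizer (N : Set H) := by
    intro X
    rw [Subgroup.normalizer_eq_top]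
    exact le_top
  have hlift : ∀ (A : Subgroup H), A ≤ Subgroup.normalizer (Q : Set H) →
      (Nat.card ↥A).Coprime (Nat.card ↥Q) → ∀ a ∈ Q,
      (∀ x ∈ A, π x * π a = π a * π x) →
      ∃ c ∈ Q ⊓ Subgroup.centralizer (A : Set H), π a = π c := by
    intro A hAQ hAcop a ha hfix
    have h22 := Cfsg.Agent.S0022.result A Q hAQ hAcop (Or.inr hQsolv) N hNQ (hNtop Q) (hNtop A)
      a ha (fun x hx => by
        rw [← hπ1, map_mul, map_mul, map_mul, map_inv, map_inv, hfix x hx]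
        group)
    obtain ⟨c, hc, hac⟩ := h22
    exact ⟨c, hc, (hπeq a c).mpr hac⟩
  have e13 : Q.map π ⊓ Subgroup.centralizer ((D.map π : Subgroup (H ⧸ N)) : Set (H ⧸ N)) = ⊥ := by
    rw [eq_bot_iff]
    rintro _ ⟨⟨a, ha, rfl⟩, hac⟩
    rw [Subgroup.mem_bot]
    obtain ⟨c, hc, hac'⟩ := hlift D hDQ hcopD a ha (fun x hx =>
      Subgroup.mem_centralizer_iff.mp hac (π x) ⟨x, hx, rfl⟩)
    rw [hac', hπ1, hNdef]
    exact hc
  have hKgen : ∀ k ∈ K, k ≠ 1 → ∀ k' ∈ K, ∃ n : ℤ, k ^ n = k' := by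
    intro k hk hk1 k' hk'
    haveI : Fact (Nat.card ↥K).Prime := ⟨hKp⟩
    have h1 : Subgroup.zpowers (⟨k, hk⟩ : ↥K) = ⊤ :=
      zpowers_eq_top_of_prime_card rfl (fun h0 => hk1 (congrArg Subtype.val h0))
    have h2 : (⟨k', hk'⟩ : ↥K) ∈ Subgroup.zpowers (⟨k, hk⟩ : ↥K) := by rw [h1]; trivial
    obtain ⟨n, hn⟩ := Subgroup.mem_zpowers_iff.mp h2
    exact ⟨n, by simpa using congrArg Subtype.val hn⟩
  have e14 : ∀ x ∈ K.map π, x ≠ 1 →
      Q.map π ⊓ Subgroup.centralizer ({x} : Set (H ⧸ N)) =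
        Q.map π ⊓ Subgroup.centralizer ((K.map π : Subgroup (H ⧸ N)) : Set (H ⧸ N)) := by
    rintro _ ⟨k, hk, rfl⟩ hx1
    have hk1 : k ≠ 1 := by
      intro h0
      apply hx1
      rw [h0, map_one]
    apply le_antisymm
    · refine inf_le_inf_left _ ?_
      intro z hz
      rw [Subgroup.mem_centralizer_iff]
      rintro _ ⟨k', hk', rfl⟩
      obtain ⟨n, rfl⟩ := hKgen k hk hk1 k' hk'
      have hzk : π k * z = z * π k :=
        Subgroup.mem_centralizer_iff.mp hz (π k) (Set.mem_singleton _)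
      rw [map_zpow]
      exact (Commute.zpow_left (show Commute (π k) z from hzk) n).eq
    · refine inf_le_inf_left _ (Subgroup.centralizer_le ?_)
      rw [Set.singleton_subset_iff]
      exact ⟨k, hk, rfl⟩
  have e15 : IsCyclic ↥(Q.map π ⊓
      Subgroup.centralizer ((K.map π : Subgroup (H ⧸ N)) : Set (H ⧸ N)) : Subgroup (H ⧸ N)) := by
    have hle : Q.map π ⊓ Subgroup.centralizer ((K.map π : Subgroup (H ⧸ N)) : Set (H ⧸ N)) ≤
        (Q ⊓ Subgroup.centralizer (K : Set H)).map π := by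
      rintro _ ⟨⟨a, ha, rfl⟩, hac⟩
      obtain ⟨c, hc, hac'⟩ := hlift K hKQ hcopK a ha (fun x hx =>
        Subgroup.mem_centralizer_iff.mp hac (π x) ⟨x, hx, rfl⟩)
      exact ⟨c, hc, hac'.symm⟩
    haveI : IsCyclic ↥((Q ⊓ Subgroup.centralizer (K : Set H)).map π) := by
      haveI := hCK
      exact isCyclic_of_surjective (π.subgroupMap _) (π.subgroupMap_surjective _)
    exact Subgroup.isCyclic_of_le hle
  have h46 := (Cfsg.Agent.S1446.result (D.map π) (K.map π) (Q.map π) e1 e2 e3 e4 e5 e6 e7 e8 e9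
    e10 e11 e12 e13 e14).2.2 e15
  -- back to `H`
  have hcomm : ∀ a ∈ ⁅D, D⁆, ∀ x ∈ Q, x * a * x⁻¹ * a⁻¹ ∈ N := by
    intro a ha x hx
    have ha' : π a ∈ ⁅D.map π, D.map π⁆ := by
      rw [← Subgroup.map_commutator]
      exact ⟨a, ha, rfl⟩
    have h1 : π x * π a = π a * π x :=
      Subgroup.mem_centralizer_iff.mp (h46 ha') (π x) ⟨x, hx, rfl⟩
    rw [← hπ1, map_mul, map_mul, map_mul, map_inv, map_inv, h1]
    group
  have hD'D : ⁅D, D⁆ ≤ D := Subgroup.commutator_le_self D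
  have h27 := Cfsg.Agent.S0027.result ⁅D, D⁆ Q (hD'D.trans hDQ)
    (hcopD.coprime_dvd_left (Subgroup.card_dvd_of_le hD'D)) (Or.inr hQsolv)
  have h3 : ⁅Q, ⁅D, D⁆⁆ ≤ N := by
    rw [Subgroup.commutator_le]
    intro x hx a ha
    rw [commutatorElement_def]
    exact hcomm a ha x hx
  have h4 : ⁅⁅Q, ⁅D, D⁆⁆, ⁅D, D⁆⁆ = ⊥ := by
    rw [Subgroup.commutator_eq_bot_iff_le_centralizer]
    exact h3.trans (hNCD.trans (Subgroup.centralizer_le hD'D))
  rw [h4] at h27
  have h5 : Q ≤ Subgroup.centralizer ((⁅D, D⁆ : Subgroup H) : Set H) :=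
    Subgroup.commutator_eq_bot_iff_le_centralizer.mp h27.symm
  rw [Subgroup.le_centralizer_iff]
  exact h5

end Cfsg.Agent.Lib.Helper8.BG15
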