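import Mathlib
import Cfsg.Agent.Lib.Helper8.BG15D
import Cfsg.Agent.Lib.Helper8.BG15E
import Cfsg.Agent.H2.BG12.G

/-!
Bender–Glauberman §15, helper8: transport of `derived_le_centralizer_of_frobenius` to subgroups of
an ambient group, and general lemmas for Theorem 15.2(b) in the non-nilpotent case.
-/

set_option autoImplicit false
set_option linter.unusedSectionVars false
set_option linter.unusedVariables false
set_option linter.style.haveILetI false
set_option maxHeartbeats 2000000
open Cfsg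
open scoped commutatorElement Pointwise

namespace Cfsg.Agent.Lib.Helper8.BG15

universe u

variable {G : Type u} [Group G]

/-- centralizer of `X.subgroupOf M` inside `↥M` -/
theorem centralizer_subgroupOf {X M : Subgroup G} (hXM : X ≤ M) :
    Subgroup.centralizer ((X.subgroupOf M : Subgroup ↥M) : Set ↥M) =
      (Subgroup.centralizer (X : Set G)).subgroupOf M := by
  ext x
  rw [Subgroup.mem_subgroupOf, Subgroup.mem_centralizer_iff, Subgroup.mem_centralizer_iff]
  constructor
  · intro h d hd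
    have := h ⟨d, hXM hd⟩ (Subgroup.mem_subgroupOf.mpr hd)
    exact congrArg Subtype.val this
  · intro h d hd
    exact Subtype.ext (h d.1 (Subgroup.mem_subgroupOf.mp hd))

/-- centralizer of a singleton inside `↥M` -/
theorem centralizer_singleton_subtype {M : Subgroup G} (k : ↥M) :
    Subgroup.centralizer ({k} : Set ↥M) =
      (Subgroup.centralizer ({(k : G)} : Set G)).subgroupOf M := by
  ext x
  rw [Subgroup.mem_subgroupOf, Subgroup.mem_centralizer_iff, Subgroup.mem_centralizer_iff]
  constructor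
  · intro h d hd
    rw [Set.mem_singleton_iff] at hd
    rw [hd]
    exact congrArg Subtype.val (h k rfl)
  · intro h d hd
    rw [Set.mem_singleton_iff] at hd
    rw [hd]
    exact Subtype.ext (h k.1 rfl)

/-- normalizers and `subgroupOf` -/
theorem subgroupOf_le_normalizer_subgroupOf {X Y M : Subgroup G}
    (h : X ≤ Subgroup.normalizer (Y : Set G)) :
    X.subgroupOf M ≤ Subgroup.normalizer ((Y.subgroupOf M : Subgroup ↥M) : Set ↥M) := by
  intro x hx
  rw [Subgroup.mem_normalizer_iff]
  intro y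
  rw [Subgroup.mem_subgroupOf, Subgroup.mem_subgroupOf]
  exact Subgroup.mem_normalizer_iff.mp (h (Subgroup.mem_subgroupOf.mp hx)) y.1

theorem derived_le_centralizer_of_frobenius' [Finite G]
    (hodd : Odd (Nat.card G)) {M Q D K : Subgroup G} (hQM : Q ≤ M) (hDM : D ≤ M) (hKM : K ≤ M)
    (hQnil : Group.IsNilpotent ↥Q)
    (hDQ : D ≤ Subgroup.normalizer (Q : Set G)) (hKQ : K ≤ Subgroup.normalizer (Q : Set G))
    (hKD : K ≤ Subgroup.normalizer (D : Set G)) (hD1 : D ≠ ⊥) (hKp : (Nat.card ↥K).Prime)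
    (hcop : (Nat.card ↥(D ⊔ K : Subgroup G)).Coprime (Nat.card ↥Q))
    (hfrob : ∀ k ∈ K, k ≠ 1 → D ⊓ Subgroup.centralizer ({k} : Set G) = ⊥)
    (hsolv : Group.IsSolvable ↥M)
    (hN : M ≤ Subgroup.normalizer ((Q ⊓ Subgroup.centralizer (D : Set G) : Subgroup G) : Set G))
    (hCK : IsCyclic ↥(Q ⊓ Subgroup.centralizer (K : Set G) : Subgroup G)) :
    ⁅D, D⁆ ≤ Subgroup.centralizer (Q : Set G) := by
  have hoddM : Odd (Nat.card ↥M) := Odd.of_dvd_nat hodd (Subgroup.card_subgroup_dvd_card M)
  have hDKM : D ⊔ K ≤ M := sup_le hDM hKM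
  have hsup : (D ⊔ K).subgroupOf M = D.subgroupOf M ⊔ K.subgroupOf M :=
    Subgroup.subgroupOf_sup hDM hKM
  haveI hNn : (Q.subgroupOf M ⊓
      Subgroup.centralizer ((D.subgroupOf M : Subgroup ↥M) : Set ↥M)).Normal := by
    rw [centralizer_subgroupOf hDM]
    have : Q.subgroupOf M ⊓ (Subgroup.centralizer (D : Set G)).subgroupOf M =
        (Q ⊓ Subgroup.centralizer (D : Set G)).subgroupOf M := by
      ext x; simp only [Subgroup.mem_inf, Subgroup.mem_subgroupOf]
    rw [this]
    exact Subgroup.normal_subgroupOf_of_le_normalizer hN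
  have key := derived_le_centralizer_of_frobenius (H := ↥M) hoddM
    (Q := Q.subgroupOf M) (D := D.subgroupOf M) (K := K.subgroupOf M)
    (Group.nilpotent_of_mulEquiv (Subgroup.subgroupOfEquivOfLe hQM).symm)
    (subgroupOf_le_normalizer_subgroupOf hDQ) (subgroupOf_le_normalizer_subgroupOf hKQ)
    (subgroupOf_le_normalizer_subgroupOf hKD)
    (by
      intro h
      apply hD1
      rw [eq_bot_iff]
      intro d hd
      have : (⟨d, hDM hd⟩ : ↥M) ∈ D.subgroupOf M := Subgroup.mem_subgroupOf.mpr hd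
      rw [h, Subgroup.mem_bot] at this
      rw [Subgroup.mem_bot]
      exact congrArg Subtype.val this)
    (by rw [Cfsg.Agent.Lib.Helper7.card_subgroupOf_of_le hKM]; exact hKp)
    (by
      rw [← hsup, Cfsg.Agent.Lib.Helper7.card_subgroupOf_of_le hDKM,
        Cfsg.Agent.Lib.Helper7.card_subgroupOf_of_le hQM]
      exact hcop)
    (by
      intro k hk hk1
      rw [centralizer_singleton_subtype, eq_bot_iff]
      intro x hx
      obtain ⟨hx1, hx2⟩ := Subgroup.mem_inf.mp hx
      have h1 : (x : G) ∈ D ⊓ Subgroup.centralizer ({(k : G)} : Set G) :=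
        Subgroup.mem_inf.mpr ⟨Subgroup.mem_subgroupOf.mp hx1, Subgroup.mem_subgroupOf.mp hx2⟩
      rw [hfrob k.1 (Subgroup.mem_subgroupOf.mp hk)
        (fun h => hk1 (Subtype.ext h)), Subgroup.mem_bot] at h1
      rw [Subgroup.mem_bot]
      exact Subtype.ext h1)
    (by
      rw [← hsup]
      haveI := hsolv
      infer_instance)
    (by
      rw [centralizer_subgroupOf hKM]
      have e : Q.subgroupOf M ⊓ (Subgroup.centralizer (K : Set G)).subgroupOf M =
          (Q ⊓ Subgroup.centralizer (K : Set G)).subgroupOf M := by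
        ext x; simp only [Subgroup.mem_inf, Subgroup.mem_subgroupOf]
      rw [e]
      haveI := hCK
      exact (Subgroup.subgroupOfEquivOfLe (inf_le_left.trans hQM)).symm.isCyclic.mp hCK)
  have hmap : (⁅D.subgroupOf M, D.subgroupOf M⁆).map M.subtype = ⁅D, D⁆ := by
    rw [Subgroup.map_commutator, Subgroup.subgroupOf_map_subtype, inf_eq_left.mpr hDM]
  rw [← hmap]
  rintro _ ⟨x, hx, rfl⟩
  have hx' := key hx
  rw [centralizer_subgroupOf hQM] at hx'
  exact Subgroup.mem_subgroupOf.mp hx'

/-- if `S = QD` with `Q` normal in `S` then `S' ≤ D'Q` -/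
theorem commutator_le_of_complIn {S Q D : Subgroup G} (hQS : Q ≤ S) (hDS : D ≤ S)
    (hn : S ≤ Subgroup.normalizer (Q : Set G))
    (hmul : ∀ s ∈ S, ∃ a ∈ Q, ∃ b ∈ D, s = a * b) : ⁅S, S⁆ ≤ ⁅D, D⁆ ⊔ Q := by
  haveI : (Q.subgroupOf S).Normal := Subgroup.normal_subgroupOf_of_le_normalizer hn
  have hsup : Q.subgroupOf S ⊔ D.subgroupOf S = ⊤ := by
    rw [eq_top_iff]
    intro s _
    obtain ⟨a, ha, b, hb, hab⟩ := hmul s.1 s.2
    have hs : s = (⟨a, hQS ha⟩ : ↥S) * ⟨b, hDS hb⟩ := Subtype.ext hab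
    rw [hs]
    exact Subgroup.mul_mem _ (Subgroup.mem_sup_left (Subgroup.mem_subgroupOf.mpr ha))
      (Subgroup.mem_sup_right (Subgroup.mem_subgroupOf.mpr hb))
  have h1 := Cfsg.Agent.Lib.helper3.BG12.commutator_le_of_sup_eq_top
    (Q.subgroupOf S) (D.subgroupOf S) hsup
  have h2 := Subgroup.map_mono (f := S.subtype) h1
  rw [Subgroup.map_subtype_commutator, Subgroup.map_sup, Subgroup.map_commutator,
    Subgroup.subgroupOf_map_subtype, Subgroup.subgroupOf_map_subtype, inf_eq_left.mpr hDS,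
    inf_eq_left.mpr hQS] at h2
  exact h2

/-- if `S = QD` with `Q` normal in `S` and `D` nilpotent then `C_S(Q)` is nilpotent -/
theorem nilpotent_inf_centralizer_of_complIn {S Q D : Subgroup G} (hQS : Q ≤ S) (hDS : D ≤ S)
    (hn : S ≤ Subgroup.normalizer (Q : Set G))
    (hmul : ∀ s ∈ S, ∃ a ∈ Q, ∃ b ∈ D, s = a * b) (hD : Group.IsNilpotent ↥D) :
    Group.IsNilpotent ↥(S ⊓ Subgroup.centralizer (Q : Set G) : Subgroup G) := by
  haveI hQn : (Q.subgroupOf S).Normal := Subgroup.normal_subgroupOf_of_le_normalizer hn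
  haveI hquot : Group.IsNilpotent (↥S ⧸ Q.subgroupOf S) := by
    let g : ↥D →* ↥S ⧸ Q.subgroupOf S :=
      (QuotientGroup.mk' (Q.subgroupOf S)).comp (Subgroup.inclusion hDS)
    have hg : Function.Surjective g := by
      intro y
      obtain ⟨s, rfl⟩ := QuotientGroup.mk'_surjective _ y
      obtain ⟨a, ha, b, hb, hab⟩ := hmul s.1 s.2
      refine ⟨⟨b, hb⟩, ?_⟩
      show QuotientGroup.mk' _ (Subgroup.inclusion hDS ⟨b, hb⟩) = QuotientGroup.mk' _ s
      rw [QuotientGroup.mk'_apply, QuotientGroup.mk'_apply, QuotientGroup.eq,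
        Subgroup.mem_subgroupOf]
      have e : (((Subgroup.inclusion hDS ⟨b, hb⟩)⁻¹ * s : ↥S) : G) = b⁻¹ * (a * b) := by
        show b⁻¹ * (s : G) = _
        rw [hab]
      rw [e]
      have hb' : b⁻¹ ∈ Subgroup.normalizer (Q : Set G) := hn (S.inv_mem (hDS hb))
      have := (Subgroup.mem_normalizer_iff.mp hb' a).mp ha
      rwa [inv_inv, mul_assoc] at this
    haveI := hD
    exact Group.nilpotent_of_surjective g hg
  obtain ⟨C, hCdef⟩ : ∃ C : Subgroup G, C = S ⊓ Subgroup.centralizer (Q : Set G) := ⟨_, rfl⟩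
  rw [← hCdef]
  have hCS : C ≤ S := hCdef ▸ inf_le_left
  let f : ↥C →* ↥S ⧸ Q.subgroupOf S :=
    (QuotientGroup.mk' (Q.subgroupOf S)).comp (Subgroup.inclusion hCS)
  have hker : f.ker ≤ Subgroup.center ↥C := by
    intro c hc
    rw [MonoidHom.mem_ker] at hc
    have hc' : (Subgroup.inclusion hCS c) ∈ Q.subgroupOf S := by
      have : QuotientGroup.mk' (Q.subgroupOf S) (Subgroup.inclusion hCS c) = 1 := hc
      rwa [QuotientGroup.mk'_apply, QuotientGroup.eq_one_iff] at this
    have hcQ : (c : G) ∈ Q := Subgroup.mem_subgroupOf.mp hc'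
    rw [Subgroup.mem_center_iff]
    intro d
    have hCC : C ≤ Subgroup.centralizer (Q : Set G) := hCdef ▸ inf_le_right
    have hd : (d : G) ∈ Subgroup.centralizer (Q : Set G) := hCC d.2
    exact Subtype.ext (Subgroup.mem_centralizer_iff.mp hd c.1 hcQ).symm
  exact Subgroup.isNilpotent_of_ker_le_center f hker

/-- in a finite nilpotent group, a normal Hall subgroup `A` satisfies `H = C_H(A) A` -/
theorem exists_mul_centralizer_of_nilpotent {H : Type u} [Group H] [Finite H]
    [hnil : Group.IsNilpotent H] (A : Subgroup H) [hA : A.Normal]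
    (hcop : (Nat.card ↥A).Coprime A.index) (x : H) :
    ∃ c ∈ Subgroup.centralizer (A : Set H), ∃ a ∈ A, c * a = x := by
  have hmem : x ∈ Subgroup.centralizer (A : Set H) ⊔ A := by
    apply Cfsg.Agent.H2.BG12.mem_of_primary_parts (orderOf x) x rfl
    intro r hr _ v _ hvr
    haveI : Fact r.Prime := ⟨hr⟩
    by_cases hrA : r ∣ Nat.card ↥A
    · apply Subgroup.mem_sup_right
      have hc : (Nat.card ↥(Subgroup.zpowers v)).Coprime A.index := by
        obtain ⟨j, hj⟩ := IsPGroup.iff_card.mp hvr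
        rw [hj]
        apply Nat.Coprime.pow_left
        rw [Nat.Prime.coprime_iff_not_dvd hr]
        intro hd
        exact (Nat.Prime.coprime_iff_not_dvd hr).mp
          (Nat.Coprime.coprime_dvd_left hrA hcop) hd
      exact Cfsg.Agent.Lib.Helper4.TypeP.le_normal_of_coprime_index A (Subgroup.zpowers v) hc
        (Subgroup.mem_zpowers v)
    · apply Subgroup.mem_sup_left
      obtain ⟨P, hP⟩ := hvr.exists_le_sylow
      have hPn : (P : Subgroup H).Normal := inferInstance
      have hdisj : Disjoint (P : Subgroup H) A := by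
        apply Subgroup.disjoint_of_coprime_natCard
        obtain ⟨j, hj⟩ := IsPGroup.iff_card.mp P.isPGroup'
        rw [hj]
        apply Nat.Coprime.pow_left
        exact (Nat.Prime.coprime_iff_not_dvd hr).mpr hrA
      rw [Subgroup.mem_centralizer_iff]
      intro a ha
      exact ((Subgroup.commute_of_normal_of_disjoint _ _ hPn hA hdisj v a
        (hP (Subgroup.mem_zpowers v)) ha).eq).symm
  exact Subgroup.mem_sup_of_normal_right.mp hmem

end Cfsg.Agent.Lib.Helper8.BG15
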