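import Mathlib
import Cfsg.Agent.Lib.Helper8.BG15F
import Cfsg.Agent.Lib.Helper5.BG14Z4
import Cfsg.Agent.S1351

/-!
Bender–Glauberman §15, helper8: Theorem 15.2(b) (S1356) in the case `M_σ` not nilpotent,
conditional on (part of) the statement of S1437: `s1356_of_not_nilpotent`, and the assembled
`s1356_of`.
-/

set_option autoImplicit false
set_option linter.unusedSectionVars false
set_option linter.unusedVariables false
set_option linter.style.haveILetI false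
set_option maxHeartbeats 2000000
open Cfsg
open scoped commutatorElement Pointwise

namespace Cfsg.Agent.Lib.Helper8.BG15

open Cfsg.Agent.Lib.Helper8.BGTen
open Cfsg.Agent.H2.BG11 (sigmaCore_le le_normalizer_sigmaCore mem_sigma_of_dvd_sigmaCore)
open Cfsg.Agent.Lib.Helper4.TypeP
open Cfsg.Agent.Lib.Helper4.BG14 (KData)

universe u

variable {G : Type u} [Group G] [Finite G]

/-- the part of the statement of S1437 needed for Theorem 15.2(b) -/
def Hyp1437m (G : Type u) [Group G] : Prop :=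
  ∀ (M : Subgroup G), IsCoatom M → ∀ K U : Subgroup G, Cfsg.IsSigmaDecomposition M K U →
    Cfsg.fittingHallOf M ≠ Cfsg.sigmaCore M →
    U = ⊥ ∧ Cfsg.sigmaCore M = ⁅M, M⁆ ∧ (Nat.card ↥K).Prime ∧
    ∃ q : ℕ, q.Prime ∧ Nat.card ↥(Cfsg.sigmaCore M ⊓ Subgroup.centralizer (K : Set G)) = q ∧
      ∃ Q : Subgroup G, Q ≤ Cfsg.fittingHallOf M ∧ M ≤ Subgroup.normalizer (Q : Set G) ∧
        IsPGroup q ↥Q ∧ ¬ q ∣ Q.relIndex (Cfsg.sigmaCore M) ∧
        ∀ D : Subgroup G, Cfsg.IsComplIn Q D (Cfsg.sigmaCore M) →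
          Group.IsNilpotent ↥D ∧
          M ≤ Subgroup.normalizer ((Q ⊓ Subgroup.centralizer (D : Set G) : Subgroup G) : Set G) ∧
          Nat.card ↥Q = Nat.card ↥(Q ⊓ Subgroup.centralizer (D : Set G)) * q ^ Nat.card ↥K

/-- a normal subgroup `X` of `M = K N` (`|K|` prime, coprime to `|N|`) not inside `N`
contains `K` -/
theorem le_of_not_le_of_prime_index {M K N X : Subgroup G} (hKM : K ≤ M) (hNM : N ≤ M)
    (hXM : X ≤ M) (hMN : M ≤ Subgroup.normalizer (N : Set G))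
    (hMX : M ≤ Subgroup.normalizer (X : Set G))
    (hcard : Nat.card ↥M = Nat.card ↥K * Nat.card ↥N) (hp : (Nat.card ↥K).Prime)
    (hcop : (Nat.card ↥K).Coprime (Nat.card ↥N)) (hXN : ¬ X ≤ N) : K ≤ X := by
  haveI hXn : (X.subgroupOf M).Normal := Subgroup.normal_subgroupOf_of_le_normalizer hMX
  haveI hNn : (N.subgroupOf M).Normal := Subgroup.normal_subgroupOf_of_le_normalizer hMN
  have hNidx : (N.subgroupOf M).index = Nat.card ↥K := by
    have h1 := card_mul_relIndex_of_le hNM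
    rw [hcard, mul_comm (Nat.card ↥K)] at h1
    exact Nat.eq_of_mul_eq_mul_left Nat.card_pos h1
  have hpX : Nat.card ↥K ∣ Nat.card ↥X := by
    by_contra h
    apply hXN
    have hc : (Nat.card ↥(X.subgroupOf M)).Coprime (N.subgroupOf M).index := by
      rw [Cfsg.Agent.Lib.Helper7.card_subgroupOf_of_le hXM, hNidx]
      exact ((Nat.Prime.coprime_iff_not_dvd hp).mpr h).symm
    have h2 := le_normal_of_coprime_index (N.subgroupOf M) (X.subgroupOf M) hc
    intro x hx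
    exact Subgroup.mem_subgroupOf.mp
      (h2 (Subgroup.mem_subgroupOf.mpr hx : (⟨x, hXM hx⟩ : ↥M) ∈ X.subgroupOf M))
  have hXidx : X.relIndex M ∣ Nat.card ↥N := by
    obtain ⟨c, hc⟩ := hpX
    have h1 := card_mul_relIndex_of_le hXM
    rw [hc, hcard, mul_assoc] at h1
    have h2 : c * X.relIndex M = Nat.card ↥N := Nat.eq_of_mul_eq_mul_left hp.pos h1
    exact Dvd.intro_left c h2
  have hc : (Nat.card ↥(K.subgroupOf M)).Coprime (X.subgroupOf M).index := by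
    rw [Cfsg.Agent.Lib.Helper7.card_subgroupOf_of_le hKM]
    exact Nat.Coprime.coprime_dvd_right hXidx hcop
  have h2 := le_normal_of_coprime_index (X.subgroupOf M) (K.subgroupOf M) hc
  intro k hk
  exact Subgroup.mem_subgroupOf.mp
    (h2 (Subgroup.mem_subgroupOf.mpr hk : (⟨k, hKM hk⟩ : ↥M) ∈ K.subgroupOf M))

/-- **Theorem 15.2(b)** (the statement of S1356) when `M_σ` is not nilpotent, from (part of) the
statement of S1437. -/
theorem s1356_of_not_nilpotent (hG : Cfsg.IsMinSimpleOddOrder G) (h37 : Hyp1437m G)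
    (M : Subgroup G) (hM : IsCoatom M) (hnn : ¬ Group.IsNilpotent ↥(Cfsg.sigmaCore M)) :
    ⁅⁅M, M⁆, ⁅M, M⁆⁆ ≤ Cfsg.fittingOf M ∧
      Cfsg.fittingOf M =
        (M ⊓ Subgroup.centralizer (Cfsg.fittingHallOf M : Set G)) ⊔ Cfsg.fittingHallOf M ∧
      ((Cfsg.kappa M).Nonempty → Cfsg.fittingOf M ≤ ⁅M, M⁆) := by
  classical
  have hsolv : Group.IsSolvable ↥M := hG.2.2.2 M hM.1
  have hne : Cfsg.fittingHallOf M ≠ Cfsg.sigmaCore M :=
    fun h => hnn (h ▸ fittingHallOf_nilpotent M)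
  obtain ⟨⟨K, hK⟩, hcyc⟩ := Cfsg.Agent.S1351.result hG M hM
  have hKc := hcyc K hK
  obtain ⟨⟨U, hKU⟩, -⟩ := Cfsg.Agent.Lib.Helper8.BG14K.s1352 hG M hM K hKc hK
  obtain ⟨hU, hσ', hp, q, hq, hKq, Q, hQF, hMQ, hQp, hQidx, hD⟩ := h37 M hM K U hKU hne
  haveI : Fact q.Prime := ⟨hq⟩
  have hKM : K ≤ M := hK.1
  have hσM := sigmaCore_le M
  have hFσ := fittingHallOf_le_sigmaCore hG hM
  have hQσ : Q ≤ Cfsg.sigmaCore M := hQF.trans hFσ
  have hQM : Q ≤ M := hQσ.trans hσM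
  have hK1 : K ≠ ⊥ := by
    intro h
    rw [h, Subgroup.card_bot] at hp
    exact Nat.not_prime_one hp
  obtain ⟨E, U', hkd⟩ := Cfsg.Agent.Lib.Helper4.BG14.exists_kdata' hG hM hK hK1
  -- coprimality of `K` and `M_σ`
  have hcopKσ : (Nat.card ↥K).Coprime (Nat.card ↥(Cfsg.sigmaCore M)) := by
    have := Cfsg.Agent.Lib.Helper5.BG14Z.coprime_K_N hG hM hKU
    rwa [hU, bot_sup_eq] at this
  have hKnσ : K ≤ Subgroup.normalizer ((Cfsg.sigmaCore M : Subgroup G) : Set G) :=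
    hKM.trans (le_normalizer_sigmaCore M)
  have hsolvσ : Group.IsSolvable ↥(Cfsg.sigmaCore M) :=
    Group.isSolvable_of_isSolvable_injective (Subgroup.inclusion_injective hσM)
  obtain ⟨D, hDhall, hKD⟩ := Cfsg.Agent.H1.exists_invariant_isPiHallOf K (Cfsg.sigmaCore M)
    hKnσ hcopKσ hsolvσ ({q}ᶜ : Set ℕ)
  have hDσ : D ≤ Cfsg.sigmaCore M := hDhall.1
  have hDM : D ≤ M := hDσ.trans hσM
  obtain ⟨n, hn⟩ := IsPGroup.iff_card.mp hQp
  have hQhall : Cfsg.IsPiHallOf ({q} : Set ℕ) Q (Cfsg.sigmaCore M) := by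
    refine ⟨hQσ, ?_, ?_⟩
    · intro r hr hrd
      rw [hn] at hrd
      exact (Nat.prime_dvd_prime_iff_eq hr hq).mp (hr.dvd_of_dvd_pow hrd)
    · intro r hr hrq
      rw [Set.mem_singleton_iff] at hrq
      rw [hrq]; exact hQidx
  have hcard : Nat.card ↥D * Nat.card ↥Q = Nat.card ↥(Cfsg.sigmaCore M) :=
    Cfsg.Agent.Lib.Helper4.BG14.hall_card_mul hDhall hQhall
  have hqD : ¬ q ∣ Nat.card ↥D := fun h => (hDhall.2.1 q hq h) rfl
  have hcopQD : (Nat.card ↥Q).Coprime (Nat.card ↥D) := by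
    rw [hn]; exact Nat.Coprime.pow_left n ((Nat.Prime.coprime_iff_not_dvd hq).mpr hqD)
  have hmul : ∀ s ∈ Cfsg.sigmaCore M, ∃ a ∈ Q, ∃ b ∈ D, s = a * b :=
    Cfsg.Agent.Lib.Helper4.BG14.exists_mul_of_card hQσ hDσ (by rw [mul_comm]; exact hcard) hcopQD
  have hQD : Q ⊓ D = ⊥ := (Subgroup.disjoint_of_coprime_natCard hcopQD).eq_bot
  have hcompl : Cfsg.IsComplIn Q D (Cfsg.sigmaCore M) := ⟨hQσ, hDσ, hQD, hmul⟩
  obtain ⟨hDnil, hMQ0, hcardQ⟩ := hD D hcompl
  have hQnil : Group.IsNilpotent ↥Q := hQp.isNilpotent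
  have hD1 : D ≠ ⊥ := by
    intro h
    apply hnn
    have hle : Cfsg.sigmaCore M ≤ Q := by
      intro s hs
      obtain ⟨a, ha, b, hb, hab⟩ := hmul s hs
      rw [h, Subgroup.mem_bot] at hb
      rw [hab, hb, mul_one]; exact ha
    have : Cfsg.sigmaCore M = Q := le_antisymm hle hQσ
    rw [this]; exact hQnil
  -- `K* ≤ Q`
  obtain ⟨Ks, hKsdef⟩ : ∃ Ks : Subgroup G,
      Ks = Cfsg.sigmaCore M ⊓ Subgroup.centralizer (K : Set G) := ⟨_, rfl⟩
  rw [← hKsdef] at hKq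
  have hKsσ : Ks ≤ Cfsg.sigmaCore M := hKsdef ▸ inf_le_left
  have hKsQ : Ks ≤ Q := by
    haveI : (Q.subgroupOf (Cfsg.sigmaCore M)).Normal :=
      Subgroup.normal_subgroupOf_of_le_normalizer (hσM.trans hMQ)
    have hc : (Nat.card ↥(Ks.subgroupOf (Cfsg.sigmaCore M))).Coprime
        (Q.subgroupOf (Cfsg.sigmaCore M)).index := by
      rw [Cfsg.Agent.Lib.Helper7.card_subgroupOf_of_le hKsσ, hKq]
      exact (Nat.Prime.coprime_iff_not_dvd hq).mpr hQidx
    have h2 := le_normal_of_coprime_index _ _ hc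
    intro x hx
    exact Subgroup.mem_subgroupOf.mp (h2 (Subgroup.mem_subgroupOf.mpr hx :
      (⟨x, hKsσ hx⟩ : ↥(Cfsg.sigmaCore M)) ∈ Ks.subgroupOf _))
  have hfrob : ∀ k ∈ K, k ≠ 1 → D ⊓ Subgroup.centralizer ({k} : Set G) = ⊥ := by
    intro k hk hk1
    rw [eq_bot_iff]
    intro x hx
    obtain ⟨hxD, hxk⟩ := Subgroup.mem_inf.mp hx
    have h1 : x ∈ Cfsg.sigmaCore M ⊓ Subgroup.centralizer ({k} : Set G) :=
      Subgroup.mem_inf.mpr ⟨hDσ hxD, hxk⟩
    rw [hkd.prime k hk hk1, ← hKsdef] at h1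
    have h2 : x ∈ Q ⊓ D := Subgroup.mem_inf.mpr ⟨hKsQ h1, hxD⟩
    rwa [hQD] at h2
  have hQCK : Q ⊓ Subgroup.centralizer (K : Set G) = Ks := by
    apply le_antisymm
    · rw [hKsdef]; exact inf_le_inf_right _ hQσ
    · exact le_inf hKsQ (hKsdef ▸ inf_le_right)
  have hCK : IsCyclic ↥(Q ⊓ Subgroup.centralizer (K : Set G) : Subgroup G) := by
    rw [hQCK]
    exact isCyclic_of_prime_card hKq
  have hqσ : q ∣ Nat.card ↥(Cfsg.sigmaCore M) := by
    rw [← hKq]; exact Subgroup.card_dvd_of_le hKsσ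
  have hqK : ¬ q ∣ Nat.card ↥K := by
    intro h
    exact hq.one_lt.ne' (Nat.eq_one_of_dvd_coprimes hcopKσ h hqσ)
  have hcopDKQ : (Nat.card ↥(D ⊔ K : Subgroup G)).Coprime (Nat.card ↥Q) := by
    have h1 := Cfsg.Agent.H1.card_sup_mul_card_inf K D hKD
    have h2 : Nat.card ↥(D ⊔ K : Subgroup G) ∣ Nat.card ↥K * Nat.card ↥D := by
      rw [sup_comm, ← h1]; exact dvd_mul_right _ _
    apply Nat.Coprime.coprime_dvd_left h2
    rw [hn]
    apply Nat.Coprime.pow_right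
    apply Nat.Coprime.mul_left
    · exact ((Nat.Prime.coprime_iff_not_dvd hq).mpr hqK).symm
    · exact ((Nat.Prime.coprime_iff_not_dvd hq).mpr hqD).symm
  have hD'Q : ⁅D, D⁆ ≤ Subgroup.centralizer (Q : Set G) :=
    derived_le_centralizer_of_frobenius' hG.1 hQM hDM hKM hQnil (hDM.trans hMQ) (hKM.trans hMQ)
      hKD hD1 hp hcopDKQ hfrob hsolv hMQ0 hCK
  -- `C := C_{M_σ}(Q)`
  obtain ⟨C, hCdef⟩ : ∃ C : Subgroup G,
      C = Cfsg.sigmaCore M ⊓ Subgroup.centralizer (Q : Set G) := ⟨_, rfl⟩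
  have hCnil : Group.IsNilpotent ↥C :=
    hCdef ▸ nilpotent_inf_centralizer_of_complIn hQσ hDσ (hσM.trans hMQ) hmul hDnil
  have hCM : C ≤ M := hCdef ▸ inf_le_left.trans hσM
  have hMC : M ≤ Subgroup.normalizer (C : Set G) := by
    rw [hCdef]
    exact Cfsg.Agent.Lib.Helper4.BGTrans.le_normalizer_inf (le_normalizer_sigmaCore M)
      (hMQ.trans (Cfsg.Agent.Lib.Helper4.BGTrans.normalizer_le_normalizer_centralizer _))
  have hCF : C ≤ Cfsg.fittingOf M := le_fittingOf hCM hMC hCnil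
  have hQFit : Q ≤ Cfsg.fittingOf M := le_fittingOf hQM hMQ hQnil
  have hpart1 : ⁅⁅M, M⁆, ⁅M, M⁆⁆ ≤ Cfsg.fittingOf M := by
    rw [← hσ']
    refine (commutator_le_of_complIn hQσ hDσ (hσM.trans hMQ) hmul).trans (sup_le ?_ hQFit)
    refine le_trans ?_ hCF
    rw [hCdef]
    exact le_inf ((Subgroup.commutator_le_self D).trans hDσ) hD'Q
  -- part 3
  have h39 := (Cfsg.Agent.S1439.result hG M hM).2.2
  have hFσ' : Cfsg.fittingOf (Cfsg.sigmaCore M) ≤ Cfsg.sigmaCore M := fittingOf_le _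
  have hσc := Cfsg.Agent.Lib.Helper5.BGBeta.sigmaCore_le_commutator hG
    (Cfsg.Agent.Lib.helper3.BG11.uT hG) hM
  have hpart3 : (Cfsg.kappa M).Nonempty → Cfsg.fittingOf M ≤ ⁅M, M⁆ := by
    intro hκ
    rw [h39]
    exact sup_le (hFσ'.trans hσc) (piCoreOf_le_commutator hG hM hκ)
  -- part 2
  have hMFfit : Cfsg.fittingHallOf M ≤ Cfsg.fittingOf M :=
    le_fittingOf (fittingHallOf_le M) (le_normalizer_fittingHallOf M) (fittingHallOf_nilpotent M)
  have hcardM : Nat.card ↥M = Nat.card ↥K * Nat.card ↥(Cfsg.sigmaCore M) := by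
    have h1 := card_eq_mul_of_complIn hKU.compl
    rw [hU, Subgroup.card_bot, one_mul] at h1
    have h2 := Cfsg.Agent.H1.card_sup_mul_card_inf K (Cfsg.sigmaCore M) hKnσ
    rw [(Subgroup.disjoint_of_coprime_natCard hcopKσ).eq_bot, Subgroup.card_bot, mul_one] at h2
    rw [h1, h2]
  have hCMQ : M ⊓ Subgroup.centralizer (Q : Set G) ≤ Cfsg.sigmaCore M := by
    by_contra hcon
    have hMX : M ≤ Subgroup.normalizer
        ((M ⊓ Subgroup.centralizer (Q : Set G) : Subgroup G) : Set G) :=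
      Cfsg.Agent.Lib.Helper4.BGTrans.le_normalizer_inf Subgroup.le_normalizer
        (hMQ.trans (Cfsg.Agent.Lib.Helper4.BGTrans.normalizer_le_normalizer_centralizer _))
    have hKX := le_of_not_le_of_prime_index hKM hσM inf_le_left (le_normalizer_sigmaCore M) hMX
      hcardM hp hcopKσ hcon
    have hKCQ : K ≤ Subgroup.centralizer (Q : Set G) := hKX.trans inf_le_right
    have hQKs : Q ≤ Ks := by
      rw [hKsdef]
      exact le_inf hQσ (Subgroup.le_centralizer_iff.mp hKCQ)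
    have h1 : Nat.card ↥Q ∣ q := hKq ▸ Subgroup.card_dvd_of_le hQKs
    have h2 : q ^ 2 ∣ Nat.card ↥Q := by
      rw [hcardQ]
      exact Dvd.dvd.mul_left (pow_dvd_pow q hp.two_le) _
    have h3 : q ^ 2 ≤ q := Nat.le_of_dvd hq.pos (h2.trans h1)
    have h4 : q < q ^ 2 := by
      have := hq.one_lt
      nlinarith
    omega
  have hpart2 : Cfsg.fittingOf M =
      (M ⊓ Subgroup.centralizer (Cfsg.fittingHallOf M : Set G)) ⊔ Cfsg.fittingHallOf M := by
    apply le_antisymm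
    · obtain ⟨F, hFdef⟩ : ∃ F : Subgroup G, F = Cfsg.fittingOf M := ⟨_, rfl⟩
      rw [← hFdef]
      have hFM : F ≤ M := hFdef ▸ fittingOf_le M
      have hAF : Cfsg.fittingHallOf M ≤ F := hFdef ▸ hMFfit
      haveI hFnil : Group.IsNilpotent ↥F := by
        rw [hFdef]
        exact nilpotent_map M.subtype _ Cfsg.Agent.H1.fittingSubgroup_nilpotent
      haveI hAn : ((Cfsg.fittingHallOf M).subgroupOf F).Normal :=
        Subgroup.normal_subgroupOf_of_le_normalizer (hFM.trans (le_normalizer_fittingHallOf M))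
      have hcop : (Nat.card ↥((Cfsg.fittingHallOf M).subgroupOf F)).Coprime
          ((Cfsg.fittingHallOf M).subgroupOf F).index := by
        rw [Cfsg.Agent.Lib.Helper7.card_subgroupOf_of_le hAF]
        exact Nat.Coprime.coprime_dvd_right
          (Dvd.intro _ (Subgroup.relIndex_mul_relIndex _ _ _ hAF hFM)) (fittingHallOf_coprime M)
      intro x hx
      obtain ⟨c, hc, a, ha, hca⟩ := exists_mul_centralizer_of_nilpotent _ hcop ⟨x, hx⟩
      have hx' : x = (c : G) * (a : G) := (congrArg Subtype.val hca).symm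
      rw [hx']
      rw [centralizer_subgroupOf hAF] at hc
      exact Subgroup.mul_mem _
        (Subgroup.mem_sup_left (Subgroup.mem_inf.mpr ⟨hFM c.2, Subgroup.mem_subgroupOf.mp hc⟩))
        (Subgroup.mem_sup_right (Subgroup.mem_subgroupOf.mp ha))
    · refine sup_le ?_ hMFfit
      have h1 : M ⊓ Subgroup.centralizer (Cfsg.fittingHallOf M : Set G) ≤
          M ⊓ Subgroup.centralizer (Q : Set G) :=
        inf_le_inf_left _ (Subgroup.centralizer_le hQF)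
      refine le_trans ?_ hCF
      rw [hCdef]
      exact le_inf (h1.trans hCMQ) (h1.trans inf_le_right)
  exact ⟨hpart1, hpart2, hpart3⟩

/-- **Theorem 15.2(b)** (the statement of S1356), from (part of) the statement of S1437 -/
theorem s1356_of (hG : Cfsg.IsMinSimpleOddOrder G) (h37 : Hyp1437m G)
    (M : Subgroup G) (hM : IsCoatom M) :
    ⁅⁅M, M⁆, ⁅M, M⁆⁆ ≤ Cfsg.fittingOf M ∧
      Cfsg.fittingOf M =
        (M ⊓ Subgroup.centralizer (Cfsg.fittingHallOf M : Set G)) ⊔ Cfsg.fittingHallOf M ∧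
      ((Cfsg.kappa M).Nonempty → Cfsg.fittingOf M ≤ ⁅M, M⁆) := by
  by_cases hnil : Group.IsNilpotent ↥(Cfsg.sigmaCore M)
  · exact s1356_of_nilpotent hG M hM hnil
  · exact s1356_of_not_nilpotent hG h37 M hM hnil

/-- the full statement of S1437 (for all maximal subgroups of `G`) -/
def Hyp1437 (G : Type u) [Group G] : Prop :=
  ∀ (M : Subgroup G), IsCoatom M → ∀ K U : Subgroup G, Cfsg.IsSigmaDecomposition M K U →
    Cfsg.fittingHallOf M ≠ Cfsg.sigmaCore M →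
    U = ⊥ ∧ Cfsg.sigmaCore M = ⁅M, M⁆ ∧ (Nat.card K).Prime ∧ (Nat.card ↥(Cfsg.sigmaCore M ⊓ Subgroup.centralizer (K : Set G))).Prime ∧
      Nat.card ↥(Cfsg.sigmaCore M ⊓ Subgroup.centralizer (K : Set G)) ∣ Nat.card (Cfsg.fittingHallOf M) ∧ Nat.card ↥(Cfsg.sigmaCore M ⊓ Subgroup.centralizer (K : Set G)) ∈ Cfsg.beta M ∧
      ∃ Q : Subgroup G, Q ≤ Cfsg.fittingHallOf M ∧ M ≤ Subgroup.normalizer (Q : Set G) ∧ IsPGroup (Nat.card ↥(Cfsg.sigmaCore M ⊓ Subgroup.centralizer (K : Set G))) Q ∧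
        ¬ Nat.card ↥(Cfsg.sigmaCore M ⊓ Subgroup.centralizer (K : Set G)) ∣ Q.relIndex (Cfsg.sigmaCore M) ∧
        ∀ D : Subgroup G, Cfsg.IsComplIn Q D (Cfsg.sigmaCore M) →
          Group.IsNilpotent D ∧ M ≤ Subgroup.normalizer ((Q ⊓ Subgroup.centralizer (D : Set G) : Subgroup G) : Set G) ∧
          Q ⊓ Subgroup.centralizer (D : Set G) < Q ∧
          Nat.card Q = Nat.card ↥(Q ⊓ Subgroup.centralizer (D : Set G)) * Nat.card ↥(Cfsg.sigmaCore M ⊓ Subgroup.centralizer (K : Set G)) ^ Nat.card K ∧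
          (∀ a ∈ Q, ∀ b ∈ Q, a ^ Nat.card ↥(Cfsg.sigmaCore M ⊓ Subgroup.centralizer (K : Set G)) ∈ Q ⊓ Subgroup.centralizer (D : Set G) ∧
            a * b * a⁻¹ * b⁻¹ ∈ Q ⊓ Subgroup.centralizer (D : Set G)) ∧
          ∀ N : Subgroup G, Q ⊓ Subgroup.centralizer (D : Set G) < N → N < Q → ¬ M ≤ Subgroup.normalizer (N : Set G)

theorem hyp1437m_of (h : Hyp1437 G) : Hyp1437m G := by
  intro M hM K U hKU hne
  obtain ⟨h1, h2, h3, h4, -, -, Q, hQ1, hQ2, hQ3, hQ4, hD⟩ := h M hM K U hKU hne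
  exact ⟨h1, h2, h3, _, h4, rfl, Q, hQ1, hQ2, hQ3, hQ4,
    fun D hD' => ⟨(hD D hD').1, (hD D hD').2.1, (hD D hD').2.2.2.1⟩⟩

theorem hyp1437w_of (h : Hyp1437 G) : Hyp1437w G := by
  intro M hM K U hKU hne
  obtain ⟨-, h2, -, h4, h5, -, Q, hQ1, hQ2, hQ3, hQ4, hD⟩ := h M hM K U hKU hne
  exact ⟨h2, _, h4, h5, Q, hQ1, hQ2, hQ3, hQ4, fun D hD' => (hD D hD').1⟩

end Cfsg.Agent.Lib.Helper8.BG15
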