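import Mathlib

set_option autoImplicit false

namespace Cfsg.Agent.Lib.Helper8.Derangement

open MulAction

variable {G Ω : Type*} [Group G] [MulAction G Ω]

/-- Burnside's lemma with `Nat.card`. -/
theorem burnside (G Ω : Type*) [Group G] [MulAction G Ω] [Fintype G] [Finite Ω] :
    ∑ g : G, Nat.card (fixedBy Ω g) = Nat.card (orbitRel.Quotient G Ω) * Nat.card G := by
  classical
  have : Fintype Ω := Fintype.ofFinite Ω
  have := MulAction.sum_card_fixedBy_eq_card_orbits_mul_card_group G Ω
  simp only [Nat.card_eq_fintype_card]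
  convert this using 2

/-- the derangement subgroup -/
abbrev derSub (G Ω : Type*) [Group G] [MulAction G Ω] : Subgroup G :=
  Subgroup.closure {g : G | ∀ ω : Ω, g • ω ≠ ω}

theorem one_le_fix_of_not_mem {g : G} (hg : g ∉ derSub G Ω) [Finite Ω] : 1 ≤ Nat.card (fixedBy Ω g) := by
  by_contra h
  have h0 : Nat.card (fixedBy Ω g) = 0 := by omega
  apply hg
  apply Subgroup.subset_closure
  intro ω hω
  have : Nonempty (fixedBy Ω g) := ⟨⟨ω, hω⟩⟩
  have := Nat.card_pos (α := fixedBy Ω g)
  omega

theorem main [Finite G] [Finite Ω] [Nonempty Ω] (htrans : IsPretransitive G Ω) :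
    IsPretransitive (derSub G Ω) Ω ∧ ∀ g : G, g ∉ derSub G Ω → Nat.card (fixedBy Ω g) = 1 := by
  classical
  have : Fintype G := Fintype.ofFinite G
  set D := derSub G Ω with hD
  set f : G → ℕ := fun g => Nat.card (fixedBy Ω g) with hf
  -- Burnside for G
  have hG : ∑ g : G, f g = Nat.card G := by
    have := burnside G Ω
    have hq : Nat.card (orbitRel.Quotient G Ω) = 1 := by
      have := (pretransitive_iff_unique_quotient_of_nonempty G Ω).mp htrans
      obtain ⟨u⟩ := this
      exact Nat.card_unique
    rw [hq, one_mul] at this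
    exact this
  -- Burnside for D
  set k := Nat.card (orbitRel.Quotient D Ω) with hk
  have hkpos : 1 ≤ k := by
    have : Nonempty (orbitRel.Quotient D Ω) := ⟨Quotient.mk'' (Classical.arbitrary Ω)⟩
    exact Nat.card_pos
  have hDsum : ∑ d : D, f (d : G) = k * Nat.card D := burnside D Ω
  -- split the sum
  have hsplit : ∑ g : G, f g = ∑ g ∈ Finset.univ.filter (· ∈ D), f g + ∑ g ∈ Finset.univ.filter (· ∉ D), f g :=
    (Finset.sum_filter_add_sum_filter_not Finset.univ (· ∈ D) f).symm
  have hA : ∑ g ∈ Finset.univ.filter (· ∈ D), f g = ∑ d : D, f (d : G) := by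
    rw [← Finset.sum_subtype_eq_sum_filter, Finset.subtype_univ]
  have hcardsplit : (Finset.univ.filter (· ∈ D)).card + (Finset.univ.filter (fun g : G => g ∉ D)).card = Nat.card G := by
    rw [Finset.card_filter_add_card_filter_not, Finset.card_univ, Nat.card_eq_fintype_card]
  have hcardD : (Finset.univ.filter (· ∈ D)).card = Nat.card D := by
    rw [Nat.card_eq_fintype_card, Fintype.card_subtype]
  have hB : (Finset.univ.filter (fun g : G => g ∉ D)).card ≤ ∑ g ∈ Finset.univ.filter (· ∉ D), f g := by
    rw [Finset.card_eq_sum_ones]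
    apply Finset.sum_le_sum
    intro g hg
    have : g ∉ D := by simpa using hg
    exact one_le_fix_of_not_mem this
  have hDpos : 0 < Nat.card D := Nat.card_pos
  -- conclude
  have hk1 : k = 1 := by
    have h1 : k * Nat.card D + ∑ g ∈ Finset.univ.filter (· ∉ D), f g = Nat.card G := by
      rw [← hDsum, ← hA, ← hsplit, hG]
    have h2 : Nat.card D ≤ k * Nat.card D := Nat.le_mul_of_pos_left _ hkpos
    have h3 : k * Nat.card D ≤ Nat.card D := by omega
    by_contra hne
    have : 2 ≤ k := by omega
    nlinarith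
  have hBeq : ∑ g ∈ Finset.univ.filter (· ∉ D), f g = (Finset.univ.filter (fun g : G => g ∉ D)).card := by
    have h1 : k * Nat.card D + ∑ g ∈ Finset.univ.filter (· ∉ D), f g = Nat.card G := by
      rw [← hDsum, ← hA, ← hsplit, hG]
    rw [hk1, one_mul] at h1
    omega
  refine ⟨?_, ?_⟩
  · rw [pretransitive_iff_subsingleton_quotient]
    have : Nat.card (orbitRel.Quotient D Ω) = 1 := hk1
    exact (Nat.card_eq_one_iff_unique.mp this).1
  · intro g hg
    by_contra hne
    have hge : 2 ≤ f g := by
      have := one_le_fix_of_not_mem hg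
      show 2 ≤ Nat.card (fixedBy Ω g)
      omega
    have hmem : g ∈ Finset.univ.filter (fun g : G => g ∉ D) := by simpa using hg
    have : (Finset.univ.filter (fun g : G => g ∉ D)).card < ∑ g ∈ Finset.univ.filter (· ∉ D), f g := by
      rw [Finset.card_eq_sum_ones]
      apply Finset.sum_lt_sum
      · intro x hx
        have : x ∉ D := by simpa using hx
        exact one_le_fix_of_not_mem this
      · exact ⟨g, hmem, by omega⟩
    omega

/-- splitting a sum over a group along a subgroup -/
theorem sum_split [Fintype G] (D : Subgroup G) [DecidablePred (· ∈ D)] (f : G → ℕ) :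
    ∑ g : G, f g = ∑ d : D, f (d : G) + ∑ g ∈ Finset.univ.filter (· ∉ D), f g := by
  rw [← Finset.sum_filter_add_sum_filter_not Finset.univ (· ∈ D) f]
  congr 1
  rw [← Finset.sum_subtype_eq_sum_filter, Finset.subtype_univ]

theorem card_split [Fintype G] (D : Subgroup G) [DecidablePred (· ∈ D)] :
    Nat.card D + (Finset.univ.filter (fun g : G => g ∉ D)).card = Nat.card G := by
  have h1 : (Finset.univ.filter (· ∈ D)).card = Nat.card D := by
    rw [Nat.card_eq_fintype_card, Fintype.card_subtype]
  rw [← h1, Finset.card_filter_add_card_filter_not, Finset.card_univ, Nat.card_eq_fintype_card]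

/-- fixed points on the square -/
theorem card_fixedBy_prod (g : G) :
    Nat.card (fixedBy (Ω × Ω) g) = Nat.card (fixedBy Ω g) * Nat.card (fixedBy Ω g) := by
  rw [← Nat.card_prod]
  apply Nat.card_congr
  exact
    { toFun := fun x => (⟨x.1.1, congrArg Prod.fst x.2⟩, ⟨x.1.2, congrArg Prod.snd x.2⟩)
      invFun := fun y => ⟨(y.1.1, y.2.1), Prod.ext y.1.2 y.2.2⟩
      left_inv := fun x => rfl
      right_inv := fun y => rfl }

/-- the rank formula -/
theorem rank_formula [Finite G] [Finite Ω] [Nonempty Ω] (htrans : IsPretransitive G Ω) :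
    Nat.card (orbitRel.Quotient (derSub G Ω) (Ω × Ω)) + (derSub G Ω).index =
      Nat.card (orbitRel.Quotient G (Ω × Ω)) * (derSub G Ω).index + 1 := by
  classical
  have : Fintype G := Fintype.ofFinite G
  obtain ⟨_, h2⟩ := main (G := G) (Ω := Ω) htrans
  set D := derSub G Ω with hD
  set rG := Nat.card (orbitRel.Quotient G (Ω × Ω)) with hrG
  set rD := Nat.card (orbitRel.Quotient D (Ω × Ω)) with hrD
  have hG : ∑ g : G, Nat.card (fixedBy (Ω × Ω) g) = rG * Nat.card G := burnside G (Ω × Ω)
  have hDs : ∑ d : D, Nat.card (fixedBy (Ω × Ω) (d : G)) = rD * Nat.card D := burnside D (Ω × Ω)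
  have hsplit := sum_split D (fun g => Nat.card (fixedBy (Ω × Ω) g))
  have hB : ∑ g ∈ Finset.univ.filter (· ∉ D), Nat.card (fixedBy (Ω × Ω) g) =
      (Finset.univ.filter (fun g : G => g ∉ D)).card := by
    rw [Finset.card_eq_sum_ones]
    apply Finset.sum_congr rfl
    intro g hg
    have hg' : g ∉ D := by simpa using hg
    rw [card_fixedBy_prod, h2 g hg']
  have hcs := card_split D
  have hidx : Nat.card D * D.index = Nat.card G := Subgroup.card_mul_index D
  have hDpos : 0 < Nat.card D := Nat.card_pos
  rw [hG, hDs, hB] at hsplit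
  -- rG * |G| = rD * |D| + (|G| - |D|)
  have h3 : rG * (Nat.card D * D.index) + Nat.card D = rD * Nat.card D + Nat.card D * D.index := by
    rw [hidx]; omega
  have h4 : Nat.card D * (rG * D.index + 1) = Nat.card D * (rD + D.index) := by
    linarith [h3]
  have h5 := Nat.eq_of_mul_eq_mul_left hDpos h4
  omega

end Cfsg.Agent.Lib.Helper8.Derangement
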