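import Mathlib

/-!
Steps (1)-(4) of the pure group theory "endgame" for S3493.

Setting: `T` a finite nonabelian simple group such that, for every `x ≠ 1`, every subgroup `L`
containing `C_T(x)` and invariant under all automorphisms `σ` with `σ x = x` or `σ x = x⁻¹`
is `C_T(x)` or `T`.  Then
(1) `C(x ^ j) = C(x)` whenever `x ^ j ≠ 1`;
(2) `N_T(C(x)) = C(x)`;
(3) `C(x) = C(c)` for commuting nontrivial `x`, `c` of coprime orders;
(4) `C(x)` is a `p`-group when `x` has prime order `p`.
-/

namespace Cfsg.Agent.Lib.Helper8.ExtPrimStep4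

section basic

variable {T : Type*} [Group T]

theorem map_centralizer_singleton (σ : T ≃* T) (y : T) :
    (Subgroup.centralizer ({y} : Set T)).map σ.toMonoidHom =
      Subgroup.centralizer ({σ y} : Set T) := by
  ext g
  simp only [Subgroup.mem_map, Subgroup.mem_centralizer_iff, Set.mem_singleton_iff, forall_eq]
  constructor
  · rintro ⟨h, hh, rfl⟩
    show σ y * σ h = σ h * σ y
    rw [← map_mul, ← map_mul, hh]
  · intro hg
    refine ⟨σ.symm g, ?_, ?_⟩
    · apply σ.injective
      rw [map_mul, map_mul, MulEquiv.apply_symm_apply]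
      exact hg
    · show σ (σ.symm g) = g
      exact MulEquiv.apply_symm_apply σ g

theorem centralizer_inv_singleton (y : T) :
    Subgroup.centralizer ({y⁻¹} : Set T) = Subgroup.centralizer ({y} : Set T) := by
  ext g
  simp only [Subgroup.mem_centralizer_iff, Set.mem_singleton_iff, forall_eq]
  exact (Commute.inv_left_iff (a := y) (b := g))

theorem mem_cent_iff (x g : T) :
    g ∈ Subgroup.centralizer ({x} : Set T) ↔ Commute x g := by
  simp only [Subgroup.mem_centralizer_iff, Set.mem_singleton_iff, forall_eq]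
  exact Iff.rfl

theorem self_mem_cent (x : T) : x ∈ Subgroup.centralizer ({x} : Set T) :=
  (mem_cent_iff x x).mpr (Commute.refl x)

theorem cent_le_cent_pow (x : T) (j : ℕ) :
    Subgroup.centralizer ({x} : Set T) ≤ Subgroup.centralizer ({x ^ j} : Set T) := by
  intro g hg
  rw [mem_cent_iff] at hg ⊢
  exact hg.pow_left j

theorem conj_mem_cent_conj_iff (g x h : T) :
    g * h * g⁻¹ ∈ Subgroup.centralizer ({g * x * g⁻¹} : Set T) ↔
      h ∈ Subgroup.centralizer ({x} : Set T) := by
  rw [mem_cent_iff, mem_cent_iff]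
  constructor
  · intro H
    have H' : g * x * g⁻¹ * (g * h * g⁻¹) = g * h * g⁻¹ * (g * x * g⁻¹) := H
    have h1 : g * x * g⁻¹ * (g * h * g⁻¹) = g * (x * h) * g⁻¹ := by group
    have h2 : g * h * g⁻¹ * (g * x * g⁻¹) = g * (h * x) * g⁻¹ := by group
    rw [h1, h2] at H'
    have h3 : g * (x * h) = g * (h * x) := mul_right_cancel H'
    exact mul_left_cancel h3
  · intro H
    have H' : x * h = h * x := H
    show g * x * g⁻¹ * (g * h * g⁻¹) = g * h * g⁻¹ * (g * x * g⁻¹)
    have h1 : g * x * g⁻¹ * (g * h * g⁻¹) = g * (x * h) * g⁻¹ := by group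
    have h2 : g * h * g⁻¹ * (g * x * g⁻¹) = g * (h * x) * g⁻¹ := by group
    rw [h1, h2, H']

end basic

section main

variable {T : Type*} [Group T] [Finite T] [IsSimpleGroup T] (hnc : ¬ IsMulCommutative T)
    (hstar : ∀ x : T, x ≠ 1 → ∀ L : Subgroup T, Subgroup.centralizer ({x} : Set T) ≤ L →
      (∀ σ : T ≃* T, (σ x = x ∨ σ x = x⁻¹) → L.map σ.toMonoidHom = L) →
      L = Subgroup.centralizer ({x} : Set T) ∨ L = ⊤)

omit [Finite T] in
include hnc in
theorem center_eq_bot : Subgroup.center T = ⊥ := by
  rcases (inferInstance : (Subgroup.center T).Normal).eq_bot_or_eq_top with h | h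
  · exact h
  · exfalso
    apply hnc
    refine ⟨⟨fun a b => ?_⟩⟩
    have hb : b ∈ Subgroup.center T := h ▸ Subgroup.mem_top b
    exact (Subgroup.mem_center_iff.mp hb a)

include hnc in
theorem cent_ne_top (x : T) (hx : x ≠ 1) : Subgroup.centralizer ({x} : Set T) ≠ ⊤ := by
  intro h
  apply hx
  have hmem : x ∈ Subgroup.center T := by
    rw [Subgroup.mem_center_iff]
    intro g
    have hg : g ∈ Subgroup.centralizer ({x} : Set T) := h ▸ Subgroup.mem_top g
    exact ((mem_cent_iff x g).mp hg).eq.symm
  rw [center_eq_bot hnc] at hmem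
  exact Subgroup.mem_bot.mp hmem

omit [Finite T] [IsSimpleGroup T] in
/-- automorphisms fixing or inverting `x` fix `C(x)`. -/
theorem map_cent_eq_of_fix_or_inv (x : T) (σ : T ≃* T) (hσ : σ x = x ∨ σ x = x⁻¹) :
    (Subgroup.centralizer ({x} : Set T)).map σ.toMonoidHom =
      Subgroup.centralizer ({x} : Set T) := by
  rw [map_centralizer_singleton]
  rcases hσ with h | h
  · rw [h]
  · rw [h, centralizer_inv_singleton]

include hnc hstar in
/-- Step (1). -/
theorem cent_pow_eq (x : T) (j : ℕ) (hxj : x ^ j ≠ 1) :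
    Subgroup.centralizer ({x ^ j} : Set T) = Subgroup.centralizer ({x} : Set T) := by
  have hx : x ≠ 1 := by
    rintro rfl
    exact hxj (one_pow j)
  have hinv : ∀ σ : T ≃* T, (σ x = x ∨ σ x = x⁻¹) →
      (Subgroup.centralizer ({x ^ j} : Set T)).map σ.toMonoidHom =
        Subgroup.centralizer ({x ^ j} : Set T) := by
    intro σ hσ
    apply map_cent_eq_of_fix_or_inv
    rcases hσ with h | h
    · left
      rw [map_pow, h]
    · right
      rw [map_pow, h, inv_pow]
  rcases hstar x hx (Subgroup.centralizer ({x ^ j} : Set T)) (cent_le_cent_pow x j) hinv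
    with h | h
  · exact h
  · exact absurd h (cent_ne_top hnc (x ^ j) hxj)

include hnc hstar in
/-- Step (2). -/
theorem normalizer_cent_eq (x : T) (hx : x ≠ 1) :
    Subgroup.normalizer (Subgroup.centralizer ({x} : Set T) : Set T) =
      Subgroup.centralizer ({x} : Set T) := by
  have hinv : ∀ σ : T ≃* T, (σ x = x ∨ σ x = x⁻¹) →
      (Subgroup.normalizer (Subgroup.centralizer ({x} : Set T) : Set T)).map σ.toMonoidHom =
        Subgroup.normalizer (Subgroup.centralizer ({x} : Set T) : Set T) := by
    intro σ hσ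
    rw [Subgroup.map_equiv_normalizer_eq, map_cent_eq_of_fix_or_inv x σ hσ]
  rcases hstar x hx (Subgroup.normalizer (Subgroup.centralizer ({x} : Set T) : Set T))
    Subgroup.le_normalizer hinv with h | h
  · exact h
  · exfalso
    have hn : (Subgroup.centralizer ({x} : Set T)).Normal := Subgroup.normalizer_eq_top_iff.mp h
    rcases hn.eq_bot_or_eq_top with h0 | h1
    · have hmem : x ∈ Subgroup.centralizer ({x} : Set T) := self_mem_cent x
      rw [h0] at hmem
      exact hx (Subgroup.mem_bot.mp hmem)
    · exact cent_ne_top hnc x hx h1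

include hnc hstar in
/-- half of Step (3). -/
theorem cent_eq_cent_mul (x c : T) (hx : x ≠ 1) (hcomm : Commute x c)
    (hco : (orderOf x).Coprime (orderOf c)) :
    Subgroup.centralizer ({x} : Set T) = Subgroup.centralizer ({x * c} : Set T) := by
  have hxn : x ^ orderOf c ≠ 1 := by
    intro h
    have h1 : orderOf x ∣ orderOf c := orderOf_dvd_iff_pow_eq_one.mpr h
    have h2 : orderOf x ∣ 1 := by
      have := Nat.dvd_gcd (dvd_refl (orderOf x)) h1
      rwa [hco.gcd_eq_one] at this
    exact hx (orderOf_eq_one_iff.mp (Nat.dvd_one.mp h2))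
  have hy : (x * c) ^ orderOf c = x ^ orderOf c := by
    rw [hcomm.mul_pow, pow_orderOf_eq_one, mul_one]
  have h1 : Subgroup.centralizer ({(x * c) ^ orderOf c} : Set T) =
      Subgroup.centralizer ({x * c} : Set T) :=
    cent_pow_eq hnc hstar (x * c) (orderOf c) (by rw [hy]; exact hxn)
  have h2 : Subgroup.centralizer ({x ^ orderOf c} : Set T) =
      Subgroup.centralizer ({x} : Set T) :=
    cent_pow_eq hnc hstar x (orderOf c) hxn
  rw [← h2, ← h1, hy]

include hnc hstar in
/-- Step (3). -/
theorem cent_eq_of_coprime (x c : T) (hx : x ≠ 1) (hc : c ≠ 1) (hcomm : Commute x c)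
    (hco : (orderOf x).Coprime (orderOf c)) :
    Subgroup.centralizer ({x} : Set T) = Subgroup.centralizer ({c} : Set T) := by
  have h1 := cent_eq_cent_mul hnc hstar x c hx hcomm hco
  have h2 := cent_eq_cent_mul hnc hstar c x hc hcomm.symm hco.symm
  rw [h1, h2, hcomm.eq]

include hnc hstar in
/-- core of Step (4): no commuting elements of distinct prime orders. -/
theorem no_commuting_primes (x c : T) (p q : ℕ) (hp : p.Prime) (hq : q.Prime) (hpq : p ≠ q)
    (hxo : orderOf x = p) (hco : orderOf c = q) (hcomm : Commute x c) : False := by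
  have : Fact p.Prime := ⟨hp⟩
  have hx : x ≠ 1 := by
    intro h
    rw [h, orderOf_one] at hxo
    exact hp.one_lt.ne hxo
  have hc : c ≠ 1 := by
    intro h
    rw [h, orderOf_one] at hco
    exact hq.one_lt.ne hco
  have hCxc : Subgroup.centralizer ({x} : Set T) = Subgroup.centralizer ({c} : Set T) :=
    cent_eq_of_coprime hnc hstar x c hx hc hcomm
      (by rw [hxo, hco]; exact (Nat.coprime_primes hp hq).mpr hpq)
  -- Claim A
  have hA : ∀ w : T, w ∈ Subgroup.centralizer ({x} : Set T) → w ≠ 1 →
      Subgroup.centralizer ({w} : Set T) = Subgroup.centralizer ({x} : Set T) := by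
    intro w hw hw1
    have hwo : orderOf w ≠ 1 := fun h => hw1 (orderOf_eq_one_iff.mp h)
    obtain ⟨r, hr, hrd⟩ := Nat.exists_prime_and_dvd hwo
    have hw'o : orderOf (w ^ (orderOf w / r)) = r :=
      orderOf_pow_orderOf_div (orderOf_pos w).ne' hrd
    have hw'1 : w ^ (orderOf w / r) ≠ 1 := by
      intro h
      rw [h, orderOf_one] at hw'o
      exact hr.one_lt.ne hw'o
    have hw'C : w ^ (orderOf w / r) ∈ Subgroup.centralizer ({x} : Set T) :=
      Subgroup.pow_mem _ hw _
    have e1 : Subgroup.centralizer ({w ^ (orderOf w / r)} : Set T) =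
        Subgroup.centralizer ({w} : Set T) := cent_pow_eq hnc hstar w _ hw'1
    rw [← e1]
    by_cases hrp : r = p
    · -- use c
      have hw'c : Commute c (w ^ (orderOf w / r)) := by
        rw [hCxc] at hw'C
        exact (mem_cent_iff _ _).mp hw'C
      have := cent_eq_of_coprime hnc hstar c (w ^ (orderOf w / r)) hc hw'1 hw'c
        (by rw [hco, hw'o]; exact (Nat.coprime_primes hq hr).mpr (by rw [hrp]; exact hpq.symm))
      rw [← this, hCxc]
    · have hw'x : Commute x (w ^ (orderOf w / r)) := (mem_cent_iff _ _).mp hw'C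
      have := cent_eq_of_coprime hnc hstar x (w ^ (orderOf w / r)) hx hw'1 hw'x
        (by rw [hxo, hw'o]; exact (Nat.coprime_primes hp hr).mpr (fun h => hrp h.symm))
      rw [← this]
  -- Claim B : C is abelian
  have hB : ∀ a b : T, a ∈ Subgroup.centralizer ({x} : Set T) →
      b ∈ Subgroup.centralizer ({x} : Set T) → Commute a b := by
    intro a b ha hb
    by_cases ha1 : a = 1
    · rw [ha1]; exact Commute.one_left b
    · rw [← hA a ha ha1] at hb
      exact (mem_cent_iff _ _).mp hb
  -- Sylow subgroup containing x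
  have hzp : IsPGroup p (Subgroup.zpowers x) :=
    IsPGroup.of_card (n := 1) (by rw [Nat.card_zpowers, hxo, pow_one])
  obtain ⟨P, hP⟩ := hzp.exists_le_sylow
  have hxP : x ∈ (P : Subgroup T) := hP (Subgroup.mem_zpowers x)
  have : Nontrivial (P : Subgroup T) := ⟨⟨⟨x, hxP⟩, 1, fun h => hx (congrArg Subtype.val h)⟩⟩
  have := P.2.center_nontrivial
  obtain ⟨z, hz⟩ := exists_ne (1 : Subgroup.center (P : Subgroup T))
  have hz1 : ((z : (P : Subgroup T)) : T) ≠ 1 := by
    intro h
    apply hz
    apply Subtype.ext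
    apply Subtype.ext
    exact h
  have hzcomm : ∀ g : T, g ∈ (P : Subgroup T) → Commute ((z : (P : Subgroup T)) : T) g := by
    intro g hg
    have := Subgroup.mem_center_iff.mp z.2 ⟨g, hg⟩
    have h2 := congrArg Subtype.val this
    exact h2.symm
  have hzC : ((z : (P : Subgroup T)) : T) ∈ Subgroup.centralizer ({x} : Set T) :=
    (mem_cent_iff _ _).mpr (hzcomm x hxP).symm
  have hCz := hA _ hzC hz1
  have hPC : (P : Subgroup T) ≤ Subgroup.centralizer ({x} : Set T) := by
    intro g hg
    rw [← hCz]
    exact (mem_cent_iff _ _).mpr (hzcomm g hg)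
  -- N(P) ≤ C(P)
  have hNC : Subgroup.normalizer ((P : Subgroup T) : Set T) ≤
      Subgroup.centralizer ((P : Subgroup T) : Set T) := by
    intro g hg
    have hgx : g * x * g⁻¹ ∈ (P : Subgroup T) := (Subgroup.mem_normalizer_iff.mp hg x).mp hxP
    have hgx1 : g * x * g⁻¹ ≠ 1 := by
      intro h
      apply hx
      have : g * x = g := by
        have := congrArg (· * g) h
        simpa using this
      exact mul_left_cancel (this.trans (mul_one g).symm)
    have hCg := hA _ (hPC hgx) hgx1
    have hgN : g ∈ Subgroup.normalizer (Subgroup.centralizer ({x} : Set T) : Set T) := by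
      rw [Subgroup.mem_normalizer_iff]
      intro h
      rw [← conj_mem_cent_conj_iff g x h, hCg]
    rw [normalizer_cent_eq hnc hstar x hx] at hgN
    rw [Subgroup.mem_centralizer_iff]
    intro h hh
    exact (hB h g (hPC hh) hgN).eq
  -- Burnside
  have hcompl := MonoidHom.ker_transferSylow_isComplement' P hNC
  have hcard := hcompl.card_mul_card
  rcases (MonoidHom.normal_ker (MonoidHom.transferSylow P hNC)).eq_bot_or_eq_top with h | h
  · -- T is a p-group
    rw [h, Subgroup.card_bot, one_mul] at hcard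
    obtain ⟨n, hn⟩ := IsPGroup.iff_card.mp P.2
    have hqT : q ∣ Nat.card T := hco ▸ orderOf_dvd_natCard c
    rw [← hcard, hn] at hqT
    exact hpq ((Nat.prime_dvd_prime_iff_eq hq hp).mp (hq.dvd_of_dvd_pow hqT)).symm
  · rw [h, Subgroup.card_top] at hcard
    have hT : 0 < Nat.card T := Nat.card_pos
    have h1 : Nat.card (P : Subgroup T) = 1 := by
      have : Nat.card T * Nat.card (P : Subgroup T) = Nat.card T * 1 := by rw [hcard, mul_one]
      exact Nat.eq_of_mul_eq_mul_left hT this
    have hsub : Subsingleton (P : Subgroup T) := (Nat.card_eq_one_iff_unique.mp h1).1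
    exact hx (congrArg Subtype.val (Subsingleton.elim (⟨x, hxP⟩ : (P : Subgroup T)) 1))

include hnc hstar in
/-- Step (4). -/
theorem cent_isPGroup (x : T) (p : ℕ) [Fact p.Prime] (hx : orderOf x = p) :
    IsPGroup p (Subgroup.centralizer ({x} : Set T)) := by
  have hp : p.Prime := Fact.out
  have hcard : Nat.card (Subgroup.centralizer ({x} : Set T)) =
      p ^ (Nat.card (Subgroup.centralizer ({x} : Set T))).primeFactorsList.length := by
    apply Nat.eq_prime_pow_of_unique_prime_dvd Nat.card_pos.ne'
    intro q hq hqd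
    by_contra hqp
    have : Fact q.Prime := ⟨hq⟩
    obtain ⟨c, hc⟩ := exists_prime_orderOf_dvd_card' q hqd
    have hco : orderOf (c : T) = q := by rw [Subgroup.orderOf_coe]; exact hc
    exact no_commuting_primes hnc hstar x (c : T) p q hp hq (fun h => hqp h.symm) hx hco
      ((mem_cent_iff _ _).mp c.2)
  exact IsPGroup.of_card hcard

end main

end Cfsg.Agent.Lib.Helper8.ExtPrimStep4
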