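import Mathlib
import Cfsg.Agent.Lib.Helper4.ZJE
import Cfsg.Agent.Lib.Helper8.ThompsonMap
import Cfsg.Agent.Lib.Helper8.ExtPrimStep4

/-!
Steps (5), (6) of the pure group theory "endgame" for S3493 (backup version; see `ExtPrimStep4`).
-/

namespace Cfsg.Agent.Lib.Helper8.ExtPrimStep56

open Cfsg.Agent.Lib.Helper8.ExtPrimStep4

section main

variable {T : Type*} [Group T] [Finite T] [IsSimpleGroup T] (hnc : ¬ IsMulCommutative T)
    (hstar : ∀ x : T, x ≠ 1 → ∀ L : Subgroup T, Subgroup.centralizer ({x} : Set T) ≤ L →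
      (∀ σ : T ≃* T, (σ x = x ∨ σ x = x⁻¹) → L.map σ.toMonoidHom = L) →
      L = Subgroup.centralizer ({x} : Set T) ∨ L = ⊤)

include hnc in
theorem not_isPGroup (p : ℕ) [Fact p.Prime] : ¬ IsPGroup p T := by
  intro hP
  have hnt := hP.center_nontrivial
  obtain ⟨z, hz⟩ := exists_ne (1 : Subgroup.center T)
  have hz2 : (z : T) ∈ (⊥ : Subgroup T) := (center_eq_bot hnc).le z.2
  exact hz (Subtype.ext (Subgroup.mem_bot.mp hz2))

include hnc hstar in
/-- Step (5). -/
theorem exists_sylow_eq_cent :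
    ∃ (p : ℕ) (_ : Fact p.Prime) (P : Sylow p T) (x : T),
      p ≠ 2 ∧ orderOf x = p ∧ x ≠ 1 ∧
        (P : Subgroup T) = Subgroup.centralizer ({x} : Set T) := by
  obtain ⟨p, hp, hpd, hp2⟩ : ∃ p : ℕ, p.Prime ∧ p ∣ Nat.card T ∧ p ≠ 2 := by
    by_contra hcon
    have h : ∀ {d : ℕ}, d.Prime → d ∣ Nat.card T → d = 2 := by
      intro d hd hdd
      by_contra hne
      exact hcon ⟨d, hd, hdd, hne⟩
    have hc := Nat.eq_prime_pow_of_unique_prime_dvd (Nat.card_pos (α := T)).ne' h
    have : Fact (Nat.Prime 2) := ⟨Nat.prime_two⟩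
    exact not_isPGroup hnc 2 (IsPGroup.of_card hc)
  have hpF : Fact p.Prime := ⟨hp⟩
  obtain ⟨y, hy⟩ := exists_prime_orderOf_dvd_card' p hpd
  have hy1 : y ≠ 1 := by
    intro h
    rw [h, orderOf_one] at hy
    exact hp.one_lt.ne hy
  have hzp : IsPGroup p (Subgroup.zpowers y) :=
    IsPGroup.of_card (n := 1) (by rw [Nat.card_zpowers, hy, pow_one])
  obtain ⟨P, hP⟩ := hzp.exists_le_sylow
  have hyP : y ∈ (P : Subgroup T) := hP (Subgroup.mem_zpowers y)
  have : Nontrivial (P : Subgroup T) := ⟨⟨⟨y, hyP⟩, 1, fun h => hy1 (congrArg Subtype.val h)⟩⟩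
  have := P.2.center_nontrivial
  obtain ⟨z, hz⟩ := exists_ne (1 : Subgroup.center (P : Subgroup T))
  have hz1 : ((z : (P : Subgroup T)) : T) ≠ 1 := by
    intro h
    apply hz
    apply Subtype.ext
    apply Subtype.ext
    exact h
  have hzcomm : ∀ g : T, g ∈ (P : Subgroup T) → Commute ((z : (P : Subgroup T)) : T) g := by
    intro g hg
    have := Subgroup.mem_center_iff.mp z.2 ⟨g, hg⟩
    have h2 := congrArg Subtype.val this
    exact h2.symm
  obtain ⟨k, hk⟩ := (IsPGroup.iff_orderOf.mp P.2) (z : (P : Subgroup T))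
  have hk' : orderOf ((z : (P : Subgroup T)) : T) = p ^ k := by
    rw [Subgroup.orderOf_coe]; exact hk
  have hk0 : k ≠ 0 := by
    intro h
    rw [h, pow_zero] at hk'
    exact hz1 (orderOf_eq_one_iff.mp hk')
  have hpdvd : p ∣ orderOf ((z : (P : Subgroup T)) : T) := by
    rw [hk']; exact dvd_pow_self p hk0
  have hxo : orderOf (((z : (P : Subgroup T)) : T) ^
      (orderOf ((z : (P : Subgroup T)) : T) / p)) = p :=
    orderOf_pow_orderOf_div (orderOf_pos _).ne' hpdvd
  refine ⟨p, hpF, P, ((z : (P : Subgroup T)) : T) ^ (orderOf ((z : (P : Subgroup T)) : T) / p),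
    hp2, hxo, ?_, ?_⟩
  · intro h
    rw [h, orderOf_one] at hxo
    exact hp.one_lt.ne hxo
  · have hle : (P : Subgroup T) ≤ Subgroup.centralizer
        ({((z : (P : Subgroup T)) : T) ^ (orderOf ((z : (P : Subgroup T)) : T) / p)} : Set T) := by
      intro g hg
      rw [mem_cent_iff]
      exact (hzcomm g hg).pow_left _
    exact (P.is_maximal' (cent_isPGroup hnc hstar _ p hxo) hle).symm

include hnc hstar in
/-- Step (6): the endgame. -/
theorem endgame : False := by
  obtain ⟨p, hpF, P, x, hp2, hxo, hx1, hPC⟩ := exists_sylow_eq_cent hnc hstar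
  have hpd : p ∣ Nat.card T := hxo ▸ orderOf_dvd_natCard x
  have hW := Cfsg.Agent.Lib.Helper4.ZJE.pFunctor_WZE (p := p) hp2
  have hPne : (P : Subgroup T) ≠ ⊥ := P.ne_bot_of_dvd_card hpd
  have hPtop : (P : Subgroup T) ≠ ⊤ := by
    intro h
    apply not_isPGroup hnc p
    have h1 : IsPGroup p (⊤ : Subgroup T) := h ▸ P.2
    exact h1.of_equiv Subgroup.topEquiv
  have hLle : Subgroup.centralizer ({x} : Set T) ≤
      Subgroup.normalizer (Cfsg.centerThompsonOf p (P : Subgroup T) : Set T) := by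
    rw [← hPC]
    exact Subgroup.le_normalizer.trans
      (Cfsg.Agent.Lib.Helper4.GT.normalizer_le_normalizer_W hW (P : Subgroup T))
  have hinv : ∀ σ : T ≃* T, (σ x = x ∨ σ x = x⁻¹) →
      (Subgroup.normalizer (Cfsg.centerThompsonOf p (P : Subgroup T) : Set T)).map
        σ.toMonoidHom =
        Subgroup.normalizer (Cfsg.centerThompsonOf p (P : Subgroup T) : Set T) := by
    intro σ hσ
    rw [Subgroup.map_equiv_normalizer_eq,
      Cfsg.Agent.Lib.Helper8.ThompsonMap.centerThompsonOf_map, hPC,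
      map_cent_eq_of_fix_or_inv x σ hσ]
  rcases hstar x hx1 _ hLle hinv with h | h
  · -- N(W) = P
    have hNP : Subgroup.normalizer (Cfsg.centerThompsonOf p (P : Subgroup T) : Set T) =
        (P : Subgroup T) := h.trans hPC.symm
    have hLp : IsPGroup p
        (Subgroup.normalizer (Cfsg.centerThompsonOf p (P : Subgroup T) : Set T)) := by
      rw [hNP]; exact P.2
    have hcomp : Cfsg.HasNormalPComplement p
        ↥(Subgroup.normalizer (Cfsg.centerThompsonOf p (P : Subgroup T) : Set T)) := by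
      obtain ⟨Q⟩ : Nonempty (Sylow p
        ↥(Subgroup.normalizer (Cfsg.centerThompsonOf p (P : Subgroup T) : Set T))) := inferInstance
      have hQ : (⊤ : Subgroup
          ↥(Subgroup.normalizer (Cfsg.centerThompsonOf p (P : Subgroup T) : Set T))) = Q :=
        Q.is_maximal' (hLp.to_subgroup ⊤) le_top
      refine ⟨Q, ⊥, inferInstance, ?_⟩
      rw [← hQ]
      exact Subgroup.isComplement'_bot_top
    obtain ⟨Q, N, hN, hc⟩ := Cfsg.Agent.Lib.Helper4.ZJE.glauberman_thompson_ZJe hp2 P hcomp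
    have hcard := hc.card_mul_card
    rcases hN.eq_bot_or_eq_top with h0 | h0
    · rw [h0, Subgroup.card_bot, one_mul] at hcard
      obtain ⟨n, hn⟩ := IsPGroup.iff_card.mp Q.2
      exact not_isPGroup hnc p (IsPGroup.of_card (hcard.symm.trans hn))
    · rw [h0, Subgroup.card_top] at hcard
      have hT : 0 < Nat.card T := Nat.card_pos
      have h1 : Nat.card (Q : Subgroup T) = 1 := by
        have : Nat.card T * Nat.card (Q : Subgroup T) = Nat.card T * 1 := by rw [hcard, mul_one]
        exact Nat.eq_of_mul_eq_mul_left hT this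
      exact Q.ne_bot_of_dvd_card hpd ((Subgroup.card_eq_one).mp h1)
  · -- W normal
    have hn : (Cfsg.centerThompsonOf p (P : Subgroup T)).Normal :=
      Subgroup.normalizer_eq_top_iff.mp h
    rcases hn.eq_bot_or_eq_top with h0 | h0
    · exact hW.ne_bot T (P : Subgroup T) P.2 hPne h0
    · apply hPtop
      rw [eq_top_iff, ← h0]
      exact Cfsg.Agent.Lib.Helper4.ZJE.Z_le (P : Subgroup T)

end main

end Cfsg.Agent.Lib.Helper8.ExtPrimStep56
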