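import Mathlib
import Cfsg.Agent.Lib.Helper4.Simple
import Cfsg.Agent.Lib.Helper4.SylowPrime
import Cfsg.Agent.Lib.Helper5.Ord360.Regular
import Cfsg.Agent.S0885

/-!
# No simple group of order 4960

`4960 = 2^5 * 5 * 31`.  There are `32` Sylow `31`-subgroups, the normalizer of one of them is a
Frobenius group `31 : 5`, so `G` is a Zassenhaus group of degree `32` whose two-point stabilizer has
order `5`; this contradicts Feit's inequality (S0885).
-/

set_option autoImplicit false
set_option linter.style.haveILetI false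

namespace Cfsg.Agent.Lib.Helper8.O4960

open Cfsg Cfsg.Agent.Lib.Helper4.Sylow Cfsg.Agent.Lib.Helper4.Simple
  Cfsg.Agent.Lib.Helper4.SylowPrime

variable {G : Type*} [Group G] [Finite G] [IsSimpleGroup G]

theorem card_sylow31 [Fact (Nat.Prime 31)] (hn : Nat.card G = 4960) :
    Nat.card (Sylow 31 G) = 32 := by
  have hG : Nat.card G = 31 ^ 1 * 160 := by rw [hn]; norm_num
  have hdvd : Nat.card (Sylow 31 G) ∣ 160 := card_sylow_dvd_of_card_eq hG (by norm_num)
  have hmod : Nat.card (Sylow 31 G) ≡ 1 [MOD 31] := card_sylow_modEq_one 31 G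
  obtain ⟨P⟩ : Nonempty (Sylow 31 G) := inferInstance
  have hP : Nat.card P = 31 ^ 1 := card_sylow_of_card_eq hG (by norm_num) P
  have hne : Nat.card (Sylow 31 G) ≠ 1 :=
    card_sylow_ne_one_of_simple P (by rw [hP]; norm_num) (by rw [hP, hn]; norm_num)
  have hle : Nat.card (Sylow 31 G) ≤ 160 := Nat.le_of_dvd (by norm_num) hdvd
  have hmem : Nat.card (Sylow 31 G) ∈ Nat.divisors 160 := by
    rw [Nat.mem_divisors]; exact ⟨hdvd, by norm_num⟩
  have hdiv : Nat.divisors 160 = {1, 2, 4, 5, 8, 10, 16, 20, 32, 40, 80, 160} := by decide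
  rw [hdiv] at hmem
  simp only [Finset.mem_insert, Finset.mem_singleton] at hmem
  unfold Nat.ModEq at hmod
  rcases hmem with h | h | h | h | h | h | h | h | h | h | h | h <;> rw [h] at hmod hne <;>
    first | exact h | (exfalso; revert hmod; decide) | exact absurd rfl hne

theorem no_simple_4960 (hn : Nat.card G = 4960) : False := by
  classical
  haveI : Fact (Nat.Prime 31) := ⟨by norm_num⟩
  have hG : Nat.card G = 31 ^ 1 * 160 := by rw [hn]; norm_num
  have hn31 := card_sylow31 hn
  obtain ⟨P⟩ : Nonempty (Sylow 31 G) := inferInstance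
  have hP : Nat.card (P : Subgroup G) = 31 := by
    have := card_sylow_of_card_eq hG (by norm_num) P
    simpa using this
  have hNcard : Nat.card (Subgroup.normalizer ((P : Subgroup G) : Set G)) = 155 := by
    have h1 := card_sylow_mul_card_normalizer P
    rw [hn31, hn] at h1
    omega
  -- the centralizer
  have hCcard : Nat.card (Subgroup.centralizer ((P : Subgroup G) : Set G)) = 31 := by
    have hab : IsMulCommutative (P : Subgroup G) := by
      haveI : Fact (Nat.card (P : Subgroup G)).Prime := ⟨by rw [hP]; norm_num⟩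
      have hc : IsCyclic (P : Subgroup G) := isCyclic_of_prime_card rfl
      exact IsCyclic.isMulCommutative
    have hle : (P : Subgroup G) ≤ Subgroup.centralizer ((P : Subgroup G) : Set G) :=
      Subgroup.le_centralizer _
    have hle2 : Subgroup.centralizer ((P : Subgroup G) : Set G)
        ≤ Subgroup.normalizer ((P : Subgroup G) : Set G) := Subgroup.centralizer_le_normalizer _
    have h1 : 31 ∣ Nat.card (Subgroup.centralizer ((P : Subgroup G) : Set G)) := by
      have := Subgroup.card_dvd_of_le hle
      rwa [hP] at this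
    have h2 : Nat.card (Subgroup.centralizer ((P : Subgroup G) : Set G)) ∣ 155 := by
      have := Subgroup.card_dvd_of_le hle2
      rwa [hNcard] at this
    obtain ⟨k, hk⟩ := h1
    have hk5 : k ∣ 5 := by
      rw [hk] at h2
      exact Nat.dvd_of_mul_dvd_mul_left (by norm_num : 0 < 31) (by simpa using h2)
    rcases (Nat.dvd_prime (by norm_num : Nat.Prime 5)).1 hk5 with h | h
    · rw [hk, h]
    · exfalso
      have heq : Subgroup.centralizer ((P : Subgroup G) : Set G)
          = Subgroup.normalizer ((P : Subgroup G) : Set G) := by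
        apply Subgroup.eq_of_le_of_card_ge hle2
        rw [hNcard, hk, h]
      exact false_of_simple_of_normalizer_le_centralizer P heq.ge (by rw [hP]; norm_num)
        (by rw [hP, hn]; norm_num)
  have hCP : Subgroup.centralizer ((P : Subgroup G) : Set G) = (P : Subgroup G) := by
    symm
    apply Subgroup.eq_of_le_of_card_ge (Subgroup.le_centralizer_iff_isMulCommutative.2 ?_)
    · rw [hCcard, hP]
    · haveI : Fact (Nat.card (P : Subgroup G)).Prime := ⟨by rw [hP]; norm_num⟩
      have hc : IsCyclic (P : Subgroup G) := isCyclic_of_prime_card rfl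
      exact IsCyclic.isMulCommutative
  -- self-centralizing
  have hself : ∀ x ∈ (P : Subgroup G), x ≠ 1 → ∀ g : G, g * x = x * g → g ∈ (P : Subgroup G) := by
    intro x hx hx1 g hg
    rw [← hCP, sylow_eq_zpowers P hP x hx1 hx]
    rw [Subgroup.mem_centralizer_iff]
    intro y hy
    obtain ⟨k, rfl⟩ := Subgroup.mem_zpowers_iff.1 hy
    exact ((Commute.zpow_right (show Commute g x from hg) k).eq).symm
  -- semiregularity
  have hsemi : ∀ k ∈ (P : Subgroup G), ∀ c : Sylow 31 G, c ≠ P → k • c = c → k = 1 := by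
    intro k hk c hc hkc
    by_contra hk1
    have hkN : k ∈ Subgroup.normalizer ((c : Subgroup G) : Set G) :=
      Sylow.smul_eq_iff_mem_normalizer.1 hkc
    have hkc' : k ∈ (c : Subgroup G) := mem_sylow_of_mem_normalizer c k hkN (P : Subgroup G) P.2 hk
    exact hc (sylow_eq_of_mem P c hP k hk1 hk hkc').symm
  have hPa : ∀ k ∈ (P : Subgroup G), k • P = P := fun k hk =>
    Sylow.smul_eq_iff_mem_normalizer.2 (Subgroup.le_normalizer hk)
  letI : Fintype (Sylow 31 G) := Fintype.ofFinite _
  have hΩ : Fintype.card (Sylow 31 G) = 31 + 1 := by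
    rw [← Nat.card_eq_fintype_card, hn31]
  have htrans := Cfsg.Agent.Lib.Helper5.Ord360.trans_of_semiregular 31 hΩ P (P : Subgroup G) hP hPa
    hsemi
  -- three-point stabilizers are trivial
  have h3a : ∀ g : G, g • P = P → ∀ c c' : Sylow 31 G, c ≠ P → c' ≠ P → c ≠ c' → g • c = c →
      g • c' = c' → g = 1 := by
    intro g hgP c c' hc hc' hcc' hgc hgc'
    obtain ⟨k, hk, hkc⟩ := htrans c c' hc hc'
    have hk1 : k ≠ 1 := by
      rintro rfl
      rw [one_smul] at hkc
      exact hcc' hkc
    have hgN : g ∈ Subgroup.normalizer ((P : Subgroup G) : Set G) :=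
      Sylow.smul_eq_iff_mem_normalizer.1 hgP
    have hconj : g * k * g⁻¹ ∈ (P : Subgroup G) := (Subgroup.mem_normalizer_iff.1 hgN k).1 hk
    have h1 : (k⁻¹ * (g * k * g⁻¹)) • c = c := by
      rw [mul_smul, mul_smul, mul_smul, inv_smul_eq_iff, hkc]
      have : g⁻¹ • c = c := by rw [inv_smul_eq_iff, hgc]
      rw [this, hkc, hgc']
    have h2 := hsemi _ ((P : Subgroup G).mul_mem ((P : Subgroup G).inv_mem hk) hconj) c hc h1
    have h3 : g * k = k * g := by
      have h4 : g * k * g⁻¹ = k := by
        have := congrArg (fun y => k * y) h2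
        simpa [mul_assoc] using this
      calc g * k = g * k * g⁻¹ * g := by group
        _ = k * g := by rw [h4]
    have hgP' : g ∈ (P : Subgroup G) := hself k hk hk1 g h3
    exact hsemi g hgP' c hc hgc
  have hZ : Cfsg.IsZassenhausGroup G (Sylow 31 G) :=
    Cfsg.Agent.Lib.Helper5.Ord360.zassenhaus_of_regular 31 5 (by norm_num) (by norm_num) hΩ
      (by rw [hn]) P (P : Subgroup G) hP hPa hsemi h3a
  -- a second point
  obtain ⟨R, hRP⟩ : ∃ R : Sylow 31 G, R ≠ P := by
    have h1 : 1 < Fintype.card (Sylow 31 G) := by omega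
    have : Nontrivial (Sylow 31 G) := Fintype.one_lt_card_iff_nontrivial.1 h1
    exact exists_ne P
  -- the two-point stabilizer
  obtain ⟨E, hE⟩ : ∃ E : Subgroup G, E = MulAction.stabilizer G P ⊓ MulAction.stabilizer G R :=
    ⟨_, rfl⟩
  have hEN : E ≤ Subgroup.normalizer ((P : Subgroup G) : Set G) := by
    intro g hg
    rw [hE, Subgroup.mem_inf, MulAction.mem_stabilizer_iff] at hg
    exact Sylow.smul_eq_iff_mem_normalizer.1 hg.1
  have hEdvd : Nat.card E ∣ 155 := by
    have := Subgroup.card_dvd_of_le hEN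
    rwa [hNcard] at this
  have hE31 : ¬ 31 ∣ Nat.card E := by
    intro h31
    obtain ⟨x, hx⟩ := exists_prime_orderOf_dvd_card' (G := E) 31 h31
    have hx1 : (x : G) ≠ 1 := by
      intro h
      have h' : x = 1 := Subtype.ext h
      rw [h', orderOf_one] at hx
      norm_num at hx
    have hxo : orderOf (x : G) = 31 := by rw [Subgroup.orderOf_coe, hx]
    have hxE : (x : G) ∈ MulAction.stabilizer G P ⊓ MulAction.stabilizer G R := hE ▸ x.2
    rw [Subgroup.mem_inf, MulAction.mem_stabilizer_iff, MulAction.mem_stabilizer_iff] at hxE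
    have hxN : (x : G) ∈ Subgroup.normalizer ((P : Subgroup G) : Set G) :=
      Sylow.smul_eq_iff_mem_normalizer.1 hxE.1
    have hpg : IsPGroup 31 (Subgroup.zpowers (x : G)) := by
      apply IsPGroup.of_card (n := 1)
      rw [Nat.card_zpowers, hxo, pow_one]
    have hxP : (x : G) ∈ (P : Subgroup G) :=
      mem_sylow_of_mem_normalizer P x hxN _ hpg (Subgroup.mem_zpowers _)
    exact hx1 (hsemi x hxP R hRP hxE.2)
  have hEodd : Odd (Nat.card E) := by
    rcases Nat.even_or_odd (Nat.card E) with h | h
    · exfalso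
      have h2 : 2 ∣ 155 := (even_iff_two_dvd.1 h).trans hEdvd
      norm_num at h2
    · exact h
  have hEle : Nat.card E ≤ 5 := by
    have hmem : Nat.card E ∈ Nat.divisors 155 := by
      rw [Nat.mem_divisors]; exact ⟨hEdvd, by norm_num⟩
    have hdiv : Nat.divisors 155 = {1, 5, 31, 155} := by decide
    rw [hdiv] at hmem
    simp only [Finset.mem_insert, Finset.mem_singleton] at hmem
    rcases hmem with h | h | h | h
    · omega
    · omega
    · exact absurd (by rw [h]) hE31
    · exact absurd (by rw [h]; norm_num) hE31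
  have hfeit := Cfsg.Agent.S0885.result hZ (Ne.symm hRP) 31 (Nat.card E) hΩ (by rw [hE]) hEodd
    (P : Subgroup G) (by
      intro k hk
      rw [MulAction.mem_stabilizer_iff]
      exact hPa k hk) (by rw [hP, hΩ]) (by
      intro u hu hu1 c hc
      by_contra hcP
      exact hu1 (hsemi u hu c hcP hc))
  rcases hfeit with h | ⟨h2, -, -⟩
  · omega
  · obtain ⟨n, hn2⟩ := h2.exists_card_eq
    rw [hP] at hn2
    have h31 : Nat.Prime 31 := by norm_num
    rcases n with _ | n
    · norm_num at hn2
    · have : 2 ∣ 31 := by rw [hn2, pow_succ]; exact dvd_mul_left _ _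
      norm_num at this

end Cfsg.Agent.Lib.Helper8.O4960
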