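import Mathlib
import Cfsg.Agent.Lib.Helper5.Ord.Ord720A0
import Cfsg.Agent.Lib.Helper5.Ord.Ord720A1

/-!
# Order 720 (for S0496): step (K′) and the Sylow 3-subgroups are TI (helper8; proof by lead)

`Step2 G` is the output of step (2): every subgroup `M` of order 72 contains an element `y` of order
4 fixing exactly the cosets `M` and `g M`, and so does `y ^ 2`.
-/

set_option autoImplicit false

namespace Cfsg.Agent.Lib.Helper8.Ord720

open Cfsg.Agent.Lib.Helper5.Ord720

variable {G : Type*} [Group G] [Finite G] [IsSimpleGroup G]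

/-- the conclusion of step (2) -/
def Step2 (G : Type*) [Group G] : Prop :=
  ∀ M : Subgroup G, Nat.card M = 72 → ∃ y ∈ M, orderOf y = 4 ∧ ∃ g : G, g ∉ M ∧
    g⁻¹ * y * g ∈ M ∧ ∀ h : G, h⁻¹ * y ^ 2 * h ∈ M → h ∈ M ∨ g⁻¹ * h ∈ M

/-- a subgroup of order 72 is self-normalizing. -/
theorem normalizer_eq_self_72 (hn : Nat.card G = 720) (M : Subgroup G) (hM : Nat.card M = 72) :
    Subgroup.normalizer (M : Set G) = M := by
  have hne : Subgroup.normalizer (M : Set G) ≠ ⊤ :=
    ne_top_of_card hn M (by rw [hM]; norm_num) (by rw [hM]; norm_num)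
  have hle := card_le_90 hn _ hne
  have hMN : M ≤ Subgroup.normalizer (M : Set G) := Subgroup.le_normalizer
  have hdvd : Nat.card M ∣ Nat.card (Subgroup.normalizer (M : Set G)) := Subgroup.card_dvd_of_le hMN
  rw [hM] at hdvd
  have hpos : 0 < Nat.card (Subgroup.normalizer (M : Set G)) := Nat.card_pos
  have hc : Nat.card (Subgroup.normalizer (M : Set G)) = 72 := by
    obtain ⟨k, hk⟩ := hdvd
    rw [hk] at hle hpos ⊢
    have : k = 1 := by omega
    rw [this]
  exact (Subgroup.eq_of_le_of_card_ge hMN (by rw [hc, hM])).symm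

/-- if `g⁻¹ M g ≤ M` for `|M| = 72` then `g ∈ M`. -/
theorem mem_of_conj_le (hn : Nat.card G = 720) (M : Subgroup G) (hM : Nat.card M = 72) (g : G)
    (h : ∀ m ∈ M, g⁻¹ * m * g ∈ M) : g ∈ M := by
  have hinj : Function.Injective (fun m : M => (⟨g⁻¹ * m.1 * g, h m.1 m.2⟩ : M)) := by
    intro a b hab
    have := congrArg Subtype.val hab
    simp only at this
    apply Subtype.ext
    have e : g * (g⁻¹ * a.1 * g) * g⁻¹ = g * (g⁻¹ * b.1 * g) * g⁻¹ := by rw [this]
    simpa [mul_assoc] using e
  have hsurj := Finite.surjective_of_injective hinj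
  have hginv : g⁻¹ ∈ Subgroup.normalizer (M : Set G) := by
    rw [Subgroup.mem_normalizer_iff]
    intro k
    rw [inv_inv]
    constructor
    · intro hk
      exact h k hk
    · intro hk
      obtain ⟨m, hm⟩ := hsurj ⟨g⁻¹ * k * g, hk⟩
      have := congrArg Subtype.val hm
      simp only at this
      have e : g * (g⁻¹ * m.1 * g) * g⁻¹ = g * (g⁻¹ * k * g) * g⁻¹ := by rw [this]
      have e2 : m.1 = k := by simpa [mul_assoc] using e
      rw [← e2]
      exact m.2
  rw [normalizer_eq_self_72 hn M hM] at hginv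
  exact (Subgroup.inv_mem_iff M).1 hginv

end Cfsg.Agent.Lib.Helper8.Ord720
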