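import Mathlib
import Cfsg.Agent.Lib.Helper5.Ord.Ord720A0
import Cfsg.Agent.Lib.Helper5.Ord.Ord720A1
import Cfsg.Agent.Lib.Helper5.Ord.Ord720A2
import Cfsg.Agent.Lib.Helper8.Ord720K
import Cfsg.Agent.Lib.Helper5.Ord.Ord720K
import Cfsg.Agent.Lib.Helper7.Ord720A

/-!
# Order 720 (for S0496): the Sylow 3-subgroups are TI (helper8; proof by lead)

Geometry of the case `|C(P ⊓ Q)| = 72` and assembly of step (A), from step (2) and step (K′).
-/

set_option autoImplicit false

namespace Cfsg.Agent.Lib.Helper8.Ord720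

open Cfsg.Agent.Lib.Helper5.Ord720

variable {G : Type*} [Group G] [Finite G] [IsSimpleGroup G]

/-- the conclusion of step (K′) -/
def StepK (G : Type*) [Group G] : Prop :=
  ∀ M V : Subgroup G, Nat.card M = 72 → Nat.card V = 4 → V ≤ M →
    M ≤ Subgroup.normalizer (V : Set G) → False

omit [IsSimpleGroup G] in
/-- a subgroup of order 3 is generated by any of its non-identity elements. -/
theorem eq_zpowers_of_card_three (D : Subgroup G) (hD : Nat.card D = 3) (c : G) (hc : c ∈ D)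
    (hc1 : c ≠ 1) : D = Subgroup.zpowers c := by
  symm
  have hle : Subgroup.zpowers c ≤ D := by
    rw [Subgroup.zpowers_le]
    exact hc
  apply Subgroup.eq_of_le_of_card_ge hle
  have h1 : Nat.card (Subgroup.zpowers c) ∣ 3 := hD ▸ Subgroup.card_dvd_of_le hle
  rcases (Nat.dvd_prime Nat.prime_three).mp h1 with h | h
  · exfalso
    rw [Nat.card_zpowers, orderOf_eq_one_iff] at h
    exact hc1 h
  · rw [h, hD]

/-- step (A), case `|C(P ⊓ Q)| = 72`. -/
theorem case72 (hn : Nat.card G = 720) (h2 : Step2 G) (hK : StepK G) [Fact (Nat.Prime 3)]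
    {P Q : Sylow 3 G} (hPQ : P ≠ Q) (hD : (P : Subgroup G) ⊓ Q ≠ ⊥)
    (hL : Nat.card (Subgroup.centralizer (((P : Subgroup G) ⊓ Q : Subgroup G) : Set G)) = 72)
    (hPL : (P : Subgroup G) ≤ Subgroup.centralizer (((P : Subgroup G) ⊓ Q : Subgroup G) : Set G)) :
    False := by
  set D : Subgroup G := (P : Subgroup G) ⊓ Q with hDdef
  set M : Subgroup G := Subgroup.centralizer (D : Set G) with hMdef
  obtain ⟨y, hyM, hy4, g, hgM, hgy, hfix⟩ := h2 M hL
  -- a non-identity element of `D`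
  obtain ⟨⟨d, hdD⟩, hd1'⟩ := Subgroup.ne_bot_iff_exists_ne_one.1 hD
  have hd1 : d ≠ 1 := fun h => hd1' (Subtype.ext h)
  have hdP : d ∈ (P : Subgroup G) := hdD.1
  have hdQ : d ∈ (Q : Subgroup G) := hdD.2
  have hdM : d ∈ M := hPL hdP
  have hPc := card_P3 hn P
  have hQc := card_P3 hn Q
  -- `|D| = 3`
  have hDc : Nat.card D = 3 := by
    have hle : D ≤ (P : Subgroup G) := inf_le_left
    have hdvd : Nat.card D ∣ 9 := hPc ▸ Subgroup.card_dvd_of_le hle
    have hne1 : Nat.card D ≠ 1 := fun h => hD (Subgroup.card_eq_one.1 h)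
    have hne9 : Nat.card D ≠ 9 := by
      intro h
      have hDP : D = (P : Subgroup G) := Subgroup.eq_of_le_of_card_ge hle (by rw [h, hPc])
      have hPQ' : (P : Subgroup G) ≤ Q := by
        rw [← hDP]
        exact inf_le_right
      have : (P : Subgroup G) = Q := Subgroup.eq_of_le_of_card_ge hPQ' (by rw [hPc, hQc])
      exact hPQ (Sylow.ext this)
    have h39 : (9 : ℕ) = 3 ^ 2 := by norm_num
    rw [h39] at hdvd
    obtain ⟨k, hk, hk2⟩ := (Nat.dvd_prime_pow Nat.prime_three).1 hdvd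
    interval_cases k
    · exact absurd hk2 hne1
    · simpa using hk2
    · exact absurd hk2 (by simpa using hne9)
  have hDz : D = Subgroup.zpowers d := eq_zpowers_of_card_three D hDc d hdD hd1
  have hd3 : orderOf d = 3 := by
    rw [← Nat.card_zpowers, ← hDz, hDc]
  -- `M = C(D)`
  have hMc : ∀ m ∈ M, ∀ c ∈ D, c * m = m * c := fun m hm c hc =>
    (Subgroup.mem_centralizer_iff.1 hm) c hc
  have hyd : y * d = d * y := (hMc y hyM d hdD).symm
  -- `g⁻¹ d g ∈ M`
  have hgd : g⁻¹ * d * g ∈ M := by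
    have h1 : (d * g)⁻¹ * y ^ 2 * (d * g) ∈ M := by
      have e : (d * g)⁻¹ * y ^ 2 * (d * g) = (g⁻¹ * y * g) ^ 2 := by
        have hyd2 : y ^ 2 * d = d * y ^ 2 := by
          rw [sq, mul_assoc, hyd, ← mul_assoc, hyd, mul_assoc]
        calc (d * g)⁻¹ * y ^ 2 * (d * g) = g⁻¹ * (d⁻¹ * (y ^ 2 * d)) * g := by group
          _ = g⁻¹ * (d⁻¹ * (d * y ^ 2)) * g := by rw [hyd2]
          _ = (g⁻¹ * y * g) ^ 2 := by rw [sq, sq]; group
      rw [e]
      exact M.pow_mem hgy 2
    rcases hfix (d * g) h1 with h | h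
    · exfalso
      apply hgM
      have : g = d⁻¹ * (d * g) := by group
      rw [this]
      exact M.mul_mem (M.inv_mem hdM) h
    · have : g⁻¹ * d * g = g⁻¹ * (d * g) := by group
      rw [this]
      exact h
  set e : G := g * d * g⁻¹ with hedef
  have hde : d * e = e * d := by
    have h1 := hMc _ hgd d hdD
    -- d * (g⁻¹ d g) = (g⁻¹ d g) * d ; conjugate by g
    have h2 : g * (d * (g⁻¹ * d * g)) * g⁻¹ = g * ((g⁻¹ * d * g) * d) * g⁻¹ := by rw [h1]
    have h3 : g * (d * (g⁻¹ * d * g)) * g⁻¹ = e * d := by rw [hedef]; group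
    have h4 : g * ((g⁻¹ * d * g) * d) * g⁻¹ = d * e := by rw [hedef]; group
    rw [← h3, ← h4, h2]
  have hye : y * e = e * y := by
    have h1 := hMc _ hgy d hdD
    -- d * (g⁻¹ y g) = (g⁻¹ y g) * d
    have h2 : g * (d * (g⁻¹ * y * g)) * g⁻¹ = g * ((g⁻¹ * y * g) * d) * g⁻¹ := by rw [h1]
    have h3 : g * (d * (g⁻¹ * y * g)) * g⁻¹ = e * y := by rw [hedef]; group
    have h4 : g * ((g⁻¹ * y * g) * d) * g⁻¹ = y * e := by rw [hedef]; group
    rw [← h3, ← h4, h2]
  have he3 : orderOf e = 3 := by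
    have : e = MulAut.conj g d := by rw [MulAut.conj_apply]
    rw [this, MulEquiv.orderOf_eq, hd3]
  have hne : e ∉ Subgroup.zpowers d := by
    intro heD
    apply hgM
    have he1 : e ≠ 1 := by
      intro h
      rw [h, orderOf_one] at he3
      norm_num at he3
    -- `D = ⟨e⟩ = g D g⁻¹`
    have hDe : D = Subgroup.zpowers e := eq_zpowers_of_card_three D hDc e (hDz ▸ heD) he1
    have hmap : D.map (MulAut.conj g).toMonoidHom = D := by
      nth_rewrite 1 [hDz]
      rw [MonoidHom.map_zpowers, hDe]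
      rfl
    -- `g M g⁻¹ ≤ M`
    have hconj : ∀ m ∈ M, (g⁻¹)⁻¹ * m * g⁻¹ ∈ M := by
      intro m hm
      rw [inv_inv]
      rw [hMdef, Subgroup.mem_centralizer_iff]
      intro c hc
      have hc' : c ∈ D.map (MulAut.conj g).toMonoidHom := by rw [hmap]; exact hc
      obtain ⟨c0, hc0, rfl⟩ := hc'
      have h1 := hMc m hm c0 hc0
      show g * c0 * g⁻¹ * (g * m * g⁻¹) = g * m * g⁻¹ * (g * c0 * g⁻¹)
      calc g * c0 * g⁻¹ * (g * m * g⁻¹) = g * (c0 * m) * g⁻¹ := by group
        _ = g * (m * c0) * g⁻¹ := by rw [h1]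
        _ = g * m * g⁻¹ * (g * c0 * g⁻¹) := by group
    have := mem_of_conj_le hn M hL g⁻¹ hconj
    exact (Subgroup.inv_mem_iff M).1 this
  obtain ⟨M₂, V, hM₂, hV, hVM, hMV⟩ := case72_numerics hn d e y hd3 he3 hde hne hy4 hyd hye
  exact hK M₂ V hM₂ hV hVM hMV

/-- **Step (A): the Sylow 3-subgroups of a simple group of order 720 are TI**, from step (2) and
step (K′). -/
theorem sylow3_TI_of (hn : Nat.card G = 720) (h2 : Step2 G) (hK : StepK G) [Fact (Nat.Prime 3)]
    (P Q : Sylow 3 G) (h : P ≠ Q) : (P : Subgroup G) ⊓ Q = ⊥ := by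
  by_contra hD
  obtain ⟨hcard, hPL, hQL⟩ := cardL hn h hD
  rcases hcard with h36 | h72
  · obtain ⟨M, V, hM, hV, hVM, hMV⟩ := case36 hn _ h36 ⟨P, Q, h, hPL, hQL⟩
    exact hK M V hM hV hVM hMV
  · exact case72 hn h2 hK h hD h72 hPL

/-- **The Sylow 3-subgroups of a simple group of order 720 are TI** (step (A) of the order-720
analysis; uses helper7's `step2` and helper5's `Kprime`, `cardL`, `case36`, `case72_numerics`). -/
theorem sylow3_TI (hn : Nat.card G = 720) (P Q : Sylow 3 G) (h : P ≠ Q) :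
    (P : Subgroup G) ⊓ Q = ⊥ := by
  have : Fact (Nat.Prime 3) := prime3
  have h2 : Step2 G := fun M hM => Cfsg.Agent.Lib.Helper7.Ord720.step2 hn M hM
  have hK : StepK G := fun M V hM hV hVM hMV => Kprime hn h2 M V hM hV hVM hMV
  exact sylow3_TI_of hn h2 hK P Q h

end Cfsg.Agent.Lib.Helper8.Ord720
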