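import Mathlib
import Cfsg.Prelude.Def_RootSubgroups
import Cfsg.Agent.H2.RootSub

/-!
# Abstract transvection systems give degenerate classes of root subgroups (helper8)

A family `A : P → Subgroup H` of abelian subgroups indexed by "points", with a symmetric
"perpendicularity" relation such that perpendicular points give commuting subgroups and
non-perpendicular points give rank one pairs that are images of `SL₂(L)`, forms a degenerate class
of abstract `L`-root subgroups with connected graph `𝓕`.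
-/

set_option autoImplicit false

namespace Cfsg.Agent.Lib.Helper8.RootClass

open Cfsg Cfsg.Agent.H2.RankOne Cfsg.Agent.H2.RootSub

variable {H : Type*} [Group H]

lemma conjBy_eq_of_centralizes {A : Subgroup H} {g : H} (h : ∀ a ∈ A, g * a = a * g) :
    conjBy A g = A := by
  ext x
  rw [mem_conjBy]
  constructor
  · intro hx
    have := h _ hx
    have e1 : g * (g⁻¹ * x * g) = x * g := by group
    rw [e1] at this
    have e : g⁻¹ * x * g = x := (mul_right_cancel this).symm
    rw [← e]; exact hx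
  · intro hx
    have := h _ hx
    have e : g⁻¹ * x * g = x := by
      rw [mul_assoc, ← this]; group
    rw [e]; exact hx

lemma map_conjBy {K : Type*} [Group K] (φ : H →* K) (A : Subgroup H) (g : H) :
    (conjBy A g).map φ = conjBy (A.map φ) (φ g) := by
  ext x
  rw [mem_conjBy]
  constructor
  · rintro ⟨y, hy, rfl⟩
    have hy' : y ∈ conjBy A g := hy
    rw [mem_conjBy] at hy'
    exact ⟨g⁻¹ * y * g, hy', by rw [map_mul, map_mul, map_inv]⟩
  · rintro ⟨a, ha, hx⟩
    refine ⟨g * a * g⁻¹, ?_, ?_⟩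
    · show g * a * g⁻¹ ∈ conjBy A g
      rw [mem_conjBy]
      have : g⁻¹ * (g * a * g⁻¹) * g = a := by group
      rw [this]; exact ha
    · rw [map_mul, map_mul, map_inv, hx]; group

/-- commuting subgroups do not form a rank one pair -/
lemma not_rankOne_of_comm {A B : Subgroup H} (h : IsRankOnePair A B)
    (hc : ∀ a ∈ A, ∀ b ∈ B, a * b = b * a) : False := by
  obtain ⟨a, ha, ha1⟩ := exists_nonidentity_left h
  obtain ⟨b, hb, -, e⟩ := h.cond_left a ha ha1
  have h1 : conjBy A b⁻¹ = A := by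
    apply conjBy_eq_of_centralizes
    intro a' ha'
    have := hc a' ha' b hb
    -- b⁻¹ a' = a' b⁻¹
    have e1 : b⁻¹ * a' = b⁻¹ * (a' * b) * b⁻¹ := by group
    rw [e1, this]; group
  have h2 : conjBy B a⁻¹ = B := by
    apply conjBy_eq_of_centralizes
    intro b' hb'
    have := hc a ha b' hb'
    have e1 : a⁻¹ * b' = a⁻¹ * (b' * a) * a⁻¹ := by group
    rw [e1, ← this]; group
  rw [h1, h2] at e
  exact h.ne e

/-- transport of rank one pairs along injective homomorphisms -/
lemma rankOnePair_map {K : Type*} [Group K] (φ : H →* K) (hφ : Function.Injective φ)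
    {A B : Subgroup H} (h : IsRankOnePair A B) : IsRankOnePair (A.map φ) (B.map φ) where
  ne := fun e => h.ne (Subgroup.map_injective hφ e)
  nilpotent_left := by
    have := h.nilpotent_left
    exact Group.nilpotent_of_mulEquiv (A.equivMapOfInjective φ hφ)
  nilpotent_right := by
    have := h.nilpotent_right
    exact Group.nilpotent_of_mulEquiv (B.equivMapOfInjective φ hφ)
  cond_left := by
    rintro _ ⟨a, ha, rfl⟩ ha1
    have ha1' : a ≠ 1 := fun e => ha1 (by rw [e, map_one])
    obtain ⟨b, hb, hb1, e⟩ := h.cond_left a ha ha1'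
    refine ⟨φ b, ⟨b, hb, rfl⟩, fun e1 => hb1 (hφ (by rw [e1, map_one])), ?_⟩
    rw [← map_inv, ← map_inv, ← map_conjBy, ← map_conjBy, e]
  cond_right := by
    rintro _ ⟨a, ha, rfl⟩ ha1
    have ha1' : a ≠ 1 := fun e => ha1 (by rw [e, map_one])
    obtain ⟨b, hb, hb1, e⟩ := h.cond_right a ha ha1'
    refine ⟨φ b, ⟨b, hb, rfl⟩, fun e1 => hb1 (hφ (by rw [e1, map_one])), ?_⟩
    rw [← map_inv, ← map_inv, ← map_conjBy, ← map_conjBy, e]

/-- an abstract system of transvection subgroups -/
structure TransvectionSystem (L : Type*) [Field L] {P : Type*} (A : P → Subgroup H)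
    (perp : P → P → Prop) : Prop where
  nonempty : Nonempty P
  comm : ∀ p, ∀ a ∈ A p, ∀ b ∈ A p, a * b = b * a
  ne_bot : ∀ p, A p ≠ ⊥
  gen : (⨆ p, A p) = ⊤
  conj : ∀ p (g : H), ∃ p', conjBy (A p) g = A p'
  perp_comm : ∀ p p', perp p p' → ∀ a ∈ A p, ∀ b ∈ A p', a * b = b * a
  rank_one : ∀ p p', ¬ perp p p' → IsRankOnePair (A p) (A p') ∧ IsPSL2PairOver L (A p) (A p')
  link : ∀ p p', perp p p' → ∃ w, ¬ perp p w ∧ ¬ perp w p'

namespace TransvectionSystem

variable {L : Type*} [Field L] {P : Type*} {A : P → Subgroup H} {perp : P → P → Prop}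

lemma commutator_eq_bot (h : TransvectionSystem L A perp) {p p' : P} (hp : perp p p') :
    ⁅A p, A p'⁆ = ⊥ := by
  rw [Subgroup.commutator_eq_bot_iff_le_centralizer]
  intro a ha
  rw [Subgroup.mem_centralizer_iff]
  intro b hb
  exact (h.perp_comm p p' hp a ha b hb).symm

lemma isRootSubgroupSet (h : TransvectionSystem L A perp) : IsRootSubgroupSet (Set.range A) where
  commutative := by
    rintro _ ⟨p, rfl⟩
    exact isMulCommutative_iff.2 fun a b => Subtype.ext (h.comm p a a.2 b b.2)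
  ne_bot := by
    rintro _ ⟨p, rfl⟩
    exact h.ne_bot p
  generates := by
    rw [eq_top_iff, ← h.gen, iSup_le_iff]
    intro p
    exact le_iSup₂_of_le (A p) ⟨p, rfl⟩ le_rfl
  conj_mem := by
    rintro _ ⟨p, rfl⟩ g
    obtain ⟨p', e⟩ := h.conj p g
    exact ⟨p', e.symm⟩
  pair := by
    rintro _ ⟨p, rfl⟩ _ ⟨p', rfl⟩
    by_cases hp : perp p p'
    · exact Or.inl (h.commutator_eq_bot hp)
    · exact Or.inr (Or.inl (h.rank_one p p' hp).1)

lemma exists_conj (h : TransvectionSystem L A perp) (p p' : P) :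
    ∃ g : H, A p' = conjBy (A p) g := by
  by_cases hp : perp p p'
  · obtain ⟨w, h1, h2⟩ := h.link p p' hp
    obtain ⟨x, -, e1⟩ := exists_conjBy_eq_right (h.rank_one p w h1).1
    obtain ⟨y, -, e2⟩ := exists_conjBy_eq_right (h.rank_one w p' h2).1
    exact ⟨y * x, by rw [e2, e1, conjBy_mul]⟩
  · obtain ⟨x, -, e1⟩ := exists_conjBy_eq_right (h.rank_one p p' hp).1
    exact ⟨x, e1⟩

lemma isRootSubgroupClass (h : TransvectionSystem L A perp) :
    IsRootSubgroupClass (Set.range A) := by
  refine ⟨h.isRootSubgroupSet, ?_, ?_⟩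
  · obtain ⟨p⟩ := h.nonempty
    exact ⟨A p, p, rfl⟩
  · rintro _ ⟨p, rfl⟩ _ ⟨p', rfl⟩
    exact h.exists_conj p p'

lemma isDegenerate (h : TransvectionSystem L A perp) : IsDegenerateRootSet (Set.range A) := by
  rintro _ ⟨p, rfl⟩ _ ⟨p', rfl⟩ hcc
  by_cases hp : perp p p'
  · have h1 := hcc.1
    rw [h.commutator_eq_bot hp] at h1
    obtain ⟨p'', e⟩ := h1
    exact h.ne_bot p'' e
  · have hr := (h.rank_one p p' hp).1
    obtain ⟨a, ha, ha1⟩ := exists_nonidentity_left hr
    exact false_of_commutator_centralizes hr ha ha1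
      (fun b hb b' hb' => commutatorCase_centralizes hcc ha hb hb')

lemma isKRoot (h : TransvectionSystem L A perp) : IsKRootSubgroupSet L (Set.range A) := by
  refine ⟨h.isRootSubgroupSet, ?_⟩
  rintro _ ⟨p, rfl⟩ _ ⟨p', rfl⟩ hr
  by_cases hp : perp p p'
  · exact (not_rankOne_of_comm hr (h.perp_comm p p' hp)).elim
  · exact (h.rank_one p p' hp).2

lemma isConnected (h : TransvectionSystem L A perp) :
    IsConnectedFamily (FAdj (Set.range A)) (Set.range A) := by
  rintro _ ⟨p, rfl⟩ _ ⟨p', rfl⟩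
  by_cases hp : perp p p'
  · obtain ⟨w, h1, h2⟩ := h.link p p' hp
    exact Relation.ReflTransGen.head ⟨⟨p, rfl⟩, ⟨w, rfl⟩, (h.rank_one p w h1).1⟩
      (Relation.ReflTransGen.single ⟨⟨w, rfl⟩, ⟨p', rfl⟩, (h.rank_one w p' h2).1⟩)
  · exact Relation.ReflTransGen.single ⟨⟨p, rfl⟩, ⟨p', rfl⟩, (h.rank_one p p' hp).1⟩

end TransvectionSystem

end Cfsg.Agent.Lib.Helper8.RootClass
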