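import Mathlib
import Cfsg.Agent.Lib.Helper8.RootClassA
import Cfsg.Agent.S5016

/-!
# Rank one pairs from embeddings of `SL₂` (helper8)
-/

set_option autoImplicit false

namespace Cfsg.Agent.Lib.Helper8.RootClass

open Cfsg Cfsg.Agent.H2.RankOne Cfsg.Agent.H2.RootSub Cfsg.Agent.S5016

variable {H : Type*} [Group H] {L : Type*} [Field L]

/-- an injective homomorphism from `SL₂(L)` mapping the unitriangular subgroups onto `A`, `B`
exhibits `(A, B)` as a rank one pair which is an image of `SL₂(L)` -/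
lemma psl2pair_of_hom (φ : Matrix.SpecialLinearGroup (Fin 2) L →* H) (hφ : Function.Injective φ)
    {A B : Subgroup H} (hA : (upperUnipotentSL2 L).map φ = A)
    (hB : (lowerUnipotentSL2 L).map φ = B) : IsRankOnePair A B ∧ IsPSL2PairOver L A B := by
  constructor
  · have h := rankOnePair_map φ hφ (rankOnePair (k := L))
    rw [hA, hB] at h
    exact RankOnePair_symm h
  · refine ⟨φ, ?_, ?_, hA, hB⟩
    · rw [MonoidHom.range_eq_map, ← sup_eq_top (k := L), Subgroup.map_sup, hA, hB, sup_comm]
    · rw [(MonoidHom.ker_eq_bot_iff φ).2 hφ]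
      exact bot_le

/-- the same through an injective homomorphism `ψ : H →* K` -/
lemma psl2pair_of_hom' {K : Type*} [Group K] (ψ : H →* K) (hψ : Function.Injective ψ)
    (φ₀ : Matrix.SpecialLinearGroup (Fin 2) L →* K) (hφ₀ : Function.Injective φ₀)
    {A B : Subgroup H} (hA : (upperUnipotentSL2 L).map φ₀ = A.map ψ)
    (hB : (lowerUnipotentSL2 L).map φ₀ = B.map ψ) : IsRankOnePair A B ∧ IsPSL2PairOver L A B := by
  have hle : φ₀.range ≤ ψ.range := by
    rw [MonoidHom.range_eq_map, ← sup_eq_top (k := L), Subgroup.map_sup, hA, hB]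
    exact sup_le (Subgroup.map_le_range _ _) (Subgroup.map_le_range _ _)
  set φ : Matrix.SpecialLinearGroup (Fin 2) L →* H :=
    (MonoidHom.ofInjective hψ).symm.toMonoidHom.comp
      (φ₀.codRestrict ψ.range (fun x => hle ⟨x, rfl⟩)) with hφdef
  have hcomp : ∀ x, ψ (φ x) = φ₀ x := by
    intro x
    exact MonoidHom.apply_ofInjective_symm hψ _
  have hcomp' : ψ.comp φ = φ₀ := MonoidHom.ext hcomp
  have hφ : Function.Injective φ := by
    intro x y hxy
    apply hφ₀
    rw [← hcomp, ← hcomp, hxy]
  apply psl2pair_of_hom φ hφ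
  · apply Subgroup.map_injective hψ
    rw [Subgroup.map_map, hcomp', hA]
  · apply Subgroup.map_injective hψ
    rw [Subgroup.map_map, hcomp', hB]

end Cfsg.Agent.Lib.Helper8.RootClass
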