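import Mathlib

/-!
# Invariant alternating forms on `F_p(ω)` (helper8, for S4395 step 3)

`F` a finite field with `p ^ a` elements generated as a ring by `ω`; `β : F → F → M` a biadditive
alternating map into an additive commutative group with `β (ω x) (ω y) = β x y`.  Then the values of
`β` lie in an additive subgroup of order at most `p ^ (a / 2)`, which is trivial when `a` is odd.
-/

set_option autoImplicit false

namespace Cfsg.Agent.Lib.Helper8.SchmidtForm

/-- `|ker f| * |range f| = |A|` for an additive hom on a group. -/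
theorem card_ker_mul_card_range {A B : Type*} [AddGroup A] [AddGroup B] (f : A →+ B) :
    Nat.card f.ker * Nat.card f.range = Nat.card A := by
  rw [← AddSubgroup.index_ker]
  exact AddSubgroup.card_mul_index _

variable {F : Type*} [Field F] {M : Type*} [AddCommGroup M]

/-- A biadditive alternating map invariant under multiplication by `ω`. -/
structure IsForm (ω : F) (β : F → F → M) : Prop where
  add_left : ∀ x y z, β (x + y) z = β x z + β y z
  add_right : ∀ x y z, β x (y + z) = β x y + β x z
  inv : ∀ x y, β (ω * x) (ω * y) = β x y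
  alt : ∀ x, β x x = 0

namespace IsForm

variable {ω : F} {β : F → F → M} (h : IsForm ω β)

/-- `x ↦ β x y` as an additive hom. -/
def homL (y : F) : F →+ M := AddMonoidHom.mk' (fun x => β x y) (fun a b => h.add_left a b y)

/-- `y ↦ β x y` as an additive hom. -/
def homR (x : F) : F →+ M := AddMonoidHom.mk' (fun y => β x y) (fun a b => h.add_right x a b)

include h

theorem zero_left (y : F) : β 0 y = 0 := (h.homL y).map_zero
theorem zero_right (x : F) : β x 0 = 0 := (h.homR x).map_zero
theorem neg_left (x y : F) : β (-x) y = -β x y := (h.homL y).map_neg x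
theorem neg_right (x y : F) : β x (-y) = -β x y := (h.homR x).map_neg y
theorem sub_left (x x' y : F) : β (x - x') y = β x y - β x' y := (h.homL y).map_sub x x'
theorem sub_right (x y y' : F) : β x (y - y') = β x y - β x y' := (h.homR x).map_sub y y'

theorem antisymm (x y : F) : β x y = -β y x := by
  have e := h.alt (x + y)
  rw [h.add_left, h.add_right, h.add_right, h.alt, h.alt, zero_add, add_zero] at e
  exact eq_neg_of_add_eq_zero_left e

/-- The "adjoint pairs": `(z, z')` with `β (z x) y = β x (z' y)`. -/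
def adj : Subring (F × F) where
  carrier := {z | ∀ x y, β (z.1 * x) y = β x (z.2 * y)}
  mul_mem' := by
    intro z w hz hw x y
    have hz' : ∀ x y, β (z.1 * x) y = β x (z.2 * y) := hz
    have hw' : ∀ x y, β (w.1 * x) y = β x (w.2 * y) := hw
    show β ((z * w).1 * x) y = β x ((z * w).2 * y)
    rw [Prod.fst_mul, Prod.snd_mul, mul_assoc, hz', hw']
    congr 1; ring
  one_mem' := by
    intro x y
    show β ((1 : F × F).1 * x) y = β x ((1 : F × F).2 * y)
    rw [Prod.fst_one, Prod.snd_one, one_mul, one_mul]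
  add_mem' := by
    intro z w hz hw x y
    have hz' : ∀ x y, β (z.1 * x) y = β x (z.2 * y) := hz
    have hw' : ∀ x y, β (w.1 * x) y = β x (w.2 * y) := hw
    show β ((z + w).1 * x) y = β x ((z + w).2 * y)
    rw [Prod.fst_add, Prod.snd_add, add_mul, add_mul, h.add_left, h.add_right, hz', hw']
  zero_mem' := by
    intro x y
    show β ((0 : F × F).1 * x) y = β x ((0 : F × F).2 * y)
    rw [Prod.fst_zero, Prod.snd_zero, zero_mul, zero_mul, h.zero_left, h.zero_right]
  neg_mem' := by
    intro z hz x y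
    have hz' : ∀ x y, β (z.1 * x) y = β x (z.2 * y) := hz
    show β ((-z).1 * x) y = β x ((-z).2 * y)
    rw [Prod.fst_neg, Prod.snd_neg, neg_mul, neg_mul, h.neg_left, h.neg_right, hz']

theorem mem_adj {z z' : F} : (z, z') ∈ h.adj ↔ ∀ x y, β (z * x) y = β x (z' * y) := Iff.rfl

theorem omega_mem (hω0 : ω ≠ 0) : (ω, ω⁻¹) ∈ h.adj := by
  rw [h.mem_adj]
  intro x y
  have e := h.inv x (ω⁻¹ * y)
  rw [mul_inv_cancel_left₀ hω0] at e
  exact e

theorem adj_symm {z z' : F} (hz : (z, z') ∈ h.adj) : (z', z) ∈ h.adj := by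
  rw [h.mem_adj] at hz ⊢
  intro x y
  rw [h.antisymm, ← hz, ← h.antisymm]

theorem exists_adj (hω0 : ω ≠ 0) (hgen : Subring.closure {ω} = ⊤) (z : F) :
    ∃ z', (z, z') ∈ h.adj := by
  have hle : Subring.closure {ω} ≤ (h.adj).map (RingHom.fst F F) := by
    rw [Subring.closure_le]
    intro w hw
    rw [Set.mem_singleton_iff] at hw
    subst hw
    exact ⟨(w, w⁻¹), h.omega_mem hω0, rfl⟩
  have hz : z ∈ (h.adj).map (RingHom.fst F F) := hle (hgen ▸ Subring.mem_top z)
  obtain ⟨⟨z1, z2⟩, hz, rfl⟩ := hz
  exact ⟨z2, hz⟩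

theorem adj_unique (hne : ∃ x y, β x y ≠ 0) {z a b : F} (ha : (z, a) ∈ h.adj)
    (hb : (z, b) ∈ h.adj) : a = b := by
  by_contra hab
  have hc : (0, a - b) ∈ h.adj := by
    have := h.adj.sub_mem ha hb
    simpa using this
  obtain ⟨x, y, hxy⟩ := hne
  apply hxy
  have e := (h.mem_adj.1 hc) x ((a - b)⁻¹ * y)
  rw [zero_mul, h.zero_left, mul_inv_cancel_left₀ (sub_ne_zero.mpr hab)] at e
  exact e.symm

/-- If all `β (z x) y = β x (z y)` then a nonzero alternating form cannot exist. -/
theorem eq_zero_of_selfadjoint [Finite F] (hsa : ∀ z x y, β (z * x) y = β x (z * y)) :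
    ∀ x y, β x y = 0 := by
  have hγ : ∀ x y, β x y = β 1 (x * y) := by
    intro x y
    have := hsa x 1 y
    rwa [mul_one] at this
  have hsq : ∀ x, β 1 (x * x) = 0 := fun x => by rw [← hγ, h.alt]
  have hall : ∀ x, β 1 x = 0 := by
    by_cases h2 : (2 : F) = 0
    · intro x
      have hch : ringChar F = 2 :=
        CharP.ringChar_of_prime_eq_zero Nat.prime_two (by exact_mod_cast h2)
      obtain ⟨r, rfl⟩ := FiniteField.isSquare_of_char_two hch x
      exact hsq r
    · intro x
      have e : x = ((x + 1) / 2) * ((x + 1) / 2) - ((x - 1) / 2) * ((x - 1) / 2) := by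
        field_simp
        ring
      rw [e, h.sub_right, hsq, hsq, sub_zero]
  intro x y
  rw [hγ, hall]

/-- Main count: a nonzero invariant alternating form forces `a` even, and the values lie in the
range of `β 1 ·`, which has order at most `p ^ (a / 2)`. -/
theorem even_of_ne [Finite F] {p a : ℕ} (hp : p.Prime) (hcard : Nat.card F = p ^ a)
    (hgen : Subring.closure {ω} = ⊤) (hne : ∃ x y, β x y ≠ 0) :
    ∃ j, a = 2 * j ∧ Nat.card (h.homR 1).range ≤ p ^ j ∧ ∀ x y, β x y ∈ (h.homR 1).range := by
  classical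
  have hω0 : ω ≠ 0 := by
    rintro rfl
    obtain ⟨x, y, hxy⟩ := hne
    apply hxy
    have := h.inv x y
    rw [zero_mul, zero_mul, h.zero_left] at this
    exact this.symm
  choose τ hτ using h.exists_adj hω0 hgen
  have huniq : ∀ {z c : F}, (z, c) ∈ h.adj → c = τ z := fun hc => h.adj_unique hne hc (hτ _)
  have τadd : ∀ x y, τ (x + y) = τ x + τ y := fun x y =>
    (huniq (by simpa using h.adj.add_mem (hτ x) (hτ y))).symm
  have τmul : ∀ x y, τ (x * y) = τ x * τ y := fun x y =>
    (huniq (by simpa using h.adj.mul_mem (hτ x) (hτ y))).symm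
  have τone : τ 1 = 1 := (huniq (z := 1) (c := 1) h.adj.one_mem).symm
  have τzero : τ 0 = 0 := (huniq (z := 0) (c := 0) h.adj.zero_mem).symm
  have τinv : ∀ z, τ (τ z) = z := fun z => (huniq (h.adj_symm (hτ z))).symm
  have hτ' : ∀ z x y, β (z * x) y = β x (τ z * y) := fun z => h.mem_adj.1 (hτ z)
  let τR : F →+* F :=
    { toFun := τ, map_one' := τone, map_mul' := τmul, map_zero' := τzero, map_add' := τadd }
  have τneg : ∀ x, τ (-x) = -τ x := fun x => map_neg τR x
  have τsub : ∀ x y, τ (x - y) = τ x - τ y := fun x y => map_sub τR x y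
  have τinv0 : ∀ x, τ x⁻¹ = (τ x)⁻¹ := fun x => map_inv₀ τR x
  let fp : F →+ F := AddMonoidHom.id F + τR.toAddMonoidHom
  let fm : F →+ F := AddMonoidHom.id F - τR.toAddMonoidHom
  have fp_apply : ∀ z, fp z = z + τ z := fun z => rfl
  have fm_apply : ∀ z, fm z = z - τ z := fun z => rfl
  have mem_kp : ∀ z, z ∈ fp.ker ↔ τ z = -z := by
    intro z
    rw [AddMonoidHom.mem_ker, fp_apply]
    constructor
    · intro e; exact (neg_eq_of_add_eq_zero_right e).symm
    · intro e; rw [e, add_neg_cancel]
  have mem_km : ∀ z, z ∈ fm.ker ↔ τ z = z := by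
    intro z
    rw [AddMonoidHom.mem_ker, fm_apply, sub_eq_zero]
    exact eq_comm
  set γ : F →+ M := h.homR 1 with hγdef
  have γ_apply : ∀ y, γ y = β 1 y := fun y => rfl
  -- values of β lie in the range of γ
  have hval : ∀ x y, β x y ∈ γ.range := by
    intro x y
    refine ⟨τ x * y, ?_⟩
    rw [γ_apply, ← hτ', mul_one]
  -- Claim A
  have hA : fp.range ≤ γ.ker := by
    rintro _ ⟨z, rfl⟩
    rw [AddMonoidHom.mem_ker, fp_apply, γ_apply, h.add_right]
    have e1 : β 1 (τ z) = β z 1 := by
      have := hτ' z 1 1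
      rw [mul_one, mul_one] at this
      exact this.symm
    rw [e1, h.antisymm z 1, add_neg_cancel]
  -- Claim B
  have hB : fm.range ≤ fp.ker := by
    rintro _ ⟨z, rfl⟩
    rw [mem_kp, fm_apply, τsub, τinv]
    ring
  -- Claim C
  have hC : Nat.card fp.ker ≤ Nat.card fm.ker := by
    by_cases hε : ∃ ε ∈ fp.ker, ε ≠ 0
    · obtain ⟨ε, hεk, hε0⟩ := hε
      have hεk' := (mem_kp ε).1 hεk
      refine Nat.card_le_card_of_injective
        (fun z : fp.ker => (⟨z.1 * ε, ?_⟩ : fm.ker)) ?_
      · rw [mem_km, τmul, (mem_kp z.1).1 z.2, hεk']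
        ring
      · intro z w hzw
        have := congrArg Subtype.val hzw
        exact Subtype.ext (mul_right_cancel₀ hε0 this)
    · have hsub : ∀ z : fp.ker, z = 0 := by
        intro z
        by_contra hz
        exact hε ⟨z.1, z.2, fun e => hz (Subtype.ext e)⟩
      refine Nat.card_le_card_of_injective (fun _ : fp.ker => (0 : fm.ker)) ?_
      intro z w _
      rw [hsub z, hsub w]
  -- τ is not the identity
  have hτne : ∃ θ, τ θ ≠ θ := by
    by_contra hcon
    push Not at hcon
    obtain ⟨x, y, hxy⟩ := hne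
    apply hxy
    refine h.eq_zero_of_selfadjoint ?_ x y
    intro z x y
    have := hτ' z x y
    rwa [hcon] at this
  obtain ⟨θ, hθ⟩ := hτne
  -- Claim D
  have hD : Nat.card fm.ker * Nat.card fm.ker ≤ Nat.card F := by
    rw [← Nat.card_prod]
    refine Nat.card_le_card_of_injective (fun uv : fm.ker × fm.ker => uv.1.1 + uv.2.1 * θ) ?_
    rintro ⟨⟨u, hu⟩, ⟨v, hv⟩⟩ ⟨⟨u', hu'⟩, ⟨v', hv'⟩⟩ e
    simp only at e
    rw [mem_km] at hu hv hu' hv'
    have hvv : v = v' := by
      by_contra hvv
      have hd : v - v' ≠ 0 := sub_ne_zero.mpr hvv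
      have e2 : θ = (u' - u) * (v - v')⁻¹ := by
        rw [eq_mul_inv_iff_mul_eq₀ hd]
        linear_combination e
      apply hθ
      rw [e2, τmul, τinv0, τsub, τsub, hu, hv, hu', hv']
    subst hvv
    have huu : u = u' := by
      have := add_right_cancel e
      exact this
    subst huu
    rfl
  -- cardinalities
  have c1 := card_ker_mul_card_range γ
  have c2 := card_ker_mul_card_range fp
  have c3 := card_ker_mul_card_range fm
  have lA : Nat.card fp.range ≤ Nat.card γ.ker := AddSubgroup.card_le_of_le hA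
  have lB : Nat.card fm.range ≤ Nat.card fp.ker := AddSubgroup.card_le_of_le hB
  have posγ : 0 < Nat.card γ.ker := Nat.card_pos
  have poskm : 0 < Nat.card fm.ker := Nat.card_pos
  have poskp : 0 < Nat.card fp.ker := Nat.card_pos
  set n := Nat.card F with hn
  set kp := Nat.card fp.ker with hkp
  set km := Nat.card fm.ker with hkm
  set rp := Nat.card fp.range with hrp
  set rm := Nat.card fm.range with hrm
  set kg := Nat.card γ.ker with hkg
  set rg := Nat.card γ.range with hrg
  -- n = km * km
  have hnk : n = km * km := by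
    apply le_antisymm _ hD
    calc n = km * rm := c3.symm
      _ ≤ km * kp := Nat.mul_le_mul_left _ lB
      _ ≤ km * km := Nat.mul_le_mul_left _ hC
  -- rg ≤ kp
  have hrk : rg ≤ kp := by
    have : kg * rg ≤ kg * kp := by
      calc kg * rg = n := c1
        _ = kp * rp := c2.symm
        _ ≤ kp * kg := Nat.mul_le_mul_left _ lA
        _ = kg * kp := Nat.mul_comm _ _
    exact Nat.le_of_mul_le_mul_left this posγ
  -- km is a power of p
  have hdvd : km ∣ p ^ a := by
    rw [← hcard]
    exact AddSubgroup.card_addSubgroup_dvd_card _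
  obtain ⟨j, _, hj⟩ := (Nat.dvd_prime_pow hp).1 hdvd
  refine ⟨j, ?_, ?_, hval⟩
  · have : p ^ a = p ^ (2 * j) := by
      rw [← hcard, hnk, hj, two_mul, pow_add]
    exact Nat.pow_right_injective hp.two_le this
  · calc rg ≤ kp := hrk
      _ ≤ km := hC
      _ = p ^ j := hj

/-- **Bound for invariant alternating forms.**  `F` finite of order `p ^ a`, generated as a ring
by `ω`; a biadditive alternating `ω`-invariant `β` takes values in an additive subgroup of order
at most `p ^ (a / 2)`, trivial for odd `a`. -/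
theorem bound [Finite F] {p a : ℕ} (hp : p.Prime) (hcard : Nat.card F = p ^ a)
    (hgen : Subring.closure {ω} = ⊤) :
    ∃ N : AddSubgroup M, (∀ x y, β x y ∈ N) ∧ Nat.card N ≤ p ^ (a / 2) ∧
      (a % 2 = 1 → N = ⊥) := by
  by_cases hne : ∃ x y, β x y ≠ 0
  · obtain ⟨j, haj, hle, hval⟩ := h.even_of_ne hp hcard hgen hne
    refine ⟨(h.homR 1).range, hval, ?_, ?_⟩
    · have : a / 2 = j := by omega
      rw [this]
      exact hle
    · intro hodd
      omega
  · push Not at hne
    refine ⟨⊥, fun x y => ?_, ?_, fun _ => rfl⟩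
    · rw [hne]
      exact AddSubgroup.zero_mem _
    · rw [AddSubgroup.card_bot]
      exact Nat.one_le_pow _ _ hp.pos

end IsForm

/-- An additive map on a field invariant under multiplication by `ω ≠ 1` vanishes. -/
theorem add_inv_eq_zero {A : Type*} [AddGroup A] {ω : F} (hω1 : ω ≠ 1) {f : F → A}
    (hadd : ∀ x y, f (x + y) = f x + f y) (hf : ∀ x, f (ω * x) = f x) : ∀ x, f x = 0 := by
  let g : F →+ A := AddMonoidHom.mk' f hadd
  have hne : ω - 1 ≠ 0 := sub_ne_zero.mpr hω1
  intro x
  set y := (ω - 1)⁻¹ * x with hy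
  have e : x = ω * y - y := by
    rw [hy]
    field_simp
  have e2 : f x = g (ω * y) - g y := by
    rw [← g.map_sub, ← e]
    rfl
  rw [e2]
  show f (ω * y) - f y = 0
  rw [hf, sub_self]

/-- A "quadratic" map `s` with polarisation `β` and invariant under `ω ≠ 1` takes values in any
subgroup containing the values of `β`. -/
theorem s_mem {ω : F} {β : F → F → M} {s : F → M} (N : AddSubgroup M)
    (hN : ∀ x y, β x y ∈ N) (hs : ∀ x y, s (x + y) = s x + s y + β x y)
    (hsω : ∀ x, s (ω * x) = s x) (hω1 : ω ≠ 1) : ∀ x, s x ∈ N := by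
  intro x
  have key : ∀ x, (QuotientAddGroup.mk' N) (s x) = 0 := by
    refine add_inv_eq_zero hω1 (f := fun x => (QuotientAddGroup.mk' N) (s x)) ?_ ?_
    · intro x y
      show (QuotientAddGroup.mk' N) (s (x + y)) = _
      rw [hs, map_add, map_add]
      have : (QuotientAddGroup.mk' N) (β x y) = 0 :=
        (QuotientAddGroup.eq_zero_iff _).2 (hN x y)
      rw [this, add_zero]
    · intro x
      show (QuotientAddGroup.mk' N) (s (ω * x)) = _
      rw [hsω]
  exact (QuotientAddGroup.eq_zero_iff _).1 (key x)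

section Closure

variable [Finite F]

/-- Fermat in a subring of a finite field. -/
theorem pow_card_sub_one_of_mem_subring (S : Subring F) {x : F} (hx : x ∈ S) (hx0 : x ≠ 0) :
    x ^ (Nat.card S - 1) = 1 := by
  suffices h2 : (⟨x, hx⟩ : S) ^ (Nat.card S - 1) = 1 by
    have := congrArg Subtype.val h2
    simpa using this
  classical
  have : Fintype S := Fintype.ofFinite S
  let _ : Field S := Fintype.fieldOfDomain S
  have h1 := FiniteField.pow_card_sub_one_eq_one (⟨x, hx⟩ : S)
    (fun e => hx0 (congrArg Subtype.val e))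
  rw [← Nat.card_eq_fintype_card] at h1
  exact h1

/-- In a finite field of order `p ^ a`, an element of prime order `q`, where `a` is the order of
`p` modulo `q`, generates the field as a ring. -/
theorem closure_eq_top {p q a : ℕ} (hp : p.Prime) (hcard : Nat.card F = p ^ a) {ω : F}
    (hq : q.Prime) (hω : orderOf ω = q) (ha : orderOf (p : ZMod q) = a) :
    Subring.closure {ω} = ⊤ := by
  set S : Subring F := Subring.closure {ω} with hS
  have hωS : ω ∈ S := Subring.subset_closure (Set.mem_singleton ω)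
  have hdvd : Nat.card S ∣ p ^ a := by
    rw [← hcard]
    exact AddSubgroup.card_addSubgroup_dvd_card S.toAddSubgroup
  obtain ⟨d, hda, hd⟩ := (Nat.dvd_prime_pow hp).1 hdvd
  have hd0 : 0 < d := by
    rcases Nat.eq_zero_or_pos d with rfl | h
    · rw [pow_zero] at hd
      have := Finite.one_lt_card (α := S)
      omega
    · exact h
  have hpow : ω ^ q = 1 := hω ▸ pow_orderOf_eq_one ω
  have hω0 : ω ≠ 0 := by
    rintro rfl
    rw [zero_pow hq.ne_zero] at hpow
    exact zero_ne_one hpow
  have h2 : ω ^ (p ^ d - 1) = 1 := hd ▸ pow_card_sub_one_of_mem_subring S hωS hω0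
  have hqd : q ∣ p ^ d - 1 := hω ▸ orderOf_dvd_of_pow_eq_one h2
  have hpd : (p : ZMod q) ^ d = 1 := by
    have h0 : ((p ^ d - 1 : ℕ) : ZMod q) = 0 := (ZMod.natCast_eq_zero_iff _ _).2 hqd
    rw [Nat.cast_sub (Nat.one_le_pow _ _ hp.pos), Nat.cast_pow, Nat.cast_one, sub_eq_zero] at h0
    exact h0
  have had : a ∣ d := ha ▸ orderOf_dvd_of_pow_eq_one hpd
  have hda' : d = a := le_antisymm hda (Nat.le_of_dvd hd0 had)
  have htop : S.toAddSubgroup = ⊤ := by
    apply AddSubgroup.eq_top_of_card_eq
    rw [hcard, ← hda']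
    exact hd
  rw [eq_top_iff]
  intro x _
  have : x ∈ S.toAddSubgroup := htop ▸ AddSubgroup.mem_top x
  exact this

/-- A finite field of order `p ^ a` with `a` the order of `p` modulo the prime `q` contains an
element of multiplicative order `q`. -/
theorem exists_orderOf_eq {p q a : ℕ} (hq : q.Prime) (hcard : Nat.card F = p ^ a)
    (ha : orderOf (p : ZMod q) = a) : ∃ ω : F, orderOf ω = q := by
  classical
  have : Fact q.Prime := ⟨hq⟩
  have hpa : (p : ZMod q) ^ a = 1 := ha ▸ pow_orderOf_eq_one _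
  have hqd : q ∣ p ^ a - 1 := by
    rw [← ZMod.natCast_eq_zero_iff]
    rcases Nat.eq_zero_or_pos (p ^ a) with h0 | h0
    · rw [h0]; simp
    · rw [Nat.cast_sub h0, Nat.cast_pow, Nat.cast_one, hpa, sub_self]
  have : Fintype Fˣ := Fintype.ofFinite _
  have hcu : Fintype.card Fˣ = p ^ a - 1 := by
    rw [← Nat.card_eq_fintype_card, Nat.card_units, hcard]
  obtain ⟨u, hu⟩ := exists_prime_orderOf_dvd_card q (hcu ▸ hqd)
  exact ⟨u, by rw [orderOf_units, hu]⟩

/-- For distinct primes `p, q`, the residue of `p` has positive order modulo `q`. -/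
theorem orderOf_zmod_pos {p q : ℕ} (hp : p.Prime) (hq : q.Prime) (hpq : p ≠ q) :
    0 < orderOf (p : ZMod q) := by
  have : Fact q.Prime := ⟨hq⟩
  have hco : p.Coprime q := (Nat.coprime_primes hp hq).2 hpq
  have : orderOf ((ZMod.unitOfCoprime p hco : (ZMod q)ˣ) : ZMod q) =
      orderOf (ZMod.unitOfCoprime p hco) := orderOf_units
  rw [ZMod.coe_unitOfCoprime] at this
  rw [this]
  exact orderOf_pos _

/-- **Packaged bound (S4395 step 3).**  `F` finite of order `p ^ a`, `ω ∈ F` of prime order `q`
with `a` the order of `p` modulo `q`; `β` biadditive alternating `ω`-invariant, `s` quadratic with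
polarisation `β` and `ω`-invariant.  All values lie in a subgroup of order `≤ p ^ (a / 2)`,
trivial for odd `a`. -/
theorem bound_of_orderOf {p q a : ℕ} (hp : p.Prime) (hcard : Nat.card F = p ^ a) {ω : F}
    (hq : q.Prime) (hω : orderOf ω = q) (ha : orderOf (p : ZMod q) = a)
    {β : F → F → M} (h : IsForm ω β) {s : F → M}
    (hs : ∀ x y, s (x + y) = s x + s y + β x y) (hsω : ∀ x, s (ω * x) = s x) :
    ∃ N : AddSubgroup M, (∀ x y, β x y ∈ N) ∧ (∀ x, s x ∈ N) ∧ Nat.card N ≤ p ^ (a / 2) ∧
      (a % 2 = 1 → N = ⊥) := by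
  have hgen := closure_eq_top hp hcard hq hω ha
  have hω1 : ω ≠ 1 := by
    rintro rfl
    rw [orderOf_one] at hω
    exact hq.one_lt.ne' hω.symm
  obtain ⟨N, hN, hc, hodd⟩ := h.bound hp hcard hgen
  exact ⟨N, hN, s_mem N hN hs hsω hω1, hc, hodd⟩

end Closure

end Cfsg.Agent.Lib.Helper8.SchmidtForm
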