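import Mathlib

set_option autoImplicit false

namespace Cfsg.Agent.Lib.Helper8.A5In11

open Matrix

abbrev M2 := Matrix (Fin 2) (Fin 2) (ZMod 11)

/-- representatives modulo sign of the 60 elements of a subgroup `A₅` of `PSL₂(11)` -/
def L : List M2 :=
  [!![0, 1; 10, 1],
   !![0, 2; 5, 7],
   !![0, 3; 7, 7],
   !![0, 4; 8, 0],
   !![0, 5; 2, 10],
   !![1, 0; 0, 1],
   !![1, 1; 6, 7],
   !![1, 2; 4, 9],
   !![1, 3; 3, 10],
   !![1, 4; 5, 10],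
   !![1, 5; 2, 0],
   !![1, 6; 10, 6],
   !![1, 7; 8, 2],
   !![1, 8; 9, 7],
   !![1, 9; 7, 9],
   !![1, 10; 1, 0],
   !![2, 0; 1, 6],
   !![2, 1; 6, 9],
   !![2, 2; 4, 10],
   !![2, 3; 5, 8],
   !![2, 4; 3, 1],
   !![2, 5; 0, 6],
   !![2, 6; 8, 8],
   !![2, 7; 10, 8],
   !![2, 8; 9, 9],
   !![2, 9; 7, 10],
   !![2, 10; 2, 5],
   !![3, 0; 3, 4],
   !![3, 1; 1, 8],
   !![3, 2; 6, 8],
   !![3, 3; 5, 9],
   !![3, 4; 0, 4],
   !![3, 5; 9, 8],
   !![3, 6; 8, 9],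
   !![3, 7; 10, 9],
   !![3, 8; 7, 8],
   !![3, 9; 4, 5],
   !![3, 10; 2, 7],
   !![4, 0; 8, 3],
   !![4, 1; 6, 10],
   !![4, 2; 5, 0],
   !![4, 3; 7, 0],
   !![4, 4; 4, 7],
   !![4, 5; 1, 7],
   !![4, 6; 10, 7],
   !![4, 7; 0, 3],
   !![4, 8; 9, 10],
   !![4, 9; 3, 7],
   !![4, 10; 2, 8],
   !![5, 0; 1, 9],
   !![5, 1; 9, 2],
   !![5, 2; 7, 3],
   !![5, 3; 8, 5],
   !![5, 4; 6, 5],
   !![5, 5; 0, 9],
   !![5, 6; 10, 10],
   !![5, 7; 5, 5],
   !![5, 8; 3, 5],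
   !![5, 9; 2, 6],
   !![5, 10; 4, 6]]

/-- membership modulo sign -/
def InL (N : M2) : Prop := N ∈ L ∨ -N ∈ L

instance instDecInL (N : M2) : Decidable (InL N) := by unfold InL; infer_instance

/-- Carmichael generators of `A₅` -/
def Xg : ℕ → M2 := fun i => [!![0, 1; 10, 1], !![1, 3; 3, 10], !![4, 6; 10, 7]].getD i 1

theorem Xg_det (i : ℕ) : (Xg i).det = 1 := by
  by_cases h : i < 3
  · interval_cases i <;> decide +kernel
  · have : Xg i = 1 := by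
      unfold Xg
      rw [List.getD_eq_default]
      simp; omega
    rw [this, det_one]

def XS (i : ℕ) : Matrix.SpecialLinearGroup (Fin 2) (ZMod 11) := ⟨Xg i, Xg_det i⟩

/-- the inverse of a determinant-one 2×2 matrix -/
def inv2 (A : M2) : M2 := !![A 1 1, -A 0 1; -A 1 0, A 0 0]

set_option maxRecDepth 100000 in
theorem L_gen : ∀ i < 3, ∀ n < 60, InL (Xg i * L.getD n 1) ∧ InL (inv2 (Xg i) * L.getD n 1) := by
  decide +kernel

theorem L_one : InL 1 := by decide +kernel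

theorem L_gens : ∀ i < 3, InL (Xg i) := by decide +kernel

/-- words in the generators -/
def evw : List ℕ → M2
  | [] => 1
  | g :: w => Xg g * evw w

def X0 : M2 := !![0, 1; 10, 0]

def words : List (List ℕ) := [[], [0], [2], [0, 0], [0, 2], [1, 0], [1, 2], [2, 0], [0, 1, 0], [0, 0, 1, 0]]

/-- coset representatives: `1`, and `w * X0` for ten words `w` -/
def Wraw (k : ℕ) : M2 := if k = 0 then 1 else evw (words.getD (k - 1) []) * X0

set_option maxRecDepth 100000 in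
theorem W_distinct : ∀ i < 11, ∀ j < 11, i ≠ j → ¬ InL (inv2 (Wraw i) * Wraw j) := by
  decide +kernel

/-- equal to `±1` -/
def IsPM (A : M2) : Prop := A = 1 ∨ A = -1

instance instDecIsPM (A : M2) : Decidable (IsPM A) := by unfold IsPM; infer_instance

set_option maxRecDepth 100000 in
theorem rel : IsPM (Xg 0 ^ 3) ∧ IsPM (Xg 1 ^ 2) ∧ IsPM (Xg 2 ^ 2) ∧ IsPM ((Xg 0 * Xg 1) ^ 3) ∧
    IsPM ((Xg 1 * Xg 2) ^ 3) ∧ IsPM ((Xg 0 * Xg 2) ^ 2) := by
  decide +kernel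

theorem Xg0_not : ¬ IsPM (Xg 0) := by decide +kernel


end Cfsg.Agent.Lib.Helper8.A5In11
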