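import Mathlib

/-!
# The groups `F^(2×k) ⋊ SL₂(F)` (helper8)

`Aff F k` is the group of pairs `(A, B)` with `A ∈ SL₂(F)` and `B` a `2 × k` matrix, with
`(A, B) * (A', B') = (A A', A B' + B)`; it is the semidirect product of `k` copies of the natural
module by `SL₂(F)`.  In characteristic 2 every element `g` over `A` satisfies `g ^ 4 = 1` (when
`tr A = 0`) or has the same order as `A` (when `tr A ≠ 0`).
-/

set_option autoImplicit false

namespace Cfsg.Agent.Lib.Helper8.AffSL2

open Matrix Finset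

/-- pairs `(A, B)`, `A ∈ SL₂(F)`, `B` a `2 × k` matrix -/
@[ext] structure Aff (F : Type*) [CommRing F] (k : ℕ) where
  /-- linear part -/
  A : SpecialLinearGroup (Fin 2) F
  /-- translation part -/
  B : Matrix (Fin 2) (Fin k) F

variable {F : Type*} [CommRing F] {k : ℕ}

instance : Mul (Aff F k) :=
  ⟨fun x y => ⟨x.A * y.A, (x.A : Matrix (Fin 2) (Fin 2) F) * y.B + x.B⟩⟩
instance : One (Aff F k) := ⟨⟨1, 0⟩⟩
instance : Inv (Aff F k) :=
  ⟨fun x => ⟨x.A⁻¹, -(((x.A⁻¹ : SpecialLinearGroup (Fin 2) F) : Matrix (Fin 2) (Fin 2) F) * x.B)⟩⟩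

@[simp] theorem mul_A (x y : Aff F k) : (x * y).A = x.A * y.A := rfl
@[simp] theorem mul_B (x y : Aff F k) :
    (x * y).B = (x.A : Matrix (Fin 2) (Fin 2) F) * y.B + x.B := rfl
@[simp] theorem one_A : (1 : Aff F k).A = 1 := rfl
@[simp] theorem one_B : (1 : Aff F k).B = 0 := rfl
@[simp] theorem inv_A (x : Aff F k) : (x⁻¹).A = x.A⁻¹ := rfl
@[simp] theorem inv_B (x : Aff F k) :
    (x⁻¹).B = -(((x.A⁻¹ : SpecialLinearGroup (Fin 2) F) : Matrix (Fin 2) (Fin 2) F) * x.B) := rfl

instance : Group (Aff F k) :=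
  Group.ofLeftAxioms
    (by
      intro x y z
      apply Aff.ext
      · simp [mul_assoc]
      · simp only [mul_B, mul_A, Matrix.SpecialLinearGroup.coe_mul]
        rw [Matrix.mul_add, Matrix.mul_assoc, add_assoc])
    (by
      intro x
      apply Aff.ext
      · simp
      · simp)
    (by
      intro x
      apply Aff.ext
      · simp
      · simp only [mul_B, inv_A, inv_B, one_B]
        exact add_neg_cancel _)

/-- projection to the linear part -/
def proj : Aff F k →* SpecialLinearGroup (Fin 2) F where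
  toFun := Aff.A
  map_one' := rfl
  map_mul' _ _ := rfl

/-- the complement `SL₂(F)` -/
def incl : SpecialLinearGroup (Fin 2) F →* Aff F k where
  toFun A := ⟨A, 0⟩
  map_one' := rfl
  map_mul' x y := by
    apply Aff.ext
    · rfl
    · simp

theorem incl_injective : Function.Injective (incl : SpecialLinearGroup (Fin 2) F →* Aff F k) := by
  intro x y h
  exact congrArg Aff.A h

@[simp] theorem proj_apply (g : Aff F k) : proj g = g.A := rfl

theorem pow_A (g : Aff F k) (n : ℕ) : (g ^ n).A = g.A ^ n := map_pow proj g n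

theorem pow_B (g : Aff F k) (n : ℕ) :
    (g ^ n).B = (∑ i ∈ range n, (g.A : Matrix (Fin 2) (Fin 2) F) ^ i) * g.B := by
  induction n with
  | zero => simp
  | succ n ih =>
    rw [pow_succ, mul_B, pow_A, ih, Finset.sum_range_succ, Matrix.add_mul, Matrix.SpecialLinearGroup.coe_pow,
      add_comm]

theorem orderOf_A_dvd (g : Aff F k) : orderOf g.A ∣ orderOf g := orderOf_map_dvd proj g

instance [Finite F] : Finite (Aff F k) := by
  have e : Aff F k ≃ SpecialLinearGroup (Fin 2) F × Matrix (Fin 2) (Fin k) F :=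
    { toFun := fun x => (x.A, x.B)
      invFun := fun p => ⟨p.1, p.2⟩
      left_inv := fun _ => rfl
      right_inv := fun _ => rfl }
  exact Finite.of_equiv _ e.symm

section CharTwo

variable {K : Type*} [Field K] [CharP K 2]

theorem two_eq_zero' : (2 : K) = 0 := CharTwo.two_eq_zero

theorem add_self_matrix {m n : Type*} (B : Matrix m n K) : B + B = 0 := by
  ext i j
  simp [CharTwo.add_self_eq_zero]

/-- elements over `A = 1` are involutions -/
theorem sq_eq_one_of_A_eq_one (g : Aff K k) (h : g.A = 1) : g ^ 2 = 1 := by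
  apply Aff.ext
  · rw [pow_A, h, one_pow]
    rfl
  · rw [pow_two, mul_B, h]
    simp only [Matrix.SpecialLinearGroup.coe_one, Matrix.one_mul, one_B]
    exact add_self_matrix _

/-- Cayley–Hamilton for `SL₂` in characteristic 2 -/
theorem cayley (A : SpecialLinearGroup (Fin 2) K) :
    (A : Matrix (Fin 2) (Fin 2) K) * (A : Matrix (Fin 2) (Fin 2) K) =
      (trace (A : Matrix (Fin 2) (Fin 2) K)) • (A : Matrix (Fin 2) (Fin 2) K) + 1 := by
  have hdet : (A : Matrix (Fin 2) (Fin 2) K) 0 0 * (A : Matrix (Fin 2) (Fin 2) K) 1 1 -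
      (A : Matrix (Fin 2) (Fin 2) K) 0 1 * (A : Matrix (Fin 2) (Fin 2) K) 1 0 = 1 := by
    rw [← Matrix.det_fin_two]
    exact A.2
  have h2 : (2 : K) = 0 := two_eq_zero'
  ext i j
  fin_cases i <;> fin_cases j <;>
    simp [Matrix.mul_apply, Fin.sum_univ_two, Matrix.trace_fin_two]
  · linear_combination (-1 : K) * hdet - h2
  · ring
  · ring
  · linear_combination (-1 : K) * hdet - h2

/-- trace zero: `A ^ 2 = 1` -/
theorem sq_eq_one_of_trace_eq_zero (A : SpecialLinearGroup (Fin 2) K)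
    (ht : trace (A : Matrix (Fin 2) (Fin 2) K) = 0) : A ^ 2 = 1 := by
  apply Subtype.ext
  rw [Matrix.SpecialLinearGroup.coe_pow, pow_two, cayley A, ht, zero_smul, zero_add]
  rfl

/-- trace nonzero: `A - 1` is invertible, so the geometric sums over a period vanish -/
theorem geom_sum_eq_zero (A : SpecialLinearGroup (Fin 2) K)
    (ht : trace (A : Matrix (Fin 2) (Fin 2) K) ≠ 0) (m : ℕ) (hm : A ^ m = 1) :
    ∑ i ∈ range m, (A : Matrix (Fin 2) (Fin 2) K) ^ i = 0 := by
  have hdet : (A : Matrix (Fin 2) (Fin 2) K) 0 0 * (A : Matrix (Fin 2) (Fin 2) K) 1 1 -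
      (A : Matrix (Fin 2) (Fin 2) K) 0 1 * (A : Matrix (Fin 2) (Fin 2) K) 1 0 = 1 := by
    rw [← Matrix.det_fin_two]
    exact A.2
  have h2 : (2 : K) = 0 := two_eq_zero'
  have hd : ((A : Matrix (Fin 2) (Fin 2) K) - 1).det = trace (A : Matrix (Fin 2) (Fin 2) K) := by
    rw [Matrix.det_fin_two, Matrix.trace_fin_two]
    simp only [Matrix.sub_apply, Matrix.one_apply_eq, Matrix.one_apply_ne, ne_eq, zero_ne_one,
      not_false_eq_true, one_ne_zero, sub_zero]
    linear_combination hdet + (1 - (A : Matrix (Fin 2) (Fin 2) K) 0 0 - (A : Matrix (Fin 2) (Fin 2) K) 1 1) * h2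
  have hu : IsUnit ((A : Matrix (Fin 2) (Fin 2) K) - 1).det := by
    rw [hd]
    exact isUnit_iff_ne_zero.2 ht
  have h1 : ((A : Matrix (Fin 2) (Fin 2) K) - 1) * ∑ i ∈ range m, (A : Matrix (Fin 2) (Fin 2) K) ^ i = 0 := by
    rw [mul_geom_sum, ← Matrix.SpecialLinearGroup.coe_pow, hm]
    simp
  calc ∑ i ∈ range m, (A : Matrix (Fin 2) (Fin 2) K) ^ i
      = (((A : Matrix (Fin 2) (Fin 2) K) - 1)⁻¹ * ((A : Matrix (Fin 2) (Fin 2) K) - 1)) *
          ∑ i ∈ range m, (A : Matrix (Fin 2) (Fin 2) K) ^ i := by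
        rw [Matrix.nonsing_inv_mul _ hu, Matrix.one_mul]
    _ = 0 := by rw [Matrix.mul_assoc, h1, Matrix.mul_zero]

/-- the order dichotomy -/
theorem pow_four_or_orderOf_eq (g : Aff K k) : g ^ 4 = 1 ∨ orderOf g = orderOf g.A := by
  by_cases ht : trace (g.A : Matrix (Fin 2) (Fin 2) K) = 0
  · left
    have h1 : (g ^ 2).A = 1 := by rw [pow_A]; exact sq_eq_one_of_trace_eq_zero g.A ht
    have h2 := sq_eq_one_of_A_eq_one (g ^ 2) h1
    rw [← pow_mul] at h2
    exact h2
  · right
    apply Nat.dvd_antisymm _ (orderOf_A_dvd g)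
    apply orderOf_dvd_of_pow_eq_one
    apply Aff.ext
    · rw [pow_A, pow_orderOf_eq_one]
      rfl
    · rw [pow_B, geom_sum_eq_zero g.A ht _ (pow_orderOf_eq_one g.A), Matrix.zero_mul]
      rfl

theorem pow_four_of_trace_eq_zero (g : Aff K k)
    (ht : trace (g.A : Matrix (Fin 2) (Fin 2) K) = 0) : g ^ 4 = 1 := by
  have h1 : (g ^ 2).A = 1 := by rw [pow_A]; exact sq_eq_one_of_trace_eq_zero g.A ht
  have h2 := sq_eq_one_of_A_eq_one (g ^ 2) h1
  rw [← pow_mul] at h2
  exact h2

theorem orderOf_eq_of_trace_ne_zero (g : Aff K k)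
    (ht : trace (g.A : Matrix (Fin 2) (Fin 2) K) ≠ 0) : orderOf g = orderOf g.A := by
  rcases pow_four_or_orderOf_eq g with h | h
  · -- then A^4 = 1, fine but we redo the argument directly
    apply Nat.dvd_antisymm _ (orderOf_A_dvd g)
    apply orderOf_dvd_of_pow_eq_one
    apply Aff.ext
    · rw [pow_A, pow_orderOf_eq_one]
      rfl
    · rw [pow_B, geom_sum_eq_zero g.A ht _ (pow_orderOf_eq_one g.A), Matrix.zero_mul]
      rfl
  · exact h

/-- the centre of `SL₂(K)` is trivial in characteristic 2 -/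
theorem center_eq_bot : Subgroup.center (SpecialLinearGroup (Fin 2) K) = ⊥ := by
  rw [eq_bot_iff]
  intro A hA
  rw [Matrix.SpecialLinearGroup.mem_center_iff] at hA
  obtain ⟨r, hr, hrA⟩ := hA
  rw [Fintype.card_fin] at hr
  have h2 : (2 : K) = 0 := two_eq_zero'
  have h1 : (r - 1) ^ 2 = 0 := by linear_combination hr - (r - 1) * h2
  have hr1 : r = 1 := by
    have := pow_eq_zero_iff (two_ne_zero) |>.1 h1
    exact sub_eq_zero.1 this
  rw [Subgroup.mem_bot]
  apply Subtype.ext
  rw [← hrA, hr1]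
  simp

/-- `PSL₂(K) ≃* SL₂(K)` in characteristic 2 -/
noncomputable def pslEquiv : Matrix.ProjectiveSpecialLinearGroup (Fin 2) K ≃* SpecialLinearGroup (Fin 2) K :=
  (QuotientGroup.quotientMulEquivOfEq center_eq_bot).trans QuotientGroup.quotientBot

/-- the unipotent involution -/
def unip : SpecialLinearGroup (Fin 2) K := ⟨!![1, 1; 0, 1], by simp [Matrix.det_fin_two]⟩

theorem orderOf_unip : orderOf (unip : SpecialLinearGroup (Fin 2) K) = 2 := by
  have h2 : Fact (Nat.Prime 2) := ⟨Nat.prime_two⟩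
  apply orderOf_eq_prime
  · apply sq_eq_one_of_trace_eq_zero
    rw [Matrix.trace_fin_two]
    show (1 : K) + 1 = 0
    rw [one_add_one_eq_two]
    exact two_eq_zero'
  · intro h
    have := congrArg (fun A : SpecialLinearGroup (Fin 2) K => (A : Matrix (Fin 2) (Fin 2) K) 0 1) h
    simp [unip] at this

/-- the primes dividing `|K^(2k) ⋊ SL₂(K)|` are those dividing `|SL₂(K)|` -/
theorem prime_dvd_card_iff [Finite K] (p : ℕ) (hp : p.Prime) :
    p ∣ Nat.card (SpecialLinearGroup (Fin 2) K) ↔ p ∣ Nat.card (Aff K k) := by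
  have hfp : Fact p.Prime := ⟨hp⟩
  constructor
  · intro h
    obtain ⟨A, hA⟩ := exists_prime_orderOf_dvd_card' p h
    rw [← hA, ← orderOf_injective (incl : _ →* Aff K k) incl_injective A]
    exact orderOf_dvd_natCard _
  · intro h
    obtain ⟨g, hg⟩ := exists_prime_orderOf_dvd_card' p h
    rcases pow_four_or_orderOf_eq g with h4 | h4
    · have h1 : p ∣ 4 := hg ▸ orderOf_dvd_of_pow_eq_one h4
      have h2 : p ∣ 2 := hp.dvd_of_dvd_pow (n := 2) (by norm_num; exact h1)
      have hp2 : p = 2 := (Nat.prime_dvd_prime_iff_eq hp Nat.prime_two).1 h2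
      have h3 : orderOf (unip : SpecialLinearGroup (Fin 2) K) ∣
          Nat.card (SpecialLinearGroup (Fin 2) K) := orderOf_dvd_natCard _
      rw [orderOf_unip] at h3
      rw [hp2]
      exact h3
    · rw [← hg, h4]
      exact orderOf_dvd_natCard _

/-- elements of order `p * q` (distinct primes) exist in `K^(2k) ⋊ SL₂(K)` iff they exist in `SL₂(K)` -/
theorem exists_orderOf_mul_iff (p q : ℕ) (hp : p.Prime) (hq : q.Prime) (hpq : p ≠ q) :
    (∃ A : SpecialLinearGroup (Fin 2) K, orderOf A = p * q) ↔ (∃ g : Aff K k, orderOf g = p * q) := by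
  constructor
  · rintro ⟨A, hA⟩
    exact ⟨incl A, by rw [orderOf_injective (incl : _ →* Aff K k) incl_injective A, hA]⟩
  · rintro ⟨g, hg⟩
    rcases pow_four_or_orderOf_eq g with h4 | h4
    · exfalso
      have h1 : p * q ∣ 4 := hg ▸ orderOf_dvd_of_pow_eq_one h4
      have hp2 : p = 2 := by
        have h2 : p ∣ 2 := hp.dvd_of_dvd_pow (n := 2) (by norm_num; exact (dvd_mul_right p q).trans h1)
        exact (Nat.prime_dvd_prime_iff_eq hp Nat.prime_two).1 h2
      have hq2 : q = 2 := by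
        have h2 : q ∣ 2 := hq.dvd_of_dvd_pow (n := 2) (by norm_num; exact (dvd_mul_left q p).trans h1)
        exact (Nat.prime_dvd_prime_iff_eq hq Nat.prime_two).1 h2
      exact hpq (hp2.trans hq2.symm)
    · exact ⟨g.A, by rw [← h4, hg]⟩

omit [CharP K 2] in
/-- the groups `K^(2k) ⋊ SL₂(K)` get arbitrarily large -/
theorem lt_card [Finite K] (k : ℕ) : k < Nat.card (Aff K k) := by
  have hinj : Function.Injective (fun v : Fin k → K => (⟨1, Matrix.of fun _ j => v j⟩ : Aff K k)) := by
    intro v w h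
    have h1 := congrArg Aff.B h
    funext j
    have := congrFun (congrFun h1 0) j
    simpa using this
  have h1 := Nat.card_le_card_of_injective _ hinj
  have h2 : Nat.card (Fin k → K) = Nat.card K ^ k := by
    rw [Nat.card_fun, Nat.card_fin]
  have h3 : 2 ≤ Nat.card K := by
    have : Nontrivial K := inferInstance
    exact Finite.one_lt_card
  calc k < 2 ^ k := Nat.lt_two_pow_self
    _ ≤ Nat.card K ^ k := Nat.pow_le_pow_left h3 k
    _ = Nat.card (Fin k → K) := h2.symm
    _ ≤ _ := h1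

end CharTwo

end Cfsg.Agent.Lib.Helper8.AffSL2
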