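import Mathlib
import Cfsg.Agent.Lib.Helper8.AffSL2

/-!
# `F₄² ⋊ SL₂(4)` and `A₆` have the same element orders (helper8)
-/

set_option autoImplicit false

namespace Cfsg.Agent.Lib.Helper8.AffSL2

open Matrix Finset

section Lin

variable {K : Type*} [Field K] (M : Matrix (Fin 2) (Fin 2) K) (t : K)

/-- `x • M + y • 1` -/
def lin (x y : K) : Matrix (Fin 2) (Fin 2) K := x • M + y • (1 : Matrix (Fin 2) (Fin 2) K)

theorem lin_mul (hCH : M * M = t • M + 1) (x y x' y' : K) :
    lin M x y * lin M x' y' = lin M (x * x' * t + x * y' + y * x') (x * x' + y * y') := by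
  unfold lin
  simp only [add_mul, mul_add, smul_mul_assoc, mul_smul_comm, Matrix.mul_one, Matrix.one_mul, hCH,
    smul_add, smul_smul]
  module

theorem lin_one_zero : lin M 1 0 = M := by
  unfold lin
  simp

theorem lin_zero_one : lin M 0 1 = 1 := by
  unfold lin
  simp

theorem pow_two_lin (hCH : M * M = t • M + 1) : M ^ 2 = lin M t 1 := by
  rw [pow_two, hCH]
  unfold lin
  simp

theorem pow_three_lin (hCH : M * M = t • M + 1) : M ^ 3 = lin M (t * t + 1) t := by
  rw [pow_succ, pow_two_lin M t hCH]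
  nth_rewrite 2 [← lin_one_zero M]
  rw [lin_mul M t hCH]
  congr 1 <;> ring

theorem pow_five_lin (hCH : M * M = t • M + 1) :
    M ^ 5 = lin M (t ^ 4 + 3 * t ^ 2 + 1) (t ^ 3 + 2 * t) := by
  rw [show 5 = 2 + 3 by norm_num, pow_add, pow_two_lin M t hCH, pow_three_lin M t hCH,
    lin_mul M t hCH]
  congr 1 <;> ring

end Lin

section Four

variable {K : Type*} [Field K] [CharP K 2] {k : ℕ}

theorem pow_three_eq_one (A : SpecialLinearGroup (Fin 2) K)
    (ht : trace (A : Matrix (Fin 2) (Fin 2) K) = 1) : A ^ 3 = 1 := by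
  apply Subtype.ext
  rw [Matrix.SpecialLinearGroup.coe_pow, pow_three_lin _ _ (cayley A), ht]
  have h : (1 : K) * 1 + 1 = 0 := by
    rw [one_mul, one_add_one_eq_two]
    exact two_eq_zero'
  rw [h, lin_zero_one]
  rfl

theorem pow_five_eq_one (A : SpecialLinearGroup (Fin 2) K)
    (ht : trace (A : Matrix (Fin 2) (Fin 2) K) ^ 2 + trace (A : Matrix (Fin 2) (Fin 2) K) + 1 = 0) :
    A ^ 5 = 1 := by
  apply Subtype.ext
  rw [Matrix.SpecialLinearGroup.coe_pow, pow_five_lin _ _ (cayley A)]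
  have h2 : (2 : K) = 0 := two_eq_zero'
  obtain ⟨t, htdef⟩ : ∃ t, t = trace (A : Matrix (Fin 2) (Fin 2) K) := ⟨_, rfl⟩
  rw [← htdef] at ht ⊢
  have hx : t ^ 4 + 3 * t ^ 2 + 1 = 0 := by linear_combination (t ^ 2 - t + 1) * ht + t ^ 2 * h2
  have hy : t ^ 3 + 2 * t = 1 := by linear_combination (t - 1) * ht + t * h2
  rw [hx, hy, lin_zero_one]
  rfl

omit [CharP K 2] in
theorem trichotomy (t : K) (h4 : t ^ 4 = t) : t = 0 ∨ t = 1 ∨ t ^ 2 + t + 1 = 0 := by
  have h : t * ((t - 1) * (t ^ 2 + t + 1)) = 0 := by linear_combination h4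
  rcases mul_eq_zero.1 h with h | h
  · exact Or.inl h
  · rcases mul_eq_zero.1 h with h | h
    · exact Or.inr (Or.inl (sub_eq_zero.1 h))
    · exact Or.inr (Or.inr h)

/-- every element of `K^(2k) ⋊ SL₂(K)`, `|K| = 4`, has order 1, 2, 3, 4 or 5 -/
theorem orderOf_mem (hK : ∀ t : K, t ^ 4 = t) (g : Aff K k) :
    orderOf g ∈ ({1, 2, 3, 4, 5} : Set ℕ) := by
  simp only [Set.mem_insert_iff, Set.mem_singleton_iff]
  rcases trichotomy _ (hK (trace (g.A : Matrix (Fin 2) (Fin 2) K))) with ht | ht | ht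
  · have h4 := pow_four_of_trace_eq_zero g ht
    have hd : orderOf g ∣ 2 ^ 2 := orderOf_dvd_of_pow_eq_one h4
    obtain ⟨m, hm, hmo⟩ := (Nat.dvd_prime_pow Nat.prime_two).1 hd
    interval_cases m
    · left; exact hmo
    · right; left; exact hmo
    · right; right; right; left; exact hmo
  · have hne : trace (g.A : Matrix (Fin 2) (Fin 2) K) ≠ 0 := by rw [ht]; exact one_ne_zero
    rw [orderOf_eq_of_trace_ne_zero g hne]
    have hd : orderOf g.A ∣ 3 := orderOf_dvd_of_pow_eq_one (pow_three_eq_one g.A ht)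
    rcases (Nat.dvd_prime Nat.prime_three).1 hd with h | h
    · left; exact h
    · right; right; left; exact h
  · have hne : trace (g.A : Matrix (Fin 2) (Fin 2) K) ≠ 0 := by
      intro h0
      rw [h0] at ht
      simp at ht
    rw [orderOf_eq_of_trace_ne_zero g hne]
    have hd : orderOf g.A ∣ 5 := orderOf_dvd_of_pow_eq_one (pow_five_eq_one g.A ht)
    rcases (Nat.dvd_prime Nat.prime_five).1 hd with h | h
    · left; exact h
    · right; right; right; right; exact h

theorem neg_one_eq_one : (-1 : K) = 1 := by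
  have h2 : (2 : K) = 0 := two_eq_zero'
  linear_combination (-1 : K) * h2

/-- an element of order 3 -/
def elt3 : SpecialLinearGroup (Fin 2) K :=
  ⟨!![0, 1; 1, 1], by rw [Matrix.det_fin_two]; simp [neg_one_eq_one]⟩

theorem orderOf_elt3 : orderOf (elt3 : SpecialLinearGroup (Fin 2) K) = 3 := by
  have h3 : Fact (Nat.Prime 3) := ⟨Nat.prime_three⟩
  apply orderOf_eq_prime
  · apply pow_three_eq_one
    rw [Matrix.trace_fin_two]
    show (0 : K) + 1 = 1
    rw [zero_add]
  · intro h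
    have := congrArg (fun A : SpecialLinearGroup (Fin 2) K => (A : Matrix (Fin 2) (Fin 2) K) 0 1) h
    simp [elt3] at this

/-- an element of order 5, given a primitive cube root of unity -/
def elt5 (ω : K) : SpecialLinearGroup (Fin 2) K :=
  ⟨!![0, 1; 1, ω], by rw [Matrix.det_fin_two]; simp [neg_one_eq_one]⟩

theorem orderOf_elt5 (ω : K) (hω : ω ^ 2 + ω + 1 = 0) : orderOf (elt5 ω) = 5 := by
  have h5 : Fact (Nat.Prime 5) := ⟨Nat.prime_five⟩
  apply orderOf_eq_prime
  · apply pow_five_eq_one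
    rw [Matrix.trace_fin_two]
    show ((0 : K) + ω) ^ 2 + ((0 : K) + ω) + 1 = 0
    rw [zero_add]
    exact hω
  · intro h
    have := congrArg (fun A : SpecialLinearGroup (Fin 2) K => (A : Matrix (Fin 2) (Fin 2) K) 0 1) h
    simp [elt5] at this

/-- an element of order 4 -/
def elt4 (k : ℕ) : Aff K k := ⟨unip, Matrix.of fun i _ => if i = 1 then 1 else 0⟩

theorem orderOf_elt4 (hk : 1 ≤ k) : orderOf (elt4 k : Aff K k) = 4 := by
  have h2 : Fact (Nat.Prime 2) := ⟨Nat.prime_two⟩
  have : (4 : ℕ) = 2 ^ (1 + 1) := by norm_num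
  rw [this]
  apply orderOf_eq_prime_pow
  · intro h
    have h1 := congrArg Aff.B h
    rw [pow_one, pow_B] at h1
    have h3 := congrFun (congrFun h1 0) ⟨0, hk⟩
    simp [elt4, unip, Finset.sum_range_succ, Matrix.mul_apply, Matrix.add_apply] at h3
  · apply pow_four_of_trace_eq_zero
    show trace ((unip : SpecialLinearGroup (Fin 2) K) : Matrix (Fin 2) (Fin 2) K) = 0
    rw [Matrix.trace_fin_two]
    show (1 : K) + 1 = 0
    rw [one_add_one_eq_two]
    exact two_eq_zero'

/-- the spectrum of `K^(2k) ⋊ SL₂(K)`, `|K| = 4`, `k ≥ 1` -/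
theorem range_orderOf (hK : ∀ t : K, t ^ 4 = t) (ω : K) (hω : ω ^ 2 + ω + 1 = 0) (hk : 1 ≤ k) :
    Set.range (orderOf : Aff K k → ℕ) = {1, 2, 3, 4, 5} := by
  apply Set.Subset.antisymm
  · rintro _ ⟨g, rfl⟩
    exact orderOf_mem hK g
  · intro n hn
    simp only [Set.mem_insert_iff, Set.mem_singleton_iff] at hn
    rcases hn with rfl | rfl | rfl | rfl | rfl
    · exact ⟨1, orderOf_one⟩
    · exact ⟨incl unip, by rw [orderOf_injective (incl : _ →* Aff K k) incl_injective, orderOf_unip]⟩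
    · exact ⟨incl elt3, by rw [orderOf_injective (incl : _ →* Aff K k) incl_injective, orderOf_elt3]⟩
    · exact ⟨elt4 k, orderOf_elt4 hk⟩
    · exact ⟨incl (elt5 ω), by
        rw [orderOf_injective (incl : _ →* Aff K k) incl_injective, orderOf_elt5 ω hω]⟩

end Four

section A6

theorem a6_pow : ∀ σ : Equiv.Perm (Fin 6), Equiv.Perm.sign σ = 1 →
    σ ^ 4 = 1 ∨ σ ^ 3 = 1 ∨ σ ^ 5 = 1 := by
  decide +kernel

/-- the spectrum of `A₆` -/
theorem range_orderOf_a6 :
    Set.range (orderOf : alternatingGroup (Fin 6) → ℕ) = {1, 2, 3, 4, 5} := by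
  apply Set.Subset.antisymm
  · rintro _ ⟨σ, rfl⟩
    simp only [Set.mem_insert_iff, Set.mem_singleton_iff]
    rw [← Subgroup.orderOf_coe]
    rcases a6_pow σ.1 (Equiv.Perm.mem_alternatingGroup.1 σ.2) with h | h | h
    · have hd : orderOf σ.1 ∣ 2 ^ 2 := orderOf_dvd_of_pow_eq_one h
      obtain ⟨m, hm, hmo⟩ := (Nat.dvd_prime_pow Nat.prime_two).1 hd
      interval_cases m
      · left; exact hmo
      · right; left; exact hmo
      · right; right; right; left; exact hmo
    · have hd : orderOf σ.1 ∣ 3 := orderOf_dvd_of_pow_eq_one h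
      rcases (Nat.dvd_prime Nat.prime_three).1 hd with h | h
      · left; exact h
      · right; right; left; exact h
    · have hd : orderOf σ.1 ∣ 5 := orderOf_dvd_of_pow_eq_one h
      rcases (Nat.dvd_prime Nat.prime_five).1 hd with h | h
      · left; exact h
      · right; right; right; right; exact h
  · intro n hn
    simp only [Set.mem_insert_iff, Set.mem_singleton_iff] at hn
    have h2 : Fact (Nat.Prime 2) := ⟨Nat.prime_two⟩
    have h3 : Fact (Nat.Prime 3) := ⟨Nat.prime_three⟩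
    have h5 : Fact (Nat.Prime 5) := ⟨Nat.prime_five⟩
    rcases hn with rfl | rfl | rfl | rfl | rfl
    · exact ⟨1, orderOf_one⟩
    · refine ⟨⟨Equiv.swap (0 : Fin 6) 1 * Equiv.swap 2 3, Equiv.Perm.mem_alternatingGroup.2 (by decide)⟩, ?_⟩
      rw [← Subgroup.orderOf_coe]
      exact orderOf_eq_prime (by decide) (by decide)
    · refine ⟨⟨Equiv.swap (0 : Fin 6) 1 * Equiv.swap 1 2, Equiv.Perm.mem_alternatingGroup.2 (by decide)⟩, ?_⟩
      rw [← Subgroup.orderOf_coe]
      exact orderOf_eq_prime (by decide) (by decide)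
    · refine ⟨⟨Equiv.swap (0 : Fin 6) 1 * Equiv.swap 1 2 * Equiv.swap 2 3 * Equiv.swap 4 5,
        Equiv.Perm.mem_alternatingGroup.2 (by decide)⟩, ?_⟩
      rw [← Subgroup.orderOf_coe]
      have : (4 : ℕ) = 2 ^ (1 + 1) := by norm_num
      rw [this]
      exact orderOf_eq_prime_pow (by decide) (by decide)
    · refine ⟨⟨Equiv.swap (0 : Fin 6) 1 * Equiv.swap 1 2 * Equiv.swap 2 3 * Equiv.swap 3 4,
        Equiv.Perm.mem_alternatingGroup.2 (by decide)⟩, ?_⟩
      rw [← Subgroup.orderOf_coe]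
      exact orderOf_eq_prime (by decide) (by decide)

end A6

end Cfsg.Agent.Lib.Helper8.AffSL2
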