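import Mathlib

/-!
Helper lemmas on affine maps of vector spaces (used for 3-closure statements on affine groups).
-/

set_option autoImplicit false

namespace Cfsg.Agent.Lib.Helper8.Affine

/-- Two linearly independent families with the same index type in a finite-dimensional space are
related by a linear automorphism. -/
theorem exists_linearEquiv_of_linearIndependent {K V ι : Type*} [Field K] [AddCommGroup V]
    [Module K V] [FiniteDimensional K V] (u v : ι → V) (hu : LinearIndependent K u)
    (hv : LinearIndependent K v) : ∃ A : V ≃ₗ[K] V, ∀ i, A (u i) = v i := by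
  let f : Submodule.span K (Set.range u) ≃ₗ[K] Submodule.span K (Set.range v) :=
    hu.linearCombinationEquiv.symm ≪≫ₗ hv.linearCombinationEquiv
  obtain ⟨g, hg⟩ := Submodule.exists_linearEquiv_restrict_eq f
  refine ⟨g, fun i => ?_⟩
  have hx : u i ∈ Submodule.span K (Set.range u) := Submodule.subset_span (Set.mem_range_self i)
  have := hg ⟨u i, hx⟩
  rw [← this]
  show ((hv.linearCombinationEquiv (hu.linearCombinationEquiv.symm ⟨u i, hx⟩) :
    Submodule.span K (Set.range v)) : V) = v i
  have h1 : hu.linearCombinationEquiv.symm ⟨u i, hx⟩ = Finsupp.single i 1 :=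
    hu.repr_eq_single i ⟨u i, hx⟩ rfl
  rw [h1, LinearIndependent.linearCombinationEquiv_apply_coe]
  simp

/-- A permutation of a vector space (2 invertible) preserving all affine combinations of two points
is affine. -/
theorem affine_of_combo {K V : Type*} [Field K] [AddCommGroup V] [Module K V] (h2 : (2 : K) ≠ 0)
    (σ : Equiv.Perm V)
    (h : ∀ (x y : V) (c : K), σ ((1 - c) • x + c • y) = (1 - c) • σ x + c • σ y) :
    ∃ (A : V ≃ₗ[K] V) (b : V), ∀ x, σ x = A x + b := by
  set τ : V → V := fun x => σ x - σ 0 with hτ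
  have hsmul : ∀ (c : K) (y : V), τ (c • y) = c • τ y := by
    intro c y
    have := h 0 y c
    simp only [smul_zero, zero_add] at this
    simp only [hτ, this, smul_sub, sub_smul, one_smul]
    abel
  have hadd : ∀ x y : V, τ (x + y) = τ x + τ y := by
    intro x y
    have h1 := h x y (1 / 2)
    have e : (1 : K) - 1 / 2 = 1 / 2 := by field_simp; norm_num
    rw [e, ← smul_add, ← smul_add] at h1
    have h3 : τ ((1 / 2 : K) • (x + y)) = (1 / 2 : K) • (τ x + τ y) := by
      show σ ((1 / 2 : K) • (x + y)) - σ 0 = (1 / 2 : K) • ((σ x - σ 0) + (σ y - σ 0))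
      rw [h1]
      have ha : (1 / 2 : K) + 1 / 2 = 1 := by field_simp; norm_num
      have e0 : σ 0 = (1 / 2 : K) • σ 0 + (1 / 2 : K) • σ 0 := by
        rw [← add_smul, ha, one_smul]
      rw [smul_add, smul_add, smul_sub, smul_sub]
      conv_lhs => rw [e0]
      abel
    rw [hsmul] at h3
    have hinj : Function.Injective (fun v : V => (1 / 2 : K) • v) :=
      smul_right_injective V (by simpa using h2)
    exact hinj h3
  have hbij : Function.Bijective τ := by
    constructor
    · intro x y hxy
      simp only [hτ, sub_left_inj] at hxy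
      exact σ.injective hxy
    · intro y
      obtain ⟨x, hx⟩ := σ.surjective (y + σ 0)
      exact ⟨x, by simp [hτ, hx]⟩
  let L : V →ₗ[K] V :=
    { toFun := τ
      map_add' := hadd
      map_smul' := by intro c x; simp only [RingHom.id_apply]; exact hsmul c x }
  refine ⟨LinearEquiv.ofBijective L hbij, σ 0, fun x => ?_⟩
  show σ x = τ x + σ 0
  simp [hτ]

/-- If `σ` agrees on every triple with some affine map, then `σ` preserves affine combinations of
two points. -/
theorem combo_of_triples {K V : Type*} [Field K] [AddCommGroup V] [Module K V]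
    (σ : V → V)
    (h : ∀ t : Fin 3 → V, ∃ (A : V →ₗ[K] V) (b : V), ∀ i, σ (t i) = A (t i) + b)
    (x y : V) (c : K) : σ ((1 - c) • x + c • y) = (1 - c) • σ x + c • σ y := by
  obtain ⟨A, b, hA⟩ := h ![x, y, (1 - c) • x + c • y]
  have h0 := hA 0
  have h1 := hA 1
  have h2 := hA 2
  simp only [Matrix.cons_val_zero, Matrix.cons_val_one] at h0 h1
  have h2' : σ ((1 - c) • x + c • y) = A ((1 - c) • x + c • y) + b := h2
  rw [h2', h0, h1, map_add, map_smul, map_smul]
  module

/-- Over a field, a linear automorphism can be modified off a proper subspace to have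
determinant one. -/
theorem exists_det_one_agree {K V : Type*} [Field K] [AddCommGroup V] [Module K V]
    [FiniteDimensional K V] (A : V ≃ₗ[K] V) (W : Submodule K V) (hW : W ≠ ⊤) :
    ∃ A' : V ≃ₗ[K] V, LinearMap.det (A' : V →ₗ[K] V) = 1 ∧ ∀ w ∈ W, A' w = A w := by
  obtain ⟨e, he⟩ : ∃ e : V, e ∉ W := by
    by_contra hcon
    simp only [not_exists, not_not] at hcon
    exact hW (eq_top_iff.mpr fun x _ => hcon x)
  obtain ⟨f, hfe, hfW⟩ := Submodule.exists_dual_map_eq_bot_of_notMem he inferInstance
  have hfW' : ∀ w ∈ W, f w = 0 := by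
    intro w hw
    have : f w ∈ W.map f := Submodule.mem_map_of_mem hw
    rw [hfW] at this
    simpa using this
  have hdet : LinearMap.det (A : V →ₗ[K] V) ≠ 0 := by
    rw [← LinearEquiv.coe_det]
    exact Units.ne_zero _
  set c : K := (LinearMap.det (A : V →ₗ[K] V))⁻¹ with hc
  have hc0 : c ≠ 0 := inv_ne_zero hdet
  set v : V := ((c - 1) / f e) • e with hv
  have hfv : f v = c - 1 := by
    rw [hv, map_smul, smul_eq_mul, div_mul_cancel₀ _ hfe]
  have hunit : IsUnit (1 + f v) := by
    rw [hfv]; simpa using hc0
  let D : V ≃ₗ[K] V := LinearEquiv.dilatransvection hunit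
  refine ⟨D.trans A, ?_, ?_⟩
  · have : ((D.trans A : V ≃ₗ[K] V) : V →ₗ[K] V) = (A : V →ₗ[K] V) ∘ₗ (D : V →ₗ[K] V) := rfl
    rw [this, LinearMap.det_comp]
    have hD : LinearMap.det (D : V →ₗ[K] V) = c := by
      show LinearMap.det ((LinearEquiv.dilatransvection hunit : V ≃ₗ[K] V) : V →ₗ[K] V) = c
      rw [LinearEquiv.dilatransvection.coe_toLinearMap, LinearMap.transvection.det, hfv]
      ring
    rw [hD, hc]
    exact mul_inv_cancel₀ hdet
  · intro w hw
    show A (D w) = A w
    congr 1
    show LinearEquiv.dilatransvection hunit w = w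
    rw [LinearEquiv.dilatransvection.apply, hfW' w hw, zero_smul, add_zero]

end Cfsg.Agent.Lib.Helper8.Affine
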