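import Mathlib

/-!
# Finite checks in the alternating and symmetric groups of degree six

The first statements here are closed decidable statements about permutations of `Fin 6`,
checked by kernel evaluation; `tuple_match` assembles them.
-/

set_option autoImplicit false

namespace Cfsg.Agent.Lib.Helper8.AltSixExt

open Equiv Equiv.Perm

/-- the three-cycle `(0 1 i)` -/
def gc (i : Fin 6) : Perm (Fin 6) := swap 0 1 * swap 1 i

/-- a fixed double three-cycle -/
def rho0 : Perm (Fin 6) := swap 0 1 * swap 1 2 * (swap 3 4 * swap 4 5)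

/-- the nine letters: the identity and the `gc i` and their inverses -/
def letters : List (Perm (Fin 6)) :=
  [1, gc 2, gc 3, gc 4, gc 5, (gc 2)⁻¹, (gc 3)⁻¹, (gc 4)⁻¹, (gc 5)⁻¹]

set_option maxRecDepth 100000 in
theorem ord3_dichotomy : ∀ σ : alternatingGroup (Fin 6), σ ^ 3 = 1 → σ ≠ 1 →
    (σ : Perm (Fin 6)).support.card = 3 ∨ (σ : Perm (Fin 6)).support.card = 6 := by
  decide +kernel

set_option maxRecDepth 100000 in
theorem dbl_conj : ∀ σ : alternatingGroup (Fin 6), σ ^ 3 = 1 →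
    (σ : Perm (Fin 6)).support.card = 6 →
    ∃ g : alternatingGroup (Fin 6), (σ : Perm (Fin 6)) = g * rho0 * g⁻¹ := by
  decide +kernel

set_option maxRecDepth 100000 in
set_option synthInstance.maxHeartbeats 1000000 in
set_option synthInstance.maxSize 4000 in
theorem match3 : ∀ h : Perm (Fin 6), h.support.card = 3 → (gc 2 * h) ^ 2 = 1 → gc 2 * h ≠ 1 →
    ∃ π : Perm (Fin 6), π * gc 2 = gc 2 * π ∧ π * gc 3 = h * π := by
  decide +kernel

set_option maxRecDepth 100000 in
set_option synthInstance.maxHeartbeats 1000000 in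
set_option synthInstance.maxSize 4000 in
theorem two_choices : ∀ h : Perm (Fin 6), h.support.card = 3 → (gc 2 * h) ^ 2 = 1 →
    (gc 3 * h) ^ 2 = 1 → h = gc 4 ∨ h = gc 5 := by
  decide +kernel

theorem swap45_facts : swap (4 : Fin 6) 5 * gc 2 = gc 2 * swap (4 : Fin 6) 5 ∧
    swap (4 : Fin 6) 5 * gc 3 = gc 3 * swap (4 : Fin 6) 5 ∧
    swap (4 : Fin 6) 5 * gc 4 = gc 5 * swap (4 : Fin 6) 5 ∧
    swap (4 : Fin 6) 5 * gc 5 = gc 4 * swap (4 : Fin 6) 5 ∧
    (gc 4 * gc 4) ^ 2 ≠ 1 ∧ (gc 5 * gc 5) ^ 2 ≠ 1 := by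
  decide +kernel

set_option maxRecDepth 100000 in
set_option synthInstance.maxHeartbeats 1000000 in
set_option synthInstance.maxSize 4000 in
theorem three_cycle_word : ∀ σ : Perm (Fin 6), σ.support.card = 3 →
    ∃ x ∈ letters, ∃ y ∈ letters, ∃ z ∈ letters, ∃ w ∈ letters, σ = x * y * z * w := by
  decide +kernel

set_option maxRecDepth 100000 in
set_option synthInstance.maxHeartbeats 1000000 in
set_option synthInstance.maxSize 4000 in
theorem cent_trivial : ∀ π : Perm (Fin 6), π * gc 2 = gc 2 * π → π * gc 3 = gc 3 * π →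
    π * gc 4 = gc 4 * π → π * gc 5 = gc 5 * π → π = 1 := by
  decide +kernel

set_option maxRecDepth 100000 in
set_option synthInstance.maxHeartbeats 1000000 in
set_option synthInstance.maxSize 4000 in
theorem no_ord3_cent : ∀ g : alternatingGroup (Fin 6), g ^ 2 = 1 → g ≠ 1 →
    ∀ y : alternatingGroup (Fin 6), y ^ 3 = 1 → y * g = g * y → y = 1 := by
  decide +kernel

theorem gc_support : ∀ i : Fin 6, 2 ≤ i → (gc i).support.card = 3 := by
  decide +kernel

theorem gc_mul_sq : ∀ i : Fin 6, 2 ≤ i → ∀ j : Fin 6, 2 ≤ j → i ≠ j →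
    (gc i * gc j) ^ 2 = 1 ∧ gc i * gc j ≠ 1 := by
  decide +kernel

theorem gc_mem (i : Fin 6) (hi : 2 ≤ i) : gc i ∈ alternatingGroup (Fin 6) :=
  (card_support_eq_three_iff.mp (gc_support i hi)).mem_alternatingGroup

end Cfsg.Agent.Lib.Helper8.AltSixExt
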