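import Mathlib
import Cfsg.Agent.Lib.Helper8.AltSixExtA

/-!
# Simultaneous conjugacy of four three-cycles in the symmetric group of degree six
-/

set_option autoImplicit false

namespace Cfsg.Agent.Lib.Helper8.AltSixExt

open Equiv Equiv.Perm

theorem conj_card (π h : Perm (Fin 6)) : (π⁻¹ * h * π).support.card = h.support.card := by
  have := card_support_conj (σ := π⁻¹) (τ := h)
  rwa [inv_inv] at this

theorem conj_sq (π a b : Perm (Fin 6)) (h : (a * b) ^ 2 = 1) :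
    ((π⁻¹ * a * π) * (π⁻¹ * b * π)) ^ 2 = 1 := by
  have e : ((π⁻¹ * a * π) * (π⁻¹ * b * π)) ^ 2 = π⁻¹ * (a * b) ^ 2 * π := by
    rw [pow_two, pow_two]
    group
  rw [e, h]
  group

theorem assemble (π1 π2 π3 g h : Perm (Fin 6))
    (a : π3 * g = π2⁻¹ * (π1⁻¹ * h * π1) * π2 * π3) :
    π1 * π2 * π3 * g = h * (π1 * π2 * π3) := by
  rw [mul_assoc (π1 * π2), a]
  group

/-- Four three-cycles with pairwise products of order two are simultaneously conjugate to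
`(0 1 2), (0 1 3), (0 1 4), (0 1 5)`. -/
theorem tuple_match (h2 h3 h4 h5 : Perm (Fin 6))
    (c2 : h2.support.card = 3) (c3 : h3.support.card = 3) (c4 : h4.support.card = 3)
    (c5 : h5.support.card = 3)
    (p23 : (h2 * h3) ^ 2 = 1) (n23 : h2 * h3 ≠ 1) (p24 : (h2 * h4) ^ 2 = 1)
    (p25 : (h2 * h5) ^ 2 = 1)
    (p34 : (h3 * h4) ^ 2 = 1) (p35 : (h3 * h5) ^ 2 = 1) (p45 : (h4 * h5) ^ 2 = 1) :
    ∃ π : Perm (Fin 6), π * gc 2 = h2 * π ∧ π * gc 3 = h3 * π ∧ π * gc 4 = h4 * π ∧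
      π * gc 5 = h5 * π := by
  have hconj : IsConj (gc 2) h2 := by
    rw [isConj_iff_cycleType_eq,
      (card_support_eq_three_iff.mp (gc_support 2 (by decide))).cycleType,
      (card_support_eq_three_iff.mp c2).cycleType]
  obtain ⟨π1, e1⟩ := isConj_iff.mp hconj
  have e2 : π1⁻¹ * h2 * π1 = gc 2 := by
    rw [← e1]
    group
  have n23' : gc 2 * (π1⁻¹ * h3 * π1) ≠ 1 := by
    intro h
    apply n23
    rw [← e2] at h
    have : π1⁻¹ * (h2 * h3) * π1 = 1 := by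
      rw [← h]
      group
    have h' : h2 * h3 = π1 * (π1⁻¹ * (h2 * h3) * π1) * π1⁻¹ := by group
    rw [h', this]
    group
  obtain ⟨π2, f2, f3⟩ := match3 (π1⁻¹ * h3 * π1) (by rw [conj_card]; exact c3)
    (by rw [← e2]; exact conj_sq π1 h2 h3 p23) n23'
  have e2' : π2⁻¹ * (π1⁻¹ * h2 * π1) * π2 = gc 2 := by
    rw [e2, mul_assoc, ← f2, inv_mul_cancel_left]
  have e3' : π2⁻¹ * (π1⁻¹ * h3 * π1) * π2 = gc 3 := by
    rw [mul_assoc, ← f3, inv_mul_cancel_left]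
  have q4 := two_choices (π2⁻¹ * (π1⁻¹ * h4 * π1) * π2) (by rw [conj_card, conj_card]; exact c4)
    (by rw [← e2']; exact conj_sq π2 _ _ (conj_sq π1 h2 h4 p24))
    (by rw [← e3']; exact conj_sq π2 _ _ (conj_sq π1 h3 h4 p34))
  have q5 := two_choices (π2⁻¹ * (π1⁻¹ * h5 * π1) * π2) (by rw [conj_card, conj_card]; exact c5)
    (by rw [← e2']; exact conj_sq π2 _ _ (conj_sq π1 h2 h5 p25))
    (by rw [← e3']; exact conj_sq π2 _ _ (conj_sq π1 h3 h5 p35))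
  have q45 : ((π2⁻¹ * (π1⁻¹ * h4 * π1) * π2) * (π2⁻¹ * (π1⁻¹ * h5 * π1) * π2)) ^ 2 = 1 :=
    conj_sq π2 _ _ (conj_sq π1 h4 h5 p45)
  have key : ∀ π3 : Perm (Fin 6), π3 * gc 2 = gc 2 * π3 → π3 * gc 3 = gc 3 * π3 →
      π3 * gc 4 = (π2⁻¹ * (π1⁻¹ * h4 * π1) * π2) * π3 →
      π3 * gc 5 = (π2⁻¹ * (π1⁻¹ * h5 * π1) * π2) * π3 →
      ∃ π : Perm (Fin 6), π * gc 2 = h2 * π ∧ π * gc 3 = h3 * π ∧ π * gc 4 = h4 * π ∧
        π * gc 5 = h5 * π := by
    intro π3 a2 a3 a4 a5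
    refine ⟨π1 * π2 * π3, assemble π1 π2 π3 (gc 2) h2 ?_, assemble π1 π2 π3 (gc 3) h3 ?_,
      assemble π1 π2 π3 (gc 4) h4 a4, assemble π1 π2 π3 (gc 5) h5 a5⟩
    · rw [e2']; exact a2
    · rw [e3']; exact a3
  obtain ⟨s2, s3, s4, s5, s44, s55⟩ := swap45_facts
  rcases q4 with q4 | q4 <;> rcases q5 with q5 | q5
  · rw [q4, q5] at q45
    exact absurd q45 s44
  · exact key 1 (by simp) (by simp) (by rw [q4]; simp) (by rw [q5]; simp)
  · exact key (swap 4 5) s2 s3 (by rw [q4]; exact s4) (by rw [q5]; exact s5)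
  · rw [q4, q5] at q45
    exact absurd q45 s55

end Cfsg.Agent.Lib.Helper8.AltSixExt
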