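import Mathlib
import Cfsg.Agent.Lib.Helper8.AltSixExtA2

/-!
# An extension of `A₆` by an involution with centralizer of order 48 is `S₆`
-/

set_option autoImplicit false

namespace Cfsg.Agent.Lib.Helper8.AltSixExt

open Equiv Equiv.Perm

/-- An involutive automorphism of `A₆` fixing an element of order three maps
three-cycles to three-cycles. -/
theorem tau_three (τ : alternatingGroup (Fin 6) ≃* alternatingGroup (Fin 6))
    (hτ : ∀ a, τ (τ a) = a) (ρ : alternatingGroup (Fin 6)) (hρ3 : ρ ^ 3 = 1) (hρ1 : ρ ≠ 1)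
    (hfix : τ ρ = ρ) (σ : alternatingGroup (Fin 6))
    (hσ : (σ : Perm (Fin 6)).support.card = 3) :
    ((τ σ : alternatingGroup (Fin 6)) : Perm (Fin 6)).support.card = 3 := by
  have hσ3 : σ ^ 3 = 1 := by
    have h := (card_support_eq_three_iff.mp hσ).orderOf
    apply Subtype.ext
    rw [Subgroup.coe_pow, Subgroup.coe_one, ← h]
    exact pow_orderOf_eq_one _
  have hσ1 : σ ≠ 1 := by
    rintro rfl
    simp at hσ
  have h3 : (τ σ) ^ 3 = 1 := by rw [← map_pow, hσ3, map_one]
  have h1 : τ σ ≠ 1 := fun h => hσ1 (τ.injective (h.trans (map_one τ).symm))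
  rcases ord3_dichotomy ρ hρ3 hρ1 with hr | hr
  · have hc : IsConj ρ σ :=
      alternatingGroup.isThreeCycle_isConj (by simp) (card_support_eq_three_iff.mp hr)
        (card_support_eq_three_iff.mp hσ)
    obtain ⟨g, hg⟩ := isConj_iff.mp hc
    rw [← hg, map_mul, map_mul, map_inv, hfix]
    rw [Subgroup.coe_mul, Subgroup.coe_mul, Subgroup.coe_inv, card_support_conj]
    exact hr
  · rcases ord3_dichotomy (τ σ) h3 h1 with h | h
    · exact h
    · exfalso
      obtain ⟨g, hg⟩ := dbl_conj (τ σ) h3 h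
      obtain ⟨g', hg'⟩ := dbl_conj ρ hρ3 hr
      have e1 : τ σ = (g * g'⁻¹) * ρ * (g * g'⁻¹)⁻¹ := by
        apply Subtype.ext
        simp only [Subgroup.coe_mul, Subgroup.coe_inv, mul_inv_rev, inv_inv] at hg hg' ⊢
        rw [hg, hg']
        group
      have e2 : σ = τ (g * g'⁻¹) * ρ * (τ (g * g'⁻¹))⁻¹ := by
        have := congrArg τ e1
        rw [hτ, map_mul, map_mul, map_inv, hfix] at this
        exact this
      rw [e2, Subgroup.coe_mul, Subgroup.coe_mul, Subgroup.coe_inv, card_support_conj] at hσ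
      omega

/-- An involutive automorphism of `A₆` fixing an element of order three is induced by
conjugation with a permutation. -/
theorem aut_inner (τ : alternatingGroup (Fin 6) ≃* alternatingGroup (Fin 6))
    (hτ : ∀ a, τ (τ a) = a) (ρ : alternatingGroup (Fin 6)) (hρ3 : ρ ^ 3 = 1) (hρ1 : ρ ≠ 1)
    (hfix : τ ρ = ρ) :
    ∃ π : Perm (Fin 6), ∀ a : alternatingGroup (Fin 6),
      ((τ a : alternatingGroup (Fin 6)) : Perm (Fin 6)) = π * a * π⁻¹ := by
  have key : ∀ (i j : Fin 6) (hi : 2 ≤ i) (hj : 2 ≤ j), i ≠ j →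
      (((τ ⟨gc i, gc_mem i hi⟩ : alternatingGroup (Fin 6)) : Perm (Fin 6)) *
        ((τ ⟨gc j, gc_mem j hj⟩ : alternatingGroup (Fin 6)) : Perm (Fin 6))) ^ 2 = 1 := by
    intro i j hi hj hij
    have : ((⟨gc i, gc_mem i hi⟩ * ⟨gc j, gc_mem j hj⟩ : alternatingGroup (Fin 6))) ^ 2 = 1 :=
      Subtype.ext (gc_mul_sq i hi j hj hij).1
    have h : (τ ⟨gc i, gc_mem i hi⟩ * τ ⟨gc j, gc_mem j hj⟩) ^ 2 = 1 := by
      rw [← map_mul, ← map_pow, this, map_one]
    have h' := congrArg Subtype.val h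
    simpa only [Subgroup.coe_pow, Subgroup.coe_mul, Subgroup.coe_one] using h'
  have key' : ∀ (i j : Fin 6) (hi : 2 ≤ i) (hj : 2 ≤ j), i ≠ j →
      (((τ ⟨gc i, gc_mem i hi⟩ : alternatingGroup (Fin 6)) : Perm (Fin 6)) *
        ((τ ⟨gc j, gc_mem j hj⟩ : alternatingGroup (Fin 6)) : Perm (Fin 6))) ≠ 1 := by
    intro i j hi hj hij h
    have h' : τ (⟨gc i, gc_mem i hi⟩ * ⟨gc j, gc_mem j hj⟩) = 1 := by
      apply Subtype.ext
      rw [map_mul]
      exact h
    have h'' := τ.injective (h'.trans (map_one τ).symm)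
    exact (gc_mul_sq i hi j hj hij).2 (congrArg Subtype.val h'')
  have supp : ∀ (i : Fin 6) (hi : 2 ≤ i),
      ((τ ⟨gc i, gc_mem i hi⟩ : alternatingGroup (Fin 6)) : Perm (Fin 6)).support.card = 3 :=
    fun i hi => tau_three τ hτ ρ hρ3 hρ1 hfix _ (gc_support i hi)
  obtain ⟨π, h2, h3, h4, h5⟩ := tuple_match
    (τ ⟨gc 2, gc_mem 2 (by decide)⟩ : alternatingGroup (Fin 6))
    (τ ⟨gc 3, gc_mem 3 (by decide)⟩ : alternatingGroup (Fin 6))
    (τ ⟨gc 4, gc_mem 4 (by decide)⟩ : alternatingGroup (Fin 6))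
    (τ ⟨gc 5, gc_mem 5 (by decide)⟩ : alternatingGroup (Fin 6))
    (supp 2 (by decide)) (supp 3 (by decide)) (supp 4 (by decide)) (supp 5 (by decide))
    (key 2 3 (by decide) (by decide) (by decide)) (key' 2 3 (by decide) (by decide) (by decide))
    (key 2 4 (by decide) (by decide) (by decide)) (key 2 5 (by decide) (by decide) (by decide))
    (key 3 4 (by decide) (by decide) (by decide)) (key 3 5 (by decide) (by decide) (by decide))
    (key 4 5 (by decide) (by decide) (by decide))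
  refine ⟨π, ?_⟩
  let f1 : alternatingGroup (Fin 6) →* Perm (Fin 6) :=
    (alternatingGroup (Fin 6)).subtype.comp τ.toMonoidHom
  let f2 : alternatingGroup (Fin 6) →* Perm (Fin 6) :=
    (MulAut.conj π).toMonoidHom.comp (alternatingGroup (Fin 6)).subtype
  let H : Subgroup (Perm (Fin 6)) := (f1.eqLocus f2).map (alternatingGroup (Fin 6)).subtype
  have hgen : ∀ (i : Fin 6) (hi : 2 ≤ i),
      π * gc i = (τ ⟨gc i, gc_mem i hi⟩ : alternatingGroup (Fin 6)) * π → gc i ∈ H := by
    intro i hi h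
    refine ⟨⟨gc i, gc_mem i hi⟩, ?_, rfl⟩
    change ((τ ⟨gc i, gc_mem i hi⟩ : alternatingGroup (Fin 6)) : Perm (Fin 6)) = π * gc i * π⁻¹
    rw [h, mul_inv_cancel_right]
  have hl : ∀ x ∈ letters, x ∈ H := by
    intro x hx
    simp only [letters, List.mem_cons, List.not_mem_nil, or_false] at hx
    rcases hx with rfl | rfl | rfl | rfl | rfl | rfl | rfl | rfl | rfl
    · exact one_mem H
    · exact hgen 2 (by decide) h2
    · exact hgen 3 (by decide) h3
    · exact hgen 4 (by decide) h4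
    · exact hgen 5 (by decide) h5
    · exact inv_mem (hgen 2 (by decide) h2)
    · exact inv_mem (hgen 3 (by decide) h3)
    · exact inv_mem (hgen 4 (by decide) h4)
    · exact inv_mem (hgen 5 (by decide) h5)
  have hle : alternatingGroup (Fin 6) ≤ H := by
    rw [← closure_three_cycles_eq_alternating, Subgroup.closure_le]
    intro σ hσ
    obtain ⟨x, hx, y, hy, z, hz, w, hw, rfl⟩ :=
      three_cycle_word σ (card_support_eq_three_iff.mpr hσ)
    exact mul_mem (mul_mem (mul_mem (hl x hx) (hl y hy)) (hl z hz)) (hl w hw)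
  intro a
  obtain ⟨b, hb, hba⟩ := hle a.2
  have hab : b = a := Subtype.ext hba
  rw [← hab]
  exact hb

end Cfsg.Agent.Lib.Helper8.AltSixExt
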