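import Mathlib
import Cfsg.Agent.Lib.Helper8.AltSixExtB

/-!
# An extension of `A₆` by an involution with centralizer of order 48 is `S₆`
-/

set_option autoImplicit false

namespace Cfsg.Agent.Lib.Helper8.AltSixExt

open Equiv Equiv.Perm

/-- A group with a normal subgroup of index two isomorphic to `A₆` and an involution outside
it whose centralizer has order 48 is isomorphic to `S₆`. -/
theorem perm_six_of_index_two_alt_six {G : Type*} [Group G] [Finite G] (N : Subgroup G)
    [N.Normal] (ψ : ↥N ≃* ↥(alternatingGroup (Fin 6))) (hidx : N.index = 2)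
    (t : G) (ht : orderOf t = 2) (htN : t ∉ N)
    (hC : Nat.card ↥(Subgroup.centralizer ({t} : Set G)) = 48) :
    Nonempty (G ≃* Equiv.Perm (Fin 6)) := by
  classical
  have hsq : ∀ x : G, x ^ 2 ∈ N := by
    intro x
    rw [← QuotientGroup.eq_one_iff, QuotientGroup.mk_pow]
    have h2 : Nat.card (G ⧸ N) = 2 := hidx
    rw [← h2]
    exact pow_card_eq_one'
  have hcardN : Nat.card N = 360 := by
    rw [Nat.card_congr ψ.toEquiv, nat_card_alternatingGroup]
    simp [Nat.factorial]
  have hcardG : Nat.card G = 720 := by rw [← N.card_mul_index, hcardN, hidx]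
  have ht2 : t * t = 1 := by rw [← pow_two, ← ht, pow_orderOf_eq_one]
  -- an element of order three centralizing `t`
  have : Fact (Nat.Prime 3) := ⟨by norm_num⟩
  obtain ⟨y, hy⟩ := exists_prime_orderOf_dvd_card' (G := ↥(Subgroup.centralizer ({t} : Set G))) 3
    (by rw [hC]; norm_num)
  have hy0 : orderOf (y : G) = 3 := by rw [Subgroup.orderOf_coe]; exact hy
  have hy3 : (y : G) ^ 3 = 1 := by rw [← hy0, pow_orderOf_eq_one]
  have hy1 : (y : G) ≠ 1 := by
    intro h
    rw [h, orderOf_one] at hy0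
    omega
  have hyt : (y : G) * t = t * y := Subgroup.mem_centralizer_singleton_iff.mp y.2
  have hyN : (y : G) ∈ N := by
    have h := hsq ((y : G) ^ 2)
    have e : ((y : G) ^ 2) ^ 2 = y := by
      rw [← pow_mul]
      change (y : G) ^ (3 + 1) = y
      rw [pow_add, hy3, one_mul, pow_one]
    rwa [e] at h
  -- the two conjugation maps
  let κ : Perm (Fin 6) →* MulAut (alternatingGroup (Fin 6)) := MulAut.conjNormal
  let c : G →* MulAut (alternatingGroup (Fin 6)) :=
    (MulAut.congr ψ).toMonoidHom.comp MulAut.conjNormal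
  have hc_apply : ∀ (g : G) (a : alternatingGroup (Fin 6)),
      c g a = ψ (MulAut.conjNormal g (ψ.symm a)) := fun g a => rfl
  have hκ_apply : ∀ (π : Perm (Fin 6)) (a : alternatingGroup (Fin 6)),
      ((κ π a : alternatingGroup (Fin 6)) : Perm (Fin 6)) = π * a * π⁻¹ :=
    fun π a => MulAut.conjNormal_apply π a
  have hκ : Function.Injective κ := by
    refine (injective_iff_map_eq_one κ).mpr ?_
    intro π hπ
    have h : ∀ (i : Fin 6), 2 ≤ i → π * gc i = gc i * π := by
      intro i hi
      have e := hκ_apply π ⟨gc i, gc_mem i hi⟩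
      rw [hπ] at e
      change gc i = π * gc i * π⁻¹ at e
      calc π * gc i = (π * gc i * π⁻¹) * π := by group
        _ = gc i * π := by rw [← e]
    exact cent_trivial π (h 2 (by decide)) (h 3 (by decide)) (h 4 (by decide)) (h 5 (by decide))
  have hcN : ∀ n : N, c n = κ (ψ n : Perm (Fin 6)) := by
    intro n
    ext a
    rw [hc_apply, hκ_apply]
    have e : MulAut.conjNormal (n : G) (ψ.symm a) = n * ψ.symm a * n⁻¹ := by
      apply Subtype.ext
      rw [MulAut.conjNormal_apply]
      simp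
    rw [e, map_mul, map_mul, map_inv, MulEquiv.apply_symm_apply]
    simp
  have hτ : ∀ a, c t (c t a) = a := by
    intro a
    have h : c t * c t = 1 := by rw [← map_mul, ht2, map_one]
    have := congrArg (fun f : MulAut (alternatingGroup (Fin 6)) => f a) h
    simpa using this
  have hρ3 : (ψ ⟨y, hyN⟩) ^ 3 = 1 := by
    rw [← map_pow]
    have : (⟨y, hyN⟩ : N) ^ 3 = 1 := Subtype.ext hy3
    rw [this, map_one]
  have hρ1 : ψ ⟨y, hyN⟩ ≠ 1 := by
    intro h
    have h' := ψ.injective (h.trans (map_one ψ).symm)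
    exact hy1 (congrArg Subtype.val h')
  have hct : c t ∈ κ.range := by
    have hfix : c t (ψ ⟨y, hyN⟩) = ψ ⟨y, hyN⟩ := by
      rw [hc_apply, MulEquiv.symm_apply_apply]
      congr 1
      apply Subtype.ext
      rw [MulAut.conjNormal_apply]
      change t * (y : G) * t⁻¹ = y
      rw [← hyt, mul_inv_cancel_right]
    obtain ⟨π, hπ⟩ := aut_inner (c t) hτ (ψ ⟨y, hyN⟩) hρ3 hρ1 hfix
    refine ⟨π, ?_⟩
    ext a
    rw [hκ_apply, hπ]
  have hrange : ∀ g, c g ∈ κ.range := by
    intro g
    by_cases hg : g ∈ N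
    · exact ⟨ψ ⟨g, hg⟩, (hcN ⟨g, hg⟩).symm⟩
    · have hgt : g * t⁻¹ ∈ N := by
        rw [Subgroup.mul_mem_iff_of_index_two hidx, inv_mem_iff]
        exact ⟨fun h => absurd h hg, fun h => absurd h htN⟩
      have e : c g = c (g * t⁻¹) * c t := by rw [← map_mul, inv_mul_cancel_right]
      rw [e]
      exact mul_mem ⟨ψ ⟨g * t⁻¹, hgt⟩, (hcN ⟨g * t⁻¹, hgt⟩).symm⟩ hct
  let Φ : G →* Perm (Fin 6) :=
    ((MonoidHom.ofInjective hκ).symm.toMonoidHom).comp (c.codRestrict κ.range hrange)
  have hΦ : ∀ g, κ (Φ g) = c g := by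
    intro g
    exact MonoidHom.apply_ofInjective_symm hκ _
  have hcent : ∀ z : G, c z = 1 → ∀ n : N, z * n = n * z := by
    intro z hz n
    have h := hc_apply z (ψ n)
    rw [hz, MulEquiv.symm_apply_apply] at h
    have h' := ψ.injective h
    have h'' := congrArg Subtype.val h'
    rw [MulAut.conjNormal_apply] at h''
    change (n : G) = z * n * z⁻¹ at h''
    calc z * (n : G) = (z * n * z⁻¹) * z := by group
      _ = n * z := by rw [← h'']
  have hN1 : ∀ z : G, z ∈ N → c z = 1 → z = 1 := by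
    intro z hzN hz
    have h := hcN ⟨z, hzN⟩
    change c z = _ at h
    rw [hz] at h
    have h' := hκ (h.symm.trans (map_one κ).symm)
    have h'' : ψ ⟨z, hzN⟩ = 1 := Subtype.ext h'
    have := ψ.injective (h''.trans (map_one ψ).symm)
    exact congrArg Subtype.val this
  have hinj : Function.Injective Φ := by
    refine (injective_iff_map_eq_one Φ).mpr ?_
    intro z hz
    have hcz : c z = 1 := by rw [← hΦ z, hz, map_one]
    by_contra hz1
    have hzN : z ∉ N := fun h => hz1 (hN1 z h hcz)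
    have hnN : t * z⁻¹ ∈ N := by
      rw [Subgroup.mul_mem_iff_of_index_two hidx, inv_mem_iff]
      exact ⟨fun h => absurd h htN, fun h => absurd h hzN⟩
    have hzn : z * (t * z⁻¹) = (t * z⁻¹) * z := hcent z hcz ⟨t * z⁻¹, hnN⟩
    have hzt : z * t = t * z := by
      have : z * t * z⁻¹ = t := by
        rw [mul_assoc, hzn, inv_mul_cancel_right]
      rw [← this, inv_mul_cancel_right, this]
    have hz2 : z ^ 2 = 1 := hN1 (z ^ 2) (hsq z) (by rw [map_pow, hcz, one_pow])
    have hzinv : z⁻¹ = z := by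
      rw [inv_eq_iff_mul_eq_one, ← pow_two, hz2]
    have hn2 : (t * z⁻¹) ^ 2 = 1 := by
      rw [hzinv, pow_two, mul_assoc, ← mul_assoc z t z, hzt, mul_assoc, ← pow_two, hz2, mul_one,
        ht2]
    have hyz : z * (y : G) = y * z := hcent z hcz ⟨y, hyN⟩
    have hyn : (y : G) * (t * z⁻¹) = (t * z⁻¹) * y := by
      rw [hzinv, ← mul_assoc, hyt, mul_assoc, ← hyz, mul_assoc]
    by_cases hn1 : t * z⁻¹ = 1
    · have htz : t = z := by
        rw [hzinv] at hn1
        have : t * z * z = z := by rw [hn1, one_mul]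
        rwa [mul_assoc, ← pow_two, hz2, mul_one] at this
      have hle : N ≤ Subgroup.centralizer ({t} : Set G) := by
        intro m hm
        rw [Subgroup.mem_centralizer_singleton_iff, htz]
        exact (hcent z hcz ⟨m, hm⟩).symm
      have hdvd := Subgroup.card_dvd_of_le hle
      rw [hcardN, hC] at hdvd
      omega
    · have e2 : (ψ ⟨t * z⁻¹, hnN⟩) ^ 2 = 1 := by
        rw [← map_pow]
        have : (⟨t * z⁻¹, hnN⟩ : N) ^ 2 = 1 := Subtype.ext hn2
        rw [this, map_one]
      have e1 : ψ ⟨t * z⁻¹, hnN⟩ ≠ 1 := by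
        intro h
        have h' := ψ.injective (h.trans (map_one ψ).symm)
        exact hn1 (congrArg Subtype.val h')
      have ecomm : ψ ⟨y, hyN⟩ * ψ ⟨t * z⁻¹, hnN⟩ = ψ ⟨t * z⁻¹, hnN⟩ * ψ ⟨y, hyN⟩ := by
        rw [← map_mul, ← map_mul]
        congr 1
        exact Subtype.ext hyn
      exact hρ1 (no_ord3_cent _ e2 e1 _ hρ3 ecomm)
  have hbij : Function.Bijective Φ := by
    apply Function.Injective.bijective_of_nat_card_le hinj
    rw [hcardG, Nat.card_eq_fintype_card, Fintype.card_perm, Fintype.card_fin]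
    decide
  exact ⟨MulEquiv.ofBijective Φ hbij⟩

end Cfsg.Agent.Lib.Helper8.AltSixExt
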