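import Mathlib
import Cfsg.Prelude.Def_OddOrderChar
import Cfsg.Agent.Lib.Helper8.BGTenD
import Cfsg.Agent.Lib.Helper4.TypeP

/-!
Towards S1537 (Dade hypothesis for `A₁(M)`, `A(M)`, `A₀(M)`), helper8: general lemmas.
* `normalizer_eq_of_invariant`: a nonempty `M`-invariant subset of `M ∖ {1}` has normalizer `M`;
* `DadeHypothesis.mono'`: the Dade hypothesis passes to `L`-invariant subsets;
* elementary facts on `supportR`.
-/

set_option autoImplicit false
set_option linter.unusedSectionVars false
set_option linter.unusedVariables false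
set_option linter.style.haveILetI false
set_option maxHeartbeats 1000000
open Cfsg
open scoped commutatorElement Pointwise

namespace Cfsg.Agent.Lib.Helper8.BG16S

open Cfsg.Agent.Lib.Helper8.BGTen

universe u

variable {G : Type u} [Group G] [Finite G]

/-- a nonempty `M`-invariant subset of `M ∖ {1}` has set-normalizer `M` -/
theorem normalizer_eq_of_invariant (hG : Cfsg.IsMinSimpleOddOrder G) {M : Subgroup G}
    (hM : IsCoatom M) {A : Set G} (hAM : A ⊆ (M : Set G)) (h1 : (1 : G) ∉ A) (hne : A.Nonempty)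
    (hinv : ∀ m ∈ M, ∀ a ∈ A, m * a * m⁻¹ ∈ A) : Subgroup.normalizer A = M := by
  have hle : M ≤ Subgroup.normalizer A := Subgroup.le_set_normalizer_iff.mpr hinv
  have hcl : Subgroup.closure A ≤ M := (Subgroup.closure_le M).mpr hAM
  have hcl1 : Subgroup.closure A ≠ ⊥ := by
    obtain ⟨a, ha⟩ := hne
    intro h
    have : a ∈ Subgroup.closure A := Subgroup.subset_closure ha
    rw [h, Subgroup.mem_bot] at this
    exact h1 (this ▸ ha)
  have hclt : Subgroup.closure A ≠ ⊤ := ne_top_of_le_coatom hM hcl
  have hN := normalizer_ne_top' hG hcl1 hclt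
  have hAN : Subgroup.normalizer A ≤ Subgroup.normalizer (Subgroup.closure A : Set G) :=
    Subgroup.normalizer_le_normalizer_closure A
  rcases eq_or_lt_of_le hle with h | h
  · exact h.symm
  · exfalso
    apply hN
    rw [eq_top_iff, ← hM.2 _ h]
    exact hAN

omit [Finite G] in
/-- the Dade hypothesis passes to `L`-invariant subsets -/
theorem dade_mono {A A' : Set G} {L : Subgroup G} {H : G → Subgroup G}
    (h : Cfsg.DadeHypothesis A L H) (hsub : A' ⊆ A)
    (hinv : ∀ x ∈ L, ∀ a ∈ A', x * a * x⁻¹ ∈ A') : Cfsg.DadeHypothesis A' L H where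
  one_not_mem := fun h1 => h.one_not_mem (hsub h1)
  subset := hsub.trans h.subset
  conj_mem := hinv
  fusion := fun a ha g hg => h.fusion a (hsub ha) g (hsub hg)
  le_centralizer := fun a ha => h.le_centralizer a (hsub ha)
  conj_mem_H := fun a ha => h.conj_mem_H a (hsub ha)
  inf_eq_bot := fun a ha => h.inf_eq_bot a (hsub ha)
  sup_eq := fun a ha => h.sup_eq a (hsub ha)
  coprime := fun a ha b hb => h.coprime a (hsub ha) b (hsub hb)

omit [Finite G] in
/-- `R(x) ≤ C_G(x)` -/
theorem supportR_le_centralizer (M : Subgroup G) (x : G) :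
    Cfsg.supportR M x ≤ Subgroup.centralizer ({x} : Set G) := by
  unfold Cfsg.supportR
  split_ifs with h
  · exact inf_le_right
  · exact bot_le

omit [Finite G] in
/-- `C_G(x)` normalizes `R(x)` -/
theorem supportR_conj_mem (M : Subgroup G) (x : G) {c u : G}
    (hc : c ∈ Subgroup.centralizer ({x} : Set G)) (hu : u ∈ Cfsg.supportR M x) :
    c * u * c⁻¹ ∈ Cfsg.supportR M x := by
  unfold Cfsg.supportR at hu ⊢
  split_ifs at hu ⊢ with h
  · have hch := Classical.choose_spec h.2.exists
    obtain ⟨hu1, hu2⟩ := Subgroup.mem_inf.mp hu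
    refine Subgroup.mem_inf.mpr ⟨?_, ?_⟩
    · have hcL : c ∈ Classical.choose h.2.exists := hch.2 hc
      have hn := Cfsg.Agent.Lib.Helper4.TypeP.le_normalizer_fittingHallOf
        (Classical.choose h.2.exists) hcL
      exact (Subgroup.mem_normalizer_iff.mp hn u).mp hu1
    · exact Subgroup.mul_mem _ (Subgroup.mul_mem _ hc hu2) (Subgroup.inv_mem _ hc)
  · rw [Subgroup.mem_bot] at hu
    rw [hu]
    simp

end Cfsg.Agent.Lib.Helper8.BG16S
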