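import Mathlib
import Cfsg.Agent.Lib.Helper8.BG16S1
import Cfsg.Agent.Lib.Helper8.BG14K2
import Cfsg.Agent.Lib.Helper5.BG14Z4
import Cfsg.Agent.H2.BG14.F
import Cfsg.Agent.S1362
import Cfsg.Agent.S1432

/-!
Towards S1537, helper8: the set `𝔸 = (A(M) ∖ 1) ∪ Ẑ^M` attached to a standard factorisation
`M = K U M_σ`, and the Dade hypothesis for it (conditional on clause (a) of S1436).
-/

set_option autoImplicit false
set_option linter.unusedSectionVars false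
set_option linter.unusedVariables false
set_option linter.style.haveILetI false
set_option maxHeartbeats 2000000
open Cfsg
open scoped commutatorElement Pointwise

namespace Cfsg.Agent.Lib.Helper8.BG16S

open Cfsg.Agent.Lib.Helper8.BGTen
open Cfsg.Agent.H2.BG11 (sigmaCore_le le_normalizer_sigmaCore mem_sigma_of_dvd_sigmaCore)
open Cfsg.Agent.H2.BG14 (Zhat Ks)

universe u

variable {G : Type u} [Group G] [Finite G]

/-- clause (a) of the statement of S1436 -/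
def Hyp1436a (G : Type u) [Group G] : Prop :=
  ∀ (M : Subgroup G), IsCoatom M → ∀ x : G, x ∈ Cfsg.sigmaCore M → x ≠ 1 →
    ¬ Subgroup.centralizer ({x} : Set G) ≤ M → ∀ N : Subgroup G, IsCoatom N →
    Subgroup.centralizer ({x} : Set G) ≤ N →
    (∃ p ∈ Cfsg.sigma N, p ∣ Nat.card ↥M) → Cfsg.kappa M = ∅ ∧ Cfsg.tau2 M = ∅

/-- the `M`-conjugates of `Ẑ` -/
def ZhatM (M K : Subgroup G) : Set G := {v | ∃ m ∈ M, ∃ z ∈ Zhat M K, v = m * z * m⁻¹}

/-- the set `𝔸` -/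
def bigA (M K U : Subgroup G) : Set G := {a | a ≠ 1 ∧ a ∈ Cfsg.sigmaA M U} ∪ ZhatM M K

variable {M K U : Subgroup G}

/-- `M_σ^# ⊆ A(M)` -/
theorem mem_sigmaA_of_mem_sigmaCore {a : G} (ha : a ∈ Cfsg.sigmaCore M) (ha1 : a ≠ 1) :
    a ∈ Cfsg.sigmaA M U :=
  ⟨⟨sigmaCore_le M ha, a, ha, ha1, rfl⟩, Subgroup.mem_sup_right ha⟩

/-- `A(M)` is `M`-invariant -/
theorem conj_mem_sigmaA (hKU : Cfsg.IsSigmaDecomposition M K U) {m a : G} (hm : m ∈ M)
    (ha : a ∈ Cfsg.sigmaA M U) : m * a * m⁻¹ ∈ Cfsg.sigmaA M U := by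
  obtain ⟨⟨haM, y, hy, hy1, hay⟩, haN⟩ := ha
  refine ⟨⟨M.mul_mem (M.mul_mem hm haM) (M.inv_mem hm), m * y * m⁻¹, ?_, ?_, ?_⟩, ?_⟩
  · exact (Subgroup.mem_normalizer_iff.mp (le_normalizer_sigmaCore M hm) y).mp hy
  · intro h
    apply hy1
    have : y = m⁻¹ * (m * y * m⁻¹) * m := by group
    rw [this, h]; group
  · calc m * a * m⁻¹ * (m * y * m⁻¹) = m * (a * y) * m⁻¹ := by group
      _ = m * (y * a) * m⁻¹ := by rw [hay]
      _ = m * y * m⁻¹ * (m * a * m⁻¹) := by group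
  · exact (Subgroup.mem_normalizer_iff.mp
      (Cfsg.Agent.Lib.Helper8.BG14K.le_normalizer_sup_of_decomp hKU hm) a).mp haN

/-- `ZhatM` is `M`-invariant -/
theorem conj_mem_ZhatM {m v : G} (hm : m ∈ M) (hv : v ∈ ZhatM M K) : m * v * m⁻¹ ∈ ZhatM M K := by
  obtain ⟨m', hm', z, hz, rfl⟩ := hv
  exact ⟨m * m', M.mul_mem hm hm', z, hz, by group⟩

/-- `𝔸` is `M`-invariant -/
theorem conj_mem_bigA (hKU : Cfsg.IsSigmaDecomposition M K U) {m a : G} (hm : m ∈ M)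
    (ha : a ∈ bigA M K U) : m * a * m⁻¹ ∈ bigA M K U := by
  rcases ha with ⟨ha1, ha⟩ | ha
  · left
    refine ⟨?_, conj_mem_sigmaA hKU hm ha⟩
    intro h
    apply ha1
    have : a = m⁻¹ * (m * a * m⁻¹) * m := by group
    rw [this, h]; group
  · right
    exact conj_mem_ZhatM hm ha

/-- `Ẑ ⊆ M` -/
theorem Zhat_subset (hKU : Cfsg.IsSigmaDecomposition M K U) {z : G} (hz : z ∈ Zhat M K) : z ∈ M :=
  (sup_le hKU.hall.1 (inf_le_left.trans (sigmaCore_le M))) hz.1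

theorem ZhatM_subset (hKU : Cfsg.IsSigmaDecomposition M K U) {v : G} (hv : v ∈ ZhatM M K) :
    v ∈ M := by
  obtain ⟨m, hm, z, hz, rfl⟩ := hv
  exact M.mul_mem (M.mul_mem hm (Zhat_subset hKU hz)) (M.inv_mem hm)

theorem bigA_subset (hKU : Cfsg.IsSigmaDecomposition M K U) {a : G} (ha : a ∈ bigA M K U) :
    a ∈ M := by
  rcases ha with ⟨-, ha⟩ | ha
  · exact ha.1.1
  · exact ZhatM_subset hKU ha

/-- an element of `Ẑ` is not the identity -/
theorem Zhat_ne_one {z : G} (hz : z ∈ Zhat M K) : z ≠ 1 := by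
  rintro rfl
  exact hz.2 (Or.inl K.one_mem)

theorem one_not_mem_bigA : (1 : G) ∉ bigA M K U := by
  rintro (⟨h1, -⟩ | ⟨m, hm, z, hz, h⟩)
  · exact h1 rfl
  · apply Zhat_ne_one hz
    have : z = m⁻¹ * (m * z * m⁻¹) * m := by group
    rw [this, ← h]; group

/-- the order of an element of `Ẑ` does not divide `|U M_σ|` -/
theorem not_orderOf_dvd_of_mem_Zhat (hG : Cfsg.IsMinSimpleOddOrder G) (hM : IsCoatom M)
    (hKU : Cfsg.IsSigmaDecomposition M K U) {z : G} (hz : z ∈ Zhat M K) :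
    ¬ orderOf z ∣ Nat.card ↥(U ⊔ Cfsg.sigmaCore M : Subgroup G) := by
  intro hd
  obtain ⟨x, hx, hx1, y, hy, hy1, rfl⟩ :=
    (Cfsg.Agent.H2.BG14.mem_Zhat_iff hG hM hKU.hall).mp hz
  have hcop := Cfsg.Agent.Lib.Helper5.BG14Z.coprime_K_N hG hM hKU
  have h1 : (x * y) ^ Nat.card ↥(U ⊔ Cfsg.sigmaCore M : Subgroup G) = 1 :=
    orderOf_dvd_iff_pow_eq_one.mp hd
  have hc : Commute x y := Cfsg.Agent.H2.BG14.comm_K_Ks hx hy
  have hyN : y ∈ (U ⊔ Cfsg.sigmaCore M : Subgroup G) := Subgroup.mem_sup_right hy.1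
  rw [hc.mul_pow, Cfsg.Agent.H2.BG14.pow_card_mem hyN, mul_one] at h1
  exact Cfsg.Agent.H2.BG14.pow_ne_one_of_coprime hx hx1 hcop.symm h1

omit [Finite G] in
theorem orderOf_conj' (g z : G) : orderOf (g * z * g⁻¹) = orderOf z := by
  have := (MulAut.conj g).orderOf_eq z
  rwa [MulAut.conj_apply] at this

/-- a `G`-conjugate in `M` of an element of `M_σ` lies in `M_σ` -/
theorem conj_mem_sigmaCore (hG : Cfsg.IsMinSimpleOddOrder G) (hM : IsCoatom M) {a g : G}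
    (ha : a ∈ Cfsg.sigmaCore M) (hb : g * a * g⁻¹ ∈ M) : g * a * g⁻¹ ∈ Cfsg.sigmaCore M := by
  have h1 : Subgroup.zpowers (g * a * g⁻¹) ≤ Cfsg.sigmaCore M := by
    apply Cfsg.Agent.Lib.helper3.BG12.le_sigmaCore_of_sigma_group hG hM
    · rw [Subgroup.zpowers_le]; exact hb
    · intro p hp hpd
      apply mem_sigma_of_dvd_sigmaCore hG hM hp
      rw [Nat.card_zpowers, orderOf_conj'] at hpd
      exact dvd_trans hpd (Subgroup.orderOf_dvd_natCard _ ha)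
  exact h1 (Subgroup.mem_zpowers _)

/-- the set `A(M) ∖ M_σ` -/
abbrev P2 (M U : Subgroup G) : Set G := Cfsg.sigmaA M U \ (Cfsg.sigmaCore M : Set G)

/-- if `A(M) ∖ M_σ` is nonempty its normalizer is `M` -/
theorem normalizer_P2 (hG : Cfsg.IsMinSimpleOddOrder G) (hM : IsCoatom M)
    (hKU : Cfsg.IsSigmaDecomposition M K U) {a : G} (ha : a ∈ P2 M U) :
    Subgroup.normalizer (P2 M U) = M := by
  apply normalizer_eq_of_invariant hG hM
  · intro b hb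
    exact hb.1.1.1
  · intro h
    exact h.2 (Subgroup.one_mem _)
  · exact ⟨a, ha⟩
  · intro m hm b hb
    refine ⟨conj_mem_sigmaA hKU hm hb.1, ?_⟩
    intro h
    apply hb.2
    have h2 := (Subgroup.mem_normalizer_iff.mp
      (le_normalizer_sigmaCore M (M.inv_mem hm)) (m * b * m⁻¹)).mp h
    have e : m⁻¹ * (m * b * m⁻¹) * m⁻¹⁻¹ = b := by group
    rwa [e] at h2

/-- fusion in `A(M) ∖ M_σ` is controlled by `M` -/
theorem mem_of_conj_mem_P2 (hG : Cfsg.IsMinSimpleOddOrder G) (hM : IsCoatom M)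
    (hKU : Cfsg.IsSigmaDecomposition M K U) {a g : G} (ha : a ∈ P2 M U)
    (hb : g * a * g⁻¹ ∈ P2 M U) : g ∈ M := by
  have hTI := Cfsg.Agent.S1362.result hG M hM K U hKU
  rw [← normalizer_P2 hG hM hKU ha]
  by_contra hg
  have h1 := hTI g hg a ha hb
  exact ha.2 (h1 ▸ Subgroup.one_mem _)

/-- `C_G(a) ≤ M` for `a ∈ A(M) ∖ M_σ` -/
theorem centralizer_le_of_mem_P2 (hG : Cfsg.IsMinSimpleOddOrder G) (hM : IsCoatom M)
    (hKU : Cfsg.IsSigmaDecomposition M K U) {a : G} (ha : a ∈ P2 M U) :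
    Subgroup.centralizer ({a} : Set G) ≤ M := by
  intro c hc
  apply mem_of_conj_mem_P2 hG hM hKU ha
  have : c * a * c⁻¹ = a := by
    rw [Subgroup.mem_centralizer_singleton_iff.mp hc]; group
  rw [this]
  exact ha

/-- fusion in `Ẑ^M` is controlled by `M` -/
theorem mem_of_conj_mem_ZhatM (hG : Cfsg.IsMinSimpleOddOrder G) (hM : IsCoatom M)
    (hKU : Cfsg.IsSigmaDecomposition M K U) {a g : G} (ha : a ∈ ZhatM M K)
    (hb : g * a * g⁻¹ ∈ ZhatM M K) : g ∈ M := by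
  obtain ⟨m, hm, z, hz, rfl⟩ := ha
  obtain ⟨m', hm', z', hz', he⟩ := hb
  have hK1 : K ≠ ⊥ := by
    obtain ⟨x, hx, hx1, -⟩ := (Cfsg.Agent.H2.BG14.mem_Zhat_iff hG hM hKU.hall).mp hz
    intro h
    rw [h, Subgroup.mem_bot] at hx
    exact hx1 hx
  have h1 : (m'⁻¹ * g * m) * z * (m'⁻¹ * g * m)⁻¹ ∈ Zhat M K := by
    have : (m'⁻¹ * g * m) * z * (m'⁻¹ * g * m)⁻¹ = m'⁻¹ * (g * (m * z * m⁻¹) * g⁻¹) * m' := by
      group
    rw [this, he]
    have : m'⁻¹ * (m' * z' * m'⁻¹) * m' = z' := by group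
    rw [this]
    exact hz'
  have h2 := Cfsg.Agent.H2.BG14.fusion_Zhat' hG hM hKU.hall hK1 hz h1
  have h3 : m'⁻¹ * g * m ∈ M :=
    (sup_le hKU.hall.1 (inf_le_left.trans (sigmaCore_le M))) h2
  have : g = m' * (m'⁻¹ * g * m) * m⁻¹ := by group
  rw [this]
  exact M.mul_mem (M.mul_mem hm' h3) (M.inv_mem hm)

/-- `C_G(a) ≤ M` for `a ∈ Ẑ^M` -/
theorem centralizer_le_of_mem_ZhatM (hG : Cfsg.IsMinSimpleOddOrder G) (hM : IsCoatom M)
    (hKU : Cfsg.IsSigmaDecomposition M K U) {a : G} (ha : a ∈ ZhatM M K) :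
    Subgroup.centralizer ({a} : Set G) ≤ M := by
  intro c hc
  apply mem_of_conj_mem_ZhatM hG hM hKU ha
  have : c * a * c⁻¹ = a := by
    rw [Subgroup.mem_centralizer_singleton_iff.mp hc]; group
  rw [this]
  exact ha

end Cfsg.Agent.Lib.Helper8.BG16S
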