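import Mathlib
import Cfsg.Agent.Lib.Helper8.BG16S2
import Cfsg.Agent.H2.BG12.G

/-!
Towards S1537, helper8: the Dade hypothesis for `𝔸 = bigA M K U` with `R = supportR M`
(conditional on clause (a) of S1436).
-/

set_option autoImplicit false
set_option linter.unusedSectionVars false
set_option linter.unusedVariables false
set_option linter.style.haveILetI false
set_option maxHeartbeats 2000000
open Cfsg
open scoped commutatorElement Pointwise

namespace Cfsg.Agent.Lib.Helper8.BG16S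

open Cfsg.Agent.Lib.Helper8.BGTen
open Cfsg.Agent.H2.BG11 (sigmaCore_le le_normalizer_sigmaCore mem_sigma_of_dvd_sigmaCore)
open Cfsg.Agent.H2.BG14 (Zhat Ks)

universe u

variable {G : Type u} [Group G] [Finite G]

variable {M K U : Subgroup G}

/-- if `κ(M) = τ₂(M) = ∅` then `C_M(x) ≤ M_σ` for `x ∈ M_σ^#` -/
theorem inf_centralizer_le_sigmaCore (hG : Cfsg.IsMinSimpleOddOrder G) (hM : IsCoatom M)
    (hκ : Cfsg.kappa M = ∅) (hτ : Cfsg.tau2 M = ∅) {x : G} (hx : x ∈ Cfsg.sigmaCore M)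
    (hx1 : x ≠ 1) : M ⊓ Subgroup.centralizer ({x} : Set G) ≤ Cfsg.sigmaCore M := by
  intro x' hx'
  apply Cfsg.Agent.H2.BG12.mem_of_primary_parts (orderOf x') x' rfl
  intro q hq _ v hv hvq
  haveI : Fact q.Prime := ⟨hq⟩
  have hvC : v ∈ M ⊓ Subgroup.centralizer ({x} : Set G) := by
    have : Subgroup.zpowers x' ≤ M ⊓ Subgroup.centralizer ({x} : Set G) := by
      rw [Subgroup.zpowers_le]; exact hx'
    exact this hv
  obtain ⟨j, hj⟩ := IsPGroup.iff_card.mp hvq
  rw [Nat.card_zpowers] at hj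
  by_cases hqσ : q ∈ Cfsg.sigma M
  · have h1 : Subgroup.zpowers v ≤ Cfsg.sigmaCore M := by
      apply Cfsg.Agent.Lib.helper3.BG12.le_sigmaCore_of_sigma_group hG hM
      · rw [Subgroup.zpowers_le]; exact hvC.1
      · intro p hp hpd
        rw [Nat.card_zpowers, hj] at hpd
        rw [(Nat.prime_dvd_prime_iff_eq hp hq).mp (hp.dvd_of_dvd_pow hpd)]
        exact hqσ
    exact h1 (Subgroup.mem_zpowers v)
  · by_cases hv1 : v = 1
    · rw [hv1]; exact Subgroup.one_mem _
    · exfalso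
      have hj0 : j ≠ 0 := by
        rintro rfl
        rw [pow_zero, orderOf_eq_one_iff] at hj
        exact hv1 hj
      have hqv : q ∣ orderOf v := by rw [hj]; exact dvd_pow_self q hj0
      have hσ : ∀ p : ℕ, p.Prime → p ∣ orderOf v → p ∉ Cfsg.sigma M := by
        intro p hp hpd
        rw [hj] at hpd
        rw [(Nat.prime_dvd_prime_iff_eq hp hq).mp (hp.dvd_of_dvd_pow hpd)]
        exact hqσ
      rcases Cfsg.Agent.S1432.result hG M hM x hx hx1 v hvC hv1 hσ with h | h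
      · have := h.1 q hq hqv
        rw [hκ] at this
        exact this
      · have := h.1 q hq hqv
        rw [hτ] at this
        exact this

/-- the three kinds of elements of `𝔸` -/
theorem bigA_cases {a : G} (ha : a ∈ bigA M K U) :
    (a ∈ Cfsg.sigmaCore M ∧ a ≠ 1) ∨ a ∈ P2 M U ∨ a ∈ ZhatM M K := by
  rcases ha with ⟨ha1, ha⟩ | ha
  · by_cases h : a ∈ Cfsg.sigmaCore M
    · exact Or.inl ⟨h, ha1⟩
    · exact Or.inr (Or.inl ⟨ha, h⟩)
  · exact Or.inr (Or.inr ha)

/-- elements of `𝔸` outside `M_σ` have their centralizer in `M` -/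
theorem centralizer_le_of_not_mem (hG : Cfsg.IsMinSimpleOddOrder G) (hM : IsCoatom M)
    (hKU : Cfsg.IsSigmaDecomposition M K U) {a : G} (ha : a ∈ bigA M K U)
    (hle : ¬ Subgroup.centralizer ({a} : Set G) ≤ M) : a ∈ Cfsg.sigmaCore M ∧ a ≠ 1 := by
  rcases bigA_cases ha with h | h | h
  · exact h
  · exact absurd (centralizer_le_of_mem_P2 hG hM hKU h) hle
  · exact absurd (centralizer_le_of_mem_ZhatM hG hM hKU h) hle

/-- the local structure `C_G(a) = R(a) ⋊ C_M(a)` for `a ∈ 𝔸` -/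
theorem supportR_compl_of_mem (hG : Cfsg.IsMinSimpleOddOrder G) (hM : IsCoatom M)
    (hKU : Cfsg.IsSigmaDecomposition M K U) {a : G} (ha : a ∈ bigA M K U) :
    Cfsg.supportR M a ⊓ (M ⊓ Subgroup.centralizer ({a} : Set G)) = ⊥ ∧
      Cfsg.supportR M a ⊔ (M ⊓ Subgroup.centralizer ({a} : Set G)) =
        Subgroup.centralizer ({a} : Set G) := by
  by_cases hle : Subgroup.centralizer ({a} : Set G) ≤ M
  · rw [Cfsg.Agent.H2.BG14.supportR_eq_bot_of_le hle]
    exact ⟨bot_inf_eq _, by rw [bot_sup_eq]; exact inf_eq_right.mpr hle⟩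
  · obtain ⟨ha0, ha1⟩ := centralizer_le_of_not_mem hG hM hKU ha hle
    obtain ⟨-, hc⟩ := Cfsg.Agent.H2.BG14.supportR_compl hG hM ha0 ha1
    refine ⟨by rw [inf_comm]; exact hc.2.2.1, le_antisymm (sup_le hc.2.1 hc.1) ?_⟩
    intro m hm
    obtain ⟨a', ha', b, hb, rfl⟩ := hc.2.2.2 m hm
    exact Subgroup.mul_mem _ (Subgroup.mem_sup_right ha') (Subgroup.mem_sup_left hb)

/-- **the Dade hypothesis for `𝔸`** -/
theorem dade_bigA (hG : Cfsg.IsMinSimpleOddOrder G) (h36 : Hyp1436a G) (hM : IsCoatom M)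
    (hKU : Cfsg.IsSigmaDecomposition M K U) :
    Cfsg.DadeHypothesis (bigA M K U) M (Cfsg.supportR M) where
  one_not_mem := one_not_mem_bigA
  subset := fun a ha => bigA_subset hKU ha
  conj_mem := fun x hx a ha => conj_mem_bigA hKU hx ha
  fusion := by
    intro a ha g hb
    have hbM : g * a * g⁻¹ ∈ M := bigA_subset hKU hb
    have hN₀ : ∀ c : G, c ∈ Cfsg.sigmaA M U →
        orderOf c ∣ Nat.card ↥(U ⊔ Cfsg.sigmaCore M : Subgroup G) :=
      fun c hc => Subgroup.orderOf_dvd_natCard _ hc.2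
    have hZ : ∀ c : G, c ∈ ZhatM M K →
        ¬ orderOf c ∣ Nat.card ↥(U ⊔ Cfsg.sigmaCore M : Subgroup G) := by
      rintro c ⟨m, hm, z, hz, rfl⟩
      rw [orderOf_conj']
      exact not_orderOf_dvd_of_mem_Zhat hG hM hKU hz
    rcases bigA_cases ha with ⟨ha0, ha1⟩ | ha2 | ha3
    · -- `a ∈ M_σ^#`
      have hw : (g⁻¹)⁻¹ * a * g⁻¹ ∈ M := by rw [inv_inv]; exact hbM
      obtain ⟨κ, hκ, m, hm, hgm⟩ := Cfsg.Agent.H2.BG14.exists_mul_of_conj_mem hG hM ha0 ha1 hw
      refine ⟨m⁻¹, M.inv_mem hm, ?_⟩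
      have hg : g = m⁻¹ * κ⁻¹ := by
        have : g = (g⁻¹)⁻¹ := (inv_inv g).symm
        rw [this, hgm]; group
      have hκa : κ⁻¹ * a * κ = a := by
        have := Subgroup.mem_centralizer_singleton_iff.mp hκ
        calc κ⁻¹ * a * κ = κ⁻¹ * (a * κ) := by group
          _ = κ⁻¹ * (κ * a) := by rw [this]
          _ = a := by group
      rw [hg]
      calc m⁻¹ * a * m⁻¹⁻¹ = m⁻¹ * (κ⁻¹ * a * κ) * m⁻¹⁻¹ := by rw [hκa]
        _ = m⁻¹ * κ⁻¹ * a * (m⁻¹ * κ⁻¹)⁻¹ := by group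
    · -- `a ∈ A(M) ∖ M_σ`
      rcases bigA_cases hb with ⟨hb0, hb1⟩ | hb2 | hb3
      · exfalso
        apply ha2.2
        have h1 := conj_mem_sigmaCore hG hM (g := g⁻¹) hb0 (by
          have : g⁻¹ * (g * a * g⁻¹) * g⁻¹⁻¹ = a := by group
          rw [this]; exact ha2.1.1.1)
        have : g⁻¹ * (g * a * g⁻¹) * g⁻¹⁻¹ = a := by group
        rwa [this] at h1
      · exact ⟨g, mem_of_conj_mem_P2 hG hM hKU ha2 hb2, rfl⟩
      · exfalso
        apply hZ _ hb3
        rw [orderOf_conj']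
        exact hN₀ a ha2.1
    · -- `a ∈ Ẑ^M`
      rcases bigA_cases hb with ⟨hb0, hb1⟩ | hb2 | hb3
      · exfalso
        apply hZ _ ha3
        have h1 := hN₀ _ (mem_sigmaA_of_mem_sigmaCore (U := U) hb0 hb1)
        rwa [orderOf_conj'] at h1
      · exfalso
        apply hZ _ ha3
        have h1 := hN₀ _ hb2.1
        rwa [orderOf_conj'] at h1
      · exact ⟨g, mem_of_conj_mem_ZhatM hG hM hKU ha3 hb3, rfl⟩
  le_centralizer := fun a _ => supportR_le_centralizer M a
  conj_mem_H := fun a _ c hc u hu => supportR_conj_mem M a hc hu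
  inf_eq_bot := fun a ha => (supportR_compl_of_mem hG hM hKU ha).1
  sup_eq := fun a ha => (supportR_compl_of_mem hG hM hKU ha).2
  coprime := by
    intro a ha b hb
    by_cases hle : Subgroup.centralizer ({a} : Set G) ≤ M
    · rw [Cfsg.Agent.H2.BG14.supportR_eq_bot_of_le hle, Subgroup.card_bot]
      exact Nat.coprime_one_left _
    · obtain ⟨ha0, ha1⟩ := centralizer_le_of_not_mem hG hM hKU ha hle
      obtain ⟨N, ⟨hN, haN⟩, huniq, hF, -, -, hcN, -⟩ :=
        Cfsg.Agent.S1375.result hG M hM a ha0 ha1 hle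
      obtain ⟨N₂, hN₂, haN₂, -, hR, -, -⟩ :=
        Cfsg.Agent.H2.BG14.supportR_eq_of_not_le hG hM ha0 ha1 hle
      have hNN : N₂ = N := huniq N₂ hN₂ haN₂
      rw [hNN] at hR
      rw [hR]
      apply Nat.coprime_of_dvd
      intro r hr hr1 hr2
      have hrN : r ∈ Cfsg.sigma N :=
        mem_sigma_of_dvd_sigmaCore hG hN hr (hr1.trans (Subgroup.card_dvd_of_le inf_le_left))
      have hrM : r ∣ Nat.card ↥M := hr2.trans (Subgroup.card_dvd_of_le inf_le_left)
      obtain ⟨hκ, hτ⟩ := h36 M hM a ha0 ha1 hle N hN haN ⟨r, hrN, hrM⟩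
      have hb' : b ∈ Cfsg.sigmaCore M ∧ b ≠ 1 := by
        rcases bigA_cases hb with h | h | h
        · exact h
        · exfalso
          obtain ⟨⟨⟨hbM, y, hy, hy1, hby⟩, -⟩, hbσ⟩ := h
          apply hbσ
          apply inf_centralizer_le_sigmaCore hG hM hκ hτ hy hy1
          refine Subgroup.mem_inf.mpr ⟨hbM, ?_⟩
          rw [Subgroup.mem_centralizer_singleton_iff]
          exact hby
        · exfalso
          obtain ⟨m, hm, z, hz, -⟩ := h
          obtain ⟨x, hx, hx1, -⟩ := (Cfsg.Agent.H2.BG14.mem_Zhat_iff hG hM hKU.hall).mp hz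
          have hK1 : Nat.card ↥K ≠ 1 := by
            intro h0
            have := Subgroup.card_eq_one.mp h0
            rw [this, Subgroup.mem_bot] at hx
            exact hx1 hx
          obtain ⟨p, hp, hpd⟩ := Nat.exists_prime_and_dvd hK1
          have := hKU.hall.2.1 p hp hpd
          rw [hκ] at this
          exact this
      have h2 := inf_centralizer_le_sigmaCore hG hM hκ hτ hb'.1 hb'.2
      have hrσ : r ∈ Cfsg.sigma M :=
        mem_sigma_of_dvd_sigmaCore hG hM hr (hr2.trans (Subgroup.card_dvd_of_le h2))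
      have haN' : a ∈ N := haN (Subgroup.mem_centralizer_singleton_iff.mpr rfl)
      exact Cfsg.Agent.H2.BG14.sigma_disjoint_of_spec hG hM hN ha0 ha1 haN' hcN.2.2.1 r hrσ hrN

end Cfsg.Agent.Lib.Helper8.BG16S
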