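import Mathlib
import Cfsg.Agent.Lib.Helper8.BG16S3
import Cfsg.Agent.Lib.Helper8.BG15A
import Cfsg.Agent.Lib.Helper4.BG16D
import Cfsg.Agent.H2.BG16.B
import Cfsg.Agent.S1437
import Cfsg.Agent.S1355
import Cfsg.Agent.S1351

/-!
Towards S1537, helper8: the sets `A₁(M)`, `A(M)`, `A₀(M)` are nonempty `M`-invariant subsets of
`𝔸 = bigA M K U`; assembly of S1537 (conditional on clause (a) of S1436).
-/

set_option autoImplicit false
set_option linter.unusedSectionVars false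
set_option linter.unusedVariables false
set_option linter.style.haveILetI false
set_option maxHeartbeats 2000000
open Cfsg
open scoped commutatorElement Pointwise

namespace Cfsg.Agent.Lib.Helper8.BG16S

open Cfsg.Agent.Lib.Helper8.BGTen
open Cfsg.Agent.H2.BG11 (sigmaCore_le le_normalizer_sigmaCore mem_sigma_of_dvd_sigmaCore)
open Cfsg.Agent.H2.BG14 (Zhat Ks)

universe u

variable {G : Type u} [Group G] [Finite G]

variable {M K U : Subgroup G}

/-- the `Q`-part of S1437, in helper4's form -/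
theorem hypQ (hG : Cfsg.IsMinSimpleOddOrder G) (hM : IsCoatom M) :
    ∀ K : Subgroup G, Cfsg.IsPiHallOf (Cfsg.kappa M) K M →
      Cfsg.Agent.Lib.Helper4.BG14.HypQ M K :=
  Cfsg.Agent.Lib.Helper4.BG16.hypQ_of hG hM (fun K U hKU hne => by
    obtain ⟨-, -, -, -, -, -, Q, hQF, hQn, hQp, hQi, -⟩ :=
      Cfsg.Agent.S1437.result hG M hM K U hKU hne
    exact ⟨Q, hQF, hQn, hQp, hQi⟩)

omit [Finite G] in
theorem le_normalizer_commutator (M : Subgroup G) :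
    M ≤ Subgroup.normalizer ((⁅M, M⁆ : Subgroup G) : Set G) := by
  rw [← Subgroup.map_subtype_commutator]
  exact Cfsg.Agent.Lib.Helper4.TypeP.le_normalizer_map_subtype M _

omit [Finite G] in
theorem conj_ne_one' {a m : G} (ha : a ≠ 1) : m * a * m⁻¹ ≠ 1 := by
  intro h
  apply ha
  have : a = m⁻¹ * (m * a * m⁻¹) * m := by group
  rw [this, h]; group

omit [Finite G] in
theorem conj_comm {a x m : G} (h : a * x = x * a) :
    m * a * m⁻¹ * (m * x * m⁻¹) = m * x * m⁻¹ * (m * a * m⁻¹) := by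
  calc m * a * m⁻¹ * (m * x * m⁻¹) = m * (a * x) * m⁻¹ := by group
    _ = m * (x * a) * m⁻¹ := by rw [h]
    _ = m * x * m⁻¹ * (m * a * m⁻¹) := by group

/-! ### `typeCore` -/

theorem typeCore_le (hG : Cfsg.IsMinSimpleOddOrder G) (hM : IsCoatom M) :
    Cfsg.typeCore M ≤ Cfsg.sigmaCore M := by
  unfold Cfsg.typeCore
  split_ifs with h
  · exact Cfsg.Agent.Lib.Helper4.BG16.commutator_le_sigmaCore_of_typeIII_IV hG hM h
  · exact Cfsg.Agent.Lib.Helper8.BG15.fittingHallOf_le_sigmaCore hG hM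

theorem typeCore_le_commutator (hG : Cfsg.IsMinSimpleOddOrder G) (hM : IsCoatom M) :
    Cfsg.typeCore M ≤ ⁅M, M⁆ := by
  unfold Cfsg.typeCore
  split_ifs with h
  · exact le_rfl
  · exact (Cfsg.Agent.S1355.result hG M hM).2.1.trans (Cfsg.Agent.S1355.result hG M hM).2.2.1

theorem typeCore_ne_bot (hG : Cfsg.IsMinSimpleOddOrder G) (hM : IsCoatom M) :
    Cfsg.typeCore M ≠ ⊥ := by
  unfold Cfsg.typeCore
  split_ifs with h
  · intro h0
    apply (Cfsg.Agent.S1355.result hG M hM).1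
    rw [eq_bot_iff, ← h0]
    exact (Cfsg.Agent.S1355.result hG M hM).2.1.trans (Cfsg.Agent.S1355.result hG M hM).2.2.1
  · exact (Cfsg.Agent.S1355.result hG M hM).1

theorem le_normalizer_typeCore (M : Subgroup G) :
    M ≤ Subgroup.normalizer ((Cfsg.typeCore M : Subgroup G) : Set G) := by
  unfold Cfsg.typeCore
  split_ifs with h
  · exact le_normalizer_commutator M
  · exact Cfsg.Agent.Lib.Helper4.TypeP.le_normalizer_fittingHallOf M

/-! ### `A₁(M)` -/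

theorem typeA1_subset (hG : Cfsg.IsMinSimpleOddOrder G) (hM : IsCoatom M) :
    Cfsg.typeA1 M ⊆ bigA M K U := by
  rintro a ⟨ha, ha1⟩
  left
  have ha1' : a ≠ 1 := fun h => ha1 (Set.mem_singleton_iff.mpr h)
  exact ⟨ha1', mem_sigmaA_of_mem_sigmaCore (typeCore_le hG hM ha) ha1'⟩

theorem typeA1_conj {m a : G} (hm : m ∈ M) (ha : a ∈ Cfsg.typeA1 M) :
    m * a * m⁻¹ ∈ Cfsg.typeA1 M := by
  obtain ⟨ha, ha1⟩ := ha
  have ha1' : a ≠ 1 := fun h => ha1 (Set.mem_singleton_iff.mpr h)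
  refine ⟨(Subgroup.mem_normalizer_iff.mp (le_normalizer_typeCore M hm) a).mp ha, ?_⟩
  intro h
  exact conj_ne_one' ha1' (Set.mem_singleton_iff.mp h)

theorem typeA1_nonempty (hG : Cfsg.IsMinSimpleOddOrder G) (hM : IsCoatom M) :
    (Cfsg.typeA1 M).Nonempty := by
  obtain ⟨a, ha, ha1⟩ := Cfsg.Agent.Lib.Helper4.BG14.exists_ne_one_of_ne_bot
    (typeCore_ne_bot hG hM)
  exact ⟨a, ha, fun h => ha1 (Set.mem_singleton_iff.mp h)⟩

/-! ### `A(M)` -/

theorem typeA_subset (hG : Cfsg.IsMinSimpleOddOrder G) (hM : IsCoatom M)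
    (hKU : Cfsg.IsSigmaDecomposition M K U) : Cfsg.typeA M ⊆ bigA M K U := by
  intro a ha
  unfold Cfsg.typeA at ha
  split_ifs at ha with hI
  · obtain ⟨haM, ha1, x, hx, hx1, hax⟩ := ha
    have hK0 : K = ⊥ := Cfsg.Agent.Lib.Helper4.BG16.hall_kappa_eq_bot_of_typeI hG hM hI hKU.hall
      (hypQ hG hM K hKU.hall)
    left
    refine ⟨ha1, ⟨haM, x, Cfsg.Agent.Lib.Helper8.BG15.fittingHallOf_le_sigmaCore hG hM hx, hx1,
      hax⟩, ?_⟩
    obtain ⟨u, hu, b, hb, rfl⟩ := hKU.compl.2.2.2 a haM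
    rw [hK0, bot_sup_eq] at hb
    exact Subgroup.mul_mem _ (Subgroup.mem_sup_left hu) (Subgroup.mem_sup_right hb)
  · obtain ⟨haM', ha1, x, hx, hx1, hax⟩ := ha
    left
    exact ⟨ha1, ⟨Subgroup.commutator_le_self M haM', x, typeCore_le hG hM hx, hx1, hax⟩,
      Cfsg.Agent.Lib.Helper8.BG14K.commutator_le_of_decomp hKU haM'⟩

theorem typeA_conj {m a : G} (hm : m ∈ M) (ha : a ∈ Cfsg.typeA M) :
    m * a * m⁻¹ ∈ Cfsg.typeA M := by
  unfold Cfsg.typeA at ha ⊢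
  split_ifs at ha ⊢ with hI
  · obtain ⟨haM, ha1, x, hx, hx1, hax⟩ := ha
    exact ⟨M.mul_mem (M.mul_mem hm haM) (M.inv_mem hm), conj_ne_one' ha1, m * x * m⁻¹,
      (Subgroup.mem_normalizer_iff.mp
        (Cfsg.Agent.Lib.Helper4.TypeP.le_normalizer_fittingHallOf M hm) x).mp hx,
      conj_ne_one' hx1, conj_comm hax⟩
  · obtain ⟨haM', ha1, x, hx, hx1, hax⟩ := ha
    exact ⟨(Subgroup.mem_normalizer_iff.mp (le_normalizer_commutator M hm) a).mp haM',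
      conj_ne_one' ha1, m * x * m⁻¹,
      (Subgroup.mem_normalizer_iff.mp (le_normalizer_typeCore M hm) x).mp hx,
      conj_ne_one' hx1, conj_comm hax⟩

theorem typeA_nonempty (hG : Cfsg.IsMinSimpleOddOrder G) (hM : IsCoatom M) :
    (Cfsg.typeA M).Nonempty := by
  unfold Cfsg.typeA
  split_ifs with hI
  · obtain ⟨a, ha, ha1⟩ := Cfsg.Agent.Lib.Helper4.BG14.exists_ne_one_of_ne_bot
      (Cfsg.Agent.S1355.result hG M hM).1
    exact ⟨a, Cfsg.Agent.Lib.Helper4.TypeP.fittingHallOf_le M ha, ha1, a, ha, ha1, rfl⟩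
  · obtain ⟨a, ha, ha1⟩ := Cfsg.Agent.Lib.Helper4.BG14.exists_ne_one_of_ne_bot
      (typeCore_ne_bot hG hM)
    exact ⟨a, typeCore_le_commutator hG hM ha, ha1, a, ha, ha1, rfl⟩

/-! ### `A₀(M)` -/

/-- the elements of `W₁W₂ ∖ (W₁ ∪ W₂)` for any type-`P` data are `M`-conjugates of elements
of `Ẑ` -/
theorem mem_ZhatM_of_typeP (hG : Cfsg.IsMinSimpleOddOrder G) (hM : IsCoatom M)
    (hKU : Cfsg.IsSigmaDecomposition M K U) {W₁ U₂ W₂ : Subgroup G}
    (hP : Cfsg.IsTypePWith M W₁ U₂ W₂) {m w : G} (hm : m ∈ M) (hw : w ∈ W₁ ⊔ W₂)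
    (hw1 : w ∉ W₁) (hw2 : w ∉ W₂) : m * w * m⁻¹ ∈ ZhatM M K := by
  have hK1 : K ≠ ⊥ := Cfsg.Agent.H2.BG16.K_ne_bot_of_typeP hG hM hKU.hall hP
  have hsolv : Group.IsSolvable ↥M := hG.2.2.2 M hM.1
  have hcop := Cfsg.Agent.Lib.Helper5.BG14Z.coprime_K_N hG hM hKU
  have hW₁hall : Cfsg.IsPiHallOf (Cfsg.kappa M) W₁ M := by
    refine ⟨hP.W₁_compl.2.1, fun p hp hpd => Cfsg.Agent.Lib.Helper4.BG16.kappa_of_typeP hG hM hP
      hp hpd, ?_⟩
    intro p hp hpκ hpd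
    rw [Cfsg.Agent.Lib.Helper4.BG16.relIndex_W₁_of_typeP hP,
      Cfsg.Agent.Lib.Helper5.BG14Z.commutator_eq_N hG hM hKU hK1] at hpd
    have h1 : p ∣ Nat.card ↥K := by
      have h2 := Cfsg.Agent.H1.card_eq_relIndex_mul_card hKU.hall.1
      have h3 : p ∣ K.relIndex M * Nat.card ↥K := h2 ▸ hpκ.2.1
      rcases (Nat.Prime.dvd_mul hp).mp h3 with h | h
      · exact absurd h (hKU.hall.2.2 p hp hpκ)
      · exact h
    exact hp.one_lt.ne' (Nat.eq_one_of_dvd_coprimes hcop h1 hpd)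
  obtain ⟨m₀, hm₀, hW₁⟩ :=
    Cfsg.Agent.H1.isPiHallOf_conj (Cfsg.kappa M) K W₁ M hsolv hKU.hall hW₁hall
  change W₁ = cj m₀ K at hW₁
  obtain ⟨k, hk, hk1⟩ := Cfsg.Agent.Lib.Helper4.BG14.exists_ne_one_of_ne_bot hK1
  have hx : m₀ * k * m₀⁻¹ ∈ W₁ := hW₁ ▸ conj_mem_cj hk
  have hW₂ := hP.W₂_centralizer _ hx (conj_ne_one' hk1)
  have hKs := Cfsg.Agent.H2.BG16.commutator_inf_centralizer hG hM hKU hK1 hk hk1
  have hW₂' : W₂ = cj m₀ (Ks M K) := by
    ext y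
    rw [mem_cj, ← hW₂, ← hKs, Subgroup.mem_inf, Subgroup.mem_inf,
      Subgroup.mem_centralizer_singleton_iff, Subgroup.mem_centralizer_singleton_iff]
    constructor
    · rintro ⟨h1, h2⟩
      refine ⟨?_, ?_⟩
      · have := (Subgroup.mem_normalizer_iff.mp
          (le_normalizer_commutator M (M.inv_mem hm₀)) y).mp h1
        rwa [inv_inv] at this
      · calc m₀⁻¹ * y * m₀ * k = m₀⁻¹ * (y * (m₀ * k * m₀⁻¹)) * m₀ := by group
          _ = m₀⁻¹ * ((m₀ * k * m₀⁻¹) * y) * m₀ := by rw [h2]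
          _ = k * (m₀⁻¹ * y * m₀) := by group
    · rintro ⟨h1, h2⟩
      refine ⟨?_, ?_⟩
      · have := (Subgroup.mem_normalizer_iff.mp (le_normalizer_commutator M hm₀)
          (m₀⁻¹ * y * m₀)).mp h1
        have e : m₀ * (m₀⁻¹ * y * m₀) * m₀⁻¹ = y := by group
        rwa [e] at this
      · calc y * (m₀ * k * m₀⁻¹) = m₀ * ((m₀⁻¹ * y * m₀) * k) * m₀⁻¹ := by group
          _ = m₀ * (k * (m₀⁻¹ * y * m₀)) * m₀⁻¹ := by rw [h2]
          _ = m₀ * k * m₀⁻¹ * y := by group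
  have hz : m₀⁻¹ * w * m₀ ∈ K ⊔ Ks M K := by
    rw [← mem_cj]
    have : cj m₀ (K ⊔ Ks M K) = W₁ ⊔ W₂ := by
      rw [hW₁, hW₂']
      exact Subgroup.map_sup _ _ _
    rw [this]
    exact hw
  refine ⟨m * m₀, M.mul_mem hm hm₀, m₀⁻¹ * w * m₀, ⟨hz, ?_⟩, by group⟩
  rintro (h | h)
  · apply hw1
    rw [hW₁, mem_cj]
    exact h
  · apply hw2
    rw [hW₂', mem_cj]
    exact h

theorem typeA0_subset (hG : Cfsg.IsMinSimpleOddOrder G) (hM : IsCoatom M)
    (hKU : Cfsg.IsSigmaDecomposition M K U) : Cfsg.typeA0 M ⊆ bigA M K U := by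
  rintro v (hv | ⟨-, W₁, U₂, W₂, hP, m, hm, w, hw, hw1, hw2, rfl⟩)
  · exact typeA_subset hG hM hKU hv
  · right
    exact mem_ZhatM_of_typeP hG hM hKU hP hm hw hw1 hw2

theorem typeA0_conj {m a : G} (hm : m ∈ M) (ha : a ∈ Cfsg.typeA0 M) :
    m * a * m⁻¹ ∈ Cfsg.typeA0 M := by
  rcases ha with ha | ⟨hI, W₁, U₂, W₂, hP, m', hm', w, hw, hw1, hw2, rfl⟩
  · left
    exact typeA_conj hm ha
  · right
    exact ⟨hI, W₁, U₂, W₂, hP, m * m', M.mul_mem hm hm', w, hw, hw1, hw2, by group⟩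

theorem typeA0_nonempty (hG : Cfsg.IsMinSimpleOddOrder G) (hM : IsCoatom M) :
    (Cfsg.typeA0 M).Nonempty := by
  obtain ⟨a, ha⟩ := typeA_nonempty hG hM
  exact ⟨a, Or.inl ha⟩

/-! ### assembly -/

/-- the statement of S1537 from clause (a) of S1436 -/
theorem s1537_of (hG : Cfsg.IsMinSimpleOddOrder G) (h36 : Hyp1436a G) (M : Subgroup G)
    (hM : IsCoatom M) (A : Set G)
    (hA : A = Cfsg.typeA1 M ∨ A = Cfsg.typeA M ∨ A = Cfsg.typeA0 M) :
    Subgroup.normalizer A = M ∧ Cfsg.DadeHypothesis A M (Cfsg.supportR M) := by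
  obtain ⟨⟨K, hK⟩, hcyc⟩ := Cfsg.Agent.S1351.result hG M hM
  obtain ⟨⟨U, hKU⟩, -⟩ := Cfsg.Agent.Lib.Helper8.BG14K.s1352 hG M hM K (hcyc K hK) hK
  have hD := dade_bigA hG h36 hM hKU
  have key : ∀ A' : Set G, A' ⊆ bigA M K U → A'.Nonempty →
      (∀ m ∈ M, ∀ a ∈ A', m * a * m⁻¹ ∈ A') →
      Subgroup.normalizer A' = M ∧ Cfsg.DadeHypothesis A' M (Cfsg.supportR M) := by
    intro A' hsub hne hinv
    refine ⟨normalizer_eq_of_invariant hG hM (fun a ha => bigA_subset hKU (hsub ha))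
      (fun h => one_not_mem_bigA (hsub h)) hne hinv, dade_mono hD hsub hinv⟩
  rcases hA with rfl | rfl | rfl
  · exact key _ (typeA1_subset hG hM) (typeA1_nonempty hG hM) (fun m hm a ha => typeA1_conj hm ha)
  · exact key _ (typeA_subset hG hM hKU) (typeA_nonempty hG hM)
      (fun m hm a ha => typeA_conj hm ha)
  · exact key _ (typeA0_subset hG hM hKU) (typeA0_nonempty hG hM)
      (fun m hm a ha => typeA0_conj hm ha)

end Cfsg.Agent.Lib.Helper8.BG16S
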