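import Mathlib

/-!
Homomorphisms out of the generalised quaternion groups `QuaternionGroup n` from the defining relations,
and the recognition of a group `3² : Q₈` of order 72 from generators and relations (author: helper8).
-/

set_option autoImplicit false

namespace Cfsg.Agent.Lib.Helper8.Q8Ext

section lift

variable {H : Type*} [Group H] {n : ℕ} [NeZero n] (A B : H)

/-- powers of `A` indexed by `ZMod (2 * n)` -/
def P (i : ZMod (2 * n)) : H := A ^ i.val

variable {A B}

theorem P_add (hA : A ^ (2 * n) = 1) (i j : ZMod (2 * n)) : P A (i + j) = P A i * P A j := by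
  unfold P
  rw [ZMod.val_add, ← pow_eq_pow_mod _ hA, pow_add]

theorem P_sub (hA : A ^ (2 * n) = 1) (i j : ZMod (2 * n)) :
    P A (i - j) = P A i * (P A j)⁻¹ := by
  rw [eq_mul_inv_iff_mul_eq, ← P_add hA, sub_add_cancel]

theorem P_natCast (hA : A ^ (2 * n) = 1) (k : ℕ) : P A (k : ZMod (2 * n)) = A ^ k := by
  unfold P
  rw [ZMod.val_natCast, ← pow_eq_pow_mod _ hA]

theorem P_comm (i j : ZMod (2 * n)) : Commute (P A i) (P A j) := by
  unfold P
  exact (Commute.refl A).pow_pow _ _

theorem P_conj (hAB : B * A * B⁻¹ = A⁻¹) (i : ZMod (2 * n)) : P A i * B = B * (P A i)⁻¹ := by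
  unfold P
  have h : B * A⁻¹ * B⁻¹ = A := by
    have := congrArg (fun x => x⁻¹) hAB
    simpa [mul_assoc] using this
  have h2 : B * (A ^ i.val)⁻¹ * B⁻¹ = A ^ i.val := by
    rw [← inv_pow, ← conj_pow, h]
  calc A ^ i.val * B = (B * (A ^ i.val)⁻¹ * B⁻¹) * B := by rw [h2]
    _ = B * (A ^ i.val)⁻¹ := by group

/-- the map on the quaternion group -/
def liftFun (A B : H) : QuaternionGroup n → H
  | QuaternionGroup.a i => P A i
  | QuaternionGroup.xa i => B * P A i

/-- the homomorphism `QuaternionGroup n →* H` defined by elements satisfying the defining relations -/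
def lift (hA : A ^ (2 * n) = 1) (hB : B ^ 2 = A ^ n) (hAB : B * A * B⁻¹ = A⁻¹) :
    QuaternionGroup n →* H :=
  MonoidHom.mk' (liftFun A B) (by
    intro x y
    rcases x with i | i <;> rcases y with j | j
    · show P A (i + j) = P A i * P A j
      exact P_add hA i j
    · rw [QuaternionGroup.a_mul_xa]
      show B * P A (j - i) = P A i * (B * P A j)
      rw [P_sub hA, ← mul_assoc (P A i), P_conj hAB, mul_assoc, ((P_comm i j).inv_left).eq]
    · rw [QuaternionGroup.xa_mul_a]
      show B * P A (i + j) = B * P A i * P A j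
      rw [P_add hA, mul_assoc]
    · rw [QuaternionGroup.xa_mul_xa]
      show P A ((n : ZMod (2 * n)) + j - i) = B * P A i * (B * P A j)
      rw [P_sub hA, P_add hA, P_natCast hA, ← hB, mul_assoc B (P A i), ← mul_assoc (P A i),
        P_conj hAB, sq]
      simp only [mul_assoc]
      rw [((P_comm i j).inv_left).eq])

theorem lift_a (hA : A ^ (2 * n) = 1) (hB : B ^ 2 = A ^ n) (hAB : B * A * B⁻¹ = A⁻¹)
    (i : ZMod (2 * n)) : lift hA hB hAB (QuaternionGroup.a i) = A ^ i.val := rfl

theorem lift_xa (hA : A ^ (2 * n) = 1) (hB : B ^ 2 = A ^ n) (hAB : B * A * B⁻¹ = A⁻¹)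
    (i : ZMod (2 * n)) : lift hA hB hAB (QuaternionGroup.xa i) = B * A ^ i.val := rfl

end lift

section recog

theorem q8_min : ∀ x : QuaternionGroup 2, x ≠ 1 →
    x ^ 2 = QuaternionGroup.a 2 ∨ x = QuaternionGroup.a 2 := by decide

theorem card_q8 : Nat.card (QuaternionGroup 2) = 8 := by
  rw [Nat.card_eq_fintype_card, QuaternionGroup.card]

variable {G : Type*} [Group G]

/-- recognition of `3² : Q₈` inside a group of order 72 -/
theorem recog (hG : Nat.card G = 72) (n1 n2 a b : G)
    (h1 : n1 ^ 3 = 1) (h2 : n2 ^ 3 = 1) (hc : n1 * n2 = n2 * n1)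
    (hn1 : n1 ≠ 1) (hn2 : n2 ≠ 1) (hn2' : n2 ≠ n1) (hn2'' : n2 ≠ n1 ^ 2)
    (ha : a ^ 4 = 1) (hb : b ^ 2 = a ^ 2) (hab : b * a = a ^ 3 * b) (ha2 : a ^ 2 ≠ 1)
    (c1 : a * n1 * a⁻¹ ∈ Subgroup.closure ({n1, n2} : Set G))
    (c2 : a * n2 * a⁻¹ ∈ Subgroup.closure ({n1, n2} : Set G))
    (c3 : b * n1 * b⁻¹ ∈ Subgroup.closure ({n1, n2} : Set G))
    (c4 : b * n2 * b⁻¹ ∈ Subgroup.closure ({n1, n2} : Set G)) :
    ∃ (N : Subgroup G) (_ : N.Normal), Nat.card N = 9 ∧ (∀ x ∈ N, x ^ 3 = 1) ∧
      Nonempty (G ⧸ N ≃* QuaternionGroup 2) := by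
  have hfin : Finite G := Nat.finite_of_card_ne_zero (by rw [hG]; norm_num)
  have : Fact (Nat.Prime 3) := ⟨by norm_num⟩
  set N := Subgroup.closure ({n1, n2} : Set G) with hN
  have hn1N : n1 ∈ N := Subgroup.subset_closure (by simp)
  have hn2N : n2 ∈ N := Subgroup.subset_closure (by simp)
  have hcomm : IsMulCommutative N := Subgroup.isMulCommutative_closure (by
    intro x hx y hy
    rcases hx with rfl | rfl <;> rcases hy with rfl | rfl <;>
      first | rfl | exact hc | exact hc.symm)
  have hexp : ∀ x ∈ N, x ^ 3 = 1 := by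
    intro x hx
    refine Subgroup.closure_induction (p := fun x _ => x ^ 3 = 1) ?_ ?_ ?_ ?_ hx
    · intro y hy
      rcases hy with rfl | rfl <;> assumption
    · exact one_pow 3
    · intro x y hx hy ihx ihy
      have hxy : Commute x y := setLike_mul_comm hx hy
      rw [hxy.mul_pow, ihx, ihy, one_mul]
    · intro x _ ih
      rw [inv_pow, ih, inv_one]
  have hp : IsPGroup 3 N := fun g => ⟨1, by
    have := hexp g.1 g.2
    exact Subtype.ext (by simpa using this)⟩
  obtain ⟨k, hk⟩ := IsPGroup.iff_card.1 hp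
  have hdvd : Nat.card N ∣ 72 := hG ▸ Subgroup.card_subgroup_dvd_card N
  have o1 : orderOf n1 = 3 := orderOf_eq_prime h1 hn1
  have hz : Subgroup.zpowers n1 ≤ N := Subgroup.zpowers_le.2 hn1N
  have hzc : Nat.card (Subgroup.zpowers n1) = 3 := by rw [Nat.card_zpowers, o1]
  have hn2z : n2 ∉ Subgroup.zpowers n1 := by
    classical
    rw [mem_zpowers_iff_mem_range_orderOf, o1]
    intro hmem
    rw [Finset.mem_image] at hmem
    obtain ⟨j, hj, hj2⟩ := hmem
    rw [Finset.mem_range] at hj
    interval_cases j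
    · exact hn2 (by rw [← hj2, pow_zero])
    · exact hn2' (by rw [← hj2, pow_one])
    · exact hn2'' hj2.symm
  have hlt : 3 < Nat.card N := by
    by_contra hle
    have hle' : Nat.card N ≤ 3 := not_lt.1 hle
    have : Subgroup.zpowers n1 = N := Subgroup.eq_of_le_of_card_ge hz (by rw [hzc]; exact hle')
    exact hn2z (this ▸ hn2N)
  have hcard : Nat.card N = 9 := by
    rw [hk] at hdvd hlt ⊢
    have hk2 : k ≤ 2 := by
      by_contra h
      have h3 : 3 ≤ k := by omega
      have : 3 ^ 3 ∣ 72 := (pow_dvd_pow 3 h3).trans hdvd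
      omega
    interval_cases k <;> simp_all
  have hnorm : ∀ g : G, g * n1 * g⁻¹ ∈ N → g * n2 * g⁻¹ ∈ N →
      g ∈ Subgroup.normalizer (N : Set G) := by
    intro g g1 g2
    rw [Subgroup.mem_normalizer_iff_map_conj_eq]
    apply Subgroup.eq_of_le_of_card_ge
    · rw [hN, MonoidHom.map_closure, Subgroup.closure_le]
      rintro _ ⟨y, hy, rfl⟩
      rcases hy with rfl | rfl
      · exact g1
      · exact g2
    · rw [Subgroup.card_map_of_injective (MulAut.conj g).injective]
  have hab' : b * a * b⁻¹ = a⁻¹ := by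
    rw [hab, mul_inv_cancel_right]
    exact eq_inv_of_mul_eq_one_left (by rw [← pow_succ, ha])
  let f : QuaternionGroup 2 →* G := lift (n := 2) (A := a) (B := b) (by simpa using ha) hb hab'
  have fa : ∀ i : ZMod (2 * 2), f (QuaternionGroup.a i) = a ^ i.val := fun i => rfl
  have fxa : ∀ i : ZMod (2 * 2), f (QuaternionGroup.xa i) = b * a ^ i.val := fun i => rfl
  have v2 : (2 : ZMod (2 * 2)).val = 2 := rfl
  have finj : Function.Injective f := by
    rw [injective_iff_map_eq_one]
    intro x hx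
    by_contra hne
    have h2 : f (QuaternionGroup.a 2) = 1 := by
      rcases q8_min x hne with h | h
      · rw [← h, map_pow, hx, one_pow]
      · rw [← h, hx]
    rw [fa, v2] at h2
    exact ha2 h2
  set T := Subgroup.closure ({n1, n2, a, b} : Set G) with hT
  have haT : a ∈ T := Subgroup.subset_closure (by simp)
  have hbT : b ∈ T := Subgroup.subset_closure (by simp)
  have hNT : N ≤ T := Subgroup.closure_mono (by
    intro x hx
    rcases hx with rfl | rfl <;> simp)
  have hfT : f.range ≤ T := by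
    rintro _ ⟨x, rfl⟩
    rcases x with i | i
    · rw [fa]
      exact T.pow_mem haT _
    · rw [fxa]
      exact T.mul_mem hbT (T.pow_mem haT _)
  have h9 : 9 ∣ Nat.card T := hcard ▸ Subgroup.card_dvd_of_le hNT
  have h8 : 8 ∣ Nat.card T := by
    have hr : Nat.card f.range = 8 := by
      rw [← Nat.card_congr (MonoidHom.ofInjective finj).toEquiv, card_q8]
    exact hr ▸ Subgroup.card_dvd_of_le hfT
  have hTtop : T = ⊤ := by
    apply Subgroup.eq_top_of_card_eq
    have h72 : 72 ∣ Nat.card T :=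
      Nat.Coprime.mul_dvd_of_dvd_of_dvd (by norm_num : Nat.Coprime 9 8) h9 h8
    have hle : Nat.card T ∣ 72 := hG ▸ Subgroup.card_subgroup_dvd_card T
    rw [hG]
    exact Nat.dvd_antisymm hle h72
  have hNn : N.Normal := by
    rw [← Subgroup.normalizer_eq_top_iff, eq_top_iff, ← hTtop, hT, Subgroup.closure_le]
    intro x hx
    rcases hx with rfl | rfl | rfl | rfl
    · exact Subgroup.le_normalizer hn1N
    · exact Subgroup.le_normalizer hn2N
    · exact hnorm _ c1 c2
    · exact hnorm _ c3 c4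
  refine ⟨N, hNn, hcard, hexp, ?_⟩
  let θ : QuaternionGroup 2 →* G ⧸ N := (QuotientGroup.mk' N).comp f
  have θinj : Function.Injective θ := by
    rw [injective_iff_map_eq_one]
    intro x hx
    by_contra hne
    have h2 : θ (QuaternionGroup.a 2) = 1 := by
      rcases q8_min x hne with h | h
      · rw [← h, map_pow, hx, one_pow]
      · rw [← h, hx]
    have h3 : a ^ 2 ∈ N := by
      have h5 : f (QuaternionGroup.a 2) ∈ N := (QuotientGroup.eq_one_iff _).1 h2
      rw [fa, v2] at h5
      exact h5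
    have h4 := hexp _ h3
    apply ha2
    have h6 : a ^ 6 = 1 := by rw [← h4, ← pow_mul]
    calc a ^ 2 = a ^ 6 * (a ^ 4)⁻¹ := by group
      _ = 1 := by rw [h6, ha, inv_one, one_mul]
  have hcq : Nat.card (G ⧸ N) = 8 := by
    have := Subgroup.card_eq_card_quotient_mul_card_subgroup N
    rw [hG, hcard] at this
    omega
  have θbij : Function.Bijective θ :=
    θinj.bijective_of_nat_card_le (by rw [hcq, card_q8])
  exact ⟨(MulEquiv.ofBijective θ θbij).symm⟩

end recog

end Cfsg.Agent.Lib.Helper8.Q8Ext
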