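import Mathlib

set_option autoImplicit false

/-! Stem extensions of metacyclic groups `⟨a, b⟩` with `b a b⁻¹ = a ^ r` (for S3967). -/

namespace Cfsg.Agent.Lib.Helper8.Beyl

open Subgroup

section gens
variable {Γ : Type*} [Group Γ]

/-- if generators commute modulo the normal subgroup `N`, the derived group lies in `N` -/
lemma commutator_le_of_gens (S : Set Γ) (hS : closure S = ⊤) (N : Subgroup Γ) [N.Normal]
    (h : ∀ x ∈ S, ∀ y ∈ S, x * y * x⁻¹ * y⁻¹ ∈ N) : commutator Γ ≤ N := by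
  rw [← Subgroup.Normal.quotient_commutative_iff_commutator_le]
  have key : ∀ x y : Γ, Commute (x : Γ ⧸ N) (y : Γ ⧸ N) := by
    intro x y
    have hx : x ∈ closure S := by rw [hS]; trivial
    have hy : y ∈ closure S := by rw [hS]; trivial
    induction hx, hy using closure_induction₂ with
    | mem x y hx hy =>
        have h1 := h x hx y hy
        rw [← QuotientGroup.eq_one_iff] at h1
        simp only [QuotientGroup.mk_mul, QuotientGroup.mk_inv] at h1
        show (x : Γ ⧸ N) * (y : Γ ⧸ N) = (y : Γ ⧸ N) * (x : Γ ⧸ N)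
        calc (x : Γ ⧸ N) * (y : Γ ⧸ N)
            = ((x : Γ ⧸ N) * (y : Γ ⧸ N) * (x : Γ ⧸ N)⁻¹ * (y : Γ ⧸ N)⁻¹) * ((y : Γ ⧸ N) * (x : Γ ⧸ N)) := by
              group
          _ = (y : Γ ⧸ N) * (x : Γ ⧸ N) := by rw [h1, one_mul]
    | one_left x hx => rw [QuotientGroup.mk_one]; exact Commute.one_left _
    | one_right x hx => rw [QuotientGroup.mk_one]; exact Commute.one_right _
    | mul_left x y z hx hy hz h1 h2 => rw [QuotientGroup.mk_mul]; exact h1.mul_left h2
    | mul_right y z x hy hz hx h1 h2 => rw [QuotientGroup.mk_mul]; exact h1.mul_right h2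
    | inv_left x y hx hy h1 => rw [QuotientGroup.mk_inv]; exact h1.inv_left
    | inv_right x y hx hy h1 => rw [QuotientGroup.mk_inv]; exact h1.inv_right
  refine ⟨⟨fun p q => ?_⟩⟩
  obtain ⟨x, rfl⟩ := QuotientGroup.mk_surjective p
  obtain ⟨y, rfl⟩ := QuotientGroup.mk_surjective q
  exact key x y

end gens

section stem
variable {Γ G : Type*} [Group Γ] [Group G] (σ : Γ →* G)

/-- `Γ = ⟨A, B⟩ ker σ` -/
lemma closure_lifts_ker (A B : Γ) (hgen : closure {σ A, σ B} = ⊤) :
    closure (({A, B} : Set Γ) ∪ (σ.ker : Set Γ)) = ⊤ := by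
  rw [eq_top_iff]
  intro g _
  have h1 : σ g ∈ closure {σ A, σ B} := by rw [hgen]; trivial
  have h2 : closure {σ A, σ B} = (closure ({A, B} : Set Γ)).map σ := by
    rw [MonoidHom.map_closure, Set.image_pair]
  rw [h2] at h1
  obtain ⟨w, hw, hwg⟩ := h1
  have h3 : w⁻¹ * g ∈ σ.ker := by
    rw [MonoidHom.mem_ker, map_mul, map_inv, hwg, inv_mul_cancel]
  have e : g = w * (w⁻¹ * g) := by group
  rw [e]
  apply mul_mem
  · exact closure_mono Set.subset_union_left hw
  · exact subset_closure (Set.mem_union_right _ h3)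

/-- **Stem extensions of `⟨a, b⟩` with `b a b⁻¹ = a ^ r`, `b ^ n ∈ ⟨a⟩`**: the kernel lies in `⟨c⟩`,
`c = [B, A]`, and `c` is killed by the obvious exponents. -/
theorem stem_meta (hcen : σ.ker ≤ center Γ) (hcomm : σ.ker ≤ commutator Γ) (A B : Γ)
    (hgen : closure {σ A, σ B} = ⊤) (r n : ℕ) (hn : 0 < n)
    (hconj : σ (B * A * B⁻¹) = (σ A) ^ r)
    (hBn : σ (B ^ n) ∈ zpowers (σ A)) :
    σ.ker ≤ zpowers (B * A * B⁻¹ * A⁻¹) ∧
    (∀ s : ℕ, B * A ^ s * B⁻¹ = A ^ s → (B * A * B⁻¹ * A⁻¹) ^ s = 1) ∧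
    (B * A * B⁻¹ * A⁻¹) ^ (∑ i ∈ Finset.range n, r ^ i) = 1 := by
  obtain ⟨c, hcdef⟩ : ∃ c, c = B * A * B⁻¹ * A⁻¹ := ⟨_, rfl⟩
  rw [← hcdef]
  -- the central element `z3`
  obtain ⟨z, hzdef⟩ : ∃ z, z = B * A * B⁻¹ * (A ^ r)⁻¹ := ⟨_, rfl⟩
  have hzker : z ∈ σ.ker := by
    rw [MonoidHom.mem_ker, hzdef, map_mul, hconj, map_inv, map_pow, mul_inv_cancel]
  have hzc : ∀ g : Γ, g * z = z * g := fun g => mem_center_iff.1 (hcen hzker) g
  have hBA : B * A * B⁻¹ = c * A := by rw [hcdef]; group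
  have hBAz : B * A * B⁻¹ = z * A ^ r := by rw [hzdef]; group
  have hcz : c = z * A ^ r * A⁻¹ := by rw [hcdef, hBAz]
  have hcA : Commute c A := by
    show c * A = A * c
    rw [← hBA, hcz, hBAz]
    calc z * A ^ r = A * (A ^ r * A⁻¹) * z := by
          rw [← hzc]
          congr 1
          group
      _ = A * (z * A ^ r * A⁻¹) := by
          rw [mul_assoc A, hzc, mul_assoc z]
  have hcz' : Commute c z := (hzc c)
  have hAz : Commute A z := hzc A
  -- conjugates of powers of `A`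
  have hpowA : ∀ s : ℕ, B * A ^ s * B⁻¹ = c ^ s * A ^ s := by
    intro s
    rw [← conj_pow, hBA, hcA.mul_pow]
  -- `B c B⁻¹ = c ^ r`
  have hBc : B * c * B⁻¹ = c ^ r := by
    have h1 : B * c * B⁻¹ = (B * z * B⁻¹) * (B * A ^ r * B⁻¹) * (B * A * B⁻¹)⁻¹ := by
      rw [hcz]; group
    have h2 : B * z * B⁻¹ = z := by rw [hzc B]; group
    rw [h1, h2, hpowA, hBA, mul_inv_rev]
    have h3 : z * (c ^ r * A ^ r) * (A⁻¹ * c⁻¹) = c ^ r * (z * A ^ r * A⁻¹) * c⁻¹ := by
      have : z * c ^ r = c ^ r * z := ((hcz'.pow_left r).eq).symm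
      calc z * (c ^ r * A ^ r) * (A⁻¹ * c⁻¹) = (z * c ^ r) * A ^ r * A⁻¹ * c⁻¹ := by group
        _ = (c ^ r * z) * A ^ r * A⁻¹ * c⁻¹ := by rw [this]
        _ = c ^ r * (z * A ^ r * A⁻¹) * c⁻¹ := by group
    rw [h3, ← hcz, mul_assoc, mul_inv_cancel, mul_one]
  have hBcpow : ∀ j : ℕ, B * c ^ j * B⁻¹ = c ^ (r * j) := by
    intro j
    rw [← conj_pow, hBc, ← pow_mul]
  -- claim 2
  have hcl2 : ∀ s : ℕ, B * A ^ s * B⁻¹ = A ^ s → c ^ s = 1 := by
    intro s hs
    rw [hpowA] at hs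
    exact mul_eq_right.1 hs
  -- iterated conjugation
  have hiter : ∀ k : ℕ, B ^ k * A * (B ^ k)⁻¹ = c ^ (∑ i ∈ Finset.range k, r ^ i) * A := by
    intro k
    induction k with
    | zero => simp
    | succ k ih =>
      have h1 : B ^ (k + 1) * A * (B ^ (k + 1))⁻¹ = B * (B ^ k * A * (B ^ k)⁻¹) * B⁻¹ := by
        rw [pow_succ']; group
      rw [h1, ih]
      have h2 : B * (c ^ (∑ i ∈ Finset.range k, r ^ i) * A) * B⁻¹ =
          (B * c ^ (∑ i ∈ Finset.range k, r ^ i) * B⁻¹) * (B * A * B⁻¹) := by group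
      rw [h2, hBcpow, hBA, ← mul_assoc, ← pow_succ]
      congr 2
      rw [Finset.sum_range_succ', Finset.mul_sum]
      simp only [pow_succ', pow_zero]
  -- `B ^ n` commutes with `A`
  obtain ⟨j, hj⟩ := hBn
  have hz2 : B ^ n * (A ^ j)⁻¹ ∈ σ.ker := by
    rw [MonoidHom.mem_ker, map_mul, map_inv, map_zpow]
    rw [← hj]; exact mul_inv_cancel _
  have hBnA : Commute (B ^ n) A := by
    have h1 : B ^ n = (B ^ n * (A ^ j)⁻¹) * A ^ j := by group
    rw [h1]
    apply Commute.mul_left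
    · exact (mem_center_iff.1 (hcen hz2) A).symm
    · exact (Commute.refl A).zpow_left j
  have hcl3 : c ^ (∑ i ∈ Finset.range n, r ^ i) = 1 := by
    have h1 := hiter n
    have h2 : B ^ n * A * (B ^ n)⁻¹ = A := by rw [hBnA.eq]; group
    rw [h2] at h1
    exact mul_eq_right.1 h1.symm
  refine ⟨?_, hcl2, hcl3⟩
  -- `B ^ n` commutes with `c`
  have hBnc : Commute (B ^ n) c := by
    rw [hcdef]
    have hB : Commute (B ^ n) B := (Commute.refl B).pow_left n
    exact ((hB.mul_right hBnA).mul_right hB.inv_right).mul_right hBnA.inv_right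
  have hiterc : ∀ k : ℕ, B ^ k * c * (B ^ k)⁻¹ = c ^ (r ^ k) := by
    intro k
    induction k with
    | zero => simp
    | succ k ih =>
      have h1 : B ^ (k + 1) * c * (B ^ (k + 1))⁻¹ = B * (B ^ k * c * (B ^ k)⁻¹) * B⁻¹ := by
        rw [pow_succ']; group
      rw [h1, ih, hBcpow, pow_succ']
  have hBinvc : B⁻¹ * c * B = c ^ (r ^ (n - 1)) := by
    obtain ⟨n', rfl⟩ : ∃ n', n = n' + 1 := ⟨n - 1, by omega⟩
    have h1 : B⁻¹ * c * B = B ^ n' * ((B ^ (n' + 1))⁻¹ * c * B ^ (n' + 1)) * (B ^ n')⁻¹ := by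
      rw [pow_succ']; group
    have h2 : (B ^ (n' + 1))⁻¹ * c * B ^ (n' + 1) = c := by
      rw [mul_assoc, ← hBnc.eq]; group
    rw [h1, h2, hiterc]
    simp
  -- `⟨c⟩` is normal
  have hgenΓ := closure_lifts_ker σ A B hgen
  have hNn : (zpowers c).Normal := by
    rw [← normalizer_eq_top_iff, eq_top_iff, ← hgenΓ, closure_le]
    have hmem : ∀ g : Γ, g * c * g⁻¹ ∈ zpowers c → g⁻¹ * c * g ∈ zpowers c →
        g ∈ normalizer (zpowers c : Set Γ) := by
      intro g h1 h2
      rw [mem_normalizer_iff]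
      intro x
      constructor
      · rintro ⟨i, rfl⟩
        show g * c ^ i * g⁻¹ ∈ _
        rw [← conj_zpow]
        exact zpow_mem h1 i
      · intro hx
        obtain ⟨i, hi⟩ := hx
        have : x = (g⁻¹ * c * g) ^ i := by
          have e : g⁻¹ * c * g = g⁻¹ * c * g⁻¹⁻¹ := by rw [inv_inv]
          have hi' : c ^ i = g * x * g⁻¹ := hi
          rw [e, conj_zpow, hi']; group
        rw [this]
        exact zpow_mem h2 i
    rintro t (ht | ht)
    · rcases ht with rfl | rfl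
      · apply hmem
        · rw [← hcA.eq]; simp [mem_zpowers]
        · have : t⁻¹ * c * t = c := by rw [mul_assoc, hcA.eq]; group
          rw [this]; exact mem_zpowers c
      · apply hmem
        · rw [hBc]; exact pow_mem (mem_zpowers c) _
        · rw [hBinvc]; exact pow_mem (mem_zpowers c) _
    · have htc : ∀ g : Γ, g * t = t * g := fun g => mem_center_iff.1 (hcen ht) g
      apply hmem
      · have : t * c * t⁻¹ = c := by rw [← htc c]; group
        rw [this]; exact mem_zpowers c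
      · have : t⁻¹ * c * t = c := by rw [mul_assoc, htc c]; group
        rw [this]; exact mem_zpowers c
  -- the derived group lies in `⟨c⟩`
  have hder : commutator Γ ≤ zpowers c := by
    apply commutator_le_of_gens _ hgenΓ
    have hcen' : ∀ t ∈ (σ.ker : Set Γ), ∀ y : Γ, t * y * t⁻¹ * y⁻¹ ∈ zpowers c ∧
        y * t * y⁻¹ * t⁻¹ ∈ zpowers c := by
      intro t ht y
      have htc : ∀ g : Γ, g * t = t * g := fun g => mem_center_iff.1 (hcen ht) g
      have e1 : t * y * t⁻¹ * y⁻¹ = 1 := by rw [← htc y]; group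
      have e2 : y * t * y⁻¹ * t⁻¹ = 1 := by rw [htc y]; group
      rw [e1, e2]
      exact ⟨one_mem _, one_mem _⟩
    rintro x (hx | hx) y (hy | hy)
    · rcases hx with rfl | rfl <;> rcases hy with rfl | rfl
      · simp
      · have : x * y * x⁻¹ * y⁻¹ = c⁻¹ := by rw [hcdef]; group
        rw [this]; exact inv_mem (mem_zpowers c)
      · rw [← hcdef]; exact mem_zpowers c
      · simp
    · exact (hcen' y hy x).2
    · exact (hcen' x hx y).1
    · exact (hcen' x hx y).1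
  exact hcomm.trans hder

end stem

end Cfsg.Agent.Lib.Helper8.Beyl
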