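import Mathlib

set_option autoImplicit false

/-! Concrete model of the metacyclic group `⟨a, b | a^M, b a b⁻¹ = a^u, b^n = a^T⟩` (for S3967):
the quotient of `ZMod M ⋊ ℤ` by the central cyclic subgroup generated by `(-T, n)`. -/

namespace Cfsg.Agent.Lib.Helper8.Beyl

/-- semidirect product `ZMod M ⋊ ℤ`, `1 : ℤ` acting as multiplication by the unit `u` -/
@[ext] structure MS (M : ℕ) (u : (ZMod M)ˣ) where
  x : ZMod M
  k : ℤ

/-- `u ^ k` as an element of `ZMod M` -/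
def pw {M : ℕ} (u : (ZMod M)ˣ) (k : ℤ) : ZMod M := ((u ^ k : (ZMod M)ˣ) : ZMod M)

section pw
variable {M : ℕ} (u : (ZMod M)ˣ)

lemma pw_zero : pw u 0 = 1 := by simp [pw]
lemma pw_add (k l : ℤ) : pw u (k + l) = pw u k * pw u l := by simp [pw, zpow_add]
lemma pw_neg_mul (k : ℤ) : pw u (-k) * pw u k = 1 := by rw [← pw_add, neg_add_cancel, pw_zero]
lemma pw_mul_neg (k : ℤ) : pw u k * pw u (-k) = 1 := by rw [← pw_add, add_neg_cancel, pw_zero]
lemma pw_one : pw u 1 = (u : ZMod M) := by simp [pw]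
lemma pw_neg_one : pw u (-1) = ((u⁻¹ : (ZMod M)ˣ) : ZMod M) := by simp [pw]

lemma pw_mul_nat (n : ℕ) (hun : u ^ n = 1) (j : ℤ) : pw u (j * n) = 1 := by
  unfold pw
  rw [zpow_mul', zpow_natCast, hun, one_zpow, Units.val_one]

lemma pw_mul_fix (T : ZMod M) (huT : (u : ZMod M) * T = T) (k : ℤ) : pw u k * T = T := by
  have h1 : pw u (-1) * T = T := by
    calc pw u (-1) * T = pw u (-1) * (pw u 1 * T) := by rw [pw_one, huT]
      _ = (pw u (-1) * pw u 1) * T := by ring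
      _ = T := by rw [pw_neg_mul, one_mul]
  induction k using Int.induction_on with
  | zero => rw [pw_zero, one_mul]
  | succ i ih => rw [pw_add, pw_one, mul_assoc, huT, ih]
  | pred i ih => rw [sub_eq_add_neg, pw_add, mul_assoc, h1, ih]

end pw

namespace MS
variable {M : ℕ} {u : (ZMod M)ˣ}

instance : Mul (MS M u) := ⟨fun p q => ⟨p.x + pw u p.k * q.x, p.k + q.k⟩⟩
instance : One (MS M u) := ⟨⟨0, 0⟩⟩
instance : Inv (MS M u) := ⟨fun p => ⟨-(pw u (-p.k) * p.x), -p.k⟩⟩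

@[simp] lemma mul_x (p q : MS M u) : (p * q).x = p.x + pw u p.k * q.x := rfl
@[simp] lemma mul_k (p q : MS M u) : (p * q).k = p.k + q.k := rfl
@[simp] lemma one_x : (1 : MS M u).x = 0 := rfl
@[simp] lemma one_k : (1 : MS M u).k = 0 := rfl
@[simp] lemma inv_x (p : MS M u) : (p⁻¹).x = -(pw u (-p.k) * p.x) := rfl
@[simp] lemma inv_k (p : MS M u) : (p⁻¹).k = -p.k := rfl

instance : Group (MS M u) := Group.ofLeftAxioms
  (by
    intro a b c
    ext
    · simp only [mul_x, mul_k, pw_add]; ring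
    · simp only [mul_k]; ring)
  (by
    intro a
    ext
    · simp only [mul_x, one_x, one_k, pw_zero]; ring
    · simp only [mul_k, one_k]; ring)
  (by
    intro a
    ext
    · simp only [mul_x, inv_x, inv_k, one_x]; ring
    · simp only [mul_k, inv_k, one_k]; ring)

lemma pow_a (j : ℕ) : (⟨1, 0⟩ : MS M u) ^ j = ⟨(j : ZMod M), 0⟩ := by
  induction j with
  | zero => rw [pow_zero]; ext <;> simp
  | succ j ih =>
    rw [pow_succ, ih]
    ext
    · simp only [mul_x, pw_zero]; push_cast; ring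
    · simp only [mul_k]; ring

lemma zpow_b (k : ℤ) : (⟨0, 1⟩ : MS M u) ^ k = ⟨0, k⟩ := by
  induction k using Int.induction_on with
  | zero => rw [zpow_zero]; ext <;> simp
  | succ i ih =>
    rw [zpow_add_one, ih]
    ext
    · simp only [mul_x]; ring
    · simp only [mul_k]
  | pred i ih =>
    rw [zpow_sub_one, ih]
    ext
    · simp only [mul_x, inv_x]; ring
    · simp only [mul_k, inv_k]; ring

lemma eq_a_b [NeZero M] (g : MS M u) : g = (⟨1, 0⟩ : MS M u) ^ g.x.val * (⟨0, 1⟩ : MS M u) ^ g.k := by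
  rw [pow_a, zpow_b]
  ext
  · simp only [mul_x, ZMod.natCast_zmod_val]; ring
  · simp only [mul_k]; ring

end MS

/-- parameters of a metacyclic group with cyclic normal subgroup of order `M` -/
structure Par (M : ℕ) where
  u : (ZMod M)ˣ
  T : ZMod M
  n : ℕ
  hn : 0 < n
  hun : u ^ n = 1
  huT : (u : ZMod M) * T = T

section model
variable {M : ℕ} (P : Par M)

/-- the central subgroup generated by `(-T, n)` -/
def W : Subgroup (MS M P.u) where
  carrier := {g | ∃ j : ℤ, g.x = -((j : ZMod M) * P.T) ∧ g.k = j * P.n}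
  one_mem' := ⟨0, by simp, by simp⟩
  mul_mem' := by
    rintro a b ⟨i, hi1, hi2⟩ ⟨j, hj1, hj2⟩
    refine ⟨i + j, ?_, ?_⟩
    · rw [MS.mul_x, hi1, hi2, hj1, pw_mul_nat P.u P.n P.hun]; push_cast; ring
    · rw [MS.mul_k, hi2, hj2]; ring
  inv_mem' := by
    rintro a ⟨i, hi1, hi2⟩
    refine ⟨-i, ?_, ?_⟩
    · rw [MS.inv_x, hi1, hi2]
      have : -(i * (P.n : ℤ)) = (-i) * P.n := by ring
      rw [this, pw_mul_nat P.u P.n P.hun]; push_cast; ring
    · rw [MS.inv_k, hi2]; ring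

lemma mem_W (g : MS M P.u) : g ∈ W P ↔ ∃ j : ℤ, g.x = -((j : ZMod M) * P.T) ∧ g.k = j * P.n := Iff.rfl

instance : (W P).Normal := by
  constructor
  rintro w ⟨j, hj1, hj2⟩ g
  refine ⟨j, ?_, ?_⟩
  · simp only [MS.mul_x, MS.mul_k, MS.inv_x, hj1, hj2, pw_add, pw_mul_nat P.u P.n P.hun]
    have h1 := pw_mul_neg P.u g.k
    have h2 := pw_mul_fix P.u P.T P.huT g.k
    linear_combination (-g.x) * h1 + (-(j : ZMod M)) * h2
  · simp only [MS.mul_k, MS.inv_k, hj2]; ring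

/-- the metacyclic group -/
abbrev Gm : Type := MS M P.u ⧸ W P

/-- the generator of the cyclic normal subgroup -/
def al : Gm P := QuotientGroup.mk ⟨1, 0⟩
/-- the other generator -/
def be : Gm P := QuotientGroup.mk ⟨0, 1⟩

lemma mk_eq_al_be [NeZero M] (g : MS M P.u) :
    (QuotientGroup.mk g : Gm P) = al P ^ g.x.val * be P ^ g.k := by
  conv_lhs => rw [MS.eq_a_b g]
  rfl

lemma al_pow (j : ℕ) : al P ^ j = QuotientGroup.mk ⟨(j : ZMod M), 0⟩ := by
  unfold al
  rw [← QuotientGroup.mk_pow, MS.pow_a]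

lemma mk_x0_eq_one_iff (x : ZMod M) : (QuotientGroup.mk ⟨x, 0⟩ : Gm P) = 1 ↔ x = 0 := by
  rw [QuotientGroup.eq_one_iff, mem_W]
  constructor
  · rintro ⟨j, hj1, hj2⟩
    have hn : (P.n : ℤ) ≠ 0 := by have := P.hn; positivity
    have hj : j = 0 := by
      rcases mul_eq_zero.1 hj2.symm with h | h
      · exact h
      · exact absurd h hn
    have hj1' : x = -((j : ZMod M) * P.T) := hj1
    rw [hj1', hj]; simp
  · rintro rfl
    exact ⟨0, by simp, by simp⟩

lemma al_pow_eq_one_iff (j : ℕ) : al P ^ j = 1 ↔ M ∣ j := by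
  rw [al_pow, mk_x0_eq_one_iff, ZMod.natCast_eq_zero_iff]

lemma orderOf_al [NeZero M] : orderOf (al P) = M := by
  apply Nat.dvd_antisymm
  · exact orderOf_dvd_of_pow_eq_one ((al_pow_eq_one_iff P M).2 dvd_rfl)
  · exact (al_pow_eq_one_iff P _).1 (pow_orderOf_eq_one _)

lemma al_pow_M : al P ^ M = 1 := (al_pow_eq_one_iff P M).2 dvd_rfl

lemma be_al (R : ℕ) (hR : (R : ZMod M) = P.u) : be P * al P * (be P)⁻¹ = al P ^ R := by
  rw [al_pow]
  unfold al be
  rw [← QuotientGroup.mk_mul, ← QuotientGroup.mk_inv, ← QuotientGroup.mk_mul]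
  congr 1
  ext
  · simp only [MS.mul_x, MS.mul_k, MS.inv_x, pw_one, hR]; ring
  · simp only [MS.mul_k, MS.inv_k]; ring

lemma mk_mul_W (g w : MS M P.u) (hw : w ∈ W P) :
    (QuotientGroup.mk (g * w) : Gm P) = QuotientGroup.mk g :=
  QuotientGroup.mk_mul_of_mem g hw

lemma be_pow_n (T' : ℕ) (hT : (T' : ZMod M) = P.T) : be P ^ P.n = al P ^ T' := by
  rw [al_pow]
  unfold be
  rw [← QuotientGroup.mk_pow, ← zpow_natCast, MS.zpow_b, hT]
  have h1 : (⟨0, (P.n : ℤ)⟩ : MS M P.u) = ⟨P.T, 0⟩ * ⟨-P.T, P.n⟩ := by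
    ext
    · simp only [MS.mul_x, pw_zero]; ring
    · simp only [MS.mul_k]; ring
  rw [h1]
  apply mk_mul_W
  exact ⟨1, by simp, by simp⟩

instance [NeZero M] : Finite (Gm P) := by
  have hn : (0 : ℤ) < P.n := by have := P.hn; positivity
  apply Finite.of_surjective
    (fun p : ZMod M × Set.Ico (0 : ℤ) P.n => (QuotientGroup.mk ⟨p.1, p.2.1⟩ : Gm P))
  intro q
  obtain ⟨g, rfl⟩ := QuotientGroup.mk_surjective q
  refine ⟨(g.x + ((g.k / P.n : ℤ) : ZMod M) * P.T,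
    ⟨g.k % P.n, Int.emod_nonneg _ hn.ne', Int.emod_lt_of_pos _ hn⟩), ?_⟩
  show (QuotientGroup.mk ⟨g.x + ((g.k / P.n : ℤ) : ZMod M) * P.T, g.k % P.n⟩ : Gm P) = _
  have h1 : g = (⟨g.x + ((g.k / P.n : ℤ) : ZMod M) * P.T, g.k % P.n⟩ : MS M P.u) *
      ⟨-(((g.k / P.n : ℤ) : ZMod M) * P.T), (g.k / P.n) * P.n⟩ := by
    ext
    · simp only [MS.mul_x]
      have h2 := pw_mul_fix P.u P.T P.huT (g.k % P.n)
      linear_combination (((g.k / P.n : ℤ) : ZMod M)) * h2
    · simp only [MS.mul_k]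
      have := Int.emod_add_mul_ediv g.k P.n
      linarith
  conv_rhs => rw [h1]
  symm
  apply mk_mul_W
  exact ⟨g.k / P.n, rfl, rfl⟩

end model

end Cfsg.Agent.Lib.Helper8.Beyl
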