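import Cfsg.Agent.Lib.Helper8.Beyl2

set_option autoImplicit false

/-! Universal property of the metacyclic model `Gm P`, and the kernel of the natural maps. -/

namespace Cfsg.Agent.Lib.Helper8.Beyl

section epow
variable {M : ℕ} [NeZero M] {H : Type*} [Group H]

/-- `x ↦ a ^ x` on `ZMod M` -/
def ePow (a : H) (x : ZMod M) : H := a ^ x.val

lemma ePow_add (a : H) (ha : a ^ M = 1) (x y : ZMod M) :
    ePow a (x + y) = ePow a x * ePow a y := by
  unfold ePow
  rw [ZMod.val_add, ← pow_eq_pow_mod _ ha, pow_add]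

omit [NeZero M] in
lemma ePow_natCast (a : H) (ha : a ^ M = 1) (j : ℕ) : ePow a (j : ZMod M) = a ^ j := by
  unfold ePow
  rw [ZMod.val_natCast, ← pow_eq_pow_mod _ ha]

omit [NeZero M] in
lemma ePow_zero (a : H) : ePow a (0 : ZMod M) = 1 := by simp [ePow]

lemma ePow_neg (a : H) (ha : a ^ M = 1) (x : ZMod M) : ePow a (-x) = (ePow a x)⁻¹ := by
  rw [eq_inv_iff_mul_eq_one, ← ePow_add a ha, neg_add_cancel, ePow_zero]

/-- `ePow` as a homomorphism -/
def eHom (a : H) (ha : a ^ M = 1) : Multiplicative (ZMod M) →* H :=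
  MonoidHom.mk' (fun x => ePow a (Multiplicative.toAdd x)) (by
    intro x y
    exact ePow_add a ha _ _)

lemma ePow_intCast_mul (a : H) (ha : a ^ M = 1) (j : ℤ) (x : ZMod M) :
    ePow a ((j : ZMod M) * x) = (ePow a x) ^ j := by
  have h := map_zpow (eHom a ha) (Multiplicative.ofAdd x) j
  rw [← ofAdd_zsmul, zsmul_eq_mul] at h
  exact h

end epow

section lift
variable {M : ℕ} [NeZero M] {H : Type*} [Group H] (P : Par M) (a b : H) (R T' : ℕ)

lemma conj_ePow_one (ha : a ^ M = 1) (hR : (R : ZMod M) = P.u) (hab : b * a * b⁻¹ = a ^ R)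
    (x : ZMod M) : b * ePow a x * b⁻¹ = ePow a ((P.u : ZMod M) * x) := by
  have h1 : ((P.u : ZMod M) * x) = ((R * x.val : ℕ) : ZMod M) := by
    push_cast; rw [hR, ZMod.natCast_zmod_val]
  rw [h1, ePow_natCast a ha]
  unfold ePow
  rw [← conj_pow, hab, ← pow_mul]

lemma conj_ePow (ha : a ^ M = 1) (hR : (R : ZMod M) = P.u) (hab : b * a * b⁻¹ = a ^ R)
    (k : ℤ) : ∀ x : ZMod M, b ^ k * ePow a x * (b ^ k)⁻¹ = ePow a (pw P.u k * x) := by
  have c1 := conj_ePow_one P a b R ha hR hab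
  have c1' : ∀ x : ZMod M, b⁻¹ * ePow a x * b = ePow a (pw P.u (-1) * x) := by
    intro x
    have h := c1 (pw P.u (-1) * x)
    have e : (P.u : ZMod M) * (pw P.u (-1) * x) = x := by
      rw [← mul_assoc, ← pw_one, pw_mul_neg, one_mul]
    rw [e] at h
    rw [← h]; group
  induction k using Int.induction_on with
  | zero => intro x; simp [pw_zero]
  | succ i ih =>
    intro x
    have h1 : b ^ ((i : ℤ) + 1) * ePow a x * (b ^ ((i : ℤ) + 1))⁻¹ =
        b ^ (i : ℤ) * (b * ePow a x * b⁻¹) * (b ^ (i : ℤ))⁻¹ := by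
      rw [zpow_add_one]; group
    rw [h1, c1, ih, pw_add, pw_one, mul_assoc]
  | pred i ih =>
    intro x
    have h1 : b ^ (-(i : ℤ) - 1) * ePow a x * (b ^ (-(i : ℤ) - 1))⁻¹ =
        b ^ (-(i : ℤ)) * (b⁻¹ * ePow a x * b) * (b ^ (-(i : ℤ)))⁻¹ := by
      rw [zpow_sub_one]; group
    rw [h1, c1', ih, sub_eq_add_neg, pw_add, mul_assoc]

/-- the homomorphism from the semidirect product -/
def liftS (ha : a ^ M = 1) (hR : (R : ZMod M) = P.u) (hab : b * a * b⁻¹ = a ^ R) :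
    MS M P.u →* H :=
  MonoidHom.mk' (fun g => ePow a g.x * b ^ g.k) (by
    intro p q
    show ePow a (p.x + pw P.u p.k * q.x) * b ^ (p.k + q.k) =
      ePow a p.x * b ^ p.k * (ePow a q.x * b ^ q.k)
    rw [ePow_add a ha, ← conj_ePow P a b R ha hR hab, zpow_add]
    group)

lemma liftS_apply (ha : a ^ M = 1) (hR : (R : ZMod M) = P.u) (hab : b * a * b⁻¹ = a ^ R)
    (g : MS M P.u) : liftS P a b R ha hR hab g = ePow a g.x * b ^ g.k := rfl

lemma W_le_ker (ha : a ^ M = 1) (hR : (R : ZMod M) = P.u) (hab : b * a * b⁻¹ = a ^ R)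
    (hT : (T' : ZMod M) = P.T) (hb : b ^ P.n = a ^ T') :
    W P ≤ (liftS P a b R ha hR hab).ker := by
  rintro g ⟨j, hj1, hj2⟩
  rw [MonoidHom.mem_ker, liftS_apply, hj1, hj2, ePow_neg a ha, ePow_intCast_mul a ha, ← hT,
    ePow_natCast a ha, ← hb, zpow_mul', zpow_natCast, inv_mul_cancel]

/-- **universal property** of the metacyclic model -/
def lift (ha : a ^ M = 1) (hR : (R : ZMod M) = P.u) (hab : b * a * b⁻¹ = a ^ R)
    (hT : (T' : ZMod M) = P.T) (hb : b ^ P.n = a ^ T') : Gm P →* H :=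
  QuotientGroup.lift (W P) (liftS P a b R ha hR hab) (W_le_ker P a b R T' ha hR hab hT hb)

lemma lift_al (ha : a ^ M = 1) (hR : (R : ZMod M) = P.u) (hab : b * a * b⁻¹ = a ^ R)
    (hT : (T' : ZMod M) = P.T) (hb : b ^ P.n = a ^ T') :
    lift P a b R T' ha hR hab hT hb (al P) = a := by
  show liftS P a b R ha hR hab ⟨1, 0⟩ = a
  rw [liftS_apply]
  show ePow a (1 : ZMod M) * b ^ (0 : ℤ) = a
  rw [zpow_zero, mul_one, ← Nat.cast_one, ePow_natCast a ha, pow_one]

lemma lift_be (ha : a ^ M = 1) (hR : (R : ZMod M) = P.u) (hab : b * a * b⁻¹ = a ^ R)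
    (hT : (T' : ZMod M) = P.T) (hb : b ^ P.n = a ^ T') :
    lift P a b R T' ha hR hab hT hb (be P) = b := by
  show liftS P a b R ha hR hab ⟨0, 1⟩ = b
  rw [liftS_apply]
  show ePow a (0 : ZMod M) * b ^ (1 : ℤ) = b
  rw [ePow_zero, one_mul, zpow_one]

end lift

section gens
variable {M : ℕ} [NeZero M] (P : Par M)

lemma closure_al_be : Subgroup.closure {al P, be P} = ⊤ := by
  rw [eq_top_iff]
  intro g _
  obtain ⟨s, rfl⟩ := QuotientGroup.mk_surjective g
  rw [mk_eq_al_be]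
  have ha : al P ∈ Subgroup.closure {al P, be P} :=
    Subgroup.subset_closure (Set.mem_insert _ _)
  have hb : be P ∈ Subgroup.closure {al P, be P} :=
    Subgroup.subset_closure (Set.mem_insert_of_mem _ (Set.mem_singleton _))
  exact mul_mem (pow_mem ha _) (zpow_mem hb _)

end gens

section kernel
variable {M m : ℕ} [NeZero M] [NeZero m]

/-- the kernel of a map `Gm P → Gm Q` (reduction mod `m`) matching the generators lies in `⟨α ^ m⟩` -/
lemma ker_le_zpowers (hdvd : m ∣ M) (P : Par M) (Q : Par m) (hn : P.n = Q.n)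
    (hT : ZMod.castHom hdvd (ZMod m) P.T = Q.T) (τ : Gm P →* Gm Q)
    (h1 : τ (al P) = al Q) (h2 : τ (be P) = be Q) :
    τ.ker ≤ Subgroup.zpowers (al P ^ m) := by
  intro g hg
  obtain ⟨s, rfl⟩ := QuotientGroup.mk_surjective g
  rw [MonoidHom.mem_ker, mk_eq_al_be, map_mul, map_pow, map_zpow, h1, h2] at hg
  have h3 : (QuotientGroup.mk ⟨(s.x.val : ZMod m), s.k⟩ : Gm Q) = 1 := by
    rw [mk_eq_al_be]
    show al Q ^ ((s.x.val : ZMod m)).val * be Q ^ s.k = 1
    rw [ZMod.val_natCast, ← pow_eq_pow_mod _ (al_pow_M Q)]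
    exact hg
  rw [QuotientGroup.eq_one_iff, mem_W] at h3
  obtain ⟨j, hj1, hj2⟩ := h3
  replace hj1 : (s.x.val : ZMod m) = -((j : ZMod m) * Q.T) := hj1
  replace hj2 : s.k = j * Q.n := hj2
  have h4 : s = (⟨s.x + (j : ZMod M) * P.T, 0⟩ : MS M P.u) * ⟨-((j : ZMod M) * P.T), j * P.n⟩ := by
    ext
    · simp only [MS.mul_x, pw_zero]; ring
    · simp only [MS.mul_k]; rw [hj2, hn]; ring
  rw [h4, mk_mul_W P _ _ ⟨j, rfl, rfl⟩]
  obtain ⟨y, hy⟩ : ∃ y, y = s.x + (j : ZMod M) * P.T := ⟨_, rfl⟩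
  rw [← hy]
  have h5 : ZMod.castHom hdvd (ZMod m) y = 0 := by
    rw [hy, map_add, map_mul, map_intCast, hT, ZMod.castHom_apply, ← ZMod.natCast_val, hj1]
    ring
  have h6 : m ∣ y.val := by
    rw [ZMod.castHom_apply, ← ZMod.natCast_val, ZMod.natCast_eq_zero_iff] at h5
    exact h5
  obtain ⟨q, hq⟩ := h6
  have h7 : (QuotientGroup.mk ⟨y, 0⟩ : Gm P) = (al P ^ m) ^ q := by
    rw [← pow_mul, ← hq, al_pow, ZMod.natCast_zmod_val]
  rw [h7]
  exact pow_mem (Subgroup.mem_zpowers _) q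

end kernel

end Cfsg.Agent.Lib.Helper8.Beyl
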