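import Mathlib

set_option autoImplicit false

/-! Number theory for Beyl's theorem on the multiplier of a metacyclic group (S3967). -/

namespace Cfsg.Agent.Lib.Helper8.Beyl

open Finset

lemma geom_nat (r n : ℕ) (hr : 0 < r) : (∑ i ∈ range n, r ^ i) * (r - 1) + 1 = r ^ n := by
  have h := geom_sum_mul_add (r - 1) n
  have e : r - 1 + 1 = r := by omega
  rw [e] at h
  exact h

lemma geom_modEq (R r m n : ℕ) (h : R ≡ r [MOD m]) :
    ∑ i ∈ range n, R ^ i ≡ ∑ i ∈ range n, r ^ i [MOD m] := by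
  induction n with
  | zero => rfl
  | succ n ih =>
    rw [sum_range_succ, sum_range_succ]
    exact ih.add (h.pow n)

/-- lifting a coprime residue -/
lemma exists_coprime_lift (ρ k k' : ℕ) (hk' : 0 < k') (hdvd : k ∣ k') (hcop : Nat.Coprime ρ k) :
    ∃ ρ' s : ℕ, ρ' ≡ ρ [MOD k] ∧ ρ' * s ≡ 1 [MOD k'] := by
  have : NeZero k' := ⟨hk'.ne'⟩
  have hk : 0 < k := Nat.pos_of_dvd_of_pos hdvd hk'
  have : NeZero k := ⟨hk.ne'⟩
  obtain ⟨υ, hυ⟩ := ZMod.unitsMap_surjective hdvd (ZMod.unitOfCoprime ρ hcop)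
  refine ⟨(υ : ZMod k').val, ((υ⁻¹ : (ZMod k')ˣ) : ZMod k').val, ?_, ?_⟩
  · rw [← ZMod.natCast_eq_natCast_iff, ZMod.natCast_val]
    have h1 := congrArg (fun w : (ZMod k)ˣ => (w : ZMod k)) hυ
    simp only [ZMod.unitsMap_val, ZMod.coe_unitOfCoprime] at h1
    exact h1
  · rw [← ZMod.natCast_eq_natCast_iff]
    push_cast
    rw [ZMod.natCast_zmod_val, ZMod.natCast_zmod_val, Units.mul_inv]

/-- all the number theory needed for S3967 -/
theorem beyl_nt (m n r l : ℕ) (hm : 0 < m) (_hn : 0 < n) (hr : 0 < r) (hrn : r ^ n ≡ 1 [MOD m]) :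
    ∃ d m' ρ e t N : ℕ,
      d = Nat.gcd m (r - 1) ∧ t = m * l / d ∧ N = ∑ i ∈ range n, r ^ i ∧
      e = Nat.gcd l (d * Nat.gcd m N / m) ∧
      0 < e ∧ m = d * m' ∧ r = 1 + d * ρ ∧ Nat.Coprime m' ρ ∧ t = m' * l ∧
      m' * e ∣ m ∧ m' * e ∣ N ∧ m' * e ∣ t ∧ e ∣ d ∧ m ∣ (r - 1) * t ∧
      Nat.gcd t (Nat.gcd m N) = m' * e ∧
      ∃ R s : ℕ, R ≡ r [MOD m] ∧ 0 < R ∧ e ∣ R - 1 ∧ R ^ n ≡ 1 [MOD m * e] ∧
        m * e ∣ (R - 1) * t ∧ (R - 1) * s ≡ m [MOD m * e] := by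
  obtain ⟨d, hd⟩ : ∃ d, d = Nat.gcd m (r - 1) := ⟨_, rfl⟩
  have hdpos : 0 < d := by rw [hd]; exact Nat.gcd_pos_of_pos_left _ hm
  have hdm : d ∣ m := by rw [hd]; exact Nat.gcd_dvd_left _ _
  have hdr : d ∣ r - 1 := by rw [hd]; exact Nat.gcd_dvd_right _ _
  obtain ⟨m', hm'⟩ := hdm
  obtain ⟨ρ, hρ⟩ := hdr
  have hm'pos : 0 < m' := by
    rcases Nat.eq_zero_or_pos m' with h | h
    · rw [h, mul_zero] at hm'; omega
    · exact h
  have hrρ : r = 1 + d * ρ := by omega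
  have hcop : Nat.Coprime m' ρ := by
    have h := Nat.coprime_div_gcd_div_gcd (m := m) (n := r - 1) (by rw [← hd]; exact hdpos)
    rw [← hd] at h
    have e1 : m / d = m' := by rw [hm']; exact Nat.mul_div_cancel_left _ hdpos
    have e2 : (r - 1) / d = ρ := by rw [hρ]; exact Nat.mul_div_cancel_left _ hdpos
    rwa [e1, e2] at h
  obtain ⟨t, ht⟩ : ∃ t, t = m * l / d := ⟨_, rfl⟩
  have ht' : t = m' * l := by
    rw [ht, hm', mul_assoc]; exact Nat.mul_div_cancel_left _ hdpos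
  obtain ⟨N, hN⟩ : ∃ N, N = ∑ i ∈ range n, r ^ i := ⟨_, rfl⟩
  have hgeom : N * (r - 1) + 1 = r ^ n := by rw [hN]; exact geom_nat r n hr
  have hmN : m ∣ N * (r - 1) := by
    have h1 : N * (r - 1) + 1 ≡ 0 + 1 [MOD m] := by rw [hgeom, zero_add]; exact hrn
    exact (Nat.modEq_zero_iff_dvd).1 (Nat.ModEq.add_right_cancel' 1 h1)
  have hm'N : m' ∣ N := by
    have h1 : d * m' ∣ d * (N * ρ) := by
      rw [← hm']
      have : d * (N * ρ) = N * (r - 1) := by rw [hρ]; ring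
      rw [this]; exact hmN
    have h2 : m' ∣ N * ρ := Nat.dvd_of_mul_dvd_mul_left hdpos h1
    exact hcop.dvd_of_dvd_mul_right h2
  have hm'm : m' ∣ m := ⟨d, by rw [hm']; ring⟩
  obtain ⟨h', hg⟩ := Nat.dvd_gcd hm'm hm'N
  have hgpos : 0 < Nat.gcd m N := Nat.gcd_pos_of_pos_left _ hm
  have hh'pos : 0 < h' := by
    rcases Nat.eq_zero_or_pos h' with h | h
    · rw [h, mul_zero] at hg; omega
    · exact h
  have hhdiv : d * Nat.gcd m N / m = h' := by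
    rw [hg]
    have : d * (m' * h') = m * h' := by rw [hm']; ring
    rw [this]; exact Nat.mul_div_cancel_left _ hm
  have hh'd : h' ∣ d := by
    have h1 : m' * h' ∣ m' * d := by
      rw [← hg]
      have : m' * d = m := by rw [hm']; ring
      rw [this]; exact Nat.gcd_dvd_left _ _
    exact Nat.dvd_of_mul_dvd_mul_left hm'pos h1
  obtain ⟨e, he⟩ : ∃ e, e = Nat.gcd l (d * Nat.gcd m N / m) := ⟨_, rfl⟩
  have he' : e = Nat.gcd l h' := by rw [he, hhdiv]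
  have hepos : 0 < e := by rw [he']; exact Nat.gcd_pos_of_pos_right _ hh'pos
  have hel : e ∣ l := by rw [he']; exact Nat.gcd_dvd_left _ _
  have heh : e ∣ h' := by rw [he']; exact Nat.gcd_dvd_right _ _
  have hed : e ∣ d := heh.trans hh'd
  have hm'e_g : m' * e ∣ Nat.gcd m N := by rw [hg]; exact Nat.mul_dvd_mul_left _ heh
  have hm'e_m : m' * e ∣ m := hm'e_g.trans (Nat.gcd_dvd_left _ _)
  have hm'e_N : m' * e ∣ N := hm'e_g.trans (Nat.gcd_dvd_right _ _)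
  have hm'e_t : m' * e ∣ t := by rw [ht']; exact Nat.mul_dvd_mul_left _ hel
  have hmrt : m ∣ (r - 1) * t := by
    refine ⟨ρ * l, ?_⟩
    rw [hρ, ht', hm']; ring
  have hgcd : Nat.gcd t (Nat.gcd m N) = m' * e := by
    rw [hg, ht', Nat.gcd_mul_left, he']
  refine ⟨d, m', ρ, e, t, N, hd, ht, hN, he, hepos, hm', hrρ, hcop, ht', hm'e_m, hm'e_N, hm'e_t,
    hed, hmrt, hgcd, ?_⟩
  -- the lifted multiplier
  have hk'pos : 0 < m' * e := Nat.mul_pos hm'pos hepos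
  obtain ⟨ρ', s0, hρ'1, hρ'2⟩ := exists_coprime_lift ρ m' (m' * e) hk'pos ⟨e, rfl⟩ hcop.symm
  obtain ⟨R, hRdef⟩ : ∃ R, R = 1 + d * ρ' := ⟨_, rfl⟩
  have hR1 : R - 1 = d * ρ' := by omega
  have hRr : R ≡ r [MOD m] := by
    rw [hRdef, hrρ, hm']
    exact Nat.ModEq.add_left 1 (Nat.ModEq.mul_left' d hρ'1)
  refine ⟨R, s0 * m', hRr, by omega, ?_, ?_, ?_, ?_⟩
  · rw [hR1]; exact hed.mul_right _
  · obtain ⟨NR, hNR⟩ : ∃ NR, NR = ∑ i ∈ range n, R ^ i := ⟨_, rfl⟩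
    have hgeomR : NR * (R - 1) + 1 = R ^ n := by rw [hNR]; exact geom_nat R n (by omega)
    have h1 : NR ≡ N [MOD m] := by rw [hNR, hN]; exact geom_modEq R r m n hRr
    have h2 : NR ≡ N [MOD m' * e] := h1.of_dvd hm'e_m
    have h3 : m' * e ∣ NR := by
      rw [← Nat.modEq_zero_iff_dvd]
      exact h2.trans ((Nat.modEq_zero_iff_dvd).2 hm'e_N)
    have h4 : m * e ∣ NR * (R - 1) := by
      obtain ⟨q, hq⟩ := h3
      refine ⟨q * ρ', ?_⟩
      rw [hR1, hq, hm']; ring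
    rw [← hgeomR]
    have := ((Nat.modEq_zero_iff_dvd).2 h4).add_right 1
    rwa [zero_add] at this
  · obtain ⟨q, hq⟩ := hel
    refine ⟨ρ' * q, ?_⟩
    rw [hR1, ht', hq, hm']; ring
  · have h1 : m * (ρ' * s0) ≡ m * 1 [MOD m * (m' * e)] := Nat.ModEq.mul_left' m hρ'2
    have h2 : m * e ∣ m * (m' * e) := Nat.mul_dvd_mul_left _ ⟨m', by ring⟩
    have h3 := h1.of_dvd h2
    have e1 : (R - 1) * (s0 * m') = m * (ρ' * s0) := by rw [hR1, hm']; ring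
    rw [e1]
    rwa [mul_one] at h3

end Cfsg.Agent.Lib.Helper8.Beyl
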