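import Cfsg.Prelude.Def_KGroupFacts
import Cfsg.Agent.Lib.Helper8.Beyl1
import Cfsg.Agent.Lib.Helper8.Beyl3
import Cfsg.Agent.Lib.Helper8.Beyl4

set_option autoImplicit false

/-! Beyl's theorem: the Schur multiplier of a finite metacyclic group (S3967). -/

namespace Cfsg.Agent.Lib.Helper8.Beyl

open Subgroup
open scoped commutatorElement

lemma pow_mul_inv_self' {G : Type*} [Group G] (x : G) (k : ℕ) (hk : 0 < k) :
    x ^ k * x⁻¹ = x ^ (k - 1) := by
  rw [← pow_sub_one_mul hk.ne' x, mul_assoc, mul_inv_cancel, mul_one]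

/-- parameters from natural numbers -/
def mkPar (M n R T' : ℕ) (hn : 0 < n) (hRn : R ^ n ≡ 1 [MOD M]) (hR : 0 < R)
    (hT : M ∣ (R - 1) * T') : Par M where
  u := Units.ofPowEqOne (R : ZMod M) n (by
    have h := (ZMod.natCast_eq_natCast_iff _ _ _).2 hRn
    push_cast at h
    exact h) hn.ne'
  T := (T' : ZMod M)
  n := n
  hn := hn
  hun := Units.pow_ofPowEqOne _ _
  huT := by
    rw [Units.val_ofPowEqOne]
    have h1 : (((R - 1) * T' : ℕ) : ZMod M) = 0 := (ZMod.natCast_eq_zero_iff _ _).2 hT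
    have h2 : (R : ZMod M) = ((R - 1 : ℕ) : ZMod M) + 1 := by
      have : R = (R - 1) + 1 := by omega
      conv_lhs => rw [this]
      push_cast; rfl
    rw [h2, add_mul, one_mul]
    push_cast at h1
    rw [h1, zero_add]

lemma mkPar_u (M n R T' : ℕ) (hn : 0 < n) (hRn : R ^ n ≡ 1 [MOD M]) (hR : 0 < R)
    (hT : M ∣ (R - 1) * T') : (R : ZMod M) = ((mkPar M n R T' hn hRn hR hT).u : ZMod M) := by
  unfold mkPar
  rw [Units.val_ofPowEqOne]

/-- the relators of the metacyclic presentation -/
def rels (m n r t : ℕ) : Set (FreeGroup Bool) :=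
  {FreeGroup.of true ^ m, (FreeGroup.of false) ^ n * (FreeGroup.of true ^ t)⁻¹,
    FreeGroup.of false * FreeGroup.of true * (FreeGroup.of false)⁻¹ * (FreeGroup.of true ^ r)⁻¹}

/-- the presented metacyclic group -/
abbrev PG (m n r t : ℕ) : Type := PresentedGroup (rels m n r t)

section pg
variable (m n r t : ℕ)

/-- generator `a` -/
def pa : PG m n r t := PresentedGroup.of true
/-- generator `b` -/
def pb : PG m n r t := PresentedGroup.of false

lemma pa_pow : pa m n r t ^ m = 1 := by
  have h : PresentedGroup.mk (rels m n r t) (FreeGroup.of true ^ m) = 1 :=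
    PresentedGroup.one_of_mem (Set.mem_insert _ _)
  rw [map_pow] at h
  exact h

lemma pb_pow : pb m n r t ^ n = pa m n r t ^ t := by
  have h : PresentedGroup.mk (rels m n r t)
      ((FreeGroup.of false) ^ n * (FreeGroup.of true ^ t)⁻¹) = 1 :=
    PresentedGroup.one_of_mem (Set.mem_insert_of_mem _ (Set.mem_insert _ _))
  rw [map_mul, map_inv, map_pow, map_pow, mul_inv_eq_one] at h
  exact h

lemma pb_pa : pb m n r t * pa m n r t * (pb m n r t)⁻¹ = pa m n r t ^ r := by
  have h : PresentedGroup.mk (rels m n r t)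
      (FreeGroup.of false * FreeGroup.of true * (FreeGroup.of false)⁻¹ *
        (FreeGroup.of true ^ r)⁻¹) = 1 :=
    PresentedGroup.one_of_mem
      (Set.mem_insert_of_mem _ (Set.mem_insert_of_mem _ (Set.mem_singleton _)))
  rw [map_mul, map_mul, map_mul, map_inv, map_inv, map_pow, mul_inv_eq_one] at h
  exact h

lemma closure_pa_pb : closure {pa m n r t, pb m n r t} = ⊤ := by
  rw [eq_top_iff, ← PresentedGroup.closure_range_of (rels m n r t), closure_le]
  rintro _ ⟨x, rfl⟩
  cases x
  · exact subset_closure (Set.mem_insert_of_mem _ (Set.mem_singleton _))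
  · exact subset_closure (Set.mem_insert _ _)

end pg

section main
variable (m n r l : ℕ)

/-- **Beyl**: the metacyclic group `⟨a, b | a^m, b^n = a^t, b a b⁻¹ = a^r⟩`, `t = m l / (m, r - 1)`,
has Schur multiplier cyclic of order `(l, h)`. -/
theorem beyl_main (hm : 0 < m) (hn : 0 < n) (hr : 0 < r) (hrn : r ^ n ≡ 1 [MOD m]) :
    Cfsg.HasCyclicSchurMultiplier (PG m n r (m * l / Nat.gcd m (r - 1)))
      (Nat.gcd l (Nat.gcd m (r - 1) * Nat.gcd m (∑ i ∈ Finset.range n, r ^ i) / m)) := by
  obtain ⟨d, m', ρ, e, t, N, hd, ht, hN, he, hepos, hm', hrρ, hcop, ht', hm'e_m, hm'e_N, hm'e_t,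
    hed, hmrt, hgcd, R, s, hRr, hRpos, heR, hRn, hmeRt, hRs⟩ := beyl_nt m n r l hm hn hr hrn
  rw [← hd, ← hN, ← he, ← ht]
  have : NeZero m := ⟨hm.ne'⟩
  have hmepos : 0 < m * e := Nat.mul_pos hm hepos
  have : NeZero (m * e) := ⟨hmepos.ne'⟩
  -- abbreviations
  obtain ⟨a, hadef⟩ : ∃ a, a = pa m n r t := ⟨_, rfl⟩
  obtain ⟨b, hbdef⟩ : ∃ b, b = pb m n r t := ⟨_, rfl⟩
  have ham : a ^ m = 1 := by rw [hadef]; exact pa_pow m n r t
  have hbn : b ^ n = a ^ t := by rw [hadef, hbdef]; exact pb_pow m n r t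
  have hba : b * a * b⁻¹ = a ^ r := by rw [hadef, hbdef]; exact pb_pa m n r t
  have hgenab : closure {a, b} = ⊤ := by rw [hadef, hbdef]; exact closure_pa_pb m n r t
  -- the base model
  obtain ⟨Q, hQdef⟩ : ∃ Q, Q = mkPar m n r t hn hrn hr hmrt := ⟨_, rfl⟩
  have hQu : (r : ZMod m) = (Q.u : ZMod m) := by rw [hQdef]; exact mkPar_u m n r t hn hrn hr hmrt
  have hQT : (t : ZMod m) = Q.T := by rw [hQdef]; rfl
  have hQn : Q.n = n := by rw [hQdef]; rfl
  have hrel : ∀ rel ∈ rels m n r t,
      FreeGroup.lift (fun x : Bool => if x then al Q else be Q) rel = 1 := by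
    rintro rel (rfl | rfl | rfl)
    · rw [map_pow, FreeGroup.lift_apply_of]
      exact al_pow_M Q
    · rw [map_mul, map_inv, map_pow, map_pow, FreeGroup.lift_apply_of, FreeGroup.lift_apply_of,
        mul_inv_eq_one]
      have := be_pow_n Q t hQT
      rw [hQn] at this
      simpa using this
    · rw [map_mul, map_mul, map_mul, map_inv, map_inv, map_pow, FreeGroup.lift_apply_of,
        FreeGroup.lift_apply_of, mul_inv_eq_one]
      simpa using be_al Q r hQu
  obtain ⟨π, hπdef⟩ : ∃ π : PG m n r t →* Gm Q, π = PresentedGroup.toGroup hrel := ⟨_, rfl⟩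
  have hπa : π a = al Q := by
    rw [hπdef, hadef]; unfold pa; rw [PresentedGroup.toGroup.of]; rfl
  have hπb : π b = be Q := by
    rw [hπdef, hbdef]; unfold pb; rw [PresentedGroup.toGroup.of]; rfl
  have horda : orderOf a = m := by
    apply Nat.dvd_antisymm (orderOf_dvd_of_pow_eq_one ham)
    have h := orderOf_map_dvd π a
    rwa [hπa, orderOf_al] at h
  constructor
  · -- the cover
    obtain ⟨P, hPdef⟩ : ∃ P, P = mkPar (m * e) n R t hn hRn hRpos hmeRt := ⟨_, rfl⟩
    have hPu : (R : ZMod (m * e)) = (P.u : ZMod (m * e)) := by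
      rw [hPdef]; exact mkPar_u (m * e) n R t hn hRn hRpos hmeRt
    have hPT : (t : ZMod (m * e)) = P.T := by rw [hPdef]; rfl
    have hPn : P.n = n := by rw [hPdef]; rfl
    have ha1 : a ^ (m * e) = 1 := by rw [pow_mul, ham, one_pow]
    have hab : b * a * b⁻¹ = a ^ R := by
      rw [hba, pow_eq_pow_iff_modEq, horda]
      exact hRr.symm
    have hb1 : b ^ P.n = a ^ t := by rw [hPn]; exact hbn
    obtain ⟨σ, hσdef⟩ : ∃ σ : Gm P →* PG m n r t, σ = lift P a b R t ha1 hPu hab hPT hb1 :=
      ⟨_, rfl⟩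
    have hσa : σ (al P) = a := by rw [hσdef]; exact lift_al P a b R t ha1 hPu hab hPT hb1
    have hσb : σ (be P) = b := by rw [hσdef]; exact lift_be P a b R t ha1 hPu hab hPT hb1
    have hordal : orderOf (al P) = m * e := orderOf_al P
    -- the kernel
    have hker : σ.ker = zpowers (al P ^ m) := by
      apply le_antisymm
      · have h1 : σ.ker ≤ (π.comp σ).ker := by
          intro x hx
          rw [MonoidHom.mem_ker] at hx
          rw [MonoidHom.mem_ker, MonoidHom.comp_apply, hx, map_one]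
        refine h1.trans (ker_le_zpowers ⟨e, rfl⟩ P Q (by rw [hPn, hQn]) ?_ (π.comp σ) ?_ ?_)
        · rw [← hPT, ← hQT, map_natCast]
        · rw [MonoidHom.comp_apply, hσa, hπa]
        · rw [MonoidHom.comp_apply, hσb, hπb]
      · rw [zpowers_le, MonoidHom.mem_ker, map_pow, hσa, ham]
    -- centrality
    have hcen : al P ^ m ∈ center (Gm P) := by
      have h1 : be P * al P ^ m * (be P)⁻¹ = al P ^ m := by
        rw [← conj_pow, be_al P R hPu, ← pow_mul, pow_eq_pow_iff_modEq, hordal]
        obtain ⟨q, hq⟩ := heR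
        have h2 : R * m = m * e * q + m := by
          have : R = (R - 1) + 1 := by omega
          conv_lhs => rw [this, hq]
          ring
        rw [h2]
        have : m * e * q + m ≡ 0 + m [MOD m * e] :=
          Nat.ModEq.add_right m ((Nat.modEq_zero_iff_dvd).2 ⟨q, rfl⟩)
        rwa [zero_add] at this
      have h2 : closure {al P, be P} ≤ centralizer {al P ^ m} := by
        rw [closure_le]
        rintro x (rfl | rfl)
        · rw [SetLike.mem_coe, mem_centralizer_iff]
          rintro y rfl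
          rw [← pow_succ, ← pow_succ']
        · rw [SetLike.mem_coe, mem_centralizer_iff]
          rintro y rfl
          conv_lhs => rw [← h1]
          group
      rw [mem_center_iff]
      intro g
      have hg : g ∈ centralizer {al P ^ m} := h2 (by rw [closure_al_be]; trivial)
      rw [mem_centralizer_iff] at hg
      exact (hg _ rfl).symm
    -- commutator
    have hcomm : al P ^ m ∈ commutator (Gm P) := by
      have h1 : ⁅be P, al P⁆ ∈ commutator (Gm P) :=
        Subgroup.commutator_mem_commutator (mem_top _) (mem_top _)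
      have h2 : ⁅be P, al P⁆ = al P ^ (R - 1) := by
        rw [commutatorElement_def, be_al P R hPu]
        exact pow_mul_inv_self' _ R hRpos
      have h3 : al P ^ m = (al P ^ (R - 1)) ^ s := by
        rw [← pow_mul, pow_eq_pow_iff_modEq, hordal]
        exact hRs.symm
      rw [h3, ← h2]
      exact pow_mem h1 s
    refine ⟨Gm P, inferInstance, inferInstance, σ, ⟨?_, ?_, ?_⟩, ?_⟩
    · rw [← MonoidHom.range_eq_top, eq_top_iff, ← hgenab, closure_le]
      rintro x (rfl | rfl)
      · exact ⟨al P, hσa⟩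
      · exact ⟨be P, hσb⟩
    · rw [hker, zpowers_le]; exact hcen
    · rw [hker, zpowers_le]; exact hcomm
    · have hcyc : IsCyclic σ.ker := by rw [hker]; infer_instance
      have hcard : Nat.card σ.ker = e := by
        rw [hker, Nat.card_zpowers, orderOf_pow, hordal, Nat.gcd_mul_right_left]
        exact Nat.mul_div_cancel_left _ hm
      have e' := zmodCyclicMulEquiv hcyc
      rw [hcard] at e'
      exact ⟨e'.symm⟩
  · -- the bound
    intro Γ _ _ σ hσ
    obtain ⟨hsurj, hcen, hcomm⟩ := hσ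
    obtain ⟨A, hA⟩ := hsurj a
    obtain ⟨B, hB⟩ := hsurj b
    have hgen : closure {σ A, σ B} = ⊤ := by rw [hA, hB]; exact hgenab
    have hconj : σ (B * A * B⁻¹) = (σ A) ^ r := by
      rw [map_mul, map_mul, map_inv, hA, hB, hba]
    have hBn : σ (B ^ n) ∈ zpowers (σ A) := by
      rw [map_pow, hA, hB, hbn]
      exact pow_mem (mem_zpowers a) t
    obtain ⟨h1, h2, h3⟩ := stem_meta σ hcen hcomm A B hgen r n hn hconj hBn
    obtain ⟨c, hcdef⟩ : ∃ c, c = B * A * B⁻¹ * A⁻¹ := ⟨_, rfl⟩
    rw [← hcdef] at h1 h2 h3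
    have hσc : σ c = a ^ (r - 1) := by
      rw [hcdef, map_mul, hconj, map_inv, hA]
      exact pow_mul_inv_self' _ r hr
    -- exponents killing `c`
    have hcm : c ^ m = 1 := by
      apply h2
      have hz : A ^ m ∈ center Γ := hcen (by rw [MonoidHom.mem_ker, map_pow, hA, ham])
      rw [mem_center_iff.1 hz B]; group
    have hct : c ^ t = 1 := by
      apply h2
      have hz : A ^ t * (B ^ n)⁻¹ ∈ center Γ :=
        hcen (by rw [MonoidHom.mem_ker, map_mul, map_inv, map_pow, map_pow, hA, hB, hbn,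
          mul_inv_cancel])
      have e1 : A ^ t = (A ^ t * (B ^ n)⁻¹) * B ^ n := by group
      have e2 : B * (A ^ t * (B ^ n)⁻¹ * B ^ n) * B⁻¹ =
          (B * (A ^ t * (B ^ n)⁻¹)) * (B ^ n * B⁻¹) := by group
      have e3 : B ^ n * B⁻¹ = B⁻¹ * B ^ n := by
        rw [← zpow_natCast, ← zpow_neg_one, ← zpow_add, ← zpow_add, add_comm]
      rw [e1, e2, mem_center_iff.1 hz B, e3]; group
    have hcN : c ^ N = 1 := by rw [hN]; exact h3
    have hcme : c ^ (m' * e) = 1 := by
      have h4 : orderOf c ∣ m' * e := by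
        rw [← hgcd]
        exact Nat.dvd_gcd (orderOf_dvd_of_pow_eq_one hct)
          (Nat.dvd_gcd (orderOf_dvd_of_pow_eq_one hcm) (orderOf_dvd_of_pow_eq_one hcN))
      exact orderOf_dvd_iff_pow_eq_one.1 h4
    have hr1 : r - 1 = d * ρ := by omega
    -- the generator of the kernel
    have hζker : c ^ m' ∈ σ.ker := by
      rw [MonoidHom.mem_ker, map_pow, hσc, ← pow_mul, hr1]
      have : d * ρ * m' = m * ρ := by rw [hm']; ring
      rw [this, pow_mul, ham, one_pow]
    obtain ⟨ζ, hζdef⟩ : ∃ ζ : σ.ker, ζ = ⟨c ^ m', hζker⟩ := ⟨_, rfl⟩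
    have hζe : ζ ^ e = 1 := by
      apply Subtype.ext
      rw [hζdef, Subgroup.coe_pow, Subgroup.coe_one]
      show (c ^ m') ^ e = 1
      rw [← pow_mul]; exact hcme
    have : NeZero e := ⟨hepos.ne'⟩
    let π' : Multiplicative (ZMod e) →* σ.ker :=
      { toFun := fun k => ζ ^ (Multiplicative.toAdd k).val
        map_one' := by simp
        map_mul' := by
          intro x y
          rw [toAdd_mul, ZMod.val_add, ← pow_add, ← pow_eq_pow_mod _ hζe] }
    refine ⟨π', ?_⟩
    intro y
    have hyc : (y : Γ) ∈ zpowers c := h1 y.2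
    rw [← mem_powers_iff_mem_zpowers] at hyc
    obtain ⟨j, hj⟩ := hyc
    replace hj : c ^ j = (y : Γ) := hj
    have hdvd : m' ∣ j := by
      have h5 : (a ^ (r - 1)) ^ j = 1 := by
        rw [← hσc, ← map_pow, hj]; exact y.2
      rw [← pow_mul, ← orderOf_dvd_iff_pow_eq_one, horda, hr1] at h5
      have h6 : d * m' ∣ d * (j * ρ) := by
        rw [← hm']
        have : d * (j * ρ) = d * ρ * j := by ring
        rw [this]; exact h5
      have hdpos : 0 < d := by
        rcases Nat.eq_zero_or_pos d with h | h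
        · rw [h, zero_mul] at hm'; omega
        · exact h
      exact hcop.dvd_of_dvd_mul_right (Nat.dvd_of_mul_dvd_mul_left hdpos h6)
    obtain ⟨q, rfl⟩ := hdvd
    refine ⟨Multiplicative.ofAdd ((q : ℕ) : ZMod e), ?_⟩
    apply Subtype.ext
    show ((ζ ^ (Multiplicative.toAdd (Multiplicative.ofAdd ((q : ℕ) : ZMod e))).val : σ.ker) : Γ) = y
    rw [toAdd_ofAdd, ZMod.val_natCast, ← pow_eq_pow_mod _ hζe, hζdef, Subgroup.coe_pow, ← hj,
      pow_mul]

end main

end Cfsg.Agent.Lib.Helper8.Beyl
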