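import Mathlib

set_option autoImplicit false

/-! Frobenius-type semidirect products `R ⋊ G` for a group `G` of units of a finite ring `R`
acting by left multiplication, every non-identity `u ∈ G` having `1 - u` invertible. -/

namespace Cfsg.Agent.Lib.Helper8.RingFrob

variable {R : Type} [Ring R]

/-- the action of a group of units on the additive group of the ring -/
noncomputable def phi (G : Subgroup Rˣ) : G →* MulAut (Multiplicative R) :=
  (MulAutMultiplicative R).symm.toMonoidHom.comp (AddAut.mulLeft.comp G.subtype)

theorem phi_apply (G : Subgroup Rˣ) (u : G) (v : R) :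
    phi G u (Multiplicative.ofAdd v) = Multiplicative.ofAdd (((u : Rˣ) : R) * v) := rfl

/-- the group `R ⋊ G` -/
abbrev Aff (G : Subgroup Rˣ) := Multiplicative R ⋊[phi G] G

instance (G : Subgroup Rˣ) [Finite R] : Finite (Aff G) :=
  Finite.of_equiv (Multiplicative R × G) SemidirectProduct.equivProd.symm

theorem isSolvable (G : Subgroup Rˣ) [h2 : Group.IsSolvable G] : Group.IsSolvable (Aff G) := by
  have h1 : Group.IsSolvable (Multiplicative R) := inferInstance
  exact Group.isSolvable_of_ker_le_range (SemidirectProduct.inl : Multiplicative R →* Aff G)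
    (SemidirectProduct.rightHom : Aff G →* G) SemidirectProduct.range_inl_eq_ker_rightHom.ge

theorem conj_eq (G : Subgroup Rˣ) (v w : R) (u : G) (h : (1 - ((u : Rˣ) : R)) * w = v) :
    (⟨Multiplicative.ofAdd v, u⟩ : Aff G) =
      MulAut.conj (SemidirectProduct.inl (Multiplicative.ofAdd w))
        (SemidirectProduct.inr u) := by
  rw [MulAut.conj_apply]
  ext
  · simp only [SemidirectProduct.mul_left, SemidirectProduct.left_inl,
        SemidirectProduct.right_inl, SemidirectProduct.left_inr, SemidirectProduct.right_inr,
        SemidirectProduct.inv_left, SemidirectProduct.mul_right,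
        map_one, mul_one, one_mul, inv_one, MulAut.one_apply]
    have key : w + ((u : Rˣ) : R) * -w = v := by
      rw [← h]; noncomm_ring
    rw [← ofAdd_neg, phi_apply, ← ofAdd_add, key]
  · simp

/-- elements with nontrivial linear part are conjugate to their linear part -/
theorem orderOf_of_isUnit (G : Subgroup Rˣ) (x : Aff G)
    (hx : IsUnit (1 - ((x.right : Rˣ) : R))) :
    orderOf x = orderOf x.right := by
  rcases x with ⟨n, u⟩
  obtain ⟨e, he⟩ := hx
  have hx' := conj_eq G (Multiplicative.toAdd n) ((e⁻¹ : Rˣ) * Multiplicative.toAdd n) u (by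
    change (1 - ((u : Rˣ) : R)) * _ = _
    rw [← he, ← mul_assoc, Units.mul_inv, one_mul])
  rw [ofAdd_toAdd] at hx'
  change orderOf (⟨n, u⟩ : Aff G) = orderOf u
  rw [hx', MulEquiv.orderOf_eq, orderOf_injective _ SemidirectProduct.inr_injective]

theorem orderOf_inl (G : Subgroup Rˣ) (v : R) :
    orderOf (SemidirectProduct.inl (Multiplicative.ofAdd v) : Aff G) = addOrderOf v := by
  rw [orderOf_injective _ SemidirectProduct.inl_injective, orderOf_ofAdd_eq_addOrderOf]

theorem addOrderOf_eq (p : ℕ) [Fact p.Prime] [CharP R p] (v : R) (hv : v ≠ 0) :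
    addOrderOf v = p := by
  apply addOrderOf_eq_prime _ hv
  rw [nsmul_eq_mul, CharP.cast_eq_zero, zero_mul]

/-- the set of element orders of `R ⋊ G` -/
theorem range_orderOf (p : ℕ) [Fact p.Prime] [CharP R p] [Nontrivial R] (G : Subgroup Rˣ)
    (hfree : ∀ u ∈ G, u ≠ 1 → IsUnit (1 - (u : R))) :
    Set.range (orderOf : Aff G → ℕ) = {1, p} ∪ Set.range (orderOf : G → ℕ) := by
  ext n
  simp only [Set.mem_range, Set.mem_union, Set.mem_insert_iff, Set.mem_singleton_iff]
  constructor
  · rintro ⟨x, rfl⟩
    by_cases hx : x.right = 1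
    · left
      have hx' : x = SemidirectProduct.inl (Multiplicative.ofAdd (Multiplicative.toAdd x.left)) := by
        ext
        · simp
        · simp [hx]
      rw [hx', orderOf_inl]
      by_cases hv : Multiplicative.toAdd x.left = 0
      · rw [hv, addOrderOf_zero]
        exact Or.inl rfl
      · rw [addOrderOf_eq p _ hv]
        exact Or.inr rfl
    · right
      refine ⟨x.right, ?_⟩
      rw [orderOf_of_isUnit G x]
      apply hfree _ x.right.2
      intro h
      exact hx (Subtype.ext h)
  · rintro ((rfl | rfl) | ⟨u, rfl⟩)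
    · exact ⟨1, orderOf_one⟩
    · refine ⟨SemidirectProduct.inl (Multiplicative.ofAdd 1), ?_⟩
      rw [orderOf_inl, addOrderOf_eq _ _ one_ne_zero]
    · refine ⟨SemidirectProduct.inr u, ?_⟩
      rw [orderOf_injective _ SemidirectProduct.inr_injective]

end Cfsg.Agent.Lib.Helper8.RingFrob
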