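import Mathlib
import Cfsg.Agent.Lib.Helper8.RingFrob
import Cfsg.Agent.Lib.helper3.Burnside

set_option autoImplicit false

/-! The binary octahedral group as a group of `4 × 4` matrices over `ZMod 13`, acting
fixed-point-freely (every non-identity `u` has `1 - u` invertible). -/

namespace Cfsg.Agent.Lib.Helper8.BinOct13

abbrev M4 := Matrix (Fin 4) (Fin 4) (ZMod 13)

def matA : M4 := !![0, 6, 0, 0; 3, 0, 0, 0; 0, 0, 0, 9; 0, 0, 11, 0]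

def matAi : M4 := !![0, 9, 0, 0; 11, 0, 0, 0; 0, 0, 0, 6; 0, 0, 3, 0]

def matB : M4 := !![2, 0, 3, 0; 0, 2, 0, 3; 2, 0, 10, 0; 0, 2, 0, 10]

def matBi : M4 := !![10, 0, 10, 0; 0, 10, 0, 10; 11, 0, 2, 0; 0, 11, 0, 2]

def tab : Fin 48 → M4 := ![
  !![1, 0, 0, 0; 0, 1, 0, 0; 0, 0, 1, 0; 0, 0, 0, 1],
  !![0, 6, 0, 0; 3, 0, 0, 0; 0, 0, 0, 9; 0, 0, 11, 0],
  !![2, 0, 3, 0; 0, 2, 0, 3; 2, 0, 10, 0; 0, 2, 0, 10],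
  !![5, 0, 0, 0; 0, 5, 0, 0; 0, 0, 8, 0; 0, 0, 0, 8],
  !![0, 12, 0, 1; 6, 0, 7, 0; 0, 12, 0, 12; 6, 0, 6, 0],
  !![0, 12, 0, 5; 6, 0, 9, 0; 0, 5, 0, 12; 9, 0, 6, 0],
  !![10, 0, 10, 0; 0, 10, 0, 10; 11, 0, 2, 0; 0, 11, 0, 2],
  !![0, 4, 0, 0; 2, 0, 0, 0; 0, 0, 0, 7; 0, 0, 10, 0],
  !![10, 0, 11, 0; 0, 10, 0, 11; 10, 0, 2, 0; 0, 10, 0, 2],
  !![10, 0, 3, 0; 0, 10, 0, 3; 2, 0, 2, 0; 0, 2, 0, 2],
  !![0, 8, 0, 12; 4, 0, 6, 0; 0, 1, 0, 5; 7, 0, 9, 0],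
  !![10, 0, 2, 0; 0, 10, 0, 2; 3, 0, 2, 0; 0, 3, 0, 2],
  !![0, 0, 0, 7; 0, 0, 10, 0; 0, 9, 0, 0; 11, 0, 0, 0],
  !![0, 8, 0, 8; 4, 0, 4, 0; 0, 8, 0, 5; 4, 0, 9, 0],
  !![12, 0, 0, 0; 0, 12, 0, 0; 0, 0, 12, 0; 0, 0, 0, 12],
  !![0, 8, 0, 1; 4, 0, 7, 0; 0, 12, 0, 5; 6, 0, 9, 0],
  !![11, 0, 2, 0; 0, 11, 0, 2; 3, 0, 3, 0; 0, 3, 0, 3],
  !![0, 8, 0, 5; 4, 0, 9, 0; 0, 5, 0, 5; 9, 0, 9, 0],
  !![0, 0, 12, 0; 0, 0, 0, 12; 1, 0, 0, 0; 0, 1, 0, 0],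
  !![11, 0, 10, 0; 0, 11, 0, 10; 11, 0, 3, 0; 0, 11, 0, 3],
  !![3, 0, 10, 0; 0, 3, 0, 10; 11, 0, 11, 0; 0, 11, 0, 11],
  !![0, 0, 8, 0; 0, 0, 0, 8; 8, 0, 0, 0; 0, 8, 0, 0],
  !![0, 1, 0, 1; 7, 0, 7, 0; 0, 12, 0, 1; 6, 0, 7, 0],
  !![11, 0, 11, 0; 0, 11, 0, 11; 10, 0, 3, 0; 0, 10, 0, 3],
  !![0, 1, 0, 5; 7, 0, 9, 0; 0, 5, 0, 1; 9, 0, 7, 0],
  !![0, 7, 0, 0; 10, 0, 0, 0; 0, 0, 0, 4; 0, 0, 2, 0],
  !![11, 0, 3, 0; 0, 11, 0, 3; 2, 0, 3, 0; 0, 2, 0, 3],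
  !![0, 0, 0, 4; 0, 0, 2, 0; 0, 6, 0, 0; 3, 0, 0, 0],
  !![0, 1, 0, 12; 7, 0, 6, 0; 0, 1, 0, 1; 7, 0, 7, 0],
  !![0, 5, 0, 12; 9, 0, 6, 0; 0, 1, 0, 8; 7, 0, 4, 0],
  !![3, 0, 11, 0; 0, 3, 0, 11; 10, 0, 11, 0; 0, 10, 0, 11],
  !![0, 1, 0, 8; 7, 0, 4, 0; 0, 8, 0, 1; 4, 0, 7, 0],
  !![3, 0, 3, 0; 0, 3, 0, 3; 2, 0, 11, 0; 0, 2, 0, 11],
  !![0, 5, 0, 8; 9, 0, 4, 0; 0, 8, 0, 8; 4, 0, 4, 0],
  !![0, 0, 1, 0; 0, 0, 0, 1; 12, 0, 0, 0; 0, 12, 0, 0],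
  !![0, 0, 0, 9; 0, 0, 11, 0; 0, 7, 0, 0; 10, 0, 0, 0],
  !![0, 0, 5, 0; 0, 0, 0, 5; 5, 0, 0, 0; 0, 5, 0, 0],
  !![3, 0, 2, 0; 0, 3, 0, 2; 3, 0, 11, 0; 0, 3, 0, 11],
  !![8, 0, 0, 0; 0, 8, 0, 0; 0, 0, 5, 0; 0, 0, 0, 5],
  !![2, 0, 2, 0; 0, 2, 0, 2; 3, 0, 10, 0; 0, 3, 0, 10],
  !![0, 5, 0, 1; 9, 0, 7, 0; 0, 12, 0, 8; 6, 0, 4, 0],
  !![2, 0, 10, 0; 0, 2, 0, 10; 11, 0, 10, 0; 0, 11, 0, 10],
  !![0, 0, 0, 6; 0, 0, 3, 0; 0, 4, 0, 0; 2, 0, 0, 0],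
  !![0, 5, 0, 5; 9, 0, 9, 0; 0, 5, 0, 8; 9, 0, 4, 0],
  !![2, 0, 11, 0; 0, 2, 0, 11; 10, 0, 10, 0; 0, 10, 0, 10],
  !![0, 9, 0, 0; 11, 0, 0, 0; 0, 0, 0, 6; 0, 0, 3, 0],
  !![0, 12, 0, 12; 6, 0, 6, 0; 0, 1, 0, 12; 7, 0, 6, 0],
  !![0, 12, 0, 8; 6, 0, 4, 0; 0, 8, 0, 12; 4, 0, 6, 0]]

def itab : Fin 48 → M4 := ![
  !![1, 0, 0, 0; 0, 1, 0, 0; 0, 0, 1, 0; 0, 0, 0, 1],
  !![3, 5, 0, 0; 9, 3, 0, 0; 0, 0, 11, 8; 0, 0, 4, 11],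
  !![10, 0, 1, 0; 0, 10, 0, 1; 5, 0, 4, 0; 0, 5, 0, 4],
  !![3, 0, 0, 0; 0, 3, 0, 0; 0, 0, 11, 0; 0, 0, 0, 11],
  !![7, 0, 6, 1; 0, 7, 7, 6; 7, 12, 7, 0; 6, 7, 0, 7],
  !![7, 0, 4, 5; 0, 7, 9, 4; 4, 5, 7, 0; 9, 4, 0, 7],
  !![4, 0, 12, 0; 0, 4, 0, 12; 8, 0, 10, 0; 0, 8, 0, 10],
  !![11, 5, 0, 0; 9, 11, 0, 0; 0, 0, 3, 8; 0, 0, 4, 3],
  !![4, 0, 8, 0; 0, 4, 0, 8; 12, 0, 10, 0; 0, 12, 0, 10],
  !![4, 0, 1, 0; 0, 4, 0, 1; 5, 0, 10, 0; 0, 5, 0, 10],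
  !![7, 4, 0, 6; 2, 7, 3, 0; 0, 7, 7, 9; 10, 0, 11, 7],
  !![4, 0, 5, 0; 0, 4, 0, 5; 1, 0, 10, 0; 0, 1, 0, 10],
  !![7, 0, 0, 10; 0, 7, 5, 0; 0, 11, 7, 0; 12, 0, 0, 7],
  !![7, 4, 0, 4; 2, 7, 2, 0; 0, 4, 7, 9; 2, 0, 11, 7],
  !![7, 0, 0, 0; 0, 7, 0, 0; 0, 0, 7, 0; 0, 0, 0, 7],
  !![7, 4, 0, 7; 2, 7, 10, 0; 0, 6, 7, 9; 3, 0, 11, 7],
  !![11, 0, 2, 0; 0, 11, 0, 2; 3, 0, 3, 0; 0, 3, 0, 3],
  !![7, 4, 0, 9; 2, 7, 11, 0; 0, 9, 7, 9; 11, 0, 11, 7],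
  !![7, 0, 6, 0; 0, 7, 0, 6; 7, 0, 7, 0; 0, 7, 0, 7],
  !![11, 0, 10, 0; 0, 11, 0, 10; 11, 0, 3, 0; 0, 11, 0, 3],
  !![3, 0, 10, 0; 0, 3, 0, 10; 11, 0, 11, 0; 0, 11, 0, 11],
  !![7, 0, 4, 0; 0, 7, 0, 4; 4, 0, 7, 0; 0, 4, 0, 7],
  !![7, 0, 7, 1; 0, 7, 7, 7; 6, 12, 7, 0; 6, 6, 0, 7],
  !![11, 0, 11, 0; 0, 11, 0, 11; 10, 0, 3, 0; 0, 10, 0, 3],
  !![7, 0, 9, 5; 0, 7, 9, 9; 9, 5, 7, 0; 9, 9, 0, 7],
  !![3, 8, 0, 0; 4, 3, 0, 0; 0, 0, 11, 5; 0, 0, 9, 11],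
  !![11, 0, 3, 0; 0, 11, 0, 3; 2, 0, 3, 0; 0, 2, 0, 3],
  !![7, 0, 0, 2; 0, 7, 1, 0; 0, 3, 7, 0; 8, 0, 0, 7],
  !![7, 0, 6, 12; 0, 7, 6, 6; 7, 1, 7, 0; 7, 7, 0, 7],
  !![7, 9, 0, 6; 11, 7, 3, 0; 0, 7, 7, 4; 10, 0, 2, 7],
  !![3, 0, 11, 0; 0, 3, 0, 11; 10, 0, 11, 0; 0, 10, 0, 11],
  !![7, 0, 4, 8; 0, 7, 4, 4; 4, 8, 7, 0; 4, 4, 0, 7],
  !![3, 0, 3, 0; 0, 3, 0, 3; 2, 0, 11, 0; 0, 2, 0, 11],
  !![7, 9, 0, 4; 11, 7, 2, 0; 0, 4, 7, 4; 2, 0, 2, 7],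
  !![7, 0, 7, 0; 0, 7, 0, 7; 6, 0, 7, 0; 0, 6, 0, 7],
  !![7, 0, 0, 11; 0, 7, 12, 0; 0, 10, 7, 0; 5, 0, 0, 7],
  !![7, 0, 9, 0; 0, 7, 0, 9; 9, 0, 7, 0; 0, 9, 0, 7],
  !![3, 0, 2, 0; 0, 3, 0, 2; 3, 0, 11, 0; 0, 3, 0, 11],
  !![11, 0, 0, 0; 0, 11, 0, 0; 0, 0, 3, 0; 0, 0, 0, 3],
  !![10, 0, 5, 0; 0, 10, 0, 5; 1, 0, 4, 0; 0, 1, 0, 4],
  !![7, 9, 0, 7; 11, 7, 10, 0; 0, 6, 7, 4; 3, 0, 2, 7],
  !![10, 0, 12, 0; 0, 10, 0, 12; 8, 0, 4, 0; 0, 8, 0, 4],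
  !![7, 0, 0, 3; 0, 7, 8, 0; 0, 2, 7, 0; 1, 0, 0, 7],
  !![7, 9, 0, 9; 11, 7, 11, 0; 0, 9, 7, 4; 11, 0, 2, 7],
  !![10, 0, 8, 0; 0, 10, 0, 8; 12, 0, 4, 0; 0, 12, 0, 4],
  !![11, 8, 0, 0; 4, 11, 0, 0; 0, 0, 3, 5; 0, 0, 9, 3],
  !![7, 0, 7, 12; 0, 7, 6, 7; 6, 1, 7, 0; 7, 6, 0, 7],
  !![7, 0, 9, 8; 0, 7, 4, 9; 9, 8, 7, 0; 4, 9, 0, 7]]

def la : Fin 48 → Fin 48 := ![1, 3, 5, 7, 9, 11, 13, 14, 15, 17, 19, 10, 21, 23, 25, 26, 28, 16, 12, 31, 33, 35, 32, 22, 37, 38, 24, 18, 20, 41, 40, 30, 43, 44, 42, 34, 27, 29, 45, 46, 2, 47, 36, 39, 4, 0, 6, 8]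

def lb : Fin 48 → Fin 48 := ![2, 4, 6, 8, 10, 12, 0, 13, 16, 18, 1, 20, 22, 24, 19, 27, 3, 29, 30, 32, 34, 26, 5, 36, 7, 28, 39, 33, 40, 35, 9, 42, 14, 15, 11, 17, 41, 44, 37, 21, 25, 23, 46, 47, 38, 43, 31, 45]

def lai : Fin 48 → Fin 48 := ![45, 0, 40, 1, 44, 2, 46, 3, 47, 4, 11, 5, 18, 6, 7, 8, 17, 9, 27, 10, 28, 12, 23, 13, 26, 14, 15, 36, 16, 37, 31, 19, 22, 20, 35, 21, 42, 24, 25, 43, 30, 29, 34, 32, 33, 38, 39, 41]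

def lbi : Fin 48 → Fin 48 := ![6, 10, 0, 16, 1, 22, 2, 24, 3, 30, 4, 34, 5, 7, 32, 33, 8, 35, 9, 14, 11, 39, 12, 41, 13, 40, 21, 15, 25, 17, 18, 46, 19, 27, 20, 29, 23, 38, 44, 26, 28, 36, 31, 45, 37, 47, 42, 43]

theorem tab_zero : tab 0 = 1 := by decide +kernel

theorem mulA : ∀ i, matA * tab i = tab (la i) := by decide +kernel
theorem mulB : ∀ i, matB * tab i = tab (lb i) := by decide +kernel
theorem mulAi : ∀ i, matAi * tab i = tab (lai i) := by decide +kernel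
theorem mulBi : ∀ i, matBi * tab i = tab (lbi i) := by decide +kernel

theorem inv_tab : ∀ i : Fin 48, i ≠ 0 → (1 - tab i) * itab i = 1 := by decide +kernel

theorem pow_tab : ∀ i : Fin 48,
    ((tab i * tab i) * (tab i * tab i)) * ((tab i * tab i) * (tab i * tab i)) = 1 ∨
    (tab i * tab i) * ((tab i * tab i) * (tab i * tab i)) = 1 := by decide +kernel

theorem tab_inj : ∀ i j : Fin 48, tab i = tab j → i = j := by decide +kernel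

theorem ord8 : tab 1 ^ 8 = 1 ∧ tab 1 ^ 4 ≠ 1 := by decide +kernel
theorem ord6 : tab 19 ^ 6 = 1 ∧ tab 19 ^ 3 ≠ 1 ∧ tab 19 ^ 2 ≠ 1 := by decide +kernel
theorem tabA : matA = tab 1 := by decide +kernel
theorem tabA4B : matA ^ 4 * matB = tab 19 := by decide +kernel

instance : Fact (Nat.Prime 13) := ⟨by norm_num⟩

def uA : M4ˣ := ⟨matA, matAi, by decide +kernel, by decide +kernel⟩
def uB : M4ˣ := ⟨matB, matBi, by decide +kernel, by decide +kernel⟩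

/-- the binary octahedral group -/
def C : Subgroup M4ˣ := Subgroup.closure {uA, uB}

theorem uA_mem : uA ∈ C := Subgroup.subset_closure (by simp)
theorem uB_mem : uB ∈ C := Subgroup.subset_closure (by simp)

theorem exists_tab {u : M4ˣ} (hu : u ∈ C) : ∃ i, (u : M4) = tab i := by
  induction hu using Subgroup.closure_induction_left with
  | one => exact ⟨0, by rw [tab_zero]; rfl⟩
  | mul_left x hx y hy ih =>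
    obtain ⟨i, hi⟩ := ih
    rcases hx with rfl | rfl
    · exact ⟨la i, by rw [Units.val_mul, hi]; exact mulA i⟩
    · exact ⟨lb i, by rw [Units.val_mul, hi]; exact mulB i⟩
  | inv_mul_cancel x hx y hy ih =>
    obtain ⟨i, hi⟩ := ih
    rcases hx with rfl | rfl
    · exact ⟨lai i, by rw [Units.val_mul, hi]; exact mulAi i⟩
    · exact ⟨lbi i, by rw [Units.val_mul, hi]; exact mulBi i⟩

theorem hfree : ∀ u ∈ C, u ≠ 1 → IsUnit (1 - (u : M4)) := by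
  intro u hu hne
  obtain ⟨i, hi⟩ := exists_tab hu
  have hi0 : i ≠ 0 := by
    rintro rfl
    apply hne
    apply Units.ext
    rw [hi, tab_zero]; rfl
  rw [hi]
  exact IsUnit.of_mul_eq_one _ (inv_tab i hi0)

theorem pow_eq_one (u : C) : u ^ 8 = 1 ∨ u ^ 6 = 1 := by
  obtain ⟨i, hi⟩ := exists_tab u.2
  rcases pow_tab i with h | h
  · left
    apply Subtype.ext; apply Units.ext
    simp only [Subgroup.coe_pow, Units.val_pow_eq_pow_val, hi, Subgroup.coe_one, Units.val_one]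
    rw [← h]; noncomm_ring
  · right
    apply Subtype.ext; apply Units.ext
    simp only [Subgroup.coe_pow, Units.val_pow_eq_pow_val, hi, Subgroup.coe_one, Units.val_one]
    rw [← h]; noncomm_ring

theorem orderOf_uA : orderOf (⟨uA, uA_mem⟩ : C) = 8 := by
  rw [Subgroup.orderOf_mk]
  have h1 : uA ^ 2 ^ (2 + 1) = 1 := by
    apply Units.ext
    rw [Units.val_pow_eq_pow_val]
    change matA ^ 8 = 1
    rw [tabA]; exact ord8.1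
  have h2 : ¬ uA ^ 2 ^ 2 = 1 := by
    intro h
    have := congrArg Units.val h
    rw [Units.val_pow_eq_pow_val] at this
    change matA ^ 4 = 1 at this
    rw [tabA] at this; exact ord8.2 this
  exact orderOf_eq_prime_pow h2 h1

theorem orderOf_x6 : orderOf (⟨uA ^ 4 * uB, mul_mem (pow_mem uA_mem 4) uB_mem⟩ : C) = 6 := by
  rw [Subgroup.orderOf_mk]
  have hv : ((uA ^ 4 * uB : M4ˣ) : M4) = tab 19 := by
    rw [Units.val_mul, Units.val_pow_eq_pow_val]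
    exact tabA4B
  have hp : ∀ k : ℕ, (((uA ^ 4 * uB) ^ k : M4ˣ) : M4) = tab 19 ^ k := by
    intro k; rw [Units.val_pow_eq_pow_val, hv]
  apply orderOf_eq_of_pow_and_pow_div_prime (by norm_num)
  · apply Units.ext; rw [hp]; exact ord6.1
  · intro q hq hdvd
    have hq6 : q ∣ 2 * 3 := hdvd
    rcases (Nat.Prime.dvd_mul hq).1 hq6 with h | h
    · have : q = 2 := (Nat.prime_dvd_prime_iff_eq hq Nat.prime_two).1 h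
      subst this
      intro h'
      have := congrArg Units.val h'
      rw [hp] at this
      exact ord6.2.1 this
    · have : q = 3 := (Nat.prime_dvd_prime_iff_eq hq Nat.prime_three).1 h
      subst this
      intro h'
      have := congrArg Units.val h'
      rw [hp] at this
      exact ord6.2.2 this

theorem spectrum : Set.range (orderOf : C → ℕ) = {1, 2, 3, 4, 6, 8} := by
  ext n
  simp only [Set.mem_range, Set.mem_insert_iff, Set.mem_singleton_iff]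
  constructor
  · rintro ⟨u, rfl⟩
    rcases pow_eq_one u with h | h
    · have hd := orderOf_dvd_of_pow_eq_one h
      have hle := Nat.le_of_dvd (by norm_num) hd
      have hpos := orderOf_pos_iff.2 (isOfFinOrder_iff_pow_eq_one.2 ⟨8, by norm_num, h⟩)
      interval_cases (orderOf u) <;> simp_all
    · have hd := orderOf_dvd_of_pow_eq_one h
      have hle := Nat.le_of_dvd (by norm_num) hd
      have hpos := orderOf_pos_iff.2 (isOfFinOrder_iff_pow_eq_one.2 ⟨6, by norm_num, h⟩)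
      interval_cases (orderOf u) <;> simp_all
  · have h8 := orderOf_uA
    have h6 := orderOf_x6
    rintro (rfl | rfl | rfl | rfl | rfl | rfl)
    · exact ⟨1, orderOf_one⟩
    · exact ⟨_, by rw [orderOf_pow_of_dvd (n := 4) (by norm_num) (by rw [h8]; norm_num), h8]⟩
    · exact ⟨_, by rw [orderOf_pow_of_dvd (n := 2) (by norm_num) (by rw [h6]; norm_num), h6]⟩
    · exact ⟨_, by rw [orderOf_pow_of_dvd (n := 2) (by norm_num) (by rw [h8]; norm_num), h8]⟩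
    · exact ⟨_, h6⟩
    · exact ⟨_, h8⟩

instance : Finite C := by
  have : Function.Injective (fun u : C => ((u : M4ˣ) : M4)) := by
    intro u v h
    exact Subtype.ext (Units.ext h)
  exact Finite.of_injective _ this

theorem card_eq : ∃ a b, Nat.card C = 2 ^ a * 3 ^ b := by
  have hpf : ∀ q : ℕ, q.Prime → q ∣ Nat.card C → q = 2 ∨ q = 3 := by
    intro q hq hdvd
    haveI := Fact.mk hq
    obtain ⟨u, hu⟩ := exists_prime_orderOf_dvd_card' q hdvd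
    rcases pow_eq_one u with h | h
    · have hd := orderOf_dvd_of_pow_eq_one h
      rw [hu] at hd
      left
      exact (Nat.prime_dvd_prime_iff_eq hq Nat.prime_two).1 (hq.dvd_of_dvd_pow (n := 3) hd)
    · have hd := orderOf_dvd_of_pow_eq_one h
      rw [hu] at hd
      have hd' : q ∣ 2 * 3 := hd
      rcases (Nat.Prime.dvd_mul hq).1 hd' with h | h
      · exact Or.inl ((Nat.prime_dvd_prime_iff_eq hq Nat.prime_two).1 h)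
      · exact Or.inr ((Nat.prime_dvd_prime_iff_eq hq Nat.prime_three).1 h)
  have hpos : Nat.card C ≠ 0 := Nat.card_pos.ne'
  refine ⟨(Nat.card C).factorization 2, (Nat.card C).factorization 3, ?_⟩
  apply Nat.eq_of_factorization_eq hpos (by positivity)
  intro q
  rw [Nat.factorization_mul (by positivity) (by positivity), Nat.factorization_pow,
    Nat.factorization_pow, Nat.prime_two.factorization, Nat.prime_three.factorization]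
  simp only [Finsupp.coe_add, Finsupp.coe_smul, Pi.add_apply, Pi.smul_apply, smul_eq_mul]
  by_cases h2 : q = 2
  · subst h2; simp
  by_cases h3 : q = 3
  · subst h3; simp
  · rw [Finsupp.single_apply, Finsupp.single_apply, if_neg (Ne.symm h2), if_neg (Ne.symm h3)]
    simp only [mul_zero, add_zero]
    by_cases hq : q.Prime
    · apply Nat.factorization_eq_zero_of_not_dvd
      intro hd
      rcases hpf q hq hd with h | h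
      · exact h2 h
      · exact h3 h
    · exact Nat.factorization_eq_zero_of_not_prime _ hq

instance isSolvable : Group.IsSolvable C := by
  obtain ⟨a, b, hab⟩ := card_eq
  exact Cfsg.Agent.Lib.helper3.Burnside.isSolvable_of_card_eq 2 3 Nat.prime_two Nat.prime_three
    _ C rfl ⟨a, b, hab⟩

end Cfsg.Agent.Lib.Helper8.BinOct13
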