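import Mathlib
import Cfsg.Prelude.Def_Blocks
import Cfsg.Agent.Lib.Helper8.BrauerA
import Cfsg.Agent.S0144
import Cfsg.Agent.S0914
import Cfsg.Agent.S4499
import Cfsg.Agent.Lib.helper3.Inflate2
import Cfsg.Agent.Lib.helper3.Degrees
import Cfsg.Agent.Lib.helper3.DefectOrder

/-! S4500 (helper8, after lead's note): `|G| = p^a q^b r^c`, `a ≤ 2`: non-principal irreducible
characters of `q`-power and of `r`-power degree. -/

set_option autoImplicit false
set_option linter.style.haveILetI false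
set_option linter.unusedSectionVars false
set_option linter.unusedVariables false

namespace Cfsg.Agent.Lib.Helper8.Brauer

open Cfsg Cfsg.Agent.Lib.helper3.Block Cfsg.Agent.Lib.helper3.Irr Cfsg.Agent.Lib.helper3.Lin
open Cfsg.Agent.Lib.helper3.CharBasic Cfsg.Agent.Lib.helper3.LocalM Cfsg.Agent.Lib.helper3.Central
open Module
open scoped ComplexConjugate

variable {G : Type*} [Group G] [Finite G]

/-- a non-perfect finite group has a non-principal linear character -/
theorem exists_linear_of_not_perfect (h : commutator G ≠ ⊤) :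
    ∃ χ : IrrCharacter G, (χ : G → ℂ) ≠ (fun _ => 1) ∧ (χ : G → ℂ) 1 = 1 := by
  classical
  have hidx : 1 < (commutator G).index := by
    have h1 : (commutator G).index ≠ 1 := by
      rw [Ne, Subgroup.index_eq_one]
      exact h
    have h0 : (commutator G).index ≠ 0 := Subgroup.index_ne_zero_of_finite
    omega
  rw [← card_linear_eq_index_commutator] at hidx
  haveI : Finite {χ : IrrCharacter G // (χ : G → ℂ) 1 = 1} := inferInstance
  obtain ⟨a, b, hab⟩ := Finite.one_lt_card_iff_nontrivial.mp hidx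
  by_cases ha : ((a : IrrCharacter G) : G → ℂ) = fun _ => 1
  · refine ⟨b, fun hb => hab ?_, b.2⟩
    apply Subtype.ext
    apply Subtype.ext
    rw [ha, hb]
  · exact ⟨a, ha, a.2⟩

/-- one half of S4500 -/
theorem exists_prime_power_degree [Nontrivial G] (p q r a b c : ℕ) (hp : p.Prime) (hq : q.Prime)
    (hr : r.Prime) (hpq : p ≠ q) (hpr : p ≠ r) (hqr : q ≠ r) (ha : a ≤ 2)
    (hG : Nat.card G = p ^ a * q ^ b * r ^ c) :
    ∃ χ : IrrCharacter G, (χ : G → ℂ) ≠ (fun _ => 1) ∧
      ∃ k : ℕ, Cfsg.charDegree (χ : G → ℂ) = q ^ k := by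
  classical
  letI : Fintype G := Fintype.ofFinite G
  by_cases hperf : commutator G = ⊤
  swap
  · obtain ⟨χ, hχ1, hχd⟩ := exists_linear_of_not_perfect hperf
    refine ⟨χ, hχ1, 0, ?_⟩
    rw [pow_zero]
    exact charDegree_eq (by rw [hχd]; simp)
  -- the perfect case
  have ha0 : a ≠ 0 := by
    intro h0
    rw [h0, pow_zero, one_mul] at hG
    haveI : Group.IsSolvable G := Cfsg.Agent.S0144.result q r b c hq hr hG
    exact (Group.IsSolvable.commutator_lt_top_of_nontrivial G).ne hperf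
  haveI : Fact p.Prime := ⟨hp⟩
  obtain ⟨M, hM⟩ := exists_isPModular p hp
  have hpG : p ∣ Nat.card G := by
    rw [hG]
    exact Dvd.dvd.mul_right (Dvd.dvd.mul_right (dvd_pow_self p ha0) _) _
  have hfac : (Nat.card G).factorization p = a := by
    rw [hG, Nat.factorization_mul
        (mul_ne_zero (pow_ne_zero _ hp.ne_zero) (pow_ne_zero _ hq.ne_zero))
        (pow_ne_zero _ hr.ne_zero),
      Nat.factorization_mul (pow_ne_zero _ hp.ne_zero) (pow_ne_zero _ hq.ne_zero)]
    simp only [Finsupp.coe_add, Pi.add_apply, Nat.factorization_pow, Finsupp.coe_smul,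
      Pi.smul_apply, smul_eq_mul]
    rw [Nat.factorization_eq_zero_of_not_dvd
        (fun h => hpq ((Nat.prime_dvd_prime_iff_eq hp hq).mp h)),
      Nat.factorization_eq_zero_of_not_dvd
        (fun h => hpr ((Nat.prime_dvd_prime_iff_eq hp hr).mp h)),
      hp.factorization_self]
    simp
  have h1B : oneIrr G ∈ Cfsg.principalBlock M G := oneIrr_mem_principalBlock M hM
  have hdeg1 : Cfsg.charDegree ((oneIrr G : IrrCharacter G) : G → ℂ) = 1 :=
    charDegree_eq (by show (1 : ℂ) = ((1 : ℕ) : ℂ); simp)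
  -- (i)
  have hi : ∀ χ : IrrCharacter G, χ ∈ Cfsg.principalBlock M G →
      ¬ p ∣ Cfsg.charDegree (χ : G → ℂ) := by
    intro χ hχB hpd
    have ha12 : a = 1 ∨ a = 2 := by omega
    rcases ha12 with ha1 | ha2
    · -- a = 1 : S0914
      obtain ⟨d, hd1, hdvd, hdpos⟩ := irr_degree_dvd_card χ.2
      have hcd : Cfsg.charDegree (χ : G → ℂ) = d := charDegree_eq hd1
      rw [hcd] at hpd
      have hnd : ¬ p ∣ Nat.card G / Cfsg.charDegree (χ : G → ℂ) := by
        rw [hcd]
        intro hdiv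
        have h2 : p * p ∣ Nat.card G := by
          obtain ⟨e, he⟩ := hdvd
          rw [he, Nat.mul_div_cancel_left e hdpos] at hdiv
          rw [he]
          exact Nat.mul_dvd_mul hpd hdiv
        have h3 : 2 ≤ (Nat.card G).factorization p := by
          rw [← pow_two] at h2
          exact (hp.pow_dvd_iff_le_factorization Nat.card_pos.ne').mp h2
        omega
      have hblock := (Cfsg.Agent.S0914.result p M hM χ).mp hnd
      have h1mem : oneIrr G ∈ Cfsg.blockOf M (χ : G → ℂ) := by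
        show Cfsg.SameBlock M (χ : G → ℂ) ((oneIrr G : IrrCharacter G) : G → ℂ)
        exact sameBlock_symm hχB
      rw [hblock, Set.mem_singleton_iff] at h1mem
      have hd1' : d = 1 := by rw [← hcd, ← h1mem, hdeg1]
      rw [hd1'] at hpd
      exact hp.one_lt.ne' (Nat.dvd_one.mp hpd)
    · -- a = 2 : S4499
      have hdiv : p ^ ((Nat.card G).factorization p - 1) ∣ Cfsg.charDegree (χ : G → ℂ) := by
        rw [hfac, ha2]
        simpa using hpd
      have h2 := Cfsg.Agent.S4499.result p M hM hpG (Cfsg.principalBlock M G)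
        (isPBlock_principalBlock M) χ hχB hdiv (oneIrr G) h1B
      rw [hfac, ha2, hdeg1] at h2
      have : p ∣ 1 := by simpa using h2
      exact hp.one_lt.ne' (Nat.dvd_one.mp this)
  -- (ii)
  by_contra hcon
  push Not at hcon
  obtain ⟨x, hx⟩ := exists_prime_orderOf_dvd_card' (G := G) p hpG
  apply weak_orth_contra p M hM x (by rw [hx]) r hr.one_lt.ne'
  intro χ hχB hχ1
  left
  by_contra hrd
  obtain ⟨d, hd1, hdvd, hdpos⟩ := irr_degree_dvd_card χ.2
  have hcd : Cfsg.charDegree (χ : G → ℂ) = d := charDegree_eq hd1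
  have hpd := hi χ hχB
  rw [hcd] at hpd hrd
  have hdp : d.Coprime (p ^ a) :=
    Nat.Coprime.pow_right a ((Nat.Prime.coprime_iff_not_dvd hp).mpr hpd).symm
  have hdr : d.Coprime (r ^ c) :=
    Nat.Coprime.pow_right c ((Nat.Prime.coprime_iff_not_dvd hr).mpr hrd).symm
  have hd2 : d ∣ q ^ b := by
    rw [hG] at hdvd
    have h1 : d ∣ p ^ a * q ^ b := hdr.dvd_of_dvd_mul_right hdvd
    exact hdp.dvd_of_dvd_mul_left h1
  obtain ⟨k, -, hk⟩ := (Nat.dvd_prime_pow hq).mp hd2
  exact hcon χ hχ1 k (by rw [hcd, hk])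

/-- S4500. -/
theorem s4500 [Nontrivial G] (p q r a b c : ℕ) (hp : p.Prime) (hq : q.Prime) (hr : r.Prime)
    (hpq : p ≠ q) (hpr : p ≠ r) (hqr : q ≠ r) (ha : a ≤ 2)
    (hG : Nat.card G = p ^ a * q ^ b * r ^ c) :
    (∃ χ : Cfsg.IrrCharacter G, (χ : G → ℂ) ≠ (fun _ => 1) ∧
      ∃ k : ℕ, Cfsg.charDegree (χ : G → ℂ) = q ^ k) ∧
    ∃ χ : Cfsg.IrrCharacter G, (χ : G → ℂ) ≠ (fun _ => 1) ∧
      ∃ k : ℕ, Cfsg.charDegree (χ : G → ℂ) = r ^ k :=
  ⟨exists_prime_power_degree p q r a b c hp hq hr hpq hpr hqr ha hG,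
   exists_prime_power_degree p r q a c b hp hr hq hpr hpq hqr.symm ha (by rw [hG]; ring)⟩

end Cfsg.Agent.Lib.Helper8.Brauer
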