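import Mathlib
import Cfsg.Agent.Lib.Helper8.BrauerB
import Cfsg.Agent.S0144

/-! S1001 (helper8): in a simple group of order `p * 3^a * 2^b` an element of order `p` is
self-centralizing -- a corollary of S0904 and Burnside's `p^a q^b` theorem. -/

set_option autoImplicit false
set_option linter.style.haveILetI false
set_option linter.unusedSectionVars false
set_option linter.unusedVariables false

namespace Cfsg.Agent.Lib.Helper8.Brauer

variable {G : Type*} [Group G] [Finite G]

theorem centralizer_singleton_eq_centralizer_zpowers (x : G) :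
    Subgroup.centralizer ({x} : Set G) = Subgroup.centralizer ((Subgroup.zpowers x : Subgroup G) : Set G) := by
  apply le_antisymm
  · intro y hy
    rw [Subgroup.mem_centralizer_singleton_iff] at hy
    rw [Subgroup.mem_centralizer_iff]
    rintro z ⟨k, rfl⟩
    have hc : Commute y x := hy
    exact ((hc.zpow_right k).eq).symm
  · exact Subgroup.centralizer_le (by
      intro z hz
      rw [Set.mem_singleton_iff] at hz
      rw [hz]
      exact Subgroup.mem_zpowers x)

/-- S1001. -/
theorem s1001 [IsSimpleGroup G] (p a b : ℕ) (hp : p.Prime)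
    (hG : Nat.card G = p * 3 ^ a * 2 ^ b) (x : G) (hx : orderOf x = p) :
    Subgroup.centralizer ({x} : Set G) = Subgroup.zpowers x := by
  classical
  haveI : Fact p.Prime := ⟨hp⟩
  have hzcard : Nat.card (Subgroup.zpowers x) = p := by rw [Nat.card_zpowers, hx]
  have hpG : p ∣ Nat.card G := by
    rw [hG]; exact Dvd.dvd.mul_right (dvd_mul_right p _) _
  by_cases hcomm : ∀ u v : G, u * v = v * u
  · -- abelian: `G` has prime order `p`
    letI : CommGroup G := { (inferInstance : Group G) with mul_comm := hcomm }
    have hprime : (Nat.card G).Prime := IsSimpleGroup.prime_card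
    have hGp : Nat.card G = p := ((Nat.prime_dvd_prime_iff_eq hp hprime).mp hpG).symm
    have hztop : Subgroup.zpowers x = ⊤ :=
      (Subgroup.card_eq_iff_eq_top _).mp (by rw [hzcard, hGp])
    rw [hztop, eq_top_iff]
    intro y _
    rw [Subgroup.mem_centralizer_singleton_iff]
    exact hcomm y x
  · -- non-abelian: `p ≠ 2, 3` by Burnside
    have hnsolv : ¬ Group.IsSolvable G := fun h => hcomm (IsSimpleGroup.comm_iff_isSolvable.mpr h)
    have hp2 : p ≠ 2 := by
      intro h
      apply hnsolv
      apply Cfsg.Agent.S0144.result 2 3 (b + 1) a Nat.prime_two Nat.prime_three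
      rw [hG, h]; ring
    have hp3 : p ≠ 3 := by
      intro h
      apply hnsolv
      apply Cfsg.Agent.S0144.result 2 3 b (a + 1) Nat.prime_two Nat.prime_three
      rw [hG, h]; ring
    have hcard' : Nat.card G = 2 ^ b * 3 ^ a * p := by rw [hG]; ring
    have hfac : (Nat.card G).factorization p = 1 := by
      rw [hcard', Nat.factorization_mul
          (mul_ne_zero (pow_ne_zero _ two_ne_zero) (pow_ne_zero _ three_ne_zero)) hp.ne_zero,
        Nat.factorization_mul (pow_ne_zero _ two_ne_zero) (pow_ne_zero _ three_ne_zero)]
      simp only [Finsupp.coe_add, Pi.add_apply, Nat.factorization_pow, Finsupp.coe_smul,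
        Pi.smul_apply, smul_eq_mul]
      rw [Nat.factorization_eq_zero_of_not_dvd
          (fun h => hp2 ((Nat.prime_dvd_prime_iff_eq hp Nat.prime_two).mp h)),
        Nat.factorization_eq_zero_of_not_dvd
          (fun h => hp3 ((Nat.prime_dvd_prime_iff_eq hp Nat.prime_three).mp h)),
        hp.factorization_self]
      simp
    set S : Sylow p G := Sylow.ofCard (Subgroup.zpowers x) (by rw [hzcard, hfac, pow_one]) with hS
    have hScoe : (S : Subgroup G) = Subgroup.zpowers x := Sylow.coe_ofCard _ _
    have h904 := s0904 2 3 p b a Nat.prime_two Nat.prime_three (by norm_num) hp2.symm hp3.symm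
      hcard' S
    have hSset : (S : Set G) = ((Subgroup.zpowers x : Subgroup G) : Set G) := by
      rw [← hScoe]; rfl
    rw [hSset, hScoe] at h904
    rw [centralizer_singleton_eq_centralizer_zpowers, h904]

end Cfsg.Agent.Lib.Helper8.Brauer
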