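import Mathlib
import Cfsg.Prelude.Def_Characters
import Cfsg.Agent.Lib.Helper5.BSW.Bb3a
import Cfsg.Agent.Lib.helper3.Irr13

/-!
# Brauer–Suzuki–Wall, abstract form (towards S3282): `BB3`, part b (restriction to `C(g)`)

(author: helper8; proof plan by lead)  For `g ∈ U` (`δ = -1`) and every character `χ` of `G`:
`χ(1) + ((q - 1)/2) (χ(g) + conj χ(g))` is a natural multiple of `q` (`q` times the multiplicity of the trivial
character in the restriction of `χ` to `C(g)`, a group of order `q` all of whose non-identity elements are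
conjugate to `g` or to `g⁻¹`).
-/

set_option autoImplicit false
set_option linter.unusedVariables false
set_option linter.unusedSectionVars false
set_option linter.style.haveILetI false
set_option linter.unusedSimpArgs false
set_option maxHeartbeats 1000000

namespace Cfsg.Agent.Lib.Helper8.BswBb3

open Subgroup Cfsg Cfsg.Agent.Lib.Lead.BSW Cfsg.Agent.Lib.helper3.Irr Cfsg.Agent.Lib.Helper5.BSW
open Cfsg.Agent.Lib.helper3.IndFun
open scoped ComplexConjugate
open Classical

variable {G : Type*} [Group G] [Fintype G] {t s : G} {K : Subgroup G}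

theorem bb3_restrict (h : Hyp t s K) (hk : 4 ≤ Nat.card K) (q : ℕ) (hB : BB1 K q (-1)) {g : G}
    (hg : InU K g) {χ : G → ℂ} (hχ : IsCharacter G χ) :
    ∃ n : ℕ, χ 1 + (((q : ℂ) - 1) / 2) * (χ g + conj (χ g)) = (q : ℂ) * n := by
  set P : Subgroup G := centralizer ({g} : Set G) with hPdef
  have hPcard : Nat.card P = q := minus_card_centralizer h hk q hB hg
  have hq0 : (q : ℂ) ≠ 0 := by
    have : 0 < q := by rw [← hPcard]; exact Nat.card_pos
    exact_mod_cast this.ne'
  -- the multiplicity of the trivial character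
  obtain ⟨n, hn⟩ := exists_nat_classInner_of_isCharacter (isCharacter_restrict hχ P)
    ⟨fun _ => 1, isIrrCharacter_one⟩
  rw [classInner_apply] at hn
  simp only [map_one, mul_one] at hn
  rw [hPcard] at hn
  have hsum : ∑ x : P, χ x = (q : ℂ) * n := by
    rw [← hn]
    field_simp
  refine ⟨n, ?_⟩
  rw [← hsum]
  -- the sum is invariant under inversion
  have hinv : ∑ x : P, χ x = ∑ x : P, conj (χ x) := by
    rw [← Equiv.sum_comp (Equiv.inv P) (fun x : P => χ x)]
    apply Finset.sum_congr rfl
    intro x _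
    show χ ((x⁻¹ : P) : G) = conj (χ x)
    rw [Subgroup.coe_inv]
    exact isCharacter_apply_inv hχ x
  have hone : conj (χ 1) = χ 1 := conj_apply_one hχ
  have hginv : χ g⁻¹ = conj (χ g) := isCharacter_apply_inv hχ g
  have hcl := isClassFunction_of_isCharacter hχ
  -- the values on `P`
  have hval : ∀ x : P, χ x + conj (χ x) =
      (χ g + conj (χ g)) + (if x = 1 then 2 * χ 1 - (χ g + conj (χ g)) else 0) := by
    intro x
    by_cases hx : x = 1
    · rw [if_pos hx, hx, Subgroup.coe_one, hone]
      ring
    · rw [if_neg hx, add_zero]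
      have hx1 : (x : G) ≠ 1 := fun e => hx (Subtype.ext e)
      have hxU : InU K (x : G) := inU_of_mem_centralizer h hg x.2 hx1
      rcases (inU_iff_isConj h hk q hB hg (x : G)).1 hxU with hc | hc
      · obtain ⟨w, hw⟩ := isConj_iff.1 hc
        have e : χ (x : G) = χ g := by rw [← hw]; exact hcl g w
        rw [e]
      · obtain ⟨w, hw⟩ := isConj_iff.1 hc
        have e : χ (x : G) = conj (χ g) := by rw [← hw, hcl g⁻¹ w, hginv]
        rw [e, Complex.conj_conj]
        ring
  have h2 : 2 * ∑ x : P, χ x = ∑ x : P, (χ x + conj (χ x)) := by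
    rw [Finset.sum_add_distrib, ← hinv]
    ring
  have h3 : ∑ x : P, (χ x + conj (χ x)) =
      (q : ℂ) * (χ g + conj (χ g)) + (2 * χ 1 - (χ g + conj (χ g))) := by
    simp only [hval]
    rw [Finset.sum_add_distrib, Finset.sum_const, Finset.card_univ, Finset.sum_ite_eq' Finset.univ
      (1 : P), if_pos (Finset.mem_univ _), ← Nat.card_eq_fintype_card, hPcard, nsmul_eq_mul]
  rw [h3] at h2
  have h4 : ∑ x : P, χ x = ((q : ℂ) * (χ g + conj (χ g)) + (2 * χ 1 - (χ g + conj (χ g)))) / 2 := by
    rw [← h2]; ring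
  rw [h4]
  ring

end Cfsg.Agent.Lib.Helper8.BswBb3
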