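import Mathlib

/-!
# From a projective-line model to `PGL₂(K)`

(author: helper8)  A group acting faithfully on (a copy of) `OnePoint K`, whose stabiliser of `∞`
consists of the affine maps `x ↦ s x + c`, realises all of them, and contains an element acting as
`x ↦ x⁻¹`, is isomorphic to `PGL₂(K)`.
-/

set_option autoImplicit false
set_option linter.unusedVariables false
set_option linter.unusedSectionVars false
set_option linter.unusedSimpArgs false
set_option linter.unnecessarySimpa false

namespace Cfsg.Agent.Lib.Helper8.PglP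

open Matrix OnePoint

variable {K : Type*} [Field K] [DecidableEq K]

/-- the matrix of the affine map `x ↦ s x + c` -/
noncomputable def affM (s c : K) (hs : s ≠ 0) : GL (Fin 2) K :=
  Matrix.GeneralLinearGroup.mkOfDetNeZero !![s, c; 0, 1] (by
    rw [Matrix.det_fin_two_of]; simpa using hs)

theorem affM_smul_infty (s c : K) (hs : s ≠ 0) : affM s c hs • (∞ : OnePoint K) = ∞ := by
  rw [OnePoint.smul_infty_eq_ite]
  simp [affM]

theorem affM_smul_coe (s c : K) (hs : s ≠ 0) (x : K) :
    affM s c hs • (x : OnePoint K) = ((s * x + c : K) : OnePoint K) := by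
  rw [OnePoint.smul_some_eq_ite]
  simp [affM]

/-- the matrix of `x ↦ x⁻¹` -/
noncomputable def swapM : GL (Fin 2) K :=
  Matrix.GeneralLinearGroup.mkOfDetNeZero !![0, 1; 1, 0] (by
    rw [Matrix.det_fin_two_of]; simp)

theorem swapM_smul_infty : (swapM : GL (Fin 2) K) • (∞ : OnePoint K) = ((0 : K) : OnePoint K) := by
  rw [OnePoint.smul_infty_eq_ite]
  simp [swapM]

theorem swapM_smul_zero : (swapM : GL (Fin 2) K) • ((0 : K) : OnePoint K) = ∞ := by
  rw [OnePoint.smul_some_eq_ite]
  simp [swapM]

theorem swapM_smul_coe (x : K) (hx : x ≠ 0) :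
    (swapM : GL (Fin 2) K) • (x : OnePoint K) = ((x⁻¹ : K) : OnePoint K) := by
  rw [OnePoint.smul_some_eq_ite]
  simp [swapM, hx]

theorem gl_det_ne (M : GL (Fin 2) K) : M 0 0 * M 1 1 - M 0 1 * M 1 0 ≠ 0 := by
  have h := M.det_ne_zero
  rw [Matrix.det_fin_two] at h
  exact h

/-- the kernel of the action of `GL₂(K)` on the projective line is the centre -/
theorem gl_smul_eq_id_iff (M : GL (Fin 2) K) :
    (∀ y : OnePoint K, M • y = y) ↔ M ∈ Subgroup.center (GL (Fin 2) K) := by
  have hdet := gl_det_ne M
  rw [Matrix.GeneralLinearGroup.mem_center_iff_val_mem_range_scalar]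
  constructor
  · intro h
    have h10 : M 1 0 = 0 := OnePoint.smul_infty_eq_self_iff.1 (h ∞)
    rw [h10, mul_zero, sub_zero] at hdet
    have h11 : M 1 1 ≠ 0 := right_ne_zero_of_mul hdet
    have h01 : M 0 1 = 0 := by
      have := h ((0 : K) : OnePoint K)
      rw [OnePoint.smul_some_eq_ite, h10, zero_mul, zero_add, if_neg h11, mul_zero, zero_add] at this
      have h2 : M 0 1 / M 1 1 = 0 := OnePoint.coe_injective this
      rcases div_eq_zero_iff.1 h2 with h3 | h3
      · exact h3
      · exact absurd h3 h11
    have h00 : M 0 0 = M 1 1 := by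
      have := h ((1 : K) : OnePoint K)
      rw [OnePoint.smul_some_eq_ite, h10, zero_mul, zero_add, if_neg h11, mul_one, h01,
        add_zero] at this
      have h2 : M 0 0 / M 1 1 = 1 := OnePoint.coe_injective this
      exact (div_eq_one_iff_eq h11).1 h2
    refine ⟨M 0 0, ?_⟩
    ext i j
    fin_cases i <;> fin_cases j
    · simp
    · simpa using h01.symm
    · simpa using h10.symm
    · simpa using h00
  · rintro ⟨r, hr⟩ y
    have e00 : M 0 0 = r := by
      show (M : Matrix (Fin 2) (Fin 2) K) 0 0 = r
      rw [← hr]; simp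
    have e01 : M 0 1 = 0 := by
      show (M : Matrix (Fin 2) (Fin 2) K) 0 1 = 0
      rw [← hr]; simp
    have e10 : M 1 0 = 0 := by
      show (M : Matrix (Fin 2) (Fin 2) K) 1 0 = 0
      rw [← hr]; simp
    have e11 : M 1 1 = r := by
      show (M : Matrix (Fin 2) (Fin 2) K) 1 1 = r
      rw [← hr]; simp
    rw [e00, e01, e10, e11, mul_zero, sub_zero] at hdet
    have hr0 : r ≠ 0 := left_ne_zero_of_mul hdet
    induction y using OnePoint.rec with
    | infty => rw [OnePoint.smul_infty_eq_ite, if_pos e10]
    | coe x =>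
      rw [OnePoint.smul_some_eq_ite, e10, e11, e00, e01, zero_mul, zero_add, if_neg hr0, add_zero,
        mul_div_cancel_left₀ _ hr0]

/-- **Model theorem for `PGL₂`.** -/
theorem pgl_of_model {G Ω : Type*} [Group G] [MulAction G Ω] [FaithfulSMul G Ω]
    (pt : OnePoint K → Ω) (hpt : Function.Bijective pt)
    (haff : ∀ g : G, g • pt ∞ = pt ∞ → ∃ s c : K, s ≠ 0 ∧
      ∀ x : K, g • pt (x : OnePoint K) = pt ((s * x + c : K) : OnePoint K))
    (hreal : ∀ s c : K, s ≠ 0 → ∃ g : G, g • pt ∞ = pt ∞ ∧
      ∀ x : K, g • pt (x : OnePoint K) = pt ((s * x + c : K) : OnePoint K))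
    (t : G) (ht_inf : t • pt ∞ = pt ((0 : K) : OnePoint K))
    (ht_0 : t • pt ((0 : K) : OnePoint K) = pt ∞)
    (ht : ∀ x : K, x ≠ 0 → t • pt (x : OnePoint K) = pt ((x⁻¹ : K) : OnePoint K)) :
    Nonempty (G ≃* Matrix.ProjGenLinGroup (Fin 2) K) := by
  classical
  have hinj := hpt.1
  have huniq : ∀ g g' : G, (∀ y : OnePoint K, g • pt y = g' • pt y) → g = g' := by
    intro g g' h
    apply FaithfulSMul.eq_of_smul_eq_smul (α := Ω)
    intro z
    obtain ⟨y, rfl⟩ := hpt.2 z
    exact h y
  -- realised matrices
  have hA : ∀ (s c : K) (hs : s ≠ 0), ∃ g : G, ∀ y : OnePoint K, g • pt y = pt (affM s c hs • y) := by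
    intro s c hs
    obtain ⟨g, hg1, hg2⟩ := hreal s c hs
    refine ⟨g, fun y => ?_⟩
    induction y using OnePoint.rec with
    | infty => rw [affM_smul_infty, hg1]
    | coe x => rw [affM_smul_coe, hg2]
  have hW : ∀ y : OnePoint K, t • pt y = pt ((swapM : GL (Fin 2) K) • y) := by
    intro y
    induction y using OnePoint.rec with
    | infty => rw [swapM_smul_infty, ht_inf]
    | coe x =>
      by_cases hx : x = 0
      · rw [hx, swapM_smul_zero, ht_0]
      · rw [swapM_smul_coe x hx, ht x hx]
  have hPmul : ∀ (M N : GL (Fin 2) K) (g g' : G),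
      (∀ y : OnePoint K, g • pt y = pt (M • y)) → (∀ y : OnePoint K, g' • pt y = pt (N • y)) →
      ∀ y : OnePoint K, (g * g') • pt y = pt ((M * N) • y) := by
    intro M N g g' hM hN y
    rw [mul_smul, hN, hM, mul_smul]
  have hP : ∀ M : GL (Fin 2) K, ∃ g : G, ∀ y : OnePoint K, g • pt y = pt (M • y) := by
    intro M
    have hdet := gl_det_ne M
    by_cases h10 : M 1 0 = 0
    · rw [h10, mul_zero, sub_zero] at hdet
      have h11 : M 1 1 ≠ 0 := right_ne_zero_of_mul hdet
      have h00 : M 0 0 ≠ 0 := left_ne_zero_of_mul hdet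
      obtain ⟨g, hg⟩ := hA (M 0 0 / M 1 1) (M 0 1 / M 1 1) (div_ne_zero h00 h11)
      refine ⟨g, fun y => ?_⟩
      rw [hg]
      congr 1
      induction y using OnePoint.rec with
      | infty => rw [affM_smul_infty, OnePoint.smul_infty_eq_ite, if_pos h10]
      | coe x =>
        rw [affM_smul_coe, OnePoint.smul_some_eq_ite, h10, zero_mul, zero_add, if_neg h11]
        congr 1
        field_simp
    · -- `M = (a x + b) / (c x + d)` with `c ≠ 0`
      have hs : (M 0 1 * M 1 0 - M 0 0 * M 1 1) / (M 1 0 * M 1 0) ≠ 0 := by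
        apply div_ne_zero
        · intro h
          apply hdet
          linear_combination -h
        · exact mul_ne_zero h10 h10
      obtain ⟨g₁, hg₁⟩ := hA _ (M 0 0 / M 1 0) hs
      obtain ⟨g₂, hg₂⟩ := hA 1 (M 1 1 / M 1 0) one_ne_zero
      refine ⟨g₁ * t * g₂, fun y => ?_⟩
      rw [mul_smul, mul_smul, hg₂, hW, hg₁]
      congr 1
      induction y using OnePoint.rec with
      | infty =>
        rw [affM_smul_infty, swapM_smul_infty, affM_smul_coe, OnePoint.smul_infty_eq_ite,
          if_neg h10, mul_zero, zero_add]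
      | coe x =>
        rw [affM_smul_coe, OnePoint.smul_some_eq_ite (g := M)]
        by_cases hx : M 1 0 * x + M 1 1 = 0
        · rw [if_pos hx]
          have : 1 * x + M 1 1 / M 1 0 = 0 := by
            field_simp
            linear_combination hx
          rw [this, swapM_smul_zero, affM_smul_infty]
        · rw [if_neg hx]
          have hne : 1 * x + M 1 1 / M 1 0 ≠ 0 := by
            intro h
            apply hx
            field_simp at h
            linear_combination h
          rw [swapM_smul_coe _ hne, affM_smul_coe]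
          congr 1
          have hx' : x * M 1 0 + M 1 1 ≠ 0 := by
            intro h
            apply hx
            linear_combination h
          field_simp
          ring
  choose f hf using hP
  let φ : GL (Fin 2) K →* G := MonoidHom.mk' f (by
    intro M N
    apply huniq
    intro y
    rw [hf, mul_smul, mul_smul, hf, hf])
  have hφ : ∀ M, φ M = f M := fun _ => rfl
  have hker : Subgroup.center (GL (Fin 2) K) = φ.ker := by
    ext M
    rw [MonoidHom.mem_ker, ← gl_smul_eq_id_iff]
    constructor
    · intro h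
      apply huniq
      intro y
      rw [hφ, hf, h, one_smul]
    · intro h y
      apply hinj
      rw [← hf, ← hφ, h, one_smul]
  -- surjectivity
  have hR_t : t ∈ φ.range := by
    refine ⟨swapM, ?_⟩
    apply huniq
    intro y
    rw [hφ, hf, hW]
  have hR_stab : ∀ g : G, g • pt ∞ = pt ∞ → g ∈ φ.range := by
    intro g hginf
    obtain ⟨s, c, hs0, hgx⟩ := haff g hginf
    refine ⟨affM s c hs0, ?_⟩
    apply huniq
    intro y
    rw [hφ, hf]
    induction y using OnePoint.rec with
    | infty => rw [affM_smul_infty, hginf]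
    | coe x => rw [affM_smul_coe, hgx]
  have hsurj : Function.Surjective φ := by
    intro g
    rw [← MonoidHom.mem_range]
    by_cases hginf : g • pt ∞ = pt ∞
    · exact hR_stab g hginf
    · obtain ⟨y, hy⟩ := hpt.2 (g • pt ∞)
      induction y using OnePoint.rec with
      | infty => exact absurd hy.symm hginf
      | coe y =>
        obtain ⟨r, hr1, hr2⟩ := hreal 1 (-y) one_ne_zero
        have h3 : (t * r * g) • pt ∞ = pt ∞ := by
          rw [mul_smul, mul_smul, ← hy, hr2, one_mul, add_neg_cancel, ht_0]
        have h4 := hR_stab _ h3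
        have h5 : g = r⁻¹ * (t⁻¹ * (t * r * g)) := by group
        rw [h5]
        exact φ.range.mul_mem (φ.range.inv_mem (hR_stab r hr1))
          (φ.range.mul_mem (φ.range.inv_mem hR_t) h4)
  exact ⟨((QuotientGroup.quotientMulEquivOfEq hker).trans
    (QuotientGroup.quotientKerEquivOfSurjective φ hsurj)).symm⟩

end Cfsg.Agent.Lib.Helper8.PglP
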