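import Mathlib

/-!
# The inversion map on a finite field, characterised

(author: helper8)  A multiplicative involution `τ` of the nonzero elements of a finite field with
at most two fixed points, satisfying the relation coming from `(x ↦ 1 - τ x)³ = 1`, is `x ↦ x⁻¹`.
-/

set_option autoImplicit false
set_option linter.unusedVariables false
set_option linter.unusedSectionVars false
set_option linter.unusedSimpArgs false
set_option linter.unnecessarySimpa false
set_option linter.style.haveILetI false

namespace Cfsg.Agent.Lib.Helper8.PglP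

theorem tau_eq_inv {K : Type*} [Field K] [Finite K] (τ : K → K)
    (h0 : ∀ x, x ≠ 0 → τ x ≠ 0)
    (hinv : ∀ x, x ≠ 0 → τ (τ x) = x)
    (h1 : τ 1 = 1)
    (hmul : ∀ x y, x ≠ 0 → y ≠ 0 → τ (x * y) = τ x * τ y)
    (hfix : ∀ x y z, x ≠ 0 → y ≠ 0 → z ≠ 0 → x ≠ y → y ≠ z → x ≠ z →
      τ x = x → τ y = y → τ z = z → False)
    (hw : ∀ x, x ≠ 0 → x ≠ 1 → 1 - τ (1 - τ (1 - τ x)) = x) :
    ∀ x, x ≠ 0 → τ x = x⁻¹ := by
  classical
  haveI : Fintype K := Fintype.ofFinite K
  -- fixed points square to one
  have hfix2 : ∀ x, x ≠ 0 → τ x = x → x * x = 1 := by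
    intro x hx hτx
    by_contra hne
    have hx1 : x ≠ 1 := by
      rintro rfl
      exact hne (one_mul 1)
    have hxx0 : x * x ≠ 0 := mul_ne_zero hx hx
    have hxxx : x ≠ x * x := by
      intro h
      apply hx1
      have : x * 1 = x * x := by rw [mul_one]; exact h
      exact (mul_left_cancel₀ hx this).symm
    exact hfix 1 x (x * x) one_ne_zero hx hxx0 (Ne.symm hx1) hxxx (Ne.symm hne) h1 hτx
      (by rw [hmul x x hx hx, hτx])
  have heps : ∀ x, x ≠ 0 → x * τ x = 1 ∨ x * τ x = -1 := by
    intro x hx
    have hτx := h0 x hx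
    have h2 : τ (x * τ x) = x * τ x := by
      rw [hmul x (τ x) hx hτx, hinv x hx, mul_comm]
    exact mul_self_eq_one_iff.1 (hfix2 _ (mul_ne_zero hx hτx) h2)
  have hepsmul : ∀ x y, x ≠ 0 → y ≠ 0 → (x * y) * τ (x * y) = (x * τ x) * (y * τ y) := by
    intro x y hx hy
    rw [hmul x y hx hy]
    ring
  have hsq : ∀ r, r ≠ 0 → (r * r) * τ (r * r) = 1 := by
    intro r hr
    rw [hepsmul r r hr hr]
    rcases heps r hr with h | h <;> rw [h] <;> ring
  -- the main dichotomy
  by_contra hcon
  push Not at hcon
  obtain ⟨ν, hν0, hντ⟩ := hcon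
  have hν1 : ν * τ ν ≠ 1 := by
    intro h
    apply hντ
    exact eq_inv_of_mul_eq_one_right h
  have hνm : ν * τ ν = -1 := by
    rcases heps ν hν0 with h | h
    · exact absurd h hν1
    · exact h
  have hneg : (-1 : K) ≠ 1 := by
    intro h
    rw [h] at hνm
    exact hν1 hνm
  have h2 : (2 : K) ≠ 0 := by
    intro h
    apply hneg
    linear_combination -h
  have hchar : ringChar K ≠ 2 := by
    intro h
    haveI : CharP K 2 := ringChar.of_eq h
    exact h2 (CharTwo.two_eq_zero)
  have hνns : ¬ IsSquare ν := by
    rintro ⟨r, hr⟩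
    have hr0 : r ≠ 0 := by
      rintro rfl
      rw [mul_zero] at hr
      exact hν0 hr
    rw [hr] at hν1
    exact hν1 (hsq r hr0)
  have hns0 : ∀ x : K, ¬ IsSquare x → x ≠ 0 := by
    intro x hx h
    apply hx
    rw [h]
    exact ⟨0, (mul_zero 0).symm⟩
  -- all nonsquares have sign `-1`
  have hns : ∀ x : K, ¬ IsSquare x → x * τ x = -1 := by
    intro x hx
    have hx0 := hns0 x hx
    have hprod : IsSquare (x * ν) := by
      rw [FiniteField.isSquare_iff hchar (mul_ne_zero hx0 hν0), mul_pow]
      have e1 : x ^ (Fintype.card K / 2) = -1 := by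
        rcases FiniteField.pow_dichotomy hchar hx0 with h | h
        · exact absurd ((FiniteField.isSquare_iff hchar hx0).2 h) hx
        · exact h
      have e2 : ν ^ (Fintype.card K / 2) = -1 := by
        rcases FiniteField.pow_dichotomy hchar hν0 with h | h
        · exact absurd ((FiniteField.isSquare_iff hchar hν0).2 h) hνns
        · exact h
      rw [e1, e2]
      ring
    obtain ⟨r, hr⟩ := hprod
    have hr0 : r ≠ 0 := by
      rintro rfl
      rw [mul_zero] at hr
      exact mul_ne_zero hx0 hν0 hr
    have e := hepsmul x ν hx0 hν0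
    rw [hr, hsq r hr0, hνm] at e
    linear_combination e
  have hsqτ : ∀ x : K, x ≠ 0 → IsSquare x → τ x = x⁻¹ := by
    rintro x hx ⟨r, rfl⟩
    have hr0 : r ≠ 0 := left_ne_zero_of_mul hx
    exact eq_inv_of_mul_eq_one_right (hsq r hr0)
  have hnsτ : ∀ x : K, ¬ IsSquare x → τ x = -x⁻¹ := by
    intro x hx
    have hx0 := hns0 x hx
    have := hns x hx
    field_simp
    linear_combination this
  -- `-1` is a square
  have hm1 : IsSquare (-1 : K) := by
    by_contra h
    have e := hns (-1) h
    have e2 : τ (-1) = 1 := by linear_combination -e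
    have e3 := hinv (-1) (neg_ne_zero.2 one_ne_zero)
    rw [e2, h1] at e3
    exact hneg e3.symm
  -- the key relation for nonsquares
  have hkey : ∀ x : K, ¬ IsSquare x → x * x = x + 1 := by
    intro x hx
    have hx0 := hns0 x hx
    have hx1 : x ≠ 1 := by
      rintro rfl
      exact hx ⟨1, (one_mul 1).symm⟩
    have hxm1 : x + 1 ≠ 0 := by
      intro h
      apply hx
      have : x = -1 := by linear_combination h
      rw [this]
      exact hm1
    have h1x : 1 - x ≠ 0 := by
      intro h
      apply hx1
      linear_combination -h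
    have hrel := hw x hx0 hx1
    rw [hnsτ x hx] at hrel
    set y : K := 1 - -x⁻¹ with hy
    have hyeq : y = (x + 1) / x := by
      rw [hy]
      field_simp
      ring
    have hy0 : y ≠ 0 := by
      rw [hyeq]
      exact div_ne_zero hxm1 hx0
    set z : K := 1 - τ y with hz
    have hτz : τ z = 1 - x := by linear_combination -hrel
    have hz0 : z ≠ 0 := by
      intro h
      have e1 : τ y = 1 := by
        rw [hz] at h
        linear_combination -h
      have e2 := hinv y hy0
      rw [e1, h1] at e2
      rw [← e2] at hyeq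
      have : x = x + 1 := by
        field_simp at hyeq
        exact hyeq
      exact one_ne_zero (α := K) (by linear_combination -this)
    have hzz : z = τ (1 - x) := by
      rw [← hτz, hinv z hz0]
    by_cases hysq : IsSquare y
    · have e1 : τ y = x / (x + 1) := by
        rw [hsqτ y hy0 hysq, hyeq, inv_div]
      by_cases hxsq : IsSquare (1 - x)
      · have e2 := hsqτ (1 - x) h1x hxsq
        rw [← hzz, hz, e1] at e2
        exfalso
        field_simp at e2
        apply mul_ne_zero h2 hx0
        linear_combination -e2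
      · have e2 := hnsτ (1 - x) hxsq
        rw [← hzz, hz, e1] at e2
        exfalso
        field_simp at e2
        apply h2
        linear_combination e2
    · have e1 : τ y = -(x / (x + 1)) := by
        rw [hnsτ y hysq, hyeq, inv_div]
      by_cases hxsq : IsSquare (1 - x)
      · have e2 := hsqτ (1 - x) h1x hxsq
        rw [← hzz, hz, e1] at e2
        exfalso
        field_simp at e2
        apply mul_ne_zero h2 (mul_ne_zero hx0 hx0)
        linear_combination -e2
      · have e2 := hnsτ (1 - x) hxsq
        rw [← hzz, hz, e1] at e2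
        field_simp at e2
        have h3 : (2 : K) * (x * x - (x + 1)) = 0 := by linear_combination -e2
        rcases mul_eq_zero.1 h3 with h4 | h4
        · exact absurd h4 h2
        · linear_combination h4
  have hνinv : ¬ IsSquare ν⁻¹ := by
    rintro ⟨r, hr⟩
    apply hνns
    refine ⟨r⁻¹, ?_⟩
    rw [← mul_inv, ← hr, inv_inv]
  have k1 := hkey ν hνns
  have k2 := hkey ν⁻¹ hνinv
  field_simp at k2
  apply mul_ne_zero h2 hν0
  linear_combination -k1 - k2
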