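import Mathlib
import Cfsg.Agent.Lib.Helper8.PglPA
import Cfsg.Agent.Lib.Helper8.PglPB

/-!
# From an affine model (finite field) of a group with trivial three-point stabilisers to `PGL₂(K)`

(author: helper8)
-/

set_option autoImplicit false
set_option linter.unusedVariables false
set_option linter.unusedSectionVars false
set_option linter.unusedSimpArgs false
set_option linter.unnecessarySimpa false
set_option linter.style.haveILetI false

namespace Cfsg.Agent.Lib.Helper8.PglP

open Matrix OnePoint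

set_option maxHeartbeats 1000000 in
/-- a group acting faithfully on a copy of the projective line over a finite field `K`, with trivial
three-point stabilisers, whose stabiliser of `∞` is the affine group of `K`, and which contains an
element interchanging `∞` and `0`, is `PGL₂(K)` -/
theorem pgl_of_affine_model {G Ω : Type*} [Group G] [MulAction G Ω] [FaithfulSMul G Ω]
    {K : Type*} [Field K] [Finite K] [DecidableEq K]
    (hfix3 : ∀ g : G, ∀ a b c : Ω, a ≠ b → b ≠ c → a ≠ c → g • a = a → g • b = b → g • c = c →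
      g = 1)
    (pt : OnePoint K → Ω) (hpt : Function.Bijective pt)
    (haff : ∀ g : G, g • pt ∞ = pt ∞ → ∃ s c : K, s ≠ 0 ∧
      ∀ x : K, g • pt (x : OnePoint K) = pt ((s * x + c : K) : OnePoint K))
    (hreal : ∀ s c : K, s ≠ 0 → ∃ g : G, g • pt ∞ = pt ∞ ∧
      ∀ x : K, g • pt (x : OnePoint K) = pt ((s * x + c : K) : OnePoint K))
    (t : G) (ht_inf : t • pt ∞ = pt ((0 : K) : OnePoint K))
    (ht_0 : t • pt ((0 : K) : OnePoint K) = pt ∞)
    (ht_1 : t • pt ((1 : K) : OnePoint K) = pt ((1 : K) : OnePoint K)) :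
    Nonempty (G ≃* Matrix.ProjGenLinGroup (Fin 2) K) := by
  classical
  have hinj := hpt.1
  have hne : ∀ x : K, pt (x : OnePoint K) ≠ pt ∞ := fun x h =>
    OnePoint.coe_ne_infty x (hinj h)
  have hcoe : ∀ x y : K, pt (x : OnePoint K) = pt (y : OnePoint K) → x = y := fun x y h =>
    OnePoint.coe_injective (hinj h)
  have hcoe_ne : ∀ x y : K, x ≠ y → pt (x : OnePoint K) ≠ pt (y : OnePoint K) := fun x y h h' =>
    h (hcoe x y h')
  have h01 : pt ((0 : K) : OnePoint K) ≠ pt ((1 : K) : OnePoint K) := hcoe_ne 0 1 zero_ne_one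
  have htt : t * t = 1 := by
    apply hfix3 _ (pt ∞) (pt ((0 : K) : OnePoint K)) (pt ((1 : K) : OnePoint K))
      (hne 0).symm h01 (hne 1).symm
    · rw [mul_smul, ht_inf, ht_0]
    · rw [mul_smul, ht_0, ht_inf]
    · rw [mul_smul, ht_1, ht_1]
  have htt' : ∀ z : Ω, t • t • z = z := fun z => by rw [← mul_smul, htt, one_smul]
  have ht1 : t ≠ 1 := by
    intro h
    rw [h, one_smul] at ht_inf
    exact hne 0 ht_inf.symm
  -- the map induced by `t`
  have hex : ∀ x : K, ∃ y : K, x ≠ 0 → t • pt (x : OnePoint K) = pt (y : OnePoint K) := by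
    intro x
    by_cases hx : x = 0
    · exact ⟨0, fun h => absurd hx h⟩
    · obtain ⟨y, hy⟩ := hpt.2 (t • pt (x : OnePoint K))
      induction y using OnePoint.rec with
      | infty =>
        exfalso
        rw [← ht_0] at hy
        exact hx (hcoe _ _ (MulAction.injective t hy)).symm
      | coe y => exact ⟨y, fun _ => hy.symm⟩
  choose τ hτ using hex
  have h0 : ∀ x, x ≠ 0 → τ x ≠ 0 := by
    intro x hx h
    have h3 := hτ x hx
    rw [h] at h3
    have h4 : t • t • pt (x : OnePoint K) = pt ∞ := by rw [h3, ht_0]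
    rw [htt'] at h4
    exact hne x h4
  have hinv : ∀ x, x ≠ 0 → τ (τ x) = x := by
    intro x hx
    have h3 := hτ (τ x) (h0 x hx)
    rw [← hτ x hx, htt'] at h3
    exact (hcoe _ _ h3).symm
  have h1 : τ 1 = 1 := by
    have h3 := hτ 1 one_ne_zero
    rw [ht_1] at h3
    exact (hcoe _ _ h3).symm
  have hτinj : ∀ x y, x ≠ 0 → y ≠ 0 → τ x = τ y → x = y := by
    intro x y hx hy h
    rw [← hinv x hx, ← hinv y hy, h]
  -- multiplicativity
  have hmul : ∀ x y, x ≠ 0 → y ≠ 0 → τ (x * y) = τ x * τ y := by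
    intro s y hs hy
    obtain ⟨g, hg1, hg2⟩ := hreal s 0 hs
    have hg2' : ∀ x : K, g • pt (x : OnePoint K) = pt ((s * x : K) : OnePoint K) := by
      intro x
      rw [hg2, add_zero]
    have hh1 : (t * g * t) • pt ∞ = pt ∞ := by
      rw [mul_smul, mul_smul, ht_inf, hg2', mul_zero, ht_0]
    have hh2 : (t * g * t) • pt ((0 : K) : OnePoint K) = pt ((0 : K) : OnePoint K) := by
      rw [mul_smul, mul_smul, ht_0, hg1, ht_inf]
    obtain ⟨s', c', hs', hh⟩ := haff _ hh1
    have hc' : c' = 0 := by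
      have := hh 0
      rw [hh2, mul_zero, zero_add] at this
      exact (hcoe _ _ this).symm
    have hkey : ∀ z, z ≠ 0 → τ (s * τ z) = s' * z := by
      intro z hz
      have e1 : (t * g * t) • pt (z : OnePoint K) = pt ((τ (s * τ z) : K) : OnePoint K) := by
        rw [mul_smul, mul_smul, hτ z hz, hg2', hτ _ (mul_ne_zero hs (h0 z hz))]
      rw [hh, hc', add_zero] at e1
      exact (hcoe _ _ e1).symm
    have hs'eq : τ s = s' := by
      have := hkey 1 one_ne_zero
      rwa [h1, mul_one, mul_one] at this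
    have := hkey (τ y) (h0 y hy)
    rw [hinv y hy] at this
    rw [this, hs'eq]
  -- at most two fixed points
  have hfix : ∀ x y z, x ≠ 0 → y ≠ 0 → z ≠ 0 → x ≠ y → y ≠ z → x ≠ z →
      τ x = x → τ y = y → τ z = z → False := by
    intro x y z hx hy hz hxy hyz hxz hτx hτy hτz
    apply ht1
    apply hfix3 t (pt (x : OnePoint K)) (pt (y : OnePoint K)) (pt (z : OnePoint K))
      (hcoe_ne _ _ hxy) (hcoe_ne _ _ hyz) (hcoe_ne _ _ hxz)
    · rw [hτ x hx, hτx]
    · rw [hτ y hy, hτy]
    · rw [hτ z hz, hτz]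
  -- the relation from an element of order three
  have hw : ∀ x, x ≠ 0 → x ≠ 1 → 1 - τ (1 - τ (1 - τ x)) = x := by
    obtain ⟨r, hr1, hr2⟩ := hreal (-1) 1 (neg_ne_zero.2 one_ne_zero)
    have hr2' : ∀ x : K, r • pt (x : OnePoint K) = pt ((1 - x : K) : OnePoint K) := by
      intro x
      rw [hr2]
      congr 2
      ring
    have hwx : ∀ x : K, x ≠ 0 → (r * t) • pt (x : OnePoint K) = pt ((1 - τ x : K) : OnePoint K) := by
      intro x hx
      rw [mul_smul, hτ x hx, hr2']
    have hw_inf : (r * t) • pt ∞ = pt ((1 : K) : OnePoint K) := by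
      rw [mul_smul, ht_inf, hr2', sub_zero]
    have hw_0 : (r * t) • pt ((0 : K) : OnePoint K) = pt ∞ := by
      rw [mul_smul, ht_0, hr1]
    have hw_1 : (r * t) • pt ((1 : K) : OnePoint K) = pt ((0 : K) : OnePoint K) := by
      rw [hwx 1 one_ne_zero, h1, sub_self]
    have hwww : (r * t) * (r * t) * (r * t) = 1 := by
      apply hfix3 _ (pt ∞) (pt ((0 : K) : OnePoint K)) (pt ((1 : K) : OnePoint K))
        (hne 0).symm h01 (hne 1).symm
      · rw [mul_smul, mul_smul, hw_inf, hw_1, hw_0]
      · rw [mul_smul, mul_smul, hw_0, hw_inf, hw_1]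
      · rw [mul_smul, mul_smul, hw_1, hw_0, hw_inf]
    intro x hx hx1
    have hy0 : 1 - τ x ≠ 0 := by
      intro h
      apply hx1
      apply hτinj x 1 hx one_ne_zero
      rw [h1]
      linear_combination -h
    have hz0 : 1 - τ (1 - τ x) ≠ 0 := by
      intro h
      have e1 : τ (1 - τ x) = τ 1 := by
        rw [h1]
        linear_combination -h
      have e2 := hτinj _ _ hy0 one_ne_zero e1
      apply h0 x hx
      linear_combination -e2
    have e : ((r * t) * (r * t) * (r * t)) • pt (x : OnePoint K) =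
        pt ((1 - τ (1 - τ (1 - τ x)) : K) : OnePoint K) := by
      rw [mul_smul, mul_smul, hwx x hx, hwx _ hy0, hwx _ hz0]
    rw [hwww, one_smul] at e
    exact (hcoe _ _ e).symm
  have hτeq := tau_eq_inv τ h0 hinv h1 hmul hfix hw
  exact pgl_of_model pt hpt haff hreal t ht_inf ht_0 (fun x hx => by rw [hτ x hx, hτeq x hx])

end Cfsg.Agent.Lib.Helper8.PglP
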