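import Mathlib

/-!
# The affine model over `ZMod p` from a regular normal subgroup of prime order of a point stabiliser

(author: helper8; the coordinatisation follows helper5's `Zass3.prime_model`)
-/

set_option autoImplicit false
set_option linter.unusedVariables false
set_option linter.unusedSectionVars false
set_option linter.unusedSimpArgs false
set_option linter.unnecessarySimpa false
set_option linter.style.haveILetI false

namespace Cfsg.Agent.Lib.Helper8.PglP

open OnePoint

set_option maxHeartbeats 1000000 in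
theorem affine_model_of_kernel {G Ω : Type*} [Group G] [MulAction G Ω] {p : ℕ} [hpf : Fact p.Prime]
    {a b : Ω} (hab : a ≠ b) (Q : Subgroup G) (hQcard : Nat.card Q = p)
    (hQa : ∀ k ∈ Q, k • a = a)
    (hQfix : ∀ k ∈ Q, ∀ c : Ω, c ≠ a → k • c = c → k = 1)
    (hQtrans : ∀ c d : Ω, c ≠ a → d ≠ a → ∃ k ∈ Q, k • c = d)
    (hQnorm : ∀ g : G, g • a = a → ∀ k ∈ Q, g * k * g⁻¹ ∈ Q) :
    ∃ pt : OnePoint (ZMod p) → Ω, Function.Bijective pt ∧ pt ∞ = a ∧
      pt ((0 : ZMod p) : OnePoint (ZMod p)) = b ∧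
      (∀ g : G, g • pt ∞ = pt ∞ → ∃ s c : ZMod p, s ≠ 0 ∧
        ∀ x : ZMod p, g • pt (x : OnePoint (ZMod p)) = pt ((s * x + c : ZMod p) : OnePoint (ZMod p))) := by
  classical
  have hp := hpf.out
  haveI hQfin : Finite Q := Nat.finite_of_card_ne_zero (by rw [hQcard]; exact hp.ne_zero)
  -- a generator
  obtain ⟨k₀, hk₀Q, hk₀1⟩ : ∃ k₀ ∈ Q, k₀ ≠ 1 := by
    have h1 : 1 < Nat.card Q := by rw [hQcard]; exact hp.one_lt
    have : Finite Q := Nat.finite_of_card_ne_zero (by omega)
    have : Nontrivial Q := Finite.one_lt_card_iff_nontrivial.1 h1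
    obtain ⟨x, hx⟩ := exists_ne (1 : Q)
    exact ⟨x, x.2, fun h' => hx (Subtype.ext h')⟩
  have hord : orderOf k₀ = p := by
    have h1 : orderOf (⟨k₀, hk₀Q⟩ : Q) ∣ p := by
      rw [← hQcard]
      exact orderOf_dvd_natCard _
    rw [Subgroup.orderOf_mk] at h1
    rcases (Nat.dvd_prime hp).1 h1 with h2 | h2
    · exact absurd (orderOf_eq_one_iff.1 h2) hk₀1
    · exact h2
  have hQgen : ∀ k ∈ Q, ∃ n : ℕ, k = k₀ ^ n := by
    intro k hk
    have : Fact (Nat.card Q).Prime := ⟨by rw [hQcard]; exact hp⟩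
    have h1 : (⟨k, hk⟩ : Q) ∈ Subgroup.zpowers (⟨k₀, hk₀Q⟩ : Q) :=
      mem_zpowers_of_prime_card (G := Q) rfl (fun h' => hk₀1 (congrArg Subtype.val h'))
    obtain ⟨n, hn⟩ := (mem_powers_iff_mem_zpowers.2 h1)
    exact ⟨n, (congrArg Subtype.val hn).symm⟩
  -- translations
  let tr : ZMod p → G := fun x => k₀ ^ x.val
  have hpow : ∀ A B : ℕ, (A : ZMod p) = (B : ZMod p) → k₀ ^ A = k₀ ^ B := by
    intro A B hAB
    rw [pow_eq_pow_iff_modEq, hord]
    exact (ZMod.natCast_eq_natCast_iff A B p).1 hAB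
  have htrQ : ∀ x : ZMod p, tr x ∈ Q := fun x => Q.pow_mem hk₀Q _
  have htr_add : ∀ x y : ZMod p, tr x * tr y = tr (x + y) := by
    intro x y
    show k₀ ^ x.val * k₀ ^ y.val = k₀ ^ (x + y).val
    rw [← pow_add]
    apply hpow
    rw [Nat.cast_add, ZMod.natCast_zmod_val, ZMod.natCast_zmod_val, ZMod.natCast_zmod_val]
  have htr_nat : ∀ n : ℕ, tr (n : ZMod p) = k₀ ^ n := by
    intro n
    show k₀ ^ ((n : ZMod p)).val = k₀ ^ n
    apply hpow
    rw [ZMod.natCast_zmod_val]
  have htr_zero : tr 0 = 1 := by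
    have := htr_nat 0
    rwa [Nat.cast_zero, pow_zero] at this
  have htr_surj : ∀ k ∈ Q, ∃ x : ZMod p, tr x = k := by
    intro k hk
    obtain ⟨n, rfl⟩ := hQgen k hk
    exact ⟨(n : ZMod p), htr_nat n⟩
  have htr_inj : ∀ x y : ZMod p, tr x = tr y → x = y := by
    intro x y hxy
    have h1 : k₀ ^ x.val = k₀ ^ y.val := hxy
    rw [pow_eq_pow_iff_modEq, hord, ← ZMod.natCast_eq_natCast_iff, ZMod.natCast_zmod_val,
      ZMod.natCast_zmod_val] at h1
    exact h1
  have htr_pow : ∀ (m : ZMod p) (n : ℕ), tr m ^ n = tr ((n : ZMod p) * m) := by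
    intro m n
    induction n with
    | zero => rw [pow_zero, Nat.cast_zero, zero_mul, htr_zero]
    | succ n ih =>
      rw [pow_succ, ih, htr_add]
      congr 1
      push_cast
      ring
  -- conjugation multiplies
  have hconj : ∀ g : G, g • a = a → ∃ m : ZMod p, m ≠ 0 ∧
      ∀ x : ZMod p, g * tr x * g⁻¹ = tr (m * x) := by
    intro g hg
    obtain ⟨m, hm⟩ := htr_surj _ (hQnorm g hg k₀ hk₀Q)
    have hk₀tr : tr 1 = k₀ := by
      have := htr_nat 1
      rwa [Nat.cast_one, pow_one] at this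
    refine ⟨m, ?_, ?_⟩
    · rintro rfl
      rw [htr_zero] at hm
      apply hk₀1
      have : k₀ = g⁻¹ * (g * k₀ * g⁻¹) * g := by group
      rw [this, ← hm]
      group
    · intro x
      have h1 : tr x = k₀ ^ x.val := rfl
      have h2 : g * k₀ ^ x.val * g⁻¹ = (g * k₀ * g⁻¹) ^ x.val := by
        have : ∀ n : ℕ, g * k₀ ^ n * g⁻¹ = (g * k₀ * g⁻¹) ^ n := by
          intro n
          induction n with
          | zero => simp
          | succ n ih =>
            rw [pow_succ, pow_succ, ← ih]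
            group
        exact this _
      rw [h1, h2, ← hm, htr_pow, ZMod.natCast_zmod_val, mul_comm]
  -- the points
  let pt : OnePoint (ZMod p) → Ω := fun y => match y with
    | Option.none => a
    | Option.some x => tr x • b
  have hpt_inf : pt ∞ = a := rfl
  have hpt_coe : ∀ x : ZMod p, pt (x : OnePoint (ZMod p)) = tr x • b := fun _ => rfl
  have hpt_ne : ∀ x : ZMod p, pt (x : OnePoint (ZMod p)) ≠ a := by
    intro x hx
    rw [hpt_coe] at hx
    have h1 : tr x • b = tr x • a := by rw [hx, hQa _ (htrQ x)]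
    exact hab (MulAction.injective _ h1).symm
  have hpt_bij : Function.Bijective pt := by
    constructor
    · intro y y' hyy
      induction y using OnePoint.rec with
      | infty =>
        induction y' using OnePoint.rec with
        | infty => rfl
        | coe x' => exact absurd hyy.symm (hpt_ne x')
      | coe x =>
        induction y' using OnePoint.rec with
        | infty => exact absurd hyy (hpt_ne x)
        | coe x' =>
          rw [hpt_coe, hpt_coe] at hyy
          have h1 : (tr x')⁻¹ * tr x = 1 :=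
            hQfix _ (Q.mul_mem (Q.inv_mem (htrQ x')) (htrQ x)) b hab.symm (by
              rw [mul_smul, hyy, inv_smul_smul])
          have h2 : tr x = tr x' := (inv_mul_eq_one.1 h1).symm
          rw [htr_inj x x' h2]
    · intro c
      by_cases hc : c = a
      · exact ⟨∞, hc.symm⟩
      · obtain ⟨k, hk, hkb⟩ := hQtrans b c hab.symm hc
        obtain ⟨x, rfl⟩ := htr_surj k hk
        exact ⟨(x : OnePoint (ZMod p)), hkb⟩
  have hpt0 : pt ((0 : ZMod p) : OnePoint (ZMod p)) = b := by
    rw [hpt_coe, htr_zero, one_smul]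
  refine ⟨pt, hpt_bij, hpt_inf, hpt0, ?_⟩
  intro g hg
  rw [hpt_inf] at hg
  obtain ⟨m, hm0, hm⟩ := hconj g hg
  have hgb : g • b ≠ a := by
    intro h'
    have : g • b = g • a := by rw [h', hg]
    exact hab (MulAction.injective _ this).symm
  obtain ⟨k, hk, hkb⟩ := hQtrans b (g • b) hab.symm hgb
  obtain ⟨c, rfl⟩ := htr_surj k hk
  refine ⟨m, c, hm0, ?_⟩
  intro x
  rw [hpt_coe, hpt_coe]
  have : g • tr x • b = (g * tr x * g⁻¹) • g • b := by
    rw [← mul_smul, ← mul_smul]
    congr 1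
    group
  rw [this, hm, ← hkb, ← mul_smul, htr_add]

end Cfsg.Agent.Lib.Helper8.PglP
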