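import Mathlib
import Cfsg.Agent.Lib.Helper8.PglPC
import Cfsg.Agent.Lib.Helper8.PglPD
import Cfsg.Agent.Lib.Helper5.PP1.Basic2
import Cfsg.Agent.Lib.Helper4.WagnerBase
import Cfsg.Agent.Lib.Lead.SharpThree

/-!
# A sharply 3-transitive group of degree `p + 1` is `PGL₂(p)`

(author: helper8)
-/

set_option autoImplicit false
set_option linter.unusedVariables false
set_option linter.unusedSectionVars false
set_option linter.unusedSimpArgs false
set_option linter.unnecessarySimpa false
set_option linter.style.haveILetI false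

namespace Cfsg.Agent.Lib.Helper8.PglP

open MulAction OnePoint

/-- the order of a sharply 3-transitive group -/
theorem card_of_sharp3 {G Ω : Type*} [Group G] [MulAction G Ω] [Fintype Ω]
    (h3 : IsMultiplyPretransitive G Ω 3) (hsharp : ∀ x : Fin 3 ↪ Ω, stabilizer G x = ⊥)
    (h : 3 ≤ Fintype.card Ω) :
    Nat.card G = (Fintype.card Ω).descFactorial 3 := by
  classical
  obtain ⟨x₀⟩ : Nonempty (Fin 3 ↪ Ω) := by
    rw [Function.Embedding.nonempty_iff_card_le]
    simpa using h
  have hbij : Function.Bijective (fun g : G => g • x₀) := by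
    constructor
    · intro g g' hgg
      have hgg' : g • x₀ = g' • x₀ := hgg
      have : g'⁻¹ * g ∈ stabilizer G x₀ := by
        rw [mem_stabilizer_iff, mul_smul, hgg', inv_smul_smul]
      rw [hsharp, Subgroup.mem_bot] at this
      exact (inv_mul_eq_one.1 this).symm
    · intro y
      exact h3.exists_smul_eq x₀ y
  rw [Nat.card_eq_of_bijective _ hbij, Nat.card_eq_fintype_card, Fintype.card_embedding_eq,
    Fintype.card_fin]

set_option maxHeartbeats 1000000 in
/-- **(L4)** a sharply 3-transitive group of degree `p + 1`, `p` prime, is `PGL₂(p)` -/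
theorem pgl_of_sharp3 {G Ω : Type*} [Group G] [Finite G] [MulAction G Ω] [Fintype Ω]
    [FaithfulSMul G Ω] {p : ℕ} [Fact p.Prime] (hΩ : Fintype.card Ω = p + 1)
    (h3 : MulAction.IsMultiplyPretransitive G Ω 3)
    (hsharp : ∀ x : Fin 3 ↪ Ω, MulAction.stabilizer G x = ⊥) :
    Nonempty (G ≃* Matrix.ProjGenLinGroup (Fin 2) (ZMod p)) := by
  classical
  have hp : p.Prime := Fact.out
  have hp2 := hp.two_le
  have hfix : ∀ g : G, ∀ a b c : Ω, a ≠ b → b ≠ c → a ≠ c → g • a = a → g • b = b → g • c = c →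
      g = 1 := fun g a b c hab hbc hac ha hb hc =>
    Cfsg.Agent.Lead.SharpThree.eq_one_of_fix3 hsharp g hab hac hbc ha hb hc
  have h3le : 3 ≤ Fintype.card Ω := by omega
  obtain ⟨a, b, c, hab, hac, hbc⟩ := Fintype.two_lt_card_iff.1 (by omega : 2 < Fintype.card Ω)
  have hG : Nat.card G = (p + 1) * p * (p - 1) := by
    rw [card_of_sharp3 h3 hsharp h3le, hΩ]
    obtain ⟨k, rfl⟩ : ∃ k, p = k + 1 := ⟨p - 1, by omega⟩
    simp only [Nat.descFactorial, Nat.add_sub_cancel]
    have e1 : k + 1 + 1 - 2 = k := by omega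
    have e2 : k + 1 + 1 - 1 = k + 1 := by omega
    simp only [e1, e2, Nat.sub_zero]
    ring
  haveI hpre : IsPretransitive G Ω := by
    haveI := h3
    have h1 : IsMultiplyPretransitive G Ω 1 :=
      isMultiplyPretransitive_of_le (G := G) (α := Ω) (m := 1) (n := 3) (by omega)
        (by rw [Nat.card_eq_fintype_card]; omega)
    exact is_one_pretransitive_iff.1 h1
  obtain ⟨Q, hK⟩ := Cfsg.Agent.Lib.Helper5.PP1.exists_ker (G := G) (Ω := Ω) hp hΩ hG
    (by omega : p - 1 < p) a
  obtain ⟨pt, hbij, hpt_inf, hpt0, haff⟩ := affine_model_of_kernel hab Q hK.card hK.fix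
    (hK.semi hp) (hK.trans hp hΩ) hK.norm
  have hinj := hbij.1
  have hne : ∀ x : ZMod p, pt (x : OnePoint (ZMod p)) ≠ pt ∞ := fun x h =>
    OnePoint.coe_ne_infty x (hinj h)
  have hcoe : ∀ x y : ZMod p, pt (x : OnePoint (ZMod p)) = pt (y : OnePoint (ZMod p)) → x = y :=
    fun x y h => OnePoint.coe_injective (hinj h)
  have hcoe_ne : ∀ x y : ZMod p, x ≠ y → pt (x : OnePoint (ZMod p)) ≠ pt (y : OnePoint (ZMod p)) :=
    fun x y h h' => h (hcoe x y h')
  have h01 : pt ((0 : ZMod p) : OnePoint (ZMod p)) ≠ pt ((1 : ZMod p) : OnePoint (ZMod p)) :=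
    hcoe_ne 0 1 zero_ne_one
  -- all affine maps are realised
  have hreal : ∀ s c : ZMod p, s ≠ 0 → ∃ g : G, g • pt ∞ = pt ∞ ∧
      ∀ x : ZMod p, g • pt (x : OnePoint (ZMod p)) =
        pt ((s * x + c : ZMod p) : OnePoint (ZMod p)) := by
    intro s c hs
    have hne' : c ≠ s + c := by
      intro h
      apply hs
      linear_combination -h
    obtain ⟨g, hg1, hg2, hg3⟩ := Cfsg.Agent.Lib.Helper4.Wagner.three_elementwise h3
      (hne 0).symm (hne 1).symm h01 (hne c).symm (hne (s + c)).symm (hcoe_ne _ _ hne')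
    obtain ⟨s', c', hs', hg⟩ := haff g hg1
    have hc' : c' = c := by
      have := hg 0
      rw [hg2, mul_zero, zero_add] at this
      exact (hcoe _ _ this).symm
    have hs'eq : s' = s := by
      have := hg 1
      rw [hg3, mul_one, hc'] at this
      have := hcoe _ _ this
      linear_combination -this
    refine ⟨g, hg1, fun x => ?_⟩
    rw [hg, hs'eq, hc']
  obtain ⟨t, ht1, ht2, ht3⟩ := Cfsg.Agent.Lib.Helper4.Wagner.three_elementwise h3
    (hne 0).symm (hne 1).symm h01 (hne 0) h01 (hne 1).symm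
  exact pgl_of_affine_model hfix pt hbij haff hreal t ht1 ht2 ht3

end Cfsg.Agent.Lib.Helper8.PglP
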