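import Mathlib
import Cfsg.Agent.Lib.Helper8.BswDA
import Cfsg.Agent.Lib.Helper8.PglPE
import Cfsg.Agent.S0731

/-!
# From the conclusion of the abstract Brauer–Suzuki–Wall theorem to `PSL₂` (part B)

(author: helper8)
-/

set_option autoImplicit false
set_option linter.unusedVariables false
set_option linter.unusedSectionVars false
set_option linter.unusedSimpArgs false
set_option linter.unnecessarySimpa false
set_option linter.style.haveILetI false

namespace Cfsg.Agent.Lib.Helper8.BswD

open MulAction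

/-- a simple group of order 12 does not exist (Burnside transfer for a self-normalising subgroup of
order 3) -/
theorem false_of_twelve {G : Type*} [Group G] [Finite G] [IsSimpleGroup G] (Q : Subgroup G)
    (hQ : Nat.card Q = 3) (hG : Nat.card G = 12) (hNQ : Subgroup.normalizer (Q : Set G) = Q)
    (hcomm : ∀ x ∈ Q, ∀ y ∈ Q, x * y = y * x) : False := by
  haveI : Fact (Nat.Prime 3) := ⟨Nat.prime_three⟩
  have hfac : (12 : ℕ).factorization 3 = 1 := by
    have : (12 : ℕ) = 3 * 4 := by norm_num
    rw [this, Nat.factorization_mul (by norm_num) (by norm_num), Finsupp.add_apply,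
      Nat.Prime.factorization_self Nat.prime_three,
      Nat.factorization_eq_zero_of_not_dvd (by norm_num)]
  let P : Sylow 3 G := Sylow.ofCard Q (by rw [hQ, hG, hfac, pow_one])
  have hPQ : (P : Subgroup G) = Q := Sylow.coe_ofCard _ _
  have hP : Subgroup.normalizer ((P : Subgroup G) : Set G) ≤
      Subgroup.centralizer ((P : Subgroup G) : Set G) := by
    rw [hPQ, hNQ]
    intro x hx
    rw [Subgroup.mem_centralizer_iff]
    intro y hy
    exact hcomm y hy x hx
  have hcomp := MonoidHom.ker_transferSylow_isComplement' P hP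
  have hc := hcomp.card_mul_card
  have hPc : Nat.card ↥(P : Subgroup G) = 3 := by rw [hPQ, hQ]
  rw [hPc, hG] at hc
  rcases (MonoidHom.normal_ker (MonoidHom.transferSylow P hP)).eq_bot_or_eq_top with h | h
  · rw [h, Subgroup.card_bot] at hc
    omega
  · rw [h, Subgroup.card_top, hG] at hc
    omega

set_option maxHeartbeats 1600000 in
/-- **From `Q`, `D` as in the abstract Brauer–Suzuki–Wall theorem to `PSL₂`.** -/
theorem psl_of_QD {G : Type*} [Group G] [Finite G] [IsSimpleGroup G]
    (Q D : Subgroup G)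
    (hcard : 2 * Nat.card G = Nat.card Q * (Nat.card Q + 1) * (Nat.card Q - 1))
    (hCQ : ∀ x ∈ Q, x ≠ 1 → Subgroup.centralizer ({x} : Set G) = Q)
    (hDQ : 2 * Nat.card D + 1 = Nat.card Q) (hQD : Q ⊓ D = ⊥)
    (hN : Subgroup.normalizer (Q : Set G) = Q ⊔ D) :
    ∃ (F : Type) (_ : Field F) (_ : Fintype F), Odd (Fintype.card F) ∧
      Nonempty (G ≃* Matrix.ProjectiveSpecialLinearGroup (Fin 2) F) := by
  classical
  have hd0 : 0 < Nat.card D := Nat.card_pos
  have hGpos : 0 < Nat.card G := Nat.card_pos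
  have hcomm := comm_of_cc Q hCQ
  have hQM : Q ≤ Subgroup.normalizer (Q : Set G) := Subgroup.le_normalizer
  have hDM : D ≤ Subgroup.normalizer (Q : Set G) := by rw [hN]; exact le_sup_right
  have hMcard : Nat.card ↥(Subgroup.normalizer (Q : Set G)) = Nat.card Q * Nat.card D := by
    rw [hN]
    exact card_sup_of_le_normalizer' Q D hDM hQD
  have hGcard : Nat.card G = Nat.card Q * Nat.card D * (Nat.card Q + 1) := by
    have h1 : Nat.card Q - 1 = 2 * Nat.card D := by omega
    rw [h1] at hcard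
    have h2 : 2 * Nat.card G = 2 * (Nat.card Q * Nat.card D * (Nat.card Q + 1)) := by
      rw [hcard]; ring
    exact Nat.eq_of_mul_eq_mul_left two_pos h2
  have hqpos : 0 < Nat.card Q := Nat.card_pos
  have hidx : (Subgroup.normalizer (Q : Set G)).index = Nat.card Q + 1 := by
    have h1 := Subgroup.card_mul_index (Subgroup.normalizer (Q : Set G))
    rw [hMcard, hGcard] at h1
    exact Nat.eq_of_mul_eq_mul_left (Nat.mul_pos hqpos hd0) h1
  have hΩcard : Nat.card (G ⧸ Subgroup.normalizer (Q : Set G)) = Nat.card Q + 1 := by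
    rw [← Subgroup.index_eq_card, hidx]
  -- the index of `Q` in its normaliser
  have hQ'card : Nat.card (Q.subgroupOf (Subgroup.normalizer (Q : Set G))) = Nat.card Q :=
    Nat.card_congr (Subgroup.subgroupOfEquivOfLe hQM).toEquiv
  have hQ'idx : (Q.subgroupOf (Subgroup.normalizer (Q : Set G))).index = Nat.card D := by
    have h1 := Subgroup.card_mul_index (Q.subgroupOf (Subgroup.normalizer (Q : Set G)))
    rw [hQ'card, hMcard] at h1
    exact Nat.eq_of_mul_eq_mul_left hqpos h1
  have hcop : Nat.Coprime (Nat.card Q) (Nat.card D) := by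
    rw [← hDQ, Nat.coprime_comm, Nat.coprime_mul_right_add_right]
    exact Nat.coprime_one_right _
  -- semiregularity, group form
  have hsemi0 : ∀ u ∈ Q, ∀ g : G, g ∉ Subgroup.normalizer (Q : Set G) →
      g⁻¹ * u * g ∈ Subgroup.normalizer (Q : Set G) → u = 1 := by
    intro u hu g hg hv
    by_contra hu1
    have hord : orderOf (⟨g⁻¹ * u * g, hv⟩ : ↥(Subgroup.normalizer (Q : Set G))) ∣ Nat.card Q := by
      rw [Subgroup.orderOf_mk]
      have h1 : orderOf (g⁻¹ * u * g) = orderOf u := by
        have := MulEquiv.orderOf_eq (MulAut.conj g⁻¹) u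
        rwa [MulAut.conj_apply, inv_inv] at this
      rw [h1]
      have : orderOf (⟨u, hu⟩ : Q) ∣ Nat.card Q := orderOf_dvd_natCard _
      rwa [Subgroup.orderOf_mk] at this
    have hmem := Cfsg.Agent.Lib.Helper8.Sh3.mem_of_coprime_index
      (Q.subgroupOf (Subgroup.normalizer (Q : Set G)))
      (⟨g⁻¹ * u * g, hv⟩ : ↥(Subgroup.normalizer (Q : Set G)))
      (by
        rw [hQ'idx]
        exact Nat.Coprime.coprime_dvd_left hord hcop)
    rw [Subgroup.mem_subgroupOf] at hmem
    exact hg (mem_normalizer_of_conj_mem Q hCQ hu hu1 hmem)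
  -- the action on the cosets of the normaliser
  let x₀ : G ⧸ Subgroup.normalizer (Q : Set G) := ((1 : G) : G ⧸ Subgroup.normalizer (Q : Set G))
  have hstab : stabilizer G x₀ = Subgroup.normalizer (Q : Set G) :=
    MulAction.stabilizer_quotient _
  have hQx : ∀ u ∈ Q, u • x₀ = x₀ := by
    intro u hu
    have : u ∈ stabilizer G x₀ := by rw [hstab]; exact hQM hu
    exact this
  have hsemi : ∀ u ∈ Q, ∀ ω : G ⧸ Subgroup.normalizer (Q : Set G), ω ≠ x₀ → u • ω = ω → u = 1 := by
    intro u hu ω hω hfix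
    induction ω using QuotientGroup.induction_on with
    | H g =>
      have hg : g ∉ Subgroup.normalizer (Q : Set G) := by
        intro hg
        apply hω
        show ((g : G) : G ⧸ Subgroup.normalizer (Q : Set G)) = ((1 : G) : G ⧸ _)
        rw [QuotientGroup.eq]
        simpa using Subgroup.inv_mem _ hg
      rw [MulAction.Quotient.smul_mk, QuotientGroup.eq, smul_eq_mul] at hfix
      have hv : g⁻¹ * u⁻¹ * g ∈ Subgroup.normalizer (Q : Set G) := by
        have : (u * g)⁻¹ * g = g⁻¹ * u⁻¹ * g := by group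
        rwa [this] at hfix
      have := hsemi0 u⁻¹ (Q.inv_mem hu) g hg hv
      exact inv_eq_one.1 this
  have hregU := regular_of_semiregular Q x₀ hQx hsemi hΩcard
  have hreg : ∀ y z : G ⧸ Subgroup.normalizer (Q : Set G), y ≠ x₀ → z ≠ x₀ → ∃ u ∈ Q, u • y = z := by
    intro y z hy hz
    obtain ⟨u, hu, -⟩ := hregU y z hy hz
    exact ⟨u, u.2, hu⟩
  have hnorm : ∀ h : G, h • x₀ = x₀ → ∀ u ∈ Q, h⁻¹ * u * h ∈ Q := by
    intro h hh u hu
    have hhM : h ∈ Subgroup.normalizer (Q : Set G) := by rw [← hstab]; exact hh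
    have := (Subgroup.mem_normalizer_iff.1 (Subgroup.inv_mem _ hhM) u).1 hu
    rwa [inv_inv] at this
  have hC : ∀ u ∈ Q, u ≠ 1 → ∀ h : G, h * u = u * h → h ∈ Q := by
    intro u hu hu1 h hh
    rw [← hCQ u hu hu1, Subgroup.mem_centralizer_iff]
    intro k hk
    rw [Set.mem_singleton_iff.1 hk]
    exact hh.symm
  have h2t : ∀ {a b c d : G ⧸ Subgroup.normalizer (Q : Set G)}, a ≠ b → c ≠ d →
      ∃ g : G, g • a = c ∧ g • b = d := fun hab hcd => two_trans_of_regular Q x₀ hQx hreg hab hcd
  have hfix3 := fix3_of_regular Q x₀ hQx hnorm hsemi hreg hC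
  -- a second point
  have hq3 : 3 ≤ Nat.card Q := by
    have : Nat.card D ≥ 1 := hd0
    omega
  obtain ⟨u₁, hu₁Q, hu₁1⟩ : ∃ u ∈ Q, u ≠ 1 := by
    haveI : Nontrivial Q := Finite.one_lt_card_iff_nontrivial.1 (by omega)
    obtain ⟨x, hx⟩ := exists_ne (1 : Q)
    exact ⟨x, x.2, fun h' => hx (Subtype.ext h')⟩
  obtain ⟨b, hb⟩ : ∃ b : G ⧸ Subgroup.normalizer (Q : Set G), b ≠ x₀ := by
    haveI : Nontrivial (G ⧸ Subgroup.normalizer (Q : Set G)) :=
      Finite.one_lt_card_iff_nontrivial.1 (by rw [hΩcard]; omega)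
    exact exists_ne x₀
  -- the case `|D| = 1`
  by_cases hd1 : Nat.card D = 1
  · exfalso
    have hQ3 : Nat.card Q = 3 := by omega
    have hG12 : Nat.card G = 12 := by rw [hGcard, hQ3, hd1]
    have hNQ : Subgroup.normalizer (Q : Set G) = Q := by
      symm
      apply Subgroup.eq_of_le_of_card_ge hQM
      rw [hMcard, hd1, mul_one]
    exact false_of_twelve Q hQ3 hG12 hNQ hcomm
  have hd2 : 2 ≤ Nat.card D := by omega
  -- faithfulness
  have hfaith : FaithfulSMul G (G ⧸ Subgroup.normalizer (Q : Set G)) := by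
    have hker : (MulAction.toPermHom G (G ⧸ Subgroup.normalizer (Q : Set G))).ker = ⊥ := by
      rw [← Subgroup.normalCore_eq_ker]
      rcases (Subgroup.normalCore_normal (Subgroup.normalizer (Q : Set G))).eq_bot_or_eq_top with
        h | h
      · exact h
      · exfalso
        have h1 : Subgroup.normalizer (Q : Set G) = ⊤ :=
          top_le_iff.1 (h ▸ Subgroup.normalCore_le _)
        rw [h1, Subgroup.index_top] at hidx
        omega
    constructor
    intro g₁ g₂ h
    have h1 : MulAction.toPermHom G (G ⧸ Subgroup.normalizer (Q : Set G)) g₁ =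
        MulAction.toPermHom G (G ⧸ Subgroup.normalizer (Q : Set G)) g₂ := by
      ext ω
      exact h ω
    exact (MonoidHom.ker_eq_bot_iff _).1 hker h1
  -- a nonidentity element fixing two points
  have hfix2 : ∃ g : G, g ≠ 1 ∧ ∃ a b : G ⧸ Subgroup.normalizer (Q : Set G), a ≠ b ∧
      g • a = a ∧ g • b = b := by
    obtain ⟨h, hhD, hh1⟩ : ∃ h ∈ D, h ≠ 1 := by
      haveI : Nontrivial D := Finite.one_lt_card_iff_nontrivial.1 (by omega)
      obtain ⟨x, hx⟩ := exists_ne (1 : D)
      exact ⟨x, x.2, fun h' => hx (Subtype.ext h')⟩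
    have hhx : h • x₀ = x₀ := by
      have : h ∈ stabilizer G x₀ := by rw [hstab]; exact hDM hhD
      exact this
    have hhb : h • b ≠ x₀ := by
      intro h'
      rw [← hhx] at h'
      exact hb (MulAction.injective _ h')
    obtain ⟨u, hu, hub⟩ := hreg b (h • b) hb hhb
    refine ⟨u⁻¹ * h, ?_, x₀, b, hb.symm, ?_, ?_⟩
    · intro h'
      have e : h = u := by
        have : h = u * (u⁻¹ * h) := by group
        rw [this, h', mul_one]
      have : h ∈ Q ⊓ D := ⟨e ▸ hu, hhD⟩
      rw [hQD, Subgroup.mem_bot] at this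
      exact hh1 this
    · rw [mul_smul, hhx, inv_smul_eq_iff, hQx u hu]
    · rw [mul_smul, ← hub, inv_smul_smul]
  -- no regular normal subgroup
  have hnoreg : ∀ N' : Subgroup G, N'.Normal →
      MulAction.IsPretransitive N' (G ⧸ Subgroup.normalizer (Q : Set G)) →
      ∃ a : G ⧸ Subgroup.normalizer (Q : Set G), MulAction.stabilizer N' a ≠ ⊥ := by
    intro N' hN' hpre
    rcases hN'.eq_bot_or_eq_top with rfl | rfl
    · exfalso
      obtain ⟨g, hg⟩ := hpre.exists_smul_eq x₀ b
      have hg1 : (g : G) = 1 := Subgroup.mem_bot.1 g.2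
      have : (g : G) • x₀ = b := hg
      rw [hg1, one_smul] at this
      exact hb this.symm
    · refine ⟨x₀, ?_⟩
      intro h
      have hmem : (⟨u₁, Subgroup.mem_top u₁⟩ : (⊤ : Subgroup G)) ∈
          MulAction.stabilizer (⊤ : Subgroup G) x₀ := by
        rw [MulAction.mem_stabilizer_iff]
        exact hQx u₁ hu₁Q
      rw [h, Subgroup.mem_bot] at hmem
      exact hu₁1 (congrArg Subtype.val hmem)
  have hZ : Cfsg.IsZassenhausGroup G (G ⧸ Subgroup.normalizer (Q : Set G)) :=
    ⟨hfaith, MulAction.is_two_pretransitive_iff.2 (fun hab hcd => h2t hab hcd), hfix3, hfix2,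
      hnoreg⟩
  -- apply the classification of Zassenhaus groups with abelian kernel
  have hFle : Q ≤ MulAction.stabilizer G x₀ := by rw [hstab]; exact hQM
  have hFn : (Q.subgroupOf (MulAction.stabilizer G x₀)).Normal := by
    rw [hstab]
    exact Subgroup.normal_in_normalizer
  have hFab : IsMulCommutative Q := ⟨⟨fun a b => Subtype.ext (hcomm a a.2 b b.2)⟩⟩
  rcases Cfsg.Agent.S0731.result hZ x₀ Q hFle hFn hFab hregU with ⟨h3, hsharp⟩ | ⟨K, iK, jK, hchar, hiso⟩
  · exfalso
    haveI : Fintype (G ⧸ Subgroup.normalizer (Q : Set G)) := Fintype.ofFinite _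
    have hΩ' : Fintype.card (G ⧸ Subgroup.normalizer (Q : Set G)) = Nat.card Q + 1 := by
      rw [← Nat.card_eq_fintype_card, hΩcard]
    have h1 := Cfsg.Agent.Lib.Helper8.PglP.card_of_sharp3 h3 hsharp (by rw [hΩ']; omega)
    rw [hΩ'] at h1
    have h2 : (Nat.card Q + 1).descFactorial 3 = (Nat.card Q + 1) * Nat.card Q * (Nat.card Q - 1) := by
      obtain ⟨k, hk⟩ : ∃ k, Nat.card Q = k + 1 := ⟨Nat.card Q - 1, by omega⟩
      rw [hk]
      simp only [Nat.descFactorial, Nat.add_sub_cancel]
      have e1 : k + 1 + 1 - 2 = k := by omega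
      have e2 : k + 1 + 1 - 1 = k + 1 := by omega
      simp only [e1, e2, Nat.sub_zero]
      ring
    rw [h2] at h1
    have h3' : 2 * Nat.card G = Nat.card G := by
      rw [hcard, h1]; ring
    omega
  · refine ⟨K, iK, jK, ?_, hiso⟩
    exact Nat.odd_iff.2 (FiniteField.odd_card_of_char_ne_two hchar)

end Cfsg.Agent.Lib.Helper8.BswD
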