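import Mathlib

/-!
# Cyclic subgroups of index two in dihedral groups

(author: helper8)
-/

set_option autoImplicit false
set_option linter.unusedVariables false
set_option linter.unusedSectionVars false
set_option linter.unusedSimpArgs false
set_option linter.unnecessarySimpa false
set_option linter.style.haveILetI false

namespace Cfsg.Agent.Lib.Helper8.BswD

open DihedralGroup

theorem dih_two_all : ∀ x a : DihedralGroup 2, x * x = 1 ∧ x * a * x⁻¹ = a⁻¹ := by decide

/-- a central element of `DihedralGroup n`, `n ≥ 3`, is a rotation -/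
theorem dih_central_rot {n : ℕ} (hn : 3 ≤ n) (z : DihedralGroup n)
    (hz : ∀ x : DihedralGroup n, x * z = z * x) : ∃ j : ZMod n, z = r j := by
  haveI : NeZero n := ⟨by omega⟩
  match z, hz with
  | r j, _ => exact ⟨j, rfl⟩
  | sr j, hz =>
    exfalso
    have h1 := hz (r 1)
    rw [r_mul_sr, sr_mul_r] at h1
    have h2 : j - 1 = j + 1 := by
      injection h1
    have h3 : (2 : ZMod n) = 0 := by linear_combination -h2
    have h4 : ((2 : ℕ) : ZMod n) = 0 := by exact_mod_cast h3
    rw [ZMod.natCast_eq_zero_iff] at h4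
    have := Nat.le_of_dvd (by norm_num) h4
    omega

/-- in `DihedralGroup n`, `n ≥ 3`, a cyclic subgroup of index two is the rotation subgroup -/
theorem dih_cyclic_index_two_rot {n : ℕ} (hn : 3 ≤ n) (B : Subgroup (DihedralGroup n))
    (hBc : IsCyclic B) (hB : B.index = 2) :
    (∀ a ∈ B, ∃ k : ZMod n, a = r k) ∧ ∀ j : ZMod n, r j ∈ B := by
  haveI : NeZero n := ⟨by omega⟩
  have hBcard : Nat.card B = n := by
    have h1 := Subgroup.card_mul_index B
    rw [hB, DihedralGroup.nat_card] at h1
    omega
  obtain ⟨g, hg⟩ := IsCyclic.exists_generator (α := B)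
  have hord : orderOf (g : DihedralGroup n) = n := by
    rw [Subgroup.orderOf_coe, orderOf_eq_card_of_forall_mem_zpowers hg, hBcard]
  obtain ⟨i, hi⟩ : ∃ i : ZMod n, (g : DihedralGroup n) = r i := by
    match hgv : (g : DihedralGroup n) with
    | r i => exact ⟨i, rfl⟩
    | sr i =>
      exfalso
      rw [hgv, orderOf_sr] at hord
      omega
  rw [hi] at hord
  have hmemB : ∀ a ∈ B, ∃ m : ℤ, a = (r i) ^ m := by
    intro a ha
    obtain ⟨m, hm⟩ := Subgroup.mem_zpowers_iff.1 (hg ⟨a, ha⟩)
    refine ⟨m, ?_⟩
    have := congrArg Subtype.val hm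
    rw [Subgroup.coe_zpow, hi] at this
    exact this.symm
  have hriB : r i ∈ B := by rw [← hi]; exact g.2
  have hcop : Nat.Coprime i.val n := by
    rw [orderOf_r] at hord
    have h1 : n / Nat.gcd n i.val = n := hord
    have h2 : Nat.gcd n i.val = 1 := by
      rcases (Nat.div_eq_self.1 h1) with h | h
      · omega
      · exact h
    rw [Nat.Coprime, Nat.gcd_comm]
    exact h2
  refine ⟨?_, ?_⟩
  · intro a ha
    obtain ⟨m, rfl⟩ := hmemB a ha
    exact ⟨_, r_zpow i m⟩
  · intro j
    obtain ⟨u, hu⟩ : ∃ u : (ZMod n)ˣ, (u : ZMod n) = i :=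
      ⟨ZMod.unitOfCoprime i.val hcop, by rw [ZMod.coe_unitOfCoprime, ZMod.natCast_zmod_val]⟩
    have h1 : r j = (r i) ^ (j * ((u⁻¹ : (ZMod n)ˣ) : ZMod n)).val := by
      rw [r_pow, ZMod.natCast_zmod_val]
      congr 1
      rw [← hu]
      have := u.mul_inv
      calc j = j * ((u : ZMod n) * ((u⁻¹ : (ZMod n)ˣ) : ZMod n)) := by rw [this, mul_one]
        _ = _ := by ring
    rw [h1]
    exact B.pow_mem hriB _

/-- in `DihedralGroup n`, `n ≥ 2`, elements outside a cyclic subgroup of index two are involutions
inverting it -/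
theorem dih_cyclic_index_two {n : ℕ} (hn : 2 ≤ n) (B : Subgroup (DihedralGroup n))
    (hBc : IsCyclic B) (hB : B.index = 2) :
    ∀ x : DihedralGroup n, x ∉ B → x * x = 1 ∧ ∀ a ∈ B, x * a * x⁻¹ = a⁻¹ := by
  rcases Nat.lt_or_ge n 3 with h | h
  · obtain rfl : n = 2 := by omega
    intro x _
    exact ⟨(dih_two_all x 1).1, fun a _ => (dih_two_all x a).2⟩
  · obtain ⟨h1, h2⟩ := dih_cyclic_index_two_rot h B hBc hB
    intro x hx
    match x, hx with
    | r j, hx => exact absurd (h2 j) hx
    | sr j, _ =>
      refine ⟨sr_mul_self j, ?_⟩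
      intro a ha
      obtain ⟨k, rfl⟩ := h1 a ha
      rw [sr_mul_r, inv_sr, sr_mul_sr, inv_r]
      congr 1
      ring

theorem card_mul_relIndex' {G : Type*} [Group G] {A S : Subgroup G} (h : A ≤ S) :
    Nat.card A * A.relIndex S = Nat.card S := by
  have h1 := Subgroup.card_mul_index (A.subgroupOf S)
  rwa [Nat.card_congr (Subgroup.subgroupOfEquivOfLe h).toEquiv] at h1

section transport
variable {G : Type*} [Group G] (S : Subgroup G) {n : ℕ}

/-- elements of a dihedral subgroup `S` outside a cyclic subgroup `A` of index two are involutions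
inverting `A` -/
theorem dihedral_inverts (hn : 2 ≤ n) (e : S ≃* DihedralGroup n) (A : Subgroup G) (hAS : A ≤ S)
    (hAc : IsCyclic A) (hAi : A.relIndex S = 2) :
    ∀ s ∈ S, s ∉ A → s * s = 1 ∧ ∀ a ∈ A, s * a * s⁻¹ = a⁻¹ := by
  let B : Subgroup (DihedralGroup n) := (A.subgroupOf S).map e.toMonoidHom
  have hBc : IsCyclic B := by
    haveI : IsCyclic (A.subgroupOf S) :=
      isCyclic_of_surjective (Subgroup.subgroupOfEquivOfLe hAS).symm
        (Subgroup.subgroupOfEquivOfLe hAS).symm.surjective
    exact isCyclic_of_surjective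
      ((A.subgroupOf S).equivMapOfInjective e.toMonoidHom e.injective)
      ((A.subgroupOf S).equivMapOfInjective e.toMonoidHom e.injective).surjective
  have hBi : B.index = 2 := by
    have h1 : ((A.subgroupOf S).map (e : S →* DihedralGroup n)).index = (A.subgroupOf S).index :=
      Subgroup.index_map_equiv (A.subgroupOf S) e
    exact h1.trans hAi
  have key := dih_cyclic_index_two hn B hBc hBi
  have hmemB : ∀ (x : G) (hx : x ∈ S), e ⟨x, hx⟩ ∈ B ↔ x ∈ A := by
    intro x hx
    constructor
    · rintro ⟨y, hy, hye⟩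
      have : y = ⟨x, hx⟩ := e.injective hye
      subst this
      exact Subgroup.mem_subgroupOf.1 hy
    · intro hxA
      exact ⟨⟨x, hx⟩, Subgroup.mem_subgroupOf.2 hxA, rfl⟩
  intro s hs hsA
  obtain ⟨k1, k2⟩ := key (e ⟨s, hs⟩) (fun h => hsA ((hmemB s hs).1 h))
  constructor
  · have h1 : e (⟨s, hs⟩ * ⟨s, hs⟩) = e 1 := by rw [map_mul, k1, map_one]
    have h2 := e.injective h1
    exact congrArg Subtype.val h2
  · intro a ha
    have haS : a ∈ S := hAS ha
    have h1 := k2 (e ⟨a, haS⟩) ((hmemB a haS).2 ha)
    have h2 : e (⟨s, hs⟩ * ⟨a, haS⟩ * ⟨s, hs⟩⁻¹) = e (⟨a, haS⟩⁻¹) := by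
      rw [map_mul, map_mul, map_inv, map_inv, h1]
    have h3 := e.injective h2
    exact congrArg Subtype.val h3

/-- a dihedral group of order at least four has a cyclic subgroup of index two through any central
involution -/
theorem exists_cyclic_index_two (hn : 2 ≤ n) (e : S ≃* DihedralGroup n) (t : G)
    (ht : orderOf t = 2) (htS : t ∈ S) (htZ : ∀ s ∈ S, s * t = t * s) :
    ∃ A : Subgroup G, A ≤ S ∧ IsCyclic A ∧ A.relIndex S = 2 ∧ t ∈ A := by
  haveI : NeZero n := ⟨by omega⟩
  have hScard : Nat.card S = 2 * n := by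
    rw [Nat.card_congr e.toEquiv, DihedralGroup.nat_card]
  rcases Nat.lt_or_ge n 3 with h | h
  · obtain rfl : n = 2 := by omega
    refine ⟨Subgroup.zpowers t, ?_, ?_, ?_, Subgroup.mem_zpowers t⟩
    · rw [Subgroup.zpowers_le]; exact htS
    · infer_instance
    · have hle : Subgroup.zpowers t ≤ S := by rw [Subgroup.zpowers_le]; exact htS
      have h1 := card_mul_relIndex' hle
      rw [Nat.card_zpowers, ht, hScard] at h1
      omega
  · -- the preimage of the rotation subgroup
    let A₀ : Subgroup S := (Subgroup.zpowers (r 1 : DihedralGroup n)).comap e.toMonoidHom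
    have hA₀card : Nat.card A₀ = n := by
      have h1 : Nat.card A₀ = Nat.card (Subgroup.zpowers (r 1 : DihedralGroup n)) := by
        apply Nat.card_congr
        exact (MulEquiv.subgroupCongr rfl).toEquiv.trans
          ((e.subgroupMap A₀).toEquiv.trans (MulEquiv.subgroupCongr (by
            show A₀.map e.toMonoidHom = _
            exact Subgroup.map_comap_eq_self_of_surjective e.surjective _)).toEquiv)
      rw [h1, Nat.card_zpowers, orderOf_r_one]
    refine ⟨A₀.map S.subtype, ?_, ?_, ?_, ?_⟩
    · intro x hx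
      obtain ⟨y, -, rfl⟩ := hx
      exact y.2
    · haveI : IsCyclic A₀ := by
        have : IsCyclic (Subgroup.zpowers (r 1 : DihedralGroup n)) := inferInstance
        exact isCyclic_of_injective (e.toMonoidHom.subgroupComap _)
          (by
            intro x y hxy
            have h1 : e (x : S) = e (y : S) := congrArg Subtype.val hxy
            exact Subtype.ext (e.injective h1))
      exact isCyclic_of_surjective (A₀.equivMapOfInjective S.subtype S.subtype_injective)
        (A₀.equivMapOfInjective S.subtype S.subtype_injective).surjective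
    · have hle : A₀.map S.subtype ≤ S := by
        intro x hx
        obtain ⟨y, -, rfl⟩ := hx
        exact y.2
      have h1 := card_mul_relIndex' hle
      rw [Subgroup.card_map_of_injective S.subtype_injective, hA₀card, hScard] at h1
      have hn0 : 0 < n := by omega
      have : n * (A₀.map S.subtype).relIndex S = n * 2 := by rw [h1]; ring
      exact Nat.eq_of_mul_eq_mul_left hn0 this
    · refine ⟨⟨t, htS⟩, ?_, rfl⟩
      show e ⟨t, htS⟩ ∈ Subgroup.zpowers (r 1 : DihedralGroup n)
      have hcent : ∀ x : DihedralGroup n, x * e ⟨t, htS⟩ = e ⟨t, htS⟩ * x := by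
        intro x
        obtain ⟨y, rfl⟩ := e.surjective x
        rw [← map_mul, ← map_mul]
        congr 1
        exact Subtype.ext (htZ y y.2)
      obtain ⟨j, hj⟩ := dih_central_rot h _ hcent
      rw [hj]
      have : (r j : DihedralGroup n) = (r 1) ^ j.val := by
        rw [r_one_pow, ZMod.natCast_zmod_val]
      rw [this]
      exact Subgroup.pow_mem _ (Subgroup.mem_zpowers _) _

end transport

/-- a cyclic group has at most one involution -/
theorem cyclic_invol_unique {G : Type*} [Group G] (A : Subgroup G) [Finite A] (hAc : IsCyclic A)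
    {t a : G} (htA : t ∈ A) (ht : orderOf t = 2) (haA : a ∈ A) (ha : a * a = 1) :
    a = 1 ∨ a = t := by
  classical
  haveI : Fintype A := Fintype.ofFinite A
  by_contra hcon
  push Not at hcon
  have ht1 : t ≠ 1 := by
    intro h
    rw [h, orderOf_one] at ht
    omega
  have htt : t * t = 1 := by
    have := pow_orderOf_eq_one t
    rwa [ht, pow_two] at this
  have hle := IsCyclic.card_pow_eq_one_le (α := A) (n := 2) (by norm_num)
  have h3 : ({1, ⟨t, htA⟩, ⟨a, haA⟩} : Finset A) ⊆
      Finset.univ.filter (fun x : A => x ^ 2 = 1) := by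
    intro x hx
    simp only [Finset.mem_insert, Finset.mem_singleton] at hx
    simp only [Finset.mem_filter, Finset.mem_univ, true_and]
    rcases hx with rfl | rfl | rfl
    · exact one_pow 2
    · exact Subtype.ext (by simpa [pow_two] using htt)
    · exact Subtype.ext (by simpa [pow_two] using ha)
  have hcard : ({1, ⟨t, htA⟩, ⟨a, haA⟩} : Finset A).card = 3 := by
    rw [Finset.card_insert_of_notMem, Finset.card_insert_of_notMem, Finset.card_singleton]
    · simp only [Finset.mem_singleton]
      intro h
      exact hcon.2 (congrArg Subtype.val h).symm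
    · simp only [Finset.mem_insert, Finset.mem_singleton]
      rintro (h | h)
      · exact ht1 (congrArg Subtype.val h).symm
      · exact hcon.1 (congrArg Subtype.val h).symm
  have := Finset.card_le_card h3
  omega

end Cfsg.Agent.Lib.Helper8.BswD
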