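import Mathlib
import Cfsg.Prelude.Def_CaseTheorems
import Cfsg.Agent.Lib.Helper8.Sh3A
import Cfsg.Agent.Lib.Helper8.BswDA
import Cfsg.Agent.S0514

/-!
# The centraliser of a central involution of a dihedral Sylow 2-subgroup

(author: helper8)
-/

set_option autoImplicit false
set_option linter.unusedVariables false
set_option linter.unusedSectionVars false
set_option linter.unusedSimpArgs false
set_option linter.unnecessarySimpa false
set_option linter.style.haveILetI false

namespace Cfsg.Agent.Lib.Helper8.BswD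

/-- a normal subgroup of odd order and 2-power index is the odd core -/
theorem oddCore_eq_of_index {X : Type*} [Group X] [Finite X] (N : Subgroup X) [hN : N.Normal]
    (hodd : Odd (Nat.card N)) (k : ℕ) (hk : N.index = 2 ^ k) : Cfsg.oddCore X = N := by
  apply le_antisymm
  · apply sSup_le
    rintro L ⟨hLn, hLc⟩
    intro x hx
    apply Cfsg.Agent.Lib.Helper8.Sh3.mem_of_coprime_index N x
    rw [hk]
    apply Nat.Coprime.pow_right
    have h1 : orderOf (⟨x, hx⟩ : L) ∣ Nat.card L := orderOf_dvd_natCard _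
    rw [Subgroup.orderOf_mk] at h1
    exact Nat.Coprime.coprime_dvd_left h1 hLc
  · apply le_sSup
    exact ⟨hN, Nat.coprime_two_right.2 hodd⟩

set_option maxHeartbeats 800000 in
theorem core_structure {G : Type*} [Group G] [Finite G] (S : Sylow 2 G) (n : ℕ) (hn : 2 ≤ n)
    (hS : Nonempty ((S : Subgroup G) ≃* DihedralGroup n)) (t : G) (ht : orderOf t = 2)
    (htZ : ∀ s ∈ (S : Subgroup G), s * t = t * s) (O : Subgroup G)
    (hO : O = (Cfsg.oddCore (Subgroup.centralizer ({t} : Set G))).map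
      (Subgroup.centralizer ({t} : Set G)).subtype) :
    O ≤ Subgroup.centralizer ({t} : Set G) ∧ Odd (Nat.card O) ∧
      (∀ c ∈ Subgroup.centralizer ({t} : Set G), ∀ o ∈ O, c * o * c⁻¹ ∈ O) ∧
      O ⊓ (S : Subgroup G) = ⊥ ∧
      Subgroup.centralizer ({t} : Set G) = O ⊔ (S : Subgroup G) := by
  classical
  haveI : Fact (Nat.Prime 2) := ⟨Nat.prime_two⟩
  obtain ⟨N, hNn, hNodd, k, hNk⟩ := Cfsg.Agent.S0514.result S n hn hS t ht
  haveI := hNn
  have hcore := oddCore_eq_of_index N hNodd k hNk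
  rw [hcore] at hO
  have hOC : O ≤ Subgroup.centralizer ({t} : Set G) := by
    rw [hO]
    rintro x ⟨y, -, rfl⟩
    exact y.2
  have hOcard : Nat.card O = Nat.card N := by
    rw [hO, Subgroup.card_map_of_injective (Subgroup.subtype_injective _)]
  have hOodd : Odd (Nat.card O) := by rw [hOcard]; exact hNodd
  have hOnorm : ∀ c ∈ Subgroup.centralizer ({t} : Set G), ∀ o ∈ O, c * o * c⁻¹ ∈ O := by
    intro c hc o ho
    rw [hO] at ho ⊢
    obtain ⟨y, hy, rfl⟩ := ho
    exact ⟨⟨c, hc⟩ * y * ⟨c, hc⟩⁻¹, hNn.conj_mem y hy ⟨c, hc⟩, rfl⟩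
  have hSC : (S : Subgroup G) ≤ Subgroup.centralizer ({t} : Set G) := by
    intro s hs
    rw [Subgroup.mem_centralizer_iff]
    intro k hk
    rw [Set.mem_singleton_iff.1 hk]
    exact (htZ s hs).symm
  obtain ⟨a, ha⟩ := (IsPGroup.iff_card (p := 2) (G := (S : Subgroup G))).1 S.2
  have hcop : Nat.Coprime (Nat.card O) (Nat.card (S : Subgroup G)) := by
    rw [ha]
    exact Nat.Coprime.pow_right _ (Nat.coprime_two_right.2 hOodd)
  have hinf : O ⊓ (S : Subgroup G) = ⊥ := (Subgroup.disjoint_of_coprime_natCard hcop).eq_bot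
  have hSnorm : (S : Subgroup G) ≤ Subgroup.normalizer (O : Set G) := by
    intro s hs
    rw [Subgroup.mem_normalizer_iff]
    intro o
    constructor
    · intro ho
      exact hOnorm s (hSC hs) o ho
    · intro ho
      have := hOnorm s⁻¹ (Subgroup.inv_mem _ (hSC hs)) _ ho
      have e : s⁻¹ * (s * o * s⁻¹) * s⁻¹⁻¹ = o := by group
      rwa [e] at this
  have hsupcard := card_sup_of_le_normalizer' O (S : Subgroup G) hSnorm hinf
  have hle : O ⊔ (S : Subgroup G) ≤ Subgroup.centralizer ({t} : Set G) := sup_le hOC hSC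
  -- the order of the centraliser
  have hCcard : Nat.card ↥(Subgroup.centralizer ({t} : Set G)) = Nat.card N * 2 ^ k := by
    rw [← hNk, Subgroup.card_mul_index]
  have hk_le : 2 ^ k ≤ Nat.card (S : Subgroup G) := by
    have h1 : 2 ^ k ∣ Nat.card G := by
      have h2 : 2 ^ k ∣ Nat.card ↥(Subgroup.centralizer ({t} : Set G)) := by
        rw [hCcard]; exact dvd_mul_left _ _
      exact h2.trans (Subgroup.card_subgroup_dvd_card _)
    rw [S.card_eq_multiplicity]
    apply Nat.pow_le_pow_right (by norm_num)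
    exact (Nat.Prime.pow_dvd_iff_le_factorization Nat.prime_two Nat.card_pos.ne').1 h1
  refine ⟨hOC, hOodd, hOnorm, hinf, ?_⟩
  symm
  apply Subgroup.eq_of_le_of_card_ge hle
  rw [hsupcard, hCcard, hOcard]
  exact Nat.mul_le_mul_left _ hk_le

end Cfsg.Agent.Lib.Helper8.BswD
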