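import Mathlib
import Cfsg.Agent.Lib.Helper8.BswDC

/-!
# Verifying the hypotheses of the abstract Brauer–Suzuki–Wall theorem

(author: helper8)  `C = C(t) = O ⋊ S`, `A ≤ S` cyclic of index two centralising `O`, every element of
`S \ A` an involution inverting `A` and `O`, normalisers of nontrivial subgroups of `O` inside `C`:
then `K := O ⊔ A` and any `s ∈ S \ A` satisfy the hypotheses of the abstract theorem.
-/

set_option autoImplicit false
set_option linter.unusedVariables false
set_option linter.unusedSectionVars false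
set_option linter.unusedSimpArgs false
set_option linter.unnecessarySimpa false
set_option linter.style.haveILetI false

namespace Cfsg.Agent.Lib.Helper8.BswD

set_option maxHeartbeats 1600000 in
theorem bsw_hyps {G : Type*} [Group G] [Finite G] (S : Subgroup G) (t : G) (ht : orderOf t = 2)
    (O A : Subgroup G)
    (hOC : O ≤ Subgroup.centralizer ({t} : Set G)) (hOodd : Odd (Nat.card O))
    (hOnorm : ∀ c ∈ Subgroup.centralizer ({t} : Set G), ∀ o ∈ O, c * o * c⁻¹ ∈ O)
    (hOS : O ⊓ S = ⊥) (hC : Subgroup.centralizer ({t} : Set G) = O ⊔ S)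
    (hS2 : IsPGroup 2 S)
    (hAS : A ≤ S) (hAc : IsCyclic A) (hAi : A.relIndex S = 2) (htA : t ∈ A)
    (hAO : ∀ a ∈ A, ∀ o ∈ O, a * o = o * a)
    (hinvA : ∀ s ∈ S, s ∉ A → s * s = 1 ∧ ∀ a ∈ A, s * a * s⁻¹ = a⁻¹)
    (hinvO : ∀ s ∈ S, s ∉ A → ∀ o ∈ O, s * o * s⁻¹ = o⁻¹)
    (hc : ∀ Y : Subgroup G, Y ≤ O → Y ≠ ⊥ →
      Subgroup.normalizer (Y : Set G) ≤ Subgroup.centralizer ({t} : Set G)) :
    ∃ (K : Subgroup G) (s : G), IsMulCommutative ↥K ∧ K ≤ Subgroup.centralizer ({t} : Set G) ∧
      t ∈ K ∧ orderOf s = 2 ∧ s ∈ Subgroup.centralizer ({t} : Set G) ∧ s ∉ K ∧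
      K ⊔ Subgroup.zpowers s = Subgroup.centralizer ({t} : Set G) ∧
      K ⊓ Subgroup.centralizer ({s} : Set G) = Subgroup.zpowers t ∧
      (∀ x ∈ K, s * x * s⁻¹ = x⁻¹) ∧
      (∀ g : G, g ∉ Subgroup.centralizer ({t} : Set G) →
        K ⊓ K.map (MulAut.conj g).toMonoidHom = ⊥) := by
  classical
  have hSC : S ≤ Subgroup.centralizer ({t} : Set G) := by rw [hC]; exact le_sup_right
  have hASC : A ≤ Subgroup.centralizer ({t} : Set G) := hAS.trans hSC
  have ht1 : t ≠ 1 := by
    intro h
    rw [h, orderOf_one] at ht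
    omega
  have htt : t * t = 1 := by
    have := pow_orderOf_eq_one t
    rwa [ht, pow_two] at this
  -- normalisation
  have hnormO : ∀ c ∈ Subgroup.centralizer ({t} : Set G), c ∈ Subgroup.normalizer (O : Set G) := by
    intro c hcC
    rw [Subgroup.mem_normalizer_iff]
    intro o
    constructor
    · exact hOnorm c hcC o
    · intro ho
      have := hOnorm c⁻¹ (Subgroup.inv_mem _ hcC) _ ho
      have e : c⁻¹ * (c * o * c⁻¹) * c⁻¹⁻¹ = o := by group
      rwa [e] at this
  have hA_norm : A ≤ Subgroup.normalizer (O : Set G) := fun a ha => hnormO a (hASC ha)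
  have hS_norm : S ≤ Subgroup.normalizer (O : Set G) := fun a ha => hnormO a (hSC ha)
  have hKmem : ∀ x, x ∈ O ⊔ A ↔ ∃ o ∈ O, ∃ a ∈ A, x = o * a := by
    intro x
    rw [← SetLike.mem_coe, Subgroup.coe_mul_of_right_le_normalizer_left O A hA_norm, Set.mem_mul]
    constructor
    · rintro ⟨o, ho, a, ha, rfl⟩
      exact ⟨o, ho, a, ha, rfl⟩
    · rintro ⟨o, ho, a, ha, rfl⟩
      exact ⟨o, ho, a, ha, rfl⟩
  have hCmem : ∀ x, x ∈ Subgroup.centralizer ({t} : Set G) ↔ ∃ o ∈ O, ∃ σ ∈ S, x = o * σ := by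
    intro x
    rw [hC, ← SetLike.mem_coe, Subgroup.coe_mul_of_right_le_normalizer_left O S hS_norm,
      Set.mem_mul]
    constructor
    · rintro ⟨o, ho, a, ha, rfl⟩
      exact ⟨o, ho, a, ha, rfl⟩
    · rintro ⟨o, ho, a, ha, rfl⟩
      exact ⟨o, ho, a, ha, rfl⟩
  -- an element of `S \ A`
  obtain ⟨s, hsS, hsA⟩ : ∃ s ∈ S, s ∉ A := by
    by_contra hcon
    push Not at hcon
    have : A.relIndex S = 1 := Subgroup.relIndex_eq_one.2 hcon
    omega
  obtain ⟨hss, hsinvA⟩ := hinvA s hsS hsA
  have hsinvO := hinvO s hsS hsA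
  have hs1 : s ≠ 1 := fun h => hsA (h ▸ A.one_mem)
  have hs2 : orderOf s = 2 := orderOf_eq_prime (by rw [pow_two]; exact hss) hs1
  -- commutativity
  have hOcomm : ∀ x ∈ O, ∀ y ∈ O, x * y = y * x := by
    intro x hx y hy
    have e1 := hsinvO (x * y) (O.mul_mem hx hy)
    have e2 : s * (x * y) * s⁻¹ = (s * x * s⁻¹) * (s * y * s⁻¹) := by group
    rw [e2, hsinvO x hx, hsinvO y hy, mul_inv_rev] at e1
    have e3 := congrArg (fun z => z⁻¹) e1
    simp only [mul_inv_rev, inv_inv] at e3
    exact e3.symm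
  have hAcomm : ∀ x ∈ A, ∀ y ∈ A, x * y = y * x := by
    intro x hx y hy
    have := (IsCyclic.isMulCommutative (α := A)).is_comm.comm ⟨x, hx⟩ ⟨y, hy⟩
    exact congrArg Subtype.val this
  have hKcomm : ∀ x ∈ O ⊔ A, ∀ y ∈ O ⊔ A, x * y = y * x := by
    intro x hx y hy
    obtain ⟨o, ho, a, ha, rfl⟩ := (hKmem x).1 hx
    obtain ⟨o', ho', a', ha', rfl⟩ := (hKmem y).1 hy
    calc o * a * (o' * a') = o * (a * o') * a' := by group
      _ = o * (o' * a) * a' := by rw [hAO a ha o' ho']
      _ = (o * o') * (a * a') := by group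
      _ = (o' * o) * (a' * a) := by rw [hOcomm o ho o' ho', hAcomm a ha a' ha']
      _ = o' * (o * a') * a := by group
      _ = o' * (a' * o) * a := by rw [hAO a' ha' o ho]
      _ = o' * a' * (o * a) := by group
  have hKH : O ⊔ A ≤ Subgroup.centralizer ({t} : Set G) := sup_le hOC hASC
  have htK : t ∈ O ⊔ A := Subgroup.mem_sup_right htA
  have hOA : ∀ z, z ∈ O → z ∈ A → z = 1 := by
    intro z hzO hzA
    have : z ∈ O ⊓ S := ⟨hzO, hAS hzA⟩
    rw [hOS, Subgroup.mem_bot] at this
    exact this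
  have hsK : s ∉ O ⊔ A := by
    intro h
    obtain ⟨o, ho, a, ha, hsoa⟩ := (hKmem s).1 h
    have ho' : o = s * a⁻¹ := by rw [hsoa]; group
    have : o ∈ O ⊓ S := ⟨ho, by rw [ho']; exact S.mul_mem hsS (S.inv_mem (hAS ha))⟩
    rw [hOS, Subgroup.mem_bot] at this
    rw [this, one_mul] at hsoa
    exact hsA (hsoa ▸ ha)
  have hsC : s ∈ Subgroup.centralizer ({t} : Set G) := hSC hsS
  -- index two
  have hidx : ∀ x ∈ S, x ∉ A → s⁻¹ * x ∈ A := by
    intro x hxS hxA
    have h1 := Subgroup.mul_mem_iff_of_index_two (H := A.subgroupOf S) hAi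
      (a := (⟨s⁻¹, S.inv_mem hsS⟩ : S)) (b := (⟨x, hxS⟩ : S))
    rw [Subgroup.mem_subgroupOf, Subgroup.mem_subgroupOf, Subgroup.mem_subgroupOf] at h1
    apply h1.2
    constructor
    · intro h
      exact absurd (by simpa using A.inv_mem h) hsA
    · intro h
      exact absurd h hxA
  have hH : (O ⊔ A) ⊔ Subgroup.zpowers s = Subgroup.centralizer ({t} : Set G) := by
    apply le_antisymm
    · exact sup_le hKH ((Subgroup.zpowers_le).2 hsC)
    · rw [hC]
      apply sup_le
      · exact le_sup_left.trans le_sup_left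
      · intro x hxS
        by_cases hxA : x ∈ A
        · exact Subgroup.mem_sup_left (Subgroup.mem_sup_right hxA)
        · have h1 := hidx x hxS hxA
          have h2 : x = s * (s⁻¹ * x) := by group
          rw [h2]
          exact Subgroup.mul_mem _ (Subgroup.mem_sup_right (Subgroup.mem_zpowers s))
            (Subgroup.mem_sup_left (Subgroup.mem_sup_right h1))
  -- inversion
  have hinvσ : ∀ σ ∈ S, σ ∉ A → ∀ x ∈ O ⊔ A, σ * x * σ⁻¹ = x⁻¹ := by
    intro σ hσS hσA x hx
    obtain ⟨o, ho, a, ha, rfl⟩ := (hKmem x).1 hx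
    have e : σ * (o * a) * σ⁻¹ = (σ * o * σ⁻¹) * (σ * a * σ⁻¹) := by group
    rw [e, hinvO σ hσS hσA o ho, (hinvA σ hσS hσA).2 a ha, mul_inv_rev]
    exact (hAO a⁻¹ (A.inv_mem ha) o⁻¹ (O.inv_mem ho)).symm
  have hinv := hinvσ s hsS hsA
  -- odd order elements of `O`
  have hOodd1 : ∀ o ∈ O, o * o = 1 → o = 1 := by
    intro o ho hoo
    have h1 : orderOf o ∣ 2 := orderOf_dvd_of_pow_eq_one (by rw [pow_two]; exact hoo)
    have h2 : orderOf o ∣ Nat.card O := by
      have : orderOf (⟨o, ho⟩ : O) ∣ Nat.card O := orderOf_dvd_natCard _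
      rwa [Subgroup.orderOf_mk] at this
    have h3 : orderOf o ∣ Nat.gcd 2 (Nat.card O) := Nat.dvd_gcd h1 h2
    have h4 : Nat.gcd 2 (Nat.card O) = 1 := by
      have := Nat.coprime_two_left.2 hOodd
      exact this
    rw [h4, Nat.dvd_one, orderOf_eq_one_iff] at h3
    exact h3
  -- the unique involution of `K`
  have hinvol : ∀ x ∈ O ⊔ A, x * x = 1 → x = 1 ∨ x = t := by
    intro x hx hxx
    obtain ⟨o, ho, a, ha, rfl⟩ := (hKmem x).1 hx
    have e1 : o * a * (o * a) = (o * o) * (a * a) := by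
      calc o * a * (o * a) = o * (a * o) * a := by group
        _ = o * (o * a) * a := by rw [hAO a ha o ho]
        _ = (o * o) * (a * a) := by group
    rw [e1] at hxx
    have e2 : o * o = (a * a)⁻¹ := eq_inv_of_mul_eq_one_left hxx
    have e3 : o * o = 1 := hOA _ (O.mul_mem ho ho) (by rw [e2]; exact A.inv_mem (A.mul_mem ha ha))
    have ho1 := hOodd1 o ho e3
    rw [e3, one_mul] at hxx
    rw [ho1, one_mul]
    exact cyclic_invol_unique A hAc htA ht ha hxx
  have hCK : (O ⊔ A) ⊓ Subgroup.centralizer ({s} : Set G) = Subgroup.zpowers t := by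
    apply le_antisymm
    · rintro x ⟨hxK, hxs⟩
      have e1 : s * x = x * s := Subgroup.mem_centralizer_iff.1 hxs s rfl
      have e2 := hinv x hxK
      have e3 : s * x * s⁻¹ = x := by rw [e1]; group
      rw [e3] at e2
      have e4 : x * x = 1 := by
        nth_rewrite 1 [e2]
        exact inv_mul_cancel x
      rcases hinvol x hxK e4 with h | h
      · rw [h]; exact Subgroup.one_mem _
      · rw [h]; exact Subgroup.mem_zpowers t
    · apply le_inf
      · exact (Subgroup.zpowers_le).2 htK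
      · apply (Subgroup.zpowers_le).2
        rw [Subgroup.mem_centralizer_iff]
        intro k hk
        rw [Set.mem_singleton_iff.1 hk]
        exact Subgroup.mem_centralizer_iff.1 hsC t rfl |>.symm
  -- elements of odd order of `K` lie in `O`
  have hoddK : ∀ z ∈ O ⊔ A, Odd (orderOf z) → z ∈ O := by
    intro z hz hodd
    obtain ⟨o, ho, a, ha, rfl⟩ := (hKmem z).1 hz
    have hcomm : Commute o a := (hAO a ha o ho).symm
    have e1 : (o * a) ^ orderOf (o * a) = 1 := pow_orderOf_eq_one _
    rw [hcomm.mul_pow] at e1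
    have e2 : a ^ orderOf (o * a) = (o ^ orderOf (o * a))⁻¹ := eq_inv_of_mul_eq_one_right e1
    have e3 : a ^ orderOf (o * a) = 1 :=
      hOA _ (by rw [e2]; exact O.inv_mem (O.pow_mem ho _)) (A.pow_mem ha _)
    have h1 : orderOf a ∣ orderOf (o * a) := orderOf_dvd_of_pow_eq_one e3
    obtain ⟨j, hj⟩ := hS2 ⟨a, hAS ha⟩
    have h2 : orderOf a ∣ 2 ^ j := by
      apply orderOf_dvd_of_pow_eq_one
      exact congrArg Subtype.val hj
    have h3 : Nat.Coprime (orderOf (o * a)) (2 ^ j) :=
      Nat.Coprime.pow_right _ (Nat.coprime_two_right.2 hodd)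
    have h4 : orderOf a ∣ Nat.gcd (orderOf (o * a)) (2 ^ j) := Nat.dvd_gcd h1 h2
    rw [h3, Nat.dvd_one, orderOf_eq_one_iff] at h4
    rw [h4, mul_one]
    exact ho
  -- the TI property
  have hTI : ∀ g : G, g ∉ Subgroup.centralizer ({t} : Set G) →
      (O ⊔ A) ⊓ (O ⊔ A).map (MulAut.conj g).toMonoidHom = ⊥ := by
    intro g hg
    rw [Subgroup.eq_bot_iff_forall]
    rintro x ⟨hxK, hxg⟩
    obtain ⟨y, hyK, hyx⟩ := hxg
    have hyx' : g * y * g⁻¹ = x := hyx
    by_contra hx1
    have hgt : g * t * g⁻¹ ≠ t := by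
      intro h
      apply hg
      rw [Subgroup.mem_centralizer_iff]
      intro k hk
      rw [Set.mem_singleton_iff.1 hk]
      have : g * t = g * t * g⁻¹ * g := by group
      rw [this, h]
    have hpow : ∀ k : ℕ, g * y ^ k * g⁻¹ = x ^ k := by
      intro k
      rw [← hyx']
      induction k with
      | zero => simp
      | succ k ih => rw [pow_succ, pow_succ, ← ih]; group
    have hordxy : orderOf y = orderOf x := by
      have := MulEquiv.orderOf_eq (MulAut.conj g) y
      rw [MulAut.conj_apply, hyx'] at this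
      exact this.symm
    have hxpos : 0 < orderOf x := orderOf_pos x
    rcases Nat.even_or_odd (orderOf x) with hev | hodd
    · -- a common involution
      obtain ⟨m, hm⟩ := hev
      have hm0 : 0 < m := by omega
      have hxm : x ^ m * x ^ m = 1 := by
        rw [← pow_add, ← hm, pow_orderOf_eq_one]
      have hxm1 : x ^ m ≠ 1 := by
        intro h
        have := orderOf_le_of_pow_eq_one hm0 h
        omega
      have hym : y ^ m * y ^ m = 1 := by
        rw [← pow_add, ← hm, ← hordxy, pow_orderOf_eq_one]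
      have hym1 : y ^ m ≠ 1 := by
        intro h
        have := orderOf_le_of_pow_eq_one hm0 h
        omega
      have hxt : x ^ m = t := by
        rcases hinvol _ ((O ⊔ A).pow_mem hxK m) hxm with h | h
        · exact absurd h hxm1
        · exact h
      have hyt : y ^ m = t := by
        rcases hinvol _ ((O ⊔ A).pow_mem hyK m) hym with h | h
        · exact absurd h hym1
        · exact h
      apply hgt
      rw [← hyt, hpow, hxt, hyt]
    · -- odd order: both lie in `O`
      have hxO : x ∈ O := hoddK x hxK hodd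
      have hyO : y ∈ O := hoddK y hyK (hordxy ▸ hodd)
      have hYle : Subgroup.zpowers x ≤ O := (Subgroup.zpowers_le).2 hxO
      have hYne : Subgroup.zpowers x ≠ ⊥ := by
        intro h
        apply hx1
        have : x ∈ Subgroup.zpowers x := Subgroup.mem_zpowers x
        rw [h, Subgroup.mem_bot] at this
        exact this
      have hNY := hc _ hYle hYne
      -- `t' = g t g⁻¹` commutes with `x`
      have hcomm : (g * t * g⁻¹) * x = x * (g * t * g⁻¹) := by
        rw [← hyx']
        have e := hKcomm t htK y hyK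
        calc g * t * g⁻¹ * (g * y * g⁻¹) = g * (t * y) * g⁻¹ := by group
          _ = g * (y * t) * g⁻¹ := by rw [e]
          _ = g * y * g⁻¹ * (g * t * g⁻¹) := by group
      have ht'N : g * t * g⁻¹ ∈ Subgroup.normalizer ((Subgroup.zpowers x : Subgroup G) : Set G) := by
        rw [Subgroup.mem_normalizer_iff]
        intro z
        have hzz : ∀ k : ℤ, (g * t * g⁻¹) * x ^ k * (g * t * g⁻¹)⁻¹ = x ^ k := by
          intro k
          have : Commute (g * t * g⁻¹) (x ^ k) := Commute.zpow_right hcomm k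
          rw [this.eq]
          group
        constructor
        · intro hz
          obtain ⟨k, rfl⟩ := Subgroup.mem_zpowers_iff.1 hz
          rw [hzz]
          exact Subgroup.zpow_mem_zpowers x k
        · intro hz
          obtain ⟨k, hk⟩ := Subgroup.mem_zpowers_iff.1 hz
          have : z = (g * t * g⁻¹)⁻¹ * (x ^ k) * (g * t * g⁻¹) := by rw [hk]; group
          rw [this]
          have h2 : (g * t * g⁻¹)⁻¹ * (x ^ k) * (g * t * g⁻¹) = x ^ k := by
            have : Commute (g * t * g⁻¹) (x ^ k) := Commute.zpow_right hcomm k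
            rw [mul_assoc, ← this.eq]
            group
          rw [h2]
          exact Subgroup.zpow_mem_zpowers x k
      have ht'C := hNY ht'N
      obtain ⟨o, ho, σ, hσS, hoσ⟩ := (hCmem _).1 ht'C
      have ht't' : (g * t * g⁻¹) * (g * t * g⁻¹) = 1 := by
        have : (g * t * g⁻¹) * (g * t * g⁻¹) = g * (t * t) * g⁻¹ := by group
        rw [this, htt]; group
      have ht'1 : g * t * g⁻¹ ≠ 1 := by
        intro h
        apply ht1
        have : t = g⁻¹ * (g * t * g⁻¹) * g := by group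
        rw [this, h]; group
      by_cases hσA : σ ∈ A
      · have hK' : g * t * g⁻¹ ∈ O ⊔ A := by
          rw [hoσ]
          exact (hKmem _).2 ⟨o, ho, σ, hσA, rfl⟩
        rcases hinvol _ hK' ht't' with h | h
        · exact ht'1 h
        · exact hgt h
      · have hinvx : (g * t * g⁻¹) * x * (g * t * g⁻¹)⁻¹ = x⁻¹ := by
          rw [hoσ]
          have e : o * σ * x * (o * σ)⁻¹ = o * (σ * x * σ⁻¹) * o⁻¹ := by group
          rw [e, hinvO σ hσS hσA x hxO]
          have := hOcomm o ho x⁻¹ (O.inv_mem hxO)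
          rw [this]; group
        have e2 : (g * t * g⁻¹) * x * (g * t * g⁻¹)⁻¹ = x := by rw [hcomm]; group
        rw [e2] at hinvx
        have hxx : x * x = 1 := by
          nth_rewrite 1 [hinvx]
          exact inv_mul_cancel x
        exact hx1 (hOodd1 x hxO hxx)
  exact ⟨O ⊔ A, s, ⟨⟨fun a b => Subtype.ext (hKcomm a a.2 b b.2)⟩⟩, hKH, htK, hs2, hsC, hsK, hH, hCK,
    hinv, hTI⟩

end Cfsg.Agent.Lib.Helper8.BswD
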