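import Mathlib
import Cfsg.Agent.Lib.Helper8.BswDC
import Cfsg.Agent.H1.PResidual
import Cfsg.Agent.S0107
import Cfsg.Agent.S0202
import Cfsg.Agent.S0203

/-!
# A simple group with dihedral Sylow 2-subgroups has one class of involutions

(author: helper8)  From S0107 (order at least 8) and S0202/S0203 (four-groups).
-/

set_option autoImplicit false
set_option linter.unusedVariables false
set_option linter.unusedSectionVars false
set_option linter.unusedSimpArgs false
set_option linter.unnecessarySimpa false
set_option linter.style.haveILetI false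

namespace Cfsg.Agent.Lib.Helper8.BswD

set_option maxHeartbeats 800000 in
theorem invol_conj {G : Type*} [Group G] [Finite G] [IsSimpleGroup G] (S : Sylow 2 G) (n : ℕ)
    (hn : 2 ≤ n) (hS : Nonempty ((S : Subgroup G) ≃* DihedralGroup n)) (t : G)
    (ht : orderOf t = 2) (htS : t ∈ (S : Subgroup G))
    (htZ : ∀ s ∈ (S : Subgroup G), s * t = t * s) :
    ∀ x y : G, orderOf x = 2 → orderOf y = 2 → IsConj x y := by
  classical
  haveI : Fact (Nat.Prime 2) := ⟨Nat.prime_two⟩
  obtain ⟨e⟩ := hS
  have hScard : Nat.card (S : Subgroup G) = 2 * n := by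
    rw [Nat.card_congr e.toEquiv, DihedralGroup.nat_card]
  have ht1 : t ≠ 1 := by
    intro h
    rw [h, orderOf_one] at ht
    omega
  -- `G` is not a 2-group
  have hnot2 : ¬ IsPGroup 2 G := by
    intro hG2
    have hStop : (S : Subgroup G) = ⊤ := by
      have h1 : IsPGroup 2 (⊤ : Subgroup G) := hG2.to_subgroup ⊤
      exact (S.is_maximal' h1 le_top).symm
    obtain ⟨A, hAS, hAc, hAi, htA⟩ := exists_cyclic_index_two (S : Subgroup G) hn e t ht htS htZ
    rw [hStop, Subgroup.relIndex_top_right] at hAi
    haveI := Subgroup.normal_of_index_eq_two hAi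
    rcases (inferInstance : A.Normal).eq_bot_or_eq_top with h | h
    · rw [h, Subgroup.mem_bot] at htA
      exact ht1 htA
    · rw [h, Subgroup.index_top] at hAi
      omega
  -- `O^2(G) = G`
  have hres : Cfsg.pResidual 2 G = ⊤ := by
    rcases (Cfsg.Agent.H1.pResidual_normal (G := G) 2).eq_bot_or_eq_top with h | h
    · exfalso
      apply hnot2
      have hq := Cfsg.Agent.H1.isPGroup_quotient_pResidual (G := G) 2
      intro g
      obtain ⟨k, hk⟩ := hq (QuotientGroup.mk g)
      refine ⟨k, ?_⟩
      rw [← QuotientGroup.mk_pow, QuotientGroup.eq_one_iff, h, Subgroup.mem_bot] at hk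
      exact hk
    · exact h
  intro x y hx hy
  rcases Nat.lt_or_ge n 3 with h3 | h3
  · -- the four-group case
    obtain rfl : n = 2 := by omega
    have hK : IsKleinFour (S : Subgroup G) :=
      { card_four := by rw [hScard]
        exponent_two := by
          rw [Monoid.exponent_eq_of_mulEquiv e]
          exact IsKleinFour.exponent_two }
    have hnot3 : ¬ ∃ N : Subgroup G, N.Normal ∧ Subgroup.IsComplement' N (S : Subgroup G) := by
      rintro ⟨N, hN, hcomp⟩
      have hc := hcomp.card_mul_card
      rw [hScard] at hc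
      rcases hN.eq_bot_or_eq_top with h | h
      · rw [h, Subgroup.card_bot] at hc
        apply hnot2
        have hStop : (S : Subgroup G) = ⊤ := by
          apply Subgroup.eq_top_of_card_eq
          rw [hScard]; omega
        have := S.2
        rw [hStop] at this
        intro g
        obtain ⟨k, hk⟩ := this ⟨g, Subgroup.mem_top g⟩
        exact ⟨k, congrArg Subtype.val hk⟩
      · rw [h, Subgroup.card_top] at hc
        have := Nat.card_pos (α := G)
        omega
    have h1 : Nat.card {C : ConjClasses G // ∃ t : G, orderOf t = 2 ∧ ConjClasses.mk t = C} = 1 := by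
      rcases Cfsg.Agent.S0202.result S hK with h | h
      · exact h
      · exact absurd ((Cfsg.Agent.S0203.result S hK).1 h) hnot3
    have hsub := (Nat.card_eq_one_iff_unique.1 h1).1
    have := hsub.elim ⟨ConjClasses.mk x, x, hx, rfl⟩ ⟨ConjClasses.mk y, y, hy, rfl⟩
    exact ConjClasses.mk_eq_mk_iff_isConj.1 (congrArg Subtype.val this)
  · -- order at least 8
    obtain ⟨a, ha⟩ := (IsPGroup.iff_card (p := 2) (G := (S : Subgroup G))).1 S.2
    rw [hScard] at ha
    have ha1 : 1 ≤ a := by
      rcases Nat.eq_zero_or_pos a with h | h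
      · rw [h] at ha; omega
      · exact h
    obtain ⟨b, rfl⟩ : ∃ b, a = b + 1 := ⟨a - 1, by omega⟩
    have hnb : n = 2 ^ b := by
      rw [pow_succ] at ha
      omega
    have hb2 : 2 ≤ b := by
      by_contra hcon
      have : b = 0 ∨ b = 1 := by omega
      rcases this with h | h <;> rw [h] at hnb <;> omega
    subst hnb
    obtain ⟨g, hg⟩ := Cfsg.Agent.S0107.result S b hb2 ⟨e⟩ hres x y hx hy
    exact isConj_iff.2 ⟨g, hg⟩

end Cfsg.Agent.Lib.Helper8.BswD
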