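import Mathlib
import Cfsg.Agent.Lib.Helper8.BswDB
import Cfsg.Agent.Lib.Helper8.BswDD
import Cfsg.Agent.Lib.Helper8.BswDE
import Cfsg.Agent.Lib.Helper8.BswDF

/-!
# The dihedral Brauer–Suzuki–Wall theorem from its abstract form

(author: helper8)  `s0508_of_bsw` takes the statement of the abstract theorem (S3282) for the group
`G` as a hypothesis.
-/

set_option autoImplicit false
set_option linter.unusedVariables false
set_option linter.unusedSectionVars false
set_option linter.unusedSimpArgs false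
set_option linter.unnecessarySimpa false
set_option linter.style.haveILetI false

namespace Cfsg.Agent.Lib.Helper8.BswD

set_option maxHeartbeats 1600000 in
theorem s0508_of_bsw {G : Type*} [Group G] [Finite G] [IsSimpleGroup G]
    (hBSW : ∀ (t : G) (ht : orderOf t = 2)
      (K : Subgroup G) (hKab : IsMulCommutative ↥K)
      (hKH : K ≤ Subgroup.centralizer ({t} : Set G)) (htK : t ∈ K)
      (s : G) (hs : orderOf s = 2) (hsH : s ∈ Subgroup.centralizer ({t} : Set G)) (hsK : s ∉ K)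
      (hH : K ⊔ Subgroup.zpowers s = Subgroup.centralizer ({t} : Set G))
      (hCK : K ⊓ Subgroup.centralizer ({s} : Set G) = Subgroup.zpowers t)
      (hinv : ∀ x ∈ K, s * x * s⁻¹ = x⁻¹)
      (hTI : ∀ g : G, g ∉ Subgroup.centralizer ({t} : Set G) →
        K ⊓ K.map (MulAut.conj g).toMonoidHom = ⊥)
      (hconj : ∀ x y : G, orderOf x = 2 → orderOf y = 2 → IsConj x y),
      ∃ Q D : Subgroup G, 2 * Nat.card G = Nat.card ↥Q * (Nat.card ↥Q + 1) * (Nat.card ↥Q - 1) ∧
        (∀ x ∈ Q, x ≠ 1 → Subgroup.centralizer ({x} : Set G) = Q) ∧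
        IsMulCommutative ↥D ∧ 2 * Nat.card ↥D + 1 = Nat.card ↥Q ∧ Q ⊓ D = ⊥ ∧
        Subgroup.normalizer (Q : Set G) = Q ⊔ D ∧
        ∀ X : Subgroup G, X ≤ D → X ≠ ⊥ →
          Subgroup.normalizer (X : Set G) = Subgroup.normalizer (D : Set G) ∧
          ∃ u : G, orderOf u = 2 ∧ u ∉ D ∧ (∀ d ∈ D, u * d * u⁻¹ = d⁻¹) ∧
            Subgroup.normalizer (D : Set G) = D ⊔ Subgroup.zpowers u)
    (S : Sylow 2 G) (n : ℕ)
    (hn : 2 ≤ n) (hS : Nonempty ((S : Subgroup G) ≃* DihedralGroup n)) (t : G) (ht : orderOf t = 2)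
    (htS : t ∈ (S : Subgroup G))
    (htZ : ∀ s ∈ (S : Subgroup G), s * t = t * s) (O : Subgroup G)
    (hO : O = (Cfsg.oddCore (Subgroup.centralizer ({t} : Set G))).map
      (Subgroup.centralizer ({t} : Set G)).subtype)
    (ha : O ≠ ⊥ → IsCyclic ((S : Subgroup G) ⊓ Subgroup.centralizer (O : Set G) : Subgroup G) ∧
      ((S : Subgroup G) ⊓ Subgroup.centralizer (O : Set G)).relIndex (S : Subgroup G) = 2)
    (hb : ∀ s ∈ (S : Subgroup G), s ∉ Subgroup.centralizer (O : Set G) →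
      ∀ y ∈ O, s * y * s⁻¹ = y⁻¹)
    (hc : ∀ Y : Subgroup G, Y ≤ O → Y ≠ ⊥ →
      Subgroup.normalizer (Y : Set G) ≤ Subgroup.centralizer ({t} : Set G)) :
    ∃ (F : Type) (_ : Field F) (_ : Fintype F), Odd (Fintype.card F) ∧
      Nonempty (G ≃* Matrix.ProjectiveSpecialLinearGroup (Fin 2) F) := by
  classical
  obtain ⟨hOC, hOodd, hOnorm, hOS, hC⟩ := core_structure S n hn hS t ht htZ O hO
  obtain ⟨e⟩ := hS
  have hA : ∃ A : Subgroup G, A ≤ (S : Subgroup G) ∧ IsCyclic A ∧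
      A.relIndex (S : Subgroup G) = 2 ∧ t ∈ A ∧ (∀ a ∈ A, ∀ o ∈ O, a * o = o * a) ∧
      (∀ s ∈ (S : Subgroup G), s ∉ A → ∀ o ∈ O, s * o * s⁻¹ = o⁻¹) := by
    by_cases hO1 : O = ⊥
    · obtain ⟨A, hAS, hAc, hAi, htA⟩ :=
        exists_cyclic_index_two (S : Subgroup G) hn e t ht htS htZ
      refine ⟨A, hAS, hAc, hAi, htA, ?_, ?_⟩
      · intro a _ o ho
        rw [hO1, Subgroup.mem_bot] at ho
        rw [ho, mul_one, one_mul]
      · intro s _ _ o ho
        rw [hO1, Subgroup.mem_bot] at ho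
        rw [ho, mul_one, mul_inv_cancel, inv_one]
    · obtain ⟨hAc, hAi⟩ := ha hO1
      refine ⟨(S : Subgroup G) ⊓ Subgroup.centralizer (O : Set G), inf_le_left, hAc, hAi, ?_, ?_, ?_⟩
      · have htC : t ∈ Subgroup.centralizer (O : Set G) := by
          rw [Subgroup.mem_centralizer_iff]
          intro o ho
          have := Subgroup.mem_centralizer_iff.1 (hOC ho) t rfl
          exact this.symm
        exact Subgroup.mem_inf.2 ⟨htS, htC⟩
      · intro a haA o ho
        have haO := (Subgroup.mem_inf.1 haA).2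
        exact (Subgroup.mem_centralizer_iff.1 haO o ho).symm
      · intro s hsS hsA o ho
        apply hb s hsS _ o ho
        intro hsO
        exact hsA (Subgroup.mem_inf.2 ⟨hsS, hsO⟩)
  obtain ⟨A, hAS, hAc, hAi, htA, hAO, hinvO⟩ := hA
  have hinvA := dihedral_inverts (S : Subgroup G) hn e A hAS hAc hAi
  obtain ⟨K, s, hKab, hKH, htK, hs, hsH, hsK, hH, hCK, hinv, hTI⟩ :=
    bsw_hyps (S : Subgroup G) t ht O A hOC hOodd hOnorm hOS hC S.2 hAS hAc hAi htA hAO hinvA hinvO hc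
  have hconj := invol_conj S n hn ⟨e⟩ t ht htS htZ
  obtain ⟨Q, D, hcard, hCQ, -, hDQ, hQD, hN, -⟩ :=
    hBSW t ht K hKab hKH htK s hs hsH hsK hH hCK hinv hTI hconj
  exact psl_of_QD Q D hcard hCQ hDQ hQD hN

end Cfsg.Agent.Lib.Helper8.BswD
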