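import Mathlib
import Cfsg.Agent.Lib.Helper8.RingFrob
import Cfsg.Agent.Lib.helper3.Burnside

set_option autoImplicit false

/-! The group `C₃ ⋊ Q₁₆` of order 48 (element orders 1, 2, 3, 4, 6, 8, 12) as a group of `4 × 4`
matrices over `ZMod 7`, acting fixed-point-freely (every non-identity `u` has `1 - u` invertible). -/

namespace Cfsg.Agent.Lib.Helper8.C3Q16Mod7

abbrev M4 := Matrix (Fin 4) (Fin 4) (ZMod 7)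

def matA : M4 := !![0, 0, 0, 6; 0, 0, 6, 0; 0, 1, 0, 3; 1, 0, 3, 0]

def matAi : M4 := !![0, 3, 0, 1; 3, 0, 1, 0; 0, 6, 0, 0; 6, 0, 0, 0]

def lA : Fin 48 → Fin 48 := ![1, 4, 7, 10, 12, 2, 17, 18, 15, 22, 14, 6, 8, 5, 29, 27, 23, 26, 30, 34, 25, 36, 33, 19, 9, 13, 37, 38, 24, 21, 20, 43, 16, 44, 42, 41, 40, 31, 0, 32, 47, 28, 45, 46, 35, 39, 11, 3]

def lAi : Fin 48 → Fin 48 := ![38, 0, 5, 47, 1, 13, 11, 2, 12, 24, 3, 46, 4, 25, 10, 8, 32, 6, 7, 23, 30, 29, 9, 16, 28, 20, 17, 15, 41, 14, 18, 37, 39, 22, 19, 44, 21, 26, 27, 45, 36, 35, 34, 31, 33, 42, 43, 40]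

def matB : M4 := !![1, 0, 1, 0; 0, 1, 0, 1; 5, 0, 6, 0; 0, 5, 0, 6]

def matBi : M4 := !![6, 0, 6, 0; 0, 6, 0, 6; 2, 0, 1, 0; 0, 2, 0, 1]

def lB : Fin 48 → Fin 48 := ![2, 5, 8, 9, 13, 15, 16, 12, 20, 21, 24, 23, 25, 27, 28, 30, 31, 32, 4, 26, 0, 35, 29, 37, 36, 38, 39, 18, 40, 41, 1, 42, 43, 14, 17, 3, 44, 45, 7, 46, 33, 47, 6, 34, 10, 11, 19, 22]

def lBi : Fin 48 → Fin 48 := ![20, 30, 0, 35, 18, 1, 42, 38, 2, 3, 44, 45, 7, 4, 33, 5, 6, 34, 27, 46, 8, 9, 47, 11, 10, 12, 19, 13, 14, 22, 15, 16, 17, 40, 43, 21, 24, 23, 25, 26, 28, 29, 31, 32, 36, 37, 39, 41]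

def matO : M4 := !![2, 0, 0, 0; 0, 4, 0, 0; 0, 0, 2, 0; 0, 0, 0, 4]

def matOi : M4 := !![4, 0, 0, 0; 0, 2, 0, 0; 0, 0, 4, 0; 0, 0, 0, 2]

def lO : Fin 48 → Fin 48 := ![3, 6, 9, 11, 14, 16, 10, 19, 21, 23, 1, 0, 26, 28, 17, 31, 24, 4, 33, 22, 35, 37, 7, 2, 5, 39, 29, 40, 32, 12, 42, 36, 13, 34, 18, 45, 15, 8, 46, 41, 43, 25, 44, 27, 30, 20, 47, 38]

def lOi : Fin 48 → Fin 48 := ![11, 10, 23, 0, 17, 24, 1, 22, 37, 2, 6, 3, 29, 32, 4, 36, 5, 14, 34, 7, 45, 8, 19, 9, 16, 41, 12, 43, 13, 26, 44, 15, 28, 18, 33, 20, 31, 21, 47, 25, 27, 39, 30, 40, 42, 35, 38, 46]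

def tab : Fin 48 → M4 := ![
  !![1, 0, 0, 0; 0, 1, 0, 0; 0, 0, 1, 0; 0, 0, 0, 1],
  !![0, 0, 0, 6; 0, 0, 6, 0; 0, 1, 0, 3; 1, 0, 3, 0],
  !![1, 0, 1, 0; 0, 1, 0, 1; 5, 0, 6, 0; 0, 5, 0, 6],
  !![2, 0, 0, 0; 0, 4, 0, 0; 0, 0, 2, 0; 0, 0, 0, 4],
  !![6, 0, 4, 0; 0, 6, 0, 4; 3, 0, 1, 0; 0, 3, 0, 1],
  !![0, 1, 0, 2; 1, 0, 2, 0; 0, 6, 0, 6; 6, 0, 6, 0],
  !![0, 0, 0, 5; 0, 0, 3, 0; 0, 2, 0, 6; 4, 0, 5, 0],
  !![0, 2, 0, 1; 2, 0, 1, 0; 0, 2, 0, 5; 2, 0, 5, 0],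
  !![6, 0, 0, 0; 0, 6, 0, 0; 0, 0, 6, 0; 0, 0, 0, 6],
  !![2, 0, 2, 0; 0, 4, 0, 4; 3, 0, 5, 0; 0, 6, 0, 3],
  !![0, 0, 0, 3; 0, 0, 5, 0; 0, 4, 0, 5; 2, 0, 6, 0],
  !![4, 0, 0, 0; 0, 2, 0, 0; 0, 0, 4, 0; 0, 0, 0, 2],
  !![0, 4, 0, 6; 4, 0, 6, 0; 0, 1, 0, 0; 1, 0, 0, 0],
  !![2, 0, 5, 0; 0, 2, 0, 5; 6, 0, 5, 0; 0, 6, 0, 5],
  !![5, 0, 1, 0; 0, 3, 0, 2; 6, 0, 2, 0; 0, 5, 0, 4],
  !![0, 0, 0, 1; 0, 0, 1, 0; 0, 6, 0, 4; 6, 0, 4, 0],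
  !![0, 2, 0, 4; 4, 0, 1, 0; 0, 5, 0, 5; 3, 0, 3, 0],
  !![3, 0, 2, 0; 0, 5, 0, 1; 5, 0, 4, 0; 0, 6, 0, 2],
  !![5, 0, 2, 0; 0, 5, 0, 2; 1, 0, 2, 0; 0, 1, 0, 2],
  !![0, 4, 0, 2; 1, 0, 4, 0; 0, 4, 0, 3; 1, 0, 6, 0],
  !![6, 0, 6, 0; 0, 6, 0, 6; 2, 0, 1, 0; 0, 2, 0, 1],
  !![5, 0, 0, 0; 0, 3, 0, 0; 0, 0, 5, 0; 0, 0, 0, 3],
  !![0, 1, 0, 4; 4, 0, 2, 0; 0, 1, 0, 6; 4, 0, 3, 0],
  !![4, 0, 4, 0; 0, 2, 0, 2; 6, 0, 3, 0; 0, 3, 0, 5],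
  !![0, 4, 0, 1; 2, 0, 4, 0; 0, 3, 0, 3; 5, 0, 5, 0],
  !![0, 5, 0, 6; 5, 0, 6, 0; 0, 5, 0, 2; 5, 0, 2, 0],
  !![0, 1, 0, 5; 2, 0, 3, 0; 0, 2, 0, 0; 4, 0, 0, 0],
  !![1, 0, 3, 0; 0, 1, 0, 3; 4, 0, 6, 0; 0, 4, 0, 6],
  !![4, 0, 3, 0; 0, 1, 0, 6; 5, 0, 3, 0; 0, 3, 0, 6],
  !![0, 2, 0, 3; 1, 0, 5, 0; 0, 4, 0, 0; 2, 0, 0, 0],
  !![0, 6, 0, 5; 6, 0, 5, 0; 0, 1, 0, 1; 1, 0, 1, 0],
  !![0, 0, 0, 2; 0, 0, 4, 0; 0, 5, 0, 1; 3, 0, 2, 0],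
  !![1, 0, 6, 0; 0, 4, 0, 3; 3, 0, 6, 0; 0, 5, 0, 3],
  !![3, 0, 4, 0; 0, 6, 0, 1; 2, 0, 4, 0; 0, 4, 0, 1],
  !![6, 0, 1, 0; 0, 3, 0, 4; 4, 0, 1, 0; 0, 2, 0, 4],
  !![5, 0, 5, 0; 0, 3, 0, 3; 4, 0, 2, 0; 0, 1, 0, 4],
  !![0, 0, 0, 4; 0, 0, 2, 0; 0, 3, 0, 2; 5, 0, 1, 0],
  !![3, 0, 0, 0; 0, 5, 0, 0; 0, 0, 3, 0; 0, 0, 0, 5],
  !![0, 3, 0, 1; 3, 0, 1, 0; 0, 6, 0, 0; 6, 0, 0, 0],
  !![0, 3, 0, 5; 6, 0, 3, 0; 0, 3, 0, 4; 6, 0, 1, 0],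
  !![2, 0, 6, 0; 0, 4, 0, 5; 1, 0, 5, 0; 0, 2, 0, 3],
  !![0, 6, 0, 3; 3, 0, 5, 0; 0, 6, 0, 1; 3, 0, 4, 0],
  !![0, 5, 0, 3; 3, 0, 6, 0; 0, 2, 0, 2; 4, 0, 4, 0],
  !![4, 0, 5, 0; 0, 2, 0, 6; 2, 0, 3, 0; 0, 1, 0, 5],
  !![0, 3, 0, 6; 5, 0, 3, 0; 0, 4, 0, 4; 2, 0, 2, 0],
  !![3, 0, 3, 0; 0, 5, 0, 5; 1, 0, 4, 0; 0, 4, 0, 2],
  !![0, 6, 0, 2; 5, 0, 4, 0; 0, 5, 0, 0; 3, 0, 0, 0],
  !![0, 5, 0, 4; 6, 0, 2, 0; 0, 3, 0, 0; 5, 0, 0, 0]]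

def itab : Fin 48 → M4 := ![
  !![1, 0, 0, 0; 0, 1, 0, 0; 0, 0, 1, 0; 0, 0, 0, 1],
  !![0, 2, 2, 6; 2, 0, 6, 2; 5, 1, 1, 5; 1, 5, 5, 1],
  !![1, 0, 4, 0; 0, 1, 0, 4; 6, 0, 0, 0; 0, 6, 0, 0],
  !![6, 0, 0, 0; 0, 2, 0, 0; 0, 0, 6, 0; 0, 0, 0, 2],
  !![0, 0, 2, 0; 0, 0, 0, 2; 5, 0, 1, 0; 0, 5, 0, 1],
  !![4, 4, 0, 1; 4, 4, 1, 0; 0, 3, 4, 3; 3, 0, 3, 4],
  !![0, 4, 2, 5; 1, 0, 3, 2; 5, 2, 1, 3; 4, 5, 6, 1],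
  !![4, 1, 0, 4; 1, 4, 4, 0; 0, 1, 4, 6; 1, 0, 6, 4],
  !![4, 0, 0, 0; 0, 4, 0, 0; 0, 0, 4, 0; 0, 0, 0, 4],
  !![2, 0, 6, 0; 0, 4, 0, 6; 2, 0, 4, 0; 0, 2, 0, 6],
  !![0, 1, 2, 3; 4, 0, 5, 2; 5, 4, 1, 6; 2, 5, 3, 1],
  !![2, 0, 0, 0; 0, 6, 0, 0; 0, 0, 2, 0; 0, 0, 0, 6],
  !![1, 2, 5, 6; 2, 1, 6, 5; 2, 1, 0, 5; 1, 2, 5, 0],
  !![5, 0, 6, 0; 0, 5, 0, 6; 3, 0, 3, 0; 0, 3, 0, 3],
  !![4, 0, 3, 0; 0, 6, 0, 3; 4, 0, 2, 0; 0, 4, 0, 4],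
  !![0, 5, 2, 1; 5, 0, 1, 2; 5, 6, 1, 2; 6, 5, 2, 1],
  !![4, 1, 0, 2; 2, 4, 4, 0; 0, 6, 4, 6; 5, 0, 5, 4],
  !![6, 0, 3, 0; 0, 4, 0, 3; 4, 0, 4, 0; 0, 4, 0, 2],
  !![3, 0, 1, 0; 0, 3, 0, 1; 4, 0, 5, 0; 0, 4, 0, 5],
  !![4, 2, 0, 1; 4, 4, 2, 0; 0, 2, 4, 5; 4, 0, 3, 4],
  !![0, 0, 3, 0; 0, 0, 0, 3; 1, 0, 1, 0; 0, 1, 0, 1],
  !![5, 0, 0, 0; 0, 3, 0, 0; 0, 0, 5, 0; 0, 0, 0, 3],
  !![4, 4, 0, 2; 2, 4, 1, 0; 0, 4, 4, 3; 2, 0, 5, 4],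
  !![4, 0, 6, 0; 0, 2, 0, 6; 2, 0, 6, 0; 0, 2, 0, 4],
  !![4, 2, 0, 4; 1, 4, 2, 0; 0, 5, 4, 5; 6, 0, 6, 4],
  !![4, 6, 0, 3; 6, 4, 3, 0; 0, 6, 4, 1; 6, 0, 1, 4],
  !![1, 4, 5, 5; 1, 1, 3, 5; 2, 2, 0, 3; 4, 2, 6, 0],
  !![1, 0, 5, 0; 0, 1, 0, 5; 2, 0, 0, 0; 0, 2, 0, 0],
  !![1, 0, 2, 0; 0, 3, 0, 2; 1, 0, 5, 0; 0, 1, 0, 0],
  !![1, 1, 5, 3; 4, 1, 5, 5; 2, 4, 0, 6; 2, 2, 3, 0],
  !![4, 3, 0, 6; 3, 4, 6, 0; 0, 4, 4, 4; 4, 0, 4, 4],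
  !![0, 3, 2, 2; 6, 0, 4, 2; 5, 5, 1, 4; 3, 5, 1, 1],
  !![3, 0, 2, 0; 0, 1, 0, 2; 1, 0, 0, 0; 0, 1, 0, 5],
  !![5, 0, 5, 0; 0, 0, 0, 5; 6, 0, 1, 0; 0, 6, 0, 3],
  !![0, 0, 5, 0; 0, 5, 0, 5; 6, 0, 3, 0; 0, 6, 0, 1],
  !![4, 0, 1, 0; 0, 6, 0, 1; 5, 0, 2, 0; 0, 5, 0, 4],
  !![0, 6, 2, 4; 3, 0, 2, 2; 5, 3, 1, 1; 5, 5, 4, 1],
  !![3, 0, 0, 0; 0, 5, 0, 0; 0, 0, 3, 0; 0, 0, 0, 5],
  !![1, 5, 5, 1; 5, 1, 1, 5; 2, 6, 0, 2; 6, 2, 2, 0],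
  !![4, 5, 0, 6; 3, 4, 5, 0; 0, 5, 4, 2; 3, 0, 4, 4],
  !![2, 0, 4, 0; 0, 4, 0, 4; 3, 0, 4, 0; 0, 3, 0, 6],
  !![4, 3, 0, 5; 5, 4, 6, 0; 0, 3, 4, 4; 5, 0, 2, 4],
  !![4, 6, 0, 5; 5, 4, 3, 0; 0, 1, 4, 1; 2, 0, 2, 4],
  !![4, 0, 4, 0; 0, 2, 0, 4; 3, 0, 6, 0; 0, 3, 0, 4],
  !![4, 5, 0, 3; 6, 4, 5, 0; 0, 2, 4, 2; 1, 0, 1, 4],
  !![6, 0, 1, 0; 0, 4, 0, 1; 5, 0, 4, 0; 0, 5, 0, 2],
  !![1, 3, 5, 2; 6, 1, 4, 5; 2, 5, 0, 4; 3, 2, 1, 0],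
  !![1, 6, 5, 4; 3, 1, 2, 5; 2, 3, 0, 1; 5, 2, 4, 0]]

theorem tab_zero : tab 0 = 1 := by decide +kernel

theorem mulA : ∀ i, matA * tab i = tab (lA i) := by decide +kernel
theorem mulB : ∀ i, matB * tab i = tab (lB i) := by decide +kernel
theorem mulO : ∀ i, matO * tab i = tab (lO i) := by decide +kernel
theorem mulAi : ∀ i, matAi * tab i = tab (lAi i) := by decide +kernel
theorem mulBi : ∀ i, matBi * tab i = tab (lBi i) := by decide +kernel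
theorem mulOi : ∀ i, matOi * tab i = tab (lOi i) := by decide +kernel

theorem inv_tab : ∀ i : Fin 48, i ≠ 0 → (1 - tab i) * itab i = 1 := by decide +kernel

theorem pow_tab : ∀ i : Fin 48,
    ((tab i * tab i) * (tab i * tab i)) * ((tab i * tab i) * (tab i * tab i)) = 1 ∨
    (((tab i * tab i) * (tab i * tab i)) * ((tab i * tab i) * (tab i * tab i))) *
      ((tab i * tab i) * (tab i * tab i)) = 1 := by decide +kernel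

theorem ord8 : tab 1 ^ 8 = 1 ∧ tab 1 ^ 4 ≠ 1 := by decide +kernel
theorem ord12 : tab 9 ^ 12 = 1 ∧ tab 9 ^ 6 ≠ 1 ∧ tab 9 ^ 4 ≠ 1 := by decide +kernel
theorem tabA : matA = tab 1 := by decide +kernel
theorem tabBO : matB * matO = tab 9 := by decide +kernel

instance : Fact (Nat.Prime 7) := ⟨by norm_num⟩

def uA : M4ˣ := ⟨matA, matAi, by decide +kernel, by decide +kernel⟩
def uB : M4ˣ := ⟨matB, matBi, by decide +kernel, by decide +kernel⟩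
def uO : M4ˣ := ⟨matO, matOi, by decide +kernel, by decide +kernel⟩

/-- the group `C₃ ⋊ Q₁₆` -/
def C : Subgroup M4ˣ := Subgroup.closure {uA, uB, uO}

theorem uA_mem : uA ∈ C := Subgroup.subset_closure (by simp)
theorem uB_mem : uB ∈ C := Subgroup.subset_closure (by simp)
theorem uO_mem : uO ∈ C := Subgroup.subset_closure (by simp)

theorem exists_tab {u : M4ˣ} (hu : u ∈ C) : ∃ i, (u : M4) = tab i := by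
  induction hu using Subgroup.closure_induction_left with
  | one => exact ⟨0, by rw [tab_zero]; rfl⟩
  | mul_left x hx y hy ih =>
    obtain ⟨i, hi⟩ := ih
    rcases hx with rfl | rfl | rfl
    · exact ⟨lA i, by rw [Units.val_mul, hi]; exact mulA i⟩
    · exact ⟨lB i, by rw [Units.val_mul, hi]; exact mulB i⟩
    · exact ⟨lO i, by rw [Units.val_mul, hi]; exact mulO i⟩
  | inv_mul_cancel x hx y hy ih =>
    obtain ⟨i, hi⟩ := ih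
    rcases hx with rfl | rfl | rfl
    · exact ⟨lAi i, by rw [Units.val_mul, hi]; exact mulAi i⟩
    · exact ⟨lBi i, by rw [Units.val_mul, hi]; exact mulBi i⟩
    · exact ⟨lOi i, by rw [Units.val_mul, hi]; exact mulOi i⟩

theorem hfree : ∀ u ∈ C, u ≠ 1 → IsUnit (1 - (u : M4)) := by
  intro u hu hne
  obtain ⟨i, hi⟩ := exists_tab hu
  have hi0 : i ≠ 0 := by
    rintro rfl
    apply hne
    apply Units.ext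
    rw [hi, tab_zero]; rfl
  rw [hi]
  exact IsUnit.of_mul_eq_one _ (inv_tab i hi0)

theorem pow_eq_one (u : C) : u ^ 8 = 1 ∨ u ^ 12 = 1 := by
  obtain ⟨i, hi⟩ := exists_tab u.2
  rcases pow_tab i with h | h
  · left
    apply Subtype.ext; apply Units.ext
    simp only [Subgroup.coe_pow, Units.val_pow_eq_pow_val, hi, Subgroup.coe_one, Units.val_one]
    rw [← h]; noncomm_ring
  · right
    apply Subtype.ext; apply Units.ext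
    simp only [Subgroup.coe_pow, Units.val_pow_eq_pow_val, hi, Subgroup.coe_one, Units.val_one]
    rw [← h]; noncomm_ring

theorem orderOf_uA : orderOf (⟨uA, uA_mem⟩ : C) = 8 := by
  rw [Subgroup.orderOf_mk]
  have h1 : uA ^ 2 ^ (2 + 1) = 1 := by
    apply Units.ext
    rw [Units.val_pow_eq_pow_val]
    change matA ^ 8 = 1
    rw [tabA]; exact ord8.1
  have h2 : ¬ uA ^ 2 ^ 2 = 1 := by
    intro h
    have := congrArg Units.val h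
    rw [Units.val_pow_eq_pow_val] at this
    change matA ^ 4 = 1 at this
    rw [tabA] at this; exact ord8.2 this
  exact orderOf_eq_prime_pow h2 h1

theorem orderOf_x12 : orderOf (⟨uB * uO, mul_mem uB_mem uO_mem⟩ : C) = 12 := by
  rw [Subgroup.orderOf_mk]
  have hv : ((uB * uO : M4ˣ) : M4) = tab 9 := by
    rw [Units.val_mul]
    exact tabBO
  have hp : ∀ k : ℕ, (((uB * uO) ^ k : M4ˣ) : M4) = tab 9 ^ k := by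
    intro k; rw [Units.val_pow_eq_pow_val, hv]
  apply orderOf_eq_of_pow_and_pow_div_prime (by norm_num)
  · apply Units.ext; rw [hp]; exact ord12.1
  · intro q hq hdvd
    have hq12 : q ∣ 2 * (2 * 3) := hdvd
    have hq23 : q = 2 ∨ q = 3 := by
      rcases (Nat.Prime.dvd_mul hq).1 hq12 with h | h
      · exact Or.inl ((Nat.prime_dvd_prime_iff_eq hq Nat.prime_two).1 h)
      · rcases (Nat.Prime.dvd_mul hq).1 h with h | h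
        · exact Or.inl ((Nat.prime_dvd_prime_iff_eq hq Nat.prime_two).1 h)
        · exact Or.inr ((Nat.prime_dvd_prime_iff_eq hq Nat.prime_three).1 h)
    rcases hq23 with rfl | rfl
    · intro h'
      have := congrArg Units.val h'
      rw [hp] at this
      exact ord12.2.1 this
    · intro h'
      have := congrArg Units.val h'
      rw [hp] at this
      exact ord12.2.2 this

theorem spectrum : Set.range (orderOf : C → ℕ) = {1, 2, 3, 4, 6, 8, 12} := by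
  ext n
  simp only [Set.mem_range, Set.mem_insert_iff, Set.mem_singleton_iff]
  constructor
  · rintro ⟨u, rfl⟩
    rcases pow_eq_one u with h | h
    · have hd := orderOf_dvd_of_pow_eq_one h
      have hle := Nat.le_of_dvd (by norm_num) hd
      have hpos := orderOf_pos_iff.2 (isOfFinOrder_iff_pow_eq_one.2 ⟨8, by norm_num, h⟩)
      interval_cases (orderOf u) <;> simp_all
    · have hd := orderOf_dvd_of_pow_eq_one h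
      have hle := Nat.le_of_dvd (by norm_num) hd
      have hpos := orderOf_pos_iff.2 (isOfFinOrder_iff_pow_eq_one.2 ⟨12, by norm_num, h⟩)
      interval_cases (orderOf u) <;> simp_all
  · have h8 := orderOf_uA
    have h12 := orderOf_x12
    rintro (rfl | rfl | rfl | rfl | rfl | rfl | rfl)
    · exact ⟨1, orderOf_one⟩
    · exact ⟨_, by rw [orderOf_pow_of_dvd (n := 4) (by norm_num) (by rw [h8]; norm_num), h8]⟩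
    · exact ⟨_, by rw [orderOf_pow_of_dvd (n := 4) (by norm_num) (by rw [h12]; norm_num), h12]⟩
    · exact ⟨_, by rw [orderOf_pow_of_dvd (n := 2) (by norm_num) (by rw [h8]; norm_num), h8]⟩
    · exact ⟨_, by rw [orderOf_pow_of_dvd (n := 2) (by norm_num) (by rw [h12]; norm_num), h12]⟩
    · exact ⟨_, h8⟩
    · exact ⟨_, h12⟩

instance : Finite C := by
  have : Function.Injective (fun u : C => ((u : M4ˣ) : M4)) := by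
    intro u v h
    exact Subtype.ext (Units.ext h)
  exact Finite.of_injective _ this

theorem card_eq : ∃ a b, Nat.card C = 2 ^ a * 3 ^ b := by
  have hpf : ∀ q : ℕ, q.Prime → q ∣ Nat.card C → q = 2 ∨ q = 3 := by
    intro q hq hdvd
    have := Fact.mk hq
    obtain ⟨u, hu⟩ := exists_prime_orderOf_dvd_card' q hdvd
    rcases pow_eq_one u with h | h
    · have hd := orderOf_dvd_of_pow_eq_one h
      rw [hu] at hd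
      left
      exact (Nat.prime_dvd_prime_iff_eq hq Nat.prime_two).1 (hq.dvd_of_dvd_pow (n := 3) hd)
    · have hd := orderOf_dvd_of_pow_eq_one h
      rw [hu] at hd
      have hd' : q ∣ 2 * (2 * 3) := hd
      rcases (Nat.Prime.dvd_mul hq).1 hd' with h | h
      · exact Or.inl ((Nat.prime_dvd_prime_iff_eq hq Nat.prime_two).1 h)
      · rcases (Nat.Prime.dvd_mul hq).1 h with h | h
        · exact Or.inl ((Nat.prime_dvd_prime_iff_eq hq Nat.prime_two).1 h)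
        · exact Or.inr ((Nat.prime_dvd_prime_iff_eq hq Nat.prime_three).1 h)
  have hpos : Nat.card C ≠ 0 := Nat.card_pos.ne'
  refine ⟨(Nat.card C).factorization 2, (Nat.card C).factorization 3, ?_⟩
  apply Nat.eq_of_factorization_eq hpos (by positivity)
  intro q
  rw [Nat.factorization_mul (by positivity) (by positivity), Nat.factorization_pow,
    Nat.factorization_pow, Nat.prime_two.factorization, Nat.prime_three.factorization]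
  simp only [Finsupp.coe_add, Finsupp.coe_smul, Pi.add_apply, Pi.smul_apply, smul_eq_mul]
  by_cases h2 : q = 2
  · subst h2; simp
  by_cases h3 : q = 3
  · subst h3; simp
  · rw [Finsupp.single_apply, Finsupp.single_apply, if_neg (Ne.symm h2), if_neg (Ne.symm h3)]
    simp only [mul_zero, add_zero]
    by_cases hq : q.Prime
    · apply Nat.factorization_eq_zero_of_not_dvd
      intro hd
      rcases hpf q hq hd with h | h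
      · exact h2 h
      · exact h3 h
    · exact Nat.factorization_eq_zero_of_not_prime _ hq

instance isSolvable : Group.IsSolvable C := by
  obtain ⟨a, b, hab⟩ := card_eq
  exact Cfsg.Agent.Lib.helper3.Burnside.isSolvable_of_card_eq 2 3 Nat.prime_two Nat.prime_three
    _ C rfl ⟨a, b, hab⟩

end Cfsg.Agent.Lib.Helper8.C3Q16Mod7
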