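import Cfsg.Agent.Lib.Helper8.Co2MultBC

/-! The normalising triple and three coincidences of the certificate B: kernel checks -/

set_option autoImplicit false
set_option maxRecDepth 100000

namespace Cfsg.Agent.Lib.Helper8.Co2Mult

open Cfsg.Agent.PL Cfsg.Agent.Co2P
open Cfsg.Agent.Lib.Helper5.J3Mult (palW)
open Cfsg.Agent.Lib.Helper8.Co2MultZ (baseZ)

/-- the palindromes of the normalising triple: two commuting involutions of the class whose product lies in the class -/
def tripA : List ℕ × ℕ := ([], 2)
def tripC : List ℕ × ℕ := ([1, 3, 0, 2, 1], 0)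
def tripU : List ℕ × ℕ := ([3, 2, 1, 0, 3, 0], 0)

theorem chk_tripB : Nat.beq (pmul 2300 (palV gcB tripA) (palV gcB tripC)) (palV gcB tripU) = true ∧
    Nat.beq (pmul 2300 (palV gcB tripC) (palV gcB tripA)) (pmul 2300 (palV gcB tripA) (palV gcB tripC)) = true := by
  decide +kernel

/-- the word of the triple -/
def tripWB : List ℕ := palW tripA.1 tripA.2 ++ (palW tripC.1 tripC.2 ++ palW tripU.1 tripU.2)

theorem chk_tripWB : (tripWB.all fun x => Nat.blt x 4) = true ∧ tripWB.length % 2 = 1 := by decide

/-- the products of the consecutive ones of the first four involutions have order three -/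
def pairsB : List (List ℕ × ℕ × List ℕ × ℕ) := [([1], 0, [0], 1), ([2], 1, [1], 2), ([3], 2, [2], 3)]

theorem chk_pairsB : pairsB.all (relOK baseZ gcB) = true := by decide +kernel

end Cfsg.Agent.Lib.Helper8.Co2Mult
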