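import Cfsg.Agent.Lib.Helper8.Co2MultDefs
import Cfsg.Agent.Lib.Lead.Co2.McLSub

/-!
# Words in the two generators of the second Conway group that lie in the McLaughlin subgroup

The two generators of `P` are the permutations of two words in automorphisms of the lattice; so a word in the two
generators is the permutation of an element of the stabiliser that acts on the lattice as the corresponding word, and it
lies in the image `MP` of the McLaughlin group as soon as the word fixes the second reference vector.
-/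

set_option autoImplicit false

namespace Cfsg.Agent.Lib.Helper8.Co2Mult

open Cfsg Cfsg.Agent.Lib.Helper6.Leech Cfsg.Agent.Lib.Helper6.Golay Cfsg.Agent.PL Cfsg.Agent.Co2P
open Cfsg.Agent.Lib.Helper5.J3Fus (strictN strictN_eq)

/-- the element `g` of the reference stabiliser acts on the lattice as the word `w` -/
def LatAct (g : co2R) (w : List Prim) : Prop :=
  ∀ (x : List ℤ) (hx : vecOf x ∈ leechLattice),
    ((g.1.1 ⟨vecOf x, hx⟩ : leechLattice) : GolayPt → ℤ) = vecOf (actW w x)

theorem latAct_one : LatAct 1 [] := fun _ _ => rfl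

theorem LatAct.mul {g1 g2 : co2R} {w1 w2 : List Prim} (h1 : LatAct g1 w1) (h2 : LatAct g2 w2) :
    LatAct (g2 * g1) (w1 ++ w2) := by
  intro x hx
  have e1 := h1 x hx
  have hx1 : vecOf (actW w1 x) ∈ leechLattice := by
    rw [← e1]
    exact (g1.1.1 ⟨vecOf x, hx⟩).2
  have e2 := h2 (actW w1 x) hx1
  have e3 : g1.1.1 ⟨vecOf x, hx⟩ = ⟨vecOf (actW w1 x), hx1⟩ := Subtype.ext e1
  show ((g2.1.1 (g1.1.1 ⟨vecOf x, hx⟩) : leechLattice) : GolayPt → ℤ) = _
  rw [e3, e2, actW, actW, actW, List.foldl_append]

/-- the element of the stabiliser of a good word, with its permutation and its action on the lattice -/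
theorem exists_rho_act (w : List Prim) (hw : GoodWord [v0L] w) (c : ℕ) (hic : IsCode 2300 c)
    (hact : ∀ i < 2300, actOK w c i = true) : ∃ g : co2R, rho g = dec 2300 c ∧ LatAct g w := by
  obtain ⟨g, hg⟩ := exists_of_goodWord w hw
  refine ⟨g, Equiv.ext fun i => ?_, hg⟩
  rw [rho_apply]
  have hq : q (act g (lo i)) = vecOf (actW w (Co2P.pt i.val)) := by
    rw [q_act]
    exact (hg (qL (lo i)) (q_mem (lo i)).1).trans (by rw [qL_lo])
  have := hact i.val i.2
  rw [actOK, eqOrPartner, Bool.or_eq_true, beq_iff_eq, beq_iff_eq] at this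
  have hj : lk c i.val = (dec 2300 c i).val := (dec_apply n_le hic i).symm
  rw [hj] at this
  rcases this with h | h
  · have h2 : q (act g (lo i)) = q (lo (dec 2300 c i)) := by
      rw [hq, h]
      show _ = vecOf (qL (lo (dec 2300 c i)))
      rw [qL_lo]
    rw [q_injective h2, fold_lo]
  · have h2 : q (act g (lo i)) = q (hi (dec 2300 c i)) := by
      rw [hq, h]
      show _ = vecOf (qL (hi (dec 2300 c i)))
      rw [qL_hi]
    rw [q_injective h2, fold_hi]

theorem exists_gA : ∃ g : co2R, co2REquiv g = aP ∧ LatAct g wA := by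
  obtain ⟨g, hg, hl⟩ := exists_rho_act wA wA_good ca isCode_ca chk_actA
  exact ⟨g, Subtype.ext hg, hl⟩

theorem exists_gB : ∃ g : co2R, co2REquiv g = bP ∧ LatAct g wB := by
  obtain ⟨g, hg, hl⟩ := exists_rho_act wB wB_good cb isCode_cb chk_actB
  exact ⟨g, Subtype.ext hg, hl⟩

/-- the letters: `0` is the first generator, every other number the second -/
noncomputable def letP : ℕ → ↥P
  | 0 => aP
  | _ => bP

/-- the words of the letters in the automorphisms of the lattice -/
def letW : ℕ → List Prim
  | 0 => wA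
  | _ => wB

/-- the codes of the letters -/
def letC : ℕ → ℕ
  | 0 => ca
  | _ => cb

/-- the word in the automorphisms of the lattice of a word in the two generators (the last letter acts first) -/
def primW : List ℕ → List Prim
  | [] => []
  | l :: L => primW L ++ letW l

theorem exists_let (l : ℕ) : ∃ g : co2R, co2REquiv g = letP l ∧ LatAct g (letW l) := by
  rcases l with _ | l
  · exact exists_gA
  · exact exists_gB

theorem exists_word : ∀ L : List ℕ, ∃ g : co2R, co2REquiv g = (L.map letP).prod ∧ LatAct g (primW L)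
  | [] => ⟨1, by simp, latAct_one⟩
  | l :: L => by
    obtain ⟨g', hg', hl'⟩ := exists_word L
    obtain ⟨g, hg, hl⟩ := exists_let l
    refine ⟨g * g', ?_, hl'.mul hl⟩
    rw [map_mul, hg, hg', List.map_cons, List.prod_cons]

/-- the code of a word in the two generators -/
noncomputable def wordC (L : List ℕ) : ℕ :=
  List.rec (motive := fun _ => ℕ) (pone 2300) (fun l _ ih => strictN ih fun v => pmul 2300 (letC l) v) L

theorem wordC_nil : wordC [] = pone 2300 := rfl

theorem wordC_cons (l : ℕ) (L : List ℕ) : wordC (l :: L) = pmul 2300 (letC l) (wordC L) := by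
  show strictN (wordC L) (fun v => pmul 2300 (letC l) v) = _
  rw [strictN_eq]

theorem good_letC (l : ℕ) : Good (letC l) ∧ el (letC l) = letP l := by
  rcases l with _ | l
  · exact ⟨good_ca, el_ca⟩
  · exact ⟨good_cb, el_cb⟩

theorem good_wordC : ∀ L : List ℕ, Good (wordC L) ∧ el (wordC L) = (L.map letP).prod
  | [] => ⟨good_pone, by rw [wordC_nil, el_pone]; rfl⟩
  | l :: L => by
    obtain ⟨h1, h2⟩ := good_wordC L
    obtain ⟨h3, h4⟩ := good_letC l
    rw [wordC_cons]
    exact ⟨h3.mul h1, by rw [el_pmul h3 h1, h4, h2, List.map_cons, List.prod_cons]⟩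

/-- an element of the stabiliser that fixes the second reference vector gives an element of `MP` -/
theorem mem_MP_of_fix (g0 : co2R) (hu : g0.1.1 u0 = u0) : co2REquiv g0 ∈ MP := by
  rw [mem_MP_iff]
  have e : co2Equiv.symm (co2REquiv g0) = sporEquiv.symm g0 := by
    apply co2Equiv.injective
    rw [co2Equiv.apply_symm_apply]
    show _ = co2REquiv (sporEquiv (sporEquiv.symm g0))
    rw [sporEquiv.apply_symm_apply]
  rw [e]
  show g0.1.1 ∈ Spor.McL
  rw [Cfsg.Agent.McLP.mem_McL_iff]
  refine ⟨g0.1.2, ?_⟩
  have hv : g0.1.1 v0' = v0' := g0.2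
  exact ⟨hu, hv⟩

/-- **a word in the two generators that fixes the second reference vector lies in the McLaughlin subgroup** -/
theorem mem_MP_of_posword (L : List ℕ) (c : ℕ) (hc : wordC L = c) (hu : (actW (primW L) u0L == u0L) = true) :
    el c ∈ MP := by
  obtain ⟨g, hg, hl⟩ := exists_word L
  have h1 : g.1.1 u0 = u0 := by
    apply Subtype.ext
    show ((g.1.1 ⟨vecOf u0L, u0L_mem⟩ : leechLattice) : GolayPt → ℤ) = vecOf u0L
    rw [hl u0L u0L_mem, beq_iff_eq.1 hu]
  have h2 := mem_MP_of_fix g h1
  rw [hg, ← (good_wordC L).2, hc] at h2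
  exact h2

end Cfsg.Agent.Lib.Helper8.Co2Mult
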