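import Cfsg.Agent.Lib.Helper8.Co2MultBC
import Cfsg.Agent.Lib.Helper8.Co2MultMcL

/-! The first four involutions of the certificate B lie in the McLaughlin subgroup: kernel checks (generated by a
script) -/

set_option autoImplicit false
set_option maxRecDepth 100000

namespace Cfsg.Agent.Lib.Helper8.Co2Mult

open Cfsg Cfsg.Agent.Lib.Helper6.Leech Cfsg.Agent.Lib.Helper6.Golay Cfsg.Agent.PL Cfsg.Agent.Co2P

/-- the involution 0 as a word in the two generators -/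
def wL_0 : List ℕ := [0, 1, 0, 0, 1, 0, 0, 0, 0, 0, 0, 1, 0, 0, 1, 0, 1, 0, 1, 0, 1, 0, 0, 0, 0, 0, 0, 1, 0, 1, 0, 0, 0, 0, 0, 1, 0, 0, 0, 0, 0, 0]

theorem chk_wordM_0 : wordC wL_0 = gcB_0 := by decide +kernel

theorem chk_fixM_0 : (actW (primW wL_0) u0L == u0L) = true := by decide +kernel

/-- the involution 1 as a word in the two generators -/
def wL_1 : List ℕ := [0, 1, 0, 0, 1, 0, 0, 0, 0, 0, 1, 0, 0, 1, 0, 0, 1, 0, 1, 0, 1, 0, 1, 0, 0, 0, 0, 0, 0, 1, 0, 0, 0, 0, 0, 1, 0, 0, 1, 0, 0, 0, 0, 0, 1, 0, 0, 0, 0, 0, 0]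

theorem chk_wordM_1 : wordC wL_1 = gcB_1 := by decide +kernel

theorem chk_fixM_1 : (actW (primW wL_1) u0L == u0L) = true := by decide +kernel

/-- the involution 2 as a word in the two generators -/
def wL_2 : List ℕ := [0, 1, 0, 0, 1, 0, 0, 0, 0, 1, 0, 1, 0, 0, 1, 0, 1, 0, 1, 0, 1, 0, 0, 0, 0, 0, 0, 1, 0, 0, 0, 0, 0, 0, 1, 0, 0, 0, 1, 0, 0, 0, 0, 0, 1, 0, 0, 0, 0, 0, 0]

theorem chk_wordM_2 : wordC wL_2 = gcB_2 := by decide +kernel

theorem chk_fixM_2 : (actW (primW wL_2) u0L == u0L) = true := by decide +kernel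

/-- the involution 3 as a word in the two generators -/
def wL_3 : List ℕ := [0, 0, 0, 0, 0, 1, 0, 0, 0, 1, 0, 0, 1, 0, 1, 0, 0, 0, 1, 0, 1, 0, 1, 0, 1, 0, 0, 0, 0, 0, 1, 0, 0, 0, 0, 0, 0, 1, 0, 0, 0, 0, 0, 1, 0, 0, 0, 0, 1, 0, 0]

theorem chk_wordM_3 : wordC wL_3 = gcB_3 := by decide +kernel

theorem chk_fixM_3 : (actW (primW wL_3) u0L == u0L) = true := by decide +kernel

end Cfsg.Agent.Lib.Helper8.Co2Mult
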