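import Mathlib
import Cfsg.Prelude.Def_KGroupFacts

/-!
# Group theory for the Schur multiplier of the second Conway group

Counting in a central extension with a subgroup of bounded index; the restriction of a central extension to a subgroup
that contains the kernel; a group generated by elements that die in the abelianisation is perfect.
-/

set_option autoImplicit false

namespace Cfsg.Agent.Lib.Helper8.Co2Mult

open Cfsg

section counting

variable {E G : Type*} [Group E] [Group G]

theorem card_of_surj [Finite E] (σ : E →* G) (hσ : Function.Surjective σ) :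
    Nat.card E = Nat.card G * Nat.card σ.ker := by
  have h1 := Subgroup.card_eq_card_quotient_mul_card_subgroup σ.ker
  have h2 : Nat.card (E ⧸ σ.ker) = Nat.card G :=
    Nat.card_congr (QuotientGroup.quotientKerEquivOfSurjective σ hσ).toEquiv
  rw [h1, h2]

/-- the kernel of the restriction to a subgroup -/
theorem card_ker_subgroupMap (σ : E →* G) (S : Subgroup E) :
    Nat.card (σ.subgroupMap S).ker = Nat.card ↥(σ.ker ⊓ S) := by
  apply Nat.card_congr
  exact
    { toFun := fun x => ⟨x.1.1, ⟨by
        have h := x.2
        rw [MonoidHom.mem_ker] at h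
        show x.1.1 ∈ σ.ker
        rw [MonoidHom.mem_ker]
        exact congrArg Subtype.val h, x.1.2⟩⟩
      invFun := fun y => ⟨⟨y.1, y.2.2⟩, by
        rw [MonoidHom.mem_ker]
        apply Subtype.ext
        exact MonoidHom.mem_ker.1 y.2.1⟩
      left_inv := fun _ => rfl
      right_inv := fun _ => rfl }

/-- the order of a subgroup is the order of its image times the order of its intersection with the kernel -/
theorem card_sub_eq [Finite E] (σ : E →* G) (S : Subgroup E) :
    Nat.card S = Nat.card (S.map σ) * Nat.card ↥(σ.ker ⊓ S) := by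
  rw [← card_ker_subgroupMap]
  exact card_of_surj (σ.subgroupMap S) (σ.subgroupMap_surjective S)

/-- **counting**: if `|G| = n |H|`, the subgroup `S` of the extension maps into `H` and has index at most `n`, then `S`
maps onto `H` and contains the kernel -/
theorem image_eq_and_ker_le [Finite E] (σ : E →* G) (hσ : Function.Surjective σ) (S : Subgroup E) (H : Subgroup G)
    (hSH : S.map σ ≤ H) (n : ℕ) (hn : 0 < n) (hE : Nat.card E ≤ n * Nat.card S)
    (hG : Nat.card G = n * Nat.card H) : S.map σ = H ∧ σ.ker ≤ S := by
  have hfinG : Finite G := Finite.of_surjective σ hσ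
  have h1 := card_of_surj σ hσ
  have h2 := card_sub_eq σ S
  have h3 : Nat.card (S.map σ) ≤ Nat.card H := Subgroup.card_le_of_le hSH
  have h4 : Nat.card ↥(σ.ker ⊓ S) ≤ Nat.card σ.ker := Subgroup.card_le_of_le inf_le_left
  have hHpos : 0 < Nat.card H := Nat.card_pos
  have hKpos : 0 < Nat.card σ.ker := Nat.card_pos
  have hIpos : 0 < Nat.card ↥(σ.ker ⊓ S) := Nat.card_pos
  have hMpos : 0 < Nat.card (S.map σ) := Nat.card_pos
  have h5 : n * (Nat.card H * Nat.card σ.ker) ≤ n * (Nat.card (S.map σ) * Nat.card ↥(σ.ker ⊓ S)) := by
    rw [← mul_assoc, ← hG, ← h1, ← h2]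
    exact hE
  have h5' : Nat.card H * Nat.card σ.ker ≤ Nat.card (S.map σ) * Nat.card ↥(σ.ker ⊓ S) :=
    Nat.le_of_mul_le_mul_left h5 hn
  have h6 : Nat.card (S.map σ) = Nat.card H := by
    by_contra hne
    have hlt : Nat.card (S.map σ) < Nat.card H := lt_of_le_of_ne h3 hne
    have : Nat.card (S.map σ) * Nat.card ↥(σ.ker ⊓ S) < Nat.card H * Nat.card σ.ker :=
      calc Nat.card (S.map σ) * Nat.card ↥(σ.ker ⊓ S) ≤ Nat.card (S.map σ) * Nat.card σ.ker :=
            Nat.mul_le_mul_left _ h4
        _ < Nat.card H * Nat.card σ.ker := Nat.mul_lt_mul_of_pos_right hlt hKpos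
    omega
  have h7 : Nat.card ↥(σ.ker ⊓ S) = Nat.card σ.ker := by
    by_contra hne
    have hlt : Nat.card ↥(σ.ker ⊓ S) < Nat.card σ.ker := lt_of_le_of_ne h4 hne
    have : Nat.card (S.map σ) * Nat.card ↥(σ.ker ⊓ S) < Nat.card H * Nat.card σ.ker := by
      rw [h6]
      exact Nat.mul_lt_mul_of_pos_left hlt hHpos
    omega
  refine ⟨Subgroup.eq_of_le_of_card_ge hSH (le_of_eq h6.symm), ?_⟩
  have h8 : σ.ker ⊓ S = σ.ker := Subgroup.eq_of_le_of_card_ge inf_le_left (le_of_eq h7.symm)
  rw [← h8]
  exact inf_le_right

end counting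

section restrict

variable {E G : Type*} [Group E] [Group G] (σ : E →* G) (S : Subgroup E) (H : Subgroup G) (hmap : S.map σ = H)

/-- the restriction of the extension to a subgroup that maps onto `H` -/
noncomputable def restr : ↥S →* ↥H := (MulEquiv.subgroupCongr hmap).toMonoidHom.comp (σ.subgroupMap S)

theorem restr_apply (x : ↥S) : ((restr σ S H hmap x : ↥H) : G) = σ x.1 := rfl

theorem restr_surjective : Function.Surjective (restr σ S H hmap) :=
  (MulEquiv.subgroupCongr hmap).surjective.comp (σ.subgroupMap_surjective S)

theorem mem_ker_restr (x : ↥S) : x ∈ (restr σ S H hmap).ker ↔ σ x.1 = 1 := by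
  rw [MonoidHom.mem_ker]
  constructor
  · intro h
    have := congrArg Subtype.val h
    rwa [restr_apply] at this
  · intro h
    apply Subtype.ext
    rw [restr_apply, h]
    rfl

theorem ker_restr_le_center (hcen : σ.ker ≤ Subgroup.center E) :
    (restr σ S H hmap).ker ≤ Subgroup.center ↥S := by
  intro x hx
  rw [mem_ker_restr] at hx
  have hc := hcen (MonoidHom.mem_ker.2 hx)
  rw [Subgroup.mem_center_iff] at hc ⊢
  intro y
  apply Subtype.ext
  exact hc y.1

theorem card_ker_restr (hker : σ.ker ≤ S) : Nat.card (restr σ S H hmap).ker = Nat.card σ.ker := by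
  have h1 : (restr σ S H hmap).ker = (σ.subgroupMap S).ker := by
    ext x
    rw [mem_ker_restr, MonoidHom.mem_ker]
    constructor
    · intro h
      apply Subtype.ext
      exact h
    · intro h
      exact congrArg Subtype.val h
  rw [h1, card_ker_subgroupMap, inf_eq_left.2 hker]

end restrict

section transport

variable {Γ G G' : Type*} [Group Γ] [Group G] [Group G']

theorem ker_comp_equiv (e : G ≃* G') (σ : Γ →* G) : (e.toMonoidHom.comp σ).ker = σ.ker := by
  ext x
  rw [MonoidHom.mem_ker, MonoidHom.mem_ker, MonoidHom.comp_apply]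
  exact e.map_eq_one_iff

/-- a stem extension of `G` gives a stem extension of a group isomorphic to `G` -/
theorem stem_comp_equiv (e : G ≃* G') {σ : Γ →* G} (hσ : IsStemExtension σ) :
    IsStemExtension (e.toMonoidHom.comp σ) := by
  refine ⟨e.surjective.comp hσ.1, ?_, ?_⟩
  · rw [ker_comp_equiv]; exact hσ.2.1
  · rw [ker_comp_equiv]; exact hσ.2.2

end transport

section perfect

variable {S : Type*} [Group S]

/-- a group generated by elements that are trivial in the abelianisation is perfect -/
theorem commutator_eq_top_of_gens (gens : Set S) (hgen : Subgroup.closure gens = ⊤)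
    (h : ∀ x ∈ gens, (Abelianization.of x : Abelianization S) = 1) : commutator S = ⊤ := by
  rw [← Abelianization.ker_of, eq_top_iff, ← hgen, Subgroup.closure_le]
  intro x hx
  exact MonoidHom.mem_ker.2 (h x hx)

/-- in a commutative group, the image of a word in a family all of whose members have the same image `a` with
`a * a = 1`, of odd length, is `a` -/
theorem prod_map_eq_of_odd {A : Type*} [CommGroup A] (φ : S →* A) (g : ℕ → S) (a : A) (ha : a * a = 1) (m : ℕ)
    (hg : ∀ i, i < m → φ (g i) = a) :
    ∀ w : List ℕ, (∀ x ∈ w, x < m) → φ ((w.map g).prod) = a ^ (w.length % 2) := by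
  intro w
  induction w with
  | nil => intro _; simp
  | cons x w ih =>
    intro hw
    have h1 := ih fun y hy => hw y (List.mem_cons_of_mem _ hy)
    rw [List.map_cons, List.prod_cons, map_mul, h1, hg x (hw x List.mem_cons_self), List.length_cons]
    rcases Nat.mod_two_eq_zero_or_one w.length with h | h
    · rw [h, show (w.length + 1) % 2 = 1 by omega]
      simp
    · rw [h, show (w.length + 1) % 2 = 0 by omega]
      simpa using ha

end perfect

end Cfsg.Agent.Lib.Helper8.Co2Mult
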