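import Cfsg.Agent.Lib.Helper8.Co2MultBD
import Cfsg.Agent.Lib.Helper8.Co2MultBChk1
import Cfsg.Agent.Lib.Helper8.Co2MultBChkM
import Cfsg.Agent.Lib.Helper8.Co2MultEnd
import Cfsg.Agent.Lib.Lead.Co2.McLSub

/-!
# The Schur multiplier of the second Conway group has no even part

Let `σ : E → P` be a finite stem extension whose kernel has order two.  The centraliser of the base involution of the
second class is perfect and the class contains two commuting involutions whose product lies in the class, so the class
has an equivariant family of involutions above it.  By the coset certificate B the lifts of four involutions of the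
McLaughlin subgroup generate a subgroup `S` of index at most `47104`, so `S` maps onto the McLaughlin subgroup and
contains the kernel.  The group `S` is perfect, so it is a stem extension of the McLaughlin group with a kernel of order
two, which does not exist.
-/

set_option autoImplicit false

namespace Cfsg.Agent.Lib.Helper8.Co2Mult

open Cfsg Cfsg.Agent.PL Cfsg.Agent.Co2P Cfsg.Agent.Lib.Helper8.CanonLift
open Cfsg.Agent.Lib.Helper6.Leech Cfsg.Agent.Lib.Helper6.Golay
open Cfsg.Agent.Lib.Helper5.J3Mult (FCert palW palP Tq Cz seg mem_seg exists_lifts_cent prod_triple)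

theorem tzB_eq : SB.tz = Co2MultZ.zP := el_eq Co2MultZ.zI_spec.2

theorem perfect_Cz_tzB : commutator ↥(Cz SB.tz) = ⊤ := by
  rw [tzB_eq]
  exact Co2MultZ.perfect_Cz_zP

/-- the points of the triple -/
noncomputable def ptA : ↥P ⧸ Cz SB.tz := palP SB.xG tripA.1 tripA.2
noncomputable def ptC : ↥P ⧸ Cz SB.tz := palP SB.xG tripC.1 tripC.2
noncomputable def ptU : ↥P ⧸ Cz SB.tz := palP SB.xG tripU.1 tripU.2

theorem gcB_eq : SB.gc = gcB := rfl

theorem trip_mul : Tq SB.tz ptA * Tq SB.tz ptC = Tq SB.tz ptU := by
  unfold ptA ptC ptU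
  rw [SB.Tq_palP_code, SB.Tq_palP_code, SB.Tq_palP_code, ← el_pmul (SB.good_palV _) (SB.good_palV _), gcB_eq,
    Nat.eq_of_beq_eq_true chk_tripB.1]

theorem trip_comm : Tq SB.tz ptC * Tq SB.tz ptA * (Tq SB.tz ptC)⁻¹ = Tq SB.tz ptA := by
  have h : Tq SB.tz ptC * Tq SB.tz ptA = Tq SB.tz ptA * Tq SB.tz ptC := by
    unfold ptA ptC
    rw [SB.Tq_palP_code, SB.Tq_palP_code, ← el_pmul (SB.good_palV _) (SB.good_palV _),
      ← el_pmul (SB.good_palV _) (SB.good_palV _), gcB_eq, Nat.eq_of_beq_eq_true chk_tripB.2]
  rw [h]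
  group

theorem tG_mem_MP (i : ℕ) (hi : i < 4) : SB.tG i ∈ MP := by
  interval_cases i
  · exact mem_MP_of_posword wL_0 gcB_0 chk_wordM_0 chk_fixM_0
  · exact mem_MP_of_posword wL_1 gcB_1 chk_wordM_1 chk_fixM_1
  · exact mem_MP_of_posword wL_2 gcB_2 chk_wordM_2 chk_fixM_2
  · exact mem_MP_of_posword wL_3 gcB_3 chk_wordM_3 chk_fixM_3

theorem card_P_eqB : Nat.card ↥P = 47104 * Nat.card ↥MP := by
  rw [card_MP, card_P]

theorem chk_pairsB' : pairsB.all (relOK SB.base SB.gc) = true := chk_pairsB

/-- the product of the members of a family of a subgroup along a word -/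
theorem coe_prod_map {E : Type*} [Group E] (S : Subgroup E) (γ : ℕ → E) (g' : ℕ → ↥S) (m : ℕ)
    (hg : ∀ i, i < m → ((g' i : ↥S) : E) = γ i) :
    ∀ w : List ℕ, (∀ x ∈ w, x < m) → (((w.map g').prod : ↥S) : E) = (w.map γ).prod := by
  intro w
  induction w with
  | nil => intro _; rfl
  | cons x w ih =>
    intro hw
    rw [List.map_cons, List.prod_cons, List.map_cons, List.prod_cons, Subgroup.coe_mul,
      ih fun y hy => hw y (List.mem_cons_of_mem _ hy), hg x (hw x List.mem_cons_self)]

/-- two elements of square one of a commutative group whose product has order dividing three are equal -/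
theorem comm_aux {A : Type*} [CommGroup A] (a b : A) (ha : a * a = 1) (hb : b * b = 1)
    (h : b * (a * (b * (a * (b * (a * 1))))) = 1) : a = b := by
  have h' : a * b = 1 := by
    have e : b * (a * (b * (a * (b * (a * 1))))) = (a * a) * (b * b) * (a * b) := by
      rw [mul_one]
      simp only [mul_comm, mul_left_comm, mul_assoc]
    rw [e, ha, hb, one_mul, one_mul] at h
    exact h
  calc a = a * (b * b) := by rw [hb, mul_one]
    _ = (a * b) * b := by rw [mul_assoc]
    _ = b := by rw [h', one_mul]

/-- **no finite stem extension of `P` has a kernel of order two**, if the McLaughlin group has no such stem extension -/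
theorem no_even_stem (hM : ∀ (Γ : Type) [Group Γ] [Finite Γ] (τ : Γ →* ↥Spor.McL), IsStemExtension τ →
      Nat.card τ.ker ∣ 3)
    {E : Type} [Group E] [Finite E] (σ : E →* ↥P) (hσ : IsStemExtension σ) (hker : Nat.card σ.ker = 2) : False := by
  obtain ⟨hsurj, hcen, hder⟩ := hσ
  obtain ⟨Λ, hacu⟩ := exists_lifts_cent SB.tz hsurj hcen SB.tz_sq perfect_Cz_tzB ptA ptC ptU trip_mul trip_comm
  obtain ⟨_, hle⟩ := boundB Λ hcen hder
  set γ := SB.γL Λ with hγ
  set S := seg γ 4 with hS
  have hSH : S.map σ ≤ MP := by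
    rw [Subgroup.map_le_iff_le_comap, hS, seg, Subgroup.closure_le]
    rintro _ ⟨i, hi, rfl⟩
    show σ (γ i) ∈ MP
    rw [hγ, SB.map_γL]
    exact tG_mem_MP i hi
  obtain ⟨hmap, hkerS⟩ := image_eq_and_ker_le σ hsurj S MP hSH 47104 (by norm_num) hle card_P_eqB
  set τ := restr σ S MP hmap with hτ
  have hτs : Function.Surjective τ := restr_surjective σ S MP hmap
  have hZc : τ.ker ≤ Subgroup.center ↥S := ker_restr_le_center σ S MP hmap hcen
  have hZ : Nat.card τ.ker = 2 := by rw [hτ, card_ker_restr σ S MP hmap hkerS, hker]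
  -- the group `S` is perfect
  let g' : ℕ → ↥S := fun i => if h : i < 4 then ⟨γ i, mem_seg γ h⟩ else 1
  have hg' : ∀ i, i < 4 → ((g' i : ↥S) : E) = γ i := fun i hi => by simp [g', hi]
  have hperf : commutator ↥S = ⊤ := by
    let φ : ↥S →* Abelianization ↥S := Abelianization.of
    have hsq : ∀ i, i < 4 → φ (g' i) * φ (g' i) = 1 := by
      intro i hi
      rw [← map_mul]
      have : g' i * g' i = 1 := by
        apply Subtype.ext
        rw [Subgroup.coe_mul, hg' i hi, hγ, SB.γL_sq]
        rfl
      rw [this, map_one]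
    have hword : ∀ w : List ℕ, (∀ x ∈ w, x < 4) → (w.map γ).prod = 1 → (w.map g').prod = 1 := by
      intro w hw h1
      apply Subtype.ext
      rw [coe_prod_map S γ g' 4 hg' w hw, h1]
      rfl
    have hpair : ∀ i j, i < 4 → j < 4 → (([j], i, [i], j) : List ℕ × ℕ × List ℕ × ℕ) ∈ pairsB →
        φ (g' i) = φ (g' j) := by
      intro i j hi hj hmem
      have h1 : ((longW ([j], i, [i], j)).map γ).prod = 1 :=
        SB.word_of_relOK Λ (List.all_eq_true.1 chk_pairsB' _ hmem)
      have h2 := hword (longW ([j], i, [i], j)) (by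
        intro x hx
        have hx' : x ∈ [j, i, j, i, j, i] := hx
        simp only [List.mem_cons, List.not_mem_nil, or_false] at hx'
        rcases hx' with rfl | rfl | rfl | rfl | rfl | rfl <;> assumption) h1
      have hw6 : longW ([j], i, [i], j) = [j, i, j, i, j, i] := rfl
      rw [hw6] at h2
      have h3 : g' j * (g' i * (g' j * (g' i * (g' j * (g' i * 1))))) = 1 := h2
      have h4 := congrArg φ h3
      rw [map_mul, map_mul, map_mul, map_mul, map_mul, map_mul, map_one] at h4
      exact comm_aux _ _ (hsq i hi) (hsq j hj) h4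
    have h01 := hpair 0 1 (by norm_num) (by norm_num) (by simp [pairsB])
    have h12 := hpair 1 2 (by norm_num) (by norm_num) (by simp [pairsB])
    have h23 := hpair 2 3 (by norm_num) (by norm_num) (by simp [pairsB])
    have hall : ∀ i, i < 4 → φ (g' i) = φ (g' 0) := by
      intro i hi
      interval_cases i
      · rfl
      · exact h01.symm
      · exact (h01.trans h12).symm
      · exact ((h01.trans h12).trans h23).symm
    have htrip : (tripWB.map γ).prod = 1 := prod_triple Λ SB.xG hacu
    have hlt : ∀ x ∈ tripWB, x < 4 := by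
      intro x hx
      have := List.all_eq_true.1 chk_tripWB.1 x hx
      simpa using this
    have h5 := hword tripWB hlt htrip
    have h6 := prod_map_eq_of_odd φ g' (φ (g' 0)) (hsq 0 (by norm_num)) 4 hall tripWB hlt
    rw [h5, map_one, chk_tripWB.2, pow_one] at h6
    apply commutator_eq_top_of_gens (((↑) : ↥S → E) ⁻¹' (γ '' Set.Iio 4))
    · exact Subgroup.closure_closure_coe_preimage
    · rintro x ⟨i, hi, hxi⟩
      have : x = g' i := Subtype.ext (by rw [hg' i hi, hxi])
      rw [this]
      show φ (g' i) = 1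
      rw [hall i hi, ← h6]
  have hstem : IsStemExtension τ := ⟨hτs, hZc, by rw [hperf]; exact le_top⟩
  have h3 := hM ↥S (mpEquiv.toMonoidHom.comp τ) (stem_comp_equiv mpEquiv hstem)
  rw [ker_comp_equiv, hZ] at h3
  omega

end Cfsg.Agent.Lib.Helper8.Co2Mult
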