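import Cfsg.Agent.Lib.Helper8.Co2MultA
import Cfsg.Agent.Lib.Helper8.Co2MultB
import Cfsg.Agent.Lib.Lead.Co2.Iso
import Cfsg.Agent.H1.StemMeta

/-!
# The Schur multiplier of the second Conway group is trivial

A finite stem extension of the group `P` of permutations of 2300 points with a non-trivial kernel gives one whose kernel
has prime order; an odd prime is excluded by `no_odd_stem` (the symplectic group `Sp₆(2)` has a multiplier of order two)
and the prime two by `no_even_stem` (the McLaughlin group has a multiplier of order three).  The second Conway group is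
isomorphic to `P`.
-/

set_option autoImplicit false

namespace Cfsg.Agent.Lib.Helper8.Co2Mult

open Cfsg Cfsg.Agent.Co2P

theorem card_mul_zmod (n : ℕ) [NeZero n] : Nat.card (Multiplicative (ZMod n)) = n := by
  rw [Nat.card_congr Multiplicative.toAdd, Nat.card_eq_fintype_card, ZMod.card]

/-- the stem extensions of `Sp₆(2)` have kernels of order at most two -/
theorem stem_Sp_le (hSp : HasCyclicSchurMultiplier (PSp 3 (ZMod 2)) 2) (Γ : Type) [Group Γ] [Finite Γ]
    (τ : Γ →* Sp62.Sp) (hτ : IsStemExtension τ) : Nat.card τ.ker ≤ 2 := by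
  obtain ⟨f, hf⟩ := hSp.2 Γ (Sp62.toPSp.toMonoidHom.comp τ) (stem_comp_equiv Sp62.toPSp hτ)
  have h := Nat.card_le_card_of_surjective f hf
  rw [ker_comp_equiv, card_mul_zmod] at h
  exact h

/-- the stem extensions of the McLaughlin group have kernels of order dividing three -/
theorem stem_McL_dvd (hM : HasCyclicSchurMultiplier ↥Spor.McL 3) (Γ : Type) [Group Γ] [Finite Γ]
    (τ : Γ →* ↥Spor.McL) (hτ : IsStemExtension τ) : Nat.card τ.ker ∣ 3 := by
  obtain ⟨f, hf⟩ := hM.2 Γ τ hτ
  have h := Subgroup.card_dvd_of_surjective f hf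
  rw [card_mul_zmod] at h
  exact h

/-- **every finite stem extension of `P` is an isomorphism** -/
theorem ker_eq_bot_P (hSp : HasCyclicSchurMultiplier (PSp 3 (ZMod 2)) 2)
    (hM : HasCyclicSchurMultiplier ↥Spor.McL 3) {Γ : Type} [Group Γ] [Finite Γ] (σ : Γ →* ↥P)
    (hσ : IsStemExtension σ) : σ.ker = ⊥ := by
  by_contra hne
  obtain ⟨Γ', _, _, σ', hσ', hp⟩ := exists_prime_stem σ hσ hne
  by_cases h2 : Nat.card σ'.ker = 2
  · exact no_even_stem (stem_McL_dvd hM) σ' hσ' h2
  · exact no_odd_stem (stem_Sp_le hSp) σ' hσ' _ hp h2 rfl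

/-- **the Schur multiplier of `Co₂` is trivial**, given the multipliers of `Sp₆(2)` and of the McLaughlin group -/
theorem multiplier_Co2_of (hSp : HasCyclicSchurMultiplier (PSp 3 (ZMod 2)) 2)
    (hM : HasCyclicSchurMultiplier ↥Spor.McL 3) : HasCyclicSchurMultiplier ↥Spor.Co2 1 := by
  have hfin : Finite ↥P := Nat.finite_of_card_ne_zero (by rw [card_P]; norm_num)
  have : Finite ↥Spor.Co2 := Finite.of_equiv _ co2Equiv.symm.toEquiv
  apply Cfsg.Agent.H1.hasCyclicSchurMultiplier_one_of_ker_eq_bot
  intro Γ _ _ σ hσ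
  have h := ker_eq_bot_P hSp hM _ (stem_comp_equiv co2Equiv hσ)
  rw [ker_comp_equiv] at h
  exact h

end Cfsg.Agent.Lib.Helper8.Co2Mult
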