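import Cfsg.Agent.H1.Cores
import Cfsg.Prelude.Def_CaseTheorems
import Cfsg.Prelude.Def_Transfer
import Cfsg.Agent.Lib.Helper7.Qd2

/-!
# The largest normal 2-subgroup as the kernel of a surjection

If a finite group `C` maps onto a group without normal 2-subgroups other than the trivial one, and the kernel is a
2-group, then the kernel is the largest normal 2-subgroup of `C`.
-/

set_option autoImplicit false

namespace Cfsg.Agent.Lib.Helper8.CoreQuot

universe u v

variable {C : Type u} {S : Type v} [Group C] [Group S]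

theorem pCore_eq_ker (ψ : C →* S) (hψ : Function.Surjective ψ)
    (hS : ∀ N : Subgroup S, N.Normal → IsPGroup 2 ↥N → N = ⊥) (hk : IsPGroup 2 ↥ψ.ker) :
    Cfsg.pCore 2 C = ψ.ker := by
  apply le_antisymm
  · have h1 : ((Cfsg.pCore 2 C).map ψ).Normal := Subgroup.Normal.map (Cfsg.Agent.H1.pCore_normal 2) ψ hψ
    have h2 : IsPGroup 2 ↥((Cfsg.pCore 2 C).map ψ) := (Cfsg.Agent.H1.pCore_isPGroup 2).map ψ
    have h3 := hS _ h1 h2
    exact (Subgroup.map_eq_bot_iff _).1 h3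
  · exact Cfsg.Agent.H1.le_pCore (MonoidHom.normal_ker ψ) hk

/-- the statement for a surjection with an extraspecial kernel of order `2 ^ k` -/
theorem core_quot (ψ : C →* S) (hψ : Function.Surjective ψ)
    (hS : ∀ N : Subgroup S, N.Normal → IsPGroup 2 ↥N → N = ⊥) (k : ℕ)
    (hes : Cfsg.IsExtraspecial 2 ↥ψ.ker) (hcard : Nat.card ↥ψ.ker = 2 ^ k) :
    Cfsg.IsExtraspecial 2 ↥(Cfsg.pCore 2 C) ∧ Nat.card ↥(Cfsg.pCore 2 C) = 2 ^ k ∧
      Nonempty (C ⧸ Cfsg.pCore 2 C ≃* S) := by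
  have hk : IsPGroup 2 ↥ψ.ker := IsPGroup.of_card hcard
  have h := pCore_eq_ker ψ hψ hS hk
  refine ⟨?_, ?_, ?_⟩
  · rw [h]; exact hes
  · rw [h]; exact hcard
  · exact ⟨(QuotientGroup.quotientMulEquivOfEq h).trans (QuotientGroup.quotientKerEquivOfSurjective ψ hψ)⟩

/-- the kernel of the composition with an isomorphism -/
noncomputable def kerCompEquiv {C' : Type*} [Group C'] (e : C' ≃* C) (ψ : C →* S) :
    ↥(ψ.comp e.toMonoidHom).ker ≃* ↥ψ.ker where
  toFun x := ⟨e x.1, by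
    have := x.2
    rw [MonoidHom.mem_ker] at this ⊢
    exact this⟩
  invFun y := ⟨e.symm y.1, by
    have := y.2
    rw [MonoidHom.mem_ker] at this ⊢
    show ψ (e (e.symm y.1)) = 1
    rw [MulEquiv.apply_symm_apply]
    exact this⟩
  left_inv x := Subtype.ext (e.symm_apply_apply x.1)
  right_inv y := Subtype.ext (e.apply_symm_apply y.1)
  map_mul' x y := Subtype.ext (map_mul e x.1 y.1)

/-- the statement transported along an isomorphism -/
theorem core_quot_of_equiv {C' : Type*} [Group C'] (e : C' ≃* C) (ψ : C →* S) (hψ : Function.Surjective ψ)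
    (hS : ∀ N : Subgroup S, N.Normal → IsPGroup 2 ↥N → N = ⊥) (k : ℕ)
    (hes : Cfsg.IsExtraspecial 2 ↥ψ.ker) (hcard : Nat.card ↥ψ.ker = 2 ^ k) :
    Cfsg.IsExtraspecial 2 ↥(Cfsg.pCore 2 C') ∧ Nat.card ↥(Cfsg.pCore 2 C') = 2 ^ k ∧
      Nonempty (C' ⧸ Cfsg.pCore 2 C' ≃* S) := by
  refine core_quot (ψ.comp e.toMonoidHom) (hψ.comp e.surjective) hS k ?_ ?_
  · exact Cfsg.Agent.Lib.Helper7.isExtraspecial_of_mulEquiv (kerCompEquiv e ψ).symm hes
  · rw [Nat.card_congr (kerCompEquiv e ψ).toEquiv, hcard]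

end Cfsg.Agent.Lib.Helper8.CoreQuot
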