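import Cfsg.Agent.Lib.Lead.Extraspecial2Model
import Cfsg.Agent.Lib.Helper8.DCoverA8

/-!
# Extraspecial 2-groups from generators

A finite group generated by a set `S`, with a central involution `z` such that the squares and the commutators of the
elements of `S` lie in `{1, z}`, has all its squares and commutators in `{1, z}`.  If moreover there are `m` pairs
`(g, h)` such that `h` commutes with the first entries of the later pairs but not with `g`, then the centre has order at
most `|E| / 2 ^ m`.
-/

set_option autoImplicit false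

namespace Cfsg.Agent.Lib.Helper8.ESGen

open scoped commutatorElement
open Cfsg.Agent.S2880 (Ctx)
open Cfsg.Agent.Lead.ES2 (ES)

variable {E : Type*} [Group E]

/-- squares and commutators lie in `{1, z}` as soon as this holds on a generating set -/
theorem ctx_of_gens (z : E) (S : Set E) (hS : Subgroup.closure S = ⊤) (hne : z ≠ 1) (hsq : z * z = 1)
    (hcen : ∀ x : E, x * z = z * x) (hs2 : ∀ s ∈ S, s * s = 1 ∨ s * s = z)
    (hcomm : ∀ s ∈ S, ∀ s' ∈ S, s * s' = s' * s ∨ s * s' = z * (s' * s)) : Ctx z := by
  set N : Subgroup E := Subgroup.zpowers z with hN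
  have hNn : N.Normal := by
    constructor
    intro n hn g
    have hc : g * n = n * g := by
      rcases Cfsg.Agent.Lib.Helper8.DCoverA8.eq_of_mem_zpowers hsq hn with rfl | rfl
      · rw [mul_one, one_mul]
      · exact hcen g
    rw [hc, mul_assoc, mul_inv_cancel, mul_one]
    exact hn
  have hzN : z ∈ N := Subgroup.mem_zpowers z
  -- the quotient
  set π : E →* E ⧸ N := QuotientGroup.mk' N with hπ
  have hπz : π z = 1 := (QuotientGroup.eq_one_iff z).2 hzN
  have hker : ∀ x : E, π x = 1 → x = 1 ∨ x = z := fun x hx =>
    Cfsg.Agent.Lib.Helper8.DCoverA8.eq_of_mem_zpowers hsq ((QuotientGroup.eq_one_iff x).1 hx)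
  set T : Set (E ⧸ N) := π '' S with hT
  have hTtop : Subgroup.closure T = ⊤ := by
    rw [hT, ← MonoidHom.map_closure, hS, ← MonoidHom.range_eq_map, MonoidHom.range_eq_top]
    exact QuotientGroup.mk'_surjective N
  have hTcomm : ∀ a ∈ T, ∀ b ∈ T, a * b = b * a := by
    rintro a ⟨s, hs, rfl⟩ b ⟨s', hs', rfl⟩
    rcases hcomm s hs s' hs' with h | h
    · rw [← map_mul, ← map_mul, h]
    · rw [← map_mul, h, map_mul, hπz, one_mul, map_mul]
  have hcent1 : ∀ x : E ⧸ N, ∀ b ∈ T, b * x = x * b := by
    intro x
    have hx : x ∈ Subgroup.closure T := by rw [hTtop]; exact Subgroup.mem_top x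
    have hle : Subgroup.closure T ≤ Subgroup.centralizer T := by
      rw [Subgroup.closure_le]
      intro a ha
      rw [SetLike.mem_coe, Subgroup.mem_centralizer_iff]
      intro b hb
      exact hTcomm b hb a ha
    have := hle hx
    rw [Subgroup.mem_centralizer_iff] at this
    exact this
  have hcommQ : ∀ x y : E ⧸ N, x * y = y * x := by
    intro x y
    have hy : y ∈ Subgroup.closure T := by rw [hTtop]; exact Subgroup.mem_top y
    have hle : Subgroup.closure T ≤ Subgroup.centralizer {x} := by
      rw [Subgroup.closure_le]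
      intro b hb
      rw [SetLike.mem_coe, Subgroup.mem_centralizer_iff]
      intro x' hx'
      rw [Set.mem_singleton_iff] at hx'
      subst hx'
      exact (hcent1 x' b hb).symm
    have := hle hy
    rw [Subgroup.mem_centralizer_iff] at this
    exact this x rfl
  have hsqQ : ∀ x : E ⧸ N, x * x = 1 := by
    intro x
    have hx : x ∈ Subgroup.closure T := by rw [hTtop]; exact Subgroup.mem_top x
    induction hx using Subgroup.closure_induction with
    | mem a ha =>
      obtain ⟨s, hs, rfl⟩ := ha
      rcases hs2 s hs with h | h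
      · rw [← map_mul, h, map_one]
      · rw [← map_mul, h, hπz]
    | one => rw [one_mul]
    | mul a b _ _ iha ihb =>
      calc a * b * (a * b) = a * (b * a) * b := by group
        _ = a * (a * b) * b := by rw [hcommQ b a]
        _ = (a * a) * (b * b) := by group
        _ = 1 := by rw [iha, ihb, one_mul]
    | inv a _ iha =>
      have : a⁻¹ = a := inv_eq_of_mul_eq_one_right iha
      rw [this, iha]
  refine ⟨hne, hsq, hcen, ?_, ?_⟩
  · intro x y
    apply hker
    rw [commutatorElement_def, map_mul, map_mul, map_mul, map_inv, map_inv, hcommQ (π x) (π y)]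
    group
  · intro x
    apply hker
    rw [map_mul]
    exact hsqQ (π x)

/-- the condition on the pairs -/
def Good : List (E × E) → Prop
  | [] => True
  | p :: L => (∀ q ∈ L, p.2 * q.1 = q.1 * p.2) ∧ p.2 * p.1 ≠ p.1 * p.2 ∧ Good L

/-- the first entries -/
def firsts (L : List (E × E)) : Set E := {x | ∃ p ∈ L, p.1 = x}

theorem card_centralizer_mul_le [Finite E] : ∀ L : List (E × E), Good L →
    Nat.card (Subgroup.centralizer (firsts L)) * 2 ^ L.length ≤ Nat.card E := by
  intro L
  induction L with
  | nil =>
    intro _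
    rw [List.length_nil, pow_zero, mul_one]
    exact Subgroup.card_le_card_group _
  | cons p L ih =>
    intro hG
    obtain ⟨h1, h2, h3⟩ := hG
    have ih' := ih h3
    have hle : Subgroup.centralizer (firsts (p :: L)) ≤ Subgroup.centralizer (firsts L) := by
      apply Subgroup.centralizer_le
      rintro x ⟨q, hq, rfl⟩
      exact ⟨q, List.mem_cons_of_mem _ hq, rfl⟩
    have hmem : p.2 ∈ Subgroup.centralizer (firsts L) := by
      rw [Subgroup.mem_centralizer_iff]
      rintro x ⟨q, hq, rfl⟩
      exact (h1 q hq).symm
    have hnot : p.2 ∉ Subgroup.centralizer (firsts (p :: L)) := by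
      intro h
      rw [Subgroup.mem_centralizer_iff] at h
      exact h2 (h p.1 ⟨p, List.mem_cons_self, rfl⟩).symm
    have hdvd := Subgroup.card_dvd_of_le hle
    obtain ⟨k, hk⟩ := hdvd
    have hpos : 0 < Nat.card (Subgroup.centralizer (firsts L)) := Nat.card_pos
    have hk2 : 2 ≤ k := by
      rcases Nat.lt_or_ge k 2 with h | h
      · exfalso
        interval_cases k
        · rw [mul_zero] at hk; omega
        · rw [mul_one] at hk
          have := Subgroup.eq_of_le_of_card_ge hle (le_of_eq hk)
          rw [this] at hnot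
          exact hnot hmem
      · exact h
    rw [List.length_cons, pow_succ]
    calc Nat.card (Subgroup.centralizer (firsts (p :: L))) * (2 ^ L.length * 2)
        = (Nat.card (Subgroup.centralizer (firsts (p :: L))) * 2) * 2 ^ L.length := by ring
      _ ≤ (Nat.card (Subgroup.centralizer (firsts (p :: L))) * k) * 2 ^ L.length :=
          Nat.mul_le_mul_right _ (Nat.mul_le_mul_left _ hk2)
      _ = Nat.card (Subgroup.centralizer (firsts L)) * 2 ^ L.length := by rw [← hk]
      _ ≤ Nat.card E := ih'

/-- **An extraspecial 2-group from generators.** -/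
theorem es_of_gens [Finite E] (z : E) (S : Set E) (hS : Subgroup.closure S = ⊤) (hne : z ≠ 1) (hsq : z * z = 1)
    (hcen : ∀ x : E, x * z = z * x) (hs2 : ∀ s ∈ S, s * s = 1 ∨ s * s = z)
    (hcomm : ∀ s ∈ S, ∀ s' ∈ S, s * s' = s' * s ∨ s * s' = z * (s' * s))
    (L : List (E × E)) (hL : Good L) (hcard : Nat.card E ≤ 2 * 2 ^ L.length) : ES z := by
  refine ⟨ctx_of_gens z S hS hne hsq hcen hs2 hcomm, ?_⟩
  intro w hw
  have hb := card_centralizer_mul_le L hL
  have hzc : Nat.card (Subgroup.center E) ≤ Nat.card (Subgroup.centralizer (firsts L)) :=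
    Subgroup.card_le_of_le (Subgroup.center_le_centralizer _)
  have hpos : 0 < 2 ^ L.length := pow_pos (by norm_num) _
  have hc2 : Nat.card (Subgroup.center E) ≤ 2 := by nlinarith
  have hordz : orderOf z = 2 := by
    haveI : Fact (Nat.Prime 2) := ⟨Nat.prime_two⟩
    exact orderOf_eq_prime (by rw [pow_two]; exact hsq) hne
  have hle : Subgroup.zpowers z ≤ Subgroup.center E := by
    rw [Subgroup.zpowers_le, Subgroup.mem_center_iff]
    intro x
    exact hcen x
  have heq : Subgroup.zpowers z = Subgroup.center E := by
    apply Subgroup.eq_of_le_of_card_ge hle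
    rw [Nat.card_zpowers, hordz]
    exact hc2
  have hwc : w ∈ Subgroup.center E := by
    rw [Subgroup.mem_center_iff]
    intro x
    exact hw x
  rw [← heq] at hwc
  exact Cfsg.Agent.Lib.Helper8.DCoverA8.eq_of_mem_zpowers hsq hwc

end Cfsg.Agent.Lib.Helper8.ESGen
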