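import Mathlib

/-!
# The action of a group of permutations on an injective family of points

The permutations of `α` that permute the members of an injective family `ω : β → α` form a subgroup, and each of them
induces a permutation of `β`.
-/

set_option autoImplicit false

namespace Cfsg.Agent.Lib.Helper8.OmegaRes

variable {α β : Type*} (ω : β → α)

/-- the permutations that permute the members of the family -/
def Stab : Subgroup (Equiv.Perm α) where
  carrier := {g | ∃ σ : Equiv.Perm β, ∀ i, g (ω i) = ω (σ i)}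
  one_mem' := ⟨1, fun _ => rfl⟩
  mul_mem' := by
    rintro g h ⟨σ, hσ⟩ ⟨τ, hτ⟩
    refine ⟨σ * τ, fun i => ?_⟩
    rw [Equiv.Perm.mul_apply, hτ, hσ, Equiv.Perm.mul_apply]
  inv_mem' := by
    rintro g ⟨σ, hσ⟩
    refine ⟨σ⁻¹, fun i => ?_⟩
    rw [Equiv.Perm.inv_eq_iff_eq, hσ, Equiv.Perm.coe_inv, Equiv.apply_symm_apply]

theorem mem_Stab {g : Equiv.Perm α} : g ∈ Stab ω ↔ ∃ σ : Equiv.Perm β, ∀ i, g (ω i) = ω (σ i) := Iff.rfl

variable {ω}

theorem unique (hω : Function.Injective ω) {g : Equiv.Perm α} {σ τ : Equiv.Perm β}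
    (hσ : ∀ i, g (ω i) = ω (σ i)) (hτ : ∀ i, g (ω i) = ω (τ i)) : σ = τ :=
  Equiv.ext fun i => hω ((hσ i).symm.trans (hτ i))

/-- the induced permutation -/
noncomputable def res (hω : Function.Injective ω) : ↥(Stab ω) →* Equiv.Perm β where
  toFun g := Classical.choose g.2
  map_one' := unique hω (Classical.choose_spec (1 : ↥(Stab ω)).2) (fun _ => rfl)
  map_mul' g h := unique hω (Classical.choose_spec (g * h).2) (fun i => by
    show (g.1 * h.1) (ω i) = _
    rw [Equiv.Perm.mul_apply, Classical.choose_spec h.2, Classical.choose_spec g.2, Equiv.Perm.mul_apply])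

theorem res_spec (hω : Function.Injective ω) (g : ↥(Stab ω)) (i : β) : g.1 (ω i) = ω (res hω g i) :=
  Classical.choose_spec g.2 i

theorem res_eq (hω : Function.Injective ω) {g : ↥(Stab ω)} {σ : Equiv.Perm β} (h : ∀ i, g.1 (ω i) = ω (σ i)) :
    res hω g = σ :=
  unique hω (res_spec hω g) h

end Cfsg.Agent.Lib.Helper8.OmegaRes
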