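import Cfsg.Agent.Lib.Helper8.Sp62Data
import Cfsg.Agent.S0245
import Cfsg.Agent.Lib.Lead.PG.Chain

/-!
# The symplectic group of degree six over the field of two elements as a permutation group on 28 points

The 28 vectors `a` of `𝔽₂⁶` with `a₀a₃ + a₁a₄ + a₂a₅ = 1` correspond to the quadratic forms of minus type that
polarise to the standard alternating form.  The symplectic group permutes them by affine maps whose linear parts are
the symplectic matrices themselves.  The group `A` of all permutations of the 28 points that act in this way is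
isomorphic to the symplectic group: the linear part is unique and is a homomorphism, its kernel is trivial, and a
chain of stabilisers of an explicit subgroup shows that `A` is as large as the symplectic group.
-/

set_option autoImplicit false

namespace Cfsg.Agent.Lib.Helper8.Sp62

open Matrix Cfsg.Agent.PG

/-- the symplectic group of degree six over the field of two elements -/
abbrev Sp : Type := ↥(Matrix.symplecticGroup (Fin 3) (ZMod 2))

/-- the matrices -/
abbrev Mat : Type := Matrix (Fin 3 ⊕ Fin 3) (Fin 3 ⊕ Fin 3) (ZMod 2)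

/-- the place of a coordinate -/
def idx : Fin 3 ⊕ Fin 3 → ℕ
  | Sum.inl i => i.val
  | Sum.inr i => i.val + 3

/-- the vector of a number of six bits -/
def vec (x : ℕ) : Fin 3 ⊕ Fin 3 → ZMod 2 := fun j => if x.testBit (idx j) then 1 else 0

/-- the matrix with the given columns -/
def matOf (cols : List ℕ) : Mat :=
  Matrix.of fun i j => if (cols.getD (idx j) 0).testBit (idx i) then 1 else 0

/-- the vector of a point -/
def av (i : ℕ) : ℕ := tab.getD i 0

theorem vec_xor (x y : ℕ) : vec (x ^^^ y) = vec x + vec y := by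
  funext j
  simp only [vec, Pi.add_apply, Nat.testBit_xor]
  cases x.testBit (idx j) <;> cases y.testBit (idx j) <;> decide

theorem vec_xor3 (p q r : ℕ) : vec (p ^^^ q) = vec (p ^^^ r) + vec (q ^^^ r) := by
  rw [vec_xor, vec_xor, vec_xor]
  funext j
  simp only [Pi.add_apply]
  generalize vec p j = a
  generalize vec q j = b
  generalize vec r j = c
  revert a b c
  decide

theorem vec_inj_fin : ∀ x y : Fin 64, vec x.val = vec y.val → x = y := by decide

theorem av_xor_lt : ∀ i j : Fin 28, av i.val ^^^ av j.val < 64 := by decide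

theorem vec_single : ∀ k : Fin 3 ⊕ Fin 3, vec (2 ^ idx k) = Pi.single k 1 := by decide

/-- the first point of the pair for a coordinate -/
def pA (k : Fin 3 ⊕ Fin 3) : Fin 28 := Fin.ofNat 28 (prs.getD (idx k) (0, 0)).1

/-- the second point of the pair for a coordinate -/
def pB (k : Fin 3 ⊕ Fin 3) : Fin 28 := Fin.ofNat 28 (prs.getD (idx k) (0, 0)).2

theorem prs_ok : ∀ k : Fin 3 ⊕ Fin 3, av (pA k).val ^^^ av (pB k).val = 2 ^ idx k := by decide

/-- a translation that maps the set of the 28 vectors to itself is trivial -/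
theorem trans_ok : ∀ j0 : Fin 28,
    (∀ i : Fin 28, ∃ j : Fin 28, av j.val ^^^ av j0.val = av i.val ^^^ av (0 : Fin 28).val) → j0 = 0 := by
  decide

theorem av_inj0 : ∀ i j : Fin 28, av j.val ^^^ av (0 : Fin 28).val = av i.val ^^^ av (0 : Fin 28).val → j = i := by
  decide

/-! ### affine permutations -/

/-- the permutation `c` acts on the 28 vectors by an affine map with linear part `M` -/
def Aff (c : Equiv.Perm (Fin 28)) (M : Mat) : Prop :=
  ∀ i : Fin 28, vec (av (c i).val ^^^ av (c 0).val) = M *ᵥ vec (av i.val ^^^ av (0 : Fin 28).val)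

theorem aff2 {c : Equiv.Perm (Fin 28)} {M : Mat} (h : Aff c M) (i j : Fin 28) :
    vec (av (c i).val ^^^ av (c j).val) = M *ᵥ vec (av i.val ^^^ av j.val) := by
  rw [vec_xor3 _ _ (av (c 0).val), h i, h j, ← Matrix.mulVec_add, ← vec_xor3]

theorem aff_one : Aff 1 (1 : Mat) := by
  intro i
  rw [Matrix.one_mulVec]
  rfl

theorem aff_mul {c d : Equiv.Perm (Fin 28)} {M N : Mat} (hM : Aff c M) (hN : Aff d N) : Aff (c * d) (M * N) := by
  intro i
  rw [← Matrix.mulVec_mulVec, ← hN i]
  exact aff2 hM (d i) (d 0)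

theorem aff_inv {c : Equiv.Perm (Fin 28)} {M N : Mat} (hM : Aff c M) (hNM : N * M = 1) : Aff c⁻¹ N := by
  intro i
  have h := aff2 hM (c⁻¹ i) (c⁻¹ 0)
  have e1 : ∀ x, c (c⁻¹ x) = x := fun x => by
    rw [← Equiv.Perm.mul_apply, mul_inv_cancel, Equiv.Perm.one_apply]
  rw [e1, e1] at h
  rw [h, Matrix.mulVec_mulVec, hNM, Matrix.one_mulVec]

theorem aff_unique {c : Equiv.Perm (Fin 28)} {M N : Mat} (hM : Aff c M) (hN : Aff c N) : M = N := by
  ext i k
  have h1 := aff2 hM (pA k) (pB k)
  have h2 := aff2 hN (pA k) (pB k)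
  rw [prs_ok k, vec_single k, Matrix.mulVec_single_one] at h1 h2
  exact congrFun (h1.symm.trans h2) i

theorem eq_one_of_aff_one {c : Equiv.Perm (Fin 28)} (h : Aff c 1) : c = 1 := by
  have hx : ∀ i : Fin 28, av (c i).val ^^^ av (c 0).val = av i.val ^^^ av (0 : Fin 28).val := by
    intro i
    have h1 := h i
    rw [Matrix.one_mulVec] at h1
    have h2 := vec_inj_fin ⟨_, av_xor_lt (c i) (c 0)⟩ ⟨_, av_xor_lt i 0⟩ h1
    exact congrArg Fin.val h2
  have h0 : c 0 = 0 := trans_ok (c 0) fun i => ⟨c i, hx i⟩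
  refine Equiv.ext fun i => ?_
  have := hx i
  rw [h0] at this
  exact av_inj0 i (c i) this

/-- the group of the affine permutations with symplectic linear parts -/
def A : Subgroup (Equiv.Perm (Fin 28)) where
  carrier := {c | ∃ M : Sp, Aff c M.1}
  one_mem' := ⟨1, aff_one⟩
  mul_mem' := by
    rintro c d ⟨M, hM⟩ ⟨N, hN⟩
    exact ⟨M * N, aff_mul hM hN⟩
  inv_mem' := by
    rintro c ⟨M, hM⟩
    refine ⟨M⁻¹, aff_inv hM ?_⟩
    have := congrArg Subtype.val (inv_mul_cancel M)
    exact this

theorem mem_A {c : Equiv.Perm (Fin 28)} : c ∈ A ↔ ∃ M : Sp, Aff c M.1 := Iff.rfl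

theorem mem_A_of_aff {c : Equiv.Perm (Fin 28)} {M : Mat} (hM : M ∈ Matrix.symplecticGroup (Fin 3) (ZMod 2))
    (h : Aff c M) : c ∈ A := ⟨⟨M, hM⟩, h⟩

/-- the linear part -/
noncomputable def phi : ↥A →* Sp where
  toFun c := Classical.choose (mem_A.1 c.2)
  map_one' := Subtype.ext (aff_unique (Classical.choose_spec (mem_A.1 (1 : ↥A).2)) aff_one)
  map_mul' c d := Subtype.ext (aff_unique (Classical.choose_spec (mem_A.1 (c * d).2))
    (aff_mul (Classical.choose_spec (mem_A.1 c.2)) (Classical.choose_spec (mem_A.1 d.2))))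

theorem aff_phi (c : ↥A) : Aff c.1 (phi c).1 := Classical.choose_spec (mem_A.1 c.2)

theorem phi_eq {c : ↥A} {M : Mat} (h : Aff c.1 M) : (phi c).1 = M := aff_unique (aff_phi c) h

theorem phi_injective : Function.Injective phi := by
  rw [injective_iff_map_eq_one]
  intro c hc
  apply Subtype.ext
  apply eq_one_of_aff_one
  have := aff_phi c
  rw [hc] at this
  exact this

theorem card_Sp : Nat.card Sp = 1451520 := by
  rw [Cfsg.Agent.S0245.result (F := ZMod 2) (q := 2) (ZMod.card 2) 3]
  decide

instance : Finite Sp := Nat.finite_of_card_ne_zero (by rw [card_Sp]; norm_num)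

theorem card_A_le : Nat.card ↥A ≤ 1451520 := by
  rw [← card_Sp]
  exact Nat.card_le_card_of_injective phi phi_injective

/-! ### two generators -/

theorem n_le : 28 ≤ 512 := by norm_num

theorem chk_codes : codeOK 28 cgA cgAi = true ∧ codeOK 28 cgB cgBi = true := by decide

theorem chk_inv : pmul 28 cgA cgAi = pone 28 ∧ pmul 28 cgB cgBi = pone 28 := by decide

theorem chk_sp : matOf colsA ∈ Matrix.symplecticGroup (Fin 3) (ZMod 2) ∧
    matOf colsB ∈ Matrix.symplecticGroup (Fin 3) (ZMod 2) := by
  rw [SymplecticGroup.mem_iff, SymplecticGroup.mem_iff]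
  decide

theorem chk_aff : (∀ i : Fin 28, vec (av (lk cgA i.val) ^^^ av (lk cgA 0)) =
      matOf colsA *ᵥ vec (av i.val ^^^ av (0 : Fin 28).val)) ∧
    (∀ i : Fin 28, vec (av (lk cgB i.val) ^^^ av (lk cgB 0)) =
      matOf colsB *ᵥ vec (av i.val ^^^ av (0 : Fin 28).val)) := by
  decide

/-- the first generator -/
noncomputable def gA : Equiv.Perm (Fin 28) := dec 28 cgA

/-- the second generator -/
noncomputable def gB : Equiv.Perm (Fin 28) := dec 28 cgB

theorem isCode_A : IsCode 28 cgA := isCode_of_codeOK n_le chk_codes.1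
theorem isCode_B : IsCode 28 cgB := isCode_of_codeOK n_le chk_codes.2

theorem enc_gA : enc 28 gA = cgA := enc_dec isCode_A
theorem enc_gB : enc 28 gB = cgB := enc_dec isCode_B

/-- a permutation given by a code, with a symplectic matrix, belongs to `A` -/
theorem mem_A_of_code {c : ℕ} (hc : IsCode 28 c) {M : Mat} (hM : M ∈ Matrix.symplecticGroup (Fin 3) (ZMod 2))
    (h : ∀ i : Fin 28, vec (av (lk c i.val) ^^^ av (lk c 0)) = M *ᵥ vec (av i.val ^^^ av (0 : Fin 28).val)) :
    dec 28 c ∈ A := by
  refine mem_A_of_aff hM fun i => ?_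
  rw [dec_apply n_le hc i, dec_apply n_le hc 0]
  exact h i

theorem gA_mem : gA ∈ A := mem_A_of_code isCode_A chk_sp.1 chk_aff.1
theorem gB_mem : gB ∈ A := mem_A_of_code isCode_B chk_sp.2 chk_aff.2

/-- the group generated by the two generators -/
noncomputable def H : Subgroup (Equiv.Perm (Fin 28)) := Subgroup.closure {gA, gB}

theorem H_le : H ≤ A := by
  rw [H, Subgroup.closure_le]
  intro g hg
  rcases hg with rfl | rfl
  · exact gA_mem
  · exact gB_mem

theorem gA_memH : gA ∈ H := Subgroup.subset_closure (Set.mem_insert _ _)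
theorem gB_memH : gB ∈ H := Subgroup.subset_closure (Set.mem_insert_of_mem _ rfl)

theorem enc_inv_of {g : Equiv.Perm (Fin 28)} {c d : ℕ} (hg : enc 28 g = c) (h : pmul 28 c d = pone 28)
    (hd : IsCode 28 d) : enc 28 g⁻¹ = d := by
  obtain ⟨k, rfl⟩ := hd
  have e : g * k = 1 := by
    apply enc_injective n_le
    rw [← pmul_enc n_le, hg, h, pone_eq]
  rw [eq_inv_of_mul_eq_one_right e]

theorem chk_codes' : codeOK 28 cgAi cgA = true ∧ codeOK 28 cgBi cgB = true := by decide

theorem enc_gAi : enc 28 gA⁻¹ = cgAi := enc_inv_of enc_gA chk_inv.1 (isCode_of_codeOK n_le chk_codes'.1)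
theorem enc_gBi : enc 28 gB⁻¹ = cgBi := enc_inv_of enc_gB chk_inv.2 (isCode_of_codeOK n_le chk_codes'.2)

/-- the base registers -/
noncomputable def baseH : List ↥H :=
  [⟨gB⁻¹, H.inv_mem gB_memH⟩, ⟨gB, gB_memH⟩, ⟨gA⁻¹, H.inv_mem gA_memH⟩, ⟨gA, gA_memH⟩]

theorem baseH_ok : RegsOK H baseH [cgBi, cgB, cgAi, cgA] :=
  List.Forall₂.cons enc_gBi (List.Forall₂.cons enc_gB (List.Forall₂.cons enc_gAi
    (List.Forall₂.cons enc_gA List.Forall₂.nil)))

/-- the element of a register -/
noncomputable def regH (prog : List (ℕ × ℕ)) (i : ℕ) : ↥H := (runM prog baseH).getD i 1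

theorem enc_regH (prog : List (ℕ × ℕ)) (i : ℕ) :
    enc 28 (regH prog i).1 = (run 28 prog [cgBi, cgB, cgAi, cgA]).getD i (pone 28) :=
  (baseH_ok.run n_le (is := prog)).getD i

theorem chk_chain : runK 28 chainProg [cgBi, cgB, cgAi, cgA] (fun r =>
    chainOK 28 [] chainBase (chainIdx.map fun l => l.map fun i => r.getD i (pone 28))) = true := by
  decide +kernel

theorem chk_prod : (chainIdx.map List.length).prod = 1451520 := by decide

theorem card_H_ge : 1451520 ≤ Nat.card H := by
  have hchk := chk_chain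
  rw [runK_eq] at hchk
  have := chain_sound n_le H chainBase [] _ hchk (by
    intro U hU c hc
    rw [List.mem_map] at hU
    obtain ⟨l, -, rfl⟩ := hU
    rw [List.mem_map] at hc
    obtain ⟨i, -, rfl⟩ := hc
    exact ⟨(regH chainProg i).1, (regH chainProg i).2, enc_regH chainProg i⟩)
  rw [fixer_nil] at this
  refine le_trans (le_of_eq ?_) this
  rw [List.map_map]
  have e : (List.length ∘ fun l : List ℕ =>
      l.map fun i => (run 28 chainProg [cgBi, cgB, cgAi, cgA]).getD i (pone 28)) = List.length := by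
    funext l
    simp
  rw [e, chk_prod]

theorem H_eq : H = A :=
  Subgroup.eq_of_le_of_card_ge H_le (le_trans card_A_le card_H_ge)

/-- **The group `A` has the order of the symplectic group.** -/
theorem card_A : Nat.card ↥A = 1451520 :=
  le_antisymm card_A_le (by rw [← H_eq]; exact card_H_ge)

theorem phi_bijective : Function.Bijective phi := by
  have : Finite ↥A := Nat.finite_of_card_ne_zero (by rw [card_A]; norm_num)
  rw [Nat.bijective_iff_injective_and_card]
  exact ⟨phi_injective, by rw [card_A, card_Sp]⟩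

/-- **The group of the affine permutations of the 28 points is the symplectic group.** -/
noncomputable def iso : ↥A ≃* Sp := MulEquiv.ofBijective phi phi_bijective

theorem iso_apply (c : ↥A) : iso c = phi c := rfl

end Cfsg.Agent.Lib.Helper8.Sp62
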