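import Cfsg.Agent.S0270
import Cfsg.Agent.S0246
import Cfsg.Agent.Lib.Helper8.Sp62

/-!
# The symplectic group of degree six over the field of two elements is simple

Its centre is trivial, so that it is the projective symplectic group.
-/

set_option autoImplicit false

namespace Cfsg.Agent.Lib.Helper8.Sp62

theorem center_eq_bot : Subgroup.center Sp = ⊥ := by
  have h := Cfsg.Agent.S0246.result (F := ZMod 2) (q := 2) (ZMod.card 2) 3 (by norm_num)
  have h1 : Nat.card ↥(Subgroup.center Sp) = 1 := by
    rw [h]
    rfl
  exact Subgroup.card_eq_one.1 h1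

/-- the symplectic group is the projective symplectic group -/
noncomputable def toPSp : Sp ≃* Cfsg.PSp 3 (ZMod 2) :=
  (QuotientGroup.quotientBot (G := Sp)).symm.trans (QuotientGroup.quotientMulEquivOfEq center_eq_bot.symm)

theorem simple_Sp : IsSimpleGroup Sp := by
  have hs : IsSimpleGroup (Cfsg.PSp 3 (ZMod 2)) :=
    Cfsg.Agent.S0270.result 3 (by norm_num) (by intro h; omega)
  exact @MulEquiv.isSimpleGroup _ _ _ _ hs toPSp

/-- a normal 2-subgroup of the symplectic group is trivial -/
theorem eq_bot_of_normal_pGroup (N : Subgroup Sp) (hN : N.Normal) (hp : IsPGroup 2 ↥N) : N = ⊥ := by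
  have hs := simple_Sp
  rcases hN.eq_bot_or_eq_top with h | h
  · exact h
  · exfalso
    subst h
    have hfin : Finite Sp := inferInstance
    obtain ⟨k, hk⟩ := IsPGroup.iff_card.1 hp
    rw [Subgroup.card_top, card_Sp] at hk
    have h3 : 3 ∣ 2 ^ k := by
      rw [← hk]
      norm_num
    have := (Nat.Prime.dvd_of_dvd_pow Nat.prime_three h3)
    omega

end Cfsg.Agent.Lib.Helper8.Sp62
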