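import Cfsg.Agent.Lib.Helper8.Co2CentChk
import Cfsg.Agent.Lib.Lead.Co2.Out
import Cfsg.Agent.Lib.Helper8.OmegaRes
import Cfsg.Agent.Lib.Helper8.CoreQuot
import Cfsg.Agent.Lib.Helper8.ESGen
import Cfsg.Agent.Lib.Helper8.Sp62Simple

/-!
# The centraliser of an involution of the second Conway group

In the group `P` on 2300 points there is an involution `tI` whose centraliser `HC` has order `743178240`.  The
centraliser permutes a set of 28 points as the symplectic group of degree six over the field of two elements, and the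
kernel of this action is an extraspecial group of order `2 ^ 9`.
-/

set_option autoImplicit false

namespace Cfsg.Agent.Lib.Helper8.Co2Cent

open Cfsg Cfsg.Agent.Co2P Cfsg.Agent.PL
open Cfsg.Agent.PG (fixer fixer_nil allB allB_iff)

/-! ### codes of elements of a subgroup -/

theorem mem_of_getD {l : List ℕ} {c : ℕ} (i : ℕ) (hi : i < l.length) (h : l.getD i 0 = c) : c ∈ l := by
  rw [← h, List.getD_eq_getElem _ _ hi]
  exact List.getElem_mem hi

theorem regs_exist (H : Subgroup (Equiv.Perm (Fin 2300))) :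
    ∀ cs : List ℕ, (∀ c ∈ cs, ∃ g ∈ H, enc 2300 g = c) → ∃ gs : List ↥H, RegsOK H gs cs
  | [], _ => ⟨[], List.Forall₂.nil⟩
  | c :: cs, h => by
    obtain ⟨g, hg, he⟩ := h c List.mem_cons_self
    obtain ⟨gs, hgs⟩ := regs_exist H cs (fun c' hc' => h c' (List.mem_cons_of_mem _ hc'))
    exact ⟨⟨g, hg⟩ :: gs, List.Forall₂.cons he hgs⟩

theorem run_ex (H : Subgroup (Equiv.Perm (Fin 2300))) {cs : List ℕ} (h : ∀ c ∈ cs, ∃ g ∈ H, enc 2300 g = c)
    (prog : List (ℕ × ℕ)) (idx out : List ℕ)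
    (hout : runK 2300 prog cs (fun r => idx.map fun i => r.getD i (pone 2300)) = out) :
    ∀ c ∈ out, ∃ g ∈ H, enc 2300 g = c := by
  obtain ⟨gs, hgs⟩ := regs_exist H cs h
  exact exists_of_run n_le hgs prog idx out hout

theorem regs1_ex : ∀ c ∈ regs1, ∃ g ∈ P, enc 2300 g = c := by
  intro c hc
  rw [regs1] at hc
  simp only [List.mem_cons, List.not_mem_nil, or_false] at hc
  rcases hc with rfl | rfl | rfl | rfl | rfl | rfl | rfl
  · exact sgB_ex _ (mem_of_getD 6 (by decide) rfl)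
  · exact sgA1_ex.2
  · exact sgA1_ex.1
  · exact ⟨gB⁻¹, P.inv_mem gB_mem, enc_gBi⟩
  · exact ⟨gB, gB_mem, enc_gB⟩
  · exact ⟨gA⁻¹, P.inv_mem gA_mem, enc_gAi⟩
  · exact ⟨gA, gA_mem, enc_gA⟩

theorem tcc_ex : ∀ c ∈ [ct, cc1, cc2], ∃ g ∈ P, enc 2300 g = c := run_ex P regs1_ex prog1 idx1 _ chk_prog1

/-! ### the involution and two elements of its centraliser -/

/-- the involution -/
noncomputable def tI : Equiv.Perm (Fin 2300) := dec 2300 ct
/-- the first generator of the centraliser -/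
noncomputable def cI1 : Equiv.Perm (Fin 2300) := dec 2300 cc1
/-- the second generator of the centraliser -/
noncomputable def cI2 : Equiv.Perm (Fin 2300) := dec 2300 cc2

theorem tI_spec : tI ∈ P ∧ enc 2300 tI = ct := mem_of_code n_le (tcc_ex ct List.mem_cons_self)
theorem cI1_spec : cI1 ∈ P ∧ enc 2300 cI1 = cc1 :=
  mem_of_code n_le (tcc_ex cc1 (List.mem_cons_of_mem _ List.mem_cons_self))
theorem cI2_spec : cI2 ∈ P ∧ enc 2300 cI2 = cc2 :=
  mem_of_code n_le (tcc_ex cc2 (List.mem_cons_of_mem _ (List.mem_cons_of_mem _ List.mem_cons_self)))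

theorem acts_t : Acts tI (lk ct) := Acts.of_enc n_le tI_spec.2
theorem acts_c1 : Acts cI1 (lk cc1) := Acts.of_enc n_le cI1_spec.2
theorem acts_c2 : Acts cI2 (lk cc2) := Acts.of_enc n_le cI2_spec.2

theorem tI_sq : tI * tI = 1 := (acts_t.mul acts_t).eq_one (of_allB chk_t.1)
theorem tI_ne : tI ≠ 1 := acts_t.ne_one (q := 0) (by norm_num) chk_t.2
theorem c1t : cI1 * tI = tI * cI1 := (acts_c1.mul acts_t).eq (acts_t.mul acts_c1) (of_allB chk_comm1)
theorem c2t : cI2 * tI = tI * cI2 := (acts_c2.mul acts_t).eq (acts_t.mul acts_c2) (of_allB chk_comm2)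

/-- the centraliser of the involution -/
noncomputable def HC : Subgroup (Equiv.Perm (Fin 2300)) := Subgroup.closure {cI1, cI2, tI}

theorem c1_mem : cI1 ∈ HC := Subgroup.subset_closure (Set.mem_insert _ _)
theorem c2_mem : cI2 ∈ HC := Subgroup.subset_closure (Set.mem_insert_of_mem _ (Set.mem_insert _ _))
theorem t_mem : tI ∈ HC :=
  Subgroup.subset_closure (Set.mem_insert_of_mem _ (Set.mem_insert_of_mem _ rfl))

theorem mem_cent {g : Equiv.Perm (Fin 2300)} (h : g * tI = tI * g) :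
    g ∈ Subgroup.centralizer ({tI} : Set (Equiv.Perm (Fin 2300))) := by
  rw [Subgroup.mem_centralizer_iff]
  intro k hk
  rw [Set.mem_singleton_iff] at hk
  subst hk
  exact h.symm

theorem HC_le : HC ≤ P ⊓ Subgroup.centralizer {tI} := by
  rw [HC, Subgroup.closure_le]
  intro g hg
  rcases hg with rfl | rfl | rfl
  · exact Subgroup.mem_inf.2 ⟨cI1_spec.1, mem_cent c1t⟩
  · exact Subgroup.mem_inf.2 ⟨cI2_spec.1, mem_cent c2t⟩
  · exact Subgroup.mem_inf.2 ⟨tI_spec.1, mem_cent rfl⟩

theorem HC_le_P : HC ≤ P := fun _ hg => (Subgroup.mem_inf.1 (HC_le hg)).1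

theorem comm_t {g : Equiv.Perm (Fin 2300)} (hg : g ∈ HC) : g * tI = tI * g := by
  have h := (Subgroup.mem_inf.1 (HC_le hg)).2
  rw [Subgroup.mem_centralizer_iff] at h
  exact (h tI rfl).symm

theorem regs2_ex : ∀ c ∈ regs2, ∃ g ∈ HC, enc 2300 g = c := by
  intro c hc
  rw [regs2] at hc
  simp only [List.mem_cons, List.not_mem_nil, or_false] at hc
  rcases hc with rfl | rfl | rfl
  · exact ⟨tI, t_mem, tI_spec.2⟩
  · exact ⟨cI2, c2_mem, cI2_spec.2⟩
  · exact ⟨cI1, c1_mem, cI1_spec.2⟩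

theorem out2_ex : ∀ c ∈ out2, ∃ g ∈ HC, enc 2300 g = c := run_ex HC regs2_ex prog2 idx2 _ chk_prog2

theorem regs3_eq : regs3 = out2 ++ regs2 := rfl

theorem regs3_ex : ∀ c ∈ regs3, ∃ g ∈ HC, enc 2300 g = c := by
  intro c hc
  rw [regs3_eq, List.mem_append] at hc
  rcases hc with h | h
  · exact out2_ex c h
  · exact regs2_ex c h

theorem out3_ex : ∀ c ∈ out3, ∃ g ∈ HC, enc 2300 g = c := run_ex HC regs3_ex prog3 idx3 _ chk_prog3

theorem codesH_ex : ∀ c ∈ codesH, ∃ g ∈ HC, enc 2300 g = c := by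
  intro c hc
  rw [codesH, List.mem_append] at hc
  rcases hc with h | h
  · simp only [List.mem_cons, List.not_mem_nil, or_false] at h
    rcases h with rfl | rfl | rfl
    · exact ⟨cI1, c1_mem, cI1_spec.2⟩
    · exact ⟨cI2, c2_mem, cI2_spec.2⟩
    · exact ⟨tI, t_mem, tI_spec.2⟩
  · exact out2_ex c h

theorem card_HC_ge : 743178240 ≤ Nat.card HC := by
  have := tree_sound n_le HC 16 LsH [] chk_treeH (levels_of_codes HC codesH LsH chk_gensH codesH_ex)
  rw [fixer_nil, chk_countsH] at this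
  exact this

theorem codesP_ex : ∀ c ∈ codesP, ∃ g ∈ P, enc 2300 g = c := by
  intro c hc
  rw [codesP, List.mem_append] at hc
  rcases hc with h | h
  · obtain ⟨g, hg, he⟩ := codesA_ex c h
    exact ⟨g, K_le hg, he⟩
  · have h2 : c ∈ out2 := by
      simp only [List.mem_cons, List.not_mem_nil, or_false] at h
      rcases h with rfl | rfl | rfl | rfl
      · exact mem_of_getD 5 (by decide) rfl
      · exact mem_of_getD 6 (by decide) rfl
      · exact mem_of_getD 7 (by decide) rfl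
      · exact mem_of_getD 8 (by decide) rfl
    obtain ⟨g, hg, he⟩ := out2_ex c h2
    exact ⟨g, HC_le_P hg, he⟩

theorem card_cent_le : Nat.card ↥(P ⊓ Subgroup.centralizer {tI}) ≤ 743178240 := by
  have h := PLCent.card_cent_le n_le P tI 16 LsP none [] chk_treeP
    (levels_of_codes P codesP LsP chk_gensP codesP_ex)
    (by rw [fixer_nil, card_P, chk_countsP]) (by intro q hq; cases hq)
  rw [fixer_nil, tI_spec.2, chk_centB] at h
  exact h

/-- the group `HC` is the centraliser of the involution in `P` -/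
theorem HC_eq : HC = P ⊓ Subgroup.centralizer {tI} :=
  Subgroup.eq_of_le_of_card_ge HC_le (le_trans card_cent_le card_HC_ge)

theorem card_HC : Nat.card HC = 743178240 :=
  le_antisymm (le_trans (Subgroup.card_le_of_le HC_le) card_cent_le) card_HC_ge

/-! ### the action on the 28 points -/

/-- the 28 points -/
def omF (i : Fin 28) : Fin 2300 := ⟨om i.val, chk_om_lt i⟩

theorem omF_inj : Function.Injective omF := fun i j h => chk_om_inj i j (congrArg Fin.val h)

theorem maps_of_chk {g : Equiv.Perm (Fin 2300)} {c p : ℕ} (hg : Acts g (lk c)) (hp : PG.IsCode 28 p)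
    (h : ((List.range 28).all fun i => Nat.beq (lk c (om i)) (om (PG.lk p i))) = true) :
    ∀ i : Fin 28, g (omF i) = omF (PG.dec 28 p i) := by
  intro i
  apply Fin.ext
  rw [List.all_eq_true] at h
  have h1 := Nat.eq_of_beq_eq_true (h i.val (List.mem_range.2 i.2))
  show ((g ⟨om i.val, chk_om_lt i⟩ : Fin 2300) : ℕ) = om (PG.dec 28 p i).val
  rw [hg _ (chk_om_lt i), h1, PG.dec_apply Sp62.n_le hp i]

theorem fixes_of_chk {g : Equiv.Perm (Fin 2300)} {c : ℕ} (hg : Acts g (lk c))
    (h : ((List.range 28).all fun i => Nat.beq (lk c (om i)) (om i)) = true) :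
    ∀ i : Fin 28, g (omF i) = omF ((1 : Equiv.Perm (Fin 28)) i) := by
  intro i
  apply Fin.ext
  rw [List.all_eq_true] at h
  have h1 := Nat.eq_of_beq_eq_true (h i.val (List.mem_range.2 i.2))
  show ((g ⟨om i.val, chk_om_lt i⟩ : Fin 2300) : ℕ) = om i.val
  rw [hg _ (chk_om_lt i), h1]

theorem isCode_p1 : PG.IsCode 28 cp1 := PG.isCode_of_codeOK Sp62.n_le chk_cp.1
theorem isCode_p2 : PG.IsCode 28 cp2 := PG.isCode_of_codeOK Sp62.n_le chk_cp.2.1
theorem isCode_p1i : PG.IsCode 28 cp1i := PG.isCode_of_codeOK Sp62.n_le chk_cp.2.2.1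
theorem isCode_p2i : PG.IsCode 28 cp2i := PG.isCode_of_codeOK Sp62.n_le chk_cp.2.2.2

/-- the permutation of the 28 points induced by the first generator -/
noncomputable def p1 : Equiv.Perm (Fin 28) := PG.dec 28 cp1
/-- the permutation of the 28 points induced by the second generator -/
noncomputable def p2 : Equiv.Perm (Fin 28) := PG.dec 28 cp2

theorem enc_p1 : PG.enc 28 p1 = cp1 := PG.enc_dec isCode_p1
theorem enc_p2 : PG.enc 28 p2 = cp2 := PG.enc_dec isCode_p2

theorem p1_mem : p1 ∈ Sp62.A := Sp62.mem_A_of_code isCode_p1 chk_sp.1 chk_aff.1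
theorem p2_mem : p2 ∈ Sp62.A := Sp62.mem_A_of_code isCode_p2 chk_sp.2 chk_aff.2

theorem c1_maps : ∀ i : Fin 28, cI1 (omF i) = omF (p1 i) := maps_of_chk acts_c1 isCode_p1 chk_act1
theorem c2_maps : ∀ i : Fin 28, cI2 (omF i) = omF (p2 i) := maps_of_chk acts_c2 isCode_p2 chk_act2
theorem t_maps : ∀ i : Fin 28, tI (omF i) = omF ((1 : Equiv.Perm (Fin 28)) i) := fixes_of_chk acts_t chk_actT

theorem HC_le_Stab : HC ≤ OmegaRes.Stab omF := by
  rw [HC, Subgroup.closure_le]
  intro g hg
  rcases hg with rfl | rfl | rfl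
  · exact (OmegaRes.mem_Stab omF).2 ⟨p1, c1_maps⟩
  · exact (OmegaRes.mem_Stab omF).2 ⟨p2, c2_maps⟩
  · exact (OmegaRes.mem_Stab omF).2 ⟨1, t_maps⟩

/-- the action of the centraliser on the 28 points -/
noncomputable def rhoC : ↥HC →* Equiv.Perm (Fin 28) :=
  (OmegaRes.res omF_inj).comp (Subgroup.inclusion HC_le_Stab)

theorem rhoC_spec (g : ↥HC) (i : Fin 28) : g.1 (omF i) = omF (rhoC g i) :=
  OmegaRes.res_spec omF_inj (Subgroup.inclusion HC_le_Stab g) i

theorem rhoC_eq {g : ↥HC} {σ : Equiv.Perm (Fin 28)} (h : ∀ i, g.1 (omF i) = omF (σ i)) : rhoC g = σ :=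
  OmegaRes.res_eq omF_inj (g := Subgroup.inclusion HC_le_Stab g) h

theorem exists_A : ∀ g ∈ HC, ∃ σ ∈ Sp62.A, ∀ i, g (omF i) = omF (σ i) := by
  intro g hg
  rw [HC] at hg
  induction hg using Subgroup.closure_induction with
  | mem g hg =>
    rcases hg with rfl | rfl | rfl
    · exact ⟨p1, p1_mem, c1_maps⟩
    · exact ⟨p2, p2_mem, c2_maps⟩
    · exact ⟨1, Sp62.A.one_mem, t_maps⟩
  | one => exact ⟨1, Sp62.A.one_mem, fun _ => rfl⟩
  | mul g h _ _ ihg ihh =>
    obtain ⟨σ, hσ, h1⟩ := ihg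
    obtain ⟨τ, hτ, h2⟩ := ihh
    exact ⟨σ * τ, Sp62.A.mul_mem hσ hτ, fun i => by
      rw [Equiv.Perm.mul_apply, h2, h1, Equiv.Perm.mul_apply]⟩
  | inv g _ ih =>
    obtain ⟨σ, hσ, h1⟩ := ih
    exact ⟨σ⁻¹, Sp62.A.inv_mem hσ, fun i => by
      rw [Equiv.Perm.inv_eq_iff_eq, h1, Equiv.Perm.coe_inv, Equiv.apply_symm_apply]⟩

theorem rhoC_mem (g : ↥HC) : rhoC g ∈ Sp62.A := by
  obtain ⟨σ, hσ, h⟩ := exists_A g.1 g.2
  rw [rhoC_eq h]
  exact hσ

theorem rho_c1 : rhoC ⟨cI1, c1_mem⟩ = p1 := rhoC_eq c1_maps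
theorem rho_c2 : rhoC ⟨cI2, c2_mem⟩ = p2 := rhoC_eq c2_maps

/-! ### the induced group is the symplectic group -/

/-- the group generated by the two induced permutations -/
noncomputable def H28 : Subgroup (Equiv.Perm (Fin 28)) := Subgroup.closure {p1, p2}

theorem p1_memH : p1 ∈ H28 := Subgroup.subset_closure (Set.mem_insert _ _)
theorem p2_memH : p2 ∈ H28 := Subgroup.subset_closure (Set.mem_insert_of_mem _ rfl)

theorem H28_le_A : H28 ≤ Sp62.A := by
  rw [H28, Subgroup.closure_le]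
  intro g hg
  rcases hg with rfl | rfl
  · exact p1_mem
  · exact p2_mem

theorem H28_le_range : H28 ≤ rhoC.range := by
  rw [H28, Subgroup.closure_le]
  intro g hg
  rcases hg with rfl | rfl
  · exact MonoidHom.mem_range.2 ⟨_, rho_c1⟩
  · exact MonoidHom.mem_range.2 ⟨_, rho_c2⟩

theorem enc_p1i : PG.enc 28 p1⁻¹ = cp1i := Sp62.enc_inv_of enc_p1 chk_cpinv.1 isCode_p1i
theorem enc_p2i : PG.enc 28 p2⁻¹ = cp2i := Sp62.enc_inv_of enc_p2 chk_cpinv.2 isCode_p2i

/-- the base registers -/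
noncomputable def base28 : List ↥H28 :=
  [⟨p2⁻¹, H28.inv_mem p2_memH⟩, ⟨p2, p2_memH⟩, ⟨p1⁻¹, H28.inv_mem p1_memH⟩, ⟨p1, p1_memH⟩]

theorem base28_ok : PG.RegsOK H28 base28 [cp2i, cp2, cp1i, cp1] :=
  List.Forall₂.cons enc_p2i (List.Forall₂.cons enc_p2 (List.Forall₂.cons enc_p1i
    (List.Forall₂.cons enc_p1 List.Forall₂.nil)))

theorem card_H28_ge : 1451520 ≤ Nat.card H28 := by
  have hchk := chk_chainB
  rw [PG.runK_eq] at hchk
  have := PG.chain_sound Sp62.n_le H28 chainBaseB [] _ hchk (by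
    intro U hU c hc
    rw [List.mem_map] at hU
    obtain ⟨l, -, rfl⟩ := hU
    rw [List.mem_map] at hc
    obtain ⟨i, -, rfl⟩ := hc
    exact ⟨((PG.runM chainProgB base28).getD i 1).1, ((PG.runM chainProgB base28).getD i 1).2,
      (base28_ok.run Sp62.n_le (is := chainProgB)).getD i⟩)
  rw [fixer_nil] at this
  refine le_trans (le_of_eq ?_) this
  rw [List.map_map]
  have e : (List.length ∘ fun l : List ℕ =>
      l.map fun i => (PG.run 28 chainProgB [cp2i, cp2, cp1i, cp1]).getD i (PG.pone 28)) = List.length := by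
    funext l
    simp
  rw [e, chk_prodB]

theorem H28_eq : H28 = Sp62.A :=
  Subgroup.eq_of_le_of_card_ge H28_le_A (by rw [Sp62.card_A]; exact card_H28_ge)

theorem range_rhoC : rhoC.range = Sp62.A := by
  apply le_antisymm
  · rintro _ ⟨g, rfl⟩
    exact rhoC_mem g
  · rw [← H28_eq]
    exact H28_le_range

/-- the homomorphism from the centraliser onto the symplectic group -/
noncomputable def psiC : ↥HC →* Sp62.Sp :=
  Sp62.iso.toMonoidHom.comp (rhoC.codRestrict Sp62.A rhoC_mem)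

theorem psiC_apply (g : ↥HC) : psiC g = Sp62.iso ⟨rhoC g, rhoC_mem g⟩ := rfl

theorem psiC_surj : Function.Surjective psiC := by
  intro M
  obtain ⟨a, ha⟩ := Sp62.iso.surjective M
  have h : a.1 ∈ rhoC.range := by
    rw [range_rhoC]
    exact a.2
  obtain ⟨g, hg⟩ := h
  refine ⟨g, ?_⟩
  rw [psiC_apply, ← ha]
  congr 1
  exact Subtype.ext hg

theorem mem_ker_psiC (g : ↥HC) : g ∈ psiC.ker ↔ rhoC g = 1 := by
  rw [MonoidHom.mem_ker, psiC_apply, MulEquiv.map_eq_one_iff]
  constructor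
  · intro h
    exact congrArg Subtype.val h
  · intro h
    exact Subtype.ext h

theorem card_ker : Nat.card ↥psiC.ker = 512 := by
  have h1 := Subgroup.card_mul_index psiC.ker
  rw [Subgroup.index_ker, MonoidHom.range_eq_top.2 psiC_surj, Subgroup.card_top, Sp62.card_Sp, card_HC] at h1
  exact Nat.eq_of_mul_eq_mul_right (by norm_num : 0 < 1451520) (h1.trans (by norm_num))

/-! ### the kernel -/

/-- the generators of the kernel -/
noncomputable def qe (k : ℕ) : Equiv.Perm (Fin 2300) := dec 2300 (qc k)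

theorem out3_length : out3.length = 8 := rfl

theorem qc_mem (k : ℕ) (hk : k < 8) : qc k ∈ out3 := by
  have hk' : k < out3.length := by rw [out3_length]; exact hk
  rw [qc, List.getD_eq_getElem _ _ hk']
  exact List.getElem_mem hk'

theorem qe_spec (k : ℕ) (hk : k < 8) : qe k ∈ HC ∧ enc 2300 (qe k) = qc k :=
  mem_of_code n_le (out3_ex _ (qc_mem k hk))

theorem acts_q (k : ℕ) (hk : k < 8) : Acts (qe k) (lk (qc k)) := Acts.of_enc n_le (qe_spec k hk).2

theorem commRow_all : ∀ k < 8, commRow k = true := by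
  intro k hk
  interval_cases k
  · exact chk_comm_0
  · exact chk_comm_1
  · exact chk_comm_2
  · exact chk_comm_3
  · exact chk_comm_4
  · exact chk_comm_5
  · exact chk_comm_6
  · exact chk_comm_7

theorem q_comm (k j : ℕ) (hk : k < 8) (hj : j < 8) :
    (eps k j = false → qe k * qe j = qe j * qe k) ∧ (eps k j = true → qe k * qe j = tI * (qe j * qe k)) := by
  have h := commRow_all k hk
  rw [commRow, List.all_eq_true] at h
  have h1 := allB_iff.1 (h j (List.mem_range.2 hj))
  constructor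
  · intro he
    refine ((acts_q k hk).mul (acts_q j hj)).eq ((acts_q j hj).mul (acts_q k hk)) (fun x hx => ?_)
    have h2 := Nat.eq_of_beq_eq_true (h1 x hx)
    rw [he] at h2
    exact h2
  · intro he
    refine ((acts_q k hk).mul (acts_q j hj)).eq (acts_t.mul ((acts_q j hj).mul (acts_q k hk))) (fun x hx => ?_)
    have h2 := Nat.eq_of_beq_eq_true (h1 x hx)
    rw [he] at h2
    exact h2

theorem q_sq (k : ℕ) (hk : k < 8) : qe k * qe k = 1 ∨ qe k * qe k = tI := by
  have h := chk_sq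
  rw [List.all_eq_true] at h
  have h0 : sqRow k = true := h k (List.mem_range.2 hk)
  rw [sqRow] at h0
  have h1 := allB_iff.1 h0
  cases hb : Nat.beq (qSq.getD k 0) 1 with
  | true =>
    right
    refine ((acts_q k hk).mul (acts_q k hk)).eq acts_t (fun x hx => ?_)
    have h2 := Nat.eq_of_beq_eq_true (h1 x hx)
    rw [hb] at h2
    exact h2
  | false =>
    left
    refine ((acts_q k hk).mul (acts_q k hk)).eq_one (fun x hx => ?_)
    have h2 := Nat.eq_of_beq_eq_true (h1 x hx)
    rw [hb] at h2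
    exact h2

theorem q_maps (k : ℕ) (hk : k < 8) : ∀ i : Fin 28, qe k (omF i) = omF ((1 : Equiv.Perm (Fin 28)) i) := by
  have h := chk_actQ
  rw [List.all_eq_true] at h
  exact fixes_of_chk (acts_q k hk) (h _ (qc_mem k hk))

/-- the set of the generators of the kernel -/
def qset : Set (Equiv.Perm (Fin 2300)) := {g | g = tI ∨ ∃ k < 8, g = qe k}

/-- the kernel, as a group of permutations -/
noncomputable abbrev Qp : Subgroup (Equiv.Perm (Fin 2300)) := Subgroup.closure qset

/-- the kernel of the action, as a group of permutations -/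
noncomputable def Kp : Subgroup (Equiv.Perm (Fin 2300)) := psiC.ker.map HC.subtype

theorem card_Kp : Nat.card Kp = 512 := by
  rw [Kp, Subgroup.card_map_of_injective HC.subtype_injective, card_ker]

theorem mem_Kp_of {g : Equiv.Perm (Fin 2300)} (hg : g ∈ HC)
    (h : ∀ i : Fin 28, g (omF i) = omF ((1 : Equiv.Perm (Fin 28)) i)) : g ∈ Kp := by
  rw [Kp, Subgroup.mem_map]
  refine ⟨⟨g, hg⟩, ?_, rfl⟩
  rw [mem_ker_psiC]
  exact rhoC_eq h

theorem Qp_le_Kp : Qp ≤ Kp := by
  rw [Subgroup.closure_le]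
  intro g hg
  rcases hg with rfl | ⟨k, hk, rfl⟩
  · exact mem_Kp_of t_mem t_maps
  · exact mem_Kp_of (qe_spec k hk).1 (q_maps k hk)

theorem t_memQ : tI ∈ Qp := Subgroup.subset_closure (Or.inl rfl)
theorem q_memQ (k : ℕ) (hk : k < 8) : qe k ∈ Qp := Subgroup.subset_closure (Or.inr ⟨k, hk, rfl⟩)

theorem codesQ_ex : ∀ c ∈ codesQ, ∃ g ∈ Qp, enc 2300 g = c := by
  intro c hc
  rw [codesQ, List.mem_cons] at hc
  rcases hc with rfl | h
  · exact ⟨tI, t_memQ, tI_spec.2⟩
  · obtain ⟨k, hk, rfl⟩ := List.mem_iff_getElem.1 h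
    have hk8 : k < 8 := by rw [← out3_length]; exact hk
    refine ⟨qe k, q_memQ k hk8, ?_⟩
    rw [(qe_spec k hk8).2, qc, List.getD_eq_getElem _ _ hk]

theorem card_Qp_ge : 512 ≤ Nat.card Qp := by
  have := tree_sound n_le Qp 16 LsQ [] chk_treeQ (levels_of_codes Qp codesQ LsQ chk_gensQ codesQ_ex)
  rw [fixer_nil, chk_countsQ] at this
  exact this

theorem Qp_eq : Qp = Kp :=
  Subgroup.eq_of_le_of_card_ge Qp_le_Kp (by rw [card_Kp]; exact card_Qp_ge)

theorem card_Qp : Nat.card Qp = 512 := by rw [Qp_eq, card_Kp]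

/-- the kernel of the homomorphism is the group generated by the nine elements -/
noncomputable def kerEquiv : ↥psiC.ker ≃* ↥Qp :=
  (psiC.ker.equivMapOfInjective HC.subtype HC.subtype_injective).trans (MulEquiv.subgroupCongr Qp_eq.symm)

/-! ### the kernel is extraspecial -/

theorem Qp_le_HC : Qp ≤ HC := by
  rw [Subgroup.closure_le]
  intro g hg
  rcases hg with rfl | ⟨k, hk, rfl⟩
  · exact t_mem
  · exact (qe_spec k hk).1

/-- the involution in the kernel -/
noncomputable def zQ : ↥Qp := ⟨tI, t_memQ⟩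

/-- the generators in the kernel -/
noncomputable def qQ (k : Fin 8) : ↥Qp := ⟨qe k.val, q_memQ k.val k.2⟩

theorem qQ_comm (i j : Fin 8) (h : eps i.val j.val = false) : qQ i * qQ j = qQ j * qQ i :=
  Subtype.ext ((q_comm i.val j.val i.2 j.2).1 h)

theorem qQ_ncomm (i j : Fin 8) (h : eps i.val j.val = true) : qQ i * qQ j = zQ * (qQ j * qQ i) :=
  Subtype.ext ((q_comm i.val j.val i.2 j.2).2 h)

theorem zQ_ne : zQ ≠ 1 := fun h => tI_ne (congrArg Subtype.val h)

theorem zQ_sq : zQ * zQ = 1 := Subtype.ext tI_sq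

theorem zQ_cen (x : ↥Qp) : x * zQ = zQ * x := Subtype.ext (comm_t (Qp_le_HC x.2))

theorem qQ_ne (i j : Fin 8) (h : eps i.val j.val = true) : qQ i * qQ j ≠ qQ j * qQ i := by
  intro e
  have h1 := qQ_ncomm i j h
  rw [e] at h1
  exact zQ_ne (mul_right_cancel (a := zQ) (b := qQ j * qQ i) (c := 1) (by rw [one_mul]; exact h1.symm))

/-- the list of pairs of the test -/
def goodB : List (Fin 8 × Fin 8) → Bool
  | [] => true
  | p :: l => (l.all fun r => !(eps p.2.val r.1.val)) && eps p.2.val p.1.val && goodB l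

theorem good_of_goodB : ∀ l : List (Fin 8 × Fin 8), goodB l = true →
    ESGen.Good (l.map fun p => (qQ p.1, qQ p.2))
  | [], _ => trivial
  | p :: l, h => by
    rw [goodB, Bool.and_eq_true, Bool.and_eq_true, List.all_eq_true] at h
    obtain ⟨⟨h1, h2⟩, h3⟩ := h
    rw [List.map_cons, ESGen.Good]
    refine ⟨?_, ?_, good_of_goodB l h3⟩
    · intro r hr
      obtain ⟨r0, hr0, rfl⟩ := List.mem_map.1 hr
      have := h1 r0 hr0
      rw [Bool.not_eq_true'] at this
      exact qQ_comm p.2 r0.1 this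
    · exact qQ_ne p.2 p.1 h2

/-- the pairs -/
def pairsL : List (Fin 8 × Fin 8) := [(0, 1), (1, 0), (2, 3), (3, 2), (4, 5), (5, 4), (6, 7), (7, 6)]

theorem good_pairs : ESGen.Good (pairsL.map fun p => (qQ p.1, qQ p.2)) := good_of_goodB pairsL (by decide)

theorem closure_Sq : Subgroup.closure ((Subtype.val : ↥Qp → Equiv.Perm (Fin 2300)) ⁻¹' qset) = ⊤ :=
  Subgroup.closure_closure_coe_preimage

theorem es_Qp : Cfsg.Agent.Lead.ES2.ES zQ := by
  refine ESGen.es_of_gens zQ ((Subtype.val : ↥Qp → Equiv.Perm (Fin 2300)) ⁻¹' qset) closure_Sq zQ_ne zQ_sq zQ_cen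
    ?_ ?_ (pairsL.map fun p => (qQ p.1, qQ p.2)) good_pairs ?_
  · intro s hs
    rcases hs with h | ⟨k, hk, h⟩
    · left
      apply Subtype.ext
      show s.1 * s.1 = 1
      rw [h]
      exact tI_sq
    · rcases q_sq k hk with h2 | h2
      · left
        apply Subtype.ext
        show s.1 * s.1 = 1
        rw [h]
        exact h2
      · right
        apply Subtype.ext
        show s.1 * s.1 = tI
        rw [h]
        exact h2
  · intro s hs s' hs'
    rcases hs with h | ⟨k, hk, h⟩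
    · left
      have : s = zQ := Subtype.ext h
      rw [this]
      exact (zQ_cen s').symm
    · rcases hs' with h' | ⟨j, hj, h'⟩
      · left
        have : s' = zQ := Subtype.ext h'
        rw [this]
        exact zQ_cen s
      · have e1 : s = qQ ⟨k, hk⟩ := Subtype.ext h
        have e2 : s' = qQ ⟨j, hj⟩ := Subtype.ext h'
        rw [e1, e2]
        cases he : eps k j with
        | false => left; exact qQ_comm ⟨k, hk⟩ ⟨j, hj⟩ he
        | true => right; exact qQ_ncomm ⟨k, hk⟩ ⟨j, hj⟩ he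
  · rw [card_Qp, List.length_map]
    decide

theorem extraspecial_Qp : Cfsg.IsExtraspecial 2 ↥Qp := by
  apply Cfsg.Agent.Lead.ES2.extraspecial_of_ES es_Qp
  intro h
  have h1 := h (qQ 0) (qQ 1)
  rw [commutatorElement_eq_one_iff_commute] at h1
  exact qQ_ne 0 1 (by decide) h1.eq

theorem extraspecial_ker : Cfsg.IsExtraspecial 2 ↥psiC.ker :=
  Cfsg.Agent.Lib.Helper7.isExtraspecial_of_mulEquiv kerEquiv.symm extraspecial_Qp

/-! ### the statement for the second Conway group -/

/-- the involution in `P` -/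
noncomputable def tP : ↥P := ⟨tI, tI_spec.1⟩

theorem orderOf_tP : orderOf tP = 2 := by
  have : Fact (Nat.Prime 2) := ⟨Nat.prime_two⟩
  refine orderOf_eq_prime ?_ ?_
  · rw [pow_two]
    exact Subtype.ext tI_sq
  · intro h
    exact tI_ne (congrArg Subtype.val h)

theorem cent_comm (x : ↥(Subgroup.centralizer ({co2Equiv.symm tP} : Set ↥Cfsg.Spor.Co2))) :
    co2Equiv x.1 * tP = tP * co2Equiv x.1 := by
  have h := x.2
  rw [Subgroup.mem_centralizer_iff] at h
  have h2 := congrArg co2Equiv (h _ rfl)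
  rw [map_mul, map_mul, MulEquiv.apply_symm_apply] at h2
  exact h2.symm

theorem mem_HC_of_comm (g : ↥P) (h : g * tP = tP * g) : g.1 ∈ HC := by
  rw [HC_eq]
  exact Subgroup.mem_inf.2 ⟨g.2, mem_cent (congrArg Subtype.val h)⟩

/-- the homomorphism from the centraliser of the involution of the second Conway group to `HC` -/
noncomputable def centHom :
    ↥(Subgroup.centralizer ({co2Equiv.symm tP} : Set ↥Cfsg.Spor.Co2)) →* ↥HC where
  toFun x := ⟨(co2Equiv x.1).1, mem_HC_of_comm (co2Equiv x.1) (cent_comm x)⟩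
  map_one' := by
    apply Subtype.ext
    show (co2Equiv ((1 : ↥(Subgroup.centralizer ({co2Equiv.symm tP} : Set ↥Cfsg.Spor.Co2))) : ↥Cfsg.Spor.Co2)).1 = 1
    rw [Subgroup.coe_one, map_one, Subgroup.coe_one]
  map_mul' := by
    intro x y
    apply Subtype.ext
    show (co2Equiv ((x * y : ↥(Subgroup.centralizer ({co2Equiv.symm tP} : Set ↥Cfsg.Spor.Co2))) :
      ↥Cfsg.Spor.Co2)).1 = (co2Equiv x.1).1 * (co2Equiv y.1).1
    rw [Subgroup.coe_mul, map_mul, Subgroup.coe_mul]

theorem centHom_bijective : Function.Bijective centHom := by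
  constructor
  · intro x y hxy
    have h0 : (centHom x).1 = (centHom y).1 := congrArg Subtype.val hxy
    have h1 : (co2Equiv x.1).1 = (co2Equiv y.1).1 := h0
    exact Subtype.ext (co2Equiv.injective (Subtype.ext h1))
  · intro g
    have hg : (⟨g.1, HC_le_P g.2⟩ : ↥P) * tP = tP * ⟨g.1, HC_le_P g.2⟩ := Subtype.ext (comm_t g.2)
    refine ⟨⟨co2Equiv.symm ⟨g.1, HC_le_P g.2⟩, ?_⟩, ?_⟩
    · rw [Subgroup.mem_centralizer_iff]
      intro h hh
      rw [Set.mem_singleton_iff] at hh
      subst hh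
      rw [← map_mul, ← map_mul, hg]
    · apply Subtype.ext
      show (co2Equiv (co2Equiv.symm ⟨g.1, HC_le_P g.2⟩)).1 = g.1
      rw [MulEquiv.apply_symm_apply]

/-- the centraliser of the involution of the second Conway group is isomorphic to `HC` -/
noncomputable def centEquiv :
    ↥(Subgroup.centralizer ({co2Equiv.symm tP} : Set ↥Cfsg.Spor.Co2)) ≃* ↥HC :=
  MulEquiv.ofBijective centHom centHom_bijective

/-- **the centraliser of an involution of the second Conway group**: the largest normal 2-subgroup is extraspecial of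
order `2 ^ 9`, with the symplectic group of degree six over the field of two elements as quotient -/
theorem co2_involution : ∃ t : ↥Cfsg.Spor.Co2, orderOf t = 2 ∧
    Cfsg.IsExtraspecial 2 (Cfsg.pCore 2 ↥(Subgroup.centralizer ({t} : Set ↥Cfsg.Spor.Co2))) ∧
    Nat.card (Cfsg.pCore 2 ↥(Subgroup.centralizer ({t} : Set ↥Cfsg.Spor.Co2))) = 2 ^ 9 ∧
    Nonempty (↥(Subgroup.centralizer ({t} : Set ↥Cfsg.Spor.Co2)) ⧸
      Cfsg.pCore 2 ↥(Subgroup.centralizer ({t} : Set ↥Cfsg.Spor.Co2)) ≃* Matrix.symplecticGroup (Fin 3) (ZMod 2)) := by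
  refine ⟨co2Equiv.symm tP, ?_, ?_⟩
  · rw [MulEquiv.orderOf_eq]
    exact orderOf_tP
  · exact CoreQuot.core_quot_of_equiv centEquiv psiC psiC_surj Sp62.eq_bot_of_normal_pGroup 9 extraspecial_ker
      (by rw [card_ker]; norm_num)

end Cfsg.Agent.Lib.Helper8.Co2Cent
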