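import Cfsg.Agent.Lib.Lead.PL.Tree

/-!
# An upper bound for the order of the centraliser of a permutation, from a tight chain of trees

Let `H` have a tight chain of trees.  If `z` fixes a base point `b`, then the orbit of `b` under the centraliser of `z`
in the stabiliser of the earlier base points consists of fixed points of `z`.  If `z` moves `b` and the next base point
is `z b`, then that orbit consists of points moved by `z`, and an element of the centraliser that fixes `b` fixes `z b`
as well, so that the level of `z b` contributes nothing.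
-/

set_option autoImplicit false

namespace Cfsg.Agent.Lib.Helper8.PLCent

open Cfsg.Agent.PL
open Cfsg.Agent.PG (fixer mem_fixer fixer_nil mem_fixer_cons fixer_mono card_le_step)

/-- the number of the points of the tree of a level that pass a test -/
def cnt (n fuel : ℕ) (L : Level) (f : ℕ → Bool) : ℕ := ((orbitL n L.2.1 L.2.2 L.1 fuel).filter f).length

/-- the upper bound for the order of the centraliser; the first argument is the image under `z` of the preceding base
point when that point is moved by `z` -/
def centB (n fuel cz : ℕ) : Option ℕ → List Level → ℕ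
  | _, [] => 1
  | some q, L :: Ls => cond (Nat.beq L.1 q) (centB n fuel cz none Ls) (treeCounts n fuel (L :: Ls)).prod
  | none, L :: Ls =>
    cond (Nat.beq (lk cz L.1) L.1)
      (cnt n fuel L (fun p => Nat.beq (lk cz p) p) * centB n fuel cz none Ls)
      (cnt n fuel L (fun p => !(Nat.beq (lk cz p) p)) * centB n fuel cz (some (lk cz L.1)) Ls)

variable {n : ℕ}

theorem card_filter_le (l : List ℕ) (f : ℕ → Bool) (S : Finset (Fin n))
    (h : ∀ x ∈ S, x.val ∈ l.filter f) : S.card ≤ (l.filter f).length := by
  classical
  refine le_trans ?_ (List.toFinset_card_le (l.filter f))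
  apply Finset.card_le_card_of_injOn (fun x : Fin n => x.val)
  · intro x hx
    rw [Finset.mem_coe, List.mem_toFinset]
    exact h x hx
  · intro x _ y _ hxy
    exact Fin.ext hxy

theorem comm_of_mem {H : Subgroup (Equiv.Perm (Fin n))} {z g : Equiv.Perm (Fin n)} {fixed : List ℕ}
    (hg : g ∈ fixer (H ⊓ Subgroup.centralizer {z}) fixed) : g * z = z * g := by
  have hcz : g ∈ Subgroup.centralizer ({z} : Set (Equiv.Perm (Fin n))) := hg.1.2
  exact (Subgroup.mem_centralizer_iff.1 hcz z rfl).symm

/-- **The order of the centraliser of `z` in `H` is at most the bound.** -/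
theorem card_cent_le (hn : n ≤ 4096) (H : Subgroup (Equiv.Perm (Fin n))) (z : Equiv.Perm (Fin n)) (fuel : ℕ) :
    ∀ (Ls : List Level) (pend : Option ℕ) (fixed : List ℕ), treeOK n fixed Ls = true →
      (∀ L ∈ Ls, ∀ c ∈ L.2.1, ∃ g ∈ H, enc n g = c) →
      Nat.card (fixer H fixed) ≤ (treeCounts n fuel Ls).prod →
      (∀ q, pend = some q → ∀ g ∈ fixer (H ⊓ Subgroup.centralizer {z}) fixed, ∀ hq : q < n,
        g ⟨q, hq⟩ = ⟨q, hq⟩) →
      Nat.card (fixer (H ⊓ Subgroup.centralizer {z}) fixed) ≤ centB n fuel (enc n z) pend Ls := by
  have hfall : ∀ (fixed : List ℕ) (N : ℕ), Nat.card (fixer H fixed) ≤ N →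
      Nat.card (fixer (H ⊓ Subgroup.centralizer {z}) fixed) ≤ N := by
    intro fixed N hN
    have hfin : Finite ↥(fixer H fixed) := Nat.finite_of_card_ne_zero (Nat.card_pos.ne')
    exact le_trans (Subgroup.card_le_of_le (fixer_mono inf_le_left fixed)) hN
  intro Ls
  induction Ls with
  | nil =>
    intro pend fixed _ _ ht _
    have e : centB n fuel (enc n z) pend [] = 1 := by cases pend <;> rfl
    rw [e]
    rw [treeCounts, List.map_nil, List.prod_nil] at ht
    exact hfall fixed 1 ht
  | cons L Ls ih =>
    intro pend fixed hok hc ht hpend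
    obtain ⟨hb, -, horb, hcard⟩ := level_step hn H fuel fixed L Ls hok hc ht
    obtain ⟨-, -, hrest⟩ := treeOK_cons hok
    have hc' : ∀ L' ∈ Ls, ∀ c ∈ L'.2.1, ∃ g ∈ H, enc n g = c :=
      fun L' hL' => hc L' (List.mem_cons_of_mem _ hL')
    cases pend with
    | some q =>
      rw [centB]
      cases hq : Nat.beq L.1 q with
      | false =>
        rw [cond_false]
        exact hfall fixed _ ht
      | true =>
        rw [cond_true]
        have hLq : L.1 = q := Nat.eq_of_beq_eq_true hq
        have heq : fixer (H ⊓ Subgroup.centralizer {z}) fixed =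
            fixer (H ⊓ Subgroup.centralizer {z}) (L.1 :: fixed) := by
          ext g
          rw [mem_fixer_cons hb]
          constructor
          · intro hg
            refine ⟨hg, ?_⟩
            have := hpend q rfl g hg (by rw [← hLq]; exact hb)
            subst hLq
            exact this
          · intro hg
            exact hg.1
        rw [heq]
        exact ih none (L.1 :: fixed) hrest hc' hcard (fun q' hq' => absurd hq' (by simp))
    | none =>
      rw [centB]
      classical
      cases hzb : Nat.beq (lk (enc n z) L.1) L.1 with
      | true =>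
        rw [cond_true]
        have hzb' : z ⟨L.1, hb⟩ = ⟨L.1, hb⟩ := by
          apply Fin.ext
          rw [← lk_enc_fin hn]
          exact Nat.eq_of_beq_eq_true hzb
        let S : Finset (Fin n) := Finset.univ.filter fun x : Fin n =>
          x.val ∈ (orbitL n L.2.1 L.2.2 L.1 fuel).filter fun p => Nat.beq (lk (enc n z) p) p
        have hS : S.card ≤ cnt n fuel L (fun p => Nat.beq (lk (enc n z) p) p) :=
          card_filter_le _ _ S fun x hx => (Finset.mem_filter.1 hx).2
        obtain ⟨B', hB', hcd⟩ := card_le_step (A := Equiv.Perm (Fin n)) (X := Fin n)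
          (fixer (H ⊓ Subgroup.centralizer {z}) fixed) ⟨L.1, hb⟩ S (by
            intro g hg
            have hgH : g ∈ fixer H fixed := fixer_mono inf_le_left fixed hg
            have hgz := comm_of_mem hg
            show g ⟨L.1, hb⟩ ∈ S
            rw [Finset.mem_filter, List.mem_filter]
            refine ⟨Finset.mem_univ _, horb g hgH, ?_⟩
            have hfixz : z (g ⟨L.1, hb⟩) = g ⟨L.1, hb⟩ := by
              have := congrArg (fun p : Equiv.Perm (Fin n) => p ⟨L.1, hb⟩) hgz
              simp only [Equiv.Perm.mul_apply] at this
              rw [hzb'] at this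
              exact this.symm
            rw [lk_enc_fin hn, hfixz]
            exact Nat.beq_refl _)
        have hB'eq : B' = fixer (H ⊓ Subgroup.centralizer {z}) (L.1 :: fixed) := by
          ext g
          rw [hB', mem_fixer_cons hb]
          exact Iff.rfl
        rw [hB'eq] at hcd
        have ih' := ih none (L.1 :: fixed) hrest hc' hcard (fun q' hq' => absurd hq' (by simp))
        exact le_trans hcd (Nat.mul_le_mul hS ih')
      | false =>
        rw [cond_false]
        have hzb' : z ⟨L.1, hb⟩ ≠ ⟨L.1, hb⟩ := by
          intro h
          have h1 : lk (enc n z) L.1 = L.1 := by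
            have := lk_enc_fin hn z ⟨L.1, hb⟩
            rw [h] at this
            exact this
          rw [h1, Nat.beq_refl] at hzb
          exact absurd hzb (by simp)
        let S : Finset (Fin n) := Finset.univ.filter fun x : Fin n =>
          x.val ∈ (orbitL n L.2.1 L.2.2 L.1 fuel).filter fun p => !(Nat.beq (lk (enc n z) p) p)
        have hS : S.card ≤ cnt n fuel L (fun p => !(Nat.beq (lk (enc n z) p) p)) :=
          card_filter_le _ _ S fun x hx => (Finset.mem_filter.1 hx).2
        obtain ⟨B', hB', hcd⟩ := card_le_step (A := Equiv.Perm (Fin n)) (X := Fin n)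
          (fixer (H ⊓ Subgroup.centralizer {z}) fixed) ⟨L.1, hb⟩ S (by
            intro g hg
            have hgH : g ∈ fixer H fixed := fixer_mono inf_le_left fixed hg
            have hgz := comm_of_mem hg
            show g ⟨L.1, hb⟩ ∈ S
            rw [Finset.mem_filter, List.mem_filter]
            refine ⟨Finset.mem_univ _, horb g hgH, ?_⟩
            have hmov : z (g ⟨L.1, hb⟩) ≠ g ⟨L.1, hb⟩ := by
              intro h
              have := congrArg (fun p : Equiv.Perm (Fin n) => p ⟨L.1, hb⟩) hgz
              simp only [Equiv.Perm.mul_apply] at this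
              rw [h] at this
              exact hzb' (g.injective this)
            rw [lk_enc_fin hn]
            cases hbq : Nat.beq ((z (g ⟨L.1, hb⟩) : Fin n) : ℕ) ((g ⟨L.1, hb⟩ : Fin n) : ℕ) with
            | false => rfl
            | true => exact absurd (Fin.ext (Nat.eq_of_beq_eq_true hbq)) hmov)
        have hB'eq : B' = fixer (H ⊓ Subgroup.centralizer {z}) (L.1 :: fixed) := by
          ext g
          rw [hB', mem_fixer_cons hb]
          exact Iff.rfl
        rw [hB'eq] at hcd
        have ih' := ih (some (lk (enc n z) L.1)) (L.1 :: fixed) hrest hc' hcard (by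
          intro q hq g hg hqn
          have hq' : lk (enc n z) L.1 = q := Option.some.inj hq
          have hgz := comm_of_mem hg
          have hgb : g ⟨L.1, hb⟩ = ⟨L.1, hb⟩ := ((mem_fixer_cons hb g).1 hg).2
          have e : (⟨q, hqn⟩ : Fin n) = z ⟨L.1, hb⟩ := by
            apply Fin.ext
            rw [← lk_enc_fin hn]
            exact hq'.symm
          rw [e, ← Equiv.Perm.mul_apply, hgz, Equiv.Perm.mul_apply, hgb])
        exact le_trans hcd (Nat.mul_le_mul hS ih')

end Cfsg.Agent.Lib.Helper8.PLCent
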