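import Cfsg.Agent.Lib.Helper8.Co2CentData
import Cfsg.Agent.Lib.Helper8.PLCent
import Cfsg.Agent.Lib.Helper8.Sp62

/-!
# The centraliser of an involution of the second Conway group: kernel checks
-/

set_option autoImplicit false
set_option maxRecDepth 100000

namespace Cfsg.Agent.Lib.Helper8.Co2Cent

open Cfsg.Agent.Co2P Cfsg.Agent.PL
open Cfsg.Agent.PG (allB)
open Matrix

/-! ### the straight line programs -/

/-- the registers of the first program -/
def regs1 : List ℕ := [sgB_4_2, sgA_1_1, sgA_1_0, cbi, cb, cai, ca]

/-- the registers of the second program -/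
def regs2 : List ℕ := [ct, cc2, cc1]

/-- the registers of the third program -/
def regs3 : List ℕ := [cg12, cg21, ce1, ce2, ce3, ck1, ck2, cm1, cm2, ct, cc2, cc1]

theorem chk_prog1 : runK 2300 prog1 regs1 (fun r => idx1.map fun i => r.getD i (pone 2300)) = [ct, cc1, cc2] := by
  decide +kernel

theorem chk_prog2 : runK 2300 prog2 regs2 (fun r => idx2.map fun i => r.getD i (pone 2300)) = out2 := by
  decide +kernel

theorem chk_prog3 : runK 2300 prog3 regs3 (fun r => idx3.map fun i => r.getD i (pone 2300)) = out3 := by
  decide +kernel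

/-! ### the involution and its centraliser -/

theorem chk_t : allB 2300 (fun q => Nat.beq (lk ct (lk ct q)) q) = true ∧ lk ct 0 ≠ 0 := by decide +kernel

theorem chk_comm1 : allB 2300 (fun q => Nat.beq (lk cc1 (lk ct q)) (lk ct (lk cc1 q))) = true := by decide +kernel

theorem chk_comm2 : allB 2300 (fun q => Nat.beq (lk cc2 (lk ct q)) (lk ct (lk cc2 q))) = true := by decide +kernel

/-- the codes of the generators in the chain of `P` -/
def codesP : List ℕ := codesA ++ [ck1, ck2, cm1, cm2]

/-- the codes of the generators in the chain of the centraliser -/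
def codesH : List ℕ := [cc1, cc2, ct] ++ out2

/-- the codes of the generators in the chain of the normal 2-subgroup -/
def codesQ : List ℕ := ct :: out3

theorem chk_gensP : (LsP.all fun L => L.2.1.all fun c => codesP.contains c) = true := by decide +kernel

theorem chk_gensH : (LsH.all fun L => L.2.1.all fun c => codesH.contains c) = true := by decide +kernel

theorem chk_gensQ : (LsQ.all fun L => L.2.1.all fun c => codesQ.contains c) = true := by decide +kernel

theorem chk_treeP : treeOK 2300 [] LsP = true := by decide +kernel

theorem chk_treeH : treeOK 2300 [] LsH = true := by decide +kernel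

theorem chk_treeQ : treeOK 2300 [] LsQ = true := by decide +kernel

theorem chk_countsP : (treeCounts 2300 16 LsP).prod = 42305421312000 := by decide +kernel

theorem chk_countsH : (treeCounts 2300 16 LsH).prod = 743178240 := by decide +kernel

theorem chk_countsQ : (treeCounts 2300 16 LsQ).prod = 512 := by decide +kernel

theorem chk_centB : PLCent.centB 2300 16 ct none LsP = 743178240 := by decide +kernel

/-! ### the action on the 28 points -/

/-- the `i`-th of the 28 points -/
def om (i : ℕ) : ℕ := omega.getD i 0

theorem chk_om_lt : ∀ i : Fin 28, om i.val < 2300 := by decide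

theorem chk_om_inj : ∀ i j : Fin 28, om i.val = om j.val → i = j := by decide

theorem chk_act1 : ((List.range 28).all fun i => Nat.beq (lk cc1 (om i)) (om (PG.lk cp1 i))) = true := by
  decide +kernel

theorem chk_act2 : ((List.range 28).all fun i => Nat.beq (lk cc2 (om i)) (om (PG.lk cp2 i))) = true := by
  decide +kernel

theorem chk_actT : ((List.range 28).all fun i => Nat.beq (lk ct (om i)) (om i)) = true := by decide +kernel

theorem chk_actQ : (out3.all fun c => (List.range 28).all fun i => Nat.beq (lk c (om i)) (om i)) = true := by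
  decide +kernel

theorem chk_cp : PG.codeOK 28 cp1 cp1i = true ∧ PG.codeOK 28 cp2 cp2i = true ∧ PG.codeOK 28 cp1i cp1 = true ∧
    PG.codeOK 28 cp2i cp2 = true := by decide +kernel

theorem chk_cpinv : PG.pmul 28 cp1 cp1i = PG.pone 28 ∧ PG.pmul 28 cp2 cp2i = PG.pone 28 := by decide +kernel

theorem chk_sp : Sp62.matOf colsC1 ∈ Matrix.symplecticGroup (Fin 3) (ZMod 2) ∧
    Sp62.matOf colsC2 ∈ Matrix.symplecticGroup (Fin 3) (ZMod 2) := by
  rw [SymplecticGroup.mem_iff, SymplecticGroup.mem_iff]
  decide

theorem chk_aff : (∀ i : Fin 28, Sp62.vec (Sp62.av (PG.lk cp1 i.val) ^^^ Sp62.av (PG.lk cp1 0)) =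
      Sp62.matOf colsC1 *ᵥ Sp62.vec (Sp62.av i.val ^^^ Sp62.av (0 : Fin 28).val)) ∧
    (∀ i : Fin 28, Sp62.vec (Sp62.av (PG.lk cp2 i.val) ^^^ Sp62.av (PG.lk cp2 0)) =
      Sp62.matOf colsC2 *ᵥ Sp62.vec (Sp62.av i.val ^^^ Sp62.av (0 : Fin 28).val)) := by
  decide

theorem chk_chainB : PG.runK 28 chainProgB [cp2i, cp2, cp1i, cp1] (fun r =>
    PG.chainOK 28 [] chainBaseB (chainIdxB.map fun l => l.map fun i => r.getD i (PG.pone 28))) = true := by
  decide +kernel

theorem chk_prodB : (chainIdxB.map List.length).prod = 1451520 := by decide +kernel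

/-! ### the relations of the normal 2-subgroup -/

/-- the code of the `k`-th generator -/
def qc (k : ℕ) : ℕ := out3.getD k 0

/-- the commutator of the `i`-th and the `j`-th generator is the involution -/
def eps (i j : ℕ) : Bool := !(Nat.beq i j) && Nat.beq (i / 2) (j / 2)

/-- the commutators of the `k`-th generator -/
def commRow (k : ℕ) : Bool :=
  (List.range 8).all fun j => allB 2300 fun x =>
    Nat.beq (lk (qc k) (lk (qc j) x)) (cond (eps k j) (lk ct (lk (qc j) (lk (qc k) x))) (lk (qc j) (lk (qc k) x)))

theorem chk_comm_0 : commRow 0 = true := by decide +kernel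
theorem chk_comm_1 : commRow 1 = true := by decide +kernel
theorem chk_comm_2 : commRow 2 = true := by decide +kernel
theorem chk_comm_3 : commRow 3 = true := by decide +kernel
theorem chk_comm_4 : commRow 4 = true := by decide +kernel
theorem chk_comm_5 : commRow 5 = true := by decide +kernel
theorem chk_comm_6 : commRow 6 = true := by decide +kernel
theorem chk_comm_7 : commRow 7 = true := by decide +kernel

/-- the square of the `k`-th generator -/
def sqRow (k : ℕ) : Bool :=
  allB 2300 fun x => Nat.beq (lk (qc k) (lk (qc k) x)) (cond (Nat.beq (qSq.getD k 0) 1) (lk ct x) x)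

theorem chk_sq : ((List.range 8).all fun k => sqRow k) = true := by decide +kernel

end Cfsg.Agent.Lib.Helper8.Co2Cent
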