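import Cfsg.Agent.Lib.Helper8.Co2MultAD
import Cfsg.Agent.Lib.Helper8.Co2MultEnd
import Cfsg.Agent.Lib.Helper8.Sp62Simple
import Cfsg.Agent.Lib.Lead.StemQ.Basic

/-!
# The Schur multiplier of the second Conway group has no odd part

Let `σ : E → P` be a finite stem extension whose kernel has odd prime order `p`.  The involutions of the first class have
unique involutions above them; by the coset certificate A the lifts of four involutions of the centraliser `HC` of the
base involution generate a subgroup `S` of index at most `56925 = |P : HC|`, so `S` maps onto `HC` and contains the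
kernel.  The group `S` is generated by involutions and maps onto `Sp₆(2)` with a kernel of order `2 ^ 9 p`; this gives a
stem extension of `Sp₆(2)` with a kernel of order `p`, which does not exist.
-/

set_option autoImplicit false

namespace Cfsg.Agent.Lib.Helper8.Co2Mult

open Cfsg Cfsg.Agent.PL Cfsg.Agent.Co2P Cfsg.Agent.Lib.Helper8.CanonLift
open Cfsg.Agent.Lib.Helper5.J3Mult (FCert palW Tq Cz seg)
open Cfsg.Agent.Lib.Helper8 (Co2Cent.HC Co2Cent.tI Co2Cent.psiC)

/-- the centraliser of the base involution as a subgroup of `P` -/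
noncomputable def HCP : Subgroup ↥P := Co2Cent.HC.subgroupOf P

theorem card_HCP : Nat.card ↥HCP = 743178240 := by
  rw [HCP, Nat.card_congr (Subgroup.subgroupOfEquivOfLe Co2Cent.HC_le_P).toEquiv, Co2Cent.card_HC]

theorem card_P_eq : Nat.card ↥P = 56925 * Nat.card ↥HCP := by
  rw [card_HCP, card_P]

theorem tG_mem_HCP (i : ℕ) (hi : i < 4) : SA.tG i ∈ HCP := by
  show (SA.tG i).1 ∈ Co2Cent.HC
  rw [Co2Cent.HC_eq]
  refine Subgroup.mem_inf.2 ⟨(SA.tG i).2, Co2Cent.mem_cent ?_⟩
  have hact : Acts (SA.tG i).1 (lk (gcA i)) := Acts.of_enc n_le (enc_el (SA.good_gc i))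
  have hchk := List.all_eq_true.1 chk_commA i (by
    simp only [List.mem_cons, List.not_mem_nil, or_false]
    omega)
  exact (hact.mul Co2Cent.acts_t).eq (Co2Cent.acts_t.mul hact) (of_allB hchk)

theorem perfect_Sp : commutator Sp62.Sp = ⊤ := by
  have : IsSimpleGroup Sp62.Sp := Sp62.simple_Sp
  rcases (Subgroup.commutator_normal (⊤ : Subgroup Sp62.Sp) ⊤).eq_bot_or_eq_top with h | h
  · exfalso
    rw [← commutator_def, commutator_eq_bot_iff_center_eq_top, Sp62.center_eq_bot] at h
    have h1 := congrArg (fun K : Subgroup Sp62.Sp => Nat.card K) h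
    simp only [Subgroup.card_bot, Subgroup.card_top, Sp62.card_Sp] at h1
    omega
  · rw [commutator_def]
    exact h

/-- a group generated by elements of square one is generated by its elements of square one -/
theorem closure_sq_eq_top {E : Type*} [Group E] (k : Set E) (hk : ∀ x ∈ k, x * x = 1) :
    Subgroup.closure {s : ↥(Subgroup.closure k) | s ^ 2 = 1} = ⊤ := by
  rw [eq_top_iff, ← Subgroup.closure_closure_coe_preimage (k := k)]
  apply Subgroup.closure_mono
  intro x hx
  show x ^ 2 = 1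
  apply Subtype.ext
  rw [Subgroup.coe_pow, pow_two]
  exact hk x.1 hx

/-- **no finite stem extension of `P` has a kernel of odd prime order**, if the symplectic group `Sp₆(2)` has no such
stem extension -/
theorem no_odd_stem (hSp : ∀ (Γ : Type) [Group Γ] [Finite Γ] (τ : Γ →* Sp62.Sp), IsStemExtension τ →
      Nat.card τ.ker ≤ 2)
    {E : Type} [Group E] [Finite E] (σ : E →* ↥P) (hσ : IsStemExtension σ) (p : ℕ) (hp : p.Prime) (hp2 : p ≠ 2)
    (hker : Nat.card σ.ker = p) : False := by
  obtain ⟨hsurj, hcen, hder⟩ := hσ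
  have hodd : Odd (Nat.card σ.ker) := by rw [hker]; exact hp.odd_of_ne_two hp2
  obtain ⟨Λ⟩ := exists_lifts_odd (t0 := SA.tz) hsurj hcen hodd SA.tz_sq
  obtain ⟨_, hle⟩ := boundA Λ hcen hder
  set γ := SA.γL Λ with hγ
  set S := seg γ 4 with hS
  have hSH : S.map σ ≤ HCP := by
    rw [Subgroup.map_le_iff_le_comap, hS, seg, Subgroup.closure_le]
    rintro _ ⟨i, hi, rfl⟩
    show σ (γ i) ∈ HCP
    rw [hγ, SA.map_γL]
    exact tG_mem_HCP i hi
  obtain ⟨hmap, hkerS⟩ := image_eq_and_ker_le σ hsurj S HCP hSH 56925 (by norm_num) hle card_P_eq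
  set τ := restr σ S HCP hmap with hτ
  have hτs : Function.Surjective τ := restr_surjective σ S HCP hmap
  let ι : ↥HCP ≃* ↥Co2Cent.HC := Subgroup.subgroupOfEquivOfLe Co2Cent.HC_le_P
  let π : ↥S →* Sp62.Sp := Co2Cent.psiC.comp (ι.toMonoidHom.comp τ)
  have hπ : Function.Surjective π := Co2Cent.psiC_surj.comp (ι.surjective.comp hτs)
  have hZc : τ.ker ≤ Subgroup.center ↥S := ker_restr_le_center σ S HCP hmap hcen
  have hZk : τ.ker ≤ π.ker := by
    intro x hx
    rw [MonoidHom.mem_ker] at hx ⊢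
    show Co2Cent.psiC (ι (τ x)) = 1
    rw [hx, map_one, map_one]
  have hZ : Nat.card τ.ker = p := by rw [hτ, card_ker_restr σ S HCP hmap hkerS, hker]
  have hScard : Nat.card ↥S = 743178240 * p := by rw [card_of_surj τ hτs, card_HCP, hZ]
  have hkerπ : Nat.card π.ker = 2 ^ 9 * p := by
    have h := card_of_surj π hπ
    rw [hScard, Sp62.card_Sp] at h
    omega
  have hgen : Subgroup.closure {s : ↥S | s ^ 2 = 1} = ⊤ :=
    closure_sq_eq_top (γ '' Set.Iio 4) (by
      rintro _ ⟨i, _, rfl⟩
      exact SA.γL_sq Λ i)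
  obtain ⟨Γ, _, _, σ', hσ', hk'⟩ := Cfsg.Agent.Lib.Lead.StemQ.exists_stem π τ.ker hZc hZk p 9 hp hp2 hZ hkerπ hπ
    perfect_Sp hgen
  have h2 := hSp Γ σ' hσ'
  rw [hk'] at h2
  have := hp.two_le
  omega

end Cfsg.Agent.Lib.Helper8.Co2Mult
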