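import Cfsg.Agent.Lib.Helper8.Co2MultZChk
import Cfsg.Agent.Lib.Helper8.Co2Cent
import Cfsg.Agent.Lib.Helper5.J3MultB

/-!
# The centraliser of an involution of the second class of the second Conway group is perfect

In the group `P` on 2300 points the involution `zI = (ab)^4` fixes 140 points; its centraliser `HZ` has order
`41287680`, and it is perfect: its three generators are products of commutators of elements of `HZ`.
-/

set_option autoImplicit false

namespace Cfsg.Agent.Lib.Helper8.Co2MultZ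

open Cfsg Cfsg.Agent.Co2P Cfsg.Agent.PL
open Cfsg.Agent.PG (fixer fixer_nil allB allB_iff)
open Cfsg.Agent.Lib.Helper8.Co2Cent (run_ex regs_exist mem_of_getD mem_cent)
open Cfsg.Agent.Lib.Helper5.J3Mult (Cz)
open scoped commutatorElement

/-! ### the involution and two elements of its centraliser -/

theorem regsZ1_ex : ∀ c ∈ regsZ1, ∃ g ∈ P, enc 2300 g = c := by
  intro c hc
  rw [regsZ1] at hc
  simp only [List.mem_cons, List.not_mem_nil, or_false] at hc
  rcases hc with rfl | rfl | rfl | rfl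
  · exact ⟨gB⁻¹, P.inv_mem gB_mem, enc_gBi⟩
  · exact ⟨gB, gB_mem, enc_gB⟩
  · exact ⟨gA⁻¹, P.inv_mem gA_mem, enc_gAi⟩
  · exact ⟨gA, gA_mem, enc_gA⟩

theorem zcc_ex : ∀ c ∈ [czB, zc1, zc2], ∃ g ∈ P, enc 2300 g = c := run_ex P regsZ1_ex progZ1 idxZ1 _ chk_progZ1

/-- the involution -/
noncomputable def zI : Equiv.Perm (Fin 2300) := dec 2300 czB
/-- the first element of the centraliser -/
noncomputable def zI1 : Equiv.Perm (Fin 2300) := dec 2300 zc1
/-- the second element of the centraliser -/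
noncomputable def zI2 : Equiv.Perm (Fin 2300) := dec 2300 zc2

theorem zI_spec : zI ∈ P ∧ enc 2300 zI = czB := mem_of_code n_le (zcc_ex czB List.mem_cons_self)
theorem zI1_spec : zI1 ∈ P ∧ enc 2300 zI1 = zc1 :=
  mem_of_code n_le (zcc_ex zc1 (List.mem_cons_of_mem _ List.mem_cons_self))
theorem zI2_spec : zI2 ∈ P ∧ enc 2300 zI2 = zc2 :=
  mem_of_code n_le (zcc_ex zc2 (List.mem_cons_of_mem _ (List.mem_cons_of_mem _ List.mem_cons_self)))

theorem acts_z : Acts zI (lk czB) := Acts.of_enc n_le zI_spec.2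
theorem acts_z1 : Acts zI1 (lk zc1) := Acts.of_enc n_le zI1_spec.2
theorem acts_z2 : Acts zI2 (lk zc2) := Acts.of_enc n_le zI2_spec.2

theorem zI_sq : zI * zI = 1 := (acts_z.mul acts_z).eq_one (of_allB chk_z.1)
theorem zI_ne : zI ≠ 1 := acts_z.ne_one (q := 0) (by norm_num) chk_z.2
theorem z1z : zI1 * zI = zI * zI1 := (acts_z1.mul acts_z).eq (acts_z.mul acts_z1) (of_allB chk_commZ1)
theorem z2z : zI2 * zI = zI * zI2 := (acts_z2.mul acts_z).eq (acts_z.mul acts_z2) (of_allB chk_commZ2)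

/-- the centraliser of the involution -/
noncomputable def HZ : Subgroup (Equiv.Perm (Fin 2300)) := Subgroup.closure {zI1, zI2, zI}

theorem z1_mem : zI1 ∈ HZ := Subgroup.subset_closure (Set.mem_insert _ _)
theorem z2_mem : zI2 ∈ HZ := Subgroup.subset_closure (Set.mem_insert_of_mem _ (Set.mem_insert _ _))
theorem z_mem : zI ∈ HZ :=
  Subgroup.subset_closure (Set.mem_insert_of_mem _ (Set.mem_insert_of_mem _ rfl))

theorem mem_centZ {g : Equiv.Perm (Fin 2300)} (h : g * zI = zI * g) :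
    g ∈ Subgroup.centralizer ({zI} : Set (Equiv.Perm (Fin 2300))) := by
  rw [Subgroup.mem_centralizer_iff]
  intro k hk
  rw [Set.mem_singleton_iff] at hk
  subst hk
  exact h.symm

theorem HZ_le : HZ ≤ P ⊓ Subgroup.centralizer {zI} := by
  rw [HZ, Subgroup.closure_le]
  intro g hg
  rcases hg with rfl | rfl | rfl
  · exact Subgroup.mem_inf.2 ⟨zI1_spec.1, mem_centZ z1z⟩
  · exact Subgroup.mem_inf.2 ⟨zI2_spec.1, mem_centZ z2z⟩
  · exact Subgroup.mem_inf.2 ⟨zI_spec.1, mem_centZ rfl⟩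

theorem HZ_le_P : HZ ≤ P := fun _ hg => (Subgroup.mem_inf.1 (HZ_le hg)).1

theorem comm_z {g : Equiv.Perm (Fin 2300)} (hg : g ∈ HZ) : g * zI = zI * g := by
  have h := (Subgroup.mem_inf.1 (HZ_le hg)).2
  rw [Subgroup.mem_centralizer_iff] at h
  exact (h zI rfl).symm

theorem regsZ2_ex : ∀ c ∈ regsZ2, ∃ g ∈ HZ, enc 2300 g = c := by
  intro c hc
  rw [regsZ2] at hc
  simp only [List.mem_cons, List.not_mem_nil, or_false] at hc
  rcases hc with rfl | rfl | rfl
  · exact ⟨zI, z_mem, zI_spec.2⟩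
  · exact ⟨zI2, z2_mem, zI2_spec.2⟩
  · exact ⟨zI1, z1_mem, zI1_spec.2⟩

theorem outZ2_ex : ∀ c ∈ outZ2, ∃ g ∈ HZ, enc 2300 g = c := run_ex HZ regsZ2_ex progZ2 idxZ2 _ chk_progZ2

theorem codesZH_ex : ∀ c ∈ codesZH, ∃ g ∈ HZ, enc 2300 g = c := by
  intro c hc
  rw [codesZH, List.mem_append] at hc
  rcases hc with h | h
  · exact regsZ2_ex c h
  · exact outZ2_ex c h

theorem card_HZ_ge : 41287680 ≤ Nat.card HZ := by
  have := tree_sound n_le HZ 20 LsZH [] chk_treeZH (levels_of_codes HZ codesZH LsZH chk_gensZH codesZH_ex)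
  rw [fixer_nil, chk_countsZH] at this
  exact this

theorem outZ3_ex : ∀ c ∈ outZ3, ∃ g ∈ P, enc 2300 g = c := run_ex P regsZ1_ex progZ3 idxZ3 _ chk_progZ3

theorem codesZP_ex : ∀ c ∈ codesZP, ∃ g ∈ P, enc 2300 g = c := by
  intro c hc
  rw [codesZP, List.mem_append] at hc
  rcases hc with h | h
  · exact regsZ1_ex c h
  · exact outZ3_ex c h

theorem card_centZ_le : Nat.card ↥(P ⊓ Subgroup.centralizer {zI}) ≤ 41287680 := by
  have h := PLCent.card_cent_le n_le P zI 20 LsZP none [] chk_treeZP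
    (levels_of_codes P codesZP LsZP chk_gensZP codesZP_ex)
    (by rw [fixer_nil, card_P, chk_countsZP]) (by intro q hq; cases hq)
  rw [fixer_nil, zI_spec.2, chk_centZB] at h
  exact h

/-- the group `HZ` is the centraliser of the involution in `P` -/
theorem HZ_eq : HZ = P ⊓ Subgroup.centralizer {zI} :=
  Subgroup.eq_of_le_of_card_ge HZ_le (le_trans card_centZ_le card_HZ_ge)

theorem card_HZ : Nat.card HZ = 41287680 :=
  le_antisymm (le_trans (Subgroup.card_le_of_le HZ_le) card_centZ_le) card_HZ_ge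

/-! ### the base -/

/-- the stabiliser of all the base points of a tight chain of trees is trivial -/
theorem fixer_le_one {n : ℕ} (hn : n ≤ 4096) (H : Subgroup (Equiv.Perm (Fin n))) (fuel : ℕ) :
    ∀ (Ls : List Level) (fixed : List ℕ), treeOK n fixed Ls = true →
      (∀ L ∈ Ls, ∀ c ∈ L.2.1, ∃ g ∈ H, enc n g = c) →
      Nat.card (fixer H fixed) ≤ (treeCounts n fuel Ls).prod →
      Nat.card (fixer H (Ls.foldl (fun f L => L.1 :: f) fixed)) ≤ 1 := by
  intro Ls
  induction Ls with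
  | nil =>
    intro fixed _ _ h
    simpa [treeCounts] using h
  | cons L Ls ih =>
    intro fixed hok hc ht
    obtain ⟨_, _, _, hcard⟩ := level_step hn H fuel fixed L Ls hok hc ht
    rw [List.foldl_cons]
    exact ih (L.1 :: fixed) (treeOK_cons hok).2.2 (fun L' hL' => hc L' (List.mem_cons_of_mem _ hL')) hcard

/-- the base of the group `P` -/
def baseZ : List ℕ := [25, 19, 37, 325, 0, 66, 7]

theorem card_fixer_baseZ : Nat.card (fixer P baseZ) ≤ 1 :=
  fixer_le_one n_le P 20 LsZP [] chk_treeZP (levels_of_codes P codesZP LsZP chk_gensZP codesZP_ex)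
    (by rw [fixer_nil, card_P, chk_countsZP])

/-- **an element of `P` that fixes the seven points of the base is trivial** -/
theorem baseZ_ok (g : ↥P) (h : ∀ q ∈ baseZ, ∀ hq : q < 2300, g.1 ⟨q, hq⟩ = ⟨q, hq⟩) : g = 1 := by
  have hmem : g.1 ∈ fixer P baseZ := ⟨g.2, h⟩
  have hbot : fixer P baseZ = ⊥ := Subgroup.eq_bot_of_card_le _ card_fixer_baseZ
  rw [hbot, Subgroup.mem_bot] at hmem
  exact Subtype.ext hmem

/-! ### the centraliser is perfect -/

/-- the image in the permutations of the commutator subgroup of `HZ` -/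
noncomputable def DZ : Subgroup (Equiv.Perm (Fin 2300)) := (commutator ↥HZ).map HZ.subtype

theorem commC_ex {x y : ℕ} (hx : ∃ g ∈ HZ, enc 2300 g = x) (hy : ∃ g ∈ HZ, enc 2300 g = y) :
    ∃ g ∈ DZ, enc 2300 g = commC x y := by
  obtain ⟨g, hg, rfl⟩ := hx
  obtain ⟨h, hh, rfl⟩ := hy
  refine ⟨g * h * g⁻¹ * h⁻¹, ?_, ?_⟩
  · refine ⟨⁅(⟨g, hg⟩ : ↥HZ), ⟨h, hh⟩⁆, ?_, rfl⟩
    rw [commutator_def]
    exact Subgroup.commutator_mem_commutator (Subgroup.mem_top _) (Subgroup.mem_top _)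
  · rw [commC, pinv_enc n_le, pinv_enc n_le, pmul_enc n_le, pmul_enc n_le, pmul_enc n_le, mul_assoc (g * h)]

set_option maxRecDepth 100000

theorem zc2_exH : ∃ g ∈ HZ, enc 2300 g = zc2 := codesZH_ex _ (mem_of_getD 1 (by decide) rfl)
theorem zc1_exH : ∃ g ∈ HZ, enc 2300 g = zc1 := codesZH_ex _ (mem_of_getD 2 (by decide) rfl)
theorem zh2_exH : ∃ g ∈ HZ, enc 2300 g = zh2 := codesZH_ex _ (mem_of_getD 5 (by decide) rfl)
theorem zh4_exH : ∃ g ∈ HZ, enc 2300 g = zh4 := codesZH_ex _ (mem_of_getD 7 (by decide) rfl)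
theorem zh11_exH : ∃ g ∈ HZ, enc 2300 g = zh11 := codesZH_ex _ (mem_of_getD 14 (by decide) rfl)

theorem regsZ4_ex : ∀ c ∈ regsZ4, ∃ g ∈ DZ, enc 2300 g = c := by
  intro c hc
  rw [regsZ4] at hc
  simp only [List.mem_cons, List.not_mem_nil, or_false] at hc
  rcases hc with rfl | rfl | rfl | rfl | rfl | rfl
  · exact commC_ex zc2_exH zh4_exH
  · exact commC_ex zh4_exH zc2_exH
  · exact commC_ex zh4_exH zh11_exH
  · exact commC_ex zh11_exH zh4_exH
  · exact commC_ex zc1_exH zh2_exH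
  · exact commC_ex zh2_exH zc1_exH

theorem zcc_exD : ∀ c ∈ [czB, zc1, zc2], ∃ g ∈ DZ, enc 2300 g = c := run_ex DZ regsZ4_ex progZ4 idxZ4 _ chk_progZ4

theorem mem_DZ_of_code {g : Equiv.Perm (Fin 2300)} {c : ℕ} (hg : enc 2300 g = c)
    (h : ∃ g' ∈ DZ, enc 2300 g' = c) : g ∈ DZ := by
  obtain ⟨g', hg', he⟩ := h
  have : g' = g := enc_injective n_le (he.trans hg.symm)
  exact this ▸ hg'

theorem HZ_le_DZ : HZ ≤ DZ := by
  rw [HZ, Subgroup.closure_le]
  intro g hg
  rcases hg with rfl | rfl | rfl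
  · exact mem_DZ_of_code zI1_spec.2 (zcc_exD zc1 (List.mem_cons_of_mem _ List.mem_cons_self))
  · exact mem_DZ_of_code zI2_spec.2
      (zcc_exD zc2 (List.mem_cons_of_mem _ (List.mem_cons_of_mem _ List.mem_cons_self)))
  · exact mem_DZ_of_code zI_spec.2 (zcc_exD czB List.mem_cons_self)

/-- **the centraliser of the involution is perfect** -/
theorem perfect_HZ : commutator ↥HZ = ⊤ := by
  rw [eq_top_iff]
  intro x _
  obtain ⟨y, hy, hxy⟩ := HZ_le_DZ x.2
  have : y = x := Subtype.ext hxy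
  exact this ▸ hy

/-! ### the centraliser inside the group `P` -/

/-- the involution as an element of `P` -/
noncomputable def zP : ↥P := ⟨zI, zI_spec.1⟩

theorem zP_sq : zP * zP = 1 := Subtype.ext zI_sq

theorem perfect_of_surj {A B : Type*} [Group A] [Group B] (f : A →* B)
    (hf : Function.Surjective f) (hA : commutator A = ⊤) : commutator B = ⊤ := by
  have h1 : Subgroup.map f (commutator A) = commutator B := by
    rw [commutator_def, commutator_def, Subgroup.map_commutator, ← MonoidHom.range_eq_map,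
      MonoidHom.range_eq_top.2 hf]
  rw [← h1, hA, ← MonoidHom.range_eq_map, MonoidHom.range_eq_top.2 hf]

theorem mem_Cz_of_mem_HZ {g : Equiv.Perm (Fin 2300)} (hg : g ∈ HZ) : (⟨g, HZ_le_P hg⟩ : ↥P) ∈ Cz zP := by
  rw [Subgroup.mem_centralizer_singleton_iff]
  apply Subtype.ext
  show g * zI = zI * g
  exact comm_z hg

/-- the map from `HZ` onto the centraliser of `zP` in `P` -/
noncomputable def toCz : ↥HZ →* ↥(Cz zP) where
  toFun x := ⟨⟨x.1, HZ_le_P x.2⟩, mem_Cz_of_mem_HZ x.2⟩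
  map_one' := rfl
  map_mul' _ _ := rfl

theorem toCz_surj : Function.Surjective toCz := by
  intro y
  have hy := Subgroup.mem_centralizer_singleton_iff.1 y.2
  have h1 : y.1.1 * zI = zI * y.1.1 := congrArg Subtype.val hy
  have h2 : y.1.1 ∈ HZ := by
    rw [HZ_eq]
    exact Subgroup.mem_inf.2 ⟨y.1.2, mem_centZ h1⟩
  exact ⟨⟨y.1.1, h2⟩, rfl⟩

/-- **the centraliser of the involution in `P` is perfect** -/
theorem perfect_Cz_zP : commutator ↥(Cz zP) = ⊤ := perfect_of_surj toCz toCz_surj perfect_HZ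

end Cfsg.Agent.Lib.Helper8.Co2MultZ
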