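import Cfsg.Agent.Lib.Helper8.Co2MultDefs
import Cfsg.Agent.Lib.Helper8.Co2MultZ
import Cfsg.Agent.Lib.Helper8.Co2MultATab0
import Cfsg.Agent.Lib.Helper8.Co2MultATab1
import Cfsg.Agent.Lib.Helper8.Co2MultATab2
import Cfsg.Agent.Lib.Helper8.Co2MultATab3
import Cfsg.Agent.Lib.Helper8.Co2MultATab4
import Cfsg.Agent.Lib.Helper8.Co2MultATab5
import Cfsg.Agent.Lib.Helper8.Co2MultATab6
import Cfsg.Agent.Lib.Helper8.Co2MultATab7
import Cfsg.Agent.Lib.Helper8.Co2MultATab8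
import Cfsg.Agent.Lib.Helper8.Co2MultAPar
import Cfsg.Agent.Lib.Helper8.Co2MultARel0
import Cfsg.Agent.Lib.Helper8.Co2MultARel1
import Cfsg.Agent.Lib.Helper8.Co2MultARel2
import Cfsg.Agent.Lib.Helper8.Co2MultARel3
import Cfsg.Agent.Lib.Helper8.Co2MultAGen

/-!
# A coset certificate for the Schur multiplier of the second Conway group: definitions (generated by a script)

The table of the certificate A (56925 rows, five involutions) read from packed numerals, its coincidences, and the words and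
codes of the five involutions.
-/

set_option autoImplicit false

namespace Cfsg.Agent.Lib.Helper8.Co2Mult

open Cfsg.Agent.PL Cfsg.Agent.Co2P
open Cfsg.Agent.Lib.Helper5.J3Mult (FCert palW)

noncomputable def chA_n0_0 (j : ℕ) : ℕ := (Bool.rec (motive := fun _ => ℕ) (Bool.rec (motive := fun _ => ℕ) (Bool.rec (motive := fun _ => ℕ) cA_0 cA_1 (Nat.ble 1 j)) (Bool.rec (motive := fun _ => ℕ) cA_2 cA_3 (Nat.ble 3 j)) (Nat.ble 2 j)) (Bool.rec (motive := fun _ => ℕ) (Bool.rec (motive := fun _ => ℕ) cA_4 cA_5 (Nat.ble 5 j)) (Bool.rec (motive := fun _ => ℕ) cA_6 cA_7 (Nat.ble 7 j)) (Nat.ble 6 j)) (Nat.ble 4 j))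
noncomputable def chA_n0_1 (j : ℕ) : ℕ := (Bool.rec (motive := fun _ => ℕ) (Bool.rec (motive := fun _ => ℕ) (Bool.rec (motive := fun _ => ℕ) cA_8 cA_9 (Nat.ble 9 j)) (Bool.rec (motive := fun _ => ℕ) cA_10 cA_11 (Nat.ble 11 j)) (Nat.ble 10 j)) (Bool.rec (motive := fun _ => ℕ) (Bool.rec (motive := fun _ => ℕ) cA_12 cA_13 (Nat.ble 13 j)) (Bool.rec (motive := fun _ => ℕ) cA_14 cA_15 (Nat.ble 15 j)) (Nat.ble 14 j)) (Nat.ble 12 j))
noncomputable def chA_n0_2 (j : ℕ) : ℕ := (Bool.rec (motive := fun _ => ℕ) (Bool.rec (motive := fun _ => ℕ) (Bool.rec (motive := fun _ => ℕ) cA_16 cA_17 (Nat.ble 17 j)) (Bool.rec (motive := fun _ => ℕ) cA_18 cA_19 (Nat.ble 19 j)) (Nat.ble 18 j)) (Bool.rec (motive := fun _ => ℕ) (Bool.rec (motive := fun _ => ℕ) cA_20 cA_21 (Nat.ble 21 j)) (Bool.rec (motive := fun _ => ℕ) cA_22 cA_23 (Nat.ble 23 j)) (Nat.ble 22 j)) (Nat.ble 20 j))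
noncomputable def chA_n0_3 (j : ℕ) : ℕ := (Bool.rec (motive := fun _ => ℕ) (Bool.rec (motive := fun _ => ℕ) (Bool.rec (motive := fun _ => ℕ) cA_24 cA_25 (Nat.ble 25 j)) (Bool.rec (motive := fun _ => ℕ) cA_26 cA_27 (Nat.ble 27 j)) (Nat.ble 26 j)) (Bool.rec (motive := fun _ => ℕ) (Bool.rec (motive := fun _ => ℕ) cA_28 cA_29 (Nat.ble 29 j)) (Bool.rec (motive := fun _ => ℕ) cA_30 cA_31 (Nat.ble 31 j)) (Nat.ble 30 j)) (Nat.ble 28 j))
noncomputable def chA_n0_4 (j : ℕ) : ℕ := (Bool.rec (motive := fun _ => ℕ) (Bool.rec (motive := fun _ => ℕ) (Bool.rec (motive := fun _ => ℕ) cA_32 cA_33 (Nat.ble 33 j)) (Bool.rec (motive := fun _ => ℕ) cA_34 cA_35 (Nat.ble 35 j)) (Nat.ble 34 j)) (Bool.rec (motive := fun _ => ℕ) (Bool.rec (motive := fun _ => ℕ) cA_36 cA_37 (Nat.ble 37 j)) (Bool.rec (motive := fun _ => ℕ) cA_38 cA_39 (Nat.ble 39 j)) (Nat.ble 38 j)) (Nat.ble 36 j))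
noncomputable def chA_n0_5 (j : ℕ) : ℕ := (Bool.rec (motive := fun _ => ℕ) (Bool.rec (motive := fun _ => ℕ) (Bool.rec (motive := fun _ => ℕ) cA_40 cA_41 (Nat.ble 41 j)) (Bool.rec (motive := fun _ => ℕ) cA_42 cA_43 (Nat.ble 43 j)) (Nat.ble 42 j)) (Bool.rec (motive := fun _ => ℕ) (Bool.rec (motive := fun _ => ℕ) cA_44 cA_45 (Nat.ble 45 j)) (Bool.rec (motive := fun _ => ℕ) cA_46 cA_47 (Nat.ble 47 j)) (Nat.ble 46 j)) (Nat.ble 44 j))
noncomputable def chA_n0_6 (j : ℕ) : ℕ := (Bool.rec (motive := fun _ => ℕ) (Bool.rec (motive := fun _ => ℕ) (Bool.rec (motive := fun _ => ℕ) cA_48 cA_49 (Nat.ble 49 j)) (Bool.rec (motive := fun _ => ℕ) cA_50 cA_51 (Nat.ble 51 j)) (Nat.ble 50 j)) (Bool.rec (motive := fun _ => ℕ) (Bool.rec (motive := fun _ => ℕ) cA_52 cA_53 (Nat.ble 53 j)) (Bool.rec (motive := fun _ => ℕ) cA_54 cA_55 (Nat.ble 55 j)) (Nat.ble 54 j)) (Nat.ble 52 j))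
noncomputable def chA_n0_7 (j : ℕ) : ℕ := (Bool.rec (motive := fun _ => ℕ) (Bool.rec (motive := fun _ => ℕ) (Bool.rec (motive := fun _ => ℕ) cA_56 cA_57 (Nat.ble 57 j)) (Bool.rec (motive := fun _ => ℕ) cA_58 cA_59 (Nat.ble 59 j)) (Nat.ble 58 j)) (Bool.rec (motive := fun _ => ℕ) (Bool.rec (motive := fun _ => ℕ) cA_60 cA_61 (Nat.ble 61 j)) (Bool.rec (motive := fun _ => ℕ) cA_62 cA_63 (Nat.ble 63 j)) (Nat.ble 62 j)) (Nat.ble 60 j))
noncomputable def chA_n0_8 (j : ℕ) : ℕ := (Bool.rec (motive := fun _ => ℕ) (Bool.rec (motive := fun _ => ℕ) (Bool.rec (motive := fun _ => ℕ) cA_64 cA_65 (Nat.ble 65 j)) (Bool.rec (motive := fun _ => ℕ) cA_66 cA_67 (Nat.ble 67 j)) (Nat.ble 66 j)) (Bool.rec (motive := fun _ => ℕ) (Bool.rec (motive := fun _ => ℕ) cA_68 cA_69 (Nat.ble 69 j)) (Bool.rec (motive := fun _ => ℕ) cA_70 cA_71 (Nat.ble 71 j)) (Nat.ble 70 j)) (Nat.ble 68 j))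
noncomputable def chA_n0_9 (j : ℕ) : ℕ := (Bool.rec (motive := fun _ => ℕ) (Bool.rec (motive := fun _ => ℕ) (Bool.rec (motive := fun _ => ℕ) cA_72 cA_73 (Nat.ble 73 j)) (Bool.rec (motive := fun _ => ℕ) cA_74 cA_75 (Nat.ble 75 j)) (Nat.ble 74 j)) (Bool.rec (motive := fun _ => ℕ) (Bool.rec (motive := fun _ => ℕ) cA_76 cA_77 (Nat.ble 77 j)) (Bool.rec (motive := fun _ => ℕ) cA_78 cA_79 (Nat.ble 79 j)) (Nat.ble 78 j)) (Nat.ble 76 j))
noncomputable def chA_n0_10 (j : ℕ) : ℕ := (Bool.rec (motive := fun _ => ℕ) (Bool.rec (motive := fun _ => ℕ) (Bool.rec (motive := fun _ => ℕ) cA_80 cA_81 (Nat.ble 81 j)) (Bool.rec (motive := fun _ => ℕ) cA_82 cA_83 (Nat.ble 83 j)) (Nat.ble 82 j)) (Bool.rec (motive := fun _ => ℕ) (Bool.rec (motive := fun _ => ℕ) cA_84 cA_85 (Nat.ble 85 j)) (Bool.rec (motive := fun _ => ℕ) cA_86 cA_87 (Nat.ble 87 j)) (Nat.ble 86 j)) (Nat.ble 84 j))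
noncomputable def chA_n0_11 (j : ℕ) : ℕ := (Bool.rec (motive := fun _ => ℕ) (Bool.rec (motive := fun _ => ℕ) (Bool.rec (motive := fun _ => ℕ) cA_88 cA_89 (Nat.ble 89 j)) (Bool.rec (motive := fun _ => ℕ) cA_90 cA_91 (Nat.ble 91 j)) (Nat.ble 90 j)) (Bool.rec (motive := fun _ => ℕ) (Bool.rec (motive := fun _ => ℕ) cA_92 cA_93 (Nat.ble 93 j)) (Bool.rec (motive := fun _ => ℕ) cA_94 cA_95 (Nat.ble 95 j)) (Nat.ble 94 j)) (Nat.ble 92 j))
noncomputable def chA_n0_12 (j : ℕ) : ℕ := (Bool.rec (motive := fun _ => ℕ) (Bool.rec (motive := fun _ => ℕ) (Bool.rec (motive := fun _ => ℕ) cA_96 cA_97 (Nat.ble 97 j)) (Bool.rec (motive := fun _ => ℕ) cA_98 cA_99 (Nat.ble 99 j)) (Nat.ble 98 j)) (Bool.rec (motive := fun _ => ℕ) (Bool.rec (motive := fun _ => ℕ) cA_100 cA_101 (Nat.ble 101 j)) (Bool.rec (motive := fun _ => ℕ) cA_102 cA_103 (Nat.ble 103 j)) (Nat.ble 102 j)) (Nat.ble 100 j))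
noncomputable def chA_n0_13 (j : ℕ) : ℕ := (Bool.rec (motive := fun _ => ℕ) (Bool.rec (motive := fun _ => ℕ) (Bool.rec (motive := fun _ => ℕ) cA_104 cA_105 (Nat.ble 105 j)) (Bool.rec (motive := fun _ => ℕ) cA_106 cA_107 (Nat.ble 107 j)) (Nat.ble 106 j)) (Bool.rec (motive := fun _ => ℕ) (Bool.rec (motive := fun _ => ℕ) cA_108 cA_109 (Nat.ble 109 j)) (Bool.rec (motive := fun _ => ℕ) cA_110 cA_111 (Nat.ble 111 j)) (Nat.ble 110 j)) (Nat.ble 108 j))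
noncomputable def chA_n0_14 (j : ℕ) : ℕ := (Bool.rec (motive := fun _ => ℕ) (Bool.rec (motive := fun _ => ℕ) (Bool.rec (motive := fun _ => ℕ) cA_112 cA_113 (Nat.ble 113 j)) (Bool.rec (motive := fun _ => ℕ) cA_114 cA_115 (Nat.ble 115 j)) (Nat.ble 114 j)) (Bool.rec (motive := fun _ => ℕ) (Bool.rec (motive := fun _ => ℕ) cA_116 cA_117 (Nat.ble 117 j)) (Bool.rec (motive := fun _ => ℕ) cA_118 cA_119 (Nat.ble 119 j)) (Nat.ble 118 j)) (Nat.ble 116 j))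
noncomputable def chA_n0_15 (j : ℕ) : ℕ := (Bool.rec (motive := fun _ => ℕ) (Bool.rec (motive := fun _ => ℕ) (Bool.rec (motive := fun _ => ℕ) cA_120 cA_121 (Nat.ble 121 j)) (Bool.rec (motive := fun _ => ℕ) cA_122 cA_123 (Nat.ble 123 j)) (Nat.ble 122 j)) (Bool.rec (motive := fun _ => ℕ) (Bool.rec (motive := fun _ => ℕ) cA_124 cA_125 (Nat.ble 125 j)) (Bool.rec (motive := fun _ => ℕ) cA_126 cA_127 (Nat.ble 127 j)) (Nat.ble 126 j)) (Nat.ble 124 j))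
noncomputable def chA_n0_16 (j : ℕ) : ℕ := (Bool.rec (motive := fun _ => ℕ) (Bool.rec (motive := fun _ => ℕ) (Bool.rec (motive := fun _ => ℕ) cA_128 cA_129 (Nat.ble 129 j)) (Bool.rec (motive := fun _ => ℕ) cA_130 cA_131 (Nat.ble 131 j)) (Nat.ble 130 j)) (Bool.rec (motive := fun _ => ℕ) (Bool.rec (motive := fun _ => ℕ) cA_132 cA_133 (Nat.ble 133 j)) (Bool.rec (motive := fun _ => ℕ) cA_134 cA_135 (Nat.ble 135 j)) (Nat.ble 134 j)) (Nat.ble 132 j))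
noncomputable def chA_n0_17 (j : ℕ) : ℕ := (Bool.rec (motive := fun _ => ℕ) (Bool.rec (motive := fun _ => ℕ) (Bool.rec (motive := fun _ => ℕ) cA_136 cA_137 (Nat.ble 137 j)) (Bool.rec (motive := fun _ => ℕ) cA_138 cA_139 (Nat.ble 139 j)) (Nat.ble 138 j)) (Bool.rec (motive := fun _ => ℕ) (Bool.rec (motive := fun _ => ℕ) cA_140 cA_141 (Nat.ble 141 j)) (Bool.rec (motive := fun _ => ℕ) cA_142 cA_143 (Nat.ble 143 j)) (Nat.ble 142 j)) (Nat.ble 140 j))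
noncomputable def chA_n0_18 (j : ℕ) : ℕ := (Bool.rec (motive := fun _ => ℕ) (Bool.rec (motive := fun _ => ℕ) (Bool.rec (motive := fun _ => ℕ) cA_144 cA_145 (Nat.ble 145 j)) (Bool.rec (motive := fun _ => ℕ) cA_146 cA_147 (Nat.ble 147 j)) (Nat.ble 146 j)) (Bool.rec (motive := fun _ => ℕ) (Bool.rec (motive := fun _ => ℕ) cA_148 cA_149 (Nat.ble 149 j)) (Bool.rec (motive := fun _ => ℕ) cA_150 cA_151 (Nat.ble 151 j)) (Nat.ble 150 j)) (Nat.ble 148 j))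
noncomputable def chA_n0_19 (j : ℕ) : ℕ := (Bool.rec (motive := fun _ => ℕ) (Bool.rec (motive := fun _ => ℕ) (Bool.rec (motive := fun _ => ℕ) cA_152 cA_153 (Nat.ble 153 j)) (Bool.rec (motive := fun _ => ℕ) cA_154 cA_155 (Nat.ble 155 j)) (Nat.ble 154 j)) (Bool.rec (motive := fun _ => ℕ) (Bool.rec (motive := fun _ => ℕ) cA_156 cA_157 (Nat.ble 157 j)) (Bool.rec (motive := fun _ => ℕ) cA_158 cA_159 (Nat.ble 159 j)) (Nat.ble 158 j)) (Nat.ble 156 j))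
noncomputable def chA_n0_20 (j : ℕ) : ℕ := (Bool.rec (motive := fun _ => ℕ) (Bool.rec (motive := fun _ => ℕ) (Bool.rec (motive := fun _ => ℕ) cA_160 cA_161 (Nat.ble 161 j)) (Bool.rec (motive := fun _ => ℕ) cA_162 cA_163 (Nat.ble 163 j)) (Nat.ble 162 j)) (Bool.rec (motive := fun _ => ℕ) (Bool.rec (motive := fun _ => ℕ) cA_164 cA_165 (Nat.ble 165 j)) (Bool.rec (motive := fun _ => ℕ) cA_166 cA_167 (Nat.ble 167 j)) (Nat.ble 166 j)) (Nat.ble 164 j))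
noncomputable def chA_n0_21 (j : ℕ) : ℕ := (Bool.rec (motive := fun _ => ℕ) (Bool.rec (motive := fun _ => ℕ) (Bool.rec (motive := fun _ => ℕ) cA_168 cA_169 (Nat.ble 169 j)) (Bool.rec (motive := fun _ => ℕ) cA_170 cA_171 (Nat.ble 171 j)) (Nat.ble 170 j)) (Bool.rec (motive := fun _ => ℕ) (Bool.rec (motive := fun _ => ℕ) cA_172 cA_173 (Nat.ble 173 j)) (Bool.rec (motive := fun _ => ℕ) cA_174 cA_175 (Nat.ble 175 j)) (Nat.ble 174 j)) (Nat.ble 172 j))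
noncomputable def chA_n0_22 (j : ℕ) : ℕ := (Bool.rec (motive := fun _ => ℕ) (Bool.rec (motive := fun _ => ℕ) (Bool.rec (motive := fun _ => ℕ) cA_176 cA_177 (Nat.ble 177 j)) (Bool.rec (motive := fun _ => ℕ) cA_178 cA_179 (Nat.ble 179 j)) (Nat.ble 178 j)) (Bool.rec (motive := fun _ => ℕ) (Bool.rec (motive := fun _ => ℕ) cA_180 cA_181 (Nat.ble 181 j)) (Bool.rec (motive := fun _ => ℕ) cA_182 cA_183 (Nat.ble 183 j)) (Nat.ble 182 j)) (Nat.ble 180 j))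
noncomputable def chA_n0_23 (j : ℕ) : ℕ := (Bool.rec (motive := fun _ => ℕ) (Bool.rec (motive := fun _ => ℕ) (Bool.rec (motive := fun _ => ℕ) cA_184 cA_185 (Nat.ble 185 j)) (Bool.rec (motive := fun _ => ℕ) cA_186 cA_187 (Nat.ble 187 j)) (Nat.ble 186 j)) (Bool.rec (motive := fun _ => ℕ) (Bool.rec (motive := fun _ => ℕ) cA_188 cA_189 (Nat.ble 189 j)) (Bool.rec (motive := fun _ => ℕ) cA_190 cA_191 (Nat.ble 191 j)) (Nat.ble 190 j)) (Nat.ble 188 j))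
noncomputable def chA_n0_24 (j : ℕ) : ℕ := (Bool.rec (motive := fun _ => ℕ) (Bool.rec (motive := fun _ => ℕ) (Bool.rec (motive := fun _ => ℕ) cA_192 cA_193 (Nat.ble 193 j)) (Bool.rec (motive := fun _ => ℕ) cA_194 cA_195 (Nat.ble 195 j)) (Nat.ble 194 j)) (Bool.rec (motive := fun _ => ℕ) (Bool.rec (motive := fun _ => ℕ) cA_196 cA_197 (Nat.ble 197 j)) (Bool.rec (motive := fun _ => ℕ) cA_198 cA_199 (Nat.ble 199 j)) (Nat.ble 198 j)) (Nat.ble 196 j))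
noncomputable def chA_n0_25 (j : ℕ) : ℕ := (Bool.rec (motive := fun _ => ℕ) (Bool.rec (motive := fun _ => ℕ) (Bool.rec (motive := fun _ => ℕ) cA_200 cA_201 (Nat.ble 201 j)) (Bool.rec (motive := fun _ => ℕ) cA_202 cA_203 (Nat.ble 203 j)) (Nat.ble 202 j)) (Bool.rec (motive := fun _ => ℕ) (Bool.rec (motive := fun _ => ℕ) cA_204 cA_205 (Nat.ble 205 j)) (Bool.rec (motive := fun _ => ℕ) cA_206 cA_207 (Nat.ble 207 j)) (Nat.ble 206 j)) (Nat.ble 204 j))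
noncomputable def chA_n0_26 (j : ℕ) : ℕ := (Bool.rec (motive := fun _ => ℕ) (Bool.rec (motive := fun _ => ℕ) (Bool.rec (motive := fun _ => ℕ) cA_208 cA_209 (Nat.ble 209 j)) (Bool.rec (motive := fun _ => ℕ) cA_210 cA_211 (Nat.ble 211 j)) (Nat.ble 210 j)) (Bool.rec (motive := fun _ => ℕ) (Bool.rec (motive := fun _ => ℕ) cA_212 cA_213 (Nat.ble 213 j)) (Bool.rec (motive := fun _ => ℕ) cA_214 cA_215 (Nat.ble 215 j)) (Nat.ble 214 j)) (Nat.ble 212 j))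
noncomputable def chA_n0_27 (j : ℕ) : ℕ := (Bool.rec (motive := fun _ => ℕ) (Bool.rec (motive := fun _ => ℕ) (Bool.rec (motive := fun _ => ℕ) cA_216 cA_217 (Nat.ble 217 j)) (Bool.rec (motive := fun _ => ℕ) cA_218 cA_219 (Nat.ble 219 j)) (Nat.ble 218 j)) (Bool.rec (motive := fun _ => ℕ) (Bool.rec (motive := fun _ => ℕ) cA_220 cA_221 (Nat.ble 221 j)) (Bool.rec (motive := fun _ => ℕ) cA_222 cA_223 (Nat.ble 223 j)) (Nat.ble 222 j)) (Nat.ble 220 j))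
noncomputable def chA_n0_28 (j : ℕ) : ℕ := (Bool.rec (motive := fun _ => ℕ) (Bool.rec (motive := fun _ => ℕ) (Bool.rec (motive := fun _ => ℕ) cA_224 cA_225 (Nat.ble 225 j)) (Bool.rec (motive := fun _ => ℕ) cA_226 cA_227 (Nat.ble 227 j)) (Nat.ble 226 j)) (Bool.rec (motive := fun _ => ℕ) (Bool.rec (motive := fun _ => ℕ) cA_228 cA_229 (Nat.ble 229 j)) (Bool.rec (motive := fun _ => ℕ) cA_230 cA_231 (Nat.ble 231 j)) (Nat.ble 230 j)) (Nat.ble 228 j))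
noncomputable def chA_n0_29 (j : ℕ) : ℕ := (Bool.rec (motive := fun _ => ℕ) (Bool.rec (motive := fun _ => ℕ) (Bool.rec (motive := fun _ => ℕ) cA_232 cA_233 (Nat.ble 233 j)) (Bool.rec (motive := fun _ => ℕ) cA_234 cA_235 (Nat.ble 235 j)) (Nat.ble 234 j)) (Bool.rec (motive := fun _ => ℕ) (Bool.rec (motive := fun _ => ℕ) cA_236 cA_237 (Nat.ble 237 j)) (Bool.rec (motive := fun _ => ℕ) cA_238 cA_239 (Nat.ble 239 j)) (Nat.ble 238 j)) (Nat.ble 236 j))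
noncomputable def chA_n0_30 (j : ℕ) : ℕ := (Bool.rec (motive := fun _ => ℕ) (Bool.rec (motive := fun _ => ℕ) (Bool.rec (motive := fun _ => ℕ) cA_240 cA_241 (Nat.ble 241 j)) (Bool.rec (motive := fun _ => ℕ) cA_242 cA_243 (Nat.ble 243 j)) (Nat.ble 242 j)) (Bool.rec (motive := fun _ => ℕ) (Bool.rec (motive := fun _ => ℕ) cA_244 cA_245 (Nat.ble 245 j)) (Bool.rec (motive := fun _ => ℕ) cA_246 cA_247 (Nat.ble 247 j)) (Nat.ble 246 j)) (Nat.ble 244 j))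
noncomputable def chA_n0_31 (j : ℕ) : ℕ := (Bool.rec (motive := fun _ => ℕ) (Bool.rec (motive := fun _ => ℕ) (Bool.rec (motive := fun _ => ℕ) cA_248 cA_249 (Nat.ble 249 j)) (Bool.rec (motive := fun _ => ℕ) cA_250 cA_251 (Nat.ble 251 j)) (Nat.ble 250 j)) (Bool.rec (motive := fun _ => ℕ) (Bool.rec (motive := fun _ => ℕ) cA_252 cA_253 (Nat.ble 253 j)) (Bool.rec (motive := fun _ => ℕ) cA_254 cA_255 (Nat.ble 255 j)) (Nat.ble 254 j)) (Nat.ble 252 j))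
noncomputable def chA_n0_32 (j : ℕ) : ℕ := (Bool.rec (motive := fun _ => ℕ) (Bool.rec (motive := fun _ => ℕ) (Bool.rec (motive := fun _ => ℕ) cA_256 cA_257 (Nat.ble 257 j)) (Bool.rec (motive := fun _ => ℕ) cA_258 cA_259 (Nat.ble 259 j)) (Nat.ble 258 j)) (Bool.rec (motive := fun _ => ℕ) (Bool.rec (motive := fun _ => ℕ) cA_260 cA_261 (Nat.ble 261 j)) (Bool.rec (motive := fun _ => ℕ) cA_262 cA_263 (Nat.ble 263 j)) (Nat.ble 262 j)) (Nat.ble 260 j))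
noncomputable def chA_n0_33 (j : ℕ) : ℕ := (Bool.rec (motive := fun _ => ℕ) (Bool.rec (motive := fun _ => ℕ) (Bool.rec (motive := fun _ => ℕ) cA_264 cA_265 (Nat.ble 265 j)) (Bool.rec (motive := fun _ => ℕ) cA_266 cA_267 (Nat.ble 267 j)) (Nat.ble 266 j)) (Bool.rec (motive := fun _ => ℕ) (Bool.rec (motive := fun _ => ℕ) cA_268 cA_269 (Nat.ble 269 j)) (Bool.rec (motive := fun _ => ℕ) cA_270 cA_271 (Nat.ble 271 j)) (Nat.ble 270 j)) (Nat.ble 268 j))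
noncomputable def chA_n0_34 (j : ℕ) : ℕ := (Bool.rec (motive := fun _ => ℕ) (Bool.rec (motive := fun _ => ℕ) (Bool.rec (motive := fun _ => ℕ) cA_272 cA_273 (Nat.ble 273 j)) (Bool.rec (motive := fun _ => ℕ) cA_274 cA_275 (Nat.ble 275 j)) (Nat.ble 274 j)) (Bool.rec (motive := fun _ => ℕ) (Bool.rec (motive := fun _ => ℕ) cA_276 cA_277 (Nat.ble 277 j)) (Bool.rec (motive := fun _ => ℕ) cA_278 cA_279 (Nat.ble 279 j)) (Nat.ble 278 j)) (Nat.ble 276 j))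
noncomputable def chA_n0_35 (j : ℕ) : ℕ := (Bool.rec (motive := fun _ => ℕ) (Bool.rec (motive := fun _ => ℕ) (Bool.rec (motive := fun _ => ℕ) cA_280 cA_281 (Nat.ble 281 j)) (Bool.rec (motive := fun _ => ℕ) cA_282 cA_283 (Nat.ble 283 j)) (Nat.ble 282 j)) (Bool.rec (motive := fun _ => ℕ) (Bool.rec (motive := fun _ => ℕ) cA_284 cA_285 (Nat.ble 285 j)) (Bool.rec (motive := fun _ => ℕ) cA_286 cA_287 (Nat.ble 287 j)) (Nat.ble 286 j)) (Nat.ble 284 j))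
noncomputable def chA_n0_36 (j : ℕ) : ℕ := (Bool.rec (motive := fun _ => ℕ) (Bool.rec (motive := fun _ => ℕ) (Bool.rec (motive := fun _ => ℕ) cA_288 cA_289 (Nat.ble 289 j)) (Bool.rec (motive := fun _ => ℕ) cA_290 cA_291 (Nat.ble 291 j)) (Nat.ble 290 j)) (Bool.rec (motive := fun _ => ℕ) (Bool.rec (motive := fun _ => ℕ) cA_292 cA_293 (Nat.ble 293 j)) (Bool.rec (motive := fun _ => ℕ) cA_294 cA_295 (Nat.ble 295 j)) (Nat.ble 294 j)) (Nat.ble 292 j))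
noncomputable def chA_n0_37 (j : ℕ) : ℕ := (Bool.rec (motive := fun _ => ℕ) (Bool.rec (motive := fun _ => ℕ) (Bool.rec (motive := fun _ => ℕ) cA_296 cA_297 (Nat.ble 297 j)) (Bool.rec (motive := fun _ => ℕ) cA_298 cA_299 (Nat.ble 299 j)) (Nat.ble 298 j)) (Bool.rec (motive := fun _ => ℕ) (Bool.rec (motive := fun _ => ℕ) cA_300 cA_301 (Nat.ble 301 j)) (Bool.rec (motive := fun _ => ℕ) cA_302 cA_303 (Nat.ble 303 j)) (Nat.ble 302 j)) (Nat.ble 300 j))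
noncomputable def chA_n0_38 (j : ℕ) : ℕ := (Bool.rec (motive := fun _ => ℕ) (Bool.rec (motive := fun _ => ℕ) (Bool.rec (motive := fun _ => ℕ) cA_304 cA_305 (Nat.ble 305 j)) (Bool.rec (motive := fun _ => ℕ) cA_306 cA_307 (Nat.ble 307 j)) (Nat.ble 306 j)) (Bool.rec (motive := fun _ => ℕ) (Bool.rec (motive := fun _ => ℕ) cA_308 cA_309 (Nat.ble 309 j)) (Bool.rec (motive := fun _ => ℕ) cA_310 cA_311 (Nat.ble 311 j)) (Nat.ble 310 j)) (Nat.ble 308 j))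
noncomputable def chA_n0_39 (j : ℕ) : ℕ := (Bool.rec (motive := fun _ => ℕ) (Bool.rec (motive := fun _ => ℕ) (Bool.rec (motive := fun _ => ℕ) cA_312 cA_313 (Nat.ble 313 j)) (Bool.rec (motive := fun _ => ℕ) cA_314 cA_315 (Nat.ble 315 j)) (Nat.ble 314 j)) (Bool.rec (motive := fun _ => ℕ) (Bool.rec (motive := fun _ => ℕ) cA_316 cA_317 (Nat.ble 317 j)) (Bool.rec (motive := fun _ => ℕ) cA_318 cA_319 (Nat.ble 319 j)) (Nat.ble 318 j)) (Nat.ble 316 j))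
noncomputable def chA_n0_40 (j : ℕ) : ℕ := (Bool.rec (motive := fun _ => ℕ) (Bool.rec (motive := fun _ => ℕ) (Bool.rec (motive := fun _ => ℕ) cA_320 cA_321 (Nat.ble 321 j)) (Bool.rec (motive := fun _ => ℕ) cA_322 cA_323 (Nat.ble 323 j)) (Nat.ble 322 j)) (Bool.rec (motive := fun _ => ℕ) (Bool.rec (motive := fun _ => ℕ) cA_324 cA_325 (Nat.ble 325 j)) (Bool.rec (motive := fun _ => ℕ) cA_326 cA_327 (Nat.ble 327 j)) (Nat.ble 326 j)) (Nat.ble 324 j))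
noncomputable def chA_n0_41 (j : ℕ) : ℕ := (Bool.rec (motive := fun _ => ℕ) (Bool.rec (motive := fun _ => ℕ) (Bool.rec (motive := fun _ => ℕ) cA_328 cA_329 (Nat.ble 329 j)) (Bool.rec (motive := fun _ => ℕ) cA_330 cA_331 (Nat.ble 331 j)) (Nat.ble 330 j)) (Bool.rec (motive := fun _ => ℕ) (Bool.rec (motive := fun _ => ℕ) cA_332 cA_333 (Nat.ble 333 j)) (Bool.rec (motive := fun _ => ℕ) cA_334 cA_335 (Nat.ble 335 j)) (Nat.ble 334 j)) (Nat.ble 332 j))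
noncomputable def chA_n0_42 (j : ℕ) : ℕ := (Bool.rec (motive := fun _ => ℕ) (Bool.rec (motive := fun _ => ℕ) (Bool.rec (motive := fun _ => ℕ) cA_336 cA_337 (Nat.ble 337 j)) (Bool.rec (motive := fun _ => ℕ) cA_338 cA_339 (Nat.ble 339 j)) (Nat.ble 338 j)) (Bool.rec (motive := fun _ => ℕ) (Bool.rec (motive := fun _ => ℕ) cA_340 cA_341 (Nat.ble 341 j)) (Bool.rec (motive := fun _ => ℕ) cA_342 cA_343 (Nat.ble 343 j)) (Nat.ble 342 j)) (Nat.ble 340 j))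
noncomputable def chA_n0_43 (j : ℕ) : ℕ := (Bool.rec (motive := fun _ => ℕ) (Bool.rec (motive := fun _ => ℕ) (Bool.rec (motive := fun _ => ℕ) cA_344 cA_345 (Nat.ble 345 j)) (Bool.rec (motive := fun _ => ℕ) cA_346 cA_347 (Nat.ble 347 j)) (Nat.ble 346 j)) (Bool.rec (motive := fun _ => ℕ) (Bool.rec (motive := fun _ => ℕ) cA_348 cA_349 (Nat.ble 349 j)) (Bool.rec (motive := fun _ => ℕ) cA_350 cA_351 (Nat.ble 351 j)) (Nat.ble 350 j)) (Nat.ble 348 j))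
noncomputable def chA_n0_44 (j : ℕ) : ℕ := (Bool.rec (motive := fun _ => ℕ) (Bool.rec (motive := fun _ => ℕ) (Bool.rec (motive := fun _ => ℕ) cA_352 cA_353 (Nat.ble 353 j)) (Bool.rec (motive := fun _ => ℕ) cA_354 cA_355 (Nat.ble 355 j)) (Nat.ble 354 j)) (Bool.rec (motive := fun _ => ℕ) (Bool.rec (motive := fun _ => ℕ) cA_356 cA_357 (Nat.ble 357 j)) (Bool.rec (motive := fun _ => ℕ) cA_358 cA_359 (Nat.ble 359 j)) (Nat.ble 358 j)) (Nat.ble 356 j))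
noncomputable def chA_n0_45 (j : ℕ) : ℕ := (Bool.rec (motive := fun _ => ℕ) (Bool.rec (motive := fun _ => ℕ) (Bool.rec (motive := fun _ => ℕ) cA_360 cA_361 (Nat.ble 361 j)) (Bool.rec (motive := fun _ => ℕ) cA_362 cA_363 (Nat.ble 363 j)) (Nat.ble 362 j)) (Bool.rec (motive := fun _ => ℕ) (Bool.rec (motive := fun _ => ℕ) cA_364 cA_365 (Nat.ble 365 j)) (Bool.rec (motive := fun _ => ℕ) cA_366 cA_367 (Nat.ble 367 j)) (Nat.ble 366 j)) (Nat.ble 364 j))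
noncomputable def chA_n0_46 (j : ℕ) : ℕ := (Bool.rec (motive := fun _ => ℕ) (Bool.rec (motive := fun _ => ℕ) (Bool.rec (motive := fun _ => ℕ) cA_368 cA_369 (Nat.ble 369 j)) (Bool.rec (motive := fun _ => ℕ) cA_370 cA_371 (Nat.ble 371 j)) (Nat.ble 370 j)) (Bool.rec (motive := fun _ => ℕ) (Bool.rec (motive := fun _ => ℕ) cA_372 cA_373 (Nat.ble 373 j)) (Bool.rec (motive := fun _ => ℕ) cA_374 cA_375 (Nat.ble 375 j)) (Nat.ble 374 j)) (Nat.ble 372 j))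
noncomputable def chA_n0_47 (j : ℕ) : ℕ := (Bool.rec (motive := fun _ => ℕ) (Bool.rec (motive := fun _ => ℕ) (Bool.rec (motive := fun _ => ℕ) cA_376 cA_377 (Nat.ble 377 j)) (Bool.rec (motive := fun _ => ℕ) cA_378 cA_379 (Nat.ble 379 j)) (Nat.ble 378 j)) (Bool.rec (motive := fun _ => ℕ) (Bool.rec (motive := fun _ => ℕ) cA_380 cA_381 (Nat.ble 381 j)) (Bool.rec (motive := fun _ => ℕ) cA_382 cA_383 (Nat.ble 383 j)) (Nat.ble 382 j)) (Nat.ble 380 j))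
noncomputable def chA_n0_48 (j : ℕ) : ℕ := (Bool.rec (motive := fun _ => ℕ) (Bool.rec (motive := fun _ => ℕ) (Bool.rec (motive := fun _ => ℕ) cA_384 cA_385 (Nat.ble 385 j)) (Bool.rec (motive := fun _ => ℕ) cA_386 cA_387 (Nat.ble 387 j)) (Nat.ble 386 j)) (Bool.rec (motive := fun _ => ℕ) (Bool.rec (motive := fun _ => ℕ) cA_388 cA_389 (Nat.ble 389 j)) (Bool.rec (motive := fun _ => ℕ) cA_390 cA_391 (Nat.ble 391 j)) (Nat.ble 390 j)) (Nat.ble 388 j))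
noncomputable def chA_n0_49 (j : ℕ) : ℕ := (Bool.rec (motive := fun _ => ℕ) (Bool.rec (motive := fun _ => ℕ) (Bool.rec (motive := fun _ => ℕ) cA_392 cA_393 (Nat.ble 393 j)) (Bool.rec (motive := fun _ => ℕ) cA_394 cA_395 (Nat.ble 395 j)) (Nat.ble 394 j)) (Bool.rec (motive := fun _ => ℕ) (Bool.rec (motive := fun _ => ℕ) cA_396 cA_397 (Nat.ble 397 j)) (Bool.rec (motive := fun _ => ℕ) cA_398 cA_399 (Nat.ble 399 j)) (Nat.ble 398 j)) (Nat.ble 396 j))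
noncomputable def chA_n0_50 (j : ℕ) : ℕ := (Bool.rec (motive := fun _ => ℕ) (Bool.rec (motive := fun _ => ℕ) (Bool.rec (motive := fun _ => ℕ) cA_400 cA_401 (Nat.ble 401 j)) (Bool.rec (motive := fun _ => ℕ) cA_402 cA_403 (Nat.ble 403 j)) (Nat.ble 402 j)) (Bool.rec (motive := fun _ => ℕ) (Bool.rec (motive := fun _ => ℕ) cA_404 cA_405 (Nat.ble 405 j)) (Bool.rec (motive := fun _ => ℕ) cA_406 cA_407 (Nat.ble 407 j)) (Nat.ble 406 j)) (Nat.ble 404 j))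
noncomputable def chA_n0_51 (j : ℕ) : ℕ := (Bool.rec (motive := fun _ => ℕ) (Bool.rec (motive := fun _ => ℕ) (Bool.rec (motive := fun _ => ℕ) cA_408 cA_409 (Nat.ble 409 j)) (Bool.rec (motive := fun _ => ℕ) cA_410 cA_411 (Nat.ble 411 j)) (Nat.ble 410 j)) (Bool.rec (motive := fun _ => ℕ) (Bool.rec (motive := fun _ => ℕ) cA_412 cA_413 (Nat.ble 413 j)) (Bool.rec (motive := fun _ => ℕ) cA_414 cA_415 (Nat.ble 415 j)) (Nat.ble 414 j)) (Nat.ble 412 j))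
noncomputable def chA_n0_52 (j : ℕ) : ℕ := (Bool.rec (motive := fun _ => ℕ) (Bool.rec (motive := fun _ => ℕ) (Bool.rec (motive := fun _ => ℕ) cA_416 cA_417 (Nat.ble 417 j)) (Bool.rec (motive := fun _ => ℕ) cA_418 cA_419 (Nat.ble 419 j)) (Nat.ble 418 j)) (Bool.rec (motive := fun _ => ℕ) (Bool.rec (motive := fun _ => ℕ) cA_420 cA_421 (Nat.ble 421 j)) (Bool.rec (motive := fun _ => ℕ) cA_422 cA_423 (Nat.ble 423 j)) (Nat.ble 422 j)) (Nat.ble 420 j))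
noncomputable def chA_n0_53 (j : ℕ) : ℕ := (Bool.rec (motive := fun _ => ℕ) (Bool.rec (motive := fun _ => ℕ) (Bool.rec (motive := fun _ => ℕ) cA_424 cA_425 (Nat.ble 425 j)) (Bool.rec (motive := fun _ => ℕ) cA_426 cA_427 (Nat.ble 427 j)) (Nat.ble 426 j)) (Bool.rec (motive := fun _ => ℕ) (Bool.rec (motive := fun _ => ℕ) cA_428 cA_429 (Nat.ble 429 j)) (Bool.rec (motive := fun _ => ℕ) cA_430 cA_431 (Nat.ble 431 j)) (Nat.ble 430 j)) (Nat.ble 428 j))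
noncomputable def chA_n0_54 (j : ℕ) : ℕ := (Bool.rec (motive := fun _ => ℕ) (Bool.rec (motive := fun _ => ℕ) (Bool.rec (motive := fun _ => ℕ) cA_432 cA_433 (Nat.ble 433 j)) (Bool.rec (motive := fun _ => ℕ) cA_434 cA_435 (Nat.ble 435 j)) (Nat.ble 434 j)) (Bool.rec (motive := fun _ => ℕ) (Bool.rec (motive := fun _ => ℕ) cA_436 cA_437 (Nat.ble 437 j)) (Bool.rec (motive := fun _ => ℕ) cA_438 cA_439 (Nat.ble 439 j)) (Nat.ble 438 j)) (Nat.ble 436 j))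
noncomputable def chA_n0_55 (j : ℕ) : ℕ := (Bool.rec (motive := fun _ => ℕ) (Bool.rec (motive := fun _ => ℕ) (Bool.rec (motive := fun _ => ℕ) cA_440 cA_441 (Nat.ble 441 j)) (Bool.rec (motive := fun _ => ℕ) cA_442 cA_443 (Nat.ble 443 j)) (Nat.ble 442 j)) (Bool.rec (motive := fun _ => ℕ) (Bool.rec (motive := fun _ => ℕ) cA_444 cA_445 (Nat.ble 445 j)) (Bool.rec (motive := fun _ => ℕ) cA_446 cA_447 (Nat.ble 447 j)) (Nat.ble 446 j)) (Nat.ble 444 j))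
noncomputable def chA_n0_56 (j : ℕ) : ℕ := (Bool.rec (motive := fun _ => ℕ) (Bool.rec (motive := fun _ => ℕ) (Bool.rec (motive := fun _ => ℕ) cA_448 cA_449 (Nat.ble 449 j)) (Bool.rec (motive := fun _ => ℕ) cA_450 cA_451 (Nat.ble 451 j)) (Nat.ble 450 j)) (Bool.rec (motive := fun _ => ℕ) (Bool.rec (motive := fun _ => ℕ) cA_452 cA_453 (Nat.ble 453 j)) (Bool.rec (motive := fun _ => ℕ) cA_454 cA_455 (Nat.ble 455 j)) (Nat.ble 454 j)) (Nat.ble 452 j))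
noncomputable def chA_n0_57 (j : ℕ) : ℕ := (Bool.rec (motive := fun _ => ℕ) (Bool.rec (motive := fun _ => ℕ) (Bool.rec (motive := fun _ => ℕ) cA_456 cA_457 (Nat.ble 457 j)) (Bool.rec (motive := fun _ => ℕ) cA_458 cA_459 (Nat.ble 459 j)) (Nat.ble 458 j)) (Bool.rec (motive := fun _ => ℕ) (Bool.rec (motive := fun _ => ℕ) cA_460 cA_461 (Nat.ble 461 j)) (Bool.rec (motive := fun _ => ℕ) cA_462 cA_463 (Nat.ble 463 j)) (Nat.ble 462 j)) (Nat.ble 460 j))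
noncomputable def chA_n0_58 (j : ℕ) : ℕ := (Bool.rec (motive := fun _ => ℕ) (Bool.rec (motive := fun _ => ℕ) (Bool.rec (motive := fun _ => ℕ) cA_464 cA_465 (Nat.ble 465 j)) (Bool.rec (motive := fun _ => ℕ) cA_466 cA_467 (Nat.ble 467 j)) (Nat.ble 466 j)) (Bool.rec (motive := fun _ => ℕ) (Bool.rec (motive := fun _ => ℕ) cA_468 cA_469 (Nat.ble 469 j)) (Bool.rec (motive := fun _ => ℕ) cA_470 cA_471 (Nat.ble 471 j)) (Nat.ble 470 j)) (Nat.ble 468 j))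
noncomputable def chA_n0_59 (j : ℕ) : ℕ := (Bool.rec (motive := fun _ => ℕ) (Bool.rec (motive := fun _ => ℕ) (Bool.rec (motive := fun _ => ℕ) cA_472 cA_473 (Nat.ble 473 j)) (Bool.rec (motive := fun _ => ℕ) cA_474 cA_475 (Nat.ble 475 j)) (Nat.ble 474 j)) (Bool.rec (motive := fun _ => ℕ) (Bool.rec (motive := fun _ => ℕ) cA_476 cA_477 (Nat.ble 477 j)) (Bool.rec (motive := fun _ => ℕ) cA_478 cA_479 (Nat.ble 479 j)) (Nat.ble 478 j)) (Nat.ble 476 j))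
noncomputable def chA_n0_60 (j : ℕ) : ℕ := (Bool.rec (motive := fun _ => ℕ) (Bool.rec (motive := fun _ => ℕ) (Bool.rec (motive := fun _ => ℕ) cA_480 cA_481 (Nat.ble 481 j)) (Bool.rec (motive := fun _ => ℕ) cA_482 cA_483 (Nat.ble 483 j)) (Nat.ble 482 j)) (Bool.rec (motive := fun _ => ℕ) (Bool.rec (motive := fun _ => ℕ) cA_484 cA_485 (Nat.ble 485 j)) (Bool.rec (motive := fun _ => ℕ) cA_486 cA_487 (Nat.ble 487 j)) (Nat.ble 486 j)) (Nat.ble 484 j))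
noncomputable def chA_n0_61 (j : ℕ) : ℕ := (Bool.rec (motive := fun _ => ℕ) (Bool.rec (motive := fun _ => ℕ) (Bool.rec (motive := fun _ => ℕ) cA_488 cA_489 (Nat.ble 489 j)) (Bool.rec (motive := fun _ => ℕ) cA_490 cA_491 (Nat.ble 491 j)) (Nat.ble 490 j)) (Bool.rec (motive := fun _ => ℕ) (Bool.rec (motive := fun _ => ℕ) cA_492 cA_493 (Nat.ble 493 j)) (Bool.rec (motive := fun _ => ℕ) cA_494 cA_495 (Nat.ble 495 j)) (Nat.ble 494 j)) (Nat.ble 492 j))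
noncomputable def chA_n0_62 (j : ℕ) : ℕ := (Bool.rec (motive := fun _ => ℕ) (Bool.rec (motive := fun _ => ℕ) (Bool.rec (motive := fun _ => ℕ) cA_496 cA_497 (Nat.ble 497 j)) (Bool.rec (motive := fun _ => ℕ) cA_498 cA_499 (Nat.ble 499 j)) (Nat.ble 498 j)) (Bool.rec (motive := fun _ => ℕ) (Bool.rec (motive := fun _ => ℕ) cA_500 cA_501 (Nat.ble 501 j)) (Bool.rec (motive := fun _ => ℕ) cA_502 cA_503 (Nat.ble 503 j)) (Nat.ble 502 j)) (Nat.ble 500 j))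
noncomputable def chA_n0_63 (j : ℕ) : ℕ := (Bool.rec (motive := fun _ => ℕ) (Bool.rec (motive := fun _ => ℕ) (Bool.rec (motive := fun _ => ℕ) cA_504 cA_505 (Nat.ble 505 j)) (Bool.rec (motive := fun _ => ℕ) cA_506 cA_507 (Nat.ble 507 j)) (Nat.ble 506 j)) (Bool.rec (motive := fun _ => ℕ) (Bool.rec (motive := fun _ => ℕ) cA_508 cA_509 (Nat.ble 509 j)) (Bool.rec (motive := fun _ => ℕ) cA_510 cA_511 (Nat.ble 511 j)) (Nat.ble 510 j)) (Nat.ble 508 j))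
noncomputable def chA_n0_64 (j : ℕ) : ℕ := (Bool.rec (motive := fun _ => ℕ) (Bool.rec (motive := fun _ => ℕ) (Bool.rec (motive := fun _ => ℕ) cA_512 cA_513 (Nat.ble 513 j)) (Bool.rec (motive := fun _ => ℕ) cA_514 cA_515 (Nat.ble 515 j)) (Nat.ble 514 j)) (Bool.rec (motive := fun _ => ℕ) (Bool.rec (motive := fun _ => ℕ) cA_516 cA_517 (Nat.ble 517 j)) (Bool.rec (motive := fun _ => ℕ) cA_518 cA_519 (Nat.ble 519 j)) (Nat.ble 518 j)) (Nat.ble 516 j))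
noncomputable def chA_n0_65 (j : ℕ) : ℕ := (Bool.rec (motive := fun _ => ℕ) (Bool.rec (motive := fun _ => ℕ) (Bool.rec (motive := fun _ => ℕ) cA_520 cA_521 (Nat.ble 521 j)) (Bool.rec (motive := fun _ => ℕ) cA_522 cA_523 (Nat.ble 523 j)) (Nat.ble 522 j)) (Bool.rec (motive := fun _ => ℕ) (Bool.rec (motive := fun _ => ℕ) cA_524 cA_525 (Nat.ble 525 j)) (Bool.rec (motive := fun _ => ℕ) cA_526 cA_527 (Nat.ble 527 j)) (Nat.ble 526 j)) (Nat.ble 524 j))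
noncomputable def chA_n0_66 (j : ℕ) : ℕ := (Bool.rec (motive := fun _ => ℕ) (Bool.rec (motive := fun _ => ℕ) (Bool.rec (motive := fun _ => ℕ) cA_528 cA_529 (Nat.ble 529 j)) (Bool.rec (motive := fun _ => ℕ) cA_530 cA_531 (Nat.ble 531 j)) (Nat.ble 530 j)) (Bool.rec (motive := fun _ => ℕ) (Bool.rec (motive := fun _ => ℕ) cA_532 cA_533 (Nat.ble 533 j)) (Bool.rec (motive := fun _ => ℕ) cA_534 cA_535 (Nat.ble 535 j)) (Nat.ble 534 j)) (Nat.ble 532 j))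
noncomputable def chA_n0_67 (j : ℕ) : ℕ := (Bool.rec (motive := fun _ => ℕ) (Bool.rec (motive := fun _ => ℕ) (Bool.rec (motive := fun _ => ℕ) cA_536 cA_537 (Nat.ble 537 j)) (Bool.rec (motive := fun _ => ℕ) cA_538 cA_539 (Nat.ble 539 j)) (Nat.ble 538 j)) (Bool.rec (motive := fun _ => ℕ) (Bool.rec (motive := fun _ => ℕ) cA_540 cA_541 (Nat.ble 541 j)) (Bool.rec (motive := fun _ => ℕ) cA_542 cA_543 (Nat.ble 543 j)) (Nat.ble 542 j)) (Nat.ble 540 j))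
noncomputable def chA_n0_68 (j : ℕ) : ℕ := (Bool.rec (motive := fun _ => ℕ) (Bool.rec (motive := fun _ => ℕ) (Bool.rec (motive := fun _ => ℕ) cA_544 cA_545 (Nat.ble 545 j)) (Bool.rec (motive := fun _ => ℕ) cA_546 cA_547 (Nat.ble 547 j)) (Nat.ble 546 j)) (Bool.rec (motive := fun _ => ℕ) (Bool.rec (motive := fun _ => ℕ) cA_548 cA_549 (Nat.ble 549 j)) (Bool.rec (motive := fun _ => ℕ) cA_550 cA_551 (Nat.ble 551 j)) (Nat.ble 550 j)) (Nat.ble 548 j))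
noncomputable def chA_n0_69 (j : ℕ) : ℕ := (Bool.rec (motive := fun _ => ℕ) (Bool.rec (motive := fun _ => ℕ) (Bool.rec (motive := fun _ => ℕ) cA_552 cA_553 (Nat.ble 553 j)) (Bool.rec (motive := fun _ => ℕ) cA_554 cA_555 (Nat.ble 555 j)) (Nat.ble 554 j)) (Bool.rec (motive := fun _ => ℕ) (Bool.rec (motive := fun _ => ℕ) cA_556 cA_557 (Nat.ble 557 j)) (Bool.rec (motive := fun _ => ℕ) cA_558 cA_559 (Nat.ble 559 j)) (Nat.ble 558 j)) (Nat.ble 556 j))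
noncomputable def chA_n0_70 (j : ℕ) : ℕ := (Bool.rec (motive := fun _ => ℕ) (Bool.rec (motive := fun _ => ℕ) (Bool.rec (motive := fun _ => ℕ) cA_560 cA_561 (Nat.ble 561 j)) (Bool.rec (motive := fun _ => ℕ) cA_562 cA_563 (Nat.ble 563 j)) (Nat.ble 562 j)) (Bool.rec (motive := fun _ => ℕ) (Bool.rec (motive := fun _ => ℕ) cA_564 cA_565 (Nat.ble 565 j)) (Bool.rec (motive := fun _ => ℕ) cA_566 cA_567 (Nat.ble 567 j)) (Nat.ble 566 j)) (Nat.ble 564 j))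
noncomputable def chA_n0_71 (j : ℕ) : ℕ := (Bool.rec (motive := fun _ => ℕ) (Bool.rec (motive := fun _ => ℕ) (Bool.rec (motive := fun _ => ℕ) cA_568 cA_569 (Nat.ble 569 j)) (Bool.rec (motive := fun _ => ℕ) cA_570 cA_571 (Nat.ble 571 j)) (Nat.ble 570 j)) (Bool.rec (motive := fun _ => ℕ) (Bool.rec (motive := fun _ => ℕ) cA_572 cA_573 (Nat.ble 573 j)) (Bool.rec (motive := fun _ => ℕ) cA_574 cA_575 (Nat.ble 575 j)) (Nat.ble 574 j)) (Nat.ble 572 j))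
noncomputable def chA_n0_72 (j : ℕ) : ℕ := (Bool.rec (motive := fun _ => ℕ) (Bool.rec (motive := fun _ => ℕ) (Bool.rec (motive := fun _ => ℕ) cA_576 cA_577 (Nat.ble 577 j)) (Bool.rec (motive := fun _ => ℕ) cA_578 cA_579 (Nat.ble 579 j)) (Nat.ble 578 j)) (Bool.rec (motive := fun _ => ℕ) (Bool.rec (motive := fun _ => ℕ) cA_580 cA_581 (Nat.ble 581 j)) (Bool.rec (motive := fun _ => ℕ) cA_582 cA_583 (Nat.ble 583 j)) (Nat.ble 582 j)) (Nat.ble 580 j))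
noncomputable def chA_n0_73 (j : ℕ) : ℕ := (Bool.rec (motive := fun _ => ℕ) (Bool.rec (motive := fun _ => ℕ) (Bool.rec (motive := fun _ => ℕ) cA_584 cA_585 (Nat.ble 585 j)) (Bool.rec (motive := fun _ => ℕ) cA_586 cA_587 (Nat.ble 587 j)) (Nat.ble 586 j)) (Bool.rec (motive := fun _ => ℕ) (Bool.rec (motive := fun _ => ℕ) cA_588 cA_589 (Nat.ble 589 j)) (Bool.rec (motive := fun _ => ℕ) cA_590 cA_591 (Nat.ble 591 j)) (Nat.ble 590 j)) (Nat.ble 588 j))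
noncomputable def chA_n0_74 (j : ℕ) : ℕ := (Bool.rec (motive := fun _ => ℕ) (Bool.rec (motive := fun _ => ℕ) (Bool.rec (motive := fun _ => ℕ) cA_592 cA_593 (Nat.ble 593 j)) (Bool.rec (motive := fun _ => ℕ) cA_594 cA_595 (Nat.ble 595 j)) (Nat.ble 594 j)) (Bool.rec (motive := fun _ => ℕ) (Bool.rec (motive := fun _ => ℕ) cA_596 cA_597 (Nat.ble 597 j)) (Bool.rec (motive := fun _ => ℕ) cA_598 cA_599 (Nat.ble 599 j)) (Nat.ble 598 j)) (Nat.ble 596 j))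
noncomputable def chA_n0_75 (j : ℕ) : ℕ := (Bool.rec (motive := fun _ => ℕ) (Bool.rec (motive := fun _ => ℕ) (Bool.rec (motive := fun _ => ℕ) cA_600 cA_601 (Nat.ble 601 j)) (Bool.rec (motive := fun _ => ℕ) cA_602 cA_603 (Nat.ble 603 j)) (Nat.ble 602 j)) (Bool.rec (motive := fun _ => ℕ) (Bool.rec (motive := fun _ => ℕ) cA_604 cA_605 (Nat.ble 605 j)) (Bool.rec (motive := fun _ => ℕ) cA_606 cA_607 (Nat.ble 607 j)) (Nat.ble 606 j)) (Nat.ble 604 j))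
noncomputable def chA_n0_76 (j : ℕ) : ℕ := (Bool.rec (motive := fun _ => ℕ) (Bool.rec (motive := fun _ => ℕ) (Bool.rec (motive := fun _ => ℕ) cA_608 cA_609 (Nat.ble 609 j)) (Bool.rec (motive := fun _ => ℕ) cA_610 cA_611 (Nat.ble 611 j)) (Nat.ble 610 j)) (Bool.rec (motive := fun _ => ℕ) (Bool.rec (motive := fun _ => ℕ) cA_612 cA_613 (Nat.ble 613 j)) (Bool.rec (motive := fun _ => ℕ) cA_614 cA_615 (Nat.ble 615 j)) (Nat.ble 614 j)) (Nat.ble 612 j))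
noncomputable def chA_n0_77 (j : ℕ) : ℕ := (Bool.rec (motive := fun _ => ℕ) (Bool.rec (motive := fun _ => ℕ) (Bool.rec (motive := fun _ => ℕ) cA_616 cA_617 (Nat.ble 617 j)) (Bool.rec (motive := fun _ => ℕ) cA_618 cA_619 (Nat.ble 619 j)) (Nat.ble 618 j)) (Bool.rec (motive := fun _ => ℕ) (Bool.rec (motive := fun _ => ℕ) cA_620 cA_621 (Nat.ble 621 j)) (Bool.rec (motive := fun _ => ℕ) cA_622 cA_623 (Nat.ble 623 j)) (Nat.ble 622 j)) (Nat.ble 620 j))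
noncomputable def chA_n0_78 (j : ℕ) : ℕ := (Bool.rec (motive := fun _ => ℕ) (Bool.rec (motive := fun _ => ℕ) (Bool.rec (motive := fun _ => ℕ) cA_624 cA_625 (Nat.ble 625 j)) (Bool.rec (motive := fun _ => ℕ) cA_626 cA_627 (Nat.ble 627 j)) (Nat.ble 626 j)) (Bool.rec (motive := fun _ => ℕ) (Bool.rec (motive := fun _ => ℕ) cA_628 cA_629 (Nat.ble 629 j)) (Bool.rec (motive := fun _ => ℕ) cA_630 cA_631 (Nat.ble 631 j)) (Nat.ble 630 j)) (Nat.ble 628 j))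
noncomputable def chA_n0_79 (j : ℕ) : ℕ := (Bool.rec (motive := fun _ => ℕ) (Bool.rec (motive := fun _ => ℕ) (Bool.rec (motive := fun _ => ℕ) cA_632 cA_633 (Nat.ble 633 j)) (Bool.rec (motive := fun _ => ℕ) cA_634 cA_635 (Nat.ble 635 j)) (Nat.ble 634 j)) (Bool.rec (motive := fun _ => ℕ) (Bool.rec (motive := fun _ => ℕ) cA_636 cA_637 (Nat.ble 637 j)) (Bool.rec (motive := fun _ => ℕ) cA_638 cA_639 (Nat.ble 639 j)) (Nat.ble 638 j)) (Nat.ble 636 j))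
noncomputable def chA_n0_80 (j : ℕ) : ℕ := (Bool.rec (motive := fun _ => ℕ) (Bool.rec (motive := fun _ => ℕ) (Bool.rec (motive := fun _ => ℕ) cA_640 cA_641 (Nat.ble 641 j)) (Bool.rec (motive := fun _ => ℕ) cA_642 cA_643 (Nat.ble 643 j)) (Nat.ble 642 j)) (Bool.rec (motive := fun _ => ℕ) (Bool.rec (motive := fun _ => ℕ) cA_644 cA_645 (Nat.ble 645 j)) (Bool.rec (motive := fun _ => ℕ) cA_646 cA_647 (Nat.ble 647 j)) (Nat.ble 646 j)) (Nat.ble 644 j))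
noncomputable def chA_n0_81 (j : ℕ) : ℕ := (Bool.rec (motive := fun _ => ℕ) (Bool.rec (motive := fun _ => ℕ) (Bool.rec (motive := fun _ => ℕ) cA_648 cA_649 (Nat.ble 649 j)) (Bool.rec (motive := fun _ => ℕ) cA_650 cA_651 (Nat.ble 651 j)) (Nat.ble 650 j)) (Bool.rec (motive := fun _ => ℕ) (Bool.rec (motive := fun _ => ℕ) cA_652 cA_653 (Nat.ble 653 j)) (Bool.rec (motive := fun _ => ℕ) cA_654 cA_655 (Nat.ble 655 j)) (Nat.ble 654 j)) (Nat.ble 652 j))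
noncomputable def chA_n0_82 (j : ℕ) : ℕ := (Bool.rec (motive := fun _ => ℕ) (Bool.rec (motive := fun _ => ℕ) (Bool.rec (motive := fun _ => ℕ) cA_656 cA_657 (Nat.ble 657 j)) (Bool.rec (motive := fun _ => ℕ) cA_658 cA_659 (Nat.ble 659 j)) (Nat.ble 658 j)) (Bool.rec (motive := fun _ => ℕ) (Bool.rec (motive := fun _ => ℕ) cA_660 cA_661 (Nat.ble 661 j)) (Bool.rec (motive := fun _ => ℕ) cA_662 cA_663 (Nat.ble 663 j)) (Nat.ble 662 j)) (Nat.ble 660 j))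
noncomputable def chA_n0_83 (j : ℕ) : ℕ := (Bool.rec (motive := fun _ => ℕ) (Bool.rec (motive := fun _ => ℕ) (Bool.rec (motive := fun _ => ℕ) cA_664 cA_665 (Nat.ble 665 j)) (Bool.rec (motive := fun _ => ℕ) cA_666 cA_667 (Nat.ble 667 j)) (Nat.ble 666 j)) (Bool.rec (motive := fun _ => ℕ) (Bool.rec (motive := fun _ => ℕ) cA_668 cA_669 (Nat.ble 669 j)) (Bool.rec (motive := fun _ => ℕ) cA_670 cA_671 (Nat.ble 671 j)) (Nat.ble 670 j)) (Nat.ble 668 j))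
noncomputable def chA_n0_84 (j : ℕ) : ℕ := (Bool.rec (motive := fun _ => ℕ) (Bool.rec (motive := fun _ => ℕ) (Bool.rec (motive := fun _ => ℕ) cA_672 cA_673 (Nat.ble 673 j)) (Bool.rec (motive := fun _ => ℕ) cA_674 cA_675 (Nat.ble 675 j)) (Nat.ble 674 j)) (Bool.rec (motive := fun _ => ℕ) (Bool.rec (motive := fun _ => ℕ) cA_676 cA_677 (Nat.ble 677 j)) (Bool.rec (motive := fun _ => ℕ) cA_678 cA_679 (Nat.ble 679 j)) (Nat.ble 678 j)) (Nat.ble 676 j))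
noncomputable def chA_n0_85 (j : ℕ) : ℕ := (Bool.rec (motive := fun _ => ℕ) (Bool.rec (motive := fun _ => ℕ) (Bool.rec (motive := fun _ => ℕ) cA_680 cA_681 (Nat.ble 681 j)) (Bool.rec (motive := fun _ => ℕ) cA_682 cA_683 (Nat.ble 683 j)) (Nat.ble 682 j)) (Bool.rec (motive := fun _ => ℕ) (Bool.rec (motive := fun _ => ℕ) cA_684 cA_685 (Nat.ble 685 j)) (Bool.rec (motive := fun _ => ℕ) cA_686 cA_687 (Nat.ble 687 j)) (Nat.ble 686 j)) (Nat.ble 684 j))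
noncomputable def chA_n0_86 (j : ℕ) : ℕ := (Bool.rec (motive := fun _ => ℕ) (Bool.rec (motive := fun _ => ℕ) (Bool.rec (motive := fun _ => ℕ) cA_688 cA_689 (Nat.ble 689 j)) (Bool.rec (motive := fun _ => ℕ) cA_690 cA_691 (Nat.ble 691 j)) (Nat.ble 690 j)) (Bool.rec (motive := fun _ => ℕ) (Bool.rec (motive := fun _ => ℕ) cA_692 cA_693 (Nat.ble 693 j)) (Bool.rec (motive := fun _ => ℕ) cA_694 cA_695 (Nat.ble 695 j)) (Nat.ble 694 j)) (Nat.ble 692 j))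
noncomputable def chA_n0_87 (j : ℕ) : ℕ := (Bool.rec (motive := fun _ => ℕ) (Bool.rec (motive := fun _ => ℕ) (Bool.rec (motive := fun _ => ℕ) cA_696 cA_697 (Nat.ble 697 j)) (Bool.rec (motive := fun _ => ℕ) cA_698 cA_699 (Nat.ble 699 j)) (Nat.ble 698 j)) (Bool.rec (motive := fun _ => ℕ) (Bool.rec (motive := fun _ => ℕ) cA_700 cA_701 (Nat.ble 701 j)) (Bool.rec (motive := fun _ => ℕ) cA_702 cA_703 (Nat.ble 703 j)) (Nat.ble 702 j)) (Nat.ble 700 j))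
noncomputable def chA_n0_88 (j : ℕ) : ℕ := (Bool.rec (motive := fun _ => ℕ) (Bool.rec (motive := fun _ => ℕ) (Bool.rec (motive := fun _ => ℕ) cA_704 cA_705 (Nat.ble 705 j)) (Bool.rec (motive := fun _ => ℕ) cA_706 cA_707 (Nat.ble 707 j)) (Nat.ble 706 j)) (Bool.rec (motive := fun _ => ℕ) (Bool.rec (motive := fun _ => ℕ) cA_708 cA_709 (Nat.ble 709 j)) (Bool.rec (motive := fun _ => ℕ) cA_710 cA_711 (Nat.ble 711 j)) (Nat.ble 710 j)) (Nat.ble 708 j))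
noncomputable def chA_n0_89 (j : ℕ) : ℕ := (Bool.rec (motive := fun _ => ℕ) (Bool.rec (motive := fun _ => ℕ) (Bool.rec (motive := fun _ => ℕ) cA_712 cA_713 (Nat.ble 713 j)) (Bool.rec (motive := fun _ => ℕ) cA_714 cA_715 (Nat.ble 715 j)) (Nat.ble 714 j)) (Bool.rec (motive := fun _ => ℕ) (Bool.rec (motive := fun _ => ℕ) cA_716 cA_717 (Nat.ble 717 j)) (Bool.rec (motive := fun _ => ℕ) cA_718 cA_719 (Nat.ble 719 j)) (Nat.ble 718 j)) (Nat.ble 716 j))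
noncomputable def chA_n0_90 (j : ℕ) : ℕ := (Bool.rec (motive := fun _ => ℕ) (Bool.rec (motive := fun _ => ℕ) (Bool.rec (motive := fun _ => ℕ) cA_720 cA_721 (Nat.ble 721 j)) (Bool.rec (motive := fun _ => ℕ) cA_722 cA_723 (Nat.ble 723 j)) (Nat.ble 722 j)) (Bool.rec (motive := fun _ => ℕ) (Bool.rec (motive := fun _ => ℕ) cA_724 cA_725 (Nat.ble 725 j)) (Bool.rec (motive := fun _ => ℕ) cA_726 cA_727 (Nat.ble 727 j)) (Nat.ble 726 j)) (Nat.ble 724 j))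
noncomputable def chA_n0_91 (j : ℕ) : ℕ := (Bool.rec (motive := fun _ => ℕ) (Bool.rec (motive := fun _ => ℕ) (Bool.rec (motive := fun _ => ℕ) cA_728 cA_729 (Nat.ble 729 j)) (Bool.rec (motive := fun _ => ℕ) cA_730 cA_731 (Nat.ble 731 j)) (Nat.ble 730 j)) (Bool.rec (motive := fun _ => ℕ) (Bool.rec (motive := fun _ => ℕ) cA_732 cA_733 (Nat.ble 733 j)) (Bool.rec (motive := fun _ => ℕ) cA_734 cA_735 (Nat.ble 735 j)) (Nat.ble 734 j)) (Nat.ble 732 j))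
noncomputable def chA_n0_92 (j : ℕ) : ℕ := (Bool.rec (motive := fun _ => ℕ) (Bool.rec (motive := fun _ => ℕ) (Bool.rec (motive := fun _ => ℕ) cA_736 cA_737 (Nat.ble 737 j)) (Bool.rec (motive := fun _ => ℕ) cA_738 cA_739 (Nat.ble 739 j)) (Nat.ble 738 j)) (Bool.rec (motive := fun _ => ℕ) (Bool.rec (motive := fun _ => ℕ) cA_740 cA_741 (Nat.ble 741 j)) (Bool.rec (motive := fun _ => ℕ) cA_742 cA_743 (Nat.ble 743 j)) (Nat.ble 742 j)) (Nat.ble 740 j))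
noncomputable def chA_n0_93 (j : ℕ) : ℕ := (Bool.rec (motive := fun _ => ℕ) (Bool.rec (motive := fun _ => ℕ) (Bool.rec (motive := fun _ => ℕ) cA_744 cA_745 (Nat.ble 745 j)) (Bool.rec (motive := fun _ => ℕ) cA_746 cA_747 (Nat.ble 747 j)) (Nat.ble 746 j)) (Bool.rec (motive := fun _ => ℕ) (Bool.rec (motive := fun _ => ℕ) cA_748 cA_749 (Nat.ble 749 j)) (Bool.rec (motive := fun _ => ℕ) cA_750 cA_751 (Nat.ble 751 j)) (Nat.ble 750 j)) (Nat.ble 748 j))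
noncomputable def chA_n0_94 (j : ℕ) : ℕ := (Bool.rec (motive := fun _ => ℕ) (Bool.rec (motive := fun _ => ℕ) (Bool.rec (motive := fun _ => ℕ) cA_752 cA_753 (Nat.ble 753 j)) (Bool.rec (motive := fun _ => ℕ) cA_754 cA_755 (Nat.ble 755 j)) (Nat.ble 754 j)) (Bool.rec (motive := fun _ => ℕ) (Bool.rec (motive := fun _ => ℕ) cA_756 cA_757 (Nat.ble 757 j)) (Bool.rec (motive := fun _ => ℕ) cA_758 cA_759 (Nat.ble 759 j)) (Nat.ble 758 j)) (Nat.ble 756 j))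
noncomputable def chA_n0_95 (j : ℕ) : ℕ := (Bool.rec (motive := fun _ => ℕ) (Bool.rec (motive := fun _ => ℕ) (Bool.rec (motive := fun _ => ℕ) cA_760 cA_761 (Nat.ble 761 j)) (Bool.rec (motive := fun _ => ℕ) cA_762 cA_763 (Nat.ble 763 j)) (Nat.ble 762 j)) (Bool.rec (motive := fun _ => ℕ) (Bool.rec (motive := fun _ => ℕ) cA_764 cA_765 (Nat.ble 765 j)) (Bool.rec (motive := fun _ => ℕ) cA_766 cA_767 (Nat.ble 767 j)) (Nat.ble 766 j)) (Nat.ble 764 j))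
noncomputable def chA_n0_96 (j : ℕ) : ℕ := (Bool.rec (motive := fun _ => ℕ) (Bool.rec (motive := fun _ => ℕ) (Bool.rec (motive := fun _ => ℕ) cA_768 cA_769 (Nat.ble 769 j)) (Bool.rec (motive := fun _ => ℕ) cA_770 cA_771 (Nat.ble 771 j)) (Nat.ble 770 j)) (Bool.rec (motive := fun _ => ℕ) (Bool.rec (motive := fun _ => ℕ) cA_772 cA_773 (Nat.ble 773 j)) (Bool.rec (motive := fun _ => ℕ) cA_774 cA_775 (Nat.ble 775 j)) (Nat.ble 774 j)) (Nat.ble 772 j))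
noncomputable def chA_n0_97 (j : ℕ) : ℕ := (Bool.rec (motive := fun _ => ℕ) (Bool.rec (motive := fun _ => ℕ) (Bool.rec (motive := fun _ => ℕ) cA_776 cA_777 (Nat.ble 777 j)) (Bool.rec (motive := fun _ => ℕ) cA_778 cA_779 (Nat.ble 779 j)) (Nat.ble 778 j)) (Bool.rec (motive := fun _ => ℕ) (Bool.rec (motive := fun _ => ℕ) cA_780 cA_781 (Nat.ble 781 j)) (Bool.rec (motive := fun _ => ℕ) cA_782 cA_783 (Nat.ble 783 j)) (Nat.ble 782 j)) (Nat.ble 780 j))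
noncomputable def chA_n0_98 (j : ℕ) : ℕ := (Bool.rec (motive := fun _ => ℕ) (Bool.rec (motive := fun _ => ℕ) (Bool.rec (motive := fun _ => ℕ) cA_784 cA_785 (Nat.ble 785 j)) (Bool.rec (motive := fun _ => ℕ) cA_786 cA_787 (Nat.ble 787 j)) (Nat.ble 786 j)) (Bool.rec (motive := fun _ => ℕ) (Bool.rec (motive := fun _ => ℕ) cA_788 cA_789 (Nat.ble 789 j)) (Bool.rec (motive := fun _ => ℕ) cA_790 cA_791 (Nat.ble 791 j)) (Nat.ble 790 j)) (Nat.ble 788 j))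
noncomputable def chA_n0_99 (j : ℕ) : ℕ := (Bool.rec (motive := fun _ => ℕ) (Bool.rec (motive := fun _ => ℕ) (Bool.rec (motive := fun _ => ℕ) cA_792 cA_793 (Nat.ble 793 j)) (Bool.rec (motive := fun _ => ℕ) cA_794 cA_795 (Nat.ble 795 j)) (Nat.ble 794 j)) (Bool.rec (motive := fun _ => ℕ) (Bool.rec (motive := fun _ => ℕ) cA_796 cA_797 (Nat.ble 797 j)) (Bool.rec (motive := fun _ => ℕ) cA_798 cA_799 (Nat.ble 799 j)) (Nat.ble 798 j)) (Nat.ble 796 j))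
noncomputable def chA_n0_100 (j : ℕ) : ℕ := (Bool.rec (motive := fun _ => ℕ) (Bool.rec (motive := fun _ => ℕ) (Bool.rec (motive := fun _ => ℕ) cA_800 cA_801 (Nat.ble 801 j)) (Bool.rec (motive := fun _ => ℕ) cA_802 cA_803 (Nat.ble 803 j)) (Nat.ble 802 j)) (Bool.rec (motive := fun _ => ℕ) (Bool.rec (motive := fun _ => ℕ) cA_804 cA_805 (Nat.ble 805 j)) (Bool.rec (motive := fun _ => ℕ) cA_806 cA_807 (Nat.ble 807 j)) (Nat.ble 806 j)) (Nat.ble 804 j))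
noncomputable def chA_n0_101 (j : ℕ) : ℕ := (Bool.rec (motive := fun _ => ℕ) (Bool.rec (motive := fun _ => ℕ) (Bool.rec (motive := fun _ => ℕ) cA_808 cA_809 (Nat.ble 809 j)) (Bool.rec (motive := fun _ => ℕ) cA_810 cA_811 (Nat.ble 811 j)) (Nat.ble 810 j)) (Bool.rec (motive := fun _ => ℕ) (Bool.rec (motive := fun _ => ℕ) cA_812 cA_813 (Nat.ble 813 j)) (Bool.rec (motive := fun _ => ℕ) cA_814 cA_815 (Nat.ble 815 j)) (Nat.ble 814 j)) (Nat.ble 812 j))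
noncomputable def chA_n0_102 (j : ℕ) : ℕ := (Bool.rec (motive := fun _ => ℕ) (Bool.rec (motive := fun _ => ℕ) (Bool.rec (motive := fun _ => ℕ) cA_816 cA_817 (Nat.ble 817 j)) (Bool.rec (motive := fun _ => ℕ) cA_818 cA_819 (Nat.ble 819 j)) (Nat.ble 818 j)) (Bool.rec (motive := fun _ => ℕ) (Bool.rec (motive := fun _ => ℕ) cA_820 cA_821 (Nat.ble 821 j)) (Bool.rec (motive := fun _ => ℕ) cA_822 cA_823 (Nat.ble 823 j)) (Nat.ble 822 j)) (Nat.ble 820 j))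
noncomputable def chA_n0_103 (j : ℕ) : ℕ := (Bool.rec (motive := fun _ => ℕ) (Bool.rec (motive := fun _ => ℕ) (Bool.rec (motive := fun _ => ℕ) cA_824 cA_825 (Nat.ble 825 j)) (Bool.rec (motive := fun _ => ℕ) cA_826 cA_827 (Nat.ble 827 j)) (Nat.ble 826 j)) (Bool.rec (motive := fun _ => ℕ) (Bool.rec (motive := fun _ => ℕ) cA_828 cA_829 (Nat.ble 829 j)) (Bool.rec (motive := fun _ => ℕ) cA_830 cA_831 (Nat.ble 831 j)) (Nat.ble 830 j)) (Nat.ble 828 j))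
noncomputable def chA_n0_104 (j : ℕ) : ℕ := (Bool.rec (motive := fun _ => ℕ) (Bool.rec (motive := fun _ => ℕ) (Bool.rec (motive := fun _ => ℕ) cA_832 cA_833 (Nat.ble 833 j)) (Bool.rec (motive := fun _ => ℕ) cA_834 cA_835 (Nat.ble 835 j)) (Nat.ble 834 j)) (Bool.rec (motive := fun _ => ℕ) (Bool.rec (motive := fun _ => ℕ) cA_836 cA_837 (Nat.ble 837 j)) (Bool.rec (motive := fun _ => ℕ) cA_838 cA_839 (Nat.ble 839 j)) (Nat.ble 838 j)) (Nat.ble 836 j))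
noncomputable def chA_n0_105 (j : ℕ) : ℕ := (Bool.rec (motive := fun _ => ℕ) (Bool.rec (motive := fun _ => ℕ) (Bool.rec (motive := fun _ => ℕ) cA_840 cA_841 (Nat.ble 841 j)) (Bool.rec (motive := fun _ => ℕ) cA_842 cA_843 (Nat.ble 843 j)) (Nat.ble 842 j)) (Bool.rec (motive := fun _ => ℕ) (Bool.rec (motive := fun _ => ℕ) cA_844 cA_845 (Nat.ble 845 j)) (Bool.rec (motive := fun _ => ℕ) cA_846 cA_847 (Nat.ble 847 j)) (Nat.ble 846 j)) (Nat.ble 844 j))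
noncomputable def chA_n0_106 (j : ℕ) : ℕ := (Bool.rec (motive := fun _ => ℕ) (Bool.rec (motive := fun _ => ℕ) (Bool.rec (motive := fun _ => ℕ) cA_848 cA_849 (Nat.ble 849 j)) (Bool.rec (motive := fun _ => ℕ) cA_850 cA_851 (Nat.ble 851 j)) (Nat.ble 850 j)) (Bool.rec (motive := fun _ => ℕ) (Bool.rec (motive := fun _ => ℕ) cA_852 cA_853 (Nat.ble 853 j)) (Bool.rec (motive := fun _ => ℕ) cA_854 cA_855 (Nat.ble 855 j)) (Nat.ble 854 j)) (Nat.ble 852 j))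
noncomputable def chA_n0_107 (j : ℕ) : ℕ := (Bool.rec (motive := fun _ => ℕ) (Bool.rec (motive := fun _ => ℕ) (Bool.rec (motive := fun _ => ℕ) cA_856 cA_857 (Nat.ble 857 j)) (Bool.rec (motive := fun _ => ℕ) cA_858 cA_859 (Nat.ble 859 j)) (Nat.ble 858 j)) (Bool.rec (motive := fun _ => ℕ) (Bool.rec (motive := fun _ => ℕ) cA_860 cA_861 (Nat.ble 861 j)) (Bool.rec (motive := fun _ => ℕ) cA_862 cA_863 (Nat.ble 863 j)) (Nat.ble 862 j)) (Nat.ble 860 j))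
noncomputable def chA_n0_108 (j : ℕ) : ℕ := (Bool.rec (motive := fun _ => ℕ) (Bool.rec (motive := fun _ => ℕ) (Bool.rec (motive := fun _ => ℕ) cA_864 cA_865 (Nat.ble 865 j)) (Bool.rec (motive := fun _ => ℕ) cA_866 cA_867 (Nat.ble 867 j)) (Nat.ble 866 j)) (Bool.rec (motive := fun _ => ℕ) (Bool.rec (motive := fun _ => ℕ) cA_868 cA_869 (Nat.ble 869 j)) (Bool.rec (motive := fun _ => ℕ) cA_870 cA_871 (Nat.ble 871 j)) (Nat.ble 870 j)) (Nat.ble 868 j))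
noncomputable def chA_n0_109 (j : ℕ) : ℕ := (Bool.rec (motive := fun _ => ℕ) (Bool.rec (motive := fun _ => ℕ) (Bool.rec (motive := fun _ => ℕ) cA_872 cA_873 (Nat.ble 873 j)) (Bool.rec (motive := fun _ => ℕ) cA_874 cA_875 (Nat.ble 875 j)) (Nat.ble 874 j)) (Bool.rec (motive := fun _ => ℕ) (Bool.rec (motive := fun _ => ℕ) cA_876 cA_877 (Nat.ble 877 j)) (Bool.rec (motive := fun _ => ℕ) cA_878 cA_879 (Nat.ble 879 j)) (Nat.ble 878 j)) (Nat.ble 876 j))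
noncomputable def chA_n0_110 (j : ℕ) : ℕ := (Bool.rec (motive := fun _ => ℕ) (Bool.rec (motive := fun _ => ℕ) (Bool.rec (motive := fun _ => ℕ) cA_880 cA_881 (Nat.ble 881 j)) (Bool.rec (motive := fun _ => ℕ) cA_882 cA_883 (Nat.ble 883 j)) (Nat.ble 882 j)) (Bool.rec (motive := fun _ => ℕ) (Bool.rec (motive := fun _ => ℕ) cA_884 cA_885 (Nat.ble 885 j)) (Bool.rec (motive := fun _ => ℕ) cA_886 cA_887 (Nat.ble 887 j)) (Nat.ble 886 j)) (Nat.ble 884 j))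
noncomputable def chA_n0_111 (j : ℕ) : ℕ := (Bool.rec (motive := fun _ => ℕ) (Bool.rec (motive := fun _ => ℕ) (Bool.rec (motive := fun _ => ℕ) cA_888 cA_889 (Nat.ble 889 j)) (Bool.rec (motive := fun _ => ℕ) cA_890 cA_891 (Nat.ble 891 j)) (Nat.ble 890 j)) (Bool.rec (motive := fun _ => ℕ) (Bool.rec (motive := fun _ => ℕ) cA_892 cA_893 (Nat.ble 893 j)) (Bool.rec (motive := fun _ => ℕ) cA_894 cA_895 (Nat.ble 895 j)) (Nat.ble 894 j)) (Nat.ble 892 j))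
noncomputable def chA_n0_112 (j : ℕ) : ℕ := (Bool.rec (motive := fun _ => ℕ) (Bool.rec (motive := fun _ => ℕ) (Bool.rec (motive := fun _ => ℕ) cA_896 cA_897 (Nat.ble 897 j)) (Bool.rec (motive := fun _ => ℕ) cA_898 cA_899 (Nat.ble 899 j)) (Nat.ble 898 j)) (Bool.rec (motive := fun _ => ℕ) (Bool.rec (motive := fun _ => ℕ) cA_900 cA_901 (Nat.ble 901 j)) (Bool.rec (motive := fun _ => ℕ) cA_902 cA_903 (Nat.ble 903 j)) (Nat.ble 902 j)) (Nat.ble 900 j))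
noncomputable def chA_n0_113 (j : ℕ) : ℕ := (Bool.rec (motive := fun _ => ℕ) (Bool.rec (motive := fun _ => ℕ) (Bool.rec (motive := fun _ => ℕ) cA_904 cA_905 (Nat.ble 905 j)) (Bool.rec (motive := fun _ => ℕ) cA_906 cA_907 (Nat.ble 907 j)) (Nat.ble 906 j)) (Bool.rec (motive := fun _ => ℕ) (Bool.rec (motive := fun _ => ℕ) cA_908 cA_909 (Nat.ble 909 j)) (Bool.rec (motive := fun _ => ℕ) cA_910 cA_911 (Nat.ble 911 j)) (Nat.ble 910 j)) (Nat.ble 908 j))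
noncomputable def chA_n0_114 (j : ℕ) : ℕ := (Bool.rec (motive := fun _ => ℕ) (Bool.rec (motive := fun _ => ℕ) (Bool.rec (motive := fun _ => ℕ) cA_912 cA_913 (Nat.ble 913 j)) (Bool.rec (motive := fun _ => ℕ) cA_914 cA_915 (Nat.ble 915 j)) (Nat.ble 914 j)) (Bool.rec (motive := fun _ => ℕ) (Bool.rec (motive := fun _ => ℕ) cA_916 cA_917 (Nat.ble 917 j)) (Bool.rec (motive := fun _ => ℕ) cA_918 cA_919 (Nat.ble 919 j)) (Nat.ble 918 j)) (Nat.ble 916 j))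
noncomputable def chA_n0_115 (j : ℕ) : ℕ := (Bool.rec (motive := fun _ => ℕ) (Bool.rec (motive := fun _ => ℕ) (Bool.rec (motive := fun _ => ℕ) cA_920 cA_921 (Nat.ble 921 j)) (Bool.rec (motive := fun _ => ℕ) cA_922 cA_923 (Nat.ble 923 j)) (Nat.ble 922 j)) (Bool.rec (motive := fun _ => ℕ) (Bool.rec (motive := fun _ => ℕ) cA_924 cA_925 (Nat.ble 925 j)) (Bool.rec (motive := fun _ => ℕ) cA_926 cA_927 (Nat.ble 927 j)) (Nat.ble 926 j)) (Nat.ble 924 j))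
noncomputable def chA_n0_116 (j : ℕ) : ℕ := (Bool.rec (motive := fun _ => ℕ) (Bool.rec (motive := fun _ => ℕ) (Bool.rec (motive := fun _ => ℕ) cA_928 cA_929 (Nat.ble 929 j)) (Bool.rec (motive := fun _ => ℕ) cA_930 cA_931 (Nat.ble 931 j)) (Nat.ble 930 j)) (Bool.rec (motive := fun _ => ℕ) (Bool.rec (motive := fun _ => ℕ) cA_932 cA_933 (Nat.ble 933 j)) (Bool.rec (motive := fun _ => ℕ) cA_934 cA_935 (Nat.ble 935 j)) (Nat.ble 934 j)) (Nat.ble 932 j))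
noncomputable def chA_n0_117 (j : ℕ) : ℕ := (Bool.rec (motive := fun _ => ℕ) (Bool.rec (motive := fun _ => ℕ) (Bool.rec (motive := fun _ => ℕ) cA_936 cA_937 (Nat.ble 937 j)) (Bool.rec (motive := fun _ => ℕ) cA_938 cA_939 (Nat.ble 939 j)) (Nat.ble 938 j)) (Bool.rec (motive := fun _ => ℕ) (Bool.rec (motive := fun _ => ℕ) cA_940 cA_941 (Nat.ble 941 j)) (Bool.rec (motive := fun _ => ℕ) cA_942 cA_943 (Nat.ble 943 j)) (Nat.ble 942 j)) (Nat.ble 940 j))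
noncomputable def chA_n0_118 (j : ℕ) : ℕ := (Bool.rec (motive := fun _ => ℕ) (Bool.rec (motive := fun _ => ℕ) (Bool.rec (motive := fun _ => ℕ) cA_944 cA_945 (Nat.ble 945 j)) (Bool.rec (motive := fun _ => ℕ) cA_946 cA_947 (Nat.ble 947 j)) (Nat.ble 946 j)) (Bool.rec (motive := fun _ => ℕ) (Bool.rec (motive := fun _ => ℕ) cA_948 cA_949 (Nat.ble 949 j)) (Bool.rec (motive := fun _ => ℕ) cA_950 cA_951 (Nat.ble 951 j)) (Nat.ble 950 j)) (Nat.ble 948 j))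
noncomputable def chA_n0_119 (j : ℕ) : ℕ := (Bool.rec (motive := fun _ => ℕ) (Bool.rec (motive := fun _ => ℕ) (Bool.rec (motive := fun _ => ℕ) cA_952 cA_953 (Nat.ble 953 j)) (Bool.rec (motive := fun _ => ℕ) cA_954 cA_955 (Nat.ble 955 j)) (Nat.ble 954 j)) (Bool.rec (motive := fun _ => ℕ) (Bool.rec (motive := fun _ => ℕ) cA_956 cA_957 (Nat.ble 957 j)) (Bool.rec (motive := fun _ => ℕ) cA_958 cA_959 (Nat.ble 959 j)) (Nat.ble 958 j)) (Nat.ble 956 j))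
noncomputable def chA_n0_120 (j : ℕ) : ℕ := (Bool.rec (motive := fun _ => ℕ) (Bool.rec (motive := fun _ => ℕ) (Bool.rec (motive := fun _ => ℕ) cA_960 cA_961 (Nat.ble 961 j)) (Bool.rec (motive := fun _ => ℕ) cA_962 cA_963 (Nat.ble 963 j)) (Nat.ble 962 j)) (Bool.rec (motive := fun _ => ℕ) (Bool.rec (motive := fun _ => ℕ) cA_964 cA_965 (Nat.ble 965 j)) (Bool.rec (motive := fun _ => ℕ) cA_966 cA_967 (Nat.ble 967 j)) (Nat.ble 966 j)) (Nat.ble 964 j))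
noncomputable def chA_n0_121 (j : ℕ) : ℕ := (Bool.rec (motive := fun _ => ℕ) (Bool.rec (motive := fun _ => ℕ) (Bool.rec (motive := fun _ => ℕ) cA_968 cA_969 (Nat.ble 969 j)) (Bool.rec (motive := fun _ => ℕ) cA_970 cA_971 (Nat.ble 971 j)) (Nat.ble 970 j)) (Bool.rec (motive := fun _ => ℕ) (Bool.rec (motive := fun _ => ℕ) cA_972 cA_973 (Nat.ble 973 j)) (Bool.rec (motive := fun _ => ℕ) cA_974 cA_975 (Nat.ble 975 j)) (Nat.ble 974 j)) (Nat.ble 972 j))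
noncomputable def chA_n0_122 (j : ℕ) : ℕ := (Bool.rec (motive := fun _ => ℕ) (Bool.rec (motive := fun _ => ℕ) (Bool.rec (motive := fun _ => ℕ) cA_976 cA_977 (Nat.ble 977 j)) (Bool.rec (motive := fun _ => ℕ) cA_978 cA_979 (Nat.ble 979 j)) (Nat.ble 978 j)) (Bool.rec (motive := fun _ => ℕ) (Bool.rec (motive := fun _ => ℕ) cA_980 cA_981 (Nat.ble 981 j)) (Bool.rec (motive := fun _ => ℕ) cA_982 cA_983 (Nat.ble 983 j)) (Nat.ble 982 j)) (Nat.ble 980 j))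
noncomputable def chA_n0_123 (j : ℕ) : ℕ := (Bool.rec (motive := fun _ => ℕ) (Bool.rec (motive := fun _ => ℕ) (Bool.rec (motive := fun _ => ℕ) cA_984 cA_985 (Nat.ble 985 j)) (Bool.rec (motive := fun _ => ℕ) cA_986 cA_987 (Nat.ble 987 j)) (Nat.ble 986 j)) (Bool.rec (motive := fun _ => ℕ) (Bool.rec (motive := fun _ => ℕ) cA_988 cA_989 (Nat.ble 989 j)) (Bool.rec (motive := fun _ => ℕ) cA_990 cA_991 (Nat.ble 991 j)) (Nat.ble 990 j)) (Nat.ble 988 j))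
noncomputable def chA_n0_124 (j : ℕ) : ℕ := (Bool.rec (motive := fun _ => ℕ) (Bool.rec (motive := fun _ => ℕ) (Bool.rec (motive := fun _ => ℕ) cA_992 cA_993 (Nat.ble 993 j)) (Bool.rec (motive := fun _ => ℕ) cA_994 cA_995 (Nat.ble 995 j)) (Nat.ble 994 j)) (Bool.rec (motive := fun _ => ℕ) (Bool.rec (motive := fun _ => ℕ) cA_996 cA_997 (Nat.ble 997 j)) (Bool.rec (motive := fun _ => ℕ) cA_998 cA_999 (Nat.ble 999 j)) (Nat.ble 998 j)) (Nat.ble 996 j))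
noncomputable def chA_n0_125 (j : ℕ) : ℕ := (Bool.rec (motive := fun _ => ℕ) (Bool.rec (motive := fun _ => ℕ) (Bool.rec (motive := fun _ => ℕ) cA_1000 cA_1001 (Nat.ble 1001 j)) (Bool.rec (motive := fun _ => ℕ) cA_1002 cA_1003 (Nat.ble 1003 j)) (Nat.ble 1002 j)) (Bool.rec (motive := fun _ => ℕ) (Bool.rec (motive := fun _ => ℕ) cA_1004 cA_1005 (Nat.ble 1005 j)) (Bool.rec (motive := fun _ => ℕ) cA_1006 cA_1007 (Nat.ble 1007 j)) (Nat.ble 1006 j)) (Nat.ble 1004 j))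
noncomputable def chA_n0_126 (j : ℕ) : ℕ := (Bool.rec (motive := fun _ => ℕ) (Bool.rec (motive := fun _ => ℕ) (Bool.rec (motive := fun _ => ℕ) cA_1008 cA_1009 (Nat.ble 1009 j)) (Bool.rec (motive := fun _ => ℕ) cA_1010 cA_1011 (Nat.ble 1011 j)) (Nat.ble 1010 j)) (Bool.rec (motive := fun _ => ℕ) (Bool.rec (motive := fun _ => ℕ) cA_1012 cA_1013 (Nat.ble 1013 j)) (Bool.rec (motive := fun _ => ℕ) cA_1014 cA_1015 (Nat.ble 1015 j)) (Nat.ble 1014 j)) (Nat.ble 1012 j))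
noncomputable def chA_n0_127 (j : ℕ) : ℕ := (Bool.rec (motive := fun _ => ℕ) (Bool.rec (motive := fun _ => ℕ) (Bool.rec (motive := fun _ => ℕ) cA_1016 cA_1017 (Nat.ble 1017 j)) (Bool.rec (motive := fun _ => ℕ) cA_1018 cA_1019 (Nat.ble 1019 j)) (Nat.ble 1018 j)) (Bool.rec (motive := fun _ => ℕ) (Bool.rec (motive := fun _ => ℕ) cA_1020 cA_1021 (Nat.ble 1021 j)) (Bool.rec (motive := fun _ => ℕ) cA_1022 cA_1023 (Nat.ble 1023 j)) (Nat.ble 1022 j)) (Nat.ble 1020 j))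
noncomputable def chA_n0_128 (j : ℕ) : ℕ := (Bool.rec (motive := fun _ => ℕ) (Bool.rec (motive := fun _ => ℕ) (Bool.rec (motive := fun _ => ℕ) cA_1024 cA_1025 (Nat.ble 1025 j)) (Bool.rec (motive := fun _ => ℕ) cA_1026 cA_1027 (Nat.ble 1027 j)) (Nat.ble 1026 j)) (Bool.rec (motive := fun _ => ℕ) (Bool.rec (motive := fun _ => ℕ) cA_1028 cA_1029 (Nat.ble 1029 j)) (Bool.rec (motive := fun _ => ℕ) cA_1030 cA_1031 (Nat.ble 1031 j)) (Nat.ble 1030 j)) (Nat.ble 1028 j))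
noncomputable def chA_n0_129 (j : ℕ) : ℕ := (Bool.rec (motive := fun _ => ℕ) (Bool.rec (motive := fun _ => ℕ) (Bool.rec (motive := fun _ => ℕ) cA_1032 cA_1033 (Nat.ble 1033 j)) (Bool.rec (motive := fun _ => ℕ) cA_1034 cA_1035 (Nat.ble 1035 j)) (Nat.ble 1034 j)) (Bool.rec (motive := fun _ => ℕ) (Bool.rec (motive := fun _ => ℕ) cA_1036 cA_1037 (Nat.ble 1037 j)) (Bool.rec (motive := fun _ => ℕ) cA_1038 cA_1039 (Nat.ble 1039 j)) (Nat.ble 1038 j)) (Nat.ble 1036 j))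
noncomputable def chA_n0_130 (j : ℕ) : ℕ := (Bool.rec (motive := fun _ => ℕ) (Bool.rec (motive := fun _ => ℕ) (Bool.rec (motive := fun _ => ℕ) cA_1040 cA_1041 (Nat.ble 1041 j)) (Bool.rec (motive := fun _ => ℕ) cA_1042 cA_1043 (Nat.ble 1043 j)) (Nat.ble 1042 j)) (Bool.rec (motive := fun _ => ℕ) (Bool.rec (motive := fun _ => ℕ) cA_1044 cA_1045 (Nat.ble 1045 j)) (Bool.rec (motive := fun _ => ℕ) cA_1046 cA_1047 (Nat.ble 1047 j)) (Nat.ble 1046 j)) (Nat.ble 1044 j))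
noncomputable def chA_n0_131 (j : ℕ) : ℕ := (Bool.rec (motive := fun _ => ℕ) (Bool.rec (motive := fun _ => ℕ) (Bool.rec (motive := fun _ => ℕ) cA_1048 cA_1049 (Nat.ble 1049 j)) (Bool.rec (motive := fun _ => ℕ) cA_1050 cA_1051 (Nat.ble 1051 j)) (Nat.ble 1050 j)) (Bool.rec (motive := fun _ => ℕ) (Bool.rec (motive := fun _ => ℕ) cA_1052 cA_1053 (Nat.ble 1053 j)) (Bool.rec (motive := fun _ => ℕ) cA_1054 cA_1055 (Nat.ble 1055 j)) (Nat.ble 1054 j)) (Nat.ble 1052 j))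
noncomputable def chA_n0_132 (j : ℕ) : ℕ := (Bool.rec (motive := fun _ => ℕ) (Bool.rec (motive := fun _ => ℕ) (Bool.rec (motive := fun _ => ℕ) cA_1056 cA_1057 (Nat.ble 1057 j)) (Bool.rec (motive := fun _ => ℕ) cA_1058 cA_1059 (Nat.ble 1059 j)) (Nat.ble 1058 j)) (Bool.rec (motive := fun _ => ℕ) (Bool.rec (motive := fun _ => ℕ) cA_1060 cA_1061 (Nat.ble 1061 j)) (Bool.rec (motive := fun _ => ℕ) cA_1062 cA_1063 (Nat.ble 1063 j)) (Nat.ble 1062 j)) (Nat.ble 1060 j))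
noncomputable def chA_n0_133 (j : ℕ) : ℕ := (Bool.rec (motive := fun _ => ℕ) (Bool.rec (motive := fun _ => ℕ) (Bool.rec (motive := fun _ => ℕ) cA_1064 cA_1065 (Nat.ble 1065 j)) (Bool.rec (motive := fun _ => ℕ) cA_1066 cA_1067 (Nat.ble 1067 j)) (Nat.ble 1066 j)) (Bool.rec (motive := fun _ => ℕ) (Bool.rec (motive := fun _ => ℕ) cA_1068 cA_1069 (Nat.ble 1069 j)) (Bool.rec (motive := fun _ => ℕ) cA_1070 cA_1071 (Nat.ble 1071 j)) (Nat.ble 1070 j)) (Nat.ble 1068 j))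
noncomputable def chA_n0_134 (j : ℕ) : ℕ := (Bool.rec (motive := fun _ => ℕ) (Bool.rec (motive := fun _ => ℕ) (Bool.rec (motive := fun _ => ℕ) cA_1072 cA_1073 (Nat.ble 1073 j)) (Bool.rec (motive := fun _ => ℕ) cA_1074 cA_1075 (Nat.ble 1075 j)) (Nat.ble 1074 j)) (Bool.rec (motive := fun _ => ℕ) (Bool.rec (motive := fun _ => ℕ) cA_1076 cA_1077 (Nat.ble 1077 j)) (Bool.rec (motive := fun _ => ℕ) cA_1078 cA_1079 (Nat.ble 1079 j)) (Nat.ble 1078 j)) (Nat.ble 1076 j))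
noncomputable def chA_n0_135 (j : ℕ) : ℕ := (Bool.rec (motive := fun _ => ℕ) (Bool.rec (motive := fun _ => ℕ) (Bool.rec (motive := fun _ => ℕ) cA_1080 cA_1081 (Nat.ble 1081 j)) (Bool.rec (motive := fun _ => ℕ) cA_1082 cA_1083 (Nat.ble 1083 j)) (Nat.ble 1082 j)) (Bool.rec (motive := fun _ => ℕ) (Bool.rec (motive := fun _ => ℕ) cA_1084 cA_1085 (Nat.ble 1085 j)) (Bool.rec (motive := fun _ => ℕ) cA_1086 cA_1087 (Nat.ble 1087 j)) (Nat.ble 1086 j)) (Nat.ble 1084 j))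
noncomputable def chA_n0_136 (j : ℕ) : ℕ := (Bool.rec (motive := fun _ => ℕ) (Bool.rec (motive := fun _ => ℕ) (Bool.rec (motive := fun _ => ℕ) cA_1088 cA_1089 (Nat.ble 1089 j)) (Bool.rec (motive := fun _ => ℕ) cA_1090 cA_1091 (Nat.ble 1091 j)) (Nat.ble 1090 j)) (Bool.rec (motive := fun _ => ℕ) (Bool.rec (motive := fun _ => ℕ) cA_1092 cA_1093 (Nat.ble 1093 j)) (Bool.rec (motive := fun _ => ℕ) cA_1094 cA_1095 (Nat.ble 1095 j)) (Nat.ble 1094 j)) (Nat.ble 1092 j))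
noncomputable def chA_n0_137 (j : ℕ) : ℕ := (Bool.rec (motive := fun _ => ℕ) (Bool.rec (motive := fun _ => ℕ) (Bool.rec (motive := fun _ => ℕ) cA_1096 cA_1097 (Nat.ble 1097 j)) (Bool.rec (motive := fun _ => ℕ) cA_1098 cA_1099 (Nat.ble 1099 j)) (Nat.ble 1098 j)) (Bool.rec (motive := fun _ => ℕ) (Bool.rec (motive := fun _ => ℕ) cA_1100 cA_1101 (Nat.ble 1101 j)) (Bool.rec (motive := fun _ => ℕ) cA_1102 cA_1103 (Nat.ble 1103 j)) (Nat.ble 1102 j)) (Nat.ble 1100 j))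
noncomputable def chA_n0_138 (j : ℕ) : ℕ := (Bool.rec (motive := fun _ => ℕ) (Bool.rec (motive := fun _ => ℕ) (Bool.rec (motive := fun _ => ℕ) cA_1104 cA_1105 (Nat.ble 1105 j)) (Bool.rec (motive := fun _ => ℕ) cA_1106 cA_1107 (Nat.ble 1107 j)) (Nat.ble 1106 j)) (Bool.rec (motive := fun _ => ℕ) (Bool.rec (motive := fun _ => ℕ) cA_1108 cA_1109 (Nat.ble 1109 j)) (Bool.rec (motive := fun _ => ℕ) cA_1110 cA_1111 (Nat.ble 1111 j)) (Nat.ble 1110 j)) (Nat.ble 1108 j))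
noncomputable def chA_n1_0 (j : ℕ) : ℕ := (Bool.rec (motive := fun _ => ℕ) (Bool.rec (motive := fun _ => ℕ) (Bool.rec (motive := fun _ => ℕ) (chA_n0_0 j) (chA_n0_1 j) (Nat.ble 8 j)) (Bool.rec (motive := fun _ => ℕ) (chA_n0_2 j) (chA_n0_3 j) (Nat.ble 24 j)) (Nat.ble 16 j)) (Bool.rec (motive := fun _ => ℕ) (Bool.rec (motive := fun _ => ℕ) (chA_n0_4 j) (chA_n0_5 j) (Nat.ble 40 j)) (Bool.rec (motive := fun _ => ℕ) (chA_n0_6 j) (chA_n0_7 j) (Nat.ble 56 j)) (Nat.ble 48 j)) (Nat.ble 32 j))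
noncomputable def chA_n1_1 (j : ℕ) : ℕ := (Bool.rec (motive := fun _ => ℕ) (Bool.rec (motive := fun _ => ℕ) (Bool.rec (motive := fun _ => ℕ) (chA_n0_8 j) (chA_n0_9 j) (Nat.ble 72 j)) (Bool.rec (motive := fun _ => ℕ) (chA_n0_10 j) (chA_n0_11 j) (Nat.ble 88 j)) (Nat.ble 80 j)) (Bool.rec (motive := fun _ => ℕ) (Bool.rec (motive := fun _ => ℕ) (chA_n0_12 j) (chA_n0_13 j) (Nat.ble 104 j)) (Bool.rec (motive := fun _ => ℕ) (chA_n0_14 j) (chA_n0_15 j) (Nat.ble 120 j)) (Nat.ble 112 j)) (Nat.ble 96 j))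
noncomputable def chA_n1_2 (j : ℕ) : ℕ := (Bool.rec (motive := fun _ => ℕ) (Bool.rec (motive := fun _ => ℕ) (Bool.rec (motive := fun _ => ℕ) (chA_n0_16 j) (chA_n0_17 j) (Nat.ble 136 j)) (Bool.rec (motive := fun _ => ℕ) (chA_n0_18 j) (chA_n0_19 j) (Nat.ble 152 j)) (Nat.ble 144 j)) (Bool.rec (motive := fun _ => ℕ) (Bool.rec (motive := fun _ => ℕ) (chA_n0_20 j) (chA_n0_21 j) (Nat.ble 168 j)) (Bool.rec (motive := fun _ => ℕ) (chA_n0_22 j) (chA_n0_23 j) (Nat.ble 184 j)) (Nat.ble 176 j)) (Nat.ble 160 j))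
noncomputable def chA_n1_3 (j : ℕ) : ℕ := (Bool.rec (motive := fun _ => ℕ) (Bool.rec (motive := fun _ => ℕ) (Bool.rec (motive := fun _ => ℕ) (chA_n0_24 j) (chA_n0_25 j) (Nat.ble 200 j)) (Bool.rec (motive := fun _ => ℕ) (chA_n0_26 j) (chA_n0_27 j) (Nat.ble 216 j)) (Nat.ble 208 j)) (Bool.rec (motive := fun _ => ℕ) (Bool.rec (motive := fun _ => ℕ) (chA_n0_28 j) (chA_n0_29 j) (Nat.ble 232 j)) (Bool.rec (motive := fun _ => ℕ) (chA_n0_30 j) (chA_n0_31 j) (Nat.ble 248 j)) (Nat.ble 240 j)) (Nat.ble 224 j))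
noncomputable def chA_n1_4 (j : ℕ) : ℕ := (Bool.rec (motive := fun _ => ℕ) (Bool.rec (motive := fun _ => ℕ) (Bool.rec (motive := fun _ => ℕ) (chA_n0_32 j) (chA_n0_33 j) (Nat.ble 264 j)) (Bool.rec (motive := fun _ => ℕ) (chA_n0_34 j) (chA_n0_35 j) (Nat.ble 280 j)) (Nat.ble 272 j)) (Bool.rec (motive := fun _ => ℕ) (Bool.rec (motive := fun _ => ℕ) (chA_n0_36 j) (chA_n0_37 j) (Nat.ble 296 j)) (Bool.rec (motive := fun _ => ℕ) (chA_n0_38 j) (chA_n0_39 j) (Nat.ble 312 j)) (Nat.ble 304 j)) (Nat.ble 288 j))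
noncomputable def chA_n1_5 (j : ℕ) : ℕ := (Bool.rec (motive := fun _ => ℕ) (Bool.rec (motive := fun _ => ℕ) (Bool.rec (motive := fun _ => ℕ) (chA_n0_40 j) (chA_n0_41 j) (Nat.ble 328 j)) (Bool.rec (motive := fun _ => ℕ) (chA_n0_42 j) (chA_n0_43 j) (Nat.ble 344 j)) (Nat.ble 336 j)) (Bool.rec (motive := fun _ => ℕ) (Bool.rec (motive := fun _ => ℕ) (chA_n0_44 j) (chA_n0_45 j) (Nat.ble 360 j)) (Bool.rec (motive := fun _ => ℕ) (chA_n0_46 j) (chA_n0_47 j) (Nat.ble 376 j)) (Nat.ble 368 j)) (Nat.ble 352 j))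
noncomputable def chA_n1_6 (j : ℕ) : ℕ := (Bool.rec (motive := fun _ => ℕ) (Bool.rec (motive := fun _ => ℕ) (Bool.rec (motive := fun _ => ℕ) (chA_n0_48 j) (chA_n0_49 j) (Nat.ble 392 j)) (Bool.rec (motive := fun _ => ℕ) (chA_n0_50 j) (chA_n0_51 j) (Nat.ble 408 j)) (Nat.ble 400 j)) (Bool.rec (motive := fun _ => ℕ) (Bool.rec (motive := fun _ => ℕ) (chA_n0_52 j) (chA_n0_53 j) (Nat.ble 424 j)) (Bool.rec (motive := fun _ => ℕ) (chA_n0_54 j) (chA_n0_55 j) (Nat.ble 440 j)) (Nat.ble 432 j)) (Nat.ble 416 j))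
noncomputable def chA_n1_7 (j : ℕ) : ℕ := (Bool.rec (motive := fun _ => ℕ) (Bool.rec (motive := fun _ => ℕ) (Bool.rec (motive := fun _ => ℕ) (chA_n0_56 j) (chA_n0_57 j) (Nat.ble 456 j)) (Bool.rec (motive := fun _ => ℕ) (chA_n0_58 j) (chA_n0_59 j) (Nat.ble 472 j)) (Nat.ble 464 j)) (Bool.rec (motive := fun _ => ℕ) (Bool.rec (motive := fun _ => ℕ) (chA_n0_60 j) (chA_n0_61 j) (Nat.ble 488 j)) (Bool.rec (motive := fun _ => ℕ) (chA_n0_62 j) (chA_n0_63 j) (Nat.ble 504 j)) (Nat.ble 496 j)) (Nat.ble 480 j))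
noncomputable def chA_n1_8 (j : ℕ) : ℕ := (Bool.rec (motive := fun _ => ℕ) (Bool.rec (motive := fun _ => ℕ) (Bool.rec (motive := fun _ => ℕ) (chA_n0_64 j) (chA_n0_65 j) (Nat.ble 520 j)) (Bool.rec (motive := fun _ => ℕ) (chA_n0_66 j) (chA_n0_67 j) (Nat.ble 536 j)) (Nat.ble 528 j)) (Bool.rec (motive := fun _ => ℕ) (Bool.rec (motive := fun _ => ℕ) (chA_n0_68 j) (chA_n0_69 j) (Nat.ble 552 j)) (Bool.rec (motive := fun _ => ℕ) (chA_n0_70 j) (chA_n0_71 j) (Nat.ble 568 j)) (Nat.ble 560 j)) (Nat.ble 544 j))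
noncomputable def chA_n1_9 (j : ℕ) : ℕ := (Bool.rec (motive := fun _ => ℕ) (Bool.rec (motive := fun _ => ℕ) (Bool.rec (motive := fun _ => ℕ) (chA_n0_72 j) (chA_n0_73 j) (Nat.ble 584 j)) (Bool.rec (motive := fun _ => ℕ) (chA_n0_74 j) (chA_n0_75 j) (Nat.ble 600 j)) (Nat.ble 592 j)) (Bool.rec (motive := fun _ => ℕ) (Bool.rec (motive := fun _ => ℕ) (chA_n0_76 j) (chA_n0_77 j) (Nat.ble 616 j)) (Bool.rec (motive := fun _ => ℕ) (chA_n0_78 j) (chA_n0_79 j) (Nat.ble 632 j)) (Nat.ble 624 j)) (Nat.ble 608 j))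
noncomputable def chA_n1_10 (j : ℕ) : ℕ := (Bool.rec (motive := fun _ => ℕ) (Bool.rec (motive := fun _ => ℕ) (Bool.rec (motive := fun _ => ℕ) (chA_n0_80 j) (chA_n0_81 j) (Nat.ble 648 j)) (Bool.rec (motive := fun _ => ℕ) (chA_n0_82 j) (chA_n0_83 j) (Nat.ble 664 j)) (Nat.ble 656 j)) (Bool.rec (motive := fun _ => ℕ) (Bool.rec (motive := fun _ => ℕ) (chA_n0_84 j) (chA_n0_85 j) (Nat.ble 680 j)) (Bool.rec (motive := fun _ => ℕ) (chA_n0_86 j) (chA_n0_87 j) (Nat.ble 696 j)) (Nat.ble 688 j)) (Nat.ble 672 j))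
noncomputable def chA_n1_11 (j : ℕ) : ℕ := (Bool.rec (motive := fun _ => ℕ) (Bool.rec (motive := fun _ => ℕ) (Bool.rec (motive := fun _ => ℕ) (chA_n0_88 j) (chA_n0_89 j) (Nat.ble 712 j)) (Bool.rec (motive := fun _ => ℕ) (chA_n0_90 j) (chA_n0_91 j) (Nat.ble 728 j)) (Nat.ble 720 j)) (Bool.rec (motive := fun _ => ℕ) (Bool.rec (motive := fun _ => ℕ) (chA_n0_92 j) (chA_n0_93 j) (Nat.ble 744 j)) (Bool.rec (motive := fun _ => ℕ) (chA_n0_94 j) (chA_n0_95 j) (Nat.ble 760 j)) (Nat.ble 752 j)) (Nat.ble 736 j))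
noncomputable def chA_n1_12 (j : ℕ) : ℕ := (Bool.rec (motive := fun _ => ℕ) (Bool.rec (motive := fun _ => ℕ) (Bool.rec (motive := fun _ => ℕ) (chA_n0_96 j) (chA_n0_97 j) (Nat.ble 776 j)) (Bool.rec (motive := fun _ => ℕ) (chA_n0_98 j) (chA_n0_99 j) (Nat.ble 792 j)) (Nat.ble 784 j)) (Bool.rec (motive := fun _ => ℕ) (Bool.rec (motive := fun _ => ℕ) (chA_n0_100 j) (chA_n0_101 j) (Nat.ble 808 j)) (Bool.rec (motive := fun _ => ℕ) (chA_n0_102 j) (chA_n0_103 j) (Nat.ble 824 j)) (Nat.ble 816 j)) (Nat.ble 800 j))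
noncomputable def chA_n1_13 (j : ℕ) : ℕ := (Bool.rec (motive := fun _ => ℕ) (Bool.rec (motive := fun _ => ℕ) (Bool.rec (motive := fun _ => ℕ) (chA_n0_104 j) (chA_n0_105 j) (Nat.ble 840 j)) (Bool.rec (motive := fun _ => ℕ) (chA_n0_106 j) (chA_n0_107 j) (Nat.ble 856 j)) (Nat.ble 848 j)) (Bool.rec (motive := fun _ => ℕ) (Bool.rec (motive := fun _ => ℕ) (chA_n0_108 j) (chA_n0_109 j) (Nat.ble 872 j)) (Bool.rec (motive := fun _ => ℕ) (chA_n0_110 j) (chA_n0_111 j) (Nat.ble 888 j)) (Nat.ble 880 j)) (Nat.ble 864 j))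
noncomputable def chA_n1_14 (j : ℕ) : ℕ := (Bool.rec (motive := fun _ => ℕ) (Bool.rec (motive := fun _ => ℕ) (Bool.rec (motive := fun _ => ℕ) (chA_n0_112 j) (chA_n0_113 j) (Nat.ble 904 j)) (Bool.rec (motive := fun _ => ℕ) (chA_n0_114 j) (chA_n0_115 j) (Nat.ble 920 j)) (Nat.ble 912 j)) (Bool.rec (motive := fun _ => ℕ) (Bool.rec (motive := fun _ => ℕ) (chA_n0_116 j) (chA_n0_117 j) (Nat.ble 936 j)) (Bool.rec (motive := fun _ => ℕ) (chA_n0_118 j) (chA_n0_119 j) (Nat.ble 952 j)) (Nat.ble 944 j)) (Nat.ble 928 j))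
noncomputable def chA_n1_15 (j : ℕ) : ℕ := (Bool.rec (motive := fun _ => ℕ) (Bool.rec (motive := fun _ => ℕ) (Bool.rec (motive := fun _ => ℕ) (chA_n0_120 j) (chA_n0_121 j) (Nat.ble 968 j)) (Bool.rec (motive := fun _ => ℕ) (chA_n0_122 j) (chA_n0_123 j) (Nat.ble 984 j)) (Nat.ble 976 j)) (Bool.rec (motive := fun _ => ℕ) (Bool.rec (motive := fun _ => ℕ) (chA_n0_124 j) (chA_n0_125 j) (Nat.ble 1000 j)) (Bool.rec (motive := fun _ => ℕ) (chA_n0_126 j) (chA_n0_127 j) (Nat.ble 1016 j)) (Nat.ble 1008 j)) (Nat.ble 992 j))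
noncomputable def chA_n1_16 (j : ℕ) : ℕ := (Bool.rec (motive := fun _ => ℕ) (Bool.rec (motive := fun _ => ℕ) (Bool.rec (motive := fun _ => ℕ) (chA_n0_128 j) (chA_n0_129 j) (Nat.ble 1032 j)) (Bool.rec (motive := fun _ => ℕ) (chA_n0_130 j) (chA_n0_131 j) (Nat.ble 1048 j)) (Nat.ble 1040 j)) (Bool.rec (motive := fun _ => ℕ) (Bool.rec (motive := fun _ => ℕ) (chA_n0_132 j) (chA_n0_133 j) (Nat.ble 1064 j)) (Bool.rec (motive := fun _ => ℕ) (chA_n0_134 j) (chA_n0_135 j) (Nat.ble 1080 j)) (Nat.ble 1072 j)) (Nat.ble 1056 j))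
noncomputable def chA_n1_17 (j : ℕ) : ℕ := (Bool.rec (motive := fun _ => ℕ) (chA_n0_136 j) (Bool.rec (motive := fun _ => ℕ) (chA_n0_137 j) (chA_n0_138 j) (Nat.ble 1104 j)) (Nat.ble 1096 j))
noncomputable def chA_n2_0 (j : ℕ) : ℕ := (Bool.rec (motive := fun _ => ℕ) (Bool.rec (motive := fun _ => ℕ) (Bool.rec (motive := fun _ => ℕ) (chA_n1_0 j) (chA_n1_1 j) (Nat.ble 64 j)) (Bool.rec (motive := fun _ => ℕ) (chA_n1_2 j) (chA_n1_3 j) (Nat.ble 192 j)) (Nat.ble 128 j)) (Bool.rec (motive := fun _ => ℕ) (Bool.rec (motive := fun _ => ℕ) (chA_n1_4 j) (chA_n1_5 j) (Nat.ble 320 j)) (Bool.rec (motive := fun _ => ℕ) (chA_n1_6 j) (chA_n1_7 j) (Nat.ble 448 j)) (Nat.ble 384 j)) (Nat.ble 256 j))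
noncomputable def chA_n2_1 (j : ℕ) : ℕ := (Bool.rec (motive := fun _ => ℕ) (Bool.rec (motive := fun _ => ℕ) (Bool.rec (motive := fun _ => ℕ) (chA_n1_8 j) (chA_n1_9 j) (Nat.ble 576 j)) (Bool.rec (motive := fun _ => ℕ) (chA_n1_10 j) (chA_n1_11 j) (Nat.ble 704 j)) (Nat.ble 640 j)) (Bool.rec (motive := fun _ => ℕ) (Bool.rec (motive := fun _ => ℕ) (chA_n1_12 j) (chA_n1_13 j) (Nat.ble 832 j)) (Bool.rec (motive := fun _ => ℕ) (chA_n1_14 j) (chA_n1_15 j) (Nat.ble 960 j)) (Nat.ble 896 j)) (Nat.ble 768 j))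
noncomputable def chA_n2_2 (j : ℕ) : ℕ := (Bool.rec (motive := fun _ => ℕ) (chA_n1_16 j) (chA_n1_17 j) (Nat.ble 1088 j))
noncomputable def chA_n3_0 (j : ℕ) : ℕ := (Bool.rec (motive := fun _ => ℕ) (chA_n2_0 j) (Bool.rec (motive := fun _ => ℕ) (chA_n2_1 j) (chA_n2_2 j) (Nat.ble 1024 j)) (Nat.ble 512 j))

/-- the chunks of the table -/
noncomputable def chunkA (j : ℕ) : ℕ := (chA_n3_0 j)

noncomputable def pchA_n0_0 (j : ℕ) : ℕ := (Bool.rec (motive := fun _ => ℕ) (Bool.rec (motive := fun _ => ℕ) (Bool.rec (motive := fun _ => ℕ) qA_0 qA_1 (Nat.ble 1 j)) (Bool.rec (motive := fun _ => ℕ) qA_2 qA_3 (Nat.ble 3 j)) (Nat.ble 2 j)) (Bool.rec (motive := fun _ => ℕ) (Bool.rec (motive := fun _ => ℕ) qA_4 qA_5 (Nat.ble 5 j)) (Bool.rec (motive := fun _ => ℕ) qA_6 qA_7 (Nat.ble 7 j)) (Nat.ble 6 j)) (Nat.ble 4 j))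
noncomputable def pchA_n0_1 (j : ℕ) : ℕ := (Bool.rec (motive := fun _ => ℕ) (Bool.rec (motive := fun _ => ℕ) qA_8 (Bool.rec (motive := fun _ => ℕ) qA_9 qA_10 (Nat.ble 10 j)) (Nat.ble 9 j)) (Bool.rec (motive := fun _ => ℕ) qA_11 (Bool.rec (motive := fun _ => ℕ) qA_12 qA_13 (Nat.ble 13 j)) (Nat.ble 12 j)) (Nat.ble 11 j))
noncomputable def pchA_n1_0 (j : ℕ) : ℕ := (Bool.rec (motive := fun _ => ℕ) (pchA_n0_0 j) (pchA_n0_1 j) (Nat.ble 8 j))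

/-- the chunks of the definitions of the rows -/
noncomputable def pchunkA (j : ℕ) : ℕ := (pchA_n1_0 j)

noncomputable def entA (i : ℕ) : ℕ := (chunkA (i / 256) >>> (72 * (i % 256))) % 4722366482869645213696
noncomputable def parA (b : ℕ) : ℕ := (pchunkA (b / 4096) >>> (20 * (b % 4096))) % 1048576

/-- the coincidences, in lists of 128 -/
def relsA : List (List (List ℕ × ℕ × List ℕ × ℕ)) :=
  [relA_0, relA_1, relA_2, relA_3, relA_4, relA_5, relA_6, relA_7, relA_8, relA_9, relA_10, relA_11, relA_12, relA_13, relA_14, relA_15, relA_16, relA_17, relA_18, relA_19, relA_20, relA_21, relA_22, relA_23, relA_24, relA_25, relA_26]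

/-- the coincidence with the index `k` -/
def relAtA (k : ℕ) : List ℕ × ℕ × List ℕ × ℕ := (relsA.getD (k / 128) []).getD (k % 128) c0

/-- the certificate -/
noncomputable def certA : FCert := mkCert 56925 5 4 entA parA fun k => longW (relAtA k)

/-- the words of the five involutions: conjugates of the base involution -/
def gwordsA : List (List ℕ) :=
  [[0, 1, 0, 1], [0, 1, 2, 1, 2, 2], [0, 1, 0, 0, 1, 2], [2, 2, 1, 2, 1, 0, 0, 1, 2, 2], [2, 2, 2, 1]]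

/-- the codes of the five involutions -/
def gcodesA : List ℕ := [gcA_0, gcA_1, gcA_2, gcA_3, gcA_4]

/-- the code of the base involution -/
def czA : ℕ := Cfsg.Agent.Lib.Helper8.Co2Cent.ct

/-- the code of an involution -/
def gcA (i : ℕ) : ℕ := gcodesA.getD i czA

end Cfsg.Agent.Lib.Helper8.Co2Mult
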