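import Cfsg.Agent.Lib.Helper8.Co2MultAC

/-! Checks of the words and of the letters of the coset certificate A (generated by a script) -/

set_option autoImplicit false
set_option maxRecDepth 100000

namespace Cfsg.Agent.Lib.Helper8.Co2Mult

open Cfsg.Agent.PL Cfsg.Agent.Co2P
open Cfsg.Agent.PG (allB)

theorem chk_gwA : gwordsA.map (conjWord czA) = gcodesA := by decide +kernel

theorem chk_letA : (relsA.all fun l => l.all (letOK 5)) = true := by decide +kernel

/-- the first four involutions commute with the base involution -/
theorem chk_commA : ([0, 1, 2, 3].all fun i =>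
    allB 2300 fun q => Nat.beq (lk (gcA i) (lk czA q)) (lk czA (lk (gcA i) q))) = true := by decide +kernel

end Cfsg.Agent.Lib.Helper8.Co2Mult
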