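import Cfsg.Agent.Lib.Helper8.Co2MultAC

/-! Checks of the coincidences of the coset certificate A, part 0 (generated by a script) -/

set_option autoImplicit false
set_option maxRecDepth 100000

namespace Cfsg.Agent.Lib.Helper8.Co2Mult

open Cfsg.Agent.Lib.Helper8.Co2MultZ (baseZ)

theorem chk_relA_0 : relA_0.all (relOK baseZ gcA) = true := by decide +kernel
theorem chk_relA_1 : relA_1.all (relOK baseZ gcA) = true := by decide +kernel
theorem chk_relA_2 : relA_2.all (relOK baseZ gcA) = true := by decide +kernel
theorem chk_relA_3 : relA_3.all (relOK baseZ gcA) = true := by decide +kernel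
theorem chk_relA_4 : relA_4.all (relOK baseZ gcA) = true := by decide +kernel
theorem chk_relA_5 : relA_5.all (relOK baseZ gcA) = true := by decide +kernel
theorem chk_relA_6 : relA_6.all (relOK baseZ gcA) = true := by decide +kernel
theorem chk_relA_7 : relA_7.all (relOK baseZ gcA) = true := by decide +kernel

end Cfsg.Agent.Lib.Helper8.Co2Mult
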