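import Cfsg.Agent.Lib.Helper8.Co2MultAC

/-! Checks of the coincidences of the coset certificate A, part 1 (generated by a script) -/

set_option autoImplicit false
set_option maxRecDepth 100000

namespace Cfsg.Agent.Lib.Helper8.Co2Mult

open Cfsg.Agent.Lib.Helper8.Co2MultZ (baseZ)

theorem chk_relA_8 : relA_8.all (relOK baseZ gcA) = true := by decide +kernel
theorem chk_relA_9 : relA_9.all (relOK baseZ gcA) = true := by decide +kernel
theorem chk_relA_10 : relA_10.all (relOK baseZ gcA) = true := by decide +kernel
theorem chk_relA_11 : relA_11.all (relOK baseZ gcA) = true := by decide +kernel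
theorem chk_relA_12 : relA_12.all (relOK baseZ gcA) = true := by decide +kernel
theorem chk_relA_13 : relA_13.all (relOK baseZ gcA) = true := by decide +kernel
theorem chk_relA_14 : relA_14.all (relOK baseZ gcA) = true := by decide +kernel
theorem chk_relA_15 : relA_15.all (relOK baseZ gcA) = true := by decide +kernel

end Cfsg.Agent.Lib.Helper8.Co2Mult
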