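import Cfsg.Agent.Lib.Helper8.Co2MultAC

/-! Checks of the coincidences of the coset certificate A, part 2 (generated by a script) -/

set_option autoImplicit false
set_option maxRecDepth 100000

namespace Cfsg.Agent.Lib.Helper8.Co2Mult

open Cfsg.Agent.Lib.Helper8.Co2MultZ (baseZ)

theorem chk_relA_16 : relA_16.all (relOK baseZ gcA) = true := by decide +kernel
theorem chk_relA_17 : relA_17.all (relOK baseZ gcA) = true := by decide +kernel
theorem chk_relA_18 : relA_18.all (relOK baseZ gcA) = true := by decide +kernel
theorem chk_relA_19 : relA_19.all (relOK baseZ gcA) = true := by decide +kernel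
theorem chk_relA_20 : relA_20.all (relOK baseZ gcA) = true := by decide +kernel
theorem chk_relA_21 : relA_21.all (relOK baseZ gcA) = true := by decide +kernel
theorem chk_relA_22 : relA_22.all (relOK baseZ gcA) = true := by decide +kernel
theorem chk_relA_23 : relA_23.all (relOK baseZ gcA) = true := by decide +kernel

end Cfsg.Agent.Lib.Helper8.Co2Mult
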