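import Cfsg.Agent.Lib.Helper8.Co2MultAC

/-! Checks of the coincidences of the coset certificate A, part 3 (generated by a script) -/

set_option autoImplicit false
set_option maxRecDepth 100000

namespace Cfsg.Agent.Lib.Helper8.Co2Mult

open Cfsg.Agent.Lib.Helper8.Co2MultZ (baseZ)

theorem chk_relA_24 : relA_24.all (relOK baseZ gcA) = true := by decide +kernel
theorem chk_relA_25 : relA_25.all (relOK baseZ gcA) = true := by decide +kernel
theorem chk_relA_26 : relA_26.all (relOK baseZ gcA) = true := by decide +kernel

end Cfsg.Agent.Lib.Helper8.Co2Mult
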