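import Cfsg.Agent.Lib.Helper8.Co2MultAC

/-! The two generators of the second Conway group from the five involutions of the certificate A (generated by a
script) -/

set_option autoImplicit false
set_option maxRecDepth 100000

namespace Cfsg.Agent.Lib.Helper8.Co2Mult

open Cfsg.Agent.PL Cfsg.Agent.Co2P

/-- the program for the two generators, from `[gc 4, gc 3, gc 2, gc 1, gc 0]` -/
def slpA : List (ℕ × ℕ) := [(1, 0), (1, 2), (2, 1), (1, 3), (6, 5), (6, 7), (8, 4), (6, 9), (10, 5), (5, 11), (10, 5), (5, 11), (13, 5), (5, 14), (15, 5), (5, 16), (16, 10), (12, 17), (20, 12), (14, 21), (21, 9), (9, 22), (24, 9), (9, 25), (26, 9), (9, 27), (28, 5), (5, 29), (28, 5), (5, 29), (30, 5), (5, 31), (35, 32), (33, 36), (37, 35), (36, 38), (39, 38), (39, 40), (41, 31), (31, 42), (43, 25), (25, 44), (45, 25), (25, 46), (47, 25), (25, 48), (49, 21), (50, 20), (20, 51), (52, 20), (20, 53), (54, 20), (20, 55), (54, 14), (14, 55), (56, 14), (14, 57), (58, 14), (14, 59), (60,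 14), (14, 61), (62, 14), (13, 63), (65, 15), (66, 14), (14, 67), (67, 14), (14, 68), (70, 32), (72, 15), (15, 73), (73, 13), (13, 74), (76, 13), (13, 77), (12, 77), (76, 12), (78, 12), (12, 79), (80, 10), (81, 8), (8, 82), (84, 8), (8, 85), (85, 7), (87, 7), (7, 88), (89, 6), (6, 90), (89, 6), (6, 90), (93, 6), (92, 6), (6, 93), (95, 4), (4, 96), (97, 3), (3, 98), (102, 93), (93, 103), (104, 67), (67, 105), (106, 46), (46, 107), (108, 42), (109, 38), (38, 110), (111, 37), (37, 112), (113, 29), (114, 22), (22, 115), (116, 20), (117, 18), (18, 118), (119, 18), (18, 120), (120, 18), (18, 121), (121, 18), (18, 122), (123, 18), (18, 124), (125, 15), (15, 126), (128, 15), (129, 15), (15, 130), (130, 15), (130, 15), (15, 131), (133, 15), (15, 134), (136, 11), (11, 137), (135, 11), (11, 136), (138, 10), (10, 139), (139, 7), (7, 140), (145, 135), (137, 146), (107, 146), (147, 109), (108, 3), (3, 108), (114, 149), (150, 114), (151, 149), (150, 152), (114, 154), (155,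 114), (116, 9), (9, 116), (149, 118), (118, 151), (9, 3), (3, 9), (9, 7), (7, 9), (3, 7), (7, 3), (9, 43), (43, 9), (9, 15), (15, 9), (1, 21), (21, 1), (15, 7), (7, 15), (11, 137), (139, 11), (9, 167), (169, 9), (1, 5), (5, 1), (177, 160), (160, 178), (7, 13), (13, 7), (5, 1), (1, 5), (15, 27), (27, 15), (17, 31), (31, 17), (27, 3), (3, 27), (35, 13), (13, 35), (3, 13), (13, 3), (39, 193), (194, 39), (1, 11), (11, 1), (11, 15), (15, 11), (45, 5), (5, 45), (15, 47), (47, 15), (64, 1), (1, 66), (1, 1), (1, 1), (3, 1), (1, 3), (5, 1), (1, 5), (7, 1), (1, 7), (9, 1), (1, 9), (11, 1), (1, 11), (13, 1), (1, 13), (15, 1), (1, 15), (17, 1), (1, 17), (19, 1), (1, 19), (21, 1), (1, 21), (23, 1), (1, 23), (25, 1), (1, 25), (27, 1), (1, 27), (29, 1), (1, 29), (31, 1), (1, 31), (33, 1), (1, 33), (47, 85), (85, 47), (106, 1), (1, 108), (1, 35), (2, 34), (34, 2), (31, 3), (24, 4), (6, 20), (20, 6), (8, 14), (14, 8), (10, 14), (14, 10), (50, 10), (13, 11), (52, 11), (11, 52),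 (11, 15), (11, 54), (56, 11), (11, 56), (20, 13), (13, 20), (22, 13), (13, 22), (24, 13), (13, 24), (26, 13), (65, 13), (28, 13), (13, 28), (13, 29), (13, 30), (70, 13), (13, 70), (72, 13), (35, 14), (14, 35), (75, 14), (14, 75), (77, 12), (78, 12), (79, 12), (12, 79), (12, 42), (12, 81), (45, 12), (12, 45), (47, 12), (86, 12), (12, 86), (88, 12), (12, 88), (52, 12), (91, 12), (54, 12), (12, 54), (12, 55), (12, 56), (96, 10), (59, 8), (8, 59), (99, 8), (100, 8), (63, 8), (8, 63), (8, 64), (104, 6), (6, 104), (106, 6), (69, 6), (108, 6), (6, 108), (6, 71), (73, 6), (6, 73), (113, 5), (76, 2), (2, 76), (116, 1), (1, 116), (126, 122), (122, 126), (217, 1), (1, 219), (12, 1), (1, 14), (1, 1), (1, 1), (3, 1), (1, 3), (5, 1), (1, 5), (7, 1), (1, 7), (9, 1), (1, 9), (11, 1), (1, 11), (13, 1), (1, 13), (15, 1), (1, 15), (17, 1), (167, 191), (191, 167), (27, 1), (1, 29), (1, 22), (22, 1), (3, 20), (4, 19), (19, 4), (6, 19), (13, 6), (12, 7), (9, 12), (10, 10), (10,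 10), (33, 10), (10, 33), (14, 10), (15, 10), (10, 15), (17, 10), (10, 38), (10, 18), (20, 10), (42, 10), (10, 42), (44, 10), (10, 44), (25, 10), (47, 10), (10, 47), (9, 48), (50, 7), (7, 50), (52, 7), (7, 52), (33, 7), (5, 33), (35, 5), (5, 35), (37, 5), (5, 37), (39, 1), (1, 39), (66, 191), (191, 66), (250, 1), (1, 252), (125, 1), (1, 127), (1, 29), (28, 1), (3, 28), (15, 3), (5, 15), (15, 5), (247, 211), (211, 247), (284, 1), (1, 286), (113, 1), (1, 115), (6, 1), (1, 8), (1, 1), (1, 1), (3, 1), (1, 3), (5, 1), (1, 5), (13, 225), (225, 13), (280, 1), (1, 282), (97, 1), (1, 99), (32, 1), (1, 34), (1, 11), (2, 10), (10, 2), (18, 4), (4, 4), (20, 4), (7, 4), (4, 7), (23, 4), (4, 9), (11, 4), (12, 4), (4, 12), (14, 4), (4, 28), (16, 4), (3, 30), (18, 5), (3, 32), (2, 19), (35, 2), (2, 21), (37, 1), (56, 100), (306, 0), (133, 0), (50, 0), (5, 0), (0, 0), (62, 250), (250, 62), (323, 1), (1, 325), (167, 1), (1, 169), (82, 1), (1, 84), (49, 1), (1, 51), (1, 10), (2,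 2), (2, 2), (4, 2), (5, 2), (2, 5), (7, 2), (8, 2), (2, 8), (10, 2), (11, 2), (22, 0), (277, 20), (0, 370), (0, 158), (0, 81), (0, 39), (0, 5), (278, 64), (405, 0), (182, 0), (86, 0), (41, 0), (14, 0), (6, 0), (358, 176), (0, 106), (0, 52), (0, 18), (0, 4), (366, 191), (0, 95), (0, 48), (0, 26), (0, 9)]

def idxSA : List ℕ := [5, 0]

theorem chk_slpA : runK 2300 slpA [gcA 4, gcA 3, gcA 2, gcA 1, gcA 0]
    (fun r => idxSA.map fun i => r.getD i (pone 2300)) = [ca, cb] := by decide +kernel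

end Cfsg.Agent.Lib.Helper8.Co2Mult
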