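import Cfsg.Agent.Lib.Helper8.Co2MultAC

/-! The rows of the coset certificate A, checked by the kernel (part 1; generated by a script) -/

set_option autoImplicit false
set_option maxRecDepth 100000

namespace Cfsg.Agent.Lib.Helper8.Co2Mult

theorem chk_cA_1_0 : certA.rowsOK 2277 253 = true := by decide +kernel
theorem chk_cA_1_1 : certA.rowsOK 2530 253 = true := by decide +kernel
theorem chk_cA_1_2 : certA.rowsOK 2783 253 = true := by decide +kernel
theorem chk_cA_1_3 : certA.rowsOK 3036 253 = true := by decide +kernel
theorem chk_cA_1_4 : certA.rowsOK 3289 253 = true := by decide +kernel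
theorem chk_cA_1_5 : certA.rowsOK 3542 253 = true := by decide +kernel
theorem chk_cA_1_6 : certA.rowsOK 3795 253 = true := by decide +kernel
theorem chk_cA_1_7 : certA.rowsOK 4048 253 = true := by decide +kernel
theorem chk_cA_1_8 : certA.rowsOK 4301 253 = true := by decide +kernel

theorem chk_cA_1 : certA.rowsOK 2277 2277 = true := by
  apply rowsOK_of_forall
  intro a hlo hhi
  rcases Nat.lt_or_ge a 2530 with h | h0
  · exact row_of_rows certA chk_cA_1_0 (by omega) (by omega)
  rcases Nat.lt_or_ge a 2783 with h | h1
  · exact row_of_rows certA chk_cA_1_1 (by omega) (by omega)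
  rcases Nat.lt_or_ge a 3036 with h | h2
  · exact row_of_rows certA chk_cA_1_2 (by omega) (by omega)
  rcases Nat.lt_or_ge a 3289 with h | h3
  · exact row_of_rows certA chk_cA_1_3 (by omega) (by omega)
  rcases Nat.lt_or_ge a 3542 with h | h4
  · exact row_of_rows certA chk_cA_1_4 (by omega) (by omega)
  rcases Nat.lt_or_ge a 3795 with h | h5
  · exact row_of_rows certA chk_cA_1_5 (by omega) (by omega)
  rcases Nat.lt_or_ge a 4048 with h | h6
  · exact row_of_rows certA chk_cA_1_6 (by omega) (by omega)
  rcases Nat.lt_or_ge a 4301 with h | h7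
  · exact row_of_rows certA chk_cA_1_7 (by omega) (by omega)
  exact row_of_rows certA chk_cA_1_8 (by omega) (by omega)

end Cfsg.Agent.Lib.Helper8.Co2Mult
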