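import Cfsg.Agent.Lib.Helper8.Co2MultAC

/-! The rows of the coset certificate A, checked by the kernel (part 12; generated by a script) -/

set_option autoImplicit false
set_option maxRecDepth 100000

namespace Cfsg.Agent.Lib.Helper8.Co2Mult

theorem chk_cA_12_0 : certA.rowsOK 27324 253 = true := by decide +kernel
theorem chk_cA_12_1 : certA.rowsOK 27577 253 = true := by decide +kernel
theorem chk_cA_12_2 : certA.rowsOK 27830 253 = true := by decide +kernel
theorem chk_cA_12_3 : certA.rowsOK 28083 253 = true := by decide +kernel
theorem chk_cA_12_4 : certA.rowsOK 28336 253 = true := by decide +kernel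
theorem chk_cA_12_5 : certA.rowsOK 28589 253 = true := by decide +kernel
theorem chk_cA_12_6 : certA.rowsOK 28842 253 = true := by decide +kernel
theorem chk_cA_12_7 : certA.rowsOK 29095 253 = true := by decide +kernel
theorem chk_cA_12_8 : certA.rowsOK 29348 253 = true := by decide +kernel

theorem chk_cA_12 : certA.rowsOK 27324 2277 = true := by
  apply rowsOK_of_forall
  intro a hlo hhi
  rcases Nat.lt_or_ge a 27577 with h | h0
  · exact row_of_rows certA chk_cA_12_0 (by omega) (by omega)
  rcases Nat.lt_or_ge a 27830 with h | h1
  · exact row_of_rows certA chk_cA_12_1 (by omega) (by omega)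
  rcases Nat.lt_or_ge a 28083 with h | h2
  · exact row_of_rows certA chk_cA_12_2 (by omega) (by omega)
  rcases Nat.lt_or_ge a 28336 with h | h3
  · exact row_of_rows certA chk_cA_12_3 (by omega) (by omega)
  rcases Nat.lt_or_ge a 28589 with h | h4
  · exact row_of_rows certA chk_cA_12_4 (by omega) (by omega)
  rcases Nat.lt_or_ge a 28842 with h | h5
  · exact row_of_rows certA chk_cA_12_5 (by omega) (by omega)
  rcases Nat.lt_or_ge a 29095 with h | h6
  · exact row_of_rows certA chk_cA_12_6 (by omega) (by omega)
  rcases Nat.lt_or_ge a 29348 with h | h7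
  · exact row_of_rows certA chk_cA_12_7 (by omega) (by omega)
  exact row_of_rows certA chk_cA_12_8 (by omega) (by omega)

end Cfsg.Agent.Lib.Helper8.Co2Mult
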