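import Cfsg.Agent.Lib.Helper8.Co2MultAC

/-! The rows of the coset certificate A, checked by the kernel (part 13; generated by a script) -/

set_option autoImplicit false
set_option maxRecDepth 100000

namespace Cfsg.Agent.Lib.Helper8.Co2Mult

theorem chk_cA_13_0 : certA.rowsOK 29601 253 = true := by decide +kernel
theorem chk_cA_13_1 : certA.rowsOK 29854 253 = true := by decide +kernel
theorem chk_cA_13_2 : certA.rowsOK 30107 253 = true := by decide +kernel
theorem chk_cA_13_3 : certA.rowsOK 30360 253 = true := by decide +kernel
theorem chk_cA_13_4 : certA.rowsOK 30613 253 = true := by decide +kernel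
theorem chk_cA_13_5 : certA.rowsOK 30866 253 = true := by decide +kernel
theorem chk_cA_13_6 : certA.rowsOK 31119 253 = true := by decide +kernel
theorem chk_cA_13_7 : certA.rowsOK 31372 253 = true := by decide +kernel
theorem chk_cA_13_8 : certA.rowsOK 31625 253 = true := by decide +kernel

theorem chk_cA_13 : certA.rowsOK 29601 2277 = true := by
  apply rowsOK_of_forall
  intro a hlo hhi
  rcases Nat.lt_or_ge a 29854 with h | h0
  · exact row_of_rows certA chk_cA_13_0 (by omega) (by omega)
  rcases Nat.lt_or_ge a 30107 with h | h1
  · exact row_of_rows certA chk_cA_13_1 (by omega) (by omega)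
  rcases Nat.lt_or_ge a 30360 with h | h2
  · exact row_of_rows certA chk_cA_13_2 (by omega) (by omega)
  rcases Nat.lt_or_ge a 30613 with h | h3
  · exact row_of_rows certA chk_cA_13_3 (by omega) (by omega)
  rcases Nat.lt_or_ge a 30866 with h | h4
  · exact row_of_rows certA chk_cA_13_4 (by omega) (by omega)
  rcases Nat.lt_or_ge a 31119 with h | h5
  · exact row_of_rows certA chk_cA_13_5 (by omega) (by omega)
  rcases Nat.lt_or_ge a 31372 with h | h6
  · exact row_of_rows certA chk_cA_13_6 (by omega) (by omega)
  rcases Nat.lt_or_ge a 31625 with h | h7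
  · exact row_of_rows certA chk_cA_13_7 (by omega) (by omega)
  exact row_of_rows certA chk_cA_13_8 (by omega) (by omega)

end Cfsg.Agent.Lib.Helper8.Co2Mult
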