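import Cfsg.Agent.Lib.Helper8.Co2MultAC

/-! The rows of the coset certificate A, checked by the kernel (part 14; generated by a script) -/

set_option autoImplicit false
set_option maxRecDepth 100000

namespace Cfsg.Agent.Lib.Helper8.Co2Mult

theorem chk_cA_14_0 : certA.rowsOK 31878 253 = true := by decide +kernel
theorem chk_cA_14_1 : certA.rowsOK 32131 253 = true := by decide +kernel
theorem chk_cA_14_2 : certA.rowsOK 32384 253 = true := by decide +kernel
theorem chk_cA_14_3 : certA.rowsOK 32637 253 = true := by decide +kernel
theorem chk_cA_14_4 : certA.rowsOK 32890 253 = true := by decide +kernel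
theorem chk_cA_14_5 : certA.rowsOK 33143 253 = true := by decide +kernel
theorem chk_cA_14_6 : certA.rowsOK 33396 253 = true := by decide +kernel
theorem chk_cA_14_7 : certA.rowsOK 33649 253 = true := by decide +kernel
theorem chk_cA_14_8 : certA.rowsOK 33902 253 = true := by decide +kernel

theorem chk_cA_14 : certA.rowsOK 31878 2277 = true := by
  apply rowsOK_of_forall
  intro a hlo hhi
  rcases Nat.lt_or_ge a 32131 with h | h0
  · exact row_of_rows certA chk_cA_14_0 (by omega) (by omega)
  rcases Nat.lt_or_ge a 32384 with h | h1
  · exact row_of_rows certA chk_cA_14_1 (by omega) (by omega)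
  rcases Nat.lt_or_ge a 32637 with h | h2
  · exact row_of_rows certA chk_cA_14_2 (by omega) (by omega)
  rcases Nat.lt_or_ge a 32890 with h | h3
  · exact row_of_rows certA chk_cA_14_3 (by omega) (by omega)
  rcases Nat.lt_or_ge a 33143 with h | h4
  · exact row_of_rows certA chk_cA_14_4 (by omega) (by omega)
  rcases Nat.lt_or_ge a 33396 with h | h5
  · exact row_of_rows certA chk_cA_14_5 (by omega) (by omega)
  rcases Nat.lt_or_ge a 33649 with h | h6
  · exact row_of_rows certA chk_cA_14_6 (by omega) (by omega)
  rcases Nat.lt_or_ge a 33902 with h | h7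
  · exact row_of_rows certA chk_cA_14_7 (by omega) (by omega)
  exact row_of_rows certA chk_cA_14_8 (by omega) (by omega)

end Cfsg.Agent.Lib.Helper8.Co2Mult
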