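import Cfsg.Agent.Lib.Helper8.Co2MultAC

/-! The rows of the coset certificate A, checked by the kernel (part 21; generated by a script) -/

set_option autoImplicit false
set_option maxRecDepth 100000

namespace Cfsg.Agent.Lib.Helper8.Co2Mult

theorem chk_cA_21_0 : certA.rowsOK 47817 253 = true := by decide +kernel
theorem chk_cA_21_1 : certA.rowsOK 48070 253 = true := by decide +kernel
theorem chk_cA_21_2 : certA.rowsOK 48323 253 = true := by decide +kernel
theorem chk_cA_21_3 : certA.rowsOK 48576 253 = true := by decide +kernel
theorem chk_cA_21_4 : certA.rowsOK 48829 253 = true := by decide +kernel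
theorem chk_cA_21_5 : certA.rowsOK 49082 253 = true := by decide +kernel
theorem chk_cA_21_6 : certA.rowsOK 49335 253 = true := by decide +kernel
theorem chk_cA_21_7 : certA.rowsOK 49588 253 = true := by decide +kernel
theorem chk_cA_21_8 : certA.rowsOK 49841 253 = true := by decide +kernel

theorem chk_cA_21 : certA.rowsOK 47817 2277 = true := by
  apply rowsOK_of_forall
  intro a hlo hhi
  rcases Nat.lt_or_ge a 48070 with h | h0
  · exact row_of_rows certA chk_cA_21_0 (by omega) (by omega)
  rcases Nat.lt_or_ge a 48323 with h | h1
  · exact row_of_rows certA chk_cA_21_1 (by omega) (by omega)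
  rcases Nat.lt_or_ge a 48576 with h | h2
  · exact row_of_rows certA chk_cA_21_2 (by omega) (by omega)
  rcases Nat.lt_or_ge a 48829 with h | h3
  · exact row_of_rows certA chk_cA_21_3 (by omega) (by omega)
  rcases Nat.lt_or_ge a 49082 with h | h4
  · exact row_of_rows certA chk_cA_21_4 (by omega) (by omega)
  rcases Nat.lt_or_ge a 49335 with h | h5
  · exact row_of_rows certA chk_cA_21_5 (by omega) (by omega)
  rcases Nat.lt_or_ge a 49588 with h | h6
  · exact row_of_rows certA chk_cA_21_6 (by omega) (by omega)
  rcases Nat.lt_or_ge a 49841 with h | h7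
  · exact row_of_rows certA chk_cA_21_7 (by omega) (by omega)
  exact row_of_rows certA chk_cA_21_8 (by omega) (by omega)

end Cfsg.Agent.Lib.Helper8.Co2Mult
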