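import Cfsg.Agent.Lib.Helper8.Co2MultAC

/-! The rows of the coset certificate A, checked by the kernel (part 5; generated by a script) -/

set_option autoImplicit false
set_option maxRecDepth 100000

namespace Cfsg.Agent.Lib.Helper8.Co2Mult

theorem chk_cA_5_0 : certA.rowsOK 11385 253 = true := by decide +kernel
theorem chk_cA_5_1 : certA.rowsOK 11638 253 = true := by decide +kernel
theorem chk_cA_5_2 : certA.rowsOK 11891 253 = true := by decide +kernel
theorem chk_cA_5_3 : certA.rowsOK 12144 253 = true := by decide +kernel
theorem chk_cA_5_4 : certA.rowsOK 12397 253 = true := by decide +kernel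
theorem chk_cA_5_5 : certA.rowsOK 12650 253 = true := by decide +kernel
theorem chk_cA_5_6 : certA.rowsOK 12903 253 = true := by decide +kernel
theorem chk_cA_5_7 : certA.rowsOK 13156 253 = true := by decide +kernel
theorem chk_cA_5_8 : certA.rowsOK 13409 253 = true := by decide +kernel

theorem chk_cA_5 : certA.rowsOK 11385 2277 = true := by
  apply rowsOK_of_forall
  intro a hlo hhi
  rcases Nat.lt_or_ge a 11638 with h | h0
  · exact row_of_rows certA chk_cA_5_0 (by omega) (by omega)
  rcases Nat.lt_or_ge a 11891 with h | h1
  · exact row_of_rows certA chk_cA_5_1 (by omega) (by omega)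
  rcases Nat.lt_or_ge a 12144 with h | h2
  · exact row_of_rows certA chk_cA_5_2 (by omega) (by omega)
  rcases Nat.lt_or_ge a 12397 with h | h3
  · exact row_of_rows certA chk_cA_5_3 (by omega) (by omega)
  rcases Nat.lt_or_ge a 12650 with h | h4
  · exact row_of_rows certA chk_cA_5_4 (by omega) (by omega)
  rcases Nat.lt_or_ge a 12903 with h | h5
  · exact row_of_rows certA chk_cA_5_5 (by omega) (by omega)
  rcases Nat.lt_or_ge a 13156 with h | h6
  · exact row_of_rows certA chk_cA_5_6 (by omega) (by omega)
  rcases Nat.lt_or_ge a 13409 with h | h7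
  · exact row_of_rows certA chk_cA_5_7 (by omega) (by omega)
  exact row_of_rows certA chk_cA_5_8 (by omega) (by omega)

end Cfsg.Agent.Lib.Helper8.Co2Mult
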