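import Mathlib
import Cfsg.Agent.Lib.Helper8.J2MultA
import Cfsg.Agent.Lib.Helper5.J3MultB
import Cfsg.Prelude.Def_KGroupFacts

/-!
# Lifts of involutions to a central extension with a kernel of odd order, and stem extensions with a kernel of prime order

* When the kernel of a surjective homomorphism `σ : E → G` is central and of odd order, every involution of `G` has
  exactly one lift that is an involution; these lifts form an equivariant family over the conjugates of an involution.
* A finite stem extension with a non-trivial kernel has a quotient that is a stem extension with a kernel of prime order.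
-/

set_option autoImplicit false

namespace Cfsg.Agent.Lib.Helper8.Co2Mult

open Cfsg Cfsg.Agent.Lib.Helper8.CanonLift Cfsg.Agent.Lib.Helper5.J3Mult

universe u

section odd

variable {E G : Type*} [Group E] [Group G] {σ : E →* G}

theorem central_of_map_one (hcen : σ.ker ≤ Subgroup.center E) {z : E} (hz : σ z = 1) (y : E) : z * y = y * z :=
  (Subgroup.mem_center_iff.1 (hcen (MonoidHom.mem_ker.2 hz)) y).symm

/-- the involution above an involution, when the kernel is central of odd order -/
theorem exists_inv_lift (hsurj : Function.Surjective σ) (hcen : σ.ker ≤ Subgroup.center E)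
    [Finite σ.ker] (hodd : Odd (Nat.card σ.ker)) (s : G) (hs : s * s = 1) :
    ∃ y : E, σ y = s ∧ y * y = 1 := by
  obtain ⟨y0, hy0⟩ := hsurj s
  obtain ⟨r, hr⟩ := hodd
  set k := y0 * y0 with hk
  have hk1 : σ k = 1 := by rw [hk, map_mul, hy0, hs]
  have hkc := central_of_map_one hcen hk1
  have hpow : k ^ (2 * r + 1) = 1 := by
    have h1 : (⟨k, MonoidHom.mem_ker.2 hk1⟩ : σ.ker) ^ Nat.card σ.ker = 1 := pow_card_eq_one'
    rw [hr] at h1
    exact congrArg Subtype.val h1
  have hkr : ∀ y : E, k ^ r * y = y * k ^ r := fun y => by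
    have : σ (k ^ r) = 1 := by rw [map_pow, hk1, one_pow]
    exact central_of_map_one hcen this y
  refine ⟨y0 * k ^ r, by rw [map_mul, map_pow, hk1, one_pow, mul_one, hy0], ?_⟩
  calc y0 * k ^ r * (y0 * k ^ r) = y0 * (k ^ r * y0) * k ^ r := by group
    _ = y0 * (y0 * k ^ r) * k ^ r := by rw [hkr y0]
    _ = k * (k ^ r * k ^ r) := by rw [hk]; group
    _ = k ^ (2 * r + 1) := by rw [← pow_add, ← pow_succ']; congr 1; omega
    _ = 1 := hpow

theorem inv_lift_unique (hcen : σ.ker ≤ Subgroup.center E)
    [Finite σ.ker] (hodd : Odd (Nat.card σ.ker)) {y1 y2 : E} (h : σ y1 = σ y2) (h1 : y1 * y1 = 1)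
    (h2 : y2 * y2 = 1) : y1 = y2 := by
  set z := y1⁻¹ * y2 with hz
  have hz1 : σ z = 1 := by rw [hz, map_mul, map_inv, h, inv_mul_cancel]
  have hzc := central_of_map_one hcen hz1
  have hy2 : y2 = y1 * z := by rw [hz]; group
  have hzz : z * z = 1 := by
    have : y1 * z * (y1 * z) = y1 * y1 * (z * z) := by
      calc y1 * z * (y1 * z) = y1 * (z * y1) * z := by group
        _ = y1 * (y1 * z) * z := by rw [hzc y1]
        _ = y1 * y1 * (z * z) := by group
    rw [← hy2, h2, h1, one_mul] at this
    exact this.symm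
  have ho2 : orderOf z ∣ 2 := orderOf_dvd_of_pow_eq_one (by rw [pow_two, hzz])
  have hoc : orderOf z ∣ Nat.card σ.ker := by
    have : orderOf (⟨z, MonoidHom.mem_ker.2 hz1⟩ : σ.ker) ∣ Nat.card σ.ker := orderOf_dvd_natCard _
    rwa [Subgroup.orderOf_mk] at this
  have ho1 : orderOf z = 1 := by
    have hcop : Nat.Coprime 2 (Nat.card σ.ker) := (Nat.coprime_two_left).2 hodd
    exact Nat.eq_one_of_dvd_coprimes hcop ho2 hoc
  rw [hy2, orderOf_eq_one_iff.1 ho1, mul_one]

variable (t0 : G)

/-- **the family of the involutions above the conjugates of an involution** -/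
theorem exists_lifts_odd (hsurj : Function.Surjective σ) (hcen : σ.ker ≤ Subgroup.center E)
    [Finite σ.ker] (hodd : Odd (Nat.card σ.ker)) (h0 : t0 * t0 = 1) : Nonempty (Lifts σ (Tq t0)) := by
  choose L hL using fun x : G ⧸ Cz t0 => exists_inv_lift hsurj hcen hodd (Tq t0 x) (Tq_sq t0 h0 x)
  refine ⟨⟨L, fun x => (hL x).1, ?_, fun x => (hL x).2⟩⟩
  intro h x
  apply inv_lift_unique hcen hodd
  · rw [map_mul, map_mul, map_inv, (hL x).1, (hL _).1, Tq_conj]
  · calc h * L x * h⁻¹ * (h * L x * h⁻¹) = h * (L x * L x) * h⁻¹ := by group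
      _ = 1 := by rw [(hL x).2]; group
  · exact (hL _).2

end odd

/-! ### a quotient with a kernel of prime order -/

section prime

variable {G : Type u} [Group G]

theorem exists_prime_stem_aux : ∀ (n : ℕ) (Γ : Type u) [Group Γ] [Finite Γ] (σ : Γ →* G),
    Nat.card Γ = n → IsStemExtension σ → σ.ker ≠ ⊥ →
    ∃ (Γ' : Type u) (_ : Group Γ') (_ : Finite Γ') (σ' : Γ' →* G),
      IsStemExtension σ' ∧ (Nat.card σ'.ker).Prime := by
  intro n
  induction n using Nat.strong_induction_on with
  | _ n ih =>
    intro Γ _ _ σ hn hσ hne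
    obtain ⟨hsurj, hcen, hder⟩ := hσ
    have hcard1 : Nat.card σ.ker ≠ 1 := fun h => hne (Subgroup.eq_bot_of_card_eq _ h)
    set p := (Nat.card σ.ker).minFac with hp
    have hpp : p.Prime := Nat.minFac_prime hcard1
    have : Fact p.Prime := ⟨hpp⟩
    obtain ⟨z, hz⟩ := exists_prime_orderOf_dvd_card' p (Nat.minFac_dvd (Nat.card σ.ker))
    by_cases hcp : Nat.card σ.ker = p
    · exact ⟨Γ, inferInstance, inferInstance, σ, ⟨hsurj, hcen, hder⟩, by rw [hcp]; exact hpp⟩
    · -- the quotient by the subgroup generated by `z`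
      set Z : Subgroup Γ := Subgroup.zpowers (z : Γ) with hZ
      have hZK : Z ≤ σ.ker := by
        rw [hZ, Subgroup.zpowers_le]
        exact z.2
      have hZc : Z ≤ Subgroup.center Γ := le_trans hZK hcen
      have hZn : Z.Normal := by
        constructor
        intro x hx g
        have := Subgroup.mem_center_iff.1 (hZc hx) g
        rw [this, mul_inv_cancel_right]
        exact hx
      have hZcard : Nat.card Z = p := by
        rw [hZ, Nat.card_zpowers, ← hz, Subgroup.orderOf_coe]
      set σ' : Γ ⧸ Z →* G := QuotientGroup.lift Z σ (fun x hx => MonoidHom.mem_ker.1 (hZK hx)) with hσ'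
      have hσ'mk : ∀ g : Γ, σ' (QuotientGroup.mk g) = σ g := fun g => rfl
      have hsurj' : Function.Surjective σ' := by
        intro g
        obtain ⟨x, rfl⟩ := hsurj g
        exact ⟨QuotientGroup.mk x, rfl⟩
      have hker' : ∀ q : Γ ⧸ Z, q ∈ σ'.ker → ∃ k ∈ σ.ker, q = QuotientGroup.mk k := by
        intro q hq
        induction q using QuotientGroup.induction_on with
        | H g =>
          rw [MonoidHom.mem_ker, hσ'mk] at hq
          exact ⟨g, MonoidHom.mem_ker.2 hq, rfl⟩
      have hcen' : σ'.ker ≤ Subgroup.center (Γ ⧸ Z) := by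
        intro q hq
        obtain ⟨k, hk, rfl⟩ := hker' q hq
        rw [Subgroup.mem_center_iff]
        intro y
        induction y using QuotientGroup.induction_on with
        | H g =>
          rw [← QuotientGroup.mk_mul, ← QuotientGroup.mk_mul, Subgroup.mem_center_iff.1 (hcen hk) g]
      have hder' : σ'.ker ≤ commutator (Γ ⧸ Z) := by
        intro q hq
        obtain ⟨k, hk, rfl⟩ := hker' q hq
        have h1 : Subgroup.map (QuotientGroup.mk' Z) (commutator Γ) = commutator (Γ ⧸ Z) := by
          rw [commutator_def, commutator_def, Subgroup.map_commutator, ← MonoidHom.range_eq_map,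
            MonoidHom.range_eq_top.2 (QuotientGroup.mk'_surjective Z)]
        rw [← h1]
        exact ⟨k, hder hk, rfl⟩
      have hlt : Nat.card (Γ ⧸ Z) < n := by
        have h1 : Nat.card Γ = Nat.card (Γ ⧸ Z) * Nat.card Z := Subgroup.card_eq_card_quotient_mul_card_subgroup Z
        rw [hn, hZcard] at h1
        have h2 : 0 < Nat.card (Γ ⧸ Z) := Nat.card_pos
        have h3 : 2 ≤ p := hpp.two_le
        nlinarith
      have hne' : σ'.ker ≠ ⊥ := by
        -- an element of the kernel outside `Z`
        have hlt2 : Nat.card Z < Nat.card σ.ker := by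
          rw [hZcard]
          have h1 : p ∣ Nat.card σ.ker := Nat.minFac_dvd _
          have h2 : p ≤ Nat.card σ.ker := Nat.le_of_dvd Nat.card_pos h1
          omega
        have : ∃ k ∈ σ.ker, k ∉ Z := by
          by_contra hcon
          have hle : σ.ker ≤ Z := fun k hk => by
            by_contra hkZ
            exact hcon ⟨k, hk, hkZ⟩
          have := Subgroup.card_le_of_le hle
          omega
        obtain ⟨k, hk, hkZ⟩ := this
        intro hbot
        have h1 : (QuotientGroup.mk k : Γ ⧸ Z) ∈ σ'.ker := by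
          rw [MonoidHom.mem_ker, hσ'mk]
          exact MonoidHom.mem_ker.1 hk
        rw [hbot, Subgroup.mem_bot, QuotientGroup.eq_one_iff] at h1
        exact hkZ h1
      exact ih (Nat.card (Γ ⧸ Z)) hlt (Γ ⧸ Z) σ' rfl ⟨hsurj', hcen', hder'⟩ hne'

/-- **a finite stem extension with a non-trivial kernel has a quotient with a kernel of prime order** -/
theorem exists_prime_stem {Γ : Type u} [Group Γ] [Finite Γ] (σ : Γ →* G) (hσ : IsStemExtension σ)
    (hne : σ.ker ≠ ⊥) :
    ∃ (Γ' : Type u) (_ : Group Γ') (_ : Finite Γ') (σ' : Γ' →* G),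
      IsStemExtension σ' ∧ (Nat.card σ'.ker).Prime :=
  exists_prime_stem_aux (Nat.card Γ) Γ σ rfl hσ hne

end prime

end Cfsg.Agent.Lib.Helper8.Co2Mult
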