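import Cfsg.Agent.Lib.Helper8.Co2MultGenP
import Cfsg.Agent.Lib.Helper8.Co2MultAChk0
import Cfsg.Agent.Lib.Helper8.Co2MultAChkS
import Cfsg.Agent.Lib.Helper8.Co2MultAChkR0
import Cfsg.Agent.Lib.Helper8.Co2MultAChkR1
import Cfsg.Agent.Lib.Helper8.Co2MultAChkR2
import Cfsg.Agent.Lib.Helper8.Co2MultAChkR3
import Cfsg.Agent.Lib.Helper8.Co2MultAChkT0
import Cfsg.Agent.Lib.Helper8.Co2MultAChkT1
import Cfsg.Agent.Lib.Helper8.Co2MultAChkT2
import Cfsg.Agent.Lib.Helper8.Co2MultAChkT3
import Cfsg.Agent.Lib.Helper8.Co2MultAChkT4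
import Cfsg.Agent.Lib.Helper8.Co2MultAChkT5
import Cfsg.Agent.Lib.Helper8.Co2MultAChkT6
import Cfsg.Agent.Lib.Helper8.Co2MultAChkT7
import Cfsg.Agent.Lib.Helper8.Co2MultAChkT8
import Cfsg.Agent.Lib.Helper8.Co2MultAChkT9
import Cfsg.Agent.Lib.Helper8.Co2MultAChkT10
import Cfsg.Agent.Lib.Helper8.Co2MultAChkT11
import Cfsg.Agent.Lib.Helper8.Co2MultAChkT12
import Cfsg.Agent.Lib.Helper8.Co2MultAChkT13
import Cfsg.Agent.Lib.Helper8.Co2MultAChkT14
import Cfsg.Agent.Lib.Helper8.Co2MultAChkT15
import Cfsg.Agent.Lib.Helper8.Co2MultAChkT16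
import Cfsg.Agent.Lib.Helper8.Co2MultAChkT17
import Cfsg.Agent.Lib.Helper8.Co2MultAChkT18
import Cfsg.Agent.Lib.Helper8.Co2MultAChkT19
import Cfsg.Agent.Lib.Helper8.Co2MultAChkT20
import Cfsg.Agent.Lib.Helper8.Co2MultAChkT21
import Cfsg.Agent.Lib.Helper8.Co2MultAChkT22
import Cfsg.Agent.Lib.Helper8.Co2MultAChkT23
import Cfsg.Agent.Lib.Helper8.Co2MultAChkT24
import Cfsg.Agent.Lib.Helper8.Co2MultLift

/-!
# The coset certificate A for the Schur multiplier of the second Conway group: the bound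

Five conjugates of the base involution generate `P`; for an equivariant family of involutions lifting the class of the
base involution to a central extension with kernel in the commutator subgroup, the lifts `γ 0, …, γ 4` of the five
involutions generate the extension, and the subgroup generated by the first four of them has index at most `56925`.
-/

set_option autoImplicit false

namespace Cfsg.Agent.Lib.Helper8.Co2Mult

open Cfsg.Agent.PL Cfsg.Agent.Co2P Cfsg.Agent.Lib.Helper8.CanonLift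
open Cfsg.Agent.Lib.Helper5.J3Mult (FCert palW Tq Cz seg card_seg_le)

theorem good_czA : Good czA := ⟨⟨Cfsg.Agent.Lib.Helper8.Co2Cent.tI, Cfsg.Agent.Lib.Helper8.Co2Cent.tI_spec.1⟩, Cfsg.Agent.Lib.Helper8.Co2Cent.tI_spec.2⟩

theorem sq_czA : pmul 2300 czA czA = pone 2300 := by
  unfold czA
  rw [← Cfsg.Agent.Lib.Helper8.Co2Cent.tI_spec.2, pmul_enc n_le, Cfsg.Agent.Lib.Helper8.Co2Cent.tI_sq, pone_eq]

/-- the data of the class of involutions -/
noncomputable def SA : Setup where
  cz := czA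
  gcodes := gcodesA
  good_cz := good_czA
  sq_cz := sq_czA
  conj_gc := conj_of_words good_czA gwordsA gcodesA chk_gwA
  base := Cfsg.Agent.Lib.Helper8.Co2MultZ.baseZ
  base_ok := Cfsg.Agent.Lib.Helper8.Co2MultZ.baseZ_ok

theorem closure_tGA : Subgroup.closure (SA.tG '' Set.Iio 5) = ⊤ := SA.closure_tG slpA idxSA chk_slpA

theorem chk_relsA : ∀ l ∈ relsA, l.all (relOK SA.base SA.gc) = true := by
  intro l hl
  unfold relsA at hl
  simp only [List.mem_cons, List.not_mem_nil, or_false] at hl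
  rcases hl with rfl | rfl | rfl | rfl | rfl | rfl | rfl | rfl | rfl | rfl | rfl | rfl | rfl | rfl | rfl | rfl | rfl | rfl | rfl | rfl | rfl | rfl | rfl | rfl | rfl | rfl | rfl
  · exact chk_relA_0
  · exact chk_relA_1
  · exact chk_relA_2
  · exact chk_relA_3
  · exact chk_relA_4
  · exact chk_relA_5
  · exact chk_relA_6
  · exact chk_relA_7
  · exact chk_relA_8
  · exact chk_relA_9
  · exact chk_relA_10
  · exact chk_relA_11
  · exact chk_relA_12
  · exact chk_relA_13
  · exact chk_relA_14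
  · exact chk_relA_15
  · exact chk_relA_16
  · exact chk_relA_17
  · exact chk_relA_18
  · exact chk_relA_19
  · exact chk_relA_20
  · exact chk_relA_21
  · exact chk_relA_22
  · exact chk_relA_23
  · exact chk_relA_24
  · exact chk_relA_25
  · exact chk_relA_26

theorem hallA : ∀ a, a < certA.n → ∀ x, x < certA.g → certA.slotOK a x = true := by
  intro a ha x hx
  have ha' : a < 56925 := ha
  rcases Nat.lt_or_ge a 2277 with h0 | h0
  · exact certA.slot_of_rows chk_cA_0 (Nat.zero_le _) (by omega) hx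
  rcases Nat.lt_or_ge a 4554 with h1 | h1
  · exact certA.slot_of_rows chk_cA_1 h0 (by omega) hx
  rcases Nat.lt_or_ge a 6831 with h2 | h2
  · exact certA.slot_of_rows chk_cA_2 h1 (by omega) hx
  rcases Nat.lt_or_ge a 9108 with h3 | h3
  · exact certA.slot_of_rows chk_cA_3 h2 (by omega) hx
  rcases Nat.lt_or_ge a 11385 with h4 | h4
  · exact certA.slot_of_rows chk_cA_4 h3 (by omega) hx
  rcases Nat.lt_or_ge a 13662 with h5 | h5
  · exact certA.slot_of_rows chk_cA_5 h4 (by omega) hx
  rcases Nat.lt_or_ge a 15939 with h6 | h6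
  · exact certA.slot_of_rows chk_cA_6 h5 (by omega) hx
  rcases Nat.lt_or_ge a 18216 with h7 | h7
  · exact certA.slot_of_rows chk_cA_7 h6 (by omega) hx
  rcases Nat.lt_or_ge a 20493 with h8 | h8
  · exact certA.slot_of_rows chk_cA_8 h7 (by omega) hx
  rcases Nat.lt_or_ge a 22770 with h9 | h9
  · exact certA.slot_of_rows chk_cA_9 h8 (by omega) hx
  rcases Nat.lt_or_ge a 25047 with h10 | h10
  · exact certA.slot_of_rows chk_cA_10 h9 (by omega) hx
  rcases Nat.lt_or_ge a 27324 with h11 | h11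
  · exact certA.slot_of_rows chk_cA_11 h10 (by omega) hx
  rcases Nat.lt_or_ge a 29601 with h12 | h12
  · exact certA.slot_of_rows chk_cA_12 h11 (by omega) hx
  rcases Nat.lt_or_ge a 31878 with h13 | h13
  · exact certA.slot_of_rows chk_cA_13 h12 (by omega) hx
  rcases Nat.lt_or_ge a 34155 with h14 | h14
  · exact certA.slot_of_rows chk_cA_14 h13 (by omega) hx
  rcases Nat.lt_or_ge a 36432 with h15 | h15
  · exact certA.slot_of_rows chk_cA_15 h14 (by omega) hx
  rcases Nat.lt_or_ge a 38709 with h16 | h16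
  · exact certA.slot_of_rows chk_cA_16 h15 (by omega) hx
  rcases Nat.lt_or_ge a 40986 with h17 | h17
  · exact certA.slot_of_rows chk_cA_17 h16 (by omega) hx
  rcases Nat.lt_or_ge a 43263 with h18 | h18
  · exact certA.slot_of_rows chk_cA_18 h17 (by omega) hx
  rcases Nat.lt_or_ge a 45540 with h19 | h19
  · exact certA.slot_of_rows chk_cA_19 h18 (by omega) hx
  rcases Nat.lt_or_ge a 47817 with h20 | h20
  · exact certA.slot_of_rows chk_cA_20 h19 (by omega) hx
  rcases Nat.lt_or_ge a 50094 with h21 | h21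
  · exact certA.slot_of_rows chk_cA_21 h20 (by omega) hx
  rcases Nat.lt_or_ge a 52371 with h22 | h22
  · exact certA.slot_of_rows chk_cA_22 h21 (by omega) hx
  rcases Nat.lt_or_ge a 54648 with h23 | h23
  · exact certA.slot_of_rows chk_cA_23 h22 (by omega) hx
  exact certA.slot_of_rows chk_cA_24 h23 (by omega) hx

section lifts

variable {E : Type*} [Group E] {σ : E →* ↥P} (Λ : Lifts σ (Tq SA.tz))

/-- **the lifts of the five involutions generate the extension, and the first four of them generate a subgroup of index at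
most `56925`** -/
theorem boundA [Finite E] (hcen : σ.ker ≤ Subgroup.center E) (hder : σ.ker ≤ commutator E) :
    seg (SA.γL Λ) 5 = ⊤ ∧ Nat.card E ≤ 56925 * Nat.card ↥(seg (SA.γL Λ) 4) := by
  set γ := SA.γL Λ with hγ
  have hinv : ∀ x, γ x * γ x = 1 := SA.γL_sq Λ
  have htop : seg γ 5 = ⊤ := by
    have := Λ.closure_eq_top hcen hder (SA.xG '' Set.Iio 5) ⟨SA.xG 0, 0, by norm_num, rfl⟩ (by
      rw [Set.image_image, SA.Tq_xG']
      exact closure_tGA)
    rw [Set.image_image] at this
    exact this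
  have hW : ∀ k, ((certA.W k).map γ).prod = 1 := fun k => SA.word_getD2 Λ chk_relsA (k / 128) (k % 128)
  have hL : ∀ k, ∀ x ∈ certA.W k, x < certA.g := fun k => lt_getD2 (by norm_num) chk_letA (k / 128) (k % 128)
  have hfin : Finite ↥(seg γ certA.nsub) := inferInstance
  obtain ⟨_, hc⟩ := card_seg_le γ certA hinv hW hL (show 4 ≤ 5 by norm_num) (show 0 < 56925 by norm_num) hallA hfin
  refine ⟨htop, ?_⟩
  have h5 : Nat.card ↥(seg γ 5) = Nat.card E := by rw [htop, Subgroup.card_top]
  rw [← h5]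
  exact hc

end lifts

end Cfsg.Agent.Lib.Helper8.Co2Mult
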