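import Mathlib.Data.Nat.Notation

/-! Data of a coset certificate for the Schur multiplier of the second Conway group (generated by a script) -/

set_option autoImplicit false

namespace Cfsg.Agent.Lib.Helper8.Co2Mult

def relB_0 : List (List ℕ × ℕ × List ℕ × ℕ) :=
  [([], 1, [4], 1),
   ([], 4, [0], 4),
   ([0], 1, [1], 0),
   ([1], 2, [2], 1),
   ([1], 3, [3], 1),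
   ([2], 4, [4], 2),
   ([], 4, [1, 0], 4),
   ([], 4, [4, 3], 3),
   ([0], 2, [2], 0),
   ([0], 3, [3], 0),
   ([], 2, [2, 3], 3),
   ([0], 1, [4, 1], 0),
   ([0], 1, [0, 4], 1),
   ([0], 1, [1, 4], 0),
   ([1], 2, [4, 2], 1),
   ([1], 3, [4, 3], 1),
   ([], 1, [1, 0, 4], 0),
   ([], 4, [4, 2, 0], 2),
   ([], 4, [4, 3, 0], 3),
   ([], 4, [1, 4, 0], 4),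
   ([], 4, [4, 2, 1], 2),
   ([], 4, [4, 3, 1], 3),
   ([0], 2, [4, 2], 0),
   ([0], 3, [4, 3], 0),
   ([0], 1, [4, 0, 1], 0),
   ([0], 1, [0, 2, 1], 2),
   ([0], 1, [0, 3, 1], 3),
   ([2, 0], 4, [0, 4], 2),
   ([1], 2, [1, 0, 2], 0),
   ([1], 2, [4, 1, 2], 1),
   ([1], 2, [1, 3, 2], 3),
   ([1], 2, [2, 1, 4], 4),
   ([1], 3, [1, 0, 3], 0),
   ([1], 3, [4, 1, 3], 1),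
   ([1], 3, [3, 1, 4], 4),
   ([], 1, [2, 0, 1, 2], 0),
   ([], 1, [2, 3, 1, 2], 3),
   ([], 1, [2, 4, 1, 2], 4),
   ([], 1, [2, 1, 4, 2], 4),
   ([], 1, [4, 1, 4, 2], 2),
   ([], 1, [3, 0, 1, 3], 0),
   ([], 1, [3, 2, 1, 3], 2),
   ([], 1, [3, 4, 1, 3], 4),
   ([], 1, [3, 1, 4, 3], 4),
   ([], 1, [4, 1, 4, 3], 3),
   ([], 1, [4, 1, 0, 4], 0),
   ([], 1, [1, 4, 0, 4], 0),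
   ([2], 4, [2, 0, 4], 0),
   ([2], 4, [2, 3, 4], 3),
   ([], 4, [1, 0, 1, 0], 4),
   ([], 4, [4, 2, 1, 0], 2),
   ([], 4, [4, 3, 1, 0], 3),
   ([], 4, [0, 4, 1, 0], 4),
   ([], 4, [1, 4, 1, 0], 4),
   ([], 4, [1, 0, 4, 0], 4),
   ([], 4, [4, 2, 4, 0], 2),
   ([], 4, [4, 3, 4, 0], 3),
   ([], 4, [4, 2, 0, 1], 2),
   ([], 4, [4, 3, 0, 1], 3),
   ([], 4, [1, 4, 0, 1], 4),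
   ([], 4, [4, 3, 4, 1], 3),
   ([], 4, [3, 2, 4, 3], 2),
   ([0], 2, [4, 0, 2], 0),
   ([0], 2, [0, 3, 2], 3),
   ([0], 3, [4, 0, 3], 0),
   ([], 2, [3, 0, 2, 3], 0),
   ([], 2, [4, 3, 2, 4], 3),
   ([2], 3, [2, 0, 3], 0),
   ([0, 3], 2, [0, 2, 0], 3),
   ([0, 3], 2, [3, 2, 0], 0),
   ([0, 3], 2, [2, 0, 2], 3),
   ([0, 3], 2, [3, 0, 2], 2),
   ([0, 2], 3, [2, 3, 0], 0),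
   ([0, 2], 3, [2, 0, 3], 3),
   ([0], 1, [0, 2, 0, 1], 2),
   ([0], 1, [0, 3, 0, 1], 3),
   ([0], 1, [4, 0, 4, 1], 0),
   ([0], 1, [0, 1, 4, 1], 1),
   ([0], 1, [4, 1, 0, 4], 1),
   ([0], 1, [1, 2, 0, 4], 2),
   ([0], 1, [1, 3, 0, 4], 3),
   ([0], 1, [4, 0, 1, 4], 0),
   ([0], 1, [0, 2, 1, 4], 2),
   ([2, 0], 4, [4, 0, 2], 2),
   ([2, 0], 4, [0, 4, 2], 2),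
   ([2, 0], 4, [4, 2, 4], 0),
   ([1], 2, [1, 0, 1, 2], 0),
   ([1], 2, [1, 3, 1, 2], 3),
   ([1], 2, [1, 0, 4, 2], 0),
   ([1], 2, [4, 1, 4, 2], 1),
   ([1], 2, [1, 3, 4, 2], 3),
   ([1], 2, [0, 2, 1, 4], 4),
   ([1], 3, [4, 1, 0, 3], 0),
   ([1], 3, [1, 0, 1, 3], 0),
   ([1], 3, [4, 1, 4, 3], 1),
   ([1], 3, [0, 3, 1, 4], 4),
   ([], 1, [4, 2, 0, 1, 2], 0),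
   ([], 1, [2, 0, 2, 1, 2], 0),
   ([], 1, [2, 3, 2, 1, 2], 3),
   ([], 1, [2, 4, 2, 1, 2], 4),
   ([], 1, [4, 3, 0, 1, 3], 0),
   ([], 1, [3, 0, 3, 1, 3], 0),
   ([], 1, [3, 2, 3, 1, 3], 2),
   ([], 1, [3, 4, 3, 1, 3], 4),
   ([], 1, [4, 1, 4, 2, 4], 2),
   ([], 1, [3, 0, 1, 3, 4], 0),
   ([2], 4, [4, 2, 0, 4], 0),
   ([2], 4, [2, 0, 2, 4], 0),
   ([], 4, [4, 3, 0, 4, 0], 3),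
   ([], 4, [1, 4, 1, 4, 0], 4),
   ([2, 0], 3, [3, 2, 3], 0),
   ([], 2, [4, 3, 0, 2, 3], 0),
   ([2], 3, [4, 2, 0, 3], 0),
   ([0, 3], 2, [4, 3, 2, 0], 0),
   ([0, 2], 3, [4, 2, 3, 0], 0),
   ([0, 1], 3, [0, 1, 0, 3, 0], 3),
   ([0, 1], 3, [3, 1, 0, 3, 0], 0),
   ([0, 1], 3, [1, 0, 1, 3, 0], 3),
   ([0, 1], 3, [3, 0, 1, 3, 0], 1),
   ([0, 1], 3, [0, 3, 1, 0, 3], 1),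
   ([0, 1], 3, [4, 0, 3, 1, 3], 1),
   ([0, 1], 3, [4, 1, 3, 1, 3], 0),
   ([0, 1], 3, [0, 3, 0, 1, 4], 4),
   ([0, 1], 3, [3, 0, 3, 1, 4], 4),
   ([0, 1], 3, [0, 4, 3, 1, 4], 3),
   ([0], 1, [1, 2, 0, 1, 0, 1], 2),
   ([0], 1, [3, 2, 0, 3, 0, 1], 2),
   ([0], 1, [0, 2, 0, 4, 0, 1], 2)]

def relB_1 : List (List ℕ × ℕ × List ℕ × ℕ) :=
  [([0], 1, [2, 3, 0, 2, 3, 1], 0),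
   ([0], 1, [2, 3, 0, 2, 4, 1], 3),
   ([0], 1, [0, 2, 0, 1, 0, 2], 1),
   ([0], 1, [1, 2, 0, 1, 0, 2], 0),
   ([0], 1, [1, 0, 2, 1, 0, 2], 2),
   ([0], 1, [2, 0, 2, 1, 0, 2], 1),
   ([0], 1, [4, 2, 0, 2, 0, 2], 1),
   ([0], 1, [0, 1, 2, 0, 1, 2], 2),
   ([0], 1, [2, 1, 2, 0, 1, 2], 0),
   ([0], 1, [4, 2, 1, 2, 1, 2], 0),
   ([0], 1, [0, 2, 4, 2, 4, 2], 1),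
   ([0], 1, [4, 3, 0, 3, 0, 3], 1),
   ([0], 1, [4, 3, 1, 3, 1, 3], 0),
   ([0], 1, [0, 3, 4, 3, 4, 3], 1),
   ([0], 1, [1, 3, 4, 3, 4, 3], 0),
   ([0], 1, [2, 3, 1, 2, 0, 4], 3),
   ([0], 1, [2, 4, 1, 2, 0, 4], 4),
   ([0], 1, [2, 1, 4, 2, 0, 4], 4),
   ([0], 1, [3, 4, 1, 3, 0, 4], 4),
   ([0], 1, [3, 1, 4, 3, 0, 4], 4),
   ([0], 1, [0, 4, 0, 4, 0, 4], 1),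
   ([0], 1, [0, 3, 4, 0, 1, 4], 3),
   ([0], 1, [2, 3, 0, 2, 1, 4], 3),
   ([0], 1, [2, 4, 0, 2, 1, 4], 4),
   ([0], 1, [2, 0, 4, 2, 1, 4], 4),
   ([0], 1, [3, 2, 0, 3, 1, 4], 2),
   ([0], 1, [3, 4, 0, 3, 1, 4], 4),
   ([0], 1, [3, 0, 4, 3, 1, 4], 4),
   ([2, 0], 4, [4, 2, 1, 4, 1], 0),
   ([2, 0], 4, [0, 3, 0, 2, 4], 3),
   ([2, 0], 4, [3, 2, 0, 3, 4], 0),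
   ([2, 0], 4, [2, 0, 2, 3, 4], 3),
   ([2, 0], 4, [3, 0, 2, 3, 4], 2),
   ([2, 1], 3, [4, 3, 2, 1, 2], 1),
   ([2, 1], 3, [4, 2, 3, 1, 3], 1),
   ([1, 0], 3, [0, 3, 1, 0, 4], 4),
   ([1, 0], 3, [1, 3, 1, 0, 4], 4),
   ([1, 0], 3, [3, 1, 3, 0, 4], 4),
   ([1, 0], 3, [1, 4, 3, 0, 4], 3),
   ([1], 2, [0, 2, 1, 0, 4, 0], 4),
   ([1], 2, [0, 3, 0, 1, 0, 2], 3),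
   ([1], 2, [2, 3, 1, 2, 1, 2], 3),
   ([1], 2, [2, 4, 1, 2, 1, 2], 4),
   ([1], 2, [2, 1, 4, 2, 1, 2], 4),
   ([1], 2, [1, 2, 1, 4, 1, 2], 2),
   ([1], 2, [1, 3, 1, 4, 1, 2], 3),
   ([1], 2, [0, 3, 4, 1, 3, 2], 4),
   ([1], 2, [1, 3, 4, 1, 3, 2], 4),
   ([1], 2, [1, 3, 1, 4, 3, 2], 4),
   ([1], 2, [4, 1, 3, 4, 3, 2], 3),
   ([1], 2, [3, 0, 1, 3, 4, 2], 0),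
   ([1], 2, [4, 0, 2, 0, 1, 4], 2),
   ([1], 2, [4, 3, 0, 2, 1, 4], 3),
   ([1], 2, [4, 3, 1, 2, 1, 4], 3),
   ([1], 2, [0, 4, 1, 2, 1, 4], 4),
   ([1], 2, [4, 2, 0, 4, 1, 4], 0),
   ([1], 2, [2, 1, 2, 4, 1, 4], 1),
   ([1], 2, [2, 3, 2, 4, 1, 4], 3),
   ([1], 2, [2, 4, 2, 4, 1, 4], 4),
   ([1], 3, [0, 2, 0, 1, 0, 3], 2),
   ([1], 3, [4, 1, 0, 4, 0, 3], 1),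
   ([1], 3, [1, 3, 0, 4, 0, 3], 3),
   ([1], 3, [3, 0, 1, 3, 1, 3], 0),
   ([1], 3, [3, 4, 1, 3, 1, 3], 4),
   ([1], 3, [3, 1, 4, 3, 1, 3], 4),
   ([1], 3, [4, 3, 4, 0, 1, 4], 0),
   ([1], 3, [4, 2, 0, 3, 1, 4], 2),
   ([1], 3, [4, 3, 0, 4, 1, 4], 0),
   ([1], 3, [3, 0, 3, 4, 1, 4], 0),
   ([], 1, [4, 0, 1, 2, 0, 1, 2], 1),
   ([], 1, [0, 2, 4, 3, 0, 1, 3], 2),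
   ([], 1, [1, 4, 1, 0, 1, 0, 4], 0),
   ([2], 4, [0, 2, 4, 1, 4, 1], 4),
   ([2], 4, [3, 2, 3, 2, 3, 4], 2),
   ([], 4, [4, 2, 0, 1, 4, 1, 0], 2),
   ([], 4, [0, 3, 0, 3, 0, 3, 0], 4),
   ([0], 3, [3, 2, 0, 3, 2, 3], 0),
   ([3, 2], 4, [0, 3, 4, 3, 2, 0], 2),
   ([3, 2], 4, [2, 0, 3, 4, 2, 0], 4),
   ([3, 2], 4, [3, 2, 1, 3, 0, 1], 4),
   ([3, 2], 4, [4, 2, 1, 3, 0, 1], 3),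
   ([3, 2], 4, [4, 1, 2, 1, 2, 1], 3),
   ([3, 2], 4, [4, 2, 1, 0, 3, 1], 3),
   ([3, 2], 4, [2, 4, 2, 1, 4, 1], 3),
   ([3, 2], 4, [4, 2, 3, 4, 0, 3], 3),
   ([3, 2], 4, [0, 4, 0, 3, 2, 3], 2),
   ([3, 2], 4, [0, 1, 2, 3, 2, 3], 4),
   ([3, 2], 4, [4, 3, 2, 3, 2, 3], 3),
   ([3, 2], 4, [0, 4, 2, 3, 2, 3], 4),
   ([3, 2], 4, [1, 4, 2, 3, 2, 3], 4),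
   ([3, 2], 4, [3, 0, 2, 4, 2, 4], 0),
   ([0, 3], 2, [4, 3, 1, 0, 2, 0], 1),
   ([0, 3], 2, [3, 0, 3, 0, 2, 0], 0),
   ([0, 3], 2, [3, 1, 3, 0, 2, 0], 1),
   ([0, 3], 2, [1, 3, 4, 0, 2, 0], 4),
   ([0, 3], 2, [0, 1, 0, 3, 2, 0], 1),
   ([0, 3], 2, [0, 3, 0, 4, 2, 0], 4),
   ([0, 3], 2, [3, 0, 3, 4, 2, 0], 4),
   ([0, 3], 2, [4, 0, 3, 4, 2, 0], 3),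
   ([0, 3], 2, [2, 1, 3, 1, 3, 1], 0),
   ([0, 3], 2, [0, 3, 4, 1, 4, 1], 2),
   ([0, 3], 2, [2, 0, 3, 4, 0, 4], 3),
   ([0, 3], 2, [3, 4, 2, 0, 3, 4], 0),
   ([1, 0, 2], 3, [1, 2, 0, 2, 0], 3),
   ([1, 0, 2], 3, [3, 2, 0, 2, 0], 1),
   ([0, 2], 3, [2, 4, 2, 0, 3, 0], 4),
   ([0, 2], 3, [2, 4, 3, 0, 2, 4], 0),
   ([2, 4], 3, [2, 4, 3, 0, 4, 0], 4),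
   ([2, 4], 3, [0, 4, 3, 2, 4, 2], 4),
   ([0, 1], 3, [3, 0, 1, 0, 1, 0], 0),
   ([0, 1], 3, [3, 2, 1, 0, 1, 0], 2),
   ([0, 1], 3, [3, 4, 0, 1, 0, 4], 1),
   ([0, 1], 3, [0, 1, 3, 0, 1, 4], 4),
   ([0], 1, [2, 0, 2, 0, 2, 0, 1], 0),
   ([0], 1, [1, 2, 0, 4, 2, 0, 1], 4),
   ([0], 1, [4, 0, 4, 0, 4, 0, 1], 0),
   ([0], 1, [2, 0, 3, 0, 3, 2, 1], 3),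
   ([0], 1, [4, 1, 4, 0, 2, 0, 2], 2),
   ([0], 1, [4, 0, 4, 0, 1, 0, 4], 1),
   ([0], 1, [0, 2, 4, 1, 2, 0, 4], 4),
   ([0], 1, [1, 2, 4, 1, 2, 0, 4], 4),
   ([0], 1, [4, 1, 2, 4, 2, 0, 4], 2),
   ([0], 1, [4, 1, 4, 0, 4, 0, 4], 0),
   ([0], 1, [4, 1, 0, 1, 4, 0, 4], 0),
   ([0], 1, [1, 2, 4, 1, 4, 0, 4], 2),
   ([0], 1, [2, 4, 1, 2, 4, 0, 4], 4),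
   ([2, 0], 4, [4, 2, 0, 2, 0, 2], 2),
   ([1], 2, [1, 0, 2, 1, 0, 4, 0], 4)]

def relB_2 : List (List ℕ × ℕ × List ℕ × ℕ) :=
  [([1], 2, [4, 3, 2, 1, 0, 4, 0], 3),
   ([1], 2, [1, 3, 1, 4, 3, 1, 2], 4),
   ([1], 2, [1, 3, 4, 3, 1, 3, 2], 4),
   ([1], 2, [4, 2, 1, 0, 2, 1, 4], 2),
   ([1], 2, [0, 4, 1, 0, 2, 1, 4], 4),
   ([1], 3, [0, 1, 4, 1, 3, 1, 4], 4),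
   ([3, 2], 4, [1, 3, 0, 2, 0, 2, 0], 4),
   ([3, 2], 4, [3, 0, 2, 4, 3, 2, 0], 2),
   ([1, 3, 1], 2, [4, 3, 1, 2, 4, 1, 2], 2),
   ([1, 3, 1], 2, [2, 3, 2, 0, 1, 2, 4], 4),
   ([1, 3, 1], 2, [4, 3, 2, 0, 1, 2, 4], 2),
   ([1, 3, 1], 2, [3, 2, 3, 0, 1, 2, 4], 4),
   ([1, 3, 1], 2, [4, 2, 3, 0, 1, 2, 4], 3),
   ([0, 3, 4, 1], 2, [0, 1, 2, 3, 1, 4], 1),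
   ([0, 3, 4, 1], 2, [0, 3, 2, 3, 1, 4], 3),
   ([1, 3, 4, 1], 2, [3, 2, 3, 2, 1, 4], 1),
   ([1, 3, 4, 1], 2, [2, 3, 1, 3, 1, 4], 3),
   ([1, 3, 4, 1], 2, [2, 4, 1, 3, 1, 4], 4),
   ([1, 3, 4, 1], 2, [1, 0, 2, 3, 1, 4], 0),
   ([1, 3, 4, 1], 2, [1, 3, 2, 3, 1, 4], 3),
   ([1, 3, 4, 1], 2, [3, 0, 2, 1, 3, 4], 0),
   ([1, 3, 4, 1], 2, [3, 4, 2, 1, 3, 4], 4),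
   ([1, 3, 4, 1], 2, [2, 4, 1, 4, 3, 4], 3),
   ([0, 3, 4], 2, [0, 2, 0, 3, 0, 2, 0], 4),
   ([0, 3, 4], 2, [4, 3, 1, 0, 2, 4, 0], 1),
   ([0, 3, 4], 2, [3, 1, 3, 0, 2, 4, 0], 1),
   ([0, 3, 4], 2, [0, 4, 1, 3, 2, 4, 0], 1),
   ([0, 3, 4], 2, [3, 0, 3, 4, 2, 4, 0], 4),
   ([0, 2, 3], 1, [1, 2, 0, 3, 0, 3, 0], 0),
   ([0, 2, 3], 1, [1, 0, 2, 3, 0, 3, 0], 2),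
   ([0, 2, 3], 1, [0, 2, 3, 4, 0, 4, 0], 1),
   ([0, 2, 3], 1, [4, 1, 0, 3, 2, 3, 2], 1),
   ([1, 2, 4, 1], 3, [3, 0, 1, 3, 0, 2], 4),
   ([1, 2, 4, 1], 3, [4, 0, 1, 3, 0, 2], 3),
   ([1, 2, 4, 1], 3, [3, 4, 1, 3, 0, 2], 0),
   ([1, 2, 4, 1], 3, [2, 4, 1, 2, 4, 2], 3),
   ([1, 2, 4, 1], 3, [3, 4, 1, 2, 4, 2], 2),
   ([1, 2, 4, 1], 3, [3, 0, 1, 2, 1, 4], 0),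
   ([1, 2, 4, 1], 3, [3, 4, 1, 2, 1, 4], 4),
   ([1, 2, 4, 1], 3, [3, 1, 2, 1, 2, 4], 1),
   ([1, 2, 4, 1], 3, [2, 0, 3, 1, 2, 4], 0),
   ([2, 0, 1, 2], 4, [1, 2, 0, 1, 2, 1], 4),
   ([2, 0, 1, 2], 4, [4, 0, 2, 1, 2, 1], 2),
   ([2, 0, 1, 2], 4, [2, 4, 2, 1, 2, 1], 0),
   ([2, 0, 1, 2], 4, [0, 2, 4, 1, 2, 4], 1),
   ([0, 3, 2, 1], 1, [1, 3, 1, 2, 1, 2], 0),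
   ([1, 0, 3, 0], 2, [2, 0, 1, 3, 0, 3], 0),
   ([1, 0, 3, 0], 2, [1, 3, 4, 0, 4, 3], 2),
   ([1, 0, 3, 0], 2, [1, 0, 3, 4, 0, 4], 2),
   ([0, 3, 4, 1], 1, [0, 3, 1, 0, 4, 0], 1),
   ([0, 3, 4, 1], 1, [3, 0, 1, 3, 4, 3], 4),
   ([0, 3, 4, 1], 1, [4, 0, 1, 3, 4, 3], 3),
   ([0, 3, 4, 1], 1, [0, 4, 1, 3, 4, 3], 3),
   ([0, 3, 4, 1], 1, [3, 4, 1, 3, 4, 3], 0),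
   ([0, 3, 4, 1], 1, [0, 1, 4, 3, 4, 3], 3),
   ([0, 3, 4, 1], 1, [4, 0, 3, 1, 0, 4], 1),
   ([0, 3, 4, 1], 1, [4, 1, 0, 3, 1, 4], 1),
   ([0, 3, 4, 1], 1, [1, 2, 0, 3, 1, 4], 2),
   ([0, 3, 4, 1], 1, [4, 0, 1, 3, 1, 4], 0),
   ([0, 3, 4, 1], 1, [0, 2, 1, 3, 1, 4], 2),
   ([0, 3, 4, 1], 1, [0, 3, 1, 3, 1, 4], 3),
   ([0, 3, 4, 1], 1, [3, 2, 0, 1, 3, 4], 2),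
   ([0, 3, 4, 1], 1, [3, 4, 0, 1, 3, 4], 4),
   ([0, 3, 4, 1], 1, [3, 4, 1, 4, 3, 4], 0),
   ([3, 1, 2], 4, [0, 3, 1, 2, 3, 2, 3], 4),
   ([3, 1, 2], 4, [4, 1, 3, 2, 3, 2, 3], 3),
   ([3, 1, 2], 4, [3, 4, 3, 2, 3, 2, 3], 1),
   ([0, 1, 2, 3], 3, [0, 3, 1, 2, 3, 2], 1),
   ([0, 1, 2, 3], 3, [0, 1, 3, 2, 3, 2], 3),
   ([2, 0, 3, 1], 4, [4, 0, 1, 3, 1, 3], 2),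
   ([2, 0, 3, 1], 4, [2, 4, 1, 3, 1, 3], 0),
   ([2, 0, 3, 1], 4, [4, 0, 2, 0, 1, 4], 3),
   ([2, 0, 3, 1], 4, [3, 2, 0, 2, 1, 4], 4),
   ([2, 0, 3, 1], 4, [4, 2, 0, 2, 1, 4], 3),
   ([2, 0, 3, 1], 4, [2, 3, 4, 3, 1, 4], 0),
   ([2, 0, 3, 1], 4, [4, 0, 3, 4, 1, 4], 2),
   ([2, 0, 3, 1], 4, [2, 4, 3, 4, 1, 4], 0),
   ([0, 2, 4, 1], 1, [0, 2, 4, 2, 1, 0], 1),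
   ([0, 2, 4, 1], 1, [0, 2, 1, 0, 4, 0], 1),
   ([0, 2, 4, 1], 1, [1, 2, 1, 0, 4, 0], 0),
   ([0, 2, 4, 1], 1, [0, 1, 2, 0, 4, 0], 2),
   ([0, 2, 4, 1], 1, [2, 1, 2, 0, 4, 0], 0),
   ([0, 2, 4, 1], 1, [4, 0, 2, 1, 4, 0], 1),
   ([0, 2, 4, 1], 1, [4, 1, 2, 1, 4, 0], 0),
   ([0, 2, 4, 1], 1, [4, 0, 1, 2, 4, 2], 2),
   ([0, 2, 4, 1], 1, [0, 4, 1, 2, 4, 2], 2),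
   ([0, 2, 4, 1], 1, [1, 0, 2, 0, 1, 4], 2),
   ([0, 2, 4, 1], 1, [4, 1, 0, 2, 1, 4], 1),
   ([0, 2, 4, 1], 1, [1, 3, 0, 2, 1, 4], 3),
   ([0, 2, 4, 1], 1, [1, 0, 1, 0, 2, 4], 2),
   ([0, 2, 4, 1], 1, [2, 3, 0, 1, 2, 4], 3),
   ([0, 2, 4, 1], 1, [2, 4, 0, 1, 2, 4], 4),
   ([0, 3, 0], 1, [4, 3, 1, 3, 1, 0, 1], 0),
   ([0, 3, 0], 1, [1, 0, 1, 0, 3, 0, 1], 0),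
   ([0, 3, 0], 1, [1, 2, 1, 0, 3, 0, 1], 2),
   ([0, 3, 0], 1, [1, 2, 4, 0, 3, 0, 1], 2),
   ([0, 3, 0], 1, [0, 2, 0, 1, 3, 0, 1], 2),
   ([0, 3, 0], 1, [0, 3, 0, 1, 3, 0, 1], 3),
   ([0, 3, 0], 1, [4, 1, 0, 4, 3, 0, 1], 1),
   ([0, 3, 0], 1, [4, 0, 1, 4, 3, 0, 1], 0),
   ([0, 3, 0], 1, [3, 0, 3, 1, 0, 3, 1], 0),
   ([0, 3, 0], 1, [3, 1, 3, 1, 0, 3, 1], 1),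
   ([0, 3, 0], 1, [1, 3, 4, 0, 1, 4, 1], 0),
   ([0, 3, 0], 1, [0, 3, 0, 4, 1, 4, 1], 1),
   ([0, 3, 0], 1, [1, 0, 3, 4, 1, 4, 1], 3),
   ([0, 3, 0], 1, [4, 0, 3, 0, 1, 0, 3], 0),
   ([0, 3, 0], 1, [0, 1, 3, 0, 1, 0, 3], 1),
   ([0, 3, 0], 1, [3, 0, 4, 0, 1, 0, 3], 4),
   ([0, 3, 0], 1, [2, 0, 3, 2, 1, 0, 3], 0),
   ([0, 3, 0], 1, [2, 1, 3, 2, 1, 0, 3], 1),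
   ([0, 3, 0], 1, [2, 4, 3, 2, 1, 0, 3], 4),
   ([0, 3, 0], 1, [4, 3, 0, 3, 1, 0, 3], 0),
   ([0, 3, 0], 1, [4, 3, 1, 3, 1, 0, 3], 1),
   ([0, 3, 0], 1, [1, 3, 4, 3, 1, 0, 3], 4),
   ([0, 3, 0], 1, [0, 1, 3, 4, 1, 0, 3], 4),
   ([0, 3, 0], 1, [4, 2, 3, 4, 1, 0, 3], 2),
   ([0, 3, 0], 1, [2, 1, 2, 1, 2, 0, 3], 3),
   ([0, 3, 0], 1, [3, 1, 2, 1, 2, 0, 3], 2),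
   ([0, 3, 0], 1, [0, 2, 1, 0, 3, 0, 3], 2),
   ([0, 3, 0], 1, [4, 1, 4, 0, 3, 0, 3], 0),
   ([0, 3, 0], 1, [4, 1, 0, 1, 3, 0, 3], 0),
   ([0, 3, 0], 1, [1, 2, 4, 1, 3, 0, 3], 2),
   ([0, 3, 0], 1, [1, 3, 4, 1, 3, 0, 3], 3),
   ([0, 3, 0], 1, [2, 0, 1, 2, 3, 0, 3], 0),
   ([0, 3, 0], 1, [2, 4, 1, 2, 3, 0, 3], 4),
   ([0, 3, 0], 1, [1, 4, 0, 4, 3, 0, 3], 0),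
   ([0, 3, 0], 1, [0, 3, 1, 4, 1, 0, 4], 1),
   ([2, 1, 0, 3], 4, [1, 0, 3, 4, 3, 4], 2)]

def relB_3 : List (List ℕ × ℕ × List ℕ × ℕ) :=
  [([3, 2, 1], 4, [0, 1, 3, 1, 2, 1, 2], 4),
   ([3, 2, 1], 4, [4, 2, 3, 1, 2, 1, 2], 2),
   ([3, 2, 1], 4, [3, 1, 4, 1, 2, 1, 2], 1),
   ([3, 2, 1], 4, [1, 3, 1, 3, 2, 1, 2], 4),
   ([3, 2, 1], 4, [4, 3, 4, 3, 2, 1, 2], 1),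
   ([3, 2, 1], 4, [4, 1, 3, 4, 2, 1, 2], 1),
   ([3, 2, 1], 4, [3, 0, 2, 4, 2, 1, 4], 0),
   ([3, 2, 1], 4, [2, 0, 3, 4, 2, 1, 4], 0),
   ([3, 2, 1], 4, [0, 4, 0, 2, 4, 1, 4], 3),
   ([3, 2, 1], 4, [0, 1, 3, 2, 4, 1, 4], 4),
   ([3, 2, 1], 4, [4, 2, 3, 2, 4, 1, 4], 2),
   ([3, 2, 1], 4, [3, 2, 4, 2, 4, 1, 4], 2),
   ([2, 4, 3, 0], 3, [0, 4, 2, 3, 4, 3], 3),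
   ([1, 2, 4, 0], 3, [3, 2, 0, 1, 4, 1], 1),
   ([1, 2, 4, 0], 3, [3, 1, 2, 1, 0, 4], 2),
   ([1, 2, 4, 0], 3, [3, 0, 1, 2, 0, 4], 0),
   ([1, 2, 4, 0], 3, [3, 2, 1, 2, 0, 4], 2),
   ([1, 3, 2, 0], 2, [1, 2, 3, 4, 0, 4], 3),
   ([0, 1, 3], 2, [4, 3, 2, 0, 1, 3, 1], 0),
   ([0, 1, 3], 2, [2, 0, 3, 0, 1, 3, 1], 3),
   ([0, 1, 3], 2, [0, 2, 3, 2, 1, 3, 1], 3),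
   ([0, 1, 3], 2, [3, 2, 3, 2, 1, 3, 1], 0),
   ([0, 1, 3], 2, [2, 1, 0, 3, 1, 3, 1], 1),
   ([0, 1, 3], 2, [4, 0, 2, 3, 1, 3, 1], 0),
   ([0, 1, 3], 2, [0, 1, 2, 3, 1, 3, 1], 1),
   ([0, 1, 0], 3, [4, 0, 3, 0, 1, 0, 1], 0),
   ([0, 1, 0], 3, [0, 2, 3, 0, 1, 0, 1], 2),
   ([0, 1, 0], 3, [3, 0, 4, 0, 1, 0, 1], 4),
   ([0, 1, 0], 3, [4, 3, 1, 3, 1, 0, 1], 1),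
   ([0, 1, 0], 3, [1, 3, 4, 3, 1, 0, 1], 4),
   ([0, 1, 0], 3, [3, 4, 0, 4, 1, 0, 1], 0),
   ([0, 1, 0], 3, [3, 4, 1, 4, 1, 0, 1], 1),
   ([0, 1, 0], 3, [0, 1, 3, 4, 1, 0, 1], 4),
   ([0, 1, 0], 3, [2, 1, 2, 1, 2, 0, 1], 3),
   ([0, 1, 0], 3, [1, 3, 2, 3, 2, 0, 1], 2),
   ([0, 1, 0], 3, [2, 3, 2, 3, 2, 0, 1], 1),
   ([0, 1, 0], 3, [4, 0, 1, 0, 3, 0, 1], 0),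
   ([0, 1, 0], 3, [0, 2, 1, 0, 3, 0, 1], 2),
   ([0, 1, 0], 3, [1, 2, 4, 1, 3, 0, 1], 2),
   ([0, 1, 0], 3, [2, 0, 1, 2, 3, 0, 1], 0),
   ([0, 1, 0], 3, [4, 0, 3, 0, 1, 3, 1], 1),
   ([0, 1, 0], 3, [4, 3, 0, 3, 1, 3, 1], 1),
   ([0, 1, 0], 3, [1, 2, 3, 4, 0, 4, 1], 2),
   ([0, 1, 0], 3, [3, 0, 1, 4, 1, 4, 1], 1),
   ([0, 1, 0], 3, [3, 0, 3, 0, 1, 0, 3], 0),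
   ([0, 1, 0], 3, [0, 3, 0, 2, 1, 0, 3], 2),
   ([0, 1, 0], 3, [2, 3, 0, 2, 1, 0, 3], 0),
   ([0, 1, 0], 3, [2, 0, 3, 2, 1, 0, 3], 3),
   ([0, 1, 0], 3, [3, 0, 3, 2, 1, 0, 3], 2),
   ([0, 1, 0], 3, [0, 2, 4, 3, 1, 0, 3], 2),
   ([0, 1, 0], 3, [0, 3, 1, 0, 3, 0, 3], 1),
   ([0, 1, 0], 3, [1, 3, 1, 0, 3, 0, 3], 0),
   ([0, 1, 0], 3, [0, 3, 1, 3, 4, 0, 4], 1),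
   ([0, 1, 0], 3, [4, 1, 3, 4, 0, 1, 4], 1),
   ([0, 1, 0], 3, [3, 0, 1, 0, 4, 1, 4], 0),
   ([2, 3, 0], 4, [4, 3, 1, 0, 1, 0, 1], 2),
   ([2, 3, 0], 4, [2, 4, 0, 2, 3, 4, 2], 3),
   ([2, 3, 0], 4, [3, 4, 0, 2, 3, 4, 2], 2),
   ([2, 3, 0], 4, [0, 1, 2, 0, 3, 0, 3], 4),
   ([2, 3, 0], 4, [4, 2, 4, 2, 3, 0, 3], 0),
   ([2, 4, 0], 3, [2, 1, 0, 1, 0, 4, 1], 3),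
   ([2, 4, 0], 3, [4, 2, 3, 2, 1, 4, 1], 0),
   ([2, 4, 0], 3, [3, 2, 1, 2, 1, 0, 4], 1),
   ([2, 4, 0], 3, [2, 3, 1, 3, 1, 0, 4], 1),
   ([2, 4, 0], 3, [2, 4, 1, 4, 1, 0, 4], 3),
   ([2, 4, 0], 3, [4, 1, 3, 1, 2, 0, 4], 1),
   ([2, 4, 0], 3, [4, 3, 1, 3, 2, 0, 4], 1),
   ([2, 4, 0], 3, [3, 4, 1, 4, 2, 0, 4], 1),
   ([2, 4, 0], 3, [1, 0, 2, 1, 3, 0, 4], 0),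
   ([2, 4, 0], 3, [4, 1, 2, 1, 3, 0, 4], 1),
   ([2, 4, 0], 3, [1, 2, 4, 2, 3, 0, 4], 4),
   ([2, 4, 0], 3, [0, 1, 2, 4, 3, 0, 4], 4),
   ([2, 4, 0], 3, [2, 3, 4, 3, 4, 0, 4], 4),
   ([2, 4, 0], 3, [4, 2, 1, 0, 3, 2, 4], 1),
   ([2, 4, 0], 3, [2, 0, 2, 0, 3, 2, 4], 0),
   ([2, 4, 0], 3, [2, 1, 2, 0, 3, 2, 4], 1),
   ([2, 4, 0], 3, [1, 2, 4, 0, 3, 2, 4], 4),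
   ([2, 4, 0], 3, [3, 2, 3, 2, 0, 3, 4], 0),
   ([2, 4, 0], 3, [4, 0, 4, 3, 0, 3, 4], 2),
   ([2, 4, 0], 3, [3, 1, 3, 0, 2, 3, 4], 1),
   ([2, 4, 0], 3, [0, 1, 0, 3, 2, 3, 4], 1),
   ([0, 1, 2, 4], 3, [4, 0, 1, 2, 4, 2], 3),
   ([2, 3, 2, 0, 1], 4, [2, 1, 3, 4, 2], 3),
   ([2, 3, 2, 0, 1], 4, [4, 3, 2, 1, 4], 2),
   ([2, 1, 0], 4, [2, 0, 1, 0, 1, 4, 1], 0),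
   ([2, 1, 0], 4, [1, 3, 2, 0, 1, 4, 1], 3),
   ([2, 1, 0], 4, [4, 0, 2, 0, 1, 0, 4], 0),
   ([2, 1, 0], 4, [4, 2, 1, 2, 1, 0, 4], 1),
   ([2, 1, 0], 4, [0, 2, 1, 0, 2, 0, 4], 2),
   ([2, 1, 0], 4, [0, 1, 2, 1, 0, 2, 4], 2),
   ([3, 0, 2], 4, [4, 2, 3, 2, 0, 2, 0], 2),
   ([3, 0, 2], 4, [2, 4, 3, 0, 1, 4, 1], 0),
   ([3, 0, 2], 4, [3, 2, 0, 2, 4, 2, 4], 2),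
   ([3, 0, 2], 4, [0, 1, 3, 2, 4, 2, 4], 1),
   ([0, 3, 1], 1, [0, 2, 4, 1, 3, 1, 0], 2),
   ([0, 3, 1], 1, [0, 3, 0, 2, 1, 3, 0], 2),
   ([0, 3, 1], 1, [1, 0, 3, 0, 1, 0, 3], 0),
   ([0, 3, 1], 1, [4, 3, 0, 3, 0, 1, 3], 0),
   ([0, 3, 1], 1, [0, 4, 0, 4, 0, 1, 3], 3),
   ([0, 3, 1], 1, [1, 2, 0, 1, 3, 1, 3], 2),
   ([0, 3, 1], 1, [2, 3, 0, 2, 3, 1, 3], 3),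
   ([0, 3, 1], 1, [1, 2, 0, 3, 4, 1, 4], 2),
   ([0, 3, 1], 1, [2, 4, 1, 2, 0, 3, 4], 3),
   ([0, 3, 1], 1, [3, 4, 1, 2, 0, 3, 4], 2),
   ([0, 3, 1], 1, [3, 0, 1, 3, 4, 3, 4], 4),
   ([2, 3, 1], 4, [1, 0, 4, 0, 3, 1, 3], 2),
   ([2, 3, 1], 4, [2, 0, 4, 0, 3, 1, 4], 3),
   ([2, 3, 1], 4, [3, 2, 4, 2, 3, 1, 4], 4),
   ([2, 3, 1], 4, [2, 0, 3, 4, 3, 1, 4], 0),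
   ([2, 3, 1], 4, [1, 4, 1, 3, 4, 1, 4], 2),
   ([2, 3, 1], 4, [1, 0, 2, 3, 4, 1, 4], 4),
   ([2, 3, 1], 4, [0, 1, 2, 3, 4, 1, 4], 4),
   ([2, 3, 1], 4, [0, 4, 2, 3, 4, 1, 4], 4),
   ([2, 3, 1], 4, [1, 4, 2, 3, 4, 1, 4], 4),
   ([2, 3, 1], 4, [2, 0, 4, 3, 4, 1, 4], 0),
   ([0, 2, 4, 1], 3, [0, 2, 3, 2, 1, 4], 2),
   ([0, 2, 4, 1], 3, [2, 3, 2, 3, 1, 4], 0),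
   ([1, 3, 2, 4], 2, [1, 2, 3, 0, 4, 0], 3),
   ([2, 4, 3], 3, [2, 3, 2, 0, 4, 2, 4], 4),
   ([2, 4, 3], 3, [4, 0, 2, 4, 0, 3, 4], 0),
   ([2, 4, 3], 3, [4, 2, 4, 0, 2, 3, 4], 2),
   ([2, 4, 1], 3, [3, 0, 1, 3, 4, 0, 2], 4),
   ([2, 4, 1], 3, [3, 1, 2, 4, 2, 4, 2], 2),
   ([2, 4, 1], 3, [0, 1, 3, 4, 2, 1, 4], 4),
   ([2, 4, 1], 3, [4, 3, 2, 4, 3, 1, 4], 3),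
   ([2, 1, 3], 4, [1, 4, 1, 3, 1, 3, 1], 2),
   ([0, 2, 4], 1, [1, 2, 0, 2, 0, 4, 0], 2),
   ([0, 2, 4], 1, [4, 0, 1, 2, 0, 4, 0], 0)]

def relB_4 : List (List ℕ × ℕ × List ℕ × ℕ) :=
  [([0, 2, 4], 1, [4, 0, 2, 0, 4, 0, 2], 1),
   ([0, 2, 4], 1, [1, 0, 1, 0, 2, 4, 2], 0),
   ([0, 2, 4], 1, [1, 2, 1, 0, 2, 4, 2], 2),
   ([3, 0, 1], 4, [3, 2, 4, 1, 2, 0, 3], 1),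
   ([3, 0, 1], 4, [4, 2, 3, 4, 0, 1, 4], 2),
   ([3, 2, 0, 3], 4, [3, 4, 0, 3, 2, 4], 2),
   ([0, 2, 0], 1, [1, 0, 1, 0, 2, 0, 1], 0),
   ([0, 2, 0], 1, [1, 3, 4, 1, 2, 0, 2], 3),
   ([0, 2, 0], 1, [3, 0, 1, 3, 2, 0, 2], 0),
   ([0, 2, 0], 1, [3, 4, 1, 3, 2, 0, 2], 4),
   ([3, 2, 0], 4, [2, 4, 3, 0, 4, 0, 2], 0),
   ([3, 2, 0], 4, [4, 0, 3, 1, 4, 1, 2], 2),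
   ([3, 2, 0], 4, [2, 0, 3, 4, 0, 3, 2], 3),
   ([3, 2, 0], 4, [2, 4, 0, 3, 4, 3, 2], 4),
   ([3, 2, 0], 4, [4, 3, 2, 0, 3, 4, 2], 3),
   ([3, 2, 0], 4, [0, 4, 0, 2, 4, 0, 4], 3),
   ([0, 2, 4], 3, [0, 3, 4, 2, 3, 4, 0], 3),
   ([0, 2, 4], 3, [4, 2, 3, 0, 2, 4, 2], 2),
   ([2, 3, 2], 4, [2, 3, 2, 4, 0, 4, 0], 4),
   ([2, 3, 2], 4, [1, 0, 2, 3, 2, 4, 0], 4),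
   ([2, 3, 2], 4, [0, 1, 2, 3, 2, 4, 0], 4),
   ([2, 3, 2], 4, [1, 4, 2, 3, 2, 4, 0], 4),
   ([2, 3, 2], 4, [4, 2, 1, 3, 0, 1, 3], 3),
   ([2, 3, 2], 4, [4, 1, 2, 1, 2, 1, 3], 3),
   ([2, 3, 2], 4, [3, 4, 2, 1, 2, 1, 3], 1),
   ([2, 3, 2], 4, [4, 2, 1, 0, 3, 1, 3], 3),
   ([2, 3, 2], 4, [3, 1, 4, 1, 0, 2, 3], 0),
   ([2, 3, 2], 4, [1, 3, 0, 3, 0, 2, 3], 4),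
   ([2, 3, 2], 4, [4, 1, 3, 4, 1, 2, 3], 1),
   ([2, 3, 2], 4, [1, 4, 1, 0, 3, 2, 3], 4),
   ([2, 3, 2], 4, [1, 0, 4, 0, 3, 2, 3], 4),
   ([2, 3, 2], 4, [4, 2, 4, 0, 3, 2, 3], 2),
   ([2, 3, 2], 4, [4, 3, 4, 0, 3, 2, 3], 3),
   ([2, 3, 2], 4, [4, 2, 0, 1, 3, 2, 3], 2),
   ([2, 3, 2], 4, [4, 3, 0, 1, 3, 2, 3], 3),
   ([2, 3, 2], 4, [4, 3, 4, 1, 3, 2, 3], 3),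
   ([2, 3, 2], 4, [0, 4, 0, 2, 3, 2, 3], 2),
   ([2, 3, 2], 4, [2, 4, 0, 2, 3, 2, 3], 0),
   ([2, 0, 1, 3], 4, [2, 1, 3, 4, 3, 4], 0),
   ([2, 0, 1], 4, [4, 2, 0, 2, 0, 1, 4], 0),
   ([2, 0, 1], 4, [1, 2, 4, 2, 0, 1, 4], 4),
   ([2, 4, 2], 3, [3, 4, 0, 3, 2, 0, 3], 2),
   ([2, 4, 2], 3, [4, 3, 4, 2, 3, 2, 3], 2),
   ([2, 4, 2], 3, [4, 3, 2, 0, 3, 4, 3], 2),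
   ([2, 4, 2], 3, [4, 3, 0, 1, 3, 2, 4], 3),
   ([2, 4, 2], 3, [2, 4, 0, 2, 3, 2, 4], 0),
   ([3, 1, 0], 4, [3, 4, 1, 0, 1, 0, 1], 1),
   ([3, 1, 0], 4, [0, 3, 4, 3, 1, 0, 4], 4),
   ([3, 1, 2, 1], 4, [0, 3, 2, 1, 3, 0, 2], 4),
   ([3, 1, 2, 1], 4, [3, 4, 3, 0, 2, 1, 2], 0),
   ([1, 3, 4, 3], 2, [0, 2, 1, 3, 0, 4, 0], 4),
   ([1, 0, 2, 0, 1], 3, [1, 0, 2, 0, 1, 3], 3),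
   ([2, 3, 2, 1], 4, [3, 2, 1, 3, 4, 2, 3], 1),
   ([3, 0, 1, 2], 4, [1, 3, 0, 2, 1, 2, 1], 4),
   ([3, 2, 0, 3, 0], 4, [0, 3, 2, 3, 0, 3], 4),
   ([1, 2, 1, 3, 4], 3, [3, 2, 0, 1, 0, 2], 4),
   ([1, 2, 1, 3, 4], 3, [4, 2, 0, 1, 0, 2], 3),
   ([3, 1, 2, 0], 4, [0, 3, 1, 0, 2, 0, 2], 4),
   ([3, 1, 2, 0], 4, [1, 3, 1, 0, 2, 0, 2], 4),
   ([3, 1, 2, 0], 4, [4, 1, 3, 0, 2, 0, 2], 3),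
   ([3, 1, 2, 0], 4, [3, 4, 3, 2, 4, 0, 4], 1),
   ([2, 4, 2, 3, 1], 3, [1, 3, 2, 4, 3, 2], 2),
   ([3, 1, 0, 3], 4, [4, 1, 3, 4, 0, 3, 4], 0),
   ([3, 1, 0, 3], 4, [1, 3, 4, 0, 1, 3, 4], 0),
   ([0, 3, 0, 2], 1, [4, 3, 0, 2, 3, 2, 3], 1),
   ([0, 3, 4, 2], 2, [0, 2, 4, 2, 0, 2, 0], 3),
   ([0, 3, 4, 2], 2, [2, 3, 0, 3, 0, 2, 0], 4),
   ([0, 3, 4, 2], 2, [4, 3, 0, 3, 0, 2, 0], 2),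
   ([0, 3, 4, 2], 2, [3, 0, 2, 4, 0, 2, 0], 4),
   ([0, 3, 4, 2], 2, [0, 4, 2, 4, 0, 2, 0], 3),
   ([0, 3, 4, 2], 2, [2, 4, 1, 0, 3, 2, 0], 1),
   ([0, 3, 4, 2], 2, [1, 0, 2, 0, 3, 2, 0], 4),
   ([0, 3, 4, 2], 2, [4, 3, 2, 0, 3, 2, 0], 3),
   ([0, 3, 4, 2], 2, [2, 3, 4, 0, 3, 2, 0], 3),
   ([0, 3, 4, 2], 2, [4, 0, 2, 4, 3, 2, 0], 0),
   ([0, 3, 4, 2], 2, [0, 3, 4, 3, 4, 2, 0], 2),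
   ([0, 3, 4, 2], 2, [0, 2, 0, 3, 2, 3, 0], 4),
   ([0, 3, 4, 2], 2, [2, 4, 2, 0, 2, 4, 0], 3),
   ([0, 3, 4, 2], 2, [2, 3, 0, 2, 3, 4, 3], 4),
   ([0, 3, 4, 2], 2, [4, 3, 0, 2, 3, 4, 3], 2),
   ([0, 3, 4, 2], 2, [2, 3, 4, 2, 0, 3, 4], 4),
   ([0, 2, 4, 3, 1], 3, [2, 4, 0, 3, 1, 4], 3),
   ([0, 2, 1, 0], 3, [4, 3, 2, 0, 1, 0, 1], 0),
   ([0, 2, 1, 0], 3, [4, 3, 2, 4, 1, 0, 4], 0),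
   ([2, 1, 3, 2], 4, [2, 3, 1, 3, 1, 2, 3], 4),
   ([2, 1, 3, 2], 4, [0, 1, 2, 1, 3, 2, 3], 4),
   ([1, 2, 4, 2, 0], 3, [0, 3, 1, 2, 0, 4], 4),
   ([0, 1, 2, 4, 1], 3, [0, 3, 0, 1, 2, 4], 2),
   ([0, 1, 2, 4, 1], 3, [2, 3, 0, 1, 2, 4], 0),
   ([1, 3, 0, 2], 2, [4, 2, 3, 2, 0, 2, 0], 1),
   ([0, 3, 1, 2], 2, [2, 1, 0, 1, 0, 2, 1], 3),
   ([0, 3, 1, 2], 2, [3, 1, 2, 0, 1, 2, 1], 1),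
   ([0, 3, 1, 2], 2, [2, 1, 3, 0, 1, 2, 1], 1),
   ([0, 3, 4, 1], 2, [0, 1, 3, 2, 0, 1, 4], 1),
   ([0, 3, 4, 1], 2, [2, 0, 2, 0, 3, 1, 4], 0),
   ([0, 3, 4, 1], 2, [2, 3, 2, 0, 3, 1, 4], 3),
   ([0, 3, 4, 1], 2, [2, 4, 2, 0, 3, 1, 4], 4),
   ([0, 3, 4, 1], 2, [0, 2, 4, 0, 3, 1, 4], 4),
   ([0, 3, 4, 1], 2, [1, 2, 4, 0, 3, 1, 4], 4),
   ([0, 3, 4, 1], 2, [4, 2, 1, 3, 1, 3, 4], 0),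
   ([1, 3, 4, 1], 2, [4, 2, 3, 1, 0, 4, 0], 1),
   ([1, 3, 4, 1], 2, [0, 2, 3, 2, 0, 1, 2], 4),
   ([1, 3, 4, 1], 2, [1, 2, 3, 2, 4, 1, 2], 4),
   ([1, 3, 4, 1], 2, [4, 2, 0, 1, 3, 1, 4], 0),
   ([1, 3, 4, 1], 2, [2, 0, 2, 1, 3, 1, 4], 0),
   ([1, 3, 4, 1], 2, [2, 1, 2, 1, 3, 1, 4], 1),
   ([1, 3, 4, 1], 2, [2, 4, 2, 1, 3, 1, 4], 4),
   ([1, 3, 4, 1], 2, [0, 2, 4, 1, 3, 1, 4], 4),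
   ([1, 3, 4, 1], 2, [4, 1, 0, 2, 3, 1, 4], 0),
   ([1, 3, 4, 1], 2, [1, 0, 1, 2, 3, 1, 4], 0),
   ([1, 3, 4, 1], 2, [1, 3, 1, 2, 3, 1, 4], 3),
   ([1, 3, 4, 1], 2, [1, 2, 4, 2, 3, 1, 4], 2),
   ([1, 3, 4, 1], 2, [1, 3, 4, 2, 3, 1, 4], 3),
   ([2, 0, 3, 2], 4, [0, 3, 0, 4, 0, 2, 0], 2),
   ([2, 0, 3, 2], 4, [0, 3, 1, 4, 1, 2, 0], 2),
   ([2, 0, 3, 2], 4, [2, 3, 1, 4, 1, 2, 0], 0),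
   ([2, 0, 3, 2], 4, [0, 4, 3, 4, 3, 2, 0], 2),
   ([2, 0, 3, 2], 4, [0, 3, 2, 4, 2, 4, 0], 2),
   ([2, 0, 3, 2], 4, [2, 4, 0, 2, 4, 0, 3], 3),
   ([2, 0, 3, 2], 4, [2, 4, 0, 2, 0, 4, 3], 3),
   ([2, 0, 3, 2], 4, [1, 3, 2, 0, 4, 2, 4], 4),
   ([1, 0, 2, 4, 2], 3, [4, 3, 4, 0, 2, 4], 1),
   ([2, 1, 0, 2], 4, [4, 2, 4, 2, 0, 2, 0], 1),
   ([2, 1, 0, 2], 4, [4, 1, 2, 4, 0, 2, 0], 1),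
   ([2, 1, 0, 2], 4, [1, 3, 2, 4, 0, 2, 0], 3),
   ([2, 4, 1, 2, 1], 3, [2, 4, 1, 2, 1, 0], 3),
   ([2, 4, 1, 2, 1], 3, [3, 4, 1, 2, 1, 0], 2),
   ([2, 4, 1, 2, 1], 3, [3, 2, 4, 1, 2, 0], 4)]

def relB_5 : List (List ℕ × ℕ × List ℕ × ℕ) :=
  [([2, 4, 1, 2, 1], 3, [3, 2, 1, 4, 2, 0], 4),
   ([2, 4, 1, 2, 1], 3, [0, 3, 2, 4, 1, 2], 4),
   ([1, 2, 4, 1], 3, [4, 3, 2, 1, 0, 4, 0], 1),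
   ([1, 2, 4, 1], 3, [3, 4, 1, 3, 1, 0, 2], 0),
   ([1, 2, 4, 1], 3, [3, 0, 3, 1, 2, 1, 4], 0),
   ([1, 2, 4, 1], 3, [3, 2, 3, 1, 2, 1, 4], 2),
   ([1, 2, 4, 1], 3, [1, 3, 4, 1, 2, 1, 4], 4),
   ([1, 2, 4, 1], 3, [4, 1, 0, 3, 2, 1, 4], 0),
   ([1, 2, 4, 1], 3, [1, 0, 1, 3, 2, 1, 4], 0),
   ([1, 2, 4, 1], 3, [1, 2, 1, 3, 2, 1, 4], 2),
   ([1, 2, 4, 1], 3, [4, 1, 4, 3, 2, 1, 4], 1),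
   ([1, 2, 4, 1], 3, [1, 2, 4, 3, 2, 1, 4], 2),
   ([1, 2, 4, 1], 3, [4, 1, 3, 4, 2, 1, 4], 3),
   ([2, 0, 1, 2], 4, [2, 1, 0, 1, 0, 2, 1], 4),
   ([2, 0, 1, 2], 4, [0, 1, 0, 4, 0, 2, 1], 2),
   ([2, 0, 1, 2], 4, [1, 4, 1, 0, 1, 2, 1], 2),
   ([2, 0, 1, 2], 4, [2, 0, 4, 0, 1, 2, 1], 0),
   ([2, 0, 1, 2], 4, [2, 1, 0, 1, 4, 2, 1], 1),
   ([2, 0, 1, 2], 4, [2, 0, 1, 2, 3, 4, 3], 4),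
   ([2, 0, 1, 2], 4, [0, 2, 4, 1, 2, 1, 4], 1),
   ([2, 0, 1, 2], 4, [0, 1, 2, 4, 2, 1, 4], 2),
   ([0, 3, 2, 1], 1, [4, 0, 3, 1, 2, 1, 2], 1),
   ([0, 3, 2, 1], 1, [4, 1, 3, 1, 2, 1, 2], 0),
   ([1, 3, 4, 2], 2, [0, 2, 3, 2, 4, 2, 1], 4),
   ([1, 3, 4, 2], 2, [1, 3, 2, 3, 4, 2, 1], 4),
   ([1, 3, 4, 2], 2, [2, 3, 0, 2, 0, 3, 1], 4),
   ([1, 0, 3, 0], 2, [4, 2, 0, 1, 3, 0, 3], 0),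
   ([1, 0, 3, 0], 2, [2, 0, 2, 1, 3, 0, 3], 0),
   ([1, 0, 3, 0], 2, [1, 3, 4, 2, 3, 0, 3], 3),
   ([0, 3, 4, 1], 1, [0, 2, 1, 3, 4, 1, 0], 2),
   ([0, 3, 4, 1], 1, [1, 3, 0, 1, 3, 4, 3], 4),
   ([0, 3, 4, 1], 1, [1, 2, 1, 0, 3, 1, 4], 2),
   ([0, 3, 4, 1], 1, [0, 2, 0, 1, 3, 1, 4], 2),
   ([0, 3, 4, 1], 1, [0, 2, 4, 1, 3, 1, 4], 2),
   ([0, 3, 4, 1], 1, [0, 3, 0, 2, 1, 3, 4], 2),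
   ([3, 1, 2, 3], 4, [1, 2, 3, 4, 2, 3, 2], 2),
   ([2, 0, 3, 1], 4, [0, 2, 0, 1, 3, 1, 3], 4),
   ([2, 0, 3, 1], 4, [1, 2, 0, 1, 3, 1, 3], 4),
   ([2, 0, 3, 1], 4, [4, 0, 2, 1, 3, 1, 3], 2),
   ([0, 2, 4, 1], 1, [0, 4, 1, 4, 2, 4, 0], 2),
   ([0, 2, 4, 1], 1, [0, 2, 0, 1, 2, 4, 2], 4),
   ([0, 2, 4, 1], 1, [2, 3, 2, 0, 1, 2, 4], 3),
   ([2, 4, 3, 0], 3, [0, 3, 2, 4, 0, 3, 2], 4),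
   ([2, 4, 3, 0], 3, [1, 3, 2, 4, 0, 3, 2], 4),
   ([2, 4, 3, 0], 3, [0, 3, 2, 4, 3, 0, 3], 2),
   ([2, 4, 3, 0], 3, [0, 2, 3, 4, 3, 0, 3], 3),
   ([2, 4, 3, 0], 3, [0, 3, 0, 2, 3, 4, 3], 4),
   ([2, 4, 3, 0], 3, [0, 3, 2, 3, 2, 0, 4], 4),
   ([2, 4, 3, 0], 3, [1, 3, 2, 3, 2, 0, 4], 4),
   ([2, 4, 3, 0], 3, [4, 1, 2, 1, 3, 0, 4], 2),
   ([2, 4, 3, 0], 3, [0, 1, 0, 2, 3, 0, 4], 4),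
   ([2, 4, 3, 0], 3, [0, 4, 0, 2, 3, 0, 4], 4),
   ([2, 4, 3, 0], 3, [1, 4, 0, 2, 3, 0, 4], 4),
   ([2, 4, 3, 0], 3, [4, 3, 1, 2, 3, 0, 4], 3),
   ([2, 4, 3, 0], 3, [0, 4, 1, 2, 3, 0, 4], 4),
   ([2, 4, 3, 0], 3, [4, 2, 4, 2, 3, 0, 4], 2),
   ([1, 2, 4, 0], 3, [1, 0, 1, 3, 2, 0, 4], 0),
   ([1, 2, 4, 0], 3, [1, 2, 1, 3, 2, 0, 4], 2),
   ([1, 2, 4, 0], 3, [1, 2, 4, 3, 2, 0, 4], 2),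
   ([2, 0, 1, 3, 4], 3, [0, 2, 1, 3, 4, 1], 3),
   ([2, 4, 2, 1], 3, [0, 3, 2, 1, 3, 4, 0], 4),
   ([2, 4, 2, 1], 3, [3, 1, 3, 1, 2, 1, 4], 4),
   ([2, 4, 2, 1], 3, [3, 4, 3, 1, 2, 1, 4], 1),
   ([2, 4, 2, 1], 3, [4, 2, 0, 3, 2, 1, 4], 2),
   ([2, 4, 2, 1], 3, [1, 4, 1, 3, 2, 1, 4], 4),
   ([2, 4, 2, 1], 3, [3, 0, 3, 4, 2, 1, 4], 0),
   ([2, 4, 2, 1], 3, [3, 1, 3, 4, 2, 1, 4], 1),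
   ([2, 4, 0, 2, 1], 3, [2, 3, 4, 2, 1, 4], 0),
   ([3, 2, 1, 0], 4, [0, 3, 2, 0, 1, 0, 1], 4),
   ([3, 2, 1, 0], 4, [1, 3, 2, 0, 1, 0, 1], 4),
   ([3, 2, 1, 0], 4, [0, 3, 2, 1, 3, 0, 3], 4),
   ([3, 2, 1, 0], 4, [4, 2, 0, 3, 2, 1, 3], 2),
   ([2, 4, 3, 2], 3, [4, 2, 3, 4, 2, 1, 4], 1),
   ([0, 2, 3, 2], 1, [4, 1, 0, 4, 3, 2, 3], 1),
   ([0, 2, 3, 2], 1, [0, 2, 1, 4, 3, 2, 3], 2),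
   ([2, 0, 1, 0], 4, [2, 0, 2, 0, 1, 0, 1], 4),
   ([2, 0, 1, 0], 4, [4, 0, 2, 0, 1, 0, 1], 2),
   ([2, 0, 1, 0], 4, [4, 3, 0, 2, 1, 0, 1], 3),
   ([2, 0, 1, 0], 4, [4, 2, 1, 2, 1, 0, 1], 2),
   ([2, 0, 1, 0], 4, [4, 3, 1, 2, 1, 0, 1], 3),
   ([2, 0, 1, 0], 4, [0, 4, 1, 2, 1, 0, 1], 4),
   ([2, 0, 1, 0], 4, [0, 1, 4, 2, 1, 0, 1], 4),
   ([2, 0, 1, 0], 4, [4, 2, 4, 2, 1, 0, 1], 2),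
   ([2, 0, 1, 0], 4, [4, 2, 0, 4, 1, 0, 1], 0),
   ([2, 0, 1, 0], 4, [4, 2, 1, 4, 1, 0, 1], 1),
   ([2, 0, 1, 0], 4, [2, 0, 2, 4, 1, 0, 1], 0),
   ([2, 0, 1, 0], 4, [2, 4, 2, 4, 1, 0, 1], 4),
   ([2, 0, 1, 0], 4, [2, 0, 4, 0, 2, 0, 1], 1),
   ([2, 0, 1, 0], 4, [0, 4, 0, 1, 2, 0, 1], 2),
   ([2, 0, 1, 0], 4, [2, 1, 4, 1, 2, 0, 1], 1),
   ([2, 0, 1, 0], 4, [1, 3, 1, 2, 4, 0, 1], 3),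
   ([2, 0, 1, 0], 4, [0, 1, 0, 2, 1, 4, 1], 2),
   ([2, 0, 1, 0], 4, [2, 3, 2, 0, 1, 0, 4], 3),
   ([0, 2, 4, 3], 3, [3, 1, 2, 4, 0, 3, 4], 1),
   ([3, 0, 2, 0], 4, [3, 2, 1, 4, 1, 0, 3], 0),
   ([3, 0, 2, 0], 4, [2, 4, 0, 2, 4, 2, 3], 3),
   ([3, 0, 2, 0], 4, [0, 3, 0, 2, 4, 0, 4], 4),
   ([3, 2, 0, 1, 0], 4, [3, 2, 1, 3, 4, 2], 1),
   ([3, 2, 0, 1, 0], 4, [2, 1, 2, 3, 4, 2], 3),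
   ([3, 2, 0, 1, 0], 4, [3, 1, 2, 3, 4, 2], 2),
   ([3, 2, 0, 1, 0], 4, [0, 2, 3, 2, 1, 3], 4),
   ([0, 1, 3, 1], 2, [3, 4, 0, 2, 0, 1, 3], 4),
   ([0, 1, 3, 1], 2, [4, 2, 1, 0, 3, 1, 3], 1),
   ([0, 1, 3, 1], 2, [2, 0, 2, 0, 3, 1, 3], 0),
   ([0, 1, 3, 1], 2, [0, 1, 0, 2, 3, 1, 3], 1),
   ([0, 1, 3, 1], 2, [0, 3, 0, 2, 3, 1, 3], 3),
   ([0, 2, 4, 1], 3, [2, 3, 0, 3, 0, 1, 4], 3),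
   ([0, 2, 4, 1], 3, [3, 0, 3, 0, 2, 1, 4], 0),
   ([0, 2, 4, 1], 3, [0, 1, 0, 3, 2, 1, 4], 1),
   ([0, 2, 4, 1], 3, [0, 2, 0, 3, 2, 1, 4], 2),
   ([0, 2, 4, 1], 3, [1, 4, 1, 3, 2, 1, 4], 0),
   ([0, 2, 4, 1], 3, [0, 3, 4, 0, 4, 1, 4], 2),
   ([0, 2, 4, 1], 3, [4, 3, 1, 2, 1, 2, 4], 0),
   ([0, 2, 3, 4, 1], 1, [4, 0, 2, 3, 1, 4], 1),
   ([1, 3, 2, 4], 2, [0, 2, 3, 4, 1, 2, 1], 4),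
   ([0, 3, 4, 2], 1, [4, 0, 3, 2, 4, 2, 4], 1),
   ([2, 4, 1, 2, 0], 3, [0, 1, 3, 4, 3, 1], 3),
   ([2, 4, 1, 2, 0], 3, [3, 1, 3, 4, 3, 1], 0),
   ([2, 4, 1, 2, 0], 3, [3, 0, 1, 3, 4, 1], 4),
   ([2, 4, 1, 2, 0], 3, [4, 0, 1, 3, 4, 1], 3),
   ([2, 4, 1, 2, 0], 3, [0, 4, 1, 3, 4, 1], 3),
   ([2, 4, 1, 2, 0], 3, [3, 4, 1, 3, 4, 1], 0),
   ([2, 4, 1, 2, 0], 3, [0, 3, 4, 3, 1, 3], 1),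
   ([2, 4, 1, 2, 0], 3, [4, 0, 3, 4, 1, 3], 1),
   ([2, 4, 1, 2, 0], 3, [4, 1, 3, 4, 1, 3], 0),
   ([2, 4, 1, 2, 0], 3, [0, 3, 0, 1, 3, 4], 4),
   ([2, 4, 1, 2, 0], 3, [1, 3, 0, 1, 3, 4], 4),
   ([2, 0, 1, 0], 3, [4, 2, 1, 3, 1, 0, 1], 1)]

def relB_6 : List (List ℕ × ℕ × List ℕ × ℕ) :=
  [([2, 0, 1, 0], 3, [4, 3, 2, 1, 2, 0, 1], 1),
   ([3, 0, 1, 0], 4, [3, 0, 3, 0, 1, 0, 1], 4),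
   ([3, 0, 1, 0], 4, [0, 1, 0, 3, 1, 0, 1], 4),
   ([3, 0, 1, 0], 4, [4, 2, 4, 3, 1, 0, 1], 2),
   ([1, 3, 2, 1], 2, [1, 3, 1, 2, 1, 3, 2], 2),
   ([1, 3, 2, 1], 2, [2, 3, 1, 2, 4, 3, 2], 4),
   ([1, 3, 2, 1], 2, [4, 3, 1, 2, 4, 3, 2], 2),
   ([1, 3, 2, 1], 2, [4, 3, 2, 1, 3, 1, 3], 1),
   ([1, 3, 1, 2], 2, [0, 2, 3, 2, 1, 2, 4], 4),
   ([1, 3, 1, 2], 2, [0, 3, 2, 3, 1, 2, 4], 4),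
   ([0, 2, 1, 3], 3, [3, 0, 2, 0, 1, 3, 1], 0),
   ([0, 2, 1, 3], 3, [3, 1, 2, 0, 1, 3, 1], 1),
   ([0, 2, 1, 3], 3, [3, 4, 2, 0, 1, 3, 1], 4),
   ([0, 2, 1, 3], 3, [2, 0, 3, 0, 1, 3, 1], 0),
   ([0, 2, 1, 3], 3, [2, 1, 3, 0, 1, 3, 1], 1),
   ([0, 2, 1, 3], 3, [2, 4, 3, 0, 1, 3, 1], 4),
   ([0, 2, 1, 3], 3, [4, 2, 3, 2, 1, 3, 1], 0),
   ([0, 2, 1, 3], 3, [4, 3, 2, 3, 1, 3, 1], 0),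
   ([0, 2, 1, 3], 3, [2, 4, 0, 4, 1, 3, 1], 3),
   ([0, 2, 1, 3], 3, [2, 4, 0, 1, 4, 3, 1], 3),
   ([0, 2, 1, 3], 3, [3, 0, 1, 3, 4, 1, 4], 2),
   ([1, 0, 2, 1], 3, [4, 3, 1, 0, 2, 1, 2], 0),
   ([1, 0, 2, 1], 3, [4, 3, 0, 1, 2, 1, 2], 1),
   ([0, 2, 4, 0, 2], 1, [0, 2, 4, 0, 2, 0], 1),
   ([0, 2, 4, 0, 2], 1, [0, 2, 0, 4, 2, 0], 1),
   ([0, 2, 4, 0, 2], 1, [2, 0, 2, 4, 2, 0], 1),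
   ([2, 4, 1, 3], 3, [0, 2, 3, 4, 1, 3, 1], 4),
   ([2, 4, 1, 3], 3, [0, 2, 3, 1, 4, 3, 1], 4),
   ([2, 4, 1, 3], 3, [2, 0, 4, 0, 1, 3, 2], 3),
   ([2, 4, 1, 3], 3, [4, 2, 3, 4, 1, 3, 4], 1),
   ([3, 2, 0, 3], 4, [3, 2, 0, 3, 2, 0, 2], 4),
   ([3, 2, 0, 3], 4, [2, 3, 4, 2, 3, 0, 2], 0),
   ([3, 2, 0, 3], 4, [4, 0, 3, 2, 0, 3, 2], 2),
   ([3, 2, 0, 3], 4, [2, 4, 3, 2, 0, 3, 2], 0),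
   ([3, 2, 0, 3], 4, [0, 2, 4, 0, 2, 3, 2], 3),
   ([3, 2, 0, 3], 4, [3, 2, 4, 0, 2, 3, 2], 0),
   ([3, 2, 0, 3], 4, [0, 2, 0, 4, 2, 3, 2], 3),
   ([3, 2, 0, 3], 4, [3, 2, 0, 4, 2, 3, 2], 0),
   ([3, 2, 0, 3], 4, [2, 0, 2, 4, 2, 3, 2], 3),
   ([3, 2, 0, 3], 4, [4, 2, 3, 4, 2, 3, 2], 0),
   ([3, 2, 0, 3], 4, [2, 4, 0, 2, 4, 3, 2], 3),
   ([3, 2, 0, 3], 4, [3, 2, 4, 3, 2, 4, 2], 0),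
   ([3, 2, 0, 3], 4, [2, 3, 0, 2, 3, 4, 2], 4),
   ([3, 2, 0, 3], 4, [4, 3, 0, 2, 3, 4, 2], 2),
   ([3, 2, 0, 3], 4, [0, 3, 2, 4, 3, 0, 4], 4),
   ([3, 2, 0, 3], 4, [0, 3, 2, 4, 3, 2, 4], 2),
   ([3, 2, 0, 3], 4, [2, 3, 2, 4, 3, 2, 4], 0),
   ([3, 2, 0, 3], 4, [0, 2, 3, 4, 3, 2, 4], 3),
   ([3, 2, 0, 3], 4, [3, 2, 3, 4, 3, 2, 4], 0),
   ([3, 2, 0, 3], 4, [3, 2, 4, 3, 4, 2, 4], 0),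
   ([2, 4, 0, 1], 3, [4, 3, 0, 2, 0, 1, 4], 0),
   ([2, 4, 0, 1], 3, [4, 3, 1, 2, 0, 1, 4], 1),
   ([2, 4, 0, 1], 3, [3, 0, 3, 2, 0, 1, 4], 0),
   ([2, 4, 0, 1], 3, [3, 1, 3, 2, 0, 1, 4], 1),
   ([2, 4, 0, 1], 3, [3, 2, 3, 2, 0, 1, 4], 2),
   ([2, 4, 0, 1], 3, [3, 4, 3, 2, 0, 1, 4], 4),
   ([2, 4, 0, 1], 3, [0, 3, 4, 2, 0, 1, 4], 4),
   ([2, 4, 0, 1], 3, [1, 3, 4, 2, 0, 1, 4], 4),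
   ([2, 4, 0, 1], 3, [4, 2, 0, 3, 0, 1, 4], 0),
   ([2, 4, 0, 1], 3, [4, 2, 1, 3, 0, 1, 4], 1),
   ([2, 4, 0, 1], 3, [2, 1, 2, 3, 0, 1, 4], 1),
   ([2, 4, 0, 1], 3, [2, 4, 2, 3, 0, 1, 4], 4),
   ([2, 4, 0, 1], 3, [1, 2, 4, 3, 0, 1, 4], 4),
   ([2, 4, 0, 1], 3, [4, 3, 2, 0, 2, 1, 4], 0),
   ([2, 4, 0, 1], 3, [2, 0, 3, 0, 2, 1, 4], 3),
   ([2, 4, 0, 1], 3, [3, 0, 3, 0, 2, 1, 4], 2),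
   ([2, 4, 0, 1], 3, [2, 1, 0, 3, 2, 1, 4], 1),
   ([2, 4, 0, 1], 3, [2, 3, 0, 3, 2, 1, 4], 3),
   ([2, 4, 0, 1], 3, [4, 0, 2, 3, 2, 1, 4], 0),
   ([2, 4, 0, 1], 3, [0, 1, 2, 3, 2, 1, 4], 1),
   ([2, 4, 0, 1], 3, [4, 0, 4, 3, 2, 1, 4], 2),
   ([2, 4, 0, 1], 3, [3, 1, 0, 2, 3, 1, 4], 1),
   ([2, 4, 0, 1], 3, [4, 0, 3, 2, 3, 1, 4], 0),
   ([2, 4, 0, 1], 3, [2, 3, 1, 2, 1, 2, 4], 0),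
   ([2, 4, 0, 1], 3, [3, 2, 1, 3, 1, 3, 4], 0),
   ([1, 3, 1, 0], 2, [4, 2, 3, 0, 1, 0, 1], 1),
   ([1, 3, 1, 0], 2, [4, 2, 3, 4, 1, 0, 4], 1),
   ([2, 4, 0, 3, 0], 3, [0, 2, 3, 4, 0, 3], 4),
   ([2, 4, 0, 3, 0], 3, [0, 3, 0, 2, 3, 4], 4),
   ([2, 4, 0, 3, 0], 3, [1, 3, 0, 2, 3, 4], 4),
   ([0, 3, 2, 0], 1, [4, 1, 3, 0, 2, 0, 2], 0),
   ([1, 2, 1, 0], 3, [4, 3, 2, 0, 1, 0, 1], 1),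
   ([1, 2, 1, 0], 3, [4, 3, 2, 4, 1, 0, 4], 1),
   ([2, 4, 1, 0], 3, [0, 3, 2, 4, 1, 0, 1], 2),
   ([2, 4, 1, 0], 3, [0, 3, 2, 1, 0, 4, 1], 2),
   ([2, 4, 1, 0], 3, [0, 3, 2, 0, 1, 0, 4], 2),
   ([2, 4, 1, 0], 3, [2, 1, 2, 3, 1, 0, 4], 1),
   ([2, 4, 3, 1], 3, [2, 0, 2, 0, 3, 1, 4], 4),
   ([2, 4, 3, 1], 3, [4, 1, 2, 1, 3, 1, 4], 2),
   ([2, 4, 3, 1], 3, [1, 4, 2, 1, 3, 1, 4], 2),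
   ([2, 4, 3, 1], 3, [2, 4, 2, 1, 3, 1, 4], 1),
   ([2, 4, 3, 1], 3, [0, 1, 0, 2, 3, 1, 4], 4),
   ([2, 4, 3, 1], 3, [4, 3, 1, 2, 3, 1, 4], 3),
   ([2, 4, 3, 1], 3, [0, 4, 1, 2, 3, 1, 4], 4),
   ([2, 4, 3, 1], 3, [0, 2, 1, 3, 1, 3, 4], 4),
   ([2, 3, 0, 2, 0], 4, [0, 2, 3, 2, 0, 2], 4),
   ([2, 3, 0, 2, 0], 4, [1, 2, 3, 2, 0, 2], 4),
   ([2, 3, 0, 2, 0], 4, [0, 2, 3, 2, 4, 2], 4),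
   ([2, 3, 0, 2, 0], 4, [2, 3, 4, 2, 1, 3], 1),
   ([3, 0, 1, 3, 0], 4, [4, 3, 2, 4, 1, 2], 1),
   ([2, 3, 0, 2], 4, [3, 2, 4, 3, 2, 0, 3], 0),
   ([2, 3, 0, 2], 4, [2, 3, 0, 2, 3, 0, 3], 4),
   ([2, 3, 0, 2], 4, [0, 3, 4, 0, 3, 2, 3], 2),
   ([2, 3, 0, 2], 4, [2, 0, 3, 4, 3, 2, 3], 3),
   ([2, 3, 0, 2], 4, [3, 0, 3, 4, 3, 2, 3], 2),
   ([2, 3, 0, 2], 4, [2, 4, 0, 3, 4, 2, 3], 3),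
   ([2, 3, 0, 2], 4, [2, 3, 4, 2, 3, 4, 3], 0),
   ([2, 3, 0, 2], 4, [0, 3, 2, 4, 2, 3, 4], 2),
   ([2, 3, 0, 2], 4, [0, 2, 3, 4, 2, 3, 4], 3),
   ([2, 3, 2, 0], 4, [0, 2, 3, 0, 2, 0, 2], 4),
   ([2, 3, 2, 0], 4, [1, 2, 3, 0, 2, 0, 2], 4),
   ([2, 3, 2, 0], 4, [4, 2, 0, 3, 0, 2, 3], 3),
   ([2, 3, 2, 0], 4, [2, 4, 2, 3, 4, 2, 3], 3),
   ([2, 3, 2, 0], 4, [3, 2, 4, 3, 4, 2, 3], 4),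
   ([2, 3, 2, 0], 4, [4, 2, 4, 3, 4, 2, 3], 3),
   ([2, 3, 2, 0], 4, [0, 3, 2, 4, 3, 4, 3], 4),
   ([2, 3, 2, 0], 4, [1, 3, 2, 4, 3, 4, 3], 4),
   ([2, 3, 2, 0], 4, [0, 2, 3, 2, 4, 0, 4], 4),
   ([2, 3, 2, 0], 4, [1, 2, 3, 2, 4, 0, 4], 4),
   ([2, 3, 2, 0], 4, [0, 3, 2, 3, 4, 0, 4], 4),
   ([2, 3, 2, 0], 4, [4, 1, 2, 1, 3, 2, 4], 2),
   ([2, 3, 2, 0], 4, [0, 1, 0, 2, 3, 2, 4], 4),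
   ([2, 3, 2, 0], 4, [0, 4, 3, 0, 2, 3, 4], 3),
   ([2, 3, 2, 0], 4, [1, 4, 3, 1, 2, 3, 4], 3),
   ([2, 3, 2, 0], 4, [3, 4, 3, 1, 2, 3, 4], 1),
   ([2, 3, 2, 0], 4, [4, 3, 4, 3, 2, 3, 4], 3),
   ([2, 0, 1, 3], 4, [4, 2, 1, 3, 4, 3, 4], 0),
   ([2, 0, 3, 0], 4, [2, 0, 3, 4, 3, 0, 2], 4)]

def relB_7 : List (List ℕ × ℕ × List ℕ × ℕ) :=
  [([2, 0, 3, 0], 4, [2, 4, 0, 3, 4, 0, 2], 4),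
   ([2, 0, 3, 0], 4, [0, 1, 2, 3, 4, 0, 2], 1),
   ([2, 0, 3, 0], 4, [4, 3, 2, 1, 4, 1, 2], 0),
   ([2, 0, 3, 0], 4, [3, 4, 3, 0, 2, 4, 2], 4),
   ([2, 0, 3, 0], 4, [1, 3, 4, 0, 2, 4, 2], 4),
   ([2, 0, 3, 0], 4, [4, 0, 1, 3, 2, 4, 2], 1),
   ([2, 0, 3, 0], 4, [3, 1, 2, 0, 3, 4, 2], 1),
   ([2, 0, 3, 0], 4, [2, 4, 0, 4, 3, 4, 2], 3),
   ([2, 0, 3, 0], 4, [0, 3, 2, 3, 2, 0, 3], 4),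
   ([2, 0, 3, 0], 4, [2, 0, 2, 0, 3, 0, 3], 4),
   ([2, 0, 3, 0], 4, [4, 2, 0, 2, 3, 0, 3], 2),
   ([2, 0, 3, 0], 4, [4, 3, 0, 2, 3, 0, 3], 3),
   ([2, 0, 3, 0], 4, [4, 2, 4, 2, 3, 0, 3], 2),
   ([2, 0, 3, 0], 4, [4, 3, 4, 1, 0, 2, 4], 1),
   ([0, 1, 2, 1, 0], 3, [3, 1, 2, 1, 0, 3], 0),
   ([0, 1, 2, 1, 0], 3, [0, 2, 1, 2, 0, 3], 3),
   ([1, 0, 2, 0], 3, [4, 3, 0, 1, 2, 0, 2], 0),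
   ([1, 0, 2, 0], 3, [3, 4, 3, 1, 2, 0, 2], 4),
   ([1, 0, 2, 0], 3, [3, 1, 3, 4, 2, 0, 2], 4),
   ([2, 1, 0, 2, 0], 3, [4, 3, 2, 1, 0, 2], 1),
   ([0, 2, 4, 0], 1, [1, 3, 0, 2, 4, 0, 1], 3),
   ([0, 2, 4, 0], 1, [1, 0, 1, 0, 2, 0, 4], 0),
   ([0, 2, 4, 0], 1, [0, 2, 4, 2, 4, 0, 4], 1),
   ([0, 2, 4, 0], 1, [1, 2, 0, 2, 0, 1, 4], 2),
   ([0, 2, 4, 0], 1, [2, 3, 2, 1, 0, 2, 4], 3),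
   ([2, 3, 1, 2], 4, [4, 2, 3, 2, 1, 2, 4], 1),
   ([2, 3, 1, 2], 4, [4, 3, 2, 3, 1, 2, 4], 1),
   ([2, 0, 1, 2, 4], 3, [2, 3, 1, 2, 4, 1], 0),
   ([1, 2, 4, 3], 3, [3, 4, 2, 3, 1, 2, 4], 2),
   ([2, 4, 2, 3], 3, [3, 2, 4, 3, 4, 2, 0], 0),
   ([2, 4, 2, 3], 3, [1, 2, 3, 4, 2, 3, 2], 4),
   ([2, 4, 2, 3], 3, [4, 2, 0, 3, 0, 2, 4], 3),
   ([2, 4, 2, 3], 3, [1, 3, 2, 3, 4, 3, 4], 4),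
   ([0, 2, 0, 3], 1, [4, 0, 2, 3, 0, 3, 0], 1),
   ([2, 4, 0, 3], 3, [0, 3, 2, 4, 3, 0, 2], 4),
   ([2, 4, 0, 3], 3, [3, 0, 2, 3, 2, 0, 4], 4),
   ([2, 4, 0, 3], 3, [0, 3, 0, 2, 3, 0, 4], 4),
   ([2, 3, 0, 1], 4, [0, 2, 3, 4, 0, 1, 4], 4),
   ([2, 3, 0, 1], 4, [0, 2, 3, 0, 4, 1, 4], 4),
   ([2, 4, 2, 0], 3, [2, 4, 3, 2, 3, 4, 2], 0),
   ([2, 4, 2, 0], 3, [3, 0, 3, 0, 2, 0, 4], 4),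
   ([2, 4, 2, 0], 3, [1, 4, 3, 1, 2, 0, 4], 3),
   ([2, 4, 2, 0], 3, [0, 2, 4, 0, 3, 2, 4], 3),
   ([2, 4, 1, 2], 3, [3, 2, 4, 1, 2, 1, 3], 4),
   ([2, 4, 1, 2], 3, [3, 1, 0, 4, 0, 2, 3], 2),
   ([2, 4, 1, 2], 3, [1, 2, 1, 2, 4, 2, 3], 3),
   ([2, 4, 1, 2], 3, [1, 2, 1, 4, 2, 4, 3], 3),
   ([2, 4, 1, 2], 3, [3, 0, 1, 3, 1, 0, 4], 4),
   ([2, 4, 1, 2], 3, [0, 4, 1, 3, 1, 0, 4], 3),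
   ([2, 4, 1, 2], 3, [0, 1, 4, 3, 1, 0, 4], 3),
   ([2, 4, 1, 2], 3, [0, 3, 0, 1, 3, 0, 4], 4),
   ([2, 4, 1, 2], 3, [4, 3, 4, 1, 3, 0, 4], 0),
   ([2, 4, 1, 2], 3, [4, 3, 1, 4, 3, 0, 4], 0),
   ([2, 4, 1, 2], 3, [4, 3, 2, 4, 1, 2, 4], 1),
   ([3, 2, 0, 1], 4, [0, 3, 2, 0, 4, 1, 4], 4),
   ([2, 4, 0, 2, 0], 3, [0, 3, 2, 4, 0, 2], 4),
   ([2, 4, 0, 2], 3, [4, 0, 2, 0, 3, 2, 4], 3),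
   ([2, 4, 0, 2], 3, [4, 0, 3, 4, 3, 2, 4], 2),
   ([2, 4, 0, 2], 3, [4, 2, 0, 3, 2, 3, 4], 3),
   ([0, 1, 2, 1], 3, [2, 0, 4, 3, 0, 1, 2], 4),
   ([0, 1, 2, 1], 3, [0, 1, 0, 3, 2, 1, 2], 1),
   ([0, 1, 2, 1], 3, [0, 2, 4, 3, 2, 1, 2], 2),
   ([0, 1, 2, 1], 3, [2, 0, 3, 0, 3, 1, 2], 0),
   ([0, 1, 2, 1], 3, [0, 3, 4, 0, 4, 1, 2], 2),
   ([0, 1, 2, 1], 3, [4, 3, 1, 2, 4, 1, 4], 0),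
   ([2, 3, 1, 0], 4, [0, 2, 3, 0, 1, 0, 1], 4),
   ([2, 3, 1, 0], 4, [0, 2, 3, 4, 1, 0, 4], 4),
   ([2, 1, 3, 1], 4, [0, 3, 2, 3, 2, 1, 3], 4),
   ([2, 1, 3, 1], 4, [1, 3, 2, 3, 2, 1, 3], 4),
   ([2, 1, 3, 1], 4, [2, 1, 2, 1, 3, 1, 3], 4),
   ([2, 1, 3, 1], 4, [0, 1, 0, 2, 3, 1, 3], 4),
   ([3, 0, 2, 3], 4, [0, 3, 4, 0, 3, 0, 2], 2),
   ([3, 0, 2, 3], 4, [3, 2, 0, 2, 0, 3, 2], 4),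
   ([3, 0, 2, 3], 4, [1, 0, 3, 0, 2, 3, 2], 4),
   ([1, 2, 4, 2], 3, [3, 2, 4, 1, 3, 2, 4], 2),
   ([3, 0, 2, 1], 4, [0, 3, 0, 1, 2, 1, 2], 4),
   ([3, 0, 1, 3], 4, [3, 1, 0, 1, 0, 3, 1], 4),
   ([3, 0, 1, 3], 4, [1, 0, 4, 1, 0, 3, 1], 3),
   ([3, 0, 1, 3], 4, [1, 0, 1, 4, 0, 3, 1], 3),
   ([2, 0, 1, 2], 3, [2, 1, 0, 3, 1, 2, 1], 1),
   ([2, 0, 1, 2], 3, [4, 0, 2, 3, 1, 2, 1], 0),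
   ([2, 0, 1, 2], 3, [2, 1, 3, 1, 3, 2, 1], 0),
   ([1, 2, 4, 3, 2], 3, [4, 2, 3, 4, 2, 3, 4], 1),
   ([0, 1, 3, 2, 1], 2, [0, 1, 2, 3, 1, 2, 3], 3),
   ([1, 0, 2, 0, 1], 3, [1, 0, 2, 4, 0, 1, 4], 3),
   ([0, 1, 2, 1, 3], 3, [0, 3, 0, 1, 2, 3, 0], 2),
   ([0, 1, 2, 1, 3], 3, [2, 3, 0, 1, 2, 3, 0], 0),
   ([0, 1, 2, 1, 3], 3, [2, 0, 3, 1, 2, 3, 0], 3),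
   ([0, 1, 2, 1, 3], 3, [0, 2, 1, 3, 2, 3, 2], 3),
   ([3, 2, 0, 3, 0], 4, [1, 3, 4, 2, 3, 2, 1], 2),
   ([3, 2, 0, 3, 0], 4, [0, 3, 2, 0, 3, 0, 2], 4),
   ([3, 2, 0, 3, 0], 4, [0, 2, 3, 2, 0, 3, 2], 4),
   ([3, 2, 0, 3, 0], 4, [0, 3, 2, 3, 0, 3, 2], 4),
   ([3, 2, 0, 3, 0], 4, [2, 4, 2, 4, 3, 0, 3], 3),
   ([3, 2, 0, 3, 0], 4, [1, 3, 4, 1, 2, 1, 3], 2),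
   ([3, 2, 0, 3, 0], 4, [2, 3, 4, 1, 2, 1, 3], 1),
   ([3, 2, 0, 3, 0], 4, [2, 1, 3, 4, 2, 1, 3], 3),
   ([3, 2, 0, 3, 0], 4, [1, 3, 4, 2, 1, 2, 3], 2),
   ([3, 2, 0, 3, 0], 4, [2, 4, 3, 2, 4, 2, 3], 3),
   ([3, 2, 0, 3, 0], 4, [2, 3, 2, 4, 0, 4, 3], 4),
   ([3, 2, 0, 3, 0], 4, [3, 2, 3, 4, 0, 4, 3], 4),
   ([3, 2, 0, 3, 0], 4, [0, 4, 0, 3, 2, 4, 3], 2),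
   ([3, 2, 0, 3, 0], 4, [1, 4, 1, 3, 2, 4, 3], 2),
   ([3, 2, 0, 3, 0], 4, [2, 4, 1, 3, 2, 4, 3], 1),
   ([3, 2, 0, 3, 0], 4, [1, 4, 2, 3, 2, 4, 3], 4),
   ([3, 2, 0, 3, 0], 4, [2, 0, 4, 3, 2, 4, 3], 0),
   ([3, 2, 0, 3, 0], 4, [2, 3, 4, 3, 2, 4, 3], 3),
   ([3, 2, 0, 3, 0], 4, [1, 0, 3, 2, 3, 4, 3], 4),
   ([3, 2, 0, 3, 0], 4, [0, 4, 3, 2, 3, 4, 3], 4),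
   ([3, 2, 0, 3, 0], 4, [2, 4, 0, 3, 2, 0, 4], 3),
   ([3, 2, 0, 3, 0], 4, [3, 4, 0, 3, 2, 0, 4], 2),
   ([3, 2, 0, 3, 0], 4, [4, 2, 0, 3, 4, 0, 4], 3),
   ([3, 2, 0, 3, 0], 4, [2, 3, 4, 2, 3, 2, 4], 4),
   ([3, 2, 0, 3, 0], 4, [3, 2, 0, 4, 0, 3, 4], 4),
   ([3, 2, 0, 3, 0], 4, [3, 0, 2, 4, 2, 3, 4], 0),
   ([3, 2, 0, 3, 0], 4, [3, 1, 2, 4, 2, 3, 4], 1),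
   ([3, 2, 0, 3, 0], 4, [2, 0, 3, 4, 2, 3, 4], 0),
   ([3, 2, 0, 3, 0], 4, [2, 1, 3, 4, 2, 3, 4], 1),
   ([3, 2, 0, 3, 0], 4, [2, 4, 3, 4, 2, 3, 4], 4),
   ([3, 2, 0, 3, 0], 4, [1, 0, 3, 2, 4, 3, 4], 4),
   ([3, 2, 0, 3, 0], 4, [0, 1, 3, 2, 4, 3, 4], 4),
   ([3, 2, 0, 3, 0], 4, [4, 2, 3, 2, 4, 3, 4], 2),
   ([3, 2, 0, 3, 0], 4, [2, 3, 2, 3, 4, 3, 4], 4),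
   ([1, 2, 1, 3, 4], 3, [2, 1, 2, 3, 0, 4, 0], 3),
   ([1, 2, 1, 3, 4], 3, [3, 2, 1, 3, 1, 4, 1], 1),
   ([1, 2, 1, 3, 4], 3, [1, 2, 4, 1, 3, 4, 3], 3),
   ([1, 0, 2, 4, 1], 3, [3, 0, 2, 1, 0, 4, 0], 1),
   ([2, 4, 2, 3, 1], 3, [4, 2, 3, 2, 4, 3, 2], 1)]

end Cfsg.Agent.Lib.Helper8.Co2Mult
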