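import Cfsg.Agent.Lib.Helper8.Co2MultDefs
import Cfsg.Agent.Lib.Helper8.Co2MultZ
import Cfsg.Agent.Lib.Helper8.Co2MultBTab0
import Cfsg.Agent.Lib.Helper8.Co2MultBTab1
import Cfsg.Agent.Lib.Helper8.Co2MultBTab2
import Cfsg.Agent.Lib.Helper8.Co2MultBTab3
import Cfsg.Agent.Lib.Helper8.Co2MultBTab4
import Cfsg.Agent.Lib.Helper8.Co2MultBTab5
import Cfsg.Agent.Lib.Helper8.Co2MultBTab6
import Cfsg.Agent.Lib.Helper8.Co2MultBTab7
import Cfsg.Agent.Lib.Helper8.Co2MultBPar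
import Cfsg.Agent.Lib.Helper8.Co2MultBRel0
import Cfsg.Agent.Lib.Helper8.Co2MultBRel1
import Cfsg.Agent.Lib.Helper8.Co2MultBRel2
import Cfsg.Agent.Lib.Helper8.Co2MultBGen

/-!
# A coset certificate for the Schur multiplier of the second Conway group: definitions (generated by a script)

The table of the certificate B (47104 rows, five involutions) read from packed numerals, its coincidences, and the words and
codes of the five involutions.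
-/

set_option autoImplicit false

namespace Cfsg.Agent.Lib.Helper8.Co2Mult

open Cfsg.Agent.PL Cfsg.Agent.Co2P
open Cfsg.Agent.Lib.Helper5.J3Mult (FCert palW)

noncomputable def chB_n0_0 (j : ℕ) : ℕ := (Bool.rec (motive := fun _ => ℕ) (Bool.rec (motive := fun _ => ℕ) (Bool.rec (motive := fun _ => ℕ) cB_0 cB_1 (Nat.ble 1 j)) (Bool.rec (motive := fun _ => ℕ) cB_2 cB_3 (Nat.ble 3 j)) (Nat.ble 2 j)) (Bool.rec (motive := fun _ => ℕ) (Bool.rec (motive := fun _ => ℕ) cB_4 cB_5 (Nat.ble 5 j)) (Bool.rec (motive := fun _ => ℕ) cB_6 cB_7 (Nat.ble 7 j)) (Nat.ble 6 j)) (Nat.ble 4 j))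
noncomputable def chB_n0_1 (j : ℕ) : ℕ := (Bool.rec (motive := fun _ => ℕ) (Bool.rec (motive := fun _ => ℕ) (Bool.rec (motive := fun _ => ℕ) cB_8 cB_9 (Nat.ble 9 j)) (Bool.rec (motive := fun _ => ℕ) cB_10 cB_11 (Nat.ble 11 j)) (Nat.ble 10 j)) (Bool.rec (motive := fun _ => ℕ) (Bool.rec (motive := fun _ => ℕ) cB_12 cB_13 (Nat.ble 13 j)) (Bool.rec (motive := fun _ => ℕ) cB_14 cB_15 (Nat.ble 15 j)) (Nat.ble 14 j)) (Nat.ble 12 j))
noncomputable def chB_n0_2 (j : ℕ) : ℕ := (Bool.rec (motive := fun _ => ℕ) (Bool.rec (motive := fun _ => ℕ) (Bool.rec (motive := fun _ => ℕ) cB_16 cB_17 (Nat.ble 17 j)) (Bool.rec (motive := fun _ => ℕ) cB_18 cB_19 (Nat.ble 19 j)) (Nat.ble 18 j)) (Bool.rec (motive := fun _ => ℕ) (Bool.rec (motive := fun _ => ℕ) cB_20 cB_21 (Nat.ble 21 j)) (Bool.rec (motive := fun _ => ℕ) cB_22 cB_23 (Nat.ble 23 j)) (Nat.ble 22 j)) (Nat.ble 20 j))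
noncomputable def chB_n0_3 (j : ℕ) : ℕ := (Bool.rec (motive := fun _ => ℕ) (Bool.rec (motive := fun _ => ℕ) (Bool.rec (motive := fun _ => ℕ) cB_24 cB_25 (Nat.ble 25 j)) (Bool.rec (motive := fun _ => ℕ) cB_26 cB_27 (Nat.ble 27 j)) (Nat.ble 26 j)) (Bool.rec (motive := fun _ => ℕ) (Bool.rec (motive := fun _ => ℕ) cB_28 cB_29 (Nat.ble 29 j)) (Bool.rec (motive := fun _ => ℕ) cB_30 cB_31 (Nat.ble 31 j)) (Nat.ble 30 j)) (Nat.ble 28 j))
noncomputable def chB_n0_4 (j : ℕ) : ℕ := (Bool.rec (motive := fun _ => ℕ) (Bool.rec (motive := fun _ => ℕ) (Bool.rec (motive := fun _ => ℕ) cB_32 cB_33 (Nat.ble 33 j)) (Bool.rec (motive := fun _ => ℕ) cB_34 cB_35 (Nat.ble 35 j)) (Nat.ble 34 j)) (Bool.rec (motive := fun _ => ℕ) (Bool.rec (motive := fun _ => ℕ) cB_36 cB_37 (Nat.ble 37 j)) (Bool.rec (motive := fun _ => ℕ) cB_38 cB_39 (Nat.ble 39 j)) (Nat.ble 38 j)) (Nat.ble 36 j))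
noncomputable def chB_n0_5 (j : ℕ) : ℕ := (Bool.rec (motive := fun _ => ℕ) (Bool.rec (motive := fun _ => ℕ) (Bool.rec (motive := fun _ => ℕ) cB_40 cB_41 (Nat.ble 41 j)) (Bool.rec (motive := fun _ => ℕ) cB_42 cB_43 (Nat.ble 43 j)) (Nat.ble 42 j)) (Bool.rec (motive := fun _ => ℕ) (Bool.rec (motive := fun _ => ℕ) cB_44 cB_45 (Nat.ble 45 j)) (Bool.rec (motive := fun _ => ℕ) cB_46 cB_47 (Nat.ble 47 j)) (Nat.ble 46 j)) (Nat.ble 44 j))
noncomputable def chB_n0_6 (j : ℕ) : ℕ := (Bool.rec (motive := fun _ => ℕ) (Bool.rec (motive := fun _ => ℕ) (Bool.rec (motive := fun _ => ℕ) cB_48 cB_49 (Nat.ble 49 j)) (Bool.rec (motive := fun _ => ℕ) cB_50 cB_51 (Nat.ble 51 j)) (Nat.ble 50 j)) (Bool.rec (motive := fun _ => ℕ) (Bool.rec (motive := fun _ => ℕ) cB_52 cB_53 (Nat.ble 53 j)) (Bool.rec (motive := fun _ => ℕ) cB_54 cB_55 (Nat.ble 55 j)) (Nat.ble 54 j)) (Nat.ble 52 j))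
noncomputable def chB_n0_7 (j : ℕ) : ℕ := (Bool.rec (motive := fun _ => ℕ) (Bool.rec (motive := fun _ => ℕ) (Bool.rec (motive := fun _ => ℕ) cB_56 cB_57 (Nat.ble 57 j)) (Bool.rec (motive := fun _ => ℕ) cB_58 cB_59 (Nat.ble 59 j)) (Nat.ble 58 j)) (Bool.rec (motive := fun _ => ℕ) (Bool.rec (motive := fun _ => ℕ) cB_60 cB_61 (Nat.ble 61 j)) (Bool.rec (motive := fun _ => ℕ) cB_62 cB_63 (Nat.ble 63 j)) (Nat.ble 62 j)) (Nat.ble 60 j))
noncomputable def chB_n0_8 (j : ℕ) : ℕ := (Bool.rec (motive := fun _ => ℕ) (Bool.rec (motive := fun _ => ℕ) (Bool.rec (motive := fun _ => ℕ) cB_64 cB_65 (Nat.ble 65 j)) (Bool.rec (motive := fun _ => ℕ) cB_66 cB_67 (Nat.ble 67 j)) (Nat.ble 66 j)) (Bool.rec (motive := fun _ => ℕ) (Bool.rec (motive := fun _ => ℕ) cB_68 cB_69 (Nat.ble 69 j)) (Bool.rec (motive := fun _ => ℕ) cB_70 cB_71 (Nat.ble 71 j)) (Nat.ble 70 j)) (Nat.ble 68 j))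
noncomputable def chB_n0_9 (j : ℕ) : ℕ := (Bool.rec (motive := fun _ => ℕ) (Bool.rec (motive := fun _ => ℕ) (Bool.rec (motive := fun _ => ℕ) cB_72 cB_73 (Nat.ble 73 j)) (Bool.rec (motive := fun _ => ℕ) cB_74 cB_75 (Nat.ble 75 j)) (Nat.ble 74 j)) (Bool.rec (motive := fun _ => ℕ) (Bool.rec (motive := fun _ => ℕ) cB_76 cB_77 (Nat.ble 77 j)) (Bool.rec (motive := fun _ => ℕ) cB_78 cB_79 (Nat.ble 79 j)) (Nat.ble 78 j)) (Nat.ble 76 j))
noncomputable def chB_n0_10 (j : ℕ) : ℕ := (Bool.rec (motive := fun _ => ℕ) (Bool.rec (motive := fun _ => ℕ) (Bool.rec (motive := fun _ => ℕ) cB_80 cB_81 (Nat.ble 81 j)) (Bool.rec (motive := fun _ => ℕ) cB_82 cB_83 (Nat.ble 83 j)) (Nat.ble 82 j)) (Bool.rec (motive := fun _ => ℕ) (Bool.rec (motive := fun _ => ℕ) cB_84 cB_85 (Nat.ble 85 j)) (Bool.rec (motive := fun _ => ℕ) cB_86 cB_87 (Nat.ble 87 j)) (Nat.ble 86 j)) (Nat.ble 84 j))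
noncomputable def chB_n0_11 (j : ℕ) : ℕ := (Bool.rec (motive := fun _ => ℕ) (Bool.rec (motive := fun _ => ℕ) (Bool.rec (motive := fun _ => ℕ) cB_88 cB_89 (Nat.ble 89 j)) (Bool.rec (motive := fun _ => ℕ) cB_90 cB_91 (Nat.ble 91 j)) (Nat.ble 90 j)) (Bool.rec (motive := fun _ => ℕ) (Bool.rec (motive := fun _ => ℕ) cB_92 cB_93 (Nat.ble 93 j)) (Bool.rec (motive := fun _ => ℕ) cB_94 cB_95 (Nat.ble 95 j)) (Nat.ble 94 j)) (Nat.ble 92 j))
noncomputable def chB_n0_12 (j : ℕ) : ℕ := (Bool.rec (motive := fun _ => ℕ) (Bool.rec (motive := fun _ => ℕ) (Bool.rec (motive := fun _ => ℕ) cB_96 cB_97 (Nat.ble 97 j)) (Bool.rec (motive := fun _ => ℕ) cB_98 cB_99 (Nat.ble 99 j)) (Nat.ble 98 j)) (Bool.rec (motive := fun _ => ℕ) (Bool.rec (motive := fun _ => ℕ) cB_100 cB_101 (Nat.ble 101 j)) (Bool.rec (motive := fun _ => ℕ) cB_102 cB_103 (Nat.ble 103 j)) (Nat.ble 102 j)) (Nat.ble 100 j))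
noncomputable def chB_n0_13 (j : ℕ) : ℕ := (Bool.rec (motive := fun _ => ℕ) (Bool.rec (motive := fun _ => ℕ) (Bool.rec (motive := fun _ => ℕ) cB_104 cB_105 (Nat.ble 105 j)) (Bool.rec (motive := fun _ => ℕ) cB_106 cB_107 (Nat.ble 107 j)) (Nat.ble 106 j)) (Bool.rec (motive := fun _ => ℕ) (Bool.rec (motive := fun _ => ℕ) cB_108 cB_109 (Nat.ble 109 j)) (Bool.rec (motive := fun _ => ℕ) cB_110 cB_111 (Nat.ble 111 j)) (Nat.ble 110 j)) (Nat.ble 108 j))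
noncomputable def chB_n0_14 (j : ℕ) : ℕ := (Bool.rec (motive := fun _ => ℕ) (Bool.rec (motive := fun _ => ℕ) (Bool.rec (motive := fun _ => ℕ) cB_112 cB_113 (Nat.ble 113 j)) (Bool.rec (motive := fun _ => ℕ) cB_114 cB_115 (Nat.ble 115 j)) (Nat.ble 114 j)) (Bool.rec (motive := fun _ => ℕ) (Bool.rec (motive := fun _ => ℕ) cB_116 cB_117 (Nat.ble 117 j)) (Bool.rec (motive := fun _ => ℕ) cB_118 cB_119 (Nat.ble 119 j)) (Nat.ble 118 j)) (Nat.ble 116 j))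
noncomputable def chB_n0_15 (j : ℕ) : ℕ := (Bool.rec (motive := fun _ => ℕ) (Bool.rec (motive := fun _ => ℕ) (Bool.rec (motive := fun _ => ℕ) cB_120 cB_121 (Nat.ble 121 j)) (Bool.rec (motive := fun _ => ℕ) cB_122 cB_123 (Nat.ble 123 j)) (Nat.ble 122 j)) (Bool.rec (motive := fun _ => ℕ) (Bool.rec (motive := fun _ => ℕ) cB_124 cB_125 (Nat.ble 125 j)) (Bool.rec (motive := fun _ => ℕ) cB_126 cB_127 (Nat.ble 127 j)) (Nat.ble 126 j)) (Nat.ble 124 j))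
noncomputable def chB_n0_16 (j : ℕ) : ℕ := (Bool.rec (motive := fun _ => ℕ) (Bool.rec (motive := fun _ => ℕ) (Bool.rec (motive := fun _ => ℕ) cB_128 cB_129 (Nat.ble 129 j)) (Bool.rec (motive := fun _ => ℕ) cB_130 cB_131 (Nat.ble 131 j)) (Nat.ble 130 j)) (Bool.rec (motive := fun _ => ℕ) (Bool.rec (motive := fun _ => ℕ) cB_132 cB_133 (Nat.ble 133 j)) (Bool.rec (motive := fun _ => ℕ) cB_134 cB_135 (Nat.ble 135 j)) (Nat.ble 134 j)) (Nat.ble 132 j))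
noncomputable def chB_n0_17 (j : ℕ) : ℕ := (Bool.rec (motive := fun _ => ℕ) (Bool.rec (motive := fun _ => ℕ) (Bool.rec (motive := fun _ => ℕ) cB_136 cB_137 (Nat.ble 137 j)) (Bool.rec (motive := fun _ => ℕ) cB_138 cB_139 (Nat.ble 139 j)) (Nat.ble 138 j)) (Bool.rec (motive := fun _ => ℕ) (Bool.rec (motive := fun _ => ℕ) cB_140 cB_141 (Nat.ble 141 j)) (Bool.rec (motive := fun _ => ℕ) cB_142 cB_143 (Nat.ble 143 j)) (Nat.ble 142 j)) (Nat.ble 140 j))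
noncomputable def chB_n0_18 (j : ℕ) : ℕ := (Bool.rec (motive := fun _ => ℕ) (Bool.rec (motive := fun _ => ℕ) (Bool.rec (motive := fun _ => ℕ) cB_144 cB_145 (Nat.ble 145 j)) (Bool.rec (motive := fun _ => ℕ) cB_146 cB_147 (Nat.ble 147 j)) (Nat.ble 146 j)) (Bool.rec (motive := fun _ => ℕ) (Bool.rec (motive := fun _ => ℕ) cB_148 cB_149 (Nat.ble 149 j)) (Bool.rec (motive := fun _ => ℕ) cB_150 cB_151 (Nat.ble 151 j)) (Nat.ble 150 j)) (Nat.ble 148 j))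
noncomputable def chB_n0_19 (j : ℕ) : ℕ := (Bool.rec (motive := fun _ => ℕ) (Bool.rec (motive := fun _ => ℕ) (Bool.rec (motive := fun _ => ℕ) cB_152 cB_153 (Nat.ble 153 j)) (Bool.rec (motive := fun _ => ℕ) cB_154 cB_155 (Nat.ble 155 j)) (Nat.ble 154 j)) (Bool.rec (motive := fun _ => ℕ) (Bool.rec (motive := fun _ => ℕ) cB_156 cB_157 (Nat.ble 157 j)) (Bool.rec (motive := fun _ => ℕ) cB_158 cB_159 (Nat.ble 159 j)) (Nat.ble 158 j)) (Nat.ble 156 j))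
noncomputable def chB_n0_20 (j : ℕ) : ℕ := (Bool.rec (motive := fun _ => ℕ) (Bool.rec (motive := fun _ => ℕ) (Bool.rec (motive := fun _ => ℕ) cB_160 cB_161 (Nat.ble 161 j)) (Bool.rec (motive := fun _ => ℕ) cB_162 cB_163 (Nat.ble 163 j)) (Nat.ble 162 j)) (Bool.rec (motive := fun _ => ℕ) (Bool.rec (motive := fun _ => ℕ) cB_164 cB_165 (Nat.ble 165 j)) (Bool.rec (motive := fun _ => ℕ) cB_166 cB_167 (Nat.ble 167 j)) (Nat.ble 166 j)) (Nat.ble 164 j))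
noncomputable def chB_n0_21 (j : ℕ) : ℕ := (Bool.rec (motive := fun _ => ℕ) (Bool.rec (motive := fun _ => ℕ) (Bool.rec (motive := fun _ => ℕ) cB_168 cB_169 (Nat.ble 169 j)) (Bool.rec (motive := fun _ => ℕ) cB_170 cB_171 (Nat.ble 171 j)) (Nat.ble 170 j)) (Bool.rec (motive := fun _ => ℕ) (Bool.rec (motive := fun _ => ℕ) cB_172 cB_173 (Nat.ble 173 j)) (Bool.rec (motive := fun _ => ℕ) cB_174 cB_175 (Nat.ble 175 j)) (Nat.ble 174 j)) (Nat.ble 172 j))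
noncomputable def chB_n0_22 (j : ℕ) : ℕ := (Bool.rec (motive := fun _ => ℕ) (Bool.rec (motive := fun _ => ℕ) (Bool.rec (motive := fun _ => ℕ) cB_176 cB_177 (Nat.ble 177 j)) (Bool.rec (motive := fun _ => ℕ) cB_178 cB_179 (Nat.ble 179 j)) (Nat.ble 178 j)) (Bool.rec (motive := fun _ => ℕ) (Bool.rec (motive := fun _ => ℕ) cB_180 cB_181 (Nat.ble 181 j)) (Bool.rec (motive := fun _ => ℕ) cB_182 cB_183 (Nat.ble 183 j)) (Nat.ble 182 j)) (Nat.ble 180 j))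
noncomputable def chB_n0_23 (j : ℕ) : ℕ := (Bool.rec (motive := fun _ => ℕ) (Bool.rec (motive := fun _ => ℕ) (Bool.rec (motive := fun _ => ℕ) cB_184 cB_185 (Nat.ble 185 j)) (Bool.rec (motive := fun _ => ℕ) cB_186 cB_187 (Nat.ble 187 j)) (Nat.ble 186 j)) (Bool.rec (motive := fun _ => ℕ) (Bool.rec (motive := fun _ => ℕ) cB_188 cB_189 (Nat.ble 189 j)) (Bool.rec (motive := fun _ => ℕ) cB_190 cB_191 (Nat.ble 191 j)) (Nat.ble 190 j)) (Nat.ble 188 j))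
noncomputable def chB_n0_24 (j : ℕ) : ℕ := (Bool.rec (motive := fun _ => ℕ) (Bool.rec (motive := fun _ => ℕ) (Bool.rec (motive := fun _ => ℕ) cB_192 cB_193 (Nat.ble 193 j)) (Bool.rec (motive := fun _ => ℕ) cB_194 cB_195 (Nat.ble 195 j)) (Nat.ble 194 j)) (Bool.rec (motive := fun _ => ℕ) (Bool.rec (motive := fun _ => ℕ) cB_196 cB_197 (Nat.ble 197 j)) (Bool.rec (motive := fun _ => ℕ) cB_198 cB_199 (Nat.ble 199 j)) (Nat.ble 198 j)) (Nat.ble 196 j))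
noncomputable def chB_n0_25 (j : ℕ) : ℕ := (Bool.rec (motive := fun _ => ℕ) (Bool.rec (motive := fun _ => ℕ) (Bool.rec (motive := fun _ => ℕ) cB_200 cB_201 (Nat.ble 201 j)) (Bool.rec (motive := fun _ => ℕ) cB_202 cB_203 (Nat.ble 203 j)) (Nat.ble 202 j)) (Bool.rec (motive := fun _ => ℕ) (Bool.rec (motive := fun _ => ℕ) cB_204 cB_205 (Nat.ble 205 j)) (Bool.rec (motive := fun _ => ℕ) cB_206 cB_207 (Nat.ble 207 j)) (Nat.ble 206 j)) (Nat.ble 204 j))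
noncomputable def chB_n0_26 (j : ℕ) : ℕ := (Bool.rec (motive := fun _ => ℕ) (Bool.rec (motive := fun _ => ℕ) (Bool.rec (motive := fun _ => ℕ) cB_208 cB_209 (Nat.ble 209 j)) (Bool.rec (motive := fun _ => ℕ) cB_210 cB_211 (Nat.ble 211 j)) (Nat.ble 210 j)) (Bool.rec (motive := fun _ => ℕ) (Bool.rec (motive := fun _ => ℕ) cB_212 cB_213 (Nat.ble 213 j)) (Bool.rec (motive := fun _ => ℕ) cB_214 cB_215 (Nat.ble 215 j)) (Nat.ble 214 j)) (Nat.ble 212 j))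
noncomputable def chB_n0_27 (j : ℕ) : ℕ := (Bool.rec (motive := fun _ => ℕ) (Bool.rec (motive := fun _ => ℕ) (Bool.rec (motive := fun _ => ℕ) cB_216 cB_217 (Nat.ble 217 j)) (Bool.rec (motive := fun _ => ℕ) cB_218 cB_219 (Nat.ble 219 j)) (Nat.ble 218 j)) (Bool.rec (motive := fun _ => ℕ) (Bool.rec (motive := fun _ => ℕ) cB_220 cB_221 (Nat.ble 221 j)) (Bool.rec (motive := fun _ => ℕ) cB_222 cB_223 (Nat.ble 223 j)) (Nat.ble 222 j)) (Nat.ble 220 j))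
noncomputable def chB_n0_28 (j : ℕ) : ℕ := (Bool.rec (motive := fun _ => ℕ) (Bool.rec (motive := fun _ => ℕ) (Bool.rec (motive := fun _ => ℕ) cB_224 cB_225 (Nat.ble 225 j)) (Bool.rec (motive := fun _ => ℕ) cB_226 cB_227 (Nat.ble 227 j)) (Nat.ble 226 j)) (Bool.rec (motive := fun _ => ℕ) (Bool.rec (motive := fun _ => ℕ) cB_228 cB_229 (Nat.ble 229 j)) (Bool.rec (motive := fun _ => ℕ) cB_230 cB_231 (Nat.ble 231 j)) (Nat.ble 230 j)) (Nat.ble 228 j))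
noncomputable def chB_n0_29 (j : ℕ) : ℕ := (Bool.rec (motive := fun _ => ℕ) (Bool.rec (motive := fun _ => ℕ) (Bool.rec (motive := fun _ => ℕ) cB_232 cB_233 (Nat.ble 233 j)) (Bool.rec (motive := fun _ => ℕ) cB_234 cB_235 (Nat.ble 235 j)) (Nat.ble 234 j)) (Bool.rec (motive := fun _ => ℕ) (Bool.rec (motive := fun _ => ℕ) cB_236 cB_237 (Nat.ble 237 j)) (Bool.rec (motive := fun _ => ℕ) cB_238 cB_239 (Nat.ble 239 j)) (Nat.ble 238 j)) (Nat.ble 236 j))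
noncomputable def chB_n0_30 (j : ℕ) : ℕ := (Bool.rec (motive := fun _ => ℕ) (Bool.rec (motive := fun _ => ℕ) (Bool.rec (motive := fun _ => ℕ) cB_240 cB_241 (Nat.ble 241 j)) (Bool.rec (motive := fun _ => ℕ) cB_242 cB_243 (Nat.ble 243 j)) (Nat.ble 242 j)) (Bool.rec (motive := fun _ => ℕ) (Bool.rec (motive := fun _ => ℕ) cB_244 cB_245 (Nat.ble 245 j)) (Bool.rec (motive := fun _ => ℕ) cB_246 cB_247 (Nat.ble 247 j)) (Nat.ble 246 j)) (Nat.ble 244 j))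
noncomputable def chB_n0_31 (j : ℕ) : ℕ := (Bool.rec (motive := fun _ => ℕ) (Bool.rec (motive := fun _ => ℕ) (Bool.rec (motive := fun _ => ℕ) cB_248 cB_249 (Nat.ble 249 j)) (Bool.rec (motive := fun _ => ℕ) cB_250 cB_251 (Nat.ble 251 j)) (Nat.ble 250 j)) (Bool.rec (motive := fun _ => ℕ) (Bool.rec (motive := fun _ => ℕ) cB_252 cB_253 (Nat.ble 253 j)) (Bool.rec (motive := fun _ => ℕ) cB_254 cB_255 (Nat.ble 255 j)) (Nat.ble 254 j)) (Nat.ble 252 j))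
noncomputable def chB_n0_32 (j : ℕ) : ℕ := (Bool.rec (motive := fun _ => ℕ) (Bool.rec (motive := fun _ => ℕ) (Bool.rec (motive := fun _ => ℕ) cB_256 cB_257 (Nat.ble 257 j)) (Bool.rec (motive := fun _ => ℕ) cB_258 cB_259 (Nat.ble 259 j)) (Nat.ble 258 j)) (Bool.rec (motive := fun _ => ℕ) (Bool.rec (motive := fun _ => ℕ) cB_260 cB_261 (Nat.ble 261 j)) (Bool.rec (motive := fun _ => ℕ) cB_262 cB_263 (Nat.ble 263 j)) (Nat.ble 262 j)) (Nat.ble 260 j))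
noncomputable def chB_n0_33 (j : ℕ) : ℕ := (Bool.rec (motive := fun _ => ℕ) (Bool.rec (motive := fun _ => ℕ) (Bool.rec (motive := fun _ => ℕ) cB_264 cB_265 (Nat.ble 265 j)) (Bool.rec (motive := fun _ => ℕ) cB_266 cB_267 (Nat.ble 267 j)) (Nat.ble 266 j)) (Bool.rec (motive := fun _ => ℕ) (Bool.rec (motive := fun _ => ℕ) cB_268 cB_269 (Nat.ble 269 j)) (Bool.rec (motive := fun _ => ℕ) cB_270 cB_271 (Nat.ble 271 j)) (Nat.ble 270 j)) (Nat.ble 268 j))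
noncomputable def chB_n0_34 (j : ℕ) : ℕ := (Bool.rec (motive := fun _ => ℕ) (Bool.rec (motive := fun _ => ℕ) (Bool.rec (motive := fun _ => ℕ) cB_272 cB_273 (Nat.ble 273 j)) (Bool.rec (motive := fun _ => ℕ) cB_274 cB_275 (Nat.ble 275 j)) (Nat.ble 274 j)) (Bool.rec (motive := fun _ => ℕ) (Bool.rec (motive := fun _ => ℕ) cB_276 cB_277 (Nat.ble 277 j)) (Bool.rec (motive := fun _ => ℕ) cB_278 cB_279 (Nat.ble 279 j)) (Nat.ble 278 j)) (Nat.ble 276 j))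
noncomputable def chB_n0_35 (j : ℕ) : ℕ := (Bool.rec (motive := fun _ => ℕ) (Bool.rec (motive := fun _ => ℕ) (Bool.rec (motive := fun _ => ℕ) cB_280 cB_281 (Nat.ble 281 j)) (Bool.rec (motive := fun _ => ℕ) cB_282 cB_283 (Nat.ble 283 j)) (Nat.ble 282 j)) (Bool.rec (motive := fun _ => ℕ) (Bool.rec (motive := fun _ => ℕ) cB_284 cB_285 (Nat.ble 285 j)) (Bool.rec (motive := fun _ => ℕ) cB_286 cB_287 (Nat.ble 287 j)) (Nat.ble 286 j)) (Nat.ble 284 j))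
noncomputable def chB_n0_36 (j : ℕ) : ℕ := (Bool.rec (motive := fun _ => ℕ) (Bool.rec (motive := fun _ => ℕ) (Bool.rec (motive := fun _ => ℕ) cB_288 cB_289 (Nat.ble 289 j)) (Bool.rec (motive := fun _ => ℕ) cB_290 cB_291 (Nat.ble 291 j)) (Nat.ble 290 j)) (Bool.rec (motive := fun _ => ℕ) (Bool.rec (motive := fun _ => ℕ) cB_292 cB_293 (Nat.ble 293 j)) (Bool.rec (motive := fun _ => ℕ) cB_294 cB_295 (Nat.ble 295 j)) (Nat.ble 294 j)) (Nat.ble 292 j))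
noncomputable def chB_n0_37 (j : ℕ) : ℕ := (Bool.rec (motive := fun _ => ℕ) (Bool.rec (motive := fun _ => ℕ) (Bool.rec (motive := fun _ => ℕ) cB_296 cB_297 (Nat.ble 297 j)) (Bool.rec (motive := fun _ => ℕ) cB_298 cB_299 (Nat.ble 299 j)) (Nat.ble 298 j)) (Bool.rec (motive := fun _ => ℕ) (Bool.rec (motive := fun _ => ℕ) cB_300 cB_301 (Nat.ble 301 j)) (Bool.rec (motive := fun _ => ℕ) cB_302 cB_303 (Nat.ble 303 j)) (Nat.ble 302 j)) (Nat.ble 300 j))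
noncomputable def chB_n0_38 (j : ℕ) : ℕ := (Bool.rec (motive := fun _ => ℕ) (Bool.rec (motive := fun _ => ℕ) (Bool.rec (motive := fun _ => ℕ) cB_304 cB_305 (Nat.ble 305 j)) (Bool.rec (motive := fun _ => ℕ) cB_306 cB_307 (Nat.ble 307 j)) (Nat.ble 306 j)) (Bool.rec (motive := fun _ => ℕ) (Bool.rec (motive := fun _ => ℕ) cB_308 cB_309 (Nat.ble 309 j)) (Bool.rec (motive := fun _ => ℕ) cB_310 cB_311 (Nat.ble 311 j)) (Nat.ble 310 j)) (Nat.ble 308 j))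
noncomputable def chB_n0_39 (j : ℕ) : ℕ := (Bool.rec (motive := fun _ => ℕ) (Bool.rec (motive := fun _ => ℕ) (Bool.rec (motive := fun _ => ℕ) cB_312 cB_313 (Nat.ble 313 j)) (Bool.rec (motive := fun _ => ℕ) cB_314 cB_315 (Nat.ble 315 j)) (Nat.ble 314 j)) (Bool.rec (motive := fun _ => ℕ) (Bool.rec (motive := fun _ => ℕ) cB_316 cB_317 (Nat.ble 317 j)) (Bool.rec (motive := fun _ => ℕ) cB_318 cB_319 (Nat.ble 319 j)) (Nat.ble 318 j)) (Nat.ble 316 j))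
noncomputable def chB_n0_40 (j : ℕ) : ℕ := (Bool.rec (motive := fun _ => ℕ) (Bool.rec (motive := fun _ => ℕ) (Bool.rec (motive := fun _ => ℕ) cB_320 cB_321 (Nat.ble 321 j)) (Bool.rec (motive := fun _ => ℕ) cB_322 cB_323 (Nat.ble 323 j)) (Nat.ble 322 j)) (Bool.rec (motive := fun _ => ℕ) (Bool.rec (motive := fun _ => ℕ) cB_324 cB_325 (Nat.ble 325 j)) (Bool.rec (motive := fun _ => ℕ) cB_326 cB_327 (Nat.ble 327 j)) (Nat.ble 326 j)) (Nat.ble 324 j))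
noncomputable def chB_n0_41 (j : ℕ) : ℕ := (Bool.rec (motive := fun _ => ℕ) (Bool.rec (motive := fun _ => ℕ) (Bool.rec (motive := fun _ => ℕ) cB_328 cB_329 (Nat.ble 329 j)) (Bool.rec (motive := fun _ => ℕ) cB_330 cB_331 (Nat.ble 331 j)) (Nat.ble 330 j)) (Bool.rec (motive := fun _ => ℕ) (Bool.rec (motive := fun _ => ℕ) cB_332 cB_333 (Nat.ble 333 j)) (Bool.rec (motive := fun _ => ℕ) cB_334 cB_335 (Nat.ble 335 j)) (Nat.ble 334 j)) (Nat.ble 332 j))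
noncomputable def chB_n0_42 (j : ℕ) : ℕ := (Bool.rec (motive := fun _ => ℕ) (Bool.rec (motive := fun _ => ℕ) (Bool.rec (motive := fun _ => ℕ) cB_336 cB_337 (Nat.ble 337 j)) (Bool.rec (motive := fun _ => ℕ) cB_338 cB_339 (Nat.ble 339 j)) (Nat.ble 338 j)) (Bool.rec (motive := fun _ => ℕ) (Bool.rec (motive := fun _ => ℕ) cB_340 cB_341 (Nat.ble 341 j)) (Bool.rec (motive := fun _ => ℕ) cB_342 cB_343 (Nat.ble 343 j)) (Nat.ble 342 j)) (Nat.ble 340 j))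
noncomputable def chB_n0_43 (j : ℕ) : ℕ := (Bool.rec (motive := fun _ => ℕ) (Bool.rec (motive := fun _ => ℕ) (Bool.rec (motive := fun _ => ℕ) cB_344 cB_345 (Nat.ble 345 j)) (Bool.rec (motive := fun _ => ℕ) cB_346 cB_347 (Nat.ble 347 j)) (Nat.ble 346 j)) (Bool.rec (motive := fun _ => ℕ) (Bool.rec (motive := fun _ => ℕ) cB_348 cB_349 (Nat.ble 349 j)) (Bool.rec (motive := fun _ => ℕ) cB_350 cB_351 (Nat.ble 351 j)) (Nat.ble 350 j)) (Nat.ble 348 j))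
noncomputable def chB_n0_44 (j : ℕ) : ℕ := (Bool.rec (motive := fun _ => ℕ) (Bool.rec (motive := fun _ => ℕ) (Bool.rec (motive := fun _ => ℕ) cB_352 cB_353 (Nat.ble 353 j)) (Bool.rec (motive := fun _ => ℕ) cB_354 cB_355 (Nat.ble 355 j)) (Nat.ble 354 j)) (Bool.rec (motive := fun _ => ℕ) (Bool.rec (motive := fun _ => ℕ) cB_356 cB_357 (Nat.ble 357 j)) (Bool.rec (motive := fun _ => ℕ) cB_358 cB_359 (Nat.ble 359 j)) (Nat.ble 358 j)) (Nat.ble 356 j))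
noncomputable def chB_n0_45 (j : ℕ) : ℕ := (Bool.rec (motive := fun _ => ℕ) (Bool.rec (motive := fun _ => ℕ) (Bool.rec (motive := fun _ => ℕ) cB_360 cB_361 (Nat.ble 361 j)) (Bool.rec (motive := fun _ => ℕ) cB_362 cB_363 (Nat.ble 363 j)) (Nat.ble 362 j)) (Bool.rec (motive := fun _ => ℕ) (Bool.rec (motive := fun _ => ℕ) cB_364 cB_365 (Nat.ble 365 j)) (Bool.rec (motive := fun _ => ℕ) cB_366 cB_367 (Nat.ble 367 j)) (Nat.ble 366 j)) (Nat.ble 364 j))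
noncomputable def chB_n0_46 (j : ℕ) : ℕ := (Bool.rec (motive := fun _ => ℕ) (Bool.rec (motive := fun _ => ℕ) (Bool.rec (motive := fun _ => ℕ) cB_368 cB_369 (Nat.ble 369 j)) (Bool.rec (motive := fun _ => ℕ) cB_370 cB_371 (Nat.ble 371 j)) (Nat.ble 370 j)) (Bool.rec (motive := fun _ => ℕ) (Bool.rec (motive := fun _ => ℕ) cB_372 cB_373 (Nat.ble 373 j)) (Bool.rec (motive := fun _ => ℕ) cB_374 cB_375 (Nat.ble 375 j)) (Nat.ble 374 j)) (Nat.ble 372 j))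
noncomputable def chB_n0_47 (j : ℕ) : ℕ := (Bool.rec (motive := fun _ => ℕ) (Bool.rec (motive := fun _ => ℕ) (Bool.rec (motive := fun _ => ℕ) cB_376 cB_377 (Nat.ble 377 j)) (Bool.rec (motive := fun _ => ℕ) cB_378 cB_379 (Nat.ble 379 j)) (Nat.ble 378 j)) (Bool.rec (motive := fun _ => ℕ) (Bool.rec (motive := fun _ => ℕ) cB_380 cB_381 (Nat.ble 381 j)) (Bool.rec (motive := fun _ => ℕ) cB_382 cB_383 (Nat.ble 383 j)) (Nat.ble 382 j)) (Nat.ble 380 j))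
noncomputable def chB_n0_48 (j : ℕ) : ℕ := (Bool.rec (motive := fun _ => ℕ) (Bool.rec (motive := fun _ => ℕ) (Bool.rec (motive := fun _ => ℕ) cB_384 cB_385 (Nat.ble 385 j)) (Bool.rec (motive := fun _ => ℕ) cB_386 cB_387 (Nat.ble 387 j)) (Nat.ble 386 j)) (Bool.rec (motive := fun _ => ℕ) (Bool.rec (motive := fun _ => ℕ) cB_388 cB_389 (Nat.ble 389 j)) (Bool.rec (motive := fun _ => ℕ) cB_390 cB_391 (Nat.ble 391 j)) (Nat.ble 390 j)) (Nat.ble 388 j))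
noncomputable def chB_n0_49 (j : ℕ) : ℕ := (Bool.rec (motive := fun _ => ℕ) (Bool.rec (motive := fun _ => ℕ) (Bool.rec (motive := fun _ => ℕ) cB_392 cB_393 (Nat.ble 393 j)) (Bool.rec (motive := fun _ => ℕ) cB_394 cB_395 (Nat.ble 395 j)) (Nat.ble 394 j)) (Bool.rec (motive := fun _ => ℕ) (Bool.rec (motive := fun _ => ℕ) cB_396 cB_397 (Nat.ble 397 j)) (Bool.rec (motive := fun _ => ℕ) cB_398 cB_399 (Nat.ble 399 j)) (Nat.ble 398 j)) (Nat.ble 396 j))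
noncomputable def chB_n0_50 (j : ℕ) : ℕ := (Bool.rec (motive := fun _ => ℕ) (Bool.rec (motive := fun _ => ℕ) (Bool.rec (motive := fun _ => ℕ) cB_400 cB_401 (Nat.ble 401 j)) (Bool.rec (motive := fun _ => ℕ) cB_402 cB_403 (Nat.ble 403 j)) (Nat.ble 402 j)) (Bool.rec (motive := fun _ => ℕ) (Bool.rec (motive := fun _ => ℕ) cB_404 cB_405 (Nat.ble 405 j)) (Bool.rec (motive := fun _ => ℕ) cB_406 cB_407 (Nat.ble 407 j)) (Nat.ble 406 j)) (Nat.ble 404 j))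
noncomputable def chB_n0_51 (j : ℕ) : ℕ := (Bool.rec (motive := fun _ => ℕ) (Bool.rec (motive := fun _ => ℕ) (Bool.rec (motive := fun _ => ℕ) cB_408 cB_409 (Nat.ble 409 j)) (Bool.rec (motive := fun _ => ℕ) cB_410 cB_411 (Nat.ble 411 j)) (Nat.ble 410 j)) (Bool.rec (motive := fun _ => ℕ) (Bool.rec (motive := fun _ => ℕ) cB_412 cB_413 (Nat.ble 413 j)) (Bool.rec (motive := fun _ => ℕ) cB_414 cB_415 (Nat.ble 415 j)) (Nat.ble 414 j)) (Nat.ble 412 j))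
noncomputable def chB_n0_52 (j : ℕ) : ℕ := (Bool.rec (motive := fun _ => ℕ) (Bool.rec (motive := fun _ => ℕ) (Bool.rec (motive := fun _ => ℕ) cB_416 cB_417 (Nat.ble 417 j)) (Bool.rec (motive := fun _ => ℕ) cB_418 cB_419 (Nat.ble 419 j)) (Nat.ble 418 j)) (Bool.rec (motive := fun _ => ℕ) (Bool.rec (motive := fun _ => ℕ) cB_420 cB_421 (Nat.ble 421 j)) (Bool.rec (motive := fun _ => ℕ) cB_422 cB_423 (Nat.ble 423 j)) (Nat.ble 422 j)) (Nat.ble 420 j))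
noncomputable def chB_n0_53 (j : ℕ) : ℕ := (Bool.rec (motive := fun _ => ℕ) (Bool.rec (motive := fun _ => ℕ) (Bool.rec (motive := fun _ => ℕ) cB_424 cB_425 (Nat.ble 425 j)) (Bool.rec (motive := fun _ => ℕ) cB_426 cB_427 (Nat.ble 427 j)) (Nat.ble 426 j)) (Bool.rec (motive := fun _ => ℕ) (Bool.rec (motive := fun _ => ℕ) cB_428 cB_429 (Nat.ble 429 j)) (Bool.rec (motive := fun _ => ℕ) cB_430 cB_431 (Nat.ble 431 j)) (Nat.ble 430 j)) (Nat.ble 428 j))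
noncomputable def chB_n0_54 (j : ℕ) : ℕ := (Bool.rec (motive := fun _ => ℕ) (Bool.rec (motive := fun _ => ℕ) (Bool.rec (motive := fun _ => ℕ) cB_432 cB_433 (Nat.ble 433 j)) (Bool.rec (motive := fun _ => ℕ) cB_434 cB_435 (Nat.ble 435 j)) (Nat.ble 434 j)) (Bool.rec (motive := fun _ => ℕ) (Bool.rec (motive := fun _ => ℕ) cB_436 cB_437 (Nat.ble 437 j)) (Bool.rec (motive := fun _ => ℕ) cB_438 cB_439 (Nat.ble 439 j)) (Nat.ble 438 j)) (Nat.ble 436 j))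
noncomputable def chB_n0_55 (j : ℕ) : ℕ := (Bool.rec (motive := fun _ => ℕ) (Bool.rec (motive := fun _ => ℕ) (Bool.rec (motive := fun _ => ℕ) cB_440 cB_441 (Nat.ble 441 j)) (Bool.rec (motive := fun _ => ℕ) cB_442 cB_443 (Nat.ble 443 j)) (Nat.ble 442 j)) (Bool.rec (motive := fun _ => ℕ) (Bool.rec (motive := fun _ => ℕ) cB_444 cB_445 (Nat.ble 445 j)) (Bool.rec (motive := fun _ => ℕ) cB_446 cB_447 (Nat.ble 447 j)) (Nat.ble 446 j)) (Nat.ble 444 j))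
noncomputable def chB_n0_56 (j : ℕ) : ℕ := (Bool.rec (motive := fun _ => ℕ) (Bool.rec (motive := fun _ => ℕ) (Bool.rec (motive := fun _ => ℕ) cB_448 cB_449 (Nat.ble 449 j)) (Bool.rec (motive := fun _ => ℕ) cB_450 cB_451 (Nat.ble 451 j)) (Nat.ble 450 j)) (Bool.rec (motive := fun _ => ℕ) (Bool.rec (motive := fun _ => ℕ) cB_452 cB_453 (Nat.ble 453 j)) (Bool.rec (motive := fun _ => ℕ) cB_454 cB_455 (Nat.ble 455 j)) (Nat.ble 454 j)) (Nat.ble 452 j))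
noncomputable def chB_n0_57 (j : ℕ) : ℕ := (Bool.rec (motive := fun _ => ℕ) (Bool.rec (motive := fun _ => ℕ) (Bool.rec (motive := fun _ => ℕ) cB_456 cB_457 (Nat.ble 457 j)) (Bool.rec (motive := fun _ => ℕ) cB_458 cB_459 (Nat.ble 459 j)) (Nat.ble 458 j)) (Bool.rec (motive := fun _ => ℕ) (Bool.rec (motive := fun _ => ℕ) cB_460 cB_461 (Nat.ble 461 j)) (Bool.rec (motive := fun _ => ℕ) cB_462 cB_463 (Nat.ble 463 j)) (Nat.ble 462 j)) (Nat.ble 460 j))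
noncomputable def chB_n0_58 (j : ℕ) : ℕ := (Bool.rec (motive := fun _ => ℕ) (Bool.rec (motive := fun _ => ℕ) (Bool.rec (motive := fun _ => ℕ) cB_464 cB_465 (Nat.ble 465 j)) (Bool.rec (motive := fun _ => ℕ) cB_466 cB_467 (Nat.ble 467 j)) (Nat.ble 466 j)) (Bool.rec (motive := fun _ => ℕ) (Bool.rec (motive := fun _ => ℕ) cB_468 cB_469 (Nat.ble 469 j)) (Bool.rec (motive := fun _ => ℕ) cB_470 cB_471 (Nat.ble 471 j)) (Nat.ble 470 j)) (Nat.ble 468 j))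
noncomputable def chB_n0_59 (j : ℕ) : ℕ := (Bool.rec (motive := fun _ => ℕ) (Bool.rec (motive := fun _ => ℕ) (Bool.rec (motive := fun _ => ℕ) cB_472 cB_473 (Nat.ble 473 j)) (Bool.rec (motive := fun _ => ℕ) cB_474 cB_475 (Nat.ble 475 j)) (Nat.ble 474 j)) (Bool.rec (motive := fun _ => ℕ) (Bool.rec (motive := fun _ => ℕ) cB_476 cB_477 (Nat.ble 477 j)) (Bool.rec (motive := fun _ => ℕ) cB_478 cB_479 (Nat.ble 479 j)) (Nat.ble 478 j)) (Nat.ble 476 j))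
noncomputable def chB_n0_60 (j : ℕ) : ℕ := (Bool.rec (motive := fun _ => ℕ) (Bool.rec (motive := fun _ => ℕ) (Bool.rec (motive := fun _ => ℕ) cB_480 cB_481 (Nat.ble 481 j)) (Bool.rec (motive := fun _ => ℕ) cB_482 cB_483 (Nat.ble 483 j)) (Nat.ble 482 j)) (Bool.rec (motive := fun _ => ℕ) (Bool.rec (motive := fun _ => ℕ) cB_484 cB_485 (Nat.ble 485 j)) (Bool.rec (motive := fun _ => ℕ) cB_486 cB_487 (Nat.ble 487 j)) (Nat.ble 486 j)) (Nat.ble 484 j))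
noncomputable def chB_n0_61 (j : ℕ) : ℕ := (Bool.rec (motive := fun _ => ℕ) (Bool.rec (motive := fun _ => ℕ) (Bool.rec (motive := fun _ => ℕ) cB_488 cB_489 (Nat.ble 489 j)) (Bool.rec (motive := fun _ => ℕ) cB_490 cB_491 (Nat.ble 491 j)) (Nat.ble 490 j)) (Bool.rec (motive := fun _ => ℕ) (Bool.rec (motive := fun _ => ℕ) cB_492 cB_493 (Nat.ble 493 j)) (Bool.rec (motive := fun _ => ℕ) cB_494 cB_495 (Nat.ble 495 j)) (Nat.ble 494 j)) (Nat.ble 492 j))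
noncomputable def chB_n0_62 (j : ℕ) : ℕ := (Bool.rec (motive := fun _ => ℕ) (Bool.rec (motive := fun _ => ℕ) (Bool.rec (motive := fun _ => ℕ) cB_496 cB_497 (Nat.ble 497 j)) (Bool.rec (motive := fun _ => ℕ) cB_498 cB_499 (Nat.ble 499 j)) (Nat.ble 498 j)) (Bool.rec (motive := fun _ => ℕ) (Bool.rec (motive := fun _ => ℕ) cB_500 cB_501 (Nat.ble 501 j)) (Bool.rec (motive := fun _ => ℕ) cB_502 cB_503 (Nat.ble 503 j)) (Nat.ble 502 j)) (Nat.ble 500 j))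
noncomputable def chB_n0_63 (j : ℕ) : ℕ := (Bool.rec (motive := fun _ => ℕ) (Bool.rec (motive := fun _ => ℕ) (Bool.rec (motive := fun _ => ℕ) cB_504 cB_505 (Nat.ble 505 j)) (Bool.rec (motive := fun _ => ℕ) cB_506 cB_507 (Nat.ble 507 j)) (Nat.ble 506 j)) (Bool.rec (motive := fun _ => ℕ) (Bool.rec (motive := fun _ => ℕ) cB_508 cB_509 (Nat.ble 509 j)) (Bool.rec (motive := fun _ => ℕ) cB_510 cB_511 (Nat.ble 511 j)) (Nat.ble 510 j)) (Nat.ble 508 j))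
noncomputable def chB_n0_64 (j : ℕ) : ℕ := (Bool.rec (motive := fun _ => ℕ) (Bool.rec (motive := fun _ => ℕ) (Bool.rec (motive := fun _ => ℕ) cB_512 cB_513 (Nat.ble 513 j)) (Bool.rec (motive := fun _ => ℕ) cB_514 cB_515 (Nat.ble 515 j)) (Nat.ble 514 j)) (Bool.rec (motive := fun _ => ℕ) (Bool.rec (motive := fun _ => ℕ) cB_516 cB_517 (Nat.ble 517 j)) (Bool.rec (motive := fun _ => ℕ) cB_518 cB_519 (Nat.ble 519 j)) (Nat.ble 518 j)) (Nat.ble 516 j))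
noncomputable def chB_n0_65 (j : ℕ) : ℕ := (Bool.rec (motive := fun _ => ℕ) (Bool.rec (motive := fun _ => ℕ) (Bool.rec (motive := fun _ => ℕ) cB_520 cB_521 (Nat.ble 521 j)) (Bool.rec (motive := fun _ => ℕ) cB_522 cB_523 (Nat.ble 523 j)) (Nat.ble 522 j)) (Bool.rec (motive := fun _ => ℕ) (Bool.rec (motive := fun _ => ℕ) cB_524 cB_525 (Nat.ble 525 j)) (Bool.rec (motive := fun _ => ℕ) cB_526 cB_527 (Nat.ble 527 j)) (Nat.ble 526 j)) (Nat.ble 524 j))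
noncomputable def chB_n0_66 (j : ℕ) : ℕ := (Bool.rec (motive := fun _ => ℕ) (Bool.rec (motive := fun _ => ℕ) (Bool.rec (motive := fun _ => ℕ) cB_528 cB_529 (Nat.ble 529 j)) (Bool.rec (motive := fun _ => ℕ) cB_530 cB_531 (Nat.ble 531 j)) (Nat.ble 530 j)) (Bool.rec (motive := fun _ => ℕ) (Bool.rec (motive := fun _ => ℕ) cB_532 cB_533 (Nat.ble 533 j)) (Bool.rec (motive := fun _ => ℕ) cB_534 cB_535 (Nat.ble 535 j)) (Nat.ble 534 j)) (Nat.ble 532 j))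
noncomputable def chB_n0_67 (j : ℕ) : ℕ := (Bool.rec (motive := fun _ => ℕ) (Bool.rec (motive := fun _ => ℕ) (Bool.rec (motive := fun _ => ℕ) cB_536 cB_537 (Nat.ble 537 j)) (Bool.rec (motive := fun _ => ℕ) cB_538 cB_539 (Nat.ble 539 j)) (Nat.ble 538 j)) (Bool.rec (motive := fun _ => ℕ) (Bool.rec (motive := fun _ => ℕ) cB_540 cB_541 (Nat.ble 541 j)) (Bool.rec (motive := fun _ => ℕ) cB_542 cB_543 (Nat.ble 543 j)) (Nat.ble 542 j)) (Nat.ble 540 j))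
noncomputable def chB_n0_68 (j : ℕ) : ℕ := (Bool.rec (motive := fun _ => ℕ) (Bool.rec (motive := fun _ => ℕ) (Bool.rec (motive := fun _ => ℕ) cB_544 cB_545 (Nat.ble 545 j)) (Bool.rec (motive := fun _ => ℕ) cB_546 cB_547 (Nat.ble 547 j)) (Nat.ble 546 j)) (Bool.rec (motive := fun _ => ℕ) (Bool.rec (motive := fun _ => ℕ) cB_548 cB_549 (Nat.ble 549 j)) (Bool.rec (motive := fun _ => ℕ) cB_550 cB_551 (Nat.ble 551 j)) (Nat.ble 550 j)) (Nat.ble 548 j))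
noncomputable def chB_n0_69 (j : ℕ) : ℕ := (Bool.rec (motive := fun _ => ℕ) (Bool.rec (motive := fun _ => ℕ) (Bool.rec (motive := fun _ => ℕ) cB_552 cB_553 (Nat.ble 553 j)) (Bool.rec (motive := fun _ => ℕ) cB_554 cB_555 (Nat.ble 555 j)) (Nat.ble 554 j)) (Bool.rec (motive := fun _ => ℕ) (Bool.rec (motive := fun _ => ℕ) cB_556 cB_557 (Nat.ble 557 j)) (Bool.rec (motive := fun _ => ℕ) cB_558 cB_559 (Nat.ble 559 j)) (Nat.ble 558 j)) (Nat.ble 556 j))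
noncomputable def chB_n0_70 (j : ℕ) : ℕ := (Bool.rec (motive := fun _ => ℕ) (Bool.rec (motive := fun _ => ℕ) (Bool.rec (motive := fun _ => ℕ) cB_560 cB_561 (Nat.ble 561 j)) (Bool.rec (motive := fun _ => ℕ) cB_562 cB_563 (Nat.ble 563 j)) (Nat.ble 562 j)) (Bool.rec (motive := fun _ => ℕ) (Bool.rec (motive := fun _ => ℕ) cB_564 cB_565 (Nat.ble 565 j)) (Bool.rec (motive := fun _ => ℕ) cB_566 cB_567 (Nat.ble 567 j)) (Nat.ble 566 j)) (Nat.ble 564 j))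
noncomputable def chB_n0_71 (j : ℕ) : ℕ := (Bool.rec (motive := fun _ => ℕ) (Bool.rec (motive := fun _ => ℕ) (Bool.rec (motive := fun _ => ℕ) cB_568 cB_569 (Nat.ble 569 j)) (Bool.rec (motive := fun _ => ℕ) cB_570 cB_571 (Nat.ble 571 j)) (Nat.ble 570 j)) (Bool.rec (motive := fun _ => ℕ) (Bool.rec (motive := fun _ => ℕ) cB_572 cB_573 (Nat.ble 573 j)) (Bool.rec (motive := fun _ => ℕ) cB_574 cB_575 (Nat.ble 575 j)) (Nat.ble 574 j)) (Nat.ble 572 j))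
noncomputable def chB_n0_72 (j : ℕ) : ℕ := (Bool.rec (motive := fun _ => ℕ) (Bool.rec (motive := fun _ => ℕ) (Bool.rec (motive := fun _ => ℕ) cB_576 cB_577 (Nat.ble 577 j)) (Bool.rec (motive := fun _ => ℕ) cB_578 cB_579 (Nat.ble 579 j)) (Nat.ble 578 j)) (Bool.rec (motive := fun _ => ℕ) (Bool.rec (motive := fun _ => ℕ) cB_580 cB_581 (Nat.ble 581 j)) (Bool.rec (motive := fun _ => ℕ) cB_582 cB_583 (Nat.ble 583 j)) (Nat.ble 582 j)) (Nat.ble 580 j))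
noncomputable def chB_n0_73 (j : ℕ) : ℕ := (Bool.rec (motive := fun _ => ℕ) (Bool.rec (motive := fun _ => ℕ) (Bool.rec (motive := fun _ => ℕ) cB_584 cB_585 (Nat.ble 585 j)) (Bool.rec (motive := fun _ => ℕ) cB_586 cB_587 (Nat.ble 587 j)) (Nat.ble 586 j)) (Bool.rec (motive := fun _ => ℕ) (Bool.rec (motive := fun _ => ℕ) cB_588 cB_589 (Nat.ble 589 j)) (Bool.rec (motive := fun _ => ℕ) cB_590 cB_591 (Nat.ble 591 j)) (Nat.ble 590 j)) (Nat.ble 588 j))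
noncomputable def chB_n0_74 (j : ℕ) : ℕ := (Bool.rec (motive := fun _ => ℕ) (Bool.rec (motive := fun _ => ℕ) (Bool.rec (motive := fun _ => ℕ) cB_592 cB_593 (Nat.ble 593 j)) (Bool.rec (motive := fun _ => ℕ) cB_594 cB_595 (Nat.ble 595 j)) (Nat.ble 594 j)) (Bool.rec (motive := fun _ => ℕ) (Bool.rec (motive := fun _ => ℕ) cB_596 cB_597 (Nat.ble 597 j)) (Bool.rec (motive := fun _ => ℕ) cB_598 cB_599 (Nat.ble 599 j)) (Nat.ble 598 j)) (Nat.ble 596 j))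
noncomputable def chB_n0_75 (j : ℕ) : ℕ := (Bool.rec (motive := fun _ => ℕ) (Bool.rec (motive := fun _ => ℕ) (Bool.rec (motive := fun _ => ℕ) cB_600 cB_601 (Nat.ble 601 j)) (Bool.rec (motive := fun _ => ℕ) cB_602 cB_603 (Nat.ble 603 j)) (Nat.ble 602 j)) (Bool.rec (motive := fun _ => ℕ) (Bool.rec (motive := fun _ => ℕ) cB_604 cB_605 (Nat.ble 605 j)) (Bool.rec (motive := fun _ => ℕ) cB_606 cB_607 (Nat.ble 607 j)) (Nat.ble 606 j)) (Nat.ble 604 j))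
noncomputable def chB_n0_76 (j : ℕ) : ℕ := (Bool.rec (motive := fun _ => ℕ) (Bool.rec (motive := fun _ => ℕ) (Bool.rec (motive := fun _ => ℕ) cB_608 cB_609 (Nat.ble 609 j)) (Bool.rec (motive := fun _ => ℕ) cB_610 cB_611 (Nat.ble 611 j)) (Nat.ble 610 j)) (Bool.rec (motive := fun _ => ℕ) (Bool.rec (motive := fun _ => ℕ) cB_612 cB_613 (Nat.ble 613 j)) (Bool.rec (motive := fun _ => ℕ) cB_614 cB_615 (Nat.ble 615 j)) (Nat.ble 614 j)) (Nat.ble 612 j))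
noncomputable def chB_n0_77 (j : ℕ) : ℕ := (Bool.rec (motive := fun _ => ℕ) (Bool.rec (motive := fun _ => ℕ) (Bool.rec (motive := fun _ => ℕ) cB_616 cB_617 (Nat.ble 617 j)) (Bool.rec (motive := fun _ => ℕ) cB_618 cB_619 (Nat.ble 619 j)) (Nat.ble 618 j)) (Bool.rec (motive := fun _ => ℕ) (Bool.rec (motive := fun _ => ℕ) cB_620 cB_621 (Nat.ble 621 j)) (Bool.rec (motive := fun _ => ℕ) cB_622 cB_623 (Nat.ble 623 j)) (Nat.ble 622 j)) (Nat.ble 620 j))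
noncomputable def chB_n0_78 (j : ℕ) : ℕ := (Bool.rec (motive := fun _ => ℕ) (Bool.rec (motive := fun _ => ℕ) (Bool.rec (motive := fun _ => ℕ) cB_624 cB_625 (Nat.ble 625 j)) (Bool.rec (motive := fun _ => ℕ) cB_626 cB_627 (Nat.ble 627 j)) (Nat.ble 626 j)) (Bool.rec (motive := fun _ => ℕ) (Bool.rec (motive := fun _ => ℕ) cB_628 cB_629 (Nat.ble 629 j)) (Bool.rec (motive := fun _ => ℕ) cB_630 cB_631 (Nat.ble 631 j)) (Nat.ble 630 j)) (Nat.ble 628 j))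
noncomputable def chB_n0_79 (j : ℕ) : ℕ := (Bool.rec (motive := fun _ => ℕ) (Bool.rec (motive := fun _ => ℕ) (Bool.rec (motive := fun _ => ℕ) cB_632 cB_633 (Nat.ble 633 j)) (Bool.rec (motive := fun _ => ℕ) cB_634 cB_635 (Nat.ble 635 j)) (Nat.ble 634 j)) (Bool.rec (motive := fun _ => ℕ) (Bool.rec (motive := fun _ => ℕ) cB_636 cB_637 (Nat.ble 637 j)) (Bool.rec (motive := fun _ => ℕ) cB_638 cB_639 (Nat.ble 639 j)) (Nat.ble 638 j)) (Nat.ble 636 j))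
noncomputable def chB_n0_80 (j : ℕ) : ℕ := (Bool.rec (motive := fun _ => ℕ) (Bool.rec (motive := fun _ => ℕ) (Bool.rec (motive := fun _ => ℕ) cB_640 cB_641 (Nat.ble 641 j)) (Bool.rec (motive := fun _ => ℕ) cB_642 cB_643 (Nat.ble 643 j)) (Nat.ble 642 j)) (Bool.rec (motive := fun _ => ℕ) (Bool.rec (motive := fun _ => ℕ) cB_644 cB_645 (Nat.ble 645 j)) (Bool.rec (motive := fun _ => ℕ) cB_646 cB_647 (Nat.ble 647 j)) (Nat.ble 646 j)) (Nat.ble 644 j))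
noncomputable def chB_n0_81 (j : ℕ) : ℕ := (Bool.rec (motive := fun _ => ℕ) (Bool.rec (motive := fun _ => ℕ) (Bool.rec (motive := fun _ => ℕ) cB_648 cB_649 (Nat.ble 649 j)) (Bool.rec (motive := fun _ => ℕ) cB_650 cB_651 (Nat.ble 651 j)) (Nat.ble 650 j)) (Bool.rec (motive := fun _ => ℕ) (Bool.rec (motive := fun _ => ℕ) cB_652 cB_653 (Nat.ble 653 j)) (Bool.rec (motive := fun _ => ℕ) cB_654 cB_655 (Nat.ble 655 j)) (Nat.ble 654 j)) (Nat.ble 652 j))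
noncomputable def chB_n0_82 (j : ℕ) : ℕ := (Bool.rec (motive := fun _ => ℕ) (Bool.rec (motive := fun _ => ℕ) (Bool.rec (motive := fun _ => ℕ) cB_656 cB_657 (Nat.ble 657 j)) (Bool.rec (motive := fun _ => ℕ) cB_658 cB_659 (Nat.ble 659 j)) (Nat.ble 658 j)) (Bool.rec (motive := fun _ => ℕ) (Bool.rec (motive := fun _ => ℕ) cB_660 cB_661 (Nat.ble 661 j)) (Bool.rec (motive := fun _ => ℕ) cB_662 cB_663 (Nat.ble 663 j)) (Nat.ble 662 j)) (Nat.ble 660 j))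
noncomputable def chB_n0_83 (j : ℕ) : ℕ := (Bool.rec (motive := fun _ => ℕ) (Bool.rec (motive := fun _ => ℕ) (Bool.rec (motive := fun _ => ℕ) cB_664 cB_665 (Nat.ble 665 j)) (Bool.rec (motive := fun _ => ℕ) cB_666 cB_667 (Nat.ble 667 j)) (Nat.ble 666 j)) (Bool.rec (motive := fun _ => ℕ) (Bool.rec (motive := fun _ => ℕ) cB_668 cB_669 (Nat.ble 669 j)) (Bool.rec (motive := fun _ => ℕ) cB_670 cB_671 (Nat.ble 671 j)) (Nat.ble 670 j)) (Nat.ble 668 j))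
noncomputable def chB_n0_84 (j : ℕ) : ℕ := (Bool.rec (motive := fun _ => ℕ) (Bool.rec (motive := fun _ => ℕ) (Bool.rec (motive := fun _ => ℕ) cB_672 cB_673 (Nat.ble 673 j)) (Bool.rec (motive := fun _ => ℕ) cB_674 cB_675 (Nat.ble 675 j)) (Nat.ble 674 j)) (Bool.rec (motive := fun _ => ℕ) (Bool.rec (motive := fun _ => ℕ) cB_676 cB_677 (Nat.ble 677 j)) (Bool.rec (motive := fun _ => ℕ) cB_678 cB_679 (Nat.ble 679 j)) (Nat.ble 678 j)) (Nat.ble 676 j))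
noncomputable def chB_n0_85 (j : ℕ) : ℕ := (Bool.rec (motive := fun _ => ℕ) (Bool.rec (motive := fun _ => ℕ) (Bool.rec (motive := fun _ => ℕ) cB_680 cB_681 (Nat.ble 681 j)) (Bool.rec (motive := fun _ => ℕ) cB_682 cB_683 (Nat.ble 683 j)) (Nat.ble 682 j)) (Bool.rec (motive := fun _ => ℕ) (Bool.rec (motive := fun _ => ℕ) cB_684 cB_685 (Nat.ble 685 j)) (Bool.rec (motive := fun _ => ℕ) cB_686 cB_687 (Nat.ble 687 j)) (Nat.ble 686 j)) (Nat.ble 684 j))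
noncomputable def chB_n0_86 (j : ℕ) : ℕ := (Bool.rec (motive := fun _ => ℕ) (Bool.rec (motive := fun _ => ℕ) (Bool.rec (motive := fun _ => ℕ) cB_688 cB_689 (Nat.ble 689 j)) (Bool.rec (motive := fun _ => ℕ) cB_690 cB_691 (Nat.ble 691 j)) (Nat.ble 690 j)) (Bool.rec (motive := fun _ => ℕ) (Bool.rec (motive := fun _ => ℕ) cB_692 cB_693 (Nat.ble 693 j)) (Bool.rec (motive := fun _ => ℕ) cB_694 cB_695 (Nat.ble 695 j)) (Nat.ble 694 j)) (Nat.ble 692 j))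
noncomputable def chB_n0_87 (j : ℕ) : ℕ := (Bool.rec (motive := fun _ => ℕ) (Bool.rec (motive := fun _ => ℕ) (Bool.rec (motive := fun _ => ℕ) cB_696 cB_697 (Nat.ble 697 j)) (Bool.rec (motive := fun _ => ℕ) cB_698 cB_699 (Nat.ble 699 j)) (Nat.ble 698 j)) (Bool.rec (motive := fun _ => ℕ) (Bool.rec (motive := fun _ => ℕ) cB_700 cB_701 (Nat.ble 701 j)) (Bool.rec (motive := fun _ => ℕ) cB_702 cB_703 (Nat.ble 703 j)) (Nat.ble 702 j)) (Nat.ble 700 j))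
noncomputable def chB_n0_88 (j : ℕ) : ℕ := (Bool.rec (motive := fun _ => ℕ) (Bool.rec (motive := fun _ => ℕ) (Bool.rec (motive := fun _ => ℕ) cB_704 cB_705 (Nat.ble 705 j)) (Bool.rec (motive := fun _ => ℕ) cB_706 cB_707 (Nat.ble 707 j)) (Nat.ble 706 j)) (Bool.rec (motive := fun _ => ℕ) (Bool.rec (motive := fun _ => ℕ) cB_708 cB_709 (Nat.ble 709 j)) (Bool.rec (motive := fun _ => ℕ) cB_710 cB_711 (Nat.ble 711 j)) (Nat.ble 710 j)) (Nat.ble 708 j))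
noncomputable def chB_n0_89 (j : ℕ) : ℕ := (Bool.rec (motive := fun _ => ℕ) (Bool.rec (motive := fun _ => ℕ) (Bool.rec (motive := fun _ => ℕ) cB_712 cB_713 (Nat.ble 713 j)) (Bool.rec (motive := fun _ => ℕ) cB_714 cB_715 (Nat.ble 715 j)) (Nat.ble 714 j)) (Bool.rec (motive := fun _ => ℕ) (Bool.rec (motive := fun _ => ℕ) cB_716 cB_717 (Nat.ble 717 j)) (Bool.rec (motive := fun _ => ℕ) cB_718 cB_719 (Nat.ble 719 j)) (Nat.ble 718 j)) (Nat.ble 716 j))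
noncomputable def chB_n0_90 (j : ℕ) : ℕ := (Bool.rec (motive := fun _ => ℕ) (Bool.rec (motive := fun _ => ℕ) (Bool.rec (motive := fun _ => ℕ) cB_720 cB_721 (Nat.ble 721 j)) (Bool.rec (motive := fun _ => ℕ) cB_722 cB_723 (Nat.ble 723 j)) (Nat.ble 722 j)) (Bool.rec (motive := fun _ => ℕ) (Bool.rec (motive := fun _ => ℕ) cB_724 cB_725 (Nat.ble 725 j)) (Bool.rec (motive := fun _ => ℕ) cB_726 cB_727 (Nat.ble 727 j)) (Nat.ble 726 j)) (Nat.ble 724 j))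
noncomputable def chB_n0_91 (j : ℕ) : ℕ := (Bool.rec (motive := fun _ => ℕ) (Bool.rec (motive := fun _ => ℕ) (Bool.rec (motive := fun _ => ℕ) cB_728 cB_729 (Nat.ble 729 j)) (Bool.rec (motive := fun _ => ℕ) cB_730 cB_731 (Nat.ble 731 j)) (Nat.ble 730 j)) (Bool.rec (motive := fun _ => ℕ) (Bool.rec (motive := fun _ => ℕ) cB_732 cB_733 (Nat.ble 733 j)) (Bool.rec (motive := fun _ => ℕ) cB_734 cB_735 (Nat.ble 735 j)) (Nat.ble 734 j)) (Nat.ble 732 j))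
noncomputable def chB_n0_92 (j : ℕ) : ℕ := (Bool.rec (motive := fun _ => ℕ) (Bool.rec (motive := fun _ => ℕ) (Bool.rec (motive := fun _ => ℕ) cB_736 cB_737 (Nat.ble 737 j)) (Bool.rec (motive := fun _ => ℕ) cB_738 cB_739 (Nat.ble 739 j)) (Nat.ble 738 j)) (Bool.rec (motive := fun _ => ℕ) (Bool.rec (motive := fun _ => ℕ) cB_740 cB_741 (Nat.ble 741 j)) (Bool.rec (motive := fun _ => ℕ) cB_742 cB_743 (Nat.ble 743 j)) (Nat.ble 742 j)) (Nat.ble 740 j))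
noncomputable def chB_n0_93 (j : ℕ) : ℕ := (Bool.rec (motive := fun _ => ℕ) (Bool.rec (motive := fun _ => ℕ) (Bool.rec (motive := fun _ => ℕ) cB_744 cB_745 (Nat.ble 745 j)) (Bool.rec (motive := fun _ => ℕ) cB_746 cB_747 (Nat.ble 747 j)) (Nat.ble 746 j)) (Bool.rec (motive := fun _ => ℕ) (Bool.rec (motive := fun _ => ℕ) cB_748 cB_749 (Nat.ble 749 j)) (Bool.rec (motive := fun _ => ℕ) cB_750 cB_751 (Nat.ble 751 j)) (Nat.ble 750 j)) (Nat.ble 748 j))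
noncomputable def chB_n0_94 (j : ℕ) : ℕ := (Bool.rec (motive := fun _ => ℕ) (Bool.rec (motive := fun _ => ℕ) (Bool.rec (motive := fun _ => ℕ) cB_752 cB_753 (Nat.ble 753 j)) (Bool.rec (motive := fun _ => ℕ) cB_754 cB_755 (Nat.ble 755 j)) (Nat.ble 754 j)) (Bool.rec (motive := fun _ => ℕ) (Bool.rec (motive := fun _ => ℕ) cB_756 cB_757 (Nat.ble 757 j)) (Bool.rec (motive := fun _ => ℕ) cB_758 cB_759 (Nat.ble 759 j)) (Nat.ble 758 j)) (Nat.ble 756 j))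
noncomputable def chB_n0_95 (j : ℕ) : ℕ := (Bool.rec (motive := fun _ => ℕ) (Bool.rec (motive := fun _ => ℕ) (Bool.rec (motive := fun _ => ℕ) cB_760 cB_761 (Nat.ble 761 j)) (Bool.rec (motive := fun _ => ℕ) cB_762 cB_763 (Nat.ble 763 j)) (Nat.ble 762 j)) (Bool.rec (motive := fun _ => ℕ) (Bool.rec (motive := fun _ => ℕ) cB_764 cB_765 (Nat.ble 765 j)) (Bool.rec (motive := fun _ => ℕ) cB_766 cB_767 (Nat.ble 767 j)) (Nat.ble 766 j)) (Nat.ble 764 j))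
noncomputable def chB_n0_96 (j : ℕ) : ℕ := (Bool.rec (motive := fun _ => ℕ) (Bool.rec (motive := fun _ => ℕ) (Bool.rec (motive := fun _ => ℕ) cB_768 cB_769 (Nat.ble 769 j)) (Bool.rec (motive := fun _ => ℕ) cB_770 cB_771 (Nat.ble 771 j)) (Nat.ble 770 j)) (Bool.rec (motive := fun _ => ℕ) (Bool.rec (motive := fun _ => ℕ) cB_772 cB_773 (Nat.ble 773 j)) (Bool.rec (motive := fun _ => ℕ) cB_774 cB_775 (Nat.ble 775 j)) (Nat.ble 774 j)) (Nat.ble 772 j))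
noncomputable def chB_n0_97 (j : ℕ) : ℕ := (Bool.rec (motive := fun _ => ℕ) (Bool.rec (motive := fun _ => ℕ) (Bool.rec (motive := fun _ => ℕ) cB_776 cB_777 (Nat.ble 777 j)) (Bool.rec (motive := fun _ => ℕ) cB_778 cB_779 (Nat.ble 779 j)) (Nat.ble 778 j)) (Bool.rec (motive := fun _ => ℕ) (Bool.rec (motive := fun _ => ℕ) cB_780 cB_781 (Nat.ble 781 j)) (Bool.rec (motive := fun _ => ℕ) cB_782 cB_783 (Nat.ble 783 j)) (Nat.ble 782 j)) (Nat.ble 780 j))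
noncomputable def chB_n0_98 (j : ℕ) : ℕ := (Bool.rec (motive := fun _ => ℕ) (Bool.rec (motive := fun _ => ℕ) (Bool.rec (motive := fun _ => ℕ) cB_784 cB_785 (Nat.ble 785 j)) (Bool.rec (motive := fun _ => ℕ) cB_786 cB_787 (Nat.ble 787 j)) (Nat.ble 786 j)) (Bool.rec (motive := fun _ => ℕ) (Bool.rec (motive := fun _ => ℕ) cB_788 cB_789 (Nat.ble 789 j)) (Bool.rec (motive := fun _ => ℕ) cB_790 cB_791 (Nat.ble 791 j)) (Nat.ble 790 j)) (Nat.ble 788 j))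
noncomputable def chB_n0_99 (j : ℕ) : ℕ := (Bool.rec (motive := fun _ => ℕ) (Bool.rec (motive := fun _ => ℕ) (Bool.rec (motive := fun _ => ℕ) cB_792 cB_793 (Nat.ble 793 j)) (Bool.rec (motive := fun _ => ℕ) cB_794 cB_795 (Nat.ble 795 j)) (Nat.ble 794 j)) (Bool.rec (motive := fun _ => ℕ) (Bool.rec (motive := fun _ => ℕ) cB_796 cB_797 (Nat.ble 797 j)) (Bool.rec (motive := fun _ => ℕ) cB_798 cB_799 (Nat.ble 799 j)) (Nat.ble 798 j)) (Nat.ble 796 j))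
noncomputable def chB_n0_100 (j : ℕ) : ℕ := (Bool.rec (motive := fun _ => ℕ) (Bool.rec (motive := fun _ => ℕ) (Bool.rec (motive := fun _ => ℕ) cB_800 cB_801 (Nat.ble 801 j)) (Bool.rec (motive := fun _ => ℕ) cB_802 cB_803 (Nat.ble 803 j)) (Nat.ble 802 j)) (Bool.rec (motive := fun _ => ℕ) (Bool.rec (motive := fun _ => ℕ) cB_804 cB_805 (Nat.ble 805 j)) (Bool.rec (motive := fun _ => ℕ) cB_806 cB_807 (Nat.ble 807 j)) (Nat.ble 806 j)) (Nat.ble 804 j))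
noncomputable def chB_n0_101 (j : ℕ) : ℕ := (Bool.rec (motive := fun _ => ℕ) (Bool.rec (motive := fun _ => ℕ) (Bool.rec (motive := fun _ => ℕ) cB_808 cB_809 (Nat.ble 809 j)) (Bool.rec (motive := fun _ => ℕ) cB_810 cB_811 (Nat.ble 811 j)) (Nat.ble 810 j)) (Bool.rec (motive := fun _ => ℕ) (Bool.rec (motive := fun _ => ℕ) cB_812 cB_813 (Nat.ble 813 j)) (Bool.rec (motive := fun _ => ℕ) cB_814 cB_815 (Nat.ble 815 j)) (Nat.ble 814 j)) (Nat.ble 812 j))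
noncomputable def chB_n0_102 (j : ℕ) : ℕ := (Bool.rec (motive := fun _ => ℕ) (Bool.rec (motive := fun _ => ℕ) (Bool.rec (motive := fun _ => ℕ) cB_816 cB_817 (Nat.ble 817 j)) (Bool.rec (motive := fun _ => ℕ) cB_818 cB_819 (Nat.ble 819 j)) (Nat.ble 818 j)) (Bool.rec (motive := fun _ => ℕ) (Bool.rec (motive := fun _ => ℕ) cB_820 cB_821 (Nat.ble 821 j)) (Bool.rec (motive := fun _ => ℕ) cB_822 cB_823 (Nat.ble 823 j)) (Nat.ble 822 j)) (Nat.ble 820 j))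
noncomputable def chB_n0_103 (j : ℕ) : ℕ := (Bool.rec (motive := fun _ => ℕ) (Bool.rec (motive := fun _ => ℕ) (Bool.rec (motive := fun _ => ℕ) cB_824 cB_825 (Nat.ble 825 j)) (Bool.rec (motive := fun _ => ℕ) cB_826 cB_827 (Nat.ble 827 j)) (Nat.ble 826 j)) (Bool.rec (motive := fun _ => ℕ) (Bool.rec (motive := fun _ => ℕ) cB_828 cB_829 (Nat.ble 829 j)) (Bool.rec (motive := fun _ => ℕ) cB_830 cB_831 (Nat.ble 831 j)) (Nat.ble 830 j)) (Nat.ble 828 j))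
noncomputable def chB_n0_104 (j : ℕ) : ℕ := (Bool.rec (motive := fun _ => ℕ) (Bool.rec (motive := fun _ => ℕ) (Bool.rec (motive := fun _ => ℕ) cB_832 cB_833 (Nat.ble 833 j)) (Bool.rec (motive := fun _ => ℕ) cB_834 cB_835 (Nat.ble 835 j)) (Nat.ble 834 j)) (Bool.rec (motive := fun _ => ℕ) (Bool.rec (motive := fun _ => ℕ) cB_836 cB_837 (Nat.ble 837 j)) (Bool.rec (motive := fun _ => ℕ) cB_838 cB_839 (Nat.ble 839 j)) (Nat.ble 838 j)) (Nat.ble 836 j))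
noncomputable def chB_n0_105 (j : ℕ) : ℕ := (Bool.rec (motive := fun _ => ℕ) (Bool.rec (motive := fun _ => ℕ) (Bool.rec (motive := fun _ => ℕ) cB_840 cB_841 (Nat.ble 841 j)) (Bool.rec (motive := fun _ => ℕ) cB_842 cB_843 (Nat.ble 843 j)) (Nat.ble 842 j)) (Bool.rec (motive := fun _ => ℕ) (Bool.rec (motive := fun _ => ℕ) cB_844 cB_845 (Nat.ble 845 j)) (Bool.rec (motive := fun _ => ℕ) cB_846 cB_847 (Nat.ble 847 j)) (Nat.ble 846 j)) (Nat.ble 844 j))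
noncomputable def chB_n0_106 (j : ℕ) : ℕ := (Bool.rec (motive := fun _ => ℕ) (Bool.rec (motive := fun _ => ℕ) (Bool.rec (motive := fun _ => ℕ) cB_848 cB_849 (Nat.ble 849 j)) (Bool.rec (motive := fun _ => ℕ) cB_850 cB_851 (Nat.ble 851 j)) (Nat.ble 850 j)) (Bool.rec (motive := fun _ => ℕ) (Bool.rec (motive := fun _ => ℕ) cB_852 cB_853 (Nat.ble 853 j)) (Bool.rec (motive := fun _ => ℕ) cB_854 cB_855 (Nat.ble 855 j)) (Nat.ble 854 j)) (Nat.ble 852 j))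
noncomputable def chB_n0_107 (j : ℕ) : ℕ := (Bool.rec (motive := fun _ => ℕ) (Bool.rec (motive := fun _ => ℕ) (Bool.rec (motive := fun _ => ℕ) cB_856 cB_857 (Nat.ble 857 j)) (Bool.rec (motive := fun _ => ℕ) cB_858 cB_859 (Nat.ble 859 j)) (Nat.ble 858 j)) (Bool.rec (motive := fun _ => ℕ) (Bool.rec (motive := fun _ => ℕ) cB_860 cB_861 (Nat.ble 861 j)) (Bool.rec (motive := fun _ => ℕ) cB_862 cB_863 (Nat.ble 863 j)) (Nat.ble 862 j)) (Nat.ble 860 j))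
noncomputable def chB_n0_108 (j : ℕ) : ℕ := (Bool.rec (motive := fun _ => ℕ) (Bool.rec (motive := fun _ => ℕ) (Bool.rec (motive := fun _ => ℕ) cB_864 cB_865 (Nat.ble 865 j)) (Bool.rec (motive := fun _ => ℕ) cB_866 cB_867 (Nat.ble 867 j)) (Nat.ble 866 j)) (Bool.rec (motive := fun _ => ℕ) (Bool.rec (motive := fun _ => ℕ) cB_868 cB_869 (Nat.ble 869 j)) (Bool.rec (motive := fun _ => ℕ) cB_870 cB_871 (Nat.ble 871 j)) (Nat.ble 870 j)) (Nat.ble 868 j))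
noncomputable def chB_n0_109 (j : ℕ) : ℕ := (Bool.rec (motive := fun _ => ℕ) (Bool.rec (motive := fun _ => ℕ) (Bool.rec (motive := fun _ => ℕ) cB_872 cB_873 (Nat.ble 873 j)) (Bool.rec (motive := fun _ => ℕ) cB_874 cB_875 (Nat.ble 875 j)) (Nat.ble 874 j)) (Bool.rec (motive := fun _ => ℕ) (Bool.rec (motive := fun _ => ℕ) cB_876 cB_877 (Nat.ble 877 j)) (Bool.rec (motive := fun _ => ℕ) cB_878 cB_879 (Nat.ble 879 j)) (Nat.ble 878 j)) (Nat.ble 876 j))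
noncomputable def chB_n0_110 (j : ℕ) : ℕ := (Bool.rec (motive := fun _ => ℕ) (Bool.rec (motive := fun _ => ℕ) (Bool.rec (motive := fun _ => ℕ) cB_880 cB_881 (Nat.ble 881 j)) (Bool.rec (motive := fun _ => ℕ) cB_882 cB_883 (Nat.ble 883 j)) (Nat.ble 882 j)) (Bool.rec (motive := fun _ => ℕ) (Bool.rec (motive := fun _ => ℕ) cB_884 cB_885 (Nat.ble 885 j)) (Bool.rec (motive := fun _ => ℕ) cB_886 cB_887 (Nat.ble 887 j)) (Nat.ble 886 j)) (Nat.ble 884 j))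
noncomputable def chB_n0_111 (j : ℕ) : ℕ := (Bool.rec (motive := fun _ => ℕ) (Bool.rec (motive := fun _ => ℕ) (Bool.rec (motive := fun _ => ℕ) cB_888 cB_889 (Nat.ble 889 j)) (Bool.rec (motive := fun _ => ℕ) cB_890 cB_891 (Nat.ble 891 j)) (Nat.ble 890 j)) (Bool.rec (motive := fun _ => ℕ) (Bool.rec (motive := fun _ => ℕ) cB_892 cB_893 (Nat.ble 893 j)) (Bool.rec (motive := fun _ => ℕ) cB_894 cB_895 (Nat.ble 895 j)) (Nat.ble 894 j)) (Nat.ble 892 j))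
noncomputable def chB_n0_112 (j : ℕ) : ℕ := (Bool.rec (motive := fun _ => ℕ) (Bool.rec (motive := fun _ => ℕ) (Bool.rec (motive := fun _ => ℕ) cB_896 cB_897 (Nat.ble 897 j)) (Bool.rec (motive := fun _ => ℕ) cB_898 cB_899 (Nat.ble 899 j)) (Nat.ble 898 j)) (Bool.rec (motive := fun _ => ℕ) (Bool.rec (motive := fun _ => ℕ) cB_900 cB_901 (Nat.ble 901 j)) (Bool.rec (motive := fun _ => ℕ) cB_902 cB_903 (Nat.ble 903 j)) (Nat.ble 902 j)) (Nat.ble 900 j))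
noncomputable def chB_n0_113 (j : ℕ) : ℕ := (Bool.rec (motive := fun _ => ℕ) (Bool.rec (motive := fun _ => ℕ) (Bool.rec (motive := fun _ => ℕ) cB_904 cB_905 (Nat.ble 905 j)) (Bool.rec (motive := fun _ => ℕ) cB_906 cB_907 (Nat.ble 907 j)) (Nat.ble 906 j)) (Bool.rec (motive := fun _ => ℕ) (Bool.rec (motive := fun _ => ℕ) cB_908 cB_909 (Nat.ble 909 j)) (Bool.rec (motive := fun _ => ℕ) cB_910 cB_911 (Nat.ble 911 j)) (Nat.ble 910 j)) (Nat.ble 908 j))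
noncomputable def chB_n0_114 (j : ℕ) : ℕ := (Bool.rec (motive := fun _ => ℕ) (Bool.rec (motive := fun _ => ℕ) (Bool.rec (motive := fun _ => ℕ) cB_912 cB_913 (Nat.ble 913 j)) (Bool.rec (motive := fun _ => ℕ) cB_914 cB_915 (Nat.ble 915 j)) (Nat.ble 914 j)) (Bool.rec (motive := fun _ => ℕ) (Bool.rec (motive := fun _ => ℕ) cB_916 cB_917 (Nat.ble 917 j)) (Bool.rec (motive := fun _ => ℕ) cB_918 cB_919 (Nat.ble 919 j)) (Nat.ble 918 j)) (Nat.ble 916 j))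
noncomputable def chB_n1_0 (j : ℕ) : ℕ := (Bool.rec (motive := fun _ => ℕ) (Bool.rec (motive := fun _ => ℕ) (Bool.rec (motive := fun _ => ℕ) (chB_n0_0 j) (chB_n0_1 j) (Nat.ble 8 j)) (Bool.rec (motive := fun _ => ℕ) (chB_n0_2 j) (chB_n0_3 j) (Nat.ble 24 j)) (Nat.ble 16 j)) (Bool.rec (motive := fun _ => ℕ) (Bool.rec (motive := fun _ => ℕ) (chB_n0_4 j) (chB_n0_5 j) (Nat.ble 40 j)) (Bool.rec (motive := fun _ => ℕ) (chB_n0_6 j) (chB_n0_7 j) (Nat.ble 56 j)) (Nat.ble 48 j)) (Nat.ble 32 j))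
noncomputable def chB_n1_1 (j : ℕ) : ℕ := (Bool.rec (motive := fun _ => ℕ) (Bool.rec (motive := fun _ => ℕ) (Bool.rec (motive := fun _ => ℕ) (chB_n0_8 j) (chB_n0_9 j) (Nat.ble 72 j)) (Bool.rec (motive := fun _ => ℕ) (chB_n0_10 j) (chB_n0_11 j) (Nat.ble 88 j)) (Nat.ble 80 j)) (Bool.rec (motive := fun _ => ℕ) (Bool.rec (motive := fun _ => ℕ) (chB_n0_12 j) (chB_n0_13 j) (Nat.ble 104 j)) (Bool.rec (motive := fun _ => ℕ) (chB_n0_14 j) (chB_n0_15 j) (Nat.ble 120 j)) (Nat.ble 112 j)) (Nat.ble 96 j))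
noncomputable def chB_n1_2 (j : ℕ) : ℕ := (Bool.rec (motive := fun _ => ℕ) (Bool.rec (motive := fun _ => ℕ) (Bool.rec (motive := fun _ => ℕ) (chB_n0_16 j) (chB_n0_17 j) (Nat.ble 136 j)) (Bool.rec (motive := fun _ => ℕ) (chB_n0_18 j) (chB_n0_19 j) (Nat.ble 152 j)) (Nat.ble 144 j)) (Bool.rec (motive := fun _ => ℕ) (Bool.rec (motive := fun _ => ℕ) (chB_n0_20 j) (chB_n0_21 j) (Nat.ble 168 j)) (Bool.rec (motive := fun _ => ℕ) (chB_n0_22 j) (chB_n0_23 j) (Nat.ble 184 j)) (Nat.ble 176 j)) (Nat.ble 160 j))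
noncomputable def chB_n1_3 (j : ℕ) : ℕ := (Bool.rec (motive := fun _ => ℕ) (Bool.rec (motive := fun _ => ℕ) (Bool.rec (motive := fun _ => ℕ) (chB_n0_24 j) (chB_n0_25 j) (Nat.ble 200 j)) (Bool.rec (motive := fun _ => ℕ) (chB_n0_26 j) (chB_n0_27 j) (Nat.ble 216 j)) (Nat.ble 208 j)) (Bool.rec (motive := fun _ => ℕ) (Bool.rec (motive := fun _ => ℕ) (chB_n0_28 j) (chB_n0_29 j) (Nat.ble 232 j)) (Bool.rec (motive := fun _ => ℕ) (chB_n0_30 j) (chB_n0_31 j) (Nat.ble 248 j)) (Nat.ble 240 j)) (Nat.ble 224 j))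
noncomputable def chB_n1_4 (j : ℕ) : ℕ := (Bool.rec (motive := fun _ => ℕ) (Bool.rec (motive := fun _ => ℕ) (Bool.rec (motive := fun _ => ℕ) (chB_n0_32 j) (chB_n0_33 j) (Nat.ble 264 j)) (Bool.rec (motive := fun _ => ℕ) (chB_n0_34 j) (chB_n0_35 j) (Nat.ble 280 j)) (Nat.ble 272 j)) (Bool.rec (motive := fun _ => ℕ) (Bool.rec (motive := fun _ => ℕ) (chB_n0_36 j) (chB_n0_37 j) (Nat.ble 296 j)) (Bool.rec (motive := fun _ => ℕ) (chB_n0_38 j) (chB_n0_39 j) (Nat.ble 312 j)) (Nat.ble 304 j)) (Nat.ble 288 j))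
noncomputable def chB_n1_5 (j : ℕ) : ℕ := (Bool.rec (motive := fun _ => ℕ) (Bool.rec (motive := fun _ => ℕ) (Bool.rec (motive := fun _ => ℕ) (chB_n0_40 j) (chB_n0_41 j) (Nat.ble 328 j)) (Bool.rec (motive := fun _ => ℕ) (chB_n0_42 j) (chB_n0_43 j) (Nat.ble 344 j)) (Nat.ble 336 j)) (Bool.rec (motive := fun _ => ℕ) (Bool.rec (motive := fun _ => ℕ) (chB_n0_44 j) (chB_n0_45 j) (Nat.ble 360 j)) (Bool.rec (motive := fun _ => ℕ) (chB_n0_46 j) (chB_n0_47 j) (Nat.ble 376 j)) (Nat.ble 368 j)) (Nat.ble 352 j))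
noncomputable def chB_n1_6 (j : ℕ) : ℕ := (Bool.rec (motive := fun _ => ℕ) (Bool.rec (motive := fun _ => ℕ) (Bool.rec (motive := fun _ => ℕ) (chB_n0_48 j) (chB_n0_49 j) (Nat.ble 392 j)) (Bool.rec (motive := fun _ => ℕ) (chB_n0_50 j) (chB_n0_51 j) (Nat.ble 408 j)) (Nat.ble 400 j)) (Bool.rec (motive := fun _ => ℕ) (Bool.rec (motive := fun _ => ℕ) (chB_n0_52 j) (chB_n0_53 j) (Nat.ble 424 j)) (Bool.rec (motive := fun _ => ℕ) (chB_n0_54 j) (chB_n0_55 j) (Nat.ble 440 j)) (Nat.ble 432 j)) (Nat.ble 416 j))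
noncomputable def chB_n1_7 (j : ℕ) : ℕ := (Bool.rec (motive := fun _ => ℕ) (Bool.rec (motive := fun _ => ℕ) (Bool.rec (motive := fun _ => ℕ) (chB_n0_56 j) (chB_n0_57 j) (Nat.ble 456 j)) (Bool.rec (motive := fun _ => ℕ) (chB_n0_58 j) (chB_n0_59 j) (Nat.ble 472 j)) (Nat.ble 464 j)) (Bool.rec (motive := fun _ => ℕ) (Bool.rec (motive := fun _ => ℕ) (chB_n0_60 j) (chB_n0_61 j) (Nat.ble 488 j)) (Bool.rec (motive := fun _ => ℕ) (chB_n0_62 j) (chB_n0_63 j) (Nat.ble 504 j)) (Nat.ble 496 j)) (Nat.ble 480 j))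
noncomputable def chB_n1_8 (j : ℕ) : ℕ := (Bool.rec (motive := fun _ => ℕ) (Bool.rec (motive := fun _ => ℕ) (Bool.rec (motive := fun _ => ℕ) (chB_n0_64 j) (chB_n0_65 j) (Nat.ble 520 j)) (Bool.rec (motive := fun _ => ℕ) (chB_n0_66 j) (chB_n0_67 j) (Nat.ble 536 j)) (Nat.ble 528 j)) (Bool.rec (motive := fun _ => ℕ) (Bool.rec (motive := fun _ => ℕ) (chB_n0_68 j) (chB_n0_69 j) (Nat.ble 552 j)) (Bool.rec (motive := fun _ => ℕ) (chB_n0_70 j) (chB_n0_71 j) (Nat.ble 568 j)) (Nat.ble 560 j)) (Nat.ble 544 j))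
noncomputable def chB_n1_9 (j : ℕ) : ℕ := (Bool.rec (motive := fun _ => ℕ) (Bool.rec (motive := fun _ => ℕ) (Bool.rec (motive := fun _ => ℕ) (chB_n0_72 j) (chB_n0_73 j) (Nat.ble 584 j)) (Bool.rec (motive := fun _ => ℕ) (chB_n0_74 j) (chB_n0_75 j) (Nat.ble 600 j)) (Nat.ble 592 j)) (Bool.rec (motive := fun _ => ℕ) (Bool.rec (motive := fun _ => ℕ) (chB_n0_76 j) (chB_n0_77 j) (Nat.ble 616 j)) (Bool.rec (motive := fun _ => ℕ) (chB_n0_78 j) (chB_n0_79 j) (Nat.ble 632 j)) (Nat.ble 624 j)) (Nat.ble 608 j))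
noncomputable def chB_n1_10 (j : ℕ) : ℕ := (Bool.rec (motive := fun _ => ℕ) (Bool.rec (motive := fun _ => ℕ) (Bool.rec (motive := fun _ => ℕ) (chB_n0_80 j) (chB_n0_81 j) (Nat.ble 648 j)) (Bool.rec (motive := fun _ => ℕ) (chB_n0_82 j) (chB_n0_83 j) (Nat.ble 664 j)) (Nat.ble 656 j)) (Bool.rec (motive := fun _ => ℕ) (Bool.rec (motive := fun _ => ℕ) (chB_n0_84 j) (chB_n0_85 j) (Nat.ble 680 j)) (Bool.rec (motive := fun _ => ℕ) (chB_n0_86 j) (chB_n0_87 j) (Nat.ble 696 j)) (Nat.ble 688 j)) (Nat.ble 672 j))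
noncomputable def chB_n1_11 (j : ℕ) : ℕ := (Bool.rec (motive := fun _ => ℕ) (Bool.rec (motive := fun _ => ℕ) (Bool.rec (motive := fun _ => ℕ) (chB_n0_88 j) (chB_n0_89 j) (Nat.ble 712 j)) (Bool.rec (motive := fun _ => ℕ) (chB_n0_90 j) (chB_n0_91 j) (Nat.ble 728 j)) (Nat.ble 720 j)) (Bool.rec (motive := fun _ => ℕ) (Bool.rec (motive := fun _ => ℕ) (chB_n0_92 j) (chB_n0_93 j) (Nat.ble 744 j)) (Bool.rec (motive := fun _ => ℕ) (chB_n0_94 j) (chB_n0_95 j) (Nat.ble 760 j)) (Nat.ble 752 j)) (Nat.ble 736 j))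
noncomputable def chB_n1_12 (j : ℕ) : ℕ := (Bool.rec (motive := fun _ => ℕ) (Bool.rec (motive := fun _ => ℕ) (Bool.rec (motive := fun _ => ℕ) (chB_n0_96 j) (chB_n0_97 j) (Nat.ble 776 j)) (Bool.rec (motive := fun _ => ℕ) (chB_n0_98 j) (chB_n0_99 j) (Nat.ble 792 j)) (Nat.ble 784 j)) (Bool.rec (motive := fun _ => ℕ) (Bool.rec (motive := fun _ => ℕ) (chB_n0_100 j) (chB_n0_101 j) (Nat.ble 808 j)) (Bool.rec (motive := fun _ => ℕ) (chB_n0_102 j) (chB_n0_103 j) (Nat.ble 824 j)) (Nat.ble 816 j)) (Nat.ble 800 j))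
noncomputable def chB_n1_13 (j : ℕ) : ℕ := (Bool.rec (motive := fun _ => ℕ) (Bool.rec (motive := fun _ => ℕ) (Bool.rec (motive := fun _ => ℕ) (chB_n0_104 j) (chB_n0_105 j) (Nat.ble 840 j)) (Bool.rec (motive := fun _ => ℕ) (chB_n0_106 j) (chB_n0_107 j) (Nat.ble 856 j)) (Nat.ble 848 j)) (Bool.rec (motive := fun _ => ℕ) (Bool.rec (motive := fun _ => ℕ) (chB_n0_108 j) (chB_n0_109 j) (Nat.ble 872 j)) (Bool.rec (motive := fun _ => ℕ) (chB_n0_110 j) (chB_n0_111 j) (Nat.ble 888 j)) (Nat.ble 880 j)) (Nat.ble 864 j))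
noncomputable def chB_n1_14 (j : ℕ) : ℕ := (Bool.rec (motive := fun _ => ℕ) (chB_n0_112 j) (Bool.rec (motive := fun _ => ℕ) (chB_n0_113 j) (chB_n0_114 j) (Nat.ble 912 j)) (Nat.ble 904 j))
noncomputable def chB_n2_0 (j : ℕ) : ℕ := (Bool.rec (motive := fun _ => ℕ) (Bool.rec (motive := fun _ => ℕ) (Bool.rec (motive := fun _ => ℕ) (chB_n1_0 j) (chB_n1_1 j) (Nat.ble 64 j)) (Bool.rec (motive := fun _ => ℕ) (chB_n1_2 j) (chB_n1_3 j) (Nat.ble 192 j)) (Nat.ble 128 j)) (Bool.rec (motive := fun _ => ℕ) (Bool.rec (motive := fun _ => ℕ) (chB_n1_4 j) (chB_n1_5 j) (Nat.ble 320 j)) (Bool.rec (motive := fun _ => ℕ) (chB_n1_6 j) (chB_n1_7 j) (Nat.ble 448 j)) (Nat.ble 384 j)) (Nat.ble 256 j))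
noncomputable def chB_n2_1 (j : ℕ) : ℕ := (Bool.rec (motive := fun _ => ℕ) (Bool.rec (motive := fun _ => ℕ) (chB_n1_8 j) (Bool.rec (motive := fun _ => ℕ) (chB_n1_9 j) (chB_n1_10 j) (Nat.ble 640 j)) (Nat.ble 576 j)) (Bool.rec (motive := fun _ => ℕ) (Bool.rec (motive := fun _ => ℕ) (chB_n1_11 j) (chB_n1_12 j) (Nat.ble 768 j)) (Bool.rec (motive := fun _ => ℕ) (chB_n1_13 j) (chB_n1_14 j) (Nat.ble 896 j)) (Nat.ble 832 j)) (Nat.ble 704 j))
noncomputable def chB_n3_0 (j : ℕ) : ℕ := (Bool.rec (motive := fun _ => ℕ) (chB_n2_0 j) (chB_n2_1 j) (Nat.ble 512 j))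

/-- the chunks of the table -/
noncomputable def chunkB (j : ℕ) : ℕ := (chB_n3_0 j)

noncomputable def pchB_n0_0 (j : ℕ) : ℕ := (Bool.rec (motive := fun _ => ℕ) (Bool.rec (motive := fun _ => ℕ) (Bool.rec (motive := fun _ => ℕ) qB_0 qB_1 (Nat.ble 1 j)) (Bool.rec (motive := fun _ => ℕ) qB_2 qB_3 (Nat.ble 3 j)) (Nat.ble 2 j)) (Bool.rec (motive := fun _ => ℕ) (Bool.rec (motive := fun _ => ℕ) qB_4 qB_5 (Nat.ble 5 j)) (Bool.rec (motive := fun _ => ℕ) qB_6 qB_7 (Nat.ble 7 j)) (Nat.ble 6 j)) (Nat.ble 4 j))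
noncomputable def pchB_n0_1 (j : ℕ) : ℕ := (Bool.rec (motive := fun _ => ℕ) (Bool.rec (motive := fun _ => ℕ) qB_8 qB_9 (Nat.ble 9 j)) (Bool.rec (motive := fun _ => ℕ) qB_10 qB_11 (Nat.ble 11 j)) (Nat.ble 10 j))
noncomputable def pchB_n1_0 (j : ℕ) : ℕ := (Bool.rec (motive := fun _ => ℕ) (pchB_n0_0 j) (pchB_n0_1 j) (Nat.ble 8 j))

/-- the chunks of the definitions of the rows -/
noncomputable def pchunkB (j : ℕ) : ℕ := (pchB_n1_0 j)

noncomputable def entB (i : ℕ) : ℕ := (chunkB (i / 256) >>> (72 * (i % 256))) % 4722366482869645213696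
noncomputable def parB (b : ℕ) : ℕ := (pchunkB (b / 4096) >>> (20 * (b % 4096))) % 1048576

/-- the coincidences, in lists of 128 -/
def relsB : List (List (List ℕ × ℕ × List ℕ × ℕ)) :=
  [relB_0, relB_1, relB_2, relB_3, relB_4, relB_5, relB_6, relB_7, relB_8, relB_9, relB_10, relB_11, relB_12, relB_13, relB_14, relB_15, relB_16, relB_17, relB_18, relB_19]

/-- the coincidence with the index `k` -/
def relAtB (k : ℕ) : List ℕ × ℕ × List ℕ × ℕ := (relsB.getD (k / 128) []).getD (k % 128) c0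

/-- the certificate -/
noncomputable def certB : FCert := mkCert 47104 5 4 entB parB fun k => longW (relAtB k)

/-- the words of the five involutions: conjugates of the base involution -/
def gwordsB : List (List ℕ) :=
  [[0, 1, 0, 0, 1, 2, 1, 0], [0, 1, 0, 0, 1, 2, 2, 1, 0, 0, 1, 0], [0, 1, 0, 0, 1, 2, 2, 2, 1, 0, 1, 0], [2, 2, 1, 0, 0, 0, 1, 0, 0, 1, 0, 1, 0, 0], [0, 1, 0, 0, 1, 2, 2, 2, 1, 0, 0, 1, 0, 0]]

/-- the codes of the five involutions -/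
def gcodesB : List ℕ := [gcB_0, gcB_1, gcB_2, gcB_3, gcB_4]

/-- the code of the base involution -/
def czB : ℕ := Cfsg.Agent.Lib.Helper8.Co2MultZ.czB

/-- the code of an involution -/
def gcB (i : ℕ) : ℕ := gcodesB.getD i czB

end Cfsg.Agent.Lib.Helper8.Co2Mult
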