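import Cfsg.Agent.Lib.Helper8.Co2MultBC

/-! Checks of the words and of the letters of the coset certificate B (generated by a script) -/

set_option autoImplicit false
set_option maxRecDepth 100000

namespace Cfsg.Agent.Lib.Helper8.Co2Mult

open Cfsg.Agent.PL Cfsg.Agent.Co2P
open Cfsg.Agent.PG (allB)

theorem chk_gwB : gwordsB.map (conjWord czB) = gcodesB := by decide +kernel

theorem chk_letB : (relsB.all fun l => l.all (letOK 5)) = true := by decide +kernel

end Cfsg.Agent.Lib.Helper8.Co2Mult
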