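import Cfsg.Agent.Lib.Helper8.Co2MultBC

/-! Checks of the coincidences of the coset certificate B, part 0 (generated by a script) -/

set_option autoImplicit false
set_option maxRecDepth 100000

namespace Cfsg.Agent.Lib.Helper8.Co2Mult

open Cfsg.Agent.Lib.Helper8.Co2MultZ (baseZ)

theorem chk_relB_0 : relB_0.all (relOK baseZ gcB) = true := by decide +kernel
theorem chk_relB_1 : relB_1.all (relOK baseZ gcB) = true := by decide +kernel
theorem chk_relB_2 : relB_2.all (relOK baseZ gcB) = true := by decide +kernel
theorem chk_relB_3 : relB_3.all (relOK baseZ gcB) = true := by decide +kernel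
theorem chk_relB_4 : relB_4.all (relOK baseZ gcB) = true := by decide +kernel
theorem chk_relB_5 : relB_5.all (relOK baseZ gcB) = true := by decide +kernel
theorem chk_relB_6 : relB_6.all (relOK baseZ gcB) = true := by decide +kernel
theorem chk_relB_7 : relB_7.all (relOK baseZ gcB) = true := by decide +kernel

end Cfsg.Agent.Lib.Helper8.Co2Mult
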