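import Cfsg.Agent.Lib.Helper8.Co2MultBC

/-! Checks of the coincidences of the coset certificate B, part 2 (generated by a script) -/

set_option autoImplicit false
set_option maxRecDepth 100000

namespace Cfsg.Agent.Lib.Helper8.Co2Mult

open Cfsg.Agent.Lib.Helper8.Co2MultZ (baseZ)

theorem chk_relB_16 : relB_16.all (relOK baseZ gcB) = true := by decide +kernel
theorem chk_relB_17 : relB_17.all (relOK baseZ gcB) = true := by decide +kernel
theorem chk_relB_18 : relB_18.all (relOK baseZ gcB) = true := by decide +kernel
theorem chk_relB_19 : relB_19.all (relOK baseZ gcB) = true := by decide +kernel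

end Cfsg.Agent.Lib.Helper8.Co2Mult
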