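import Cfsg.Agent.Lib.Helper8.Co2MultBC

/-! The two generators of the second Conway group from the five involutions of the certificate B (generated by a
script) -/

set_option autoImplicit false
set_option maxRecDepth 100000

namespace Cfsg.Agent.Lib.Helper8.Co2Mult

open Cfsg.Agent.PL Cfsg.Agent.Co2P

/-- the program for the two generators, from `[gc 4, gc 3, gc 2, gc 1, gc 0]` -/
def slpB : List (ℕ × ℕ) := [(1, 0), (1, 2), (2, 1), (1, 3), (6, 4), (7, 6), (7, 8), (10, 7), (8, 11), (12, 8), (8, 13), (14, 9), (15, 9), (9, 16), (17, 9), (18, 9), (9, 19), (18, 9), (9, 19), (21, 7), (6, 21), (22, 6), (22, 0), (25, 0), (28, 24), (25, 29), (30, 27), (28, 31), (32, 26), (28, 33), (34, 33), (34, 35), (36, 22), (22, 37), (38, 21), (21, 39), (40, 20), (20, 41), (42, 18), (18, 43), (44, 16), (42, 16), (16, 43), (44, 14), (14, 45), (47, 14), (14, 48), (49, 14), (14, 50), (52, 16), (16, 53), (53, 16), (16, 54), (56, 16), (16, 57), (56, 16), (16, 57), (58, 16), (60, 30), (32, 61),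 (62, 16), (16, 63), (63, 16), (16, 64), (64, 16), (16, 65), (69, 14), (14, 70), (70, 14), (14, 71), (72, 14), (14, 71), (74, 14), (74, 14), (14, 75), (78, 14), (14, 79), (80, 14), (14, 81), (82, 14), (14, 83), (82, 14), (14, 83), (87, 12), (12, 87), (88, 11), (11, 89), (91, 11), (11, 92), (93, 11), (11, 94), (93, 11), (11, 94), (96, 9), (95, 8), (8, 96), (97, 6), (6, 98), (102, 6), (6, 103), (101, 6), (104, 4), (4, 105), (103, 78), (78, 104), (106, 1), (2, 108), (109, 2), (99, 82), (84, 101), (6, 3), (3, 6), (87, 5), (5, 87), (1, 105), (107, 1), (7, 5), (5, 7), (11, 76), (76, 11), (78, 124), (125, 78), (13, 3), (3, 13), (9, 3), (3, 9), (13, 3), (3, 13), (11, 1), (1, 11), (21, 132), (133, 21), (26, 90), (91, 10), (10, 91), (1, 4), (4, 1), (8, 10), (10, 8), (8, 139), (140, 8), (143, 5), (5, 144), (18, 5), (5, 18), (9, 20), (20, 9), (14, 7), (2, 27), (27, 2), (19, 6), (6, 19), (10, 6), (6, 10), (1, 29), (29, 1), (29, 5), (5, 29), (18, 3), (3, 18), (5, 29), (29, 5), (14,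 31), (4, 2), (2, 4), (38, 2), (24, 41), (41, 24), (126, 26), (26, 126), (13, 21), (21, 13), (69, 1), (1, 71), (1, 176), (177, 1), (178, 3), (4, 4), (4, 4), (6, 4), (4, 6), (8, 4), (184, 4), (4, 185), (11, 6), (6, 11), (188, 6), (6, 189), (15, 8), (8, 15), (17, 8), (18, 8), (8, 18), (195, 8), (8, 196), (22, 10), (10, 22), (24, 10), (10, 24), (201, 10), (10, 202), (28, 10), (204, 10), (10, 205), (31, 10), (10, 31), (33, 10), (10, 33), (35, 10), (10, 35), (37, 10), (10, 37), (214, 10), (40, 10), (10, 40), (42, 10), (10, 42), (219, 10), (10, 44), (46, 10), (10, 46), (223, 10), (10, 224), (50, 10), (226, 10), (10, 227), (53, 8), (8, 53), (230, 8), (8, 231), (57, 10), (10, 57), (59, 10), (10, 59), (61, 10), (62, 10), (10, 62), (64, 10), (10, 240), (66, 10), (10, 66), (243, 10), (10, 244), (70, 12), (12, 70), (72, 12), (12, 72), (249, 12), (250, 12), (12, 251), (252, 12), (12, 77), (79, 12), (12, 79), (81, 12), (12, 81), (83, 12), (12, 83), (85, 12), (12, 85), (87, 12), (88,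 12), (12, 88), (90, 12), (12, 90), (267, 12), (12, 268), (94, 14), (14, 94), (271, 14), (14, 272), (273, 14), (14, 274), (275, 14), (14, 276), (102, 14), (278, 14), (14, 279), (105, 14), (281, 11), (11, 282), (108, 11), (11, 108), (110, 11), (11, 110), (112, 11), (11, 112), (289, 11), (115, 11), (11, 115), (117, 11), (293, 9), (9, 294), (120, 9), (9, 120), (122, 9), (9, 122), (124, 9), (125, 7), (301, 5), (5, 302), (128, 3), (260, 145), (145, 260), (215, 1), (1, 217), (89, 1), (1, 91), (1, 1), (1, 1), (3, 1), (1, 3), (5, 1), (1, 5), (7, 1), (1, 7), (145, 149), (149, 145), (218, 1), (1, 220), (27, 1), (1, 29), (1, 15), (2, 12), (12, 2), (4, 12), (12, 4), (6, 12), (12, 6), (7, 21), (9, 9), (9, 9), (25, 8), (12, 9), (9, 12), (28, 9), (9, 28), (30, 9), (9, 30), (18, 11), (11, 18), (11, 33), (35, 11), (11, 35), (23, 11), (38, 11), (11, 38), (40, 11), (11, 40), (28, 11), (11, 28), (44, 11), (11, 44), (11, 31), (47, 11), (11, 47), (49, 10), (10, 49), (37, 10), (10, 37), (39,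 10), (10, 39), (55, 10), (10, 55), (10, 56), (58, 10), (10, 58), (46, 8), (8, 46), (62, 8), (8, 62), (6, 49), (65, 4), (4, 65), (53, 4), (4, 53), (69, 1), (1, 69), (219, 209), (209, 219), (284, 1), (1, 286), (101, 1), (1, 103), (6, 1), (1, 8), (1, 1), (1, 1), (3, 1), (1, 3), (5, 1), (1, 5), (89, 223), (223, 89), (311, 1), (1, 313), (99, 1), (1, 101), (34, 1), (1, 36), (1, 15), (15, 1), (3, 15), (15, 3), (5, 13), (13, 5), (21, 5), (5, 21), (6, 8), (24, 6), (6, 24), (26, 6), (6, 26), (14, 6), (6, 14), (6, 29), (17, 6), (6, 17), (19, 6), (6, 19), (21, 6), (6, 21), (23, 5), (5, 23), (255, 260), (260, 255), (407, 1), (1, 409), (161, 1), (1, 163), (56, 1), (1, 58), (8, 1), (1, 10), (307, 117), (117, 307), (366, 1), (1, 368), (148, 1), (1, 150), (73, 1), (1, 75), (22, 1), (1, 24), (0, 10), (318, 52), (52, 318), (396, 1), (1, 398), (148, 1), (1, 150), (93, 1), (1, 95), (31, 1), (1, 33), (1, 12), (11, 1), (24, 1), (4, 2), (16, 1), (17, 1), (18, 1), (331, 296), (378, 0), (199,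 0), (93, 0), (50, 0), (10, 0), (0, 35), (396, 170), (0, 125), (0, 10), (0, 4), (372, 171), (0, 151), (0, 54), (0, 14), (0, 8)]

def idxSB : List ℕ := [5, 0]

theorem chk_slpB : runK 2300 slpB [gcB 4, gcB 3, gcB 2, gcB 1, gcB 0]
    (fun r => idxSB.map fun i => r.getD i (pone 2300)) = [ca, cb] := by decide +kernel

end Cfsg.Agent.Lib.Helper8.Co2Mult
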