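import Cfsg.Agent.Lib.Helper8.Co2MultBC

/-! The rows of the coset certificate B, checked by the kernel (part 10; generated by a script) -/

set_option autoImplicit false
set_option maxRecDepth 100000

namespace Cfsg.Agent.Lib.Helper8.Co2Mult

theorem chk_cB_10_0 : certB.rowsOK 20480 256 = true := by decide +kernel
theorem chk_cB_10_1 : certB.rowsOK 20736 256 = true := by decide +kernel
theorem chk_cB_10_2 : certB.rowsOK 20992 256 = true := by decide +kernel
theorem chk_cB_10_3 : certB.rowsOK 21248 256 = true := by decide +kernel
theorem chk_cB_10_4 : certB.rowsOK 21504 256 = true := by decide +kernel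
theorem chk_cB_10_5 : certB.rowsOK 21760 256 = true := by decide +kernel
theorem chk_cB_10_6 : certB.rowsOK 22016 256 = true := by decide +kernel
theorem chk_cB_10_7 : certB.rowsOK 22272 256 = true := by decide +kernel

theorem chk_cB_10 : certB.rowsOK 20480 2048 = true := by
  apply rowsOK_of_forall
  intro a hlo hhi
  rcases Nat.lt_or_ge a 20736 with h | h0
  · exact row_of_rows certB chk_cB_10_0 (by omega) (by omega)
  rcases Nat.lt_or_ge a 20992 with h | h1
  · exact row_of_rows certB chk_cB_10_1 (by omega) (by omega)
  rcases Nat.lt_or_ge a 21248 with h | h2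
  · exact row_of_rows certB chk_cB_10_2 (by omega) (by omega)
  rcases Nat.lt_or_ge a 21504 with h | h3
  · exact row_of_rows certB chk_cB_10_3 (by omega) (by omega)
  rcases Nat.lt_or_ge a 21760 with h | h4
  · exact row_of_rows certB chk_cB_10_4 (by omega) (by omega)
  rcases Nat.lt_or_ge a 22016 with h | h5
  · exact row_of_rows certB chk_cB_10_5 (by omega) (by omega)
  rcases Nat.lt_or_ge a 22272 with h | h6
  · exact row_of_rows certB chk_cB_10_6 (by omega) (by omega)
  exact row_of_rows certB chk_cB_10_7 (by omega) (by omega)

end Cfsg.Agent.Lib.Helper8.Co2Mult
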