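import Cfsg.Agent.Lib.Helper8.Co2MultBC

/-! The rows of the coset certificate B, checked by the kernel (part 12; generated by a script) -/

set_option autoImplicit false
set_option maxRecDepth 100000

namespace Cfsg.Agent.Lib.Helper8.Co2Mult

theorem chk_cB_12_0 : certB.rowsOK 24576 256 = true := by decide +kernel
theorem chk_cB_12_1 : certB.rowsOK 24832 256 = true := by decide +kernel
theorem chk_cB_12_2 : certB.rowsOK 25088 256 = true := by decide +kernel
theorem chk_cB_12_3 : certB.rowsOK 25344 256 = true := by decide +kernel
theorem chk_cB_12_4 : certB.rowsOK 25600 256 = true := by decide +kernel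
theorem chk_cB_12_5 : certB.rowsOK 25856 256 = true := by decide +kernel
theorem chk_cB_12_6 : certB.rowsOK 26112 256 = true := by decide +kernel
theorem chk_cB_12_7 : certB.rowsOK 26368 256 = true := by decide +kernel

theorem chk_cB_12 : certB.rowsOK 24576 2048 = true := by
  apply rowsOK_of_forall
  intro a hlo hhi
  rcases Nat.lt_or_ge a 24832 with h | h0
  · exact row_of_rows certB chk_cB_12_0 (by omega) (by omega)
  rcases Nat.lt_or_ge a 25088 with h | h1
  · exact row_of_rows certB chk_cB_12_1 (by omega) (by omega)
  rcases Nat.lt_or_ge a 25344 with h | h2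
  · exact row_of_rows certB chk_cB_12_2 (by omega) (by omega)
  rcases Nat.lt_or_ge a 25600 with h | h3
  · exact row_of_rows certB chk_cB_12_3 (by omega) (by omega)
  rcases Nat.lt_or_ge a 25856 with h | h4
  · exact row_of_rows certB chk_cB_12_4 (by omega) (by omega)
  rcases Nat.lt_or_ge a 26112 with h | h5
  · exact row_of_rows certB chk_cB_12_5 (by omega) (by omega)
  rcases Nat.lt_or_ge a 26368 with h | h6
  · exact row_of_rows certB chk_cB_12_6 (by omega) (by omega)
  exact row_of_rows certB chk_cB_12_7 (by omega) (by omega)

end Cfsg.Agent.Lib.Helper8.Co2Mult
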