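import Cfsg.Agent.Lib.Helper8.Co2MultBC

/-! The rows of the coset certificate B, checked by the kernel (part 14; generated by a script) -/

set_option autoImplicit false
set_option maxRecDepth 100000

namespace Cfsg.Agent.Lib.Helper8.Co2Mult

theorem chk_cB_14_0 : certB.rowsOK 28672 256 = true := by decide +kernel
theorem chk_cB_14_1 : certB.rowsOK 28928 256 = true := by decide +kernel
theorem chk_cB_14_2 : certB.rowsOK 29184 256 = true := by decide +kernel
theorem chk_cB_14_3 : certB.rowsOK 29440 256 = true := by decide +kernel
theorem chk_cB_14_4 : certB.rowsOK 29696 256 = true := by decide +kernel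
theorem chk_cB_14_5 : certB.rowsOK 29952 256 = true := by decide +kernel
theorem chk_cB_14_6 : certB.rowsOK 30208 256 = true := by decide +kernel
theorem chk_cB_14_7 : certB.rowsOK 30464 256 = true := by decide +kernel

theorem chk_cB_14 : certB.rowsOK 28672 2048 = true := by
  apply rowsOK_of_forall
  intro a hlo hhi
  rcases Nat.lt_or_ge a 28928 with h | h0
  · exact row_of_rows certB chk_cB_14_0 (by omega) (by omega)
  rcases Nat.lt_or_ge a 29184 with h | h1
  · exact row_of_rows certB chk_cB_14_1 (by omega) (by omega)
  rcases Nat.lt_or_ge a 29440 with h | h2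
  · exact row_of_rows certB chk_cB_14_2 (by omega) (by omega)
  rcases Nat.lt_or_ge a 29696 with h | h3
  · exact row_of_rows certB chk_cB_14_3 (by omega) (by omega)
  rcases Nat.lt_or_ge a 29952 with h | h4
  · exact row_of_rows certB chk_cB_14_4 (by omega) (by omega)
  rcases Nat.lt_or_ge a 30208 with h | h5
  · exact row_of_rows certB chk_cB_14_5 (by omega) (by omega)
  rcases Nat.lt_or_ge a 30464 with h | h6
  · exact row_of_rows certB chk_cB_14_6 (by omega) (by omega)
  exact row_of_rows certB chk_cB_14_7 (by omega) (by omega)

end Cfsg.Agent.Lib.Helper8.Co2Mult
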