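import Cfsg.Agent.Lib.Helper8.Co2MultBC

/-! The rows of the coset certificate B, checked by the kernel (part 6; generated by a script) -/

set_option autoImplicit false
set_option maxRecDepth 100000

namespace Cfsg.Agent.Lib.Helper8.Co2Mult

theorem chk_cB_6_0 : certB.rowsOK 12288 256 = true := by decide +kernel
theorem chk_cB_6_1 : certB.rowsOK 12544 256 = true := by decide +kernel
theorem chk_cB_6_2 : certB.rowsOK 12800 256 = true := by decide +kernel
theorem chk_cB_6_3 : certB.rowsOK 13056 256 = true := by decide +kernel
theorem chk_cB_6_4 : certB.rowsOK 13312 256 = true := by decide +kernel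
theorem chk_cB_6_5 : certB.rowsOK 13568 256 = true := by decide +kernel
theorem chk_cB_6_6 : certB.rowsOK 13824 256 = true := by decide +kernel
theorem chk_cB_6_7 : certB.rowsOK 14080 256 = true := by decide +kernel

theorem chk_cB_6 : certB.rowsOK 12288 2048 = true := by
  apply rowsOK_of_forall
  intro a hlo hhi
  rcases Nat.lt_or_ge a 12544 with h | h0
  · exact row_of_rows certB chk_cB_6_0 (by omega) (by omega)
  rcases Nat.lt_or_ge a 12800 with h | h1
  · exact row_of_rows certB chk_cB_6_1 (by omega) (by omega)
  rcases Nat.lt_or_ge a 13056 with h | h2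
  · exact row_of_rows certB chk_cB_6_2 (by omega) (by omega)
  rcases Nat.lt_or_ge a 13312 with h | h3
  · exact row_of_rows certB chk_cB_6_3 (by omega) (by omega)
  rcases Nat.lt_or_ge a 13568 with h | h4
  · exact row_of_rows certB chk_cB_6_4 (by omega) (by omega)
  rcases Nat.lt_or_ge a 13824 with h | h5
  · exact row_of_rows certB chk_cB_6_5 (by omega) (by omega)
  rcases Nat.lt_or_ge a 14080 with h | h6
  · exact row_of_rows certB chk_cB_6_6 (by omega) (by omega)
  exact row_of_rows certB chk_cB_6_7 (by omega) (by omega)

end Cfsg.Agent.Lib.Helper8.Co2Mult
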