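import Cfsg.Agent.Lib.Helper8.Co2MultBC

/-! The rows of the coset certificate B, checked by the kernel (part 7; generated by a script) -/

set_option autoImplicit false
set_option maxRecDepth 100000

namespace Cfsg.Agent.Lib.Helper8.Co2Mult

theorem chk_cB_7_0 : certB.rowsOK 14336 256 = true := by decide +kernel
theorem chk_cB_7_1 : certB.rowsOK 14592 256 = true := by decide +kernel
theorem chk_cB_7_2 : certB.rowsOK 14848 256 = true := by decide +kernel
theorem chk_cB_7_3 : certB.rowsOK 15104 256 = true := by decide +kernel
theorem chk_cB_7_4 : certB.rowsOK 15360 256 = true := by decide +kernel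
theorem chk_cB_7_5 : certB.rowsOK 15616 256 = true := by decide +kernel
theorem chk_cB_7_6 : certB.rowsOK 15872 256 = true := by decide +kernel
theorem chk_cB_7_7 : certB.rowsOK 16128 256 = true := by decide +kernel

theorem chk_cB_7 : certB.rowsOK 14336 2048 = true := by
  apply rowsOK_of_forall
  intro a hlo hhi
  rcases Nat.lt_or_ge a 14592 with h | h0
  · exact row_of_rows certB chk_cB_7_0 (by omega) (by omega)
  rcases Nat.lt_or_ge a 14848 with h | h1
  · exact row_of_rows certB chk_cB_7_1 (by omega) (by omega)
  rcases Nat.lt_or_ge a 15104 with h | h2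
  · exact row_of_rows certB chk_cB_7_2 (by omega) (by omega)
  rcases Nat.lt_or_ge a 15360 with h | h3
  · exact row_of_rows certB chk_cB_7_3 (by omega) (by omega)
  rcases Nat.lt_or_ge a 15616 with h | h4
  · exact row_of_rows certB chk_cB_7_4 (by omega) (by omega)
  rcases Nat.lt_or_ge a 15872 with h | h5
  · exact row_of_rows certB chk_cB_7_5 (by omega) (by omega)
  rcases Nat.lt_or_ge a 16128 with h | h6
  · exact row_of_rows certB chk_cB_7_6 (by omega) (by omega)
  exact row_of_rows certB chk_cB_7_7 (by omega) (by omega)

end Cfsg.Agent.Lib.Helper8.Co2Mult
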