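import Cfsg.Agent.Lib.Helper8.Co2MultGenP
import Cfsg.Agent.Lib.Helper8.Co2MultBChk0
import Cfsg.Agent.Lib.Helper8.Co2MultBChkS
import Cfsg.Agent.Lib.Helper8.Co2MultBChkR0
import Cfsg.Agent.Lib.Helper8.Co2MultBChkR1
import Cfsg.Agent.Lib.Helper8.Co2MultBChkR2
import Cfsg.Agent.Lib.Helper8.Co2MultBChkT0
import Cfsg.Agent.Lib.Helper8.Co2MultBChkT1
import Cfsg.Agent.Lib.Helper8.Co2MultBChkT2
import Cfsg.Agent.Lib.Helper8.Co2MultBChkT3
import Cfsg.Agent.Lib.Helper8.Co2MultBChkT4
import Cfsg.Agent.Lib.Helper8.Co2MultBChkT5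
import Cfsg.Agent.Lib.Helper8.Co2MultBChkT6
import Cfsg.Agent.Lib.Helper8.Co2MultBChkT7
import Cfsg.Agent.Lib.Helper8.Co2MultBChkT8
import Cfsg.Agent.Lib.Helper8.Co2MultBChkT9
import Cfsg.Agent.Lib.Helper8.Co2MultBChkT10
import Cfsg.Agent.Lib.Helper8.Co2MultBChkT11
import Cfsg.Agent.Lib.Helper8.Co2MultBChkT12
import Cfsg.Agent.Lib.Helper8.Co2MultBChkT13
import Cfsg.Agent.Lib.Helper8.Co2MultBChkT14
import Cfsg.Agent.Lib.Helper8.Co2MultBChkT15
import Cfsg.Agent.Lib.Helper8.Co2MultBChkT16
import Cfsg.Agent.Lib.Helper8.Co2MultBChkT17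
import Cfsg.Agent.Lib.Helper8.Co2MultBChkT18
import Cfsg.Agent.Lib.Helper8.Co2MultBChkT19
import Cfsg.Agent.Lib.Helper8.Co2MultBChkT20
import Cfsg.Agent.Lib.Helper8.Co2MultBChkT21
import Cfsg.Agent.Lib.Helper8.Co2MultBChkT22

/-!
# The coset certificate B for the Schur multiplier of the second Conway group: the bound

Five conjugates of the base involution generate `P`; for an equivariant family of involutions lifting the class of the
base involution to a central extension with kernel in the commutator subgroup, the lifts `γ 0, …, γ 4` of the five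
involutions generate the extension, and the subgroup generated by the first four of them has index at most `47104`.
-/

set_option autoImplicit false

namespace Cfsg.Agent.Lib.Helper8.Co2Mult

open Cfsg.Agent.PL Cfsg.Agent.Co2P Cfsg.Agent.Lib.Helper8.CanonLift
open Cfsg.Agent.Lib.Helper5.J3Mult (FCert palW Tq Cz seg card_seg_le)

theorem good_czB : Good czB := ⟨Cfsg.Agent.Lib.Helper8.Co2MultZ.zP, Cfsg.Agent.Lib.Helper8.Co2MultZ.zI_spec.2⟩

theorem sq_czB : pmul 2300 czB czB = pone 2300 := by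
  unfold czB
  rw [← Cfsg.Agent.Lib.Helper8.Co2MultZ.zI_spec.2, pmul_enc n_le, Cfsg.Agent.Lib.Helper8.Co2MultZ.zI_sq, pone_eq]

/-- the data of the class of involutions -/
noncomputable def SB : Setup where
  cz := czB
  gcodes := gcodesB
  good_cz := good_czB
  sq_cz := sq_czB
  conj_gc := conj_of_words good_czB gwordsB gcodesB chk_gwB
  base := Cfsg.Agent.Lib.Helper8.Co2MultZ.baseZ
  base_ok := Cfsg.Agent.Lib.Helper8.Co2MultZ.baseZ_ok

theorem closure_tGB : Subgroup.closure (SB.tG '' Set.Iio 5) = ⊤ := SB.closure_tG slpB idxSB chk_slpB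

theorem chk_relsB : ∀ l ∈ relsB, l.all (relOK SB.base SB.gc) = true := by
  intro l hl
  unfold relsB at hl
  simp only [List.mem_cons, List.not_mem_nil, or_false] at hl
  rcases hl with rfl | rfl | rfl | rfl | rfl | rfl | rfl | rfl | rfl | rfl | rfl | rfl | rfl | rfl | rfl | rfl | rfl | rfl | rfl | rfl
  · exact chk_relB_0
  · exact chk_relB_1
  · exact chk_relB_2
  · exact chk_relB_3
  · exact chk_relB_4
  · exact chk_relB_5
  · exact chk_relB_6
  · exact chk_relB_7
  · exact chk_relB_8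
  · exact chk_relB_9
  · exact chk_relB_10
  · exact chk_relB_11
  · exact chk_relB_12
  · exact chk_relB_13
  · exact chk_relB_14
  · exact chk_relB_15
  · exact chk_relB_16
  · exact chk_relB_17
  · exact chk_relB_18
  · exact chk_relB_19

theorem hallB : ∀ a, a < certB.n → ∀ x, x < certB.g → certB.slotOK a x = true := by
  intro a ha x hx
  have ha' : a < 47104 := ha
  rcases Nat.lt_or_ge a 2048 with h0 | h0
  · exact certB.slot_of_rows chk_cB_0 (Nat.zero_le _) (by omega) hx
  rcases Nat.lt_or_ge a 4096 with h1 | h1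
  · exact certB.slot_of_rows chk_cB_1 h0 (by omega) hx
  rcases Nat.lt_or_ge a 6144 with h2 | h2
  · exact certB.slot_of_rows chk_cB_2 h1 (by omega) hx
  rcases Nat.lt_or_ge a 8192 with h3 | h3
  · exact certB.slot_of_rows chk_cB_3 h2 (by omega) hx
  rcases Nat.lt_or_ge a 10240 with h4 | h4
  · exact certB.slot_of_rows chk_cB_4 h3 (by omega) hx
  rcases Nat.lt_or_ge a 12288 with h5 | h5
  · exact certB.slot_of_rows chk_cB_5 h4 (by omega) hx
  rcases Nat.lt_or_ge a 14336 with h6 | h6
  · exact certB.slot_of_rows chk_cB_6 h5 (by omega) hx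
  rcases Nat.lt_or_ge a 16384 with h7 | h7
  · exact certB.slot_of_rows chk_cB_7 h6 (by omega) hx
  rcases Nat.lt_or_ge a 18432 with h8 | h8
  · exact certB.slot_of_rows chk_cB_8 h7 (by omega) hx
  rcases Nat.lt_or_ge a 20480 with h9 | h9
  · exact certB.slot_of_rows chk_cB_9 h8 (by omega) hx
  rcases Nat.lt_or_ge a 22528 with h10 | h10
  · exact certB.slot_of_rows chk_cB_10 h9 (by omega) hx
  rcases Nat.lt_or_ge a 24576 with h11 | h11
  · exact certB.slot_of_rows chk_cB_11 h10 (by omega) hx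
  rcases Nat.lt_or_ge a 26624 with h12 | h12
  · exact certB.slot_of_rows chk_cB_12 h11 (by omega) hx
  rcases Nat.lt_or_ge a 28672 with h13 | h13
  · exact certB.slot_of_rows chk_cB_13 h12 (by omega) hx
  rcases Nat.lt_or_ge a 30720 with h14 | h14
  · exact certB.slot_of_rows chk_cB_14 h13 (by omega) hx
  rcases Nat.lt_or_ge a 32768 with h15 | h15
  · exact certB.slot_of_rows chk_cB_15 h14 (by omega) hx
  rcases Nat.lt_or_ge a 34816 with h16 | h16
  · exact certB.slot_of_rows chk_cB_16 h15 (by omega) hx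
  rcases Nat.lt_or_ge a 36864 with h17 | h17
  · exact certB.slot_of_rows chk_cB_17 h16 (by omega) hx
  rcases Nat.lt_or_ge a 38912 with h18 | h18
  · exact certB.slot_of_rows chk_cB_18 h17 (by omega) hx
  rcases Nat.lt_or_ge a 40960 with h19 | h19
  · exact certB.slot_of_rows chk_cB_19 h18 (by omega) hx
  rcases Nat.lt_or_ge a 43008 with h20 | h20
  · exact certB.slot_of_rows chk_cB_20 h19 (by omega) hx
  rcases Nat.lt_or_ge a 45056 with h21 | h21
  · exact certB.slot_of_rows chk_cB_21 h20 (by omega) hx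
  exact certB.slot_of_rows chk_cB_22 h21 (by omega) hx

section lifts

variable {E : Type*} [Group E] {σ : E →* ↥P} (Λ : Lifts σ (Tq SB.tz))

/-- **the lifts of the five involutions generate the extension, and the first four of them generate a subgroup of index at
most `47104`** -/
theorem boundB [Finite E] (hcen : σ.ker ≤ Subgroup.center E) (hder : σ.ker ≤ commutator E) :
    seg (SB.γL Λ) 5 = ⊤ ∧ Nat.card E ≤ 47104 * Nat.card ↥(seg (SB.γL Λ) 4) := by
  set γ := SB.γL Λ with hγ
  have hinv : ∀ x, γ x * γ x = 1 := SB.γL_sq Λ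
  have htop : seg γ 5 = ⊤ := by
    have := Λ.closure_eq_top hcen hder (SB.xG '' Set.Iio 5) ⟨SB.xG 0, 0, by norm_num, rfl⟩ (by
      rw [Set.image_image, SB.Tq_xG']
      exact closure_tGB)
    rw [Set.image_image] at this
    exact this
  have hW : ∀ k, ((certB.W k).map γ).prod = 1 := fun k => SB.word_getD2 Λ chk_relsB (k / 128) (k % 128)
  have hL : ∀ k, ∀ x ∈ certB.W k, x < certB.g := fun k => lt_getD2 (by norm_num) chk_letB (k / 128) (k % 128)
  have hfin : Finite ↥(seg γ certB.nsub) := inferInstance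
  obtain ⟨_, hc⟩ := card_seg_le γ certB hinv hW hL (show 4 ≤ 5 by norm_num) (show 0 < 47104 by norm_num) hallB hfin
  refine ⟨htop, ?_⟩
  have h5 : Nat.card ↥(seg γ 5) = Nat.card E := by rw [htop, Subgroup.card_top]
  rw [← h5]
  exact hc

end lifts

end Cfsg.Agent.Lib.Helper8.Co2Mult
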