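import Cfsg.Agent.Lib.Helper5.J3MultA
import Cfsg.Agent.Lib.Helper5.J3MultB
import Cfsg.Agent.Lib.Lead.Co2.Real

/-!
# Coset certificates over a class of involutions of the second Conway group: definitions and soundness

The group `P` of permutations of 2300 points; a base involution given by its code `cz`; involutions `tG i` given as
conjugates of the base involution by words in the two generators (their codes are `gcodes`).  A coincidence is a pair of
palindromes in the involutions with the same value, checked on the codes.  For an equivariant family of lifts of the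
conjugates of the base involution to a central extension, the word of a coincidence is trivial on the lifts.
-/

set_option autoImplicit false

namespace Cfsg.Agent.Lib.Helper8.Co2Mult

open Cfsg.Agent.PL Cfsg.Agent.Co2P Cfsg.Agent.Lib.Helper8.CanonLift
open Cfsg.Agent.Lib.Helper5.J3Mult (FCert palW conjV conjV_eq palP Tq Tq_mk Tq_conj Tq_sq Tq_injective Tq_palP
  prod_palW prod_coincide prod_triple Cz)
open Cfsg.Agent.Lib.Helper5.J3Fus (strictN strictN_eq)

/-! ### the certificates read from packed entries -/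

/-- a certificate read from packed entries -/
def mkCert (n g nsub : ℕ) (ent par : ℕ → ℕ) (W : ℕ → List ℕ) : FCert where
  n := n
  g := g
  nsub := nsub
  Tg a x := ent (a * g + x) % 65536
  tg a x := (ent (a * g + x) >>> 16) % 1048576
  kd a x := (ent (a * g + x) >>> 36) % 4
  rs a x := (ent (a * g + x) >>> 38) % 65536
  rw a x := (ent (a * g + x) >>> 54) % 4096
  rp a x := (ent (a * g + x) >>> 66) % 64
  pa b := par b / g
  px b := par b % g
  W := W

/-- the product of two palindromes -/
def longW (c : List ℕ × ℕ × List ℕ × ℕ) : List ℕ := palW c.1 c.2.1 ++ palW c.2.2.1 c.2.2.2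

/-- the trivial coincidence -/
def c0 : List ℕ × ℕ × List ℕ × ℕ := ([], 0, [], 0)

/-- the rows of a range are checked as soon as each of them is -/
theorem rowsOK_of_forall (C : FCert) {lo len : ℕ} (h : ∀ a, lo ≤ a → a < lo + len → C.rowOK a = true) :
    C.rowsOK lo len = true := by
  rw [FCert.rowsOK, List.all_eq_true]
  intro i hi
  have hi' := List.mem_range.1 hi
  exact h _ (Nat.le_add_right _ _) (by omega)

/-- a row of a checked range -/
theorem row_of_rows (C : FCert) {lo len : ℕ} (h : C.rowsOK lo len = true) {a : ℕ} (h1 : lo ≤ a) (h2 : a < lo + len) :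
    C.rowOK a = true := by
  rw [FCert.rowsOK, List.all_eq_true] at h
  have h3 := h (a - lo) (List.mem_range.2 (by omega))
  rwa [show lo + (a - lo) = a by omega] at h3

theorem slot_of_row (C : FCert) {a x : ℕ} (h : C.rowOK a = true) (hx : x < C.g) : C.slotOK a x = true := by
  rw [FCert.rowOK, List.all_eq_true] at h
  exact h x (List.mem_range.2 hx)

/-! ### the checks on the codes -/

/-- conjugate the code `v` successively by the involutions with the indices in `h` -/
noncomputable def palC (gc : ℕ → ℕ) (h : List ℕ) : ℕ → ℕ :=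
  List.rec (motive := fun _ => ℕ → ℕ) (fun v => v)
    (fun s _ ih v => strictN (gc s) fun g => strictN (pmul 2300 (pmul 2300 g v) g) ih) h

theorem palC_nil (gc : ℕ → ℕ) (v : ℕ) : palC gc [] v = v := rfl

theorem palC_cons (gc : ℕ → ℕ) (s : ℕ) (h : List ℕ) (v : ℕ) :
    palC gc (s :: h) v = palC gc h (pmul 2300 (pmul 2300 (gc s) v) (gc s)) := by
  show strictN (gc s) (fun g => strictN (pmul 2300 (pmul 2300 g v) g) (palC gc h)) = _
  rw [strictN_eq, strictN_eq]

/-- the value of a palindrome -/
noncomputable def palV (gc : ℕ → ℕ) (p : List ℕ × ℕ) : ℕ := palC gc p.1 (gc p.2)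

/-- the image of the point `q` under the product of the involutions with the indices in `w` -/
noncomputable def appW (gc : ℕ → ℕ) (w : List ℕ) (q : ℕ) : ℕ :=
  List.rec (motive := fun _ => ℕ) q (fun s _ ih => strictN ih fun r => lk (gc s) r) w

theorem appW_nil (gc : ℕ → ℕ) (q : ℕ) : appW gc [] q = q := rfl

theorem appW_cons (gc : ℕ → ℕ) (s : ℕ) (w : List ℕ) (q : ℕ) : appW gc (s :: w) q = lk (gc s) (appW gc w q) := by
  show strictN (appW gc w q) (fun r => lk (gc s) r) = _
  rw [strictN_eq]

/-- the two palindromes of a coincidence have the same value at the points of the base -/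
noncomputable def relOK (base : List ℕ) (gc : ℕ → ℕ) (c : List ℕ × ℕ × List ℕ × ℕ) : Bool :=
  base.all fun q => Nat.beq (appW gc (palW c.1 c.2.1) q) (appW gc (palW c.2.2.1 c.2.2.2) q)

/-- the letters of a coincidence are below `g` -/
def letOK (g : ℕ) (c : List ℕ × ℕ × List ℕ × ℕ) : Bool :=
  c.1.all (fun x => Nat.blt x g) && (Nat.blt c.2.1 g && (c.2.2.1.all (fun x => Nat.blt x g) && Nat.blt c.2.2.2 g))

/-- the conjugate of the base involution by a word in the letters `a`, `b`, `a⁻¹`, `b⁻¹` -/
noncomputable def conjWord (cz : ℕ) (w : List ℕ) : ℕ :=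
  List.rec (motive := fun _ => ℕ) cz
    (fun l _ ih => strictN ih fun v =>
      pmul 2300 (pmul 2300 ([ca, cb, cai, cbi].getD l ca) v) ([cai, cbi, ca, cb].getD l cai)) w

theorem conjWord_nil (cz : ℕ) : conjWord cz [] = cz := rfl

theorem conjWord_cons (cz l : ℕ) (w : List ℕ) : conjWord cz (l :: w) =
    pmul 2300 (pmul 2300 ([ca, cb, cai, cbi].getD l ca) (conjWord cz w)) ([cai, cbi, ca, cb].getD l cai) := by
  show strictN (conjWord cz w) (fun v =>
    pmul 2300 (pmul 2300 ([ca, cb, cai, cbi].getD l ca) v) ([cai, cbi, ca, cb].getD l cai)) = _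
  rw [strictN_eq]

/-! ### codes of elements of `P` -/

/-- `c` is the code of an element of `P` -/
def Good (c : ℕ) : Prop := ∃ g : ↥P, enc 2300 g.1 = c

open Classical in
/-- the element with the code `c` -/
noncomputable def el (c : ℕ) : ↥P := if h : Good c then h.choose else 1

open Classical in
theorem enc_el {c : ℕ} (h : Good c) : enc 2300 (el c).1 = c := by
  rw [el, dif_pos h]
  exact h.choose_spec

theorem el_eq {c : ℕ} {g : ↥P} (h : enc 2300 g.1 = c) : el c = g := by
  have hg : Good c := ⟨g, h⟩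
  apply Subtype.ext
  apply enc_injective n_le
  rw [enc_el hg, h]

theorem Good.mul {a b : ℕ} (ha : Good a) (hb : Good b) : Good (pmul 2300 a b) := by
  obtain ⟨g, rfl⟩ := ha
  obtain ⟨h, rfl⟩ := hb
  exact ⟨g * h, by rw [Subgroup.coe_mul, pmul_enc n_le]⟩

theorem el_pmul {a b : ℕ} (ha : Good a) (hb : Good b) : el (pmul 2300 a b) = el a * el b := by
  apply el_eq
  rw [Subgroup.coe_mul, ← pmul_enc n_le, enc_el ha, enc_el hb]

theorem good_pone : Good (pone 2300) := ⟨1, by rw [pone_eq]; rfl⟩

theorem el_pone : el (pone 2300) = 1 := el_eq (by rw [pone_eq]; rfl)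

/-- the two generators -/
noncomputable def aP : ↥P := ⟨gA, gA_mem⟩
noncomputable def bP : ↥P := ⟨gB, gB_mem⟩

theorem good_ca : Good ca := ⟨aP, enc_gA⟩
theorem good_cb : Good cb := ⟨bP, enc_gB⟩
theorem good_cai : Good cai := ⟨aP⁻¹, enc_gAi⟩
theorem good_cbi : Good cbi := ⟨bP⁻¹, enc_gBi⟩
theorem el_ca : el ca = aP := el_eq enc_gA
theorem el_cb : el cb = bP := el_eq enc_gB
theorem el_cai : el cai = aP⁻¹ := el_eq enc_gAi
theorem el_cbi : el cbi = bP⁻¹ := el_eq enc_gBi

/-! ### the data of a class of involutions -/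

/-- the code of the base involution, the codes of the involutions: the base involution is an involution of `P`, and the
involutions are conjugates of it -/
structure Setup where
  cz : ℕ
  gcodes : List ℕ
  good_cz : Good cz
  sq_cz : pmul 2300 cz cz = pone 2300
  conj_gc : ∀ i, Good (gcodes.getD i cz) ∧ ∃ w : ↥P, el (gcodes.getD i cz) = w * el cz * w⁻¹
  base : List ℕ
  base_ok : ∀ g : ↥P, (∀ q ∈ base, ∀ hq : q < 2300, g.1 ⟨q, hq⟩ = ⟨q, hq⟩) → g = 1

/-- the code of a conjugate of the involution with the code `cz` -/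
def ConjZ (cz c : ℕ) : Prop := Good c ∧ ∃ w : ↥P, el c = w * el cz * w⁻¹

theorem conjZ_cz {cz : ℕ} (h : Good cz) : ConjZ cz cz := ⟨h, 1, by simp⟩

theorem conjZ_step {cz g gi c : ℕ} (hg : Good g) (hgi : Good gi) (hinv : el gi = (el g)⁻¹) (hc : ConjZ cz c) :
    ConjZ cz (pmul 2300 (pmul 2300 g c) gi) := by
  obtain ⟨hc1, w, hw⟩ := hc
  refine ⟨(hg.mul hc1).mul hgi, el g * w, ?_⟩
  rw [el_pmul (hg.mul hc1) hgi, el_pmul hg hc1, hw, hinv]
  group

theorem conjZ_conjWord {cz : ℕ} (h : Good cz) : ∀ w : List ℕ, ConjZ cz (conjWord cz w)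
  | [] => conjZ_cz h
  | l :: w => by
    rw [conjWord_cons]
    have ih := conjZ_conjWord h w
    rcases l with _ | _ | _ | _ | l
    · exact conjZ_step (g := ca) (gi := cai) good_ca good_cai (by rw [el_cai, el_ca]) ih
    · exact conjZ_step (g := cb) (gi := cbi) good_cb good_cbi (by rw [el_cbi, el_cb]) ih
    · exact conjZ_step (g := cai) (gi := ca) good_cai good_ca (by rw [el_cai, el_ca, inv_inv]) ih
    · exact conjZ_step (g := cbi) (gi := cb) good_cbi good_cb (by rw [el_cbi, el_cb, inv_inv]) ih
    · exact conjZ_step (g := ca) (gi := cai) good_ca good_cai (by rw [el_cai, el_ca]) ih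

/-- the data from words for the involutions -/
theorem conj_of_words {cz : ℕ} (h : Good cz) (gwords : List (List ℕ)) (gcodes : List ℕ)
    (hgw : gwords.map (conjWord cz) = gcodes) (i : ℕ) : ConjZ cz (gcodes.getD i cz) := by
  rw [← hgw]
  by_cases hi : i < (gwords.map (conjWord cz)).length
  · rw [List.getD_eq_getElem _ _ hi, List.getElem_map]
    exact conjZ_conjWord h _
  · rw [List.getD_eq_default _ _ (by omega)]
    exact conjZ_cz h

/-- the product of the involutions along a palindrome is a conjugate -/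
theorem prod_palW_conjV {G : Type*} [Group G] (t : ℕ → G) (_ht : ∀ i, t i * t i = 1) (h : List ℕ) (c : ℕ) :
    ((palW h c).map t).prod = conjV t h (t c) := by
  have key : ∀ (h : List ℕ) (v : G), (h.reverse.map t).prod * v * (h.map t).prod = conjV t h v := by
    intro h
    induction h with
    | nil => intro v; simp [conjV]
    | cons s h ih =>
      intro v
      rw [conjV, ← ih, List.reverse_cons, List.map_append, List.prod_append, List.map_cons, List.prod_cons]
      simp only [List.map_cons, List.map_nil, List.prod_cons, List.prod_nil, mul_one, mul_assoc]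
  rw [← key h (t c)]
  unfold palW
  rw [List.map_append, List.prod_append, List.map_cons, List.prod_cons, mul_assoc]

namespace Setup

variable (S : Setup)

/-- the code of an involution -/
def gc (i : ℕ) : ℕ := S.gcodes.getD i S.cz

/-- the base involution -/
noncomputable def tz : ↥P := el S.cz

theorem tz_sq : S.tz * S.tz = 1 := by
  unfold tz
  rw [← el_pmul S.good_cz S.good_cz, S.sq_cz, el_pone]

theorem good_gc (i : ℕ) : Good (S.gc i) := (S.conj_gc i).1

/-- the involutions -/
noncomputable def tG (i : ℕ) : ↥P := el (S.gc i)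

theorem tG_conj (i : ℕ) : ∃ g : ↥P, S.tG i = g * S.tz * g⁻¹ := (S.conj_gc i).2

/-- the cosets of the centraliser that belong to the involutions -/
noncomputable def xG (i : ℕ) : ↥P ⧸ Cz S.tz := (((S.tG_conj i).choose : ↥P) : ↥P ⧸ Cz S.tz)

theorem Tq_xG (i : ℕ) : Tq S.tz (S.xG i) = S.tG i := by
  unfold xG
  rw [Tq_mk]
  exact ((S.tG_conj i).choose_spec).symm

theorem Tq_xG' : (fun i => Tq S.tz (S.xG i)) = S.tG := funext S.Tq_xG

theorem tG_sq (i : ℕ) : S.tG i * S.tG i = 1 := by
  rw [← Tq_xG]
  exact Tq_sq _ S.tz_sq _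

/-- the value of a palindrome, on the codes -/
theorem conjV_code : ∀ (h : List ℕ) (v : ℕ), Good v →
    Good (palC S.gc h v) ∧ conjV S.tG h (el v) = el (palC S.gc h v)
  | [], v, hv => ⟨hv, rfl⟩
  | s :: h, v, hv => by
    rw [palC_cons, conjV]
    have hg := S.good_gc s
    have h1 : S.tG s * el v * S.tG s = el (pmul 2300 (pmul 2300 (S.gc s) v) (S.gc s)) := by
      unfold tG
      rw [el_pmul (hg.mul hv) hg, el_pmul hg hv]
    rw [h1]
    exact conjV_code h _ ((hg.mul hv).mul hg)

theorem good_palV (p : List ℕ × ℕ) : Good (palV S.gc p) := (S.conjV_code p.1 (S.gc p.2) (S.good_gc p.2)).1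

theorem conjV_palV (p : List ℕ × ℕ) : conjV S.tG p.1 (S.tG p.2) = el (palV S.gc p) :=
  (S.conjV_code p.1 (S.gc p.2) (S.good_gc p.2)).2

theorem Tq_palP_code (p : List ℕ × ℕ) : Tq S.tz (palP S.xG p.1 p.2) = el (palV S.gc p) := by
  rw [Tq_palP S.xG (fun i => by rw [Tq_xG]; exact S.tG_sq i), Tq_xG', Tq_xG, conjV_palV]

/-! ### the words of the certificates are trivial on the lifts -/

/-- the image of a point under a product of the involutions, on the codes -/
theorem app_prod (w : List ℕ) (q : ℕ) (hq : q < 2300) :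
    ((((w.map S.tG).prod : ↥P).1 ⟨q, hq⟩ : Fin 2300) : ℕ) = appW S.gc w q := by
  induction w with
  | nil => rfl
  | cons s w ih =>
    rw [List.map_cons, List.prod_cons, Subgroup.coe_mul, Equiv.Perm.mul_apply, appW_cons, ← ih]
    have h1 := lk_enc_fin n_le (S.tG s).1 (((w.map S.tG).prod : ↥P).1 ⟨q, hq⟩)
    unfold tG at h1 ⊢
    rw [enc_el (S.good_gc s)] at h1
    exact h1.symm

/-- two products of involutions that agree at the points of the base are equal -/
theorem eq_of_relOK {c : List ℕ × ℕ × List ℕ × ℕ} (h : relOK S.base S.gc c = true) :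
    ((palW c.1 c.2.1).map S.tG).prod = ((palW c.2.2.1 c.2.2.2).map S.tG).prod := by
  set V1 := ((palW c.1 c.2.1).map S.tG).prod with hV1
  set V2 := ((palW c.2.2.1 c.2.2.2).map S.tG).prod with hV2
  have h1 : V1⁻¹ * V2 = 1 := by
    apply S.base_ok
    intro q hq hq'
    unfold relOK at h
    rw [List.all_eq_true] at h
    have h2 := Nat.eq_of_beq_eq_true (h q hq)
    rw [← S.app_prod _ q hq', ← S.app_prod _ q hq'] at h2
    have h3 : V1.1 ⟨q, hq'⟩ = V2.1 ⟨q, hq'⟩ := Fin.ext h2
    rw [Subgroup.coe_mul, Equiv.Perm.mul_apply, Subgroup.coe_inv, Equiv.Perm.inv_eq_iff_eq, h3]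
  exact inv_mul_eq_one.1 h1

section lifts

variable {E : Type*} [Group E] {σ : E →* ↥P} (Λ : Lifts σ (Tq S.tz))

/-- the lifts of the involutions -/
noncomputable def γL (i : ℕ) : E := Λ.L (S.xG i)

theorem γL_sq (i : ℕ) : S.γL Λ i * S.γL Λ i = 1 := Λ.sq _

theorem map_γL (i : ℕ) : σ (S.γL Λ i) = S.tG i := by
  unfold γL
  rw [Λ.map, Tq_xG]

theorem word_of_relOK {c : List ℕ × ℕ × List ℕ × ℕ} (h : relOK S.base S.gc c = true) :
    ((longW c).map (S.γL Λ)).prod = 1 := by
  unfold longW
  apply prod_coincide Λ S.xG (fun i => by rw [Tq_xG]; exact S.tG_sq i)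
  rw [Tq_xG', Tq_xG, Tq_xG, ← prod_palW_conjV S.tG S.tG_sq, ← prod_palW_conjV S.tG S.tG_sq]
  exact S.eq_of_relOK h

theorem relOK_c0 : relOK S.base S.gc c0 = true := by
  unfold relOK c0
  rw [List.all_eq_true]
  intro q _
  exact Nat.beq_refl _

theorem word_getD {l : List (List ℕ × ℕ × List ℕ × ℕ)} (hl : l.all (relOK S.base S.gc) = true) (k : ℕ) :
    ((longW (l.getD k c0)).map (S.γL Λ)).prod = 1 := by
  apply S.word_of_relOK
  by_cases hk : k < l.length
  · rw [List.getD_eq_getElem _ _ hk]
    exact List.all_eq_true.1 hl _ (List.getElem_mem hk)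
  · rw [List.getD_eq_default _ _ (by omega)]
    exact S.relOK_c0

/-- the word of a coincidence of a list of lists -/
theorem word_getD2 {ls : List (List (List ℕ × ℕ × List ℕ × ℕ))}
    (hl : ∀ l ∈ ls, l.all (relOK S.base S.gc) = true) (i k : ℕ) :
    ((longW ((ls.getD i []).getD k c0)).map (S.γL Λ)).prod = 1 := by
  apply S.word_getD
  by_cases hi : i < ls.length
  · rw [List.getD_eq_getElem _ _ hi]
    exact hl _ (List.getElem_mem hi)
  · rw [List.getD_eq_default _ _ (by omega)]
    rfl

end lifts

end Setup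

theorem mem_palW {h : List ℕ} {c x : ℕ} (hx : x ∈ palW h c) : x ∈ h ∨ x = c := by
  unfold palW at hx
  rw [List.mem_append, List.mem_reverse, List.mem_cons] at hx
  tauto

theorem lt_of_letOK {g : ℕ} {c : List ℕ × ℕ × List ℕ × ℕ} (h : letOK g c = true) :
    ∀ x ∈ longW c, x < g := by
  unfold letOK at h
  simp only [Bool.and_eq_true, List.all_eq_true, Nat.blt_eq] at h
  obtain ⟨h1, h2', h3, h4⟩ := h
  intro x hx
  unfold longW at hx
  rcases List.mem_append.1 hx with hx | hx
  · rcases mem_palW hx with hx | rfl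
    · exact h1 x hx
    · exact h2'
  · rcases mem_palW hx with hx | rfl
    · exact h3 x hx
    · exact h4

theorem lt_getD {g : ℕ} (hg : 0 < g) {l : List (List ℕ × ℕ × List ℕ × ℕ)}
    (hl : l.all (letOK g) = true) (k : ℕ) : ∀ x ∈ longW (l.getD k c0), x < g := by
  by_cases hk : k < l.length
  · rw [List.getD_eq_getElem _ _ hk]
    exact lt_of_letOK (List.all_eq_true.1 hl _ (List.getElem_mem hk))
  · rw [List.getD_eq_default _ _ (by omega)]
    intro x hx
    have : x = 0 := by
      unfold longW c0 palW at hx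
      simpa using hx
    omega

end Cfsg.Agent.Lib.Helper8.Co2Mult
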