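import Cfsg.Agent.Lib.Helper8.Co2MultDefs
import Cfsg.Agent.Lib.Helper8.Co2Cent
import Cfsg.Agent.Lib.Lead.Co2.Out

/-!
# Five involutions generate the second Conway group

If a straight line program computes the codes of the two generators of `P` from the codes of the five involutions of a
`Setup`, then the five involutions generate `P`: the two generators give the three elements `x`, `y`, `w`, which
generate `P`.  Also two lemmas on the letters and the words of the certificates that are split in lists of lists.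
-/

set_option autoImplicit false

namespace Cfsg.Agent.Lib.Helper8.Co2Mult

open Cfsg.Agent.PL Cfsg.Agent.Co2P Cfsg.Agent.Lib.Helper8.CanonLift
open Cfsg.Agent.Lib.Helper8.Co2Cent (run_ex)
open Cfsg.Agent.Lib.Helper5.J3Mult (FCert palW Tq Cz seg)

namespace Setup

variable (S : Setup)

/-- **the five involutions generate `P`** -/
theorem closure_tG (prog : List (ℕ × ℕ)) (idx : List ℕ)
    (hrun : runK 2300 prog [S.gc 4, S.gc 3, S.gc 2, S.gc 1, S.gc 0]
      (fun r => idx.map fun i => r.getD i (pone 2300)) = [ca, cb]) :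
    Subgroup.closure (S.tG '' Set.Iio 5) = ⊤ := by
  set K0 := Subgroup.closure (S.tG '' Set.Iio 5) with hKdef
  have hK : ∀ i, i < 5 → S.tG i ∈ K0 := fun i hi => Subgroup.subset_closure ⟨i, hi, rfl⟩
  set H := K0.map P.subtype with hH
  have hmem : ∀ i, i < 5 → ∃ g ∈ H, enc 2300 g = S.gc i := fun i hi =>
    ⟨(S.tG i).1, ⟨S.tG i, hK i hi, rfl⟩, enc_el (S.good_gc i)⟩
  have hregs : ∀ c ∈ [S.gc 4, S.gc 3, S.gc 2, S.gc 1, S.gc 0], ∃ g ∈ H, enc 2300 g = c := by
    intro c hc
    simp only [List.mem_cons, List.not_mem_nil, or_false] at hc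
    rcases hc with rfl | rfl | rfl | rfl | rfl
    · exact hmem 4 (by norm_num)
    · exact hmem 3 (by norm_num)
    · exact hmem 2 (by norm_num)
    · exact hmem 1 (by norm_num)
    · exact hmem 0 (by norm_num)
  have hab := run_ex H hregs prog idx _ hrun
  have hA : gA ∈ H := by
    obtain ⟨g, hg, he⟩ := hab ca List.mem_cons_self
    have : g = gA := enc_injective n_le (he.trans enc_gA.symm)
    exact this ▸ hg
  have hB : gB ∈ H := by
    obtain ⟨g, hg, he⟩ := hab cb (List.mem_cons_of_mem _ List.mem_cons_self)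
    have : g = gB := enc_injective n_le (he.trans enc_gB.symm)
    exact this ▸ hg
  have hbs : ∀ c ∈ [cbi, cb, cai, ca], ∃ g ∈ H, enc 2300 g = c := by
    intro c hc
    simp only [List.mem_cons, List.not_mem_nil, or_false] at hc
    rcases hc with rfl | rfl | rfl | rfl
    · exact ⟨gB⁻¹, H.inv_mem hB, enc_gBi⟩
    · exact ⟨gB, hB, enc_gB⟩
    · exact ⟨gA⁻¹, H.inv_mem hA, enc_gAi⟩
    · exact ⟨gA, hA, enc_gA⟩
  have hxyw := run_ex H hbs progXYW idxXYW _ chk_xyw
  have hx : x ∈ H := by
    obtain ⟨g, hg, he⟩ := hxyw cx List.mem_cons_self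
    have : g = x := enc_injective n_le (he.trans x_spec.2.symm)
    exact this ▸ hg
  have hy : y ∈ H := by
    obtain ⟨g, hg, he⟩ := hxyw cy (List.mem_cons_of_mem _ List.mem_cons_self)
    have : g = y := enc_injective n_le (he.trans y_spec.2.symm)
    exact this ▸ hg
  have hw : w ∈ H := by
    obtain ⟨g, hg, he⟩ := hxyw cw (List.mem_cons_of_mem _ (List.mem_cons_of_mem _ List.mem_cons_self))
    have : g = w := enc_injective n_le (he.trans w_spec.2.symm)
    exact this ▸ hg
  have hle : P ≤ H := by
    rw [← K_eq, K, Subgroup.closure_le]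
    intro g hg
    rcases hg with rfl | rfl | rfl
    · exact hx
    · exact hy
    · exact hw
  rw [Subgroup.eq_top_iff']
  intro u
  obtain ⟨k, hk, hku⟩ := hle u.2
  have : k = u := Subtype.ext hku
  rw [← this]
  exact hk

end Setup

/-- the letters of a coincidence of a list of lists are below `g` -/
theorem lt_getD2 {g : ℕ} (hg : 0 < g) {ls : List (List (List ℕ × ℕ × List ℕ × ℕ))}
    (hl : (ls.all fun l => l.all (letOK g)) = true) (i k : ℕ) :
    ∀ x ∈ longW ((ls.getD i []).getD k c0), x < g := by
  apply lt_getD hg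
  by_cases hi : i < ls.length
  · rw [List.getD_eq_getElem _ _ hi]
    exact List.all_eq_true.1 hl _ (List.getElem_mem hi)
  · rw [List.getD_eq_default _ _ (by omega)]
    rfl

end Cfsg.Agent.Lib.Helper8.Co2Mult
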