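import Cfsg.Agent.Lib.Helper8.Co2MultZData
import Cfsg.Agent.Lib.Helper8.PLCent

/-!
# The centraliser of an involution of the second class of the second Conway group: kernel checks
-/

set_option autoImplicit false
set_option maxRecDepth 100000

namespace Cfsg.Agent.Lib.Helper8.Co2MultZ

open Cfsg.Agent.Co2P Cfsg.Agent.PL
open Cfsg.Agent.PG (allB)

/-! ### the straight line programs -/

/-- the registers of the first and of the third program -/
def regsZ1 : List ℕ := [cbi, cb, cai, ca]

/-- the registers of the second program -/
def regsZ2 : List ℕ := [czB, zc2, zc1]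

/-- the code of the commutator of the permutations with the codes `x` and `y` -/
def commC (x y : ℕ) : ℕ := pmul 2300 (pmul 2300 x y) (pmul 2300 (pinv 2300 x) (pinv 2300 y))

/-- the registers of the fourth program: three commutators and their inverses -/
def regsZ4 : List ℕ :=
  [commC zc2 zh4, commC zh4 zc2, commC zh4 zh11, commC zh11 zh4, commC zc1 zh2, commC zh2 zc1]

theorem chk_progZ1 : runK 2300 progZ1 regsZ1 (fun r => idxZ1.map fun i => r.getD i (pone 2300)) = [czB, zc1, zc2] := by
  decide +kernel

theorem chk_progZ2 : runK 2300 progZ2 regsZ2 (fun r => idxZ2.map fun i => r.getD i (pone 2300)) = outZ2 := by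
  decide +kernel

theorem chk_progZ3 : runK 2300 progZ3 regsZ1 (fun r => idxZ3.map fun i => r.getD i (pone 2300)) = outZ3 := by
  decide +kernel

theorem chk_progZ4 : runK 2300 progZ4 regsZ4 (fun r => idxZ4.map fun i => r.getD i (pone 2300)) = [czB, zc1, zc2] := by
  decide +kernel

/-! ### the involution and its centraliser -/

theorem chk_z : allB 2300 (fun q => Nat.beq (lk czB (lk czB q)) q) = true ∧ lk czB 0 ≠ 0 := by decide +kernel

theorem chk_commZ1 : allB 2300 (fun q => Nat.beq (lk zc1 (lk czB q)) (lk czB (lk zc1 q))) = true := by decide +kernel

theorem chk_commZ2 : allB 2300 (fun q => Nat.beq (lk zc2 (lk czB q)) (lk czB (lk zc2 q))) = true := by decide +kernel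

/-- the codes of the generators in the chain of `P` -/
def codesZP : List ℕ := regsZ1 ++ outZ3

/-- the codes of the generators in the chain of the centraliser -/
def codesZH : List ℕ := regsZ2 ++ outZ2

theorem chk_gensZP : (LsZP.all fun L => L.2.1.all fun c => codesZP.contains c) = true := by decide +kernel

theorem chk_gensZH : (LsZH.all fun L => L.2.1.all fun c => codesZH.contains c) = true := by decide +kernel

theorem chk_treeZP : treeOK 2300 [] LsZP = true := by decide +kernel

theorem chk_treeZH : treeOK 2300 [] LsZH = true := by decide +kernel

theorem chk_countsZP : (treeCounts 2300 20 LsZP).prod = 42305421312000 := by decide +kernel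

theorem chk_countsZH : (treeCounts 2300 20 LsZH).prod = 41287680 := by decide +kernel

theorem chk_centZB : PLCent.centB 2300 20 czB none LsZP = 41287680 := by decide +kernel

end Cfsg.Agent.Lib.Helper8.Co2MultZ
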