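import Cfsg.Agent.Lib.Helper7.MGenD
import Cfsg.Prelude.Def_KGroupFacts
import Cfsg.Prelude.Def_SporadicB

/-!
# Covers of a group with cyclic multiplier have no proper stem extensions

A stem extension of a perfect central extension `Q` of `S` is a stem extension of `S` (three subgroups lemma).  Hence a
non-split double cover `K` of a perfect group `S` whose multiplier is cyclic of order two is perfect and has no proper
finite stem extension.
-/

set_option autoImplicit false

namespace Cfsg.Agent.Lib.Helper8.CoverMF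

open Cfsg Cfsg.Agent.Lib.Helper7.M12Mult
open scoped commutatorElement

universe u

section tower

variable {Γ Q S : Type*} [Group Γ] [Group Q] [Group S]

/-- **tower lemma**: the kernel of the composite of a central extension of a perfect group with a central quotient
map is central -/
theorem ker_comp_le_center (τ : Γ →* Q) (π : Q →* S) (hτc : τ.ker ≤ Subgroup.center Γ)
    (hπc : π.ker ≤ Subgroup.center Q) (hperf : commutator Γ = ⊤) :
    (π.comp τ).ker ≤ Subgroup.center Γ := by
  set L := (π.comp τ).ker with hL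
  have h0 : ⁅L, (⊤ : Subgroup Γ)⁆ ≤ τ.ker := by
    rw [Subgroup.commutator_le]
    intro l hl g _
    rw [MonoidHom.mem_ker, map_commutatorElement, commutatorElement_eq_one_iff_mul_comm]
    have h1 : τ l ∈ Subgroup.center Q := hπc (by
      rw [MonoidHom.mem_ker]
      exact hl)
    exact (Subgroup.mem_center_iff.mp h1 (τ g)).symm
  have hc : ∀ H : Subgroup Γ, H ≤ Subgroup.center Γ → ⁅H, (⊤ : Subgroup Γ)⁆ = ⊥ := by
    intro H hH
    rw [Subgroup.commutator_eq_bot_iff_le_centralizer, Subgroup.coe_top, Subgroup.centralizer_univ]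
    exact hH
  have h1 : ⁅⁅L, (⊤ : Subgroup Γ)⁆, (⊤ : Subgroup Γ)⁆ = ⊥ := hc _ (h0.trans hτc)
  have h2 : ⁅⁅(⊤ : Subgroup Γ), L⁆, (⊤ : Subgroup Γ)⁆ = ⊥ := by
    rw [Subgroup.commutator_comm ⊤ L]
    exact h1
  have h3 : ⁅⁅(⊤ : Subgroup Γ), (⊤ : Subgroup Γ)⁆, L⁆ = ⊥ :=
    Subgroup.commutator_commutator_eq_bot_of_rotate h2 h1
  rw [← commutator_def, hperf, Subgroup.commutator_comm] at h3
  have h4 := Subgroup.commutator_eq_bot_iff_le_centralizer.mp h3
  rwa [Subgroup.coe_top, Subgroup.centralizer_univ] at h4

end tower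

section cover

variable {K S : Type u} [Group K] [Group S]

/-- a non-split double cover of a perfect group is perfect -/
theorem perfect_of_nonsplit_cover (hS : commutator S = ⊤) (hK : IsNonsplitDoubleCover K S) :
    commutator K = ⊤ := by
  obtain ⟨hc2, ⟨e⟩, hns⟩ := hK
  set Z := Subgroup.center K with hZ
  -- the derived subgroup covers the quotient
  have hsup : commutator K ⊔ Z = ⊤ := by
    have h1 : (commutator K).map (QuotientGroup.mk' Z) = ⊤ := by
      rw [commutator_def, Subgroup.map_commutator, ← MonoidHom.range_eq_map,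
        MonoidHom.range_eq_top.2 (QuotientGroup.mk'_surjective Z), ← commutator_def]
      have h2 : (commutator S).map e.symm.toMonoidHom = commutator (K ⧸ Z) := by
        rw [commutator_def, Subgroup.map_commutator, ← MonoidHom.range_eq_map,
          MonoidHom.range_eq_top.2 e.symm.surjective, ← commutator_def]
      rw [← h2, hS, ← MonoidHom.range_eq_map, MonoidHom.range_eq_top.2 e.symm.surjective]
    rw [eq_top_iff]
    intro g _
    have hg : QuotientGroup.mk' Z g ∈ (commutator K).map (QuotientGroup.mk' Z) := by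
      rw [h1]; exact Subgroup.mem_top _
    obtain ⟨c, hc, hcg⟩ := hg
    have hz : c⁻¹ * g ∈ Z := by
      rw [← QuotientGroup.eq]
      exact hcg
    have : g = c * (c⁻¹ * g) := by group
    rw [this]
    exact Subgroup.mul_mem _ (Subgroup.mem_sup_left hc) (Subgroup.mem_sup_right hz)
  by_contra hne
  -- otherwise the derived subgroup is a complement of the centre
  have hdisj : Z ⊓ commutator K = ⊥ := by
    have hp : Fact (Nat.card ↥Z).Prime := ⟨by rw [hc2]; exact Nat.prime_two⟩
    rcases Subgroup.eq_bot_or_eq_top_of_prime_card ((Z ⊓ commutator K).subgroupOf Z) with h | h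
    · rw [Subgroup.subgroupOf_eq_bot] at h
      rw [disjoint_iff] at h
      rw [← h, inf_comm Z, inf_assoc, inf_idem]
    · exfalso
      apply hne
      rw [Subgroup.subgroupOf_eq_top] at h
      have hle : Z ≤ commutator K := fun z hz => (h hz).2
      rw [← hsup]
      exact (sup_eq_left.mpr hle).symm
  have hnorm : (commutator K).Normal := by
    rw [commutator_def]; infer_instance
  have hcomp : Z.IsComplement' (commutator K) := by
    apply Subgroup.isComplement'_of_disjoint_and_mul_eq_univ
    · rw [disjoint_iff]; exact hdisj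
    · rw [← Subgroup.normal_mul, sup_comm, hsup, Subgroup.coe_top]
  exact hns _ hcomp

/-- **a non-split double cover of a perfect group with multiplier of order two has no proper finite stem extension** -/
theorem MF_of_nonsplit_cover (hS : commutator S = ⊤) (hM : HasCyclicSchurMultiplier S 2)
    (hK : IsNonsplitDoubleCover K S) : MF.{u} K := by
  have hperf := perfect_of_nonsplit_cover hS hK
  obtain ⟨hc2, ⟨e⟩, -⟩ := hK
  set Z := Subgroup.center K with hZ
  intro Γ' _ _ τ hs hc hd
  -- the composite onto `S`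
  let π : K →* S := e.toMonoidHom.comp (QuotientGroup.mk' Z)
  have hπs : Function.Surjective π := e.surjective.comp (QuotientGroup.mk'_surjective Z)
  have hπk : π.ker = Z := by
    ext x
    simp only [π, MonoidHom.mem_ker, MonoidHom.coe_comp, Function.comp_apply, MulEquiv.coe_toMonoidHom,
      MulEquiv.map_eq_one_iff, QuotientGroup.mk'_apply, QuotientGroup.eq_one_iff]
  have hΓperf : commutator Γ' = ⊤ := Cfsg.Agent.Lib.Helper7.MG.perfect_of_stem τ hs hc hd hperf
  have hρc : (π.comp τ).ker ≤ Subgroup.center Γ' :=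
    ker_comp_le_center τ π hc (by rw [hπk]) hΓperf
  have hρd : (π.comp τ).ker ≤ commutator Γ' := by rw [hΓperf]; exact le_top
  obtain ⟨p, hp⟩ := hM.2 Γ' (π.comp τ) ⟨hπs.comp hs, hρc, hρd⟩
  -- the kernel of the composite has at most two elements
  have hcard : Nat.card ↥(π.comp τ).ker ∣ 2 := by
    have h1 := Subgroup.card_dvd_of_surjective p hp
    have h2 : Nat.card (Multiplicative (ZMod 2)) = 2 := by
      rw [Nat.card_congr Multiplicative.toAdd, Nat.card_zmod]
    rwa [h2] at h1
  -- it contains an element over the non-trivial central element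
  obtain ⟨z, hz1⟩ : ∃ z : Z, z ≠ 1 := by
    have hfin : Finite ↥Z := Nat.finite_of_card_ne_zero (by rw [hc2]; norm_num)
    have : Nontrivial ↥Z := Finite.one_lt_card_iff_nontrivial.mp (by rw [hc2]; norm_num)
    exact exists_ne 1
  obtain ⟨γ, hγ⟩ := hs z.1
  have hγk : γ ∈ (π.comp τ).ker := by
    rw [MonoidHom.mem_ker, MonoidHom.comp_apply, hγ, ← MonoidHom.mem_ker, hπk]
    exact z.2
  have hγ1 : (⟨γ, hγk⟩ : ↥(π.comp τ).ker) ≠ 1 := by
    intro h
    have h' : γ = 1 := congrArg Subtype.val h
    apply hz1
    apply Subtype.ext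
    rw [← hγ, h', map_one]
    rfl
  rw [Subgroup.eq_bot_iff_forall]
  intro k hk
  by_contra hk1
  have hkk : k ∈ (π.comp τ).ker := by
    rw [MonoidHom.mem_ker, MonoidHom.comp_apply, MonoidHom.mem_ker.mp hk, map_one]
  have hk1' : (⟨k, hkk⟩ : ↥(π.comp τ).ker) ≠ 1 := fun h => hk1 (congrArg Subtype.val h)
  have hle : Nat.card ↥(π.comp τ).ker ≤ 2 := Nat.le_of_dvd (by norm_num) hcard
  have hpos : 0 < Nat.card ↥(π.comp τ).ker := Nat.card_pos
  have h12 : Nat.card ↥(π.comp τ).ker = 1 ∨ Nat.card ↥(π.comp τ).ker = 2 := by omega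
  rcases h12 with h | h
  · have : Subsingleton ↥(π.comp τ).ker := (Nat.card_eq_one_iff_unique.mp h).1
    exact hk1' (Subsingleton.elim _ _)
  · obtain ⟨y, -, hy⟩ := (Nat.card_eq_two_iff' (1 : ↥(π.comp τ).ker)).mp h
    have e1 := hy _ hk1'
    have e2 := hy _ hγ1
    have e3 : k = γ := congrArg Subtype.val (e1.trans e2.symm)
    apply hz1
    apply Subtype.ext
    rw [← hγ, ← e3, MonoidHom.mem_ker.mp hk]
    rfl

end cover

end Cfsg.Agent.Lib.Helper8.CoverMF
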