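import Mathlib

/-!
# Sums of subspaces permuted by an endomorphism (helper8)

Dimension criteria for independence, and the predicate `HasDecompOn A a t W`: the subspace `W` is
a sum of `t` subspaces of dimension `a` which `A` permutes.
-/

set_option autoImplicit false
set_option linter.unusedSectionVars false
set_option linter.style.haveILetI false

namespace Cfsg.Agent.Lib.Helper8.DecSt

open Module

section Dim

variable {F : Type*} [Field F] {V : Type*} [AddCommGroup V] [Module F V] [FiniteDimensional F V]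
variable {ι : Type*}

theorem finrank_biSup_le_sum [DecidableEq ι] (W : ι → Submodule F V) (S : Finset ι) :
    finrank F ↥(⨆ i ∈ S, W i) ≤ ∑ i ∈ S, finrank F (W i) := by
  induction S using Finset.induction_on with
  | empty => simp
  | insert j S hj ih =>
    rw [Finset.iSup_insert, Finset.sum_insert hj]
    exact le_trans (Submodule.finrank_add_le_finrank_add_finrank _ _) (Nat.add_le_add_left ih _)

theorem finrank_iSup_le_sum [Fintype ι] (W : ι → Submodule F V) :
    finrank F ↥(⨆ i, W i) ≤ ∑ i, finrank F (W i) := by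
  classical
  have h := finrank_biSup_le_sum W Finset.univ
  have e : (⨆ i ∈ (Finset.univ : Finset ι), W i) = ⨆ i, W i := by simp
  rw [e] at h
  exact h

theorem finrank_biSup_of_indep [DecidableEq ι] (W : ι → Submodule F V) (h : iSupIndep W)
    (S : Finset ι) : finrank F ↥(⨆ i ∈ S, W i) = ∑ i ∈ S, finrank F (W i) := by
  induction S using Finset.induction_on with
  | empty => simp
  | insert j S hj ih =>
    rw [Finset.iSup_insert, Finset.sum_insert hj, ← ih]
    have h1 := Submodule.finrank_sup_add_finrank_inf_eq (W j) (⨆ i ∈ S, W i)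
    have h2 : W j ⊓ ⨆ i ∈ S, W i = ⊥ := by
      have := h.disjoint_biSup (x := j) (y := (S : Set ι)) (by simpa using hj)
      exact this.eq_bot
    rw [h2, finrank_bot, add_zero] at h1
    exact h1

theorem finrank_iSup_of_indep [Fintype ι] (W : ι → Submodule F V) (h : iSupIndep W) :
    finrank F ↥(⨆ i, W i) = ∑ i, finrank F (W i) := by
  classical
  have h := finrank_biSup_of_indep W h Finset.univ
  have e : (⨆ i ∈ (Finset.univ : Finset ι), W i) = ⨆ i, W i := by simp
  rw [e] at h
  exact h

/-- independence from a dimension count -/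
theorem indep_of_finrank_le [Fintype ι] (W : ι → Submodule F V)
    (h : ∑ i, finrank F (W i) ≤ finrank F ↥(⨆ i, W i)) : iSupIndep W := by
  classical
  intro i
  rw [disjoint_iff]
  have h1 : (⨆ k, W k) = W i ⊔ ⨆ (j) (_ : j ≠ i), W j := by
    apply le_antisymm
    · apply iSup_le
      intro k
      by_cases hk : k = i
      · rw [hk]
        exact le_sup_left
      · exact le_sup_of_le_right (le_iSup₂_of_le k hk le_rfl)
    · exact sup_le (le_iSup W i) (iSup₂_le fun j _ => le_iSup W j)
  have h2 : (⨆ (j) (_ : j ≠ i), W j) = ⨆ j ∈ Finset.univ.erase i, W j := by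
    apply le_antisymm
    · exact iSup₂_le fun j hj => le_iSup₂_of_le j (Finset.mem_erase.2 ⟨hj, Finset.mem_univ j⟩) le_rfl
    · exact iSup₂_le fun j hj => le_iSup₂_of_le j (Finset.mem_erase.1 hj).1 le_rfl
  have h3 := finrank_biSup_le_sum W (Finset.univ.erase i)
  rw [← h2] at h3
  have h4 := Submodule.finrank_sup_add_finrank_inf_eq (W i) (⨆ (j) (_ : j ≠ i), W j)
  rw [← h1] at h4
  have h5 : ∑ k, finrank F (W k) = finrank F (W i) + ∑ k ∈ Finset.univ.erase i, finrank F (W k) :=
    (Finset.add_sum_erase _ _ (Finset.mem_univ i)).symm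
  have h6 : finrank F ↥(W i ⊓ ⨆ (j) (_ : j ≠ i), W j) = 0 := by omega
  exact Submodule.finrank_eq_zero.1 h6

end Dim

section Decomp

variable {F : Type*} [Field F] {V : Type*} [AddCommGroup V] [Module F V]

/-- `W` is the sum of `t` subspaces of dimension `a` permuted by `A` -/
def HasDecompOn (A : Module.End F V) (a t : ℕ) (W : Submodule F V) : Prop :=
  ∃ D : Fin t → Submodule F V, (∀ j, finrank F (D j) = a) ∧ iSup D = W ∧
    ∃ σ : Equiv.Perm (Fin t), ∀ j, (D j).map A = D (σ j)

theorem hasDecompOn_zero (A : Module.End F V) (a : ℕ) : HasDecompOn A a 0 ⊥ :=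
  ⟨fun _ => ⊥, fun j => j.elim0, by simp, 1, fun j => j.elim0⟩

theorem hasDecompOn_one (A : Module.End F V) (a : ℕ) (W : Submodule F V) (hW : finrank F W = a)
    (hA : W.map A = W) : HasDecompOn A a 1 W :=
  ⟨fun _ => W, fun _ => hW, by simp, 1, fun _ => hA⟩

theorem hasDecompOn_congr (A : Module.End F V) (a : ℕ) {t t' : ℕ} (h : t = t')
    {W W' : Submodule F V} (hW : W = W') (H : HasDecompOn A a t W) : HasDecompOn A a t' W' := by
  subst h
  subst hW
  exact H

theorem hasDecompOn_add (A : Module.End F V) (a : ℕ) {t₁ t₂ : ℕ} {W₁ W₂ : Submodule F V}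
    (H₁ : HasDecompOn A a t₁ W₁) (H₂ : HasDecompOn A a t₂ W₂) :
    HasDecompOn A a (t₁ + t₂) (W₁ ⊔ W₂) := by
  obtain ⟨D₁, hD₁, hs₁, σ₁, hσ₁⟩ := H₁
  obtain ⟨D₂, hD₂, hs₂, σ₂, hσ₂⟩ := H₂
  refine ⟨fun j => Sum.elim D₁ D₂ (finSumFinEquiv.symm j), ?_, ?_,
    (finSumFinEquiv.symm.trans (Equiv.sumCongr σ₁ σ₂)).trans finSumFinEquiv, ?_⟩
  · intro j
    have h : ∀ x : Fin t₁ ⊕ Fin t₂,
        finrank F ↥(Sum.elim D₁ D₂ x : Submodule F V) = a := by
      rintro (i | i)
      · exact hD₁ i
      · exact hD₂ i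
    exact h _
  · rw [← hs₁, ← hs₂, ← finSumFinEquiv.symm.symm.iSup_comp
      (g := fun j => Sum.elim D₁ D₂ (finSumFinEquiv.symm j)), iSup_sum]
    simp
  · intro j
    have h : ∀ x : Fin t₁ ⊕ Fin t₂, (Sum.elim D₁ D₂ x).map A =
        Sum.elim D₁ D₂ (Equiv.sumCongr σ₁ σ₂ x) := by
      rintro (i | i)
      · exact hσ₁ i
      · exact hσ₂ i
    simp only [Equiv.trans_apply, Equiv.symm_apply_apply]
    exact h _

end Decomp

end Cfsg.Agent.Lib.Helper8.DecSt
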