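import Mathlib
import Cfsg.Prelude.Def_GeometricClasses
import Cfsg.Agent.Lib.Helper8.DecStA

/-!
# Cycles of subspaces and the passage to `IsMDecomposition` (helper8)
-/

set_option autoImplicit false
set_option linter.unusedSectionVars false
set_option linter.style.haveILetI false

namespace Cfsg.Agent.Lib.Helper8.DecSt

open Module

section Cycle

variable {F : Type*} [Field F] {V : Type*} [AddCommGroup V] [Module F V]

theorem pow_injective (A : Module.End F V) (hA : Function.Injective A) (s : ℕ) :
    Function.Injective (A ^ s) := by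
  rw [Module.End.coe_pow]
  exact hA.iterate s

theorem finrank_map_of_injective (f : Module.End F V) (hf : Function.Injective f)
    (D : Submodule F V) : finrank F (D.map f) = finrank F D :=
  (LinearEquiv.finrank_eq (Submodule.equivMapOfInjective f hf D)).symm

theorem map_map_pow (A : Module.End F V) (D₀ : Submodule F V) (s : ℕ) :
    (D₀.map (A ^ s)).map A = D₀.map (A ^ (s + 1)) := by
  rw [← Submodule.map_comp, pow_succ']
  rfl

/-- the images of `D₀` under the powers of `A` form a cycle of length `r` -/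
theorem hasDecompOn_cycle (A : Module.End F V) (hA : Function.Injective A) (a r : ℕ) (hr : 0 < r)
    (D₀ : Submodule F V) (hD₀ : finrank F D₀ = a) (hAr : D₀.map (A ^ r) = D₀) :
    HasDecompOn A a r (⨆ s : Fin r, D₀.map (A ^ (s : ℕ))) := by
  obtain ⟨r', rfl⟩ : ∃ r', r = r' + 1 := ⟨r - 1, by omega⟩
  refine ⟨fun s => D₀.map (A ^ (s : ℕ)), ?_, rfl, finRotate (r' + 1), ?_⟩
  · intro s
    rw [finrank_map_of_injective _ (pow_injective A hA _), hD₀]
  · intro s
    show (D₀.map (A ^ (s : ℕ))).map A = D₀.map (A ^ ((finRotate (r' + 1) s : Fin (r' + 1)) : ℕ))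
    rw [map_map_pow, coe_finRotate]
    split_ifs with h
    · rw [h, Fin.val_last, hAr, pow_zero]
      exact (Submodule.map_id D₀).symm
    · rfl

end Cycle

section Final

variable {F : Type*} [Field F] {n : ℕ}

theorem isMDecomposition_of_hasDecompOn (A : Module.End F (Fin n → F)) (a t : ℕ) (ha : 0 < a)
    (ht : 2 ≤ t) (hn : n = a * t) (H : HasDecompOn A a t ⊤) :
    ∃ D : Fin t → Submodule F (Fin n → F), Cfsg.Geo.IsMDecomposition a D ∧
      ∃ σ : Equiv.Perm (Fin t), ∀ j, (D j).map A = D (σ j) := by
  obtain ⟨D, hD, hsup, σ, hσ⟩ := H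
  refine ⟨D, ⟨ht, ha, hD, ?_, hsup⟩, σ, hσ⟩
  apply indep_of_finrank_le
  rw [hsup, finrank_top, Module.finrank_fin_fun, Finset.sum_congr rfl (fun j _ => hD j),
    Finset.sum_const, Finset.card_univ, Fintype.card_fin, smul_eq_mul, hn, mul_comm]

end Final

end Cfsg.Agent.Lib.Helper8.DecSt
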