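import Mathlib

/-!
# Invariant subspaces of an endomorphism: torsion vectors and cyclic subspaces (helper8)
-/

set_option autoImplicit false
set_option linter.unusedSectionVars false

namespace Cfsg.Agent.Lib.Helper8.InvSub

open Module Polynomial

section Basic

variable {F : Type*} [Field F] {V : Type*} [AddCommGroup V] [Module F V]

theorem pow_mem (A : Module.End F V) {W : Submodule F V} (hW : W ∈ A.invtSubmodule) (k : ℕ)
    {w : V} (hw : w ∈ W) : (A ^ k) w ∈ W := by
  induction k with
  | zero => simpa using hw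
  | succ k ih =>
    rw [pow_succ', Module.End.mul_apply]
    exact hW ih

theorem aeval_mem (A : Module.End F V) {W : Submodule F V} (hW : W ∈ A.invtSubmodule) (h : F[X])
    {w : V} (hw : w ∈ W) : aeval A h w ∈ W := by
  rw [aeval_eq_sum_range, LinearMap.sum_apply]
  apply Submodule.sum_mem
  intro k _
  rw [LinearMap.smul_apply]
  exact W.smul_mem _ (pow_mem A hW k hw)

theorem aeval_mul_apply (A : Module.End F V) (f g : F[X]) (v : V) :
    aeval A (f * g) v = aeval A f (aeval A g v) := by
  rw [map_mul, Module.End.mul_apply]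

theorem ker_aeval_mem_invt (A : Module.End F V) (f : F[X]) :
    LinearMap.ker (aeval A f) ∈ A.invtSubmodule := by
  intro v hv
  rw [Submodule.mem_comap, LinearMap.mem_ker]
  rw [LinearMap.mem_ker] at hv
  have h1 : aeval A f (A v) = aeval A (f * X) v := by
    rw [aeval_mul_apply, aeval_X]
  rw [h1, mul_comm, aeval_mul_apply, hv, map_zero]

/-- if an irreducible `g` kills `u ≠ 0` then it divides every polynomial killing `u` -/
theorem dvd_of_aeval_apply (A : Module.End F V) (g h : F[X]) (hg : Irreducible g)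
    (u : V) (hu : u ≠ 0) (hgu : aeval A g u = 0) (hhu : aeval A h u = 0) : g ∣ h := by
  by_contra hdvd
  obtain ⟨a, b, hab⟩ := (hg.coprime_iff_not_dvd.2 hdvd)
  apply hu
  have h1 : aeval A (a * g + b * h) u = u := by
    rw [hab, map_one, Module.End.one_apply]
  rw [map_add, LinearMap.add_apply, aeval_mul_apply, aeval_mul_apply, hgu, hhu, map_zero,
    map_zero, add_zero] at h1
  exact h1.symm

/-- a nonzero vector killed by `f ≠ 0` yields a nonzero vector killed by an irreducible factor -/
theorem exists_irr_torsion (A : Module.End F V) :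
    ∀ (d : ℕ) (f : F[X]), f.natDegree = d → f ≠ 0 → ∀ u : V, u ≠ 0 → aeval A f u = 0 →
      ∃ g h : F[X], Irreducible g ∧ g ∣ f ∧ aeval A h u ≠ 0 ∧ aeval A g (aeval A h u) = 0 := by
  intro d
  induction d using Nat.strong_induction_on with
  | _ d ih =>
    intro f hfd hf0 u hu hfu
    by_cases hunit : IsUnit f
    · exfalso
      obtain ⟨a, ha, rfl⟩ := Polynomial.isUnit_iff.1 hunit
      rw [aeval_C, Module.algebraMap_end_apply] at hfu
      rcases smul_eq_zero.1 hfu with h | h
      · exact ha.ne_zero h
      · exact hu h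
    · obtain ⟨g, hgirr, f', rfl⟩ := WfDvdMonoid.exists_irreducible_factor hunit hf0
      have hf'0 : f' ≠ 0 := right_ne_zero_of_mul hf0
      have hg0 : g ≠ 0 := hgirr.ne_zero
      by_cases hu1 : aeval A f' u = 0
      · have hlt : f'.natDegree < d := by
          rw [← hfd, natDegree_mul hg0 hf'0]
          have := hgirr.natDegree_pos
          omega
        obtain ⟨g₁, h₁, h1, h2, h3, h4⟩ := ih _ hlt f' rfl hf'0 u hu hu1
        exact ⟨g₁, h₁, h1, dvd_mul_of_dvd_right h2 g, h3, h4⟩
      · refine ⟨g, f', hgirr, dvd_mul_right g f', hu1, ?_⟩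
        rw [← aeval_mul_apply]
        exact hfu

/-- the span of the first `d` iterates of `u` under `A` -/
def cyc (A : Module.End F V) (u : V) (d : ℕ) : Submodule F V :=
  Submodule.span F (Set.range (fun j : Fin d => (A ^ (j : ℕ)) u))

theorem cyc_le (A : Module.End F V) {W : Submodule F V} (hW : W ∈ A.invtSubmodule) {u : V}
    (hu : u ∈ W) (d : ℕ) : cyc A u d ≤ W := by
  rw [cyc, Submodule.span_le]
  rintro _ ⟨j, rfl⟩
  exact pow_mem A hW _ hu

theorem cyc_indep (A : Module.End F V) (g : F[X]) (hg : Irreducible g) (u : V) (hu : u ≠ 0)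
    (hgu : aeval A g u = 0) :
    LinearIndependent F (fun j : Fin g.natDegree => (A ^ (j : ℕ)) u) := by
  classical
  rw [Fintype.linearIndependent_iff]
  intro a ha
  set h : F[X] := ∑ j : Fin g.natDegree, C (a j) * X ^ (j : ℕ) with hh
  have hhA : aeval A h u = 0 := by
    rw [hh, map_sum, LinearMap.sum_apply, ← ha]
    apply Finset.sum_congr rfl
    intro j _
    rw [map_mul, aeval_C, map_pow, aeval_X, Module.End.mul_apply, Module.algebraMap_end_apply]
  have hdeg : h.degree < g.natDegree := degree_sum_fin_lt a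
  have hdvd : g ∣ h := dvd_of_aeval_apply A g h hg u hu hgu hhA
  have hh0 : h = 0 := by
    by_contra hh0
    have h1 := natDegree_le_of_dvd hdvd hh0
    have h2 : h.natDegree < g.natDegree := (natDegree_lt_iff_degree_lt hh0).2 hdeg
    omega
  intro j
  have hcoeff : h.coeff (j : ℕ) = a j := by
    rw [hh, finsetSum_coeff]
    rw [Finset.sum_eq_single j]
    · rw [coeff_C_mul_X_pow, if_pos rfl]
    · intro b _ hb
      rw [coeff_C_mul_X_pow, if_neg]
      intro h
      exact hb (Fin.ext h.symm)
    · intro h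
      exact absurd (Finset.mem_univ j) h
  rw [← hcoeff, hh0, coeff_zero]

theorem finrank_cyc (A : Module.End F V) (g : F[X]) (hg : Irreducible g) (u : V) (hu : u ≠ 0)
    (hgu : aeval A g u = 0) : finrank F (cyc A u g.natDegree) = g.natDegree := by
  rw [cyc, finrank_span_eq_card (cyc_indep A g hg u hu hgu), Fintype.card_fin]

theorem mem_cyc_self (A : Module.End F V) (u : V) (d : ℕ) (hd : 0 < d) : u ∈ cyc A u d := by
  rw [cyc]
  apply Submodule.subset_span
  exact ⟨⟨0, hd⟩, by simp⟩

theorem cyc_invt (A : Module.End F V) (g : F[X]) (hg : Irreducible g) (u : V)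
    (hgu : aeval A g u = 0) : cyc A u g.natDegree ∈ A.invtSubmodule := by
  rw [Module.End.mem_invtSubmodule, cyc, Submodule.span_le]
  rintro _ ⟨j, rfl⟩
  rw [SetLike.mem_coe, Submodule.mem_comap]
  have hmem : ∀ k : ℕ, k < g.natDegree → (A ^ k) u ∈ cyc A u g.natDegree := by
    intro k hk
    rw [cyc]
    apply Submodule.subset_span
    exact ⟨⟨k, hk⟩, rfl⟩
  rw [← cyc, ← Module.End.mul_apply, ← pow_succ']
  by_cases hj : (j : ℕ) + 1 < g.natDegree
  · exact hmem _ hj
  · have hj' : (j : ℕ) + 1 = g.natDegree := by have := j.2; omega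
    rw [hj']
    have h1 := hgu
    rw [aeval_eq_sum_range, LinearMap.sum_apply, Finset.sum_range_succ] at h1
    have hlc : g.coeff g.natDegree ≠ 0 := by
      rw [coeff_natDegree]
      exact leadingCoeff_ne_zero.2 hg.ne_zero
    have h2 : (A ^ g.natDegree) u = -(g.coeff g.natDegree)⁻¹ •
        ∑ x ∈ Finset.range g.natDegree, (g.coeff x • A ^ x) u := by
      have h3 := eq_neg_of_add_eq_zero_right h1
      rw [LinearMap.smul_apply] at h3
      rw [neg_smul, ← smul_neg, ← h3, smul_smul, inv_mul_cancel₀ hlc, one_smul]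
    rw [h2]
    apply Submodule.smul_mem
    apply Submodule.sum_mem
    intro k hk
    rw [LinearMap.smul_apply]
    exact Submodule.smul_mem _ _ (hmem k (Finset.mem_range.1 hk))

end Basic

end Cfsg.Agent.Lib.Helper8.InvSub
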