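import Mathlib
import Cfsg.Agent.Lib.Helper8.InvSubA

/-!
# Invariant subspaces of a semisimple endomorphism inside a homogeneous torsion part (helper8)

If all irreducible factors of `f` have degree `d` and `A` is semisimple, the invariant subspaces of
`ker f(A)` have dimension divisible by `d`, and every multiple of `d` up to `dim ker f(A)` occurs.
-/

set_option autoImplicit false
set_option linter.unusedSectionVars false

namespace Cfsg.Agent.Lib.Helper8.InvSub

open Module Polynomial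

section Homog

variable {F : Type*} [Field F] {V : Type*} [AddCommGroup V] [Module F V]

/-- all irreducible factors of `f` have degree `d` -/
def AllDeg (f : F[X]) (d : ℕ) : Prop := ∀ g : F[X], Irreducible g → g ∣ f → g.natDegree = d

theorem inf_mem_invt (A : Module.End F V) {W₁ W₂ : Submodule F V} (h₁ : W₁ ∈ A.invtSubmodule)
    (h₂ : W₂ ∈ A.invtSubmodule) : W₁ ⊓ W₂ ∈ A.invtSubmodule := by
  intro v hv
  exact ⟨h₁ hv.1, h₂ hv.2⟩

theorem sup_mem_invt (A : Module.End F V) {W₁ W₂ : Submodule F V} (h₁ : W₁ ∈ A.invtSubmodule)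
    (h₂ : W₂ ∈ A.invtSubmodule) : W₁ ⊔ W₂ ∈ A.invtSubmodule := by
  rw [Module.End.mem_invtSubmodule_iff_map_le, Submodule.map_sup]
  exact sup_le_sup ((Module.End.mem_invtSubmodule_iff_map_le A).1 h₁)
    ((Module.End.mem_invtSubmodule_iff_map_le A).1 h₂)

variable [FiniteDimensional F V]

/-- inside a nonzero invariant subspace of `ker f(A)`, a cyclic invariant subspace of dimension `d` -/
theorem exists_cyc_le (A : Module.End F V) (f : F[X]) (hf0 : f ≠ 0) (d : ℕ) (hd : AllDeg f d)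
    (W : Submodule F V) (hW : W ∈ A.invtSubmodule) (hWf : W ≤ LinearMap.ker (aeval A f))
    (hW0 : W ≠ ⊥) :
    ∃ Z : Submodule F V, Z ∈ A.invtSubmodule ∧ Z ≤ W ∧ finrank F Z = d ∧ 0 < d := by
  obtain ⟨u, huW, hu0⟩ := Submodule.exists_mem_ne_zero_of_ne_bot hW0
  have hfu : aeval A f u = 0 := LinearMap.mem_ker.1 (hWf huW)
  obtain ⟨g, h, hgirr, hgf, hu', hgu'⟩ := exists_irr_torsion A f.natDegree f rfl hf0 u hu0 hfu
  have hgd : g.natDegree = d := hd g hgirr hgf
  refine ⟨cyc A (aeval A h u) g.natDegree, cyc_invt A g hgirr _ hgu',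
    cyc_le A hW (aeval_mem A hW h huW) _, ?_, ?_⟩
  · rw [finrank_cyc A g hgirr _ hu' hgu', hgd]
  · rw [← hgd]
    exact hgirr.natDegree_pos

/-- the dimension of an invariant subspace of `ker f(A)` is divisible by `d` -/
theorem dvd_finrank (A : Module.End F V) (hss : A.IsSemisimple) (f : F[X]) (hf0 : f ≠ 0) (d : ℕ)
    (hd : AllDeg f d) :
    ∀ (k : ℕ) (W : Submodule F V), finrank F W = k → W ∈ A.invtSubmodule →
      W ≤ LinearMap.ker (aeval A f) → d ∣ k := by
  intro k
  induction k using Nat.strong_induction_on with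
  | _ k ih =>
    intro W hWk hW hWf
    by_cases hW0 : W = ⊥
    · rw [hW0, finrank_bot] at hWk
      rw [← hWk]
      exact dvd_zero d
    · obtain ⟨Z, hZ, hZW, hZd, hdpos⟩ := exists_cyc_le A f hf0 d hd W hW hWf hW0
      obtain ⟨Z', hZ', hcompl⟩ := (Module.End.isSemisimple_iff.1 hss) Z hZ
      have hW₁ : W ⊓ Z' ∈ A.invtSubmodule := inf_mem_invt A hW hZ'
      have hsup : Z ⊔ (W ⊓ Z') = W := by
        have := sup_inf_assoc_of_le Z' hZW
        rw [hcompl.sup_eq_top, top_inf_eq, inf_comm] at this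
        exact this.symm
      have hinf : Z ⊓ (W ⊓ Z') = ⊥ := by
        apply le_antisymm _ bot_le
        calc Z ⊓ (W ⊓ Z') ≤ Z ⊓ Z' := inf_le_inf_left Z inf_le_right
          _ = ⊥ := hcompl.inf_eq_bot
      have hdim := Submodule.finrank_sup_add_finrank_inf_eq Z (W ⊓ Z')
      rw [hsup, hinf, finrank_bot, add_zero, hWk, hZd] at hdim
      have hlt : finrank F ↥(W ⊓ Z') < k := by omega
      have := ih _ hlt (W ⊓ Z') rfl hW₁ (le_trans inf_le_left hWf)
      rw [hdim]
      exact dvd_add (dvd_refl d) this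

/-- an invariant subspace of `ker f(A)` other than `ker f(A)` extends by `d` dimensions -/
theorem exists_extend (A : Module.End F V) (hss : A.IsSemisimple) (f : F[X]) (hf0 : f ≠ 0) (d : ℕ)
    (hd : AllDeg f d) (W : Submodule F V) (hW : W ∈ A.invtSubmodule)
    (hWf : W ≤ LinearMap.ker (aeval A f)) (hne : W ≠ LinearMap.ker (aeval A f)) :
    ∃ W₂ : Submodule F V, W₂ ∈ A.invtSubmodule ∧ W ≤ W₂ ∧ W₂ ≤ LinearMap.ker (aeval A f) ∧
      finrank F W₂ = finrank F W + d := by
  set D := LinearMap.ker (aeval A f) with hD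
  have hDinv : D ∈ A.invtSubmodule := ker_aeval_mem_invt A f
  obtain ⟨W', hW', hcompl⟩ := (Module.End.isSemisimple_iff.1 hss) W hW
  have hY : W' ⊓ D ∈ A.invtSubmodule := inf_mem_invt A hW' hDinv
  have hY0 : W' ⊓ D ≠ ⊥ := by
    intro h0
    apply hne
    have := sup_inf_assoc_of_le W' hWf
    rw [hcompl.sup_eq_top, top_inf_eq, h0, sup_bot_eq] at this
    exact this.symm
  obtain ⟨Z, hZ, hZY, hZd, _⟩ := exists_cyc_le A f hf0 d hd (W' ⊓ D) hY inf_le_right hY0
  refine ⟨W ⊔ Z, sup_mem_invt A hW hZ, le_sup_left, sup_le hWf (le_trans hZY inf_le_right), ?_⟩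
  have hinf : W ⊓ Z = ⊥ := by
    apply le_antisymm _ bot_le
    calc W ⊓ Z ≤ W ⊓ W' := inf_le_inf_left W (le_trans hZY inf_le_left)
      _ = ⊥ := hcompl.inf_eq_bot
  have hdim := Submodule.finrank_sup_add_finrank_inf_eq W Z
  rw [hinf, finrank_bot, add_zero, hZd] at hdim
  exact hdim

/-- invariant subspaces of `ker f(A)` of every dimension `a * d` up to `dim ker f(A)` -/
theorem exists_invt_mul (A : Module.End F V) (hss : A.IsSemisimple) (f : F[X]) (hf0 : f ≠ 0)
    (d : ℕ) (hd : AllDeg f d) (a : ℕ) (ha : a * d ≤ finrank F (LinearMap.ker (aeval A f))) :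
    ∃ W : Submodule F V, W ∈ A.invtSubmodule ∧ W ≤ LinearMap.ker (aeval A f) ∧
      finrank F W = a * d := by
  induction a with
  | zero =>
    refine ⟨⊥, ?_, bot_le, by rw [finrank_bot, zero_mul]⟩
    intro v hv
    rw [Submodule.mem_bot] at hv
    rw [Submodule.mem_comap, hv, map_zero]
    exact Submodule.zero_mem _
  | succ a ih =>
    have h1 : a * d ≤ finrank F (LinearMap.ker (aeval A f)) := by
      have : a * d ≤ (a + 1) * d := Nat.mul_le_mul_right d (Nat.le_succ a)
      omega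
    obtain ⟨W, hW, hWf, hWd⟩ := ih h1
    by_cases hd0 : d = 0
    · refine ⟨W, hW, hWf, ?_⟩
      rw [hWd, hd0, mul_zero, mul_zero]
    · have hne : W ≠ LinearMap.ker (aeval A f) := by
        intro h
        rw [h] at hWd
        rw [hWd, Nat.succ_mul] at ha
        have : 0 < d := Nat.pos_of_ne_zero hd0
        omega
      obtain ⟨W₂, hW₂, _, hW₂f, hW₂d⟩ := exists_extend A hss f hf0 d hd W hW hWf hne
      exact ⟨W₂, hW₂, hW₂f, by rw [hW₂d, hWd, Nat.succ_mul]⟩

end Homog

end Cfsg.Agent.Lib.Helper8.InvSub
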