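import Mathlib

/-!
# Matrices of prime order `n` in dimension `n`: cyclic vectors (helper8)

When `1 + X + ⋯ + X^(n-1)` is irreducible over `F`, a matrix `M ≠ 1` with `M ^ n = 1` that fixes a
nonzero vector has a cyclic vector.
-/

set_option autoImplicit false
set_option linter.unusedSectionVars false

namespace Cfsg.Agent.Lib.Helper8.SingerN

open Matrix Module Polynomial

section Cyc

variable {F : Type*} [Field F] {n : ℕ}

/-- if an irreducible `f` kills `u ≠ 0` then it divides every polynomial killing `u` -/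
theorem dvd_of_aeval_mulVec (M : Matrix (Fin n) (Fin n) F) (f g : F[X]) (hf : Irreducible f)
    (u : Fin n → F) (hu : u ≠ 0) (hfu : (aeval M f) *ᵥ u = 0) (hgu : (aeval M g) *ᵥ u = 0) :
    f ∣ g := by
  by_contra hdvd
  obtain ⟨a, b, hab⟩ := (hf.coprime_iff_not_dvd.2 hdvd)
  apply hu
  have h1 : (aeval M (a * f + b * g)) *ᵥ u = u := by
    rw [hab, map_one, Matrix.one_mulVec]
  rw [map_add, map_mul, map_mul, Matrix.add_mulVec, ← Matrix.mulVec_mulVec,
    ← Matrix.mulVec_mulVec, hfu, hgu, Matrix.mulVec_zero, Matrix.mulVec_zero, add_zero] at h1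
  exact h1.symm

/-- the polynomial `1 + X + ⋯ + X^(n-1)` -/
noncomputable def geomPoly (F : Type*) [Field F] (n : ℕ) : F[X] := ∑ i ∈ Finset.range n, X ^ i

theorem geomPoly_mul (n : ℕ) : geomPoly F n * (X - 1) = X ^ n - 1 := by
  rw [geomPoly]
  exact geom_sum_mul X n

theorem aeval_geomPoly (M : Matrix (Fin n) (Fin n) F) (m : ℕ) :
    aeval M (geomPoly F m) = ∑ i ∈ Finset.range m, M ^ i := by
  rw [geomPoly, map_sum]
  apply Finset.sum_congr rfl
  intro i _
  rw [map_pow, aeval_X]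

theorem natDegree_geomPoly (m : ℕ) (hm : 1 ≤ m) : (geomPoly F m).natDegree = m - 1 := by
  have h1 : (geomPoly F m * (X - 1)).natDegree = m := by
    rw [geomPoly_mul]
    exact natDegree_X_pow_sub_C (R := F) (n := m) (r := 1)
  have h0 : geomPoly F m ≠ 0 := by
    intro h
    rw [h, zero_mul, natDegree_zero] at h1
    omega
  rw [show (X - 1 : F[X]) = X - C 1 by simp, natDegree_mul h0 (X_sub_C_ne_zero (1 : F)),
    natDegree_X_sub_C] at h1
  omega

theorem exists_mulVec_ne_zero (M : Matrix (Fin n) (Fin n) F) (hM : M ≠ 0) :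
    ∃ v : Fin n → F, M *ᵥ v ≠ 0 := by
  by_contra hcon
  push Not at hcon
  apply hM
  apply Matrix.toLin'.injective
  apply LinearMap.ext
  intro v
  rw [Matrix.toLin'_apply, hcon v, map_zero, LinearMap.zero_apply]

theorem pow_mulVec_fixed (M : Matrix (Fin n) (Fin n) F) (e₀ : Fin n → F) (hMe : M *ᵥ e₀ = e₀)
    (i : ℕ) : (M ^ i) *ᵥ e₀ = e₀ := by
  induction i with
  | zero => rw [pow_zero, Matrix.one_mulVec]
  | succ i ih => rw [pow_succ, ← Matrix.mulVec_mulVec, hMe, ih]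

theorem aeval_geomPoly_mulVec_fixed (M : Matrix (Fin n) (Fin n) F) (e₀ : Fin n → F)
    (hMe : M *ᵥ e₀ = e₀) (m : ℕ) : (aeval M (geomPoly F m)) *ᵥ e₀ = (m : F) • e₀ := by
  rw [aeval_geomPoly, Matrix.sum_mulVec]
  rw [Finset.sum_congr rfl (fun i _ => pow_mulVec_fixed M e₀ hMe i), Finset.sum_const,
    Finset.card_range, Nat.cast_smul_eq_nsmul]

/-- a matrix `M ≠ 1` of order `n` with a fixed vector has a cyclic vector, when the `n`-th
cyclotomic polynomial is irreducible -/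
theorem exists_cyclic (hn : 3 ≤ n) (hn0 : (n : F) ≠ 0) (hirr : Irreducible (geomPoly F n))
    (M : Matrix (Fin n) (Fin n) F) (hM : M ^ n = 1) (hM1 : M ≠ 1)
    (e₀ : Fin n → F) (he₀ : e₀ ≠ 0) (hMe : M *ᵥ e₀ = e₀) :
    ∃ v : Fin n → F, LinearIndependent F (fun j : Fin n => (M ^ (j : ℕ)) *ᵥ v) := by
  classical
  obtain ⟨v', hv'⟩ := exists_mulVec_ne_zero (M - 1) (sub_ne_zero.2 hM1)
  set u : Fin n → F := (M - 1) *ᵥ v' with hu
  set Φ := geomPoly F n with hΦ
  have hM1' : aeval M (X - 1 : F[X]) = M - 1 := by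
    rw [map_sub, aeval_X, map_one]
  have hΦu : (aeval M Φ) *ᵥ u = 0 := by
    rw [hu, Matrix.mulVec_mulVec, ← hM1', ← map_mul, hΦ, geomPoly_mul, map_sub, map_pow, aeval_X,
      map_one, hM, sub_self, Matrix.zero_mulVec]
  have hΦdeg : Φ.natDegree = n - 1 := natDegree_geomPoly n (by omega)
  have hΦ0 : Φ ≠ 0 := hirr.ne_zero
  refine ⟨e₀ + u, ?_⟩
  rw [Fintype.linearIndependent_iff]
  intro a ha
  set g : F[X] := ∑ j : Fin n, C (a j) * X ^ (j : ℕ) with hg
  have hgM : aeval M g = ∑ j : Fin n, a j • M ^ (j : ℕ) := by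
    rw [hg, map_sum]
    apply Finset.sum_congr rfl
    intro j _
    rw [map_mul, aeval_C, map_pow, aeval_X, Algebra.algebraMap_eq_smul_one, smul_mul_assoc,
      one_mul]
  have hgv : (aeval M g) *ᵥ (e₀ + u) = 0 := by
    rw [hgM, Matrix.sum_mulVec, ← ha]
    apply Finset.sum_congr rfl
    intro j _
    rw [Matrix.smul_mulVec]
  have hdeg : g.degree < n := degree_sum_fin_lt a
  -- step 1
  have h1 : (aeval M ((X - 1) * g)) *ᵥ u = 0 := by
    have h2 : (aeval M ((X - 1) * g)) *ᵥ (e₀ + u) = 0 := by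
      rw [map_mul, ← Matrix.mulVec_mulVec, hgv, Matrix.mulVec_zero]
    have h3 : (aeval M ((X - 1) * g)) *ᵥ e₀ = 0 := by
      rw [mul_comm, map_mul, ← Matrix.mulVec_mulVec, hM1', Matrix.sub_mulVec, hMe,
        Matrix.one_mulVec, sub_self, Matrix.mulVec_zero]
    rw [Matrix.mulVec_add, h3, zero_add] at h2
    exact h2
  have hu0 : u ≠ 0 := hv'
  have h4 : Φ ∣ (X - 1) * g := dvd_of_aeval_mulVec M Φ _ hirr u hu0 hΦu h1
  have h5 : Φ ∣ g := by
    rcases hirr.prime.dvd_or_dvd h4 with h | h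
    · exfalso
      have hX1 : (X - 1 : F[X]) ≠ 0 := by
        rw [show (X - 1 : F[X]) = X - C 1 by simp]
        exact X_sub_C_ne_zero 1
      have := natDegree_le_of_dvd h hX1
      rw [hΦdeg, show (X - 1 : F[X]) = X - C 1 by simp, natDegree_X_sub_C] at this
      omega
    · exact h
  obtain ⟨h, hh⟩ := h5
  have hg0 : g = 0 := by
    by_contra hg0
    have hh0 : h ≠ 0 := by
      intro h0
      rw [h0, mul_zero] at hh
      exact hg0 hh
    have hnd : g.natDegree < n := (natDegree_lt_iff_degree_lt hg0).2 hdeg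
    rw [hh, natDegree_mul hΦ0 hh0, hΦdeg] at hnd
    have hh1 : h.natDegree = 0 := by omega
    obtain ⟨c, hc⟩ : ∃ c : F, h = C c := ⟨_, eq_C_of_natDegree_eq_zero hh1⟩
    rw [hh, hc, mul_comm, map_mul, aeval_C, ← Matrix.mulVec_mulVec, Matrix.mulVec_add, hΦu,
      add_zero, aeval_geomPoly_mulVec_fixed M e₀ hMe, Algebra.algebraMap_eq_smul_one,
      Matrix.smul_mulVec, Matrix.one_mulVec, smul_smul] at hgv
    rcases smul_eq_zero.1 hgv with h6 | h6
    · rcases mul_eq_zero.1 h6 with h7 | h7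
      · apply hh0
        rw [hc, h7, map_zero]
      · exact hn0 h7
    · exact he₀ h6
  intro j
  have hcoeff : g.coeff (j : ℕ) = a j := by
    rw [hg, finsetSum_coeff]
    rw [Finset.sum_eq_single j]
    · rw [coeff_C_mul_X_pow, if_pos rfl]
    · intro b _ hb
      rw [coeff_C_mul_X_pow, if_neg]
      intro h
      exact hb (Fin.ext h.symm)
    · intro h
      exact absurd (Finset.mem_univ j) h
  rw [← hcoeff, hg0, coeff_zero]

/-- two matrices of order `n` with cyclic vectors are conjugate -/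
theorem conj_of_cyclic (hn : 1 ≤ n) (hroot : ∀ a : F, ∃ b : F, b ^ n = a)
    (A B : Matrix (Fin n) (Fin n) F) (hA : A ^ n = 1) (hB : B ^ n = 1) (v w : Fin n → F)
    (hv : LinearIndependent F (fun j : Fin n => (A ^ (j : ℕ)) *ᵥ v))
    (hw : LinearIndependent F (fun j : Fin n => (B ^ (j : ℕ)) *ᵥ w)) :
    ∃ T : Matrix (Fin n) (Fin n) F, T.det = 1 ∧ T * A = B * T := by
  classical
  haveI : Nonempty (Fin n) := ⟨⟨0, hn⟩⟩
  obtain ⟨bA, hbA⟩ : ∃ bA : Basis (Fin n) F (Fin n → F), ∀ j : Fin n, bA j = (A ^ (j : ℕ)) *ᵥ v :=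
    ⟨basisOfLinearIndependentOfCardEqFinrank hv (by simp), fun j => by
      rw [coe_basisOfLinearIndependentOfCardEqFinrank]⟩
  obtain ⟨bB, hbB⟩ : ∃ bB : Basis (Fin n) F (Fin n → F), ∀ j : Fin n, bB j = (B ^ (j : ℕ)) *ᵥ w :=
    ⟨basisOfLinearIndependentOfCardEqFinrank hw (by simp), fun j => by
      rw [coe_basisOfLinearIndependentOfCardEqFinrank]⟩
  obtain ⟨L₁, hL₁⟩ : ∃ L₁ : (Fin n → F) ≃ₗ[F] (Fin n → F),
      L₁ = bA.equiv bB (Equiv.refl (Fin n)) := ⟨_, rfl⟩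
  have hL₁b : ∀ i, L₁ (bA i) = bB i := by
    intro i
    rw [hL₁, Basis.equiv_apply, Equiv.refl_apply]
  obtain ⟨δ, hδ⟩ : ∃ δ : F, δ = LinearMap.det (L₁ : (Fin n → F) →ₗ[F] (Fin n → F)) := ⟨_, rfl⟩
  have hδ0 : δ ≠ 0 := by
    rw [hδ]
    exact (LinearEquiv.isUnit_det' L₁).ne_zero
  obtain ⟨c, hc⟩ := hroot δ⁻¹
  obtain ⟨T₀, hT₀⟩ : ∃ T₀ : Matrix (Fin n) (Fin n) F,
      T₀ = LinearMap.toMatrix' (L₁ : (Fin n → F) →ₗ[F] (Fin n → F)) := ⟨_, rfl⟩
  have hT₀det : T₀.det = δ := by rw [hT₀, LinearMap.det_toMatrix', hδ]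
  have hcomm : (L₁ : (Fin n → F) →ₗ[F] (Fin n → F)) ∘ₗ Matrix.toLin' A =
      Matrix.toLin' B ∘ₗ (L₁ : (Fin n → F) →ₗ[F] (Fin n → F)) := by
    apply bA.ext
    intro i
    rw [LinearMap.comp_apply, LinearMap.comp_apply, LinearEquiv.coe_coe,
      hL₁b, Matrix.toLin'_apply, Matrix.toLin'_apply, hbA, hbB, Matrix.mulVec_mulVec,
      Matrix.mulVec_mulVec, ← pow_succ', ← pow_succ']
    by_cases hi : (i : ℕ) + 1 < n
    · have e1 := hbA ⟨(i : ℕ) + 1, hi⟩
      have e2 := hbB ⟨(i : ℕ) + 1, hi⟩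
      simp only at e1 e2
      rw [← e1, hL₁b, e2]
    · have hi' : (i : ℕ) + 1 = n := by have := i.2; omega
      have hpos : 0 < n := by omega
      have e1 := hbA ⟨0, hpos⟩
      have e2 := hbB ⟨0, hpos⟩
      simp only [pow_zero, Matrix.one_mulVec] at e1 e2
      rw [hi', hA, hB, Matrix.one_mulVec, Matrix.one_mulVec, ← e1, hL₁b, e2]
  have hT₀A : T₀ * A = B * T₀ := by
    have := congrArg LinearMap.toMatrix' hcomm
    rw [LinearMap.toMatrix'_comp, LinearMap.toMatrix'_comp, LinearMap.toMatrix'_toLin',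
      LinearMap.toMatrix'_toLin', ← hT₀] at this
    exact this
  refine ⟨c • T₀, ?_, ?_⟩
  · rw [Matrix.det_smul, Fintype.card_fin, hT₀det, hc, inv_mul_cancel₀ hδ0]
  · rw [Matrix.smul_mul, Matrix.mul_smul, hT₀A]

end Cyc

end Cfsg.Agent.Lib.Helper8.SingerN
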