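import Mathlib
import Cfsg.Agent.Lib.Helper8.InvSubB
import Cfsg.Agent.Lib.Helper8.SingerNA

/-!
# Invariant subspaces of an endomorphism of finite order prime to the characteristic (helper8)
-/

set_option autoImplicit false
set_option linter.unusedSectionVars false

namespace Cfsg.Agent.Lib.Helper8.InvSub

open Module Polynomial Cfsg.Agent.Lib.Helper8.SingerN

section Split

variable {F : Type*} [Field F] {V : Type*} [AddCommGroup V] [Module F V]

/-- an invariant subspace splits along coprime factors of an annihilating polynomial -/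
theorem inf_sup_inf_eq (A : Module.End F V) (f₁ f₂ : F[X]) (hcop : IsCoprime f₁ f₂)
    (h12 : aeval A (f₁ * f₂) = 0) (W : Submodule F V) (hW : W ∈ A.invtSubmodule) :
    (W ⊓ LinearMap.ker (aeval A f₁)) ⊔ (W ⊓ LinearMap.ker (aeval A f₂)) = W := by
  apply le_antisymm (sup_le inf_le_left inf_le_left)
  intro w hw
  obtain ⟨a, b, hab⟩ := hcop
  have h1 : w = aeval A (b * f₂) w + aeval A (a * f₁) w := by
    rw [← LinearMap.add_apply, ← map_add, add_comm, hab, map_one, Module.End.one_apply]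
  rw [h1]
  apply Submodule.add_mem_sup
  · refine Submodule.mem_inf.2 ⟨aeval_mem A hW _ hw, ?_⟩
    rw [LinearMap.mem_ker, ← aeval_mul_apply,
      show f₁ * (b * f₂) = b * (f₁ * f₂) by ring, map_mul, h12, mul_zero, LinearMap.zero_apply]
  · refine Submodule.mem_inf.2 ⟨aeval_mem A hW _ hw, ?_⟩
    rw [LinearMap.mem_ker, ← aeval_mul_apply,
      show f₂ * (a * f₁) = a * (f₁ * f₂) by ring, map_mul, h12, mul_zero, LinearMap.zero_apply]

theorem ker_inf_ker_eq_bot (A : Module.End F V) (f₁ f₂ : F[X]) (hcop : IsCoprime f₁ f₂) :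
    LinearMap.ker (aeval A f₁) ⊓ LinearMap.ker (aeval A f₂) = ⊥ :=
  (Polynomial.disjoint_ker_aeval_of_isCoprime A hcop).eq_bot

theorem finrank_split [FiniteDimensional F V] (A : Module.End F V) (f₁ f₂ : F[X])
    (hcop : IsCoprime f₁ f₂) (h12 : aeval A (f₁ * f₂) = 0) (W : Submodule F V)
    (hW : W ∈ A.invtSubmodule) :
    finrank F W = finrank F ↥(W ⊓ LinearMap.ker (aeval A f₁)) +
      finrank F ↥(W ⊓ LinearMap.ker (aeval A f₂)) := by
  have h1 := Submodule.finrank_sup_add_finrank_inf_eq (W ⊓ LinearMap.ker (aeval A f₁))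
    (W ⊓ LinearMap.ker (aeval A f₂))
  have h2 : (W ⊓ LinearMap.ker (aeval A f₁)) ⊓ (W ⊓ LinearMap.ker (aeval A f₂)) = ⊥ := by
    apply le_antisymm _ bot_le
    calc (W ⊓ LinearMap.ker (aeval A f₁)) ⊓ (W ⊓ LinearMap.ker (aeval A f₂))
        ≤ LinearMap.ker (aeval A f₁) ⊓ LinearMap.ker (aeval A f₂) :=
          inf_le_inf inf_le_right inf_le_right
      _ = ⊥ := ker_inf_ker_eq_bot A f₁ f₂ hcop
  rw [inf_sup_inf_eq A f₁ f₂ hcop h12 W hW, h2, finrank_bot, add_zero] at h1
  exact h1

end Split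

section FiniteOrder

variable {F : Type*} [Field F] {V : Type*} [AddCommGroup V] [Module F V]

theorem isCoprime_X_sub_one_geomPoly (r : ℕ) (hr : (r : F) ≠ 0) :
    IsCoprime (X - C (1 : F)) (geomPoly F r) := by
  rw [(irreducible_X_sub_C (1 : F)).coprime_iff_not_dvd, dvd_iff_isRoot, IsRoot.def, geomPoly,
    eval_finsetSum]
  simp only [eval_pow, eval_X, one_pow, Finset.sum_const, Finset.card_range, nsmul_eq_mul,
    mul_one]
  exact hr

theorem aeval_X_sub_one_mul_geomPoly (A : Module.End F V) (r : ℕ) (hA : A ^ r = 1) :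
    aeval A ((X - C (1 : F)) * geomPoly F r) = 0 := by
  rw [mul_comm, show (X - C (1 : F)) = X - 1 by simp, geomPoly_mul, map_sub, map_pow, aeval_X,
    map_one, hA, sub_self]

theorem isSemisimple_of_pow_eq_one [FiniteDimensional F V] (A : Module.End F V) (r : ℕ)
    (hr : (r : F) ≠ 0) (hA : A ^ r = 1) : A.IsSemisimple := by
  apply Module.End.isSemisimple_of_squarefree_aeval_eq_zero
    (p := (Polynomial.X : F[X]) ^ r - C 1)
  · exact (separable_X_pow_sub_C (1 : F) hr one_ne_zero).squarefree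
  · rw [map_sub, map_pow, aeval_X, aeval_C, hA, map_one]
    exact sub_self _

theorem mem_ker_X_sub_one (A : Module.End F V) (v : V) :
    v ∈ LinearMap.ker (aeval A (X - C (1 : F))) ↔ A v = v := by
  rw [LinearMap.mem_ker, map_sub, aeval_X, aeval_C, map_one, LinearMap.sub_apply,
    Module.End.one_apply, sub_eq_zero]

theorem le_fixed_mem_invt (A : Module.End F V) (W : Submodule F V)
    (hW : W ≤ LinearMap.ker (aeval A (X - C (1 : F)))) : W ∈ A.invtSubmodule := by
  intro v hv
  rw [Submodule.mem_comap, (mem_ker_X_sub_one A v).1 (hW hv)]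
  exact hv

theorem geomPoly_ne_zero (r : ℕ) (hr : (r : F) ≠ 0) : geomPoly F r ≠ 0 := by
  intro h0
  have h1 : eval 1 (geomPoly F r) = (r : F) := by
    rw [geomPoly, eval_finsetSum]
    simp
  rw [h0, eval_zero] at h1
  exact hr h1.symm

variable [FiniteDimensional F V]

/-- subspaces of every smaller dimension -/
theorem exists_le_finrank_eq (C : Submodule F V) {k : ℕ} (hk : k ≤ finrank F C) :
    ∃ K : Submodule F V, K ≤ C ∧ finrank F K = k := by
  obtain ⟨g, hg⟩ := exists_linearIndependent_of_le_finrank (R := F) (M := ↥C) hk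
  refine ⟨(Submodule.span F (Set.range g)).map C.subtype, Submodule.map_subtype_le _ _, ?_⟩
  rw [Submodule.finrank_map_subtype_eq, finrank_span_eq_card hg, Fintype.card_fin]

/-- dimensions of the fixed space and of the complement -/
theorem finrank_fixed_add (A : Module.End F V) (r : ℕ) (hr : (r : F) ≠ 0) (hA : A ^ r = 1) :
    finrank F V = finrank F (LinearMap.ker (aeval A (X - C (1 : F)))) +
      finrank F (LinearMap.ker (aeval A (geomPoly F r))) := by
  have := finrank_split A _ _ (isCoprime_X_sub_one_geomPoly r hr)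
    (aeval_X_sub_one_mul_geomPoly A r hA) ⊤ (by
      intro v _
      exact Submodule.mem_top)
  rw [top_inf_eq, top_inf_eq, finrank_top] at this
  exact this

/-- (existence) an invariant subspace of dimension `m` when `m % i ≤ n % i` -/
theorem exists_invt_of_pow_eq_one (A : Module.End F V) (r : ℕ) (hr : (r : F) ≠ 0)
    (hA : A ^ r = 1) (i : ℕ) (hi : AllDeg (geomPoly F r) i) (m : ℕ)
    (hm : m ≤ finrank F V) (hmod : m % i ≤ finrank F V % i) :
    ∃ W : Submodule F V, finrank F W = m ∧ W ∈ A.invtSubmodule := by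
  have hss := isSemisimple_of_pow_eq_one A r hr hA
  have hΦ0 := geomPoly_ne_zero (F := F) r hr
  set C := LinearMap.ker (aeval A (X - C (1 : F))) with hC
  set D := LinearMap.ker (aeval A (geomPoly F r)) with hD
  have hn := finrank_fixed_add A r hr hA
  rw [← hC, ← hD] at hn
  have hDinv : D ∈ A.invtSubmodule := ker_aeval_mem_invt A _
  obtain ⟨t, ht⟩ := dvd_finrank A hss (geomPoly F r) hΦ0 i hi _ D rfl hDinv le_rfl
  have hCD : C ⊓ D = ⊥ := ker_inf_ker_eq_bot A _ _ (isCoprime_X_sub_one_geomPoly r hr)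
  have hCmod : finrank F V % i ≤ finrank F C := by
    have h1 : finrank F V % i = finrank F C % i := by
      rw [hn, ht, Nat.add_mul_mod_self_left]
    rw [h1]
    exact Nat.mod_le _ _
  have key : ∀ (W₁ W₂ : Submodule F V), W₁ ≤ D → W₂ ≤ C →
      finrank F ↥(W₁ ⊔ W₂) = finrank F W₁ + finrank F W₂ := by
    intro W₁ W₂ h1 h2
    have h3 := Submodule.finrank_sup_add_finrank_inf_eq W₁ W₂
    have h4 : W₁ ⊓ W₂ = ⊥ := by
      apply le_antisymm _ bot_le
      calc W₁ ⊓ W₂ ≤ D ⊓ C := inf_le_inf h1 h2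
        _ = ⊥ := by rw [inf_comm]; exact hCD
    rw [h4, finrank_bot, add_zero] at h3
    exact h3
  by_cases hcase : m / i * i ≤ finrank F D
  · obtain ⟨W₁, hW₁, hW₁D, hW₁d⟩ := exists_invt_mul A hss (geomPoly F r) hΦ0 i hi (m / i) hcase
    obtain ⟨W₂, hW₂C, hW₂d⟩ := exists_le_finrank_eq C (le_trans hmod hCmod)
    refine ⟨W₁ ⊔ W₂, ?_, sup_mem_invt A hW₁ (le_fixed_mem_invt A W₂ hW₂C)⟩
    rw [key W₁ W₂ hW₁D hW₂C, hW₁d, hW₂d]
    exact Nat.div_add_mod' m i
  · have h1 : m - finrank F D ≤ finrank F C := by omega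
    obtain ⟨W₂, hW₂C, hW₂d⟩ := exists_le_finrank_eq C h1
    refine ⟨D ⊔ W₂, ?_, sup_mem_invt A hDinv (le_fixed_mem_invt A W₂ hW₂C)⟩
    rw [key D W₂ le_rfl hW₂C, hW₂d]
    have h2 : finrank F D < m / i * i := by omega
    have h3 : m / i * i ≤ m := Nat.div_mul_le_self m i
    omega

/-- (necessity) the dimension of an invariant subspace -/
theorem finrank_invt_of_pow_eq_one (A : Module.End F V) (r : ℕ) (hr : (r : F) ≠ 0)
    (hA : A ^ r = 1) (i : ℕ) (hi : AllDeg (geomPoly F r) i) (W : Submodule F V)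
    (hW : W ∈ A.invtSubmodule) :
    ∃ a : ℕ, finrank F W = finrank F ↥(W ⊓ LinearMap.ker (aeval A (X - C (1 : F)))) + i * a := by
  have hss := isSemisimple_of_pow_eq_one A r hr hA
  have hΦ0 := geomPoly_ne_zero (F := F) r hr
  have h1 := finrank_split A _ _ (isCoprime_X_sub_one_geomPoly r hr)
    (aeval_X_sub_one_mul_geomPoly A r hA) W hW
  obtain ⟨a, ha⟩ := dvd_finrank A hss (geomPoly F r) hΦ0 i hi _
    (W ⊓ LinearMap.ker (aeval A (geomPoly F r))) rfl
    (inf_mem_invt A hW (ker_aeval_mem_invt A _)) inf_le_right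
  exact ⟨a, by rw [h1, ha]⟩

end FiniteOrder

end Cfsg.Agent.Lib.Helper8.InvSub
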