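import Mathlib
import Cfsg.Prelude.Def_GeometricClasses

/-!
# Quadratic field subalgebras of the matrix algebra: a generator, the normalizer criterion, and
elements `c + (rank one)` outside the normalizer (helper8)
-/

set_option autoImplicit false
set_option linter.unusedSectionVars false

open scoped MatrixGroups

namespace Cfsg.Agent.Lib.Helper8.ExtField

open Matrix Module

variable {n : ℕ} {F : Type*} [Field F]

/-- a generator of a quadratic field subalgebra -/
structure IsGen (K : Subalgebra F (Matrix (Fin n) (Fin n) F)) (ω : Matrix (Fin n) (Fin n) F)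
    (t d : F) : Prop where
  mem : ω ∈ K
  rel : ω * ω = t • ω - d • (1 : Matrix (Fin n) (Fin n) F)
  irr : ∀ l : F, l ^ 2 - t * l + d ≠ 0
  span : ∀ k ∈ K, ∃ a b : F, k = a • (1 : Matrix (Fin n) (Fin n) F) + b • ω
  inv : ∀ k ∈ K, k ≠ 0 → ∃ y : Matrix (Fin n) (Fin n) F, k * y = 1
  nonscalar : ∀ c : F, ω ≠ c • (1 : Matrix (Fin n) (Fin n) F)

theorem rank_add_le (A B : Matrix (Fin n) (Fin n) F) : (A + B).rank ≤ A.rank + B.rank := by
  have h1 : LinearMap.range (A + B).mulVecLin ≤
      LinearMap.range A.mulVecLin ⊔ LinearMap.range B.mulVecLin := by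
    rintro _ ⟨y, rfl⟩
    rw [Matrix.mulVecLin_add, LinearMap.add_apply]
    exact Submodule.add_mem_sup (LinearMap.mem_range_self _ y) (LinearMap.mem_range_self _ y)
  calc (A + B).rank = Module.finrank F (LinearMap.range (A + B).mulVecLin) := rfl
    _ ≤ Module.finrank F ↥(LinearMap.range A.mulVecLin ⊔ LinearMap.range B.mulVecLin) :=
        Submodule.finrank_mono h1
    _ ≤ A.rank + B.rank := Submodule.finrank_add_le_finrank_add_finrank _ _

theorem exists_gen (hn : 1 ≤ n) (K : Subalgebra F (Matrix (Fin n) (Fin n) F))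
    (hK : Cfsg.Geo.IsFieldSubalgebra 2 K) : ∃ ω t d, IsGen K ω t d := by
  classical
  have hne : Nonempty (Fin n) := ⟨⟨0, hn⟩⟩
  have hnt : Nontrivial (Matrix (Fin n) (Fin n) F) := inferInstance
  -- a non-scalar element
  have hex : ∃ ω ∈ K, ∀ c : F, ω ≠ c • (1 : Matrix (Fin n) (Fin n) F) := by
    by_contra hcon
    push Not at hcon
    have hle : K ≤ ⊥ := by
      intro k hk
      obtain ⟨c, hc⟩ := hcon k hk
      rw [Algebra.mem_bot]
      exact ⟨c, by rw [hc, Algebra.algebraMap_eq_smul_one]⟩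
    have : K = ⊥ := le_antisymm hle bot_le
    have h2 := hK.finrank_eq
    rw [this, Subalgebra.finrank_bot] at h2
    omega
  obtain ⟨ω, hωK, hωns⟩ := hex
  -- `1, ω` is a basis of `K`
  set v : Fin 2 → K := ![1, ⟨ω, hωK⟩] with hv
  have hli : LinearIndependent F v := by
    rw [hv, LinearIndependent.pair_iff]
    intro a b hab
    have h1 := congrArg Subtype.val hab
    simp only [Subalgebra.coe_add, Subalgebra.coe_smul, Subalgebra.coe_one, Subalgebra.coe_zero]
      at h1
    by_cases hb : b = 0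
    · rw [hb, zero_smul, add_zero] at h1
      refine ⟨?_, hb⟩
      by_contra ha
      have h2 := congrFun (congrFun h1 ⟨0, hn⟩) ⟨0, hn⟩
      rw [Matrix.smul_apply, Matrix.one_apply_eq, Matrix.zero_apply, smul_eq_mul, mul_one] at h2
      exact ha h2
    · exfalso
      apply hωns (-(a / b))
      have h2 : b • ω = (-a) • (1 : Matrix (Fin n) (Fin n) F) := by
        rw [neg_smul]
        exact eq_neg_of_add_eq_zero_right h1
      calc ω = b⁻¹ • (b • ω) := by rw [smul_smul, inv_mul_cancel₀ hb, one_smul]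
        _ = (-(a / b)) • (1 : Matrix (Fin n) (Fin n) F) := by
            rw [h2, smul_smul]
            congr 1
            field_simp
  have hcard : Fintype.card (Fin 2) = Module.finrank F K := by
    rw [Fintype.card_fin, hK.finrank_eq]
  have : FiniteDimensional F K := Module.finite_of_finrank_pos (by rw [hK.finrank_eq]; norm_num)
  let bK : Module.Basis (Fin 2) F K := basisOfLinearIndependentOfCardEqFinrank hli hcard
  have hbK : ∀ i, bK i = v i := fun i => by
    rw [coe_basisOfLinearIndependentOfCardEqFinrank]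
  have hspan : ∀ k ∈ K, ∃ a b : F, k = a • (1 : Matrix (Fin n) (Fin n) F) + b • ω := by
    intro k hk
    have h1 := bK.sum_repr ⟨k, hk⟩
    rw [Fin.sum_univ_two, hbK, hbK] at h1
    have h2 := congrArg Subtype.val h1
    simp only [hv, Matrix.cons_val_zero, Matrix.cons_val_one, Subalgebra.coe_add,
      Subalgebra.coe_smul, Subalgebra.coe_one] at h2
    exact ⟨_, _, h2.symm⟩
  obtain ⟨a, b, hab⟩ := hspan (ω * ω) (K.mul_mem hωK hωK)
  have hinv : ∀ k ∈ K, k ≠ 0 → ∃ y : Matrix (Fin n) (Fin n) F, k * y = 1 := by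
    intro k hk hk0
    obtain ⟨y, -, hy⟩ := hK.inv k hk hk0
    exact ⟨y, hy⟩
  refine ⟨ω, b, -a, hωK, ?_, ?_, hspan, hinv, hωns⟩
  · rw [hab, neg_smul, sub_neg_eq_add, add_comm]
  · intro l hl
    -- `(ω - l)(ω - (t - l)) = 0`
    have h1 : (ω - l • (1 : Matrix (Fin n) (Fin n) F)) * (ω - (b - l) • (1 : Matrix (Fin n) (Fin n) F))
        = 0 := by
      rw [Matrix.sub_mul, Matrix.mul_sub, Matrix.mul_sub, hab, Matrix.smul_mul, Matrix.mul_smul,
        Matrix.mul_smul, Matrix.one_mul, Matrix.mul_one, Matrix.mul_one, smul_smul]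
      have h2 : (b - l) * l = -a := by linear_combination -hl
      rw [h2, sub_smul, neg_smul]
      abel
    have h3 : ω - l • (1 : Matrix (Fin n) (Fin n) F) ∈ K :=
      K.sub_mem hωK (K.smul_mem K.one_mem l)
    have h4 : ω - l • (1 : Matrix (Fin n) (Fin n) F) ≠ 0 := fun h0 => hωns l (sub_eq_zero.1 h0)
    obtain ⟨y, hyK, hy⟩ := hK.inv _ h3 h4
    have h5 : ω - (b - l) • (1 : Matrix (Fin n) (Fin n) F) ∈ K :=
      K.sub_mem hωK (K.smul_mem K.one_mem _)
    have h6 : y * (ω - l • (1 : Matrix (Fin n) (Fin n) F)) = 1 := by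
      rw [← hK.comm _ h3 _ hyK, hy]
    have h7 : ω - (b - l) • (1 : Matrix (Fin n) (Fin n) F) = 0 := by
      calc ω - (b - l) • (1 : Matrix (Fin n) (Fin n) F)
          = (y * (ω - l • (1 : Matrix (Fin n) (Fin n) F))) *
              (ω - (b - l) • (1 : Matrix (Fin n) (Fin n) F)) := by rw [h6, Matrix.one_mul]
        _ = 0 := by rw [Matrix.mul_assoc, h1, Matrix.mul_zero]
    exact hωns (b - l) (sub_eq_zero.1 h7)

/-- the normalizer criterion -/
theorem mem_normalizer_of {K : Subalgebra F (Matrix (Fin n) (Fin n) F)}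
    {ω : Matrix (Fin n) (Fin n) F} {t d : F} (hg : IsGen K ω t d) (g : GL (Fin n) F)
    (h : (g : Matrix (Fin n) (Fin n) F) * ω = ω * (g : Matrix (Fin n) (Fin n) F) ∨
      (g : Matrix (Fin n) (Fin n) F) * ω =
        (t • (1 : Matrix (Fin n) (Fin n) F) - ω) * (g : Matrix (Fin n) (Fin n) F)) :
    g ∈ Cfsg.Geo.subalgebraNormalizer K := by
  set G := (g : Matrix (Fin n) (Fin n) F) with hG
  set G' := ((g⁻¹ : GL (Fin n) F) : Matrix (Fin n) (Fin n) F) with hG'
  have hGG' : G * G' = 1 := by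
    rw [hG, hG', ← Units.val_mul, mul_inv_cancel, Units.val_one]
  have hG'G : G' * G = 1 := by
    rw [hG, hG', ← Units.val_mul, inv_mul_cancel, Units.val_one]
  -- both conjugates of `ω` lie in `K`
  have hω' : t • (1 : Matrix (Fin n) (Fin n) F) - ω ∈ K :=
    K.sub_mem (K.smul_mem K.one_mem t) hg.mem
  have h1 : G * ω * G' ∈ K ∧ G' * ω * G ∈ K := by
    rcases h with h | h
    · constructor
      · rw [h, Matrix.mul_assoc, hGG', Matrix.mul_one]
        exact hg.mem
      · rw [Matrix.mul_assoc, ← h, ← Matrix.mul_assoc, hG'G, Matrix.one_mul]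
        exact hg.mem
    · constructor
      · rw [h, Matrix.mul_assoc, hGG', Matrix.mul_one]
        exact hω'
      · have h2 : G' * ω * G = t • (1 : Matrix (Fin n) (Fin n) F) - ω := by
          have h3 : ω * G = (t • (1 : Matrix (Fin n) (Fin n) F)) * G - G * ω := by
            rw [h, Matrix.sub_mul]
            abel
          rw [Matrix.mul_assoc, h3, Matrix.mul_sub, ← Matrix.mul_assoc G' G ω, hG'G,
            Matrix.one_mul, Matrix.smul_mul, Matrix.one_mul, Matrix.mul_smul, hG'G]
        rw [h2]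
        exact hω'
  intro k
  change k ∈ K ↔ G * k * G' ∈ K
  constructor
  · intro hk
    obtain ⟨a, b, rfl⟩ := hg.span k hk
    have : G * (a • (1 : Matrix (Fin n) (Fin n) F) + b • ω) * G' =
        a • (1 : Matrix (Fin n) (Fin n) F) + b • (G * ω * G') := by
      rw [Matrix.mul_add, Matrix.add_mul, Matrix.mul_smul, Matrix.mul_one, Matrix.smul_mul, hGG',
        Matrix.mul_smul, Matrix.smul_mul]
    rw [this]
    exact K.add_mem (K.smul_mem K.one_mem a) (K.smul_mem h1.1 b)
  · intro hk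
    obtain ⟨a, b, hab⟩ := hg.span _ hk
    have h2 : k = G' * (G * k * G') * G := by
      calc k = (G' * G) * k * (G' * G) := by rw [hG'G, Matrix.one_mul, Matrix.mul_one]
        _ = G' * (G * k * G') * G := by simp only [Matrix.mul_assoc]
    rw [h2, hab]
    have : G' * (a • (1 : Matrix (Fin n) (Fin n) F) + b • ω) * G =
        a • (1 : Matrix (Fin n) (Fin n) F) + b • (G' * ω * G) := by
      rw [Matrix.mul_add, Matrix.add_mul, Matrix.mul_smul, Matrix.mul_one, Matrix.smul_mul, hG'G,
        Matrix.mul_smul, Matrix.smul_mul]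
    rw [this]
    exact K.add_mem (K.smul_mem K.one_mem a) (K.smul_mem h1.2 b)

/-- elements `c + (rank one)` do not normalize a quadratic field subalgebra when `n ≥ 3` -/
theorem not_mem_normalizer {K : Subalgebra F (Matrix (Fin n) (Fin n) F)}
    {ω : Matrix (Fin n) (Fin n) F} {t d : F} (hg : IsGen K ω t d) (hn : 3 ≤ n)
    (g : GL (Fin n) F) (c : F) (hc : c ≠ 0) (w φ : Fin n → F) (hw : w ≠ 0)
    (v₀ : Fin n → F) (hφ : φ ⬝ᵥ v₀ ≠ 0)
    (hgm : (g : Matrix (Fin n) (Fin n) F) = c • (1 : Matrix (Fin n) (Fin n) F) +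
      Matrix.vecMulVec w φ) :
    g ∉ Cfsg.Geo.subalgebraNormalizer K := by
  classical
  intro hmem
  set G := (g : Matrix (Fin n) (Fin n) F) with hG
  set G' := ((g⁻¹ : GL (Fin n) F) : Matrix (Fin n) (Fin n) F) with hG'
  have hGG' : G * G' = 1 := by
    rw [hG, hG', ← Units.val_mul, mul_inv_cancel, Units.val_one]
  have hG'G : G' * G = 1 := by
    rw [hG, hG', ← Units.val_mul, inv_mul_cancel, Units.val_one]
  set N := Matrix.vecMulVec w φ with hN
  have hω'K : G * ω * G' ∈ K := (hmem ω).1 hg.mem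
  set ω' := G * ω * G' with hω'
  have hGω : G * ω = ω' * G := by
    rw [hω', Matrix.mul_assoc, Matrix.mul_assoc, hG'G, Matrix.mul_one]
  have hkey : N * ω + (-ω') * N = c • (ω' - ω) := by
    have h1 : (c • (1 : Matrix (Fin n) (Fin n) F) + N) * ω =
        ω' * (c • (1 : Matrix (Fin n) (Fin n) F) + N) := by
      rw [← hgm]
      exact hGω
    rw [Matrix.add_mul, Matrix.mul_add, Matrix.smul_mul, Matrix.one_mul, Matrix.mul_smul,
      Matrix.mul_one] at h1
    rw [Matrix.neg_mul, smul_sub]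
    have h2 : N * ω = c • ω' + ω' * N - c • ω := by rw [← h1]; abel
    rw [h2]
    abel
  have hNrank : N.rank ≤ 1 := Matrix.rank_vecMulVec_le w φ
  by_cases hωω' : ω' - ω = 0
  · -- `N` commutes with `ω`: an eigenvector
    have hNω : N * ω = ω * N := by
      have hω'eq : ω' = ω := sub_eq_zero.1 hωω'
      rw [hωω', smul_zero, hω'eq] at hkey
      rw [Matrix.neg_mul] at hkey
      have := eq_neg_of_add_eq_zero_left hkey
      rw [neg_neg] at this
      exact this
    have hNv : ∀ u : Fin n → F, N *ᵥ u = (φ ⬝ᵥ u) • w := by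
      intro u
      ext i
      rw [hN, Matrix.mulVec, dotProduct]
      simp only [Matrix.vecMulVec_apply, Pi.smul_apply, smul_eq_mul, dotProduct, Finset.mul_sum]
      rw [Finset.sum_mul]
      apply Finset.sum_congr rfl
      intro j _
      ring
    have h1 : ω *ᵥ (N *ᵥ v₀) = N *ᵥ (ω *ᵥ v₀) := by
      rw [Matrix.mulVec_mulVec, Matrix.mulVec_mulVec, hNω]
    rw [hNv, hNv, Matrix.mulVec_smul] at h1
    set l : F := (φ ⬝ᵥ (ω *ᵥ v₀)) / (φ ⬝ᵥ v₀) with hl
    have h2 : ω *ᵥ w = l • w := by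
      have : (φ ⬝ᵥ v₀) • (ω *ᵥ w) = (φ ⬝ᵥ v₀) • (l • w) := by
        rw [h1, smul_smul, hl, mul_div_cancel₀ _ hφ]
      exact smul_right_injective _ hφ this
    have h3 : ω - l • (1 : Matrix (Fin n) (Fin n) F) ∈ K :=
      K.sub_mem hg.mem (K.smul_mem K.one_mem l)
    have h4 : ω - l • (1 : Matrix (Fin n) (Fin n) F) ≠ 0 :=
      fun h0 => hg.nonscalar l (sub_eq_zero.1 h0)
    obtain ⟨y, hy⟩ := hg.inv _ h3 h4
    have hy' : y * (ω - l • (1 : Matrix (Fin n) (Fin n) F)) = 1 := mul_eq_one_comm.1 hy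
    have h5 : (ω - l • (1 : Matrix (Fin n) (Fin n) F)) *ᵥ w = 0 := by
      rw [Matrix.sub_mulVec, h2, Matrix.smul_mulVec, Matrix.one_mulVec, sub_self]
    have h6 : w = 0 := by
      calc w = (y * (ω - l • (1 : Matrix (Fin n) (Fin n) F))) *ᵥ w := by
            rw [hy', Matrix.one_mulVec]
        _ = 0 := by rw [← Matrix.mulVec_mulVec, h5, Matrix.mulVec_zero]
    exact hw h6
  · -- `ω' - ω` is invertible but has rank at most two
    have h3 : ω' - ω ∈ K := K.sub_mem hω'K hg.mem
    obtain ⟨y, hy⟩ := hg.inv _ h3 hωω'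
    have hdet : IsUnit (c • (ω' - ω)).det := by
      rw [Matrix.det_smul]
      have h4 := congrArg Matrix.det hy
      rw [Matrix.det_mul, Matrix.det_one] at h4
      exact ((pow_ne_zero _ hc).isUnit).mul (IsUnit.of_mul_eq_one _ h4)
    have hrank : (c • (ω' - ω)).rank = n := by
      rw [Matrix.rank_of_isUnit _ ((Matrix.isUnit_iff_isUnit_det _).2 hdet), Fintype.card_fin]
    have h5 : (N * ω + (-ω') * N).rank ≤ 2 := by
      calc (N * ω + (-ω') * N).rank ≤ (N * ω).rank + ((-ω') * N).rank := rank_add_le _ _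
        _ ≤ N.rank + N.rank :=
            Nat.add_le_add (Matrix.rank_mul_le_left _ _) (Matrix.rank_mul_le_right _ _)
        _ ≤ 2 := by omega
    rw [hkey, hrank] at h5
    omega

end Cfsg.Agent.Lib.Helper8.ExtField
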