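import Mathlib
import Cfsg.Prelude.Def_GeometricClasses

/-!
# Field subalgebras of the matrix algebra: the Frobenius map as a matrix (helper8)
-/

set_option autoImplicit false
set_option linter.unusedSectionVars false

open scoped MatrixGroups

namespace Cfsg.Agent.Lib.Helper8.Singer3

open Matrix Module

section Basic

variable {F : Type*} [Field F] [Fintype F] {n : ℕ}

theorem isField (hn : 1 ≤ n) {r : ℕ} (K : Subalgebra F (Matrix (Fin n) (Fin n) F))
    (hK : Cfsg.Geo.IsFieldSubalgebra r K) : IsField ↥K := by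
  have hne : Nonempty (Fin n) := ⟨⟨0, hn⟩⟩
  refine ⟨⟨0, 1, ?_⟩, ?_, ?_⟩
  · intro h
    have h1 := congrArg Subtype.val h
    rw [Subalgebra.coe_zero, Subalgebra.coe_one] at h1
    exact zero_ne_one h1
  · intro x y
    exact Subtype.ext (hK.comm x x.2 y y.2)
  · intro a ha
    obtain ⟨y, hyK, hy⟩ := hK.inv a a.2 (fun h => ha (Subtype.ext h))
    exact ⟨⟨y, hyK⟩, Subtype.ext hy⟩

/-- elements of `K` are fixed by the `q^r`-th power map -/
theorem pow_card_K (hn : 1 ≤ n) {r : ℕ} (K : Subalgebra F (Matrix (Fin n) (Fin n) F))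
    (hK : Cfsg.Geo.IsFieldSubalgebra r K) {q : ℕ} (hq : Fintype.card F = q)
    (k : Matrix (Fin n) (Fin n) F) (hk : k ∈ K) : k ^ (q ^ r) = k := by
  classical
  letI : Field ↥K := (isField hn K hK).toField
  haveI : Fintype ↥K := Fintype.ofFinite ↥K
  have hcard : Fintype.card ↥K = q ^ r := by
    rw [Module.card_eq_pow_finrank (K := F) (V := ↥K), hq, hK.finrank_eq]
  have h1 := FiniteField.pow_card (⟨k, hk⟩ : ↥K)
  rw [hcard] at h1
  have h2 := congrArg Subtype.val h1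
  rw [SubmonoidClass.coe_pow] at h2
  exact h2

/-- the `q`-th power map is not the identity on `K` -/
theorem exists_frob_ne (hn : 1 ≤ n) {r : ℕ} (K : Subalgebra F (Matrix (Fin n) (Fin n) F))
    (hK : Cfsg.Geo.IsFieldSubalgebra r K) (hr : 2 ≤ r) {q : ℕ} (hq : Fintype.card F = q) :
    ∃ k ∈ K, k ^ q ≠ k := by
  classical
  letI : Field ↥K := (isField hn K hK).toField
  haveI : Fintype ↥K := Fintype.ofFinite ↥K
  have hcard : Fintype.card ↥K = q ^ r := by
    rw [Module.card_eq_pow_finrank (K := F) (V := ↥K), hq, hK.finrank_eq]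
  have hq2 : 2 ≤ q := by rw [← hq]; exact Fintype.one_lt_card
  by_contra hcon
  push Not at hcon
  have hP : (Polynomial.X ^ q - Polynomial.X : Polynomial ↥K) = 0 := by
    apply Polynomial.eq_zero_of_natDegree_lt_card_of_eval_eq_zero' _ (Finset.univ : Finset ↥K)
    · intro a _
      rw [Polynomial.eval_sub, Polynomial.eval_pow, Polynomial.eval_X, sub_eq_zero]
      apply Subtype.ext
      rw [SubmonoidClass.coe_pow]
      exact hcon a a.2
    · rw [FiniteField.X_pow_card_sub_X_natDegree_eq _ (by omega), Finset.card_univ, hcard]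
      calc q = q ^ 1 := (pow_one q).symm
        _ < q ^ r := Nat.pow_lt_pow_right (by omega) (by omega)
  exact FiniteField.X_pow_card_sub_X_ne_zero _ (by omega) hP

end Basic

section Frob

variable {F : Type*} [Field F] [Fintype F] {n : ℕ}

theorem frob_add (p : ℕ) [Fact p.Prime] [CharP F p] (hn : 1 ≤ n) {r : ℕ} (K : Subalgebra F (Matrix (Fin n) (Fin n) F))
    (hK : Cfsg.Geo.IsFieldSubalgebra r K) {q : ℕ} (hq : Fintype.card F = q)
    (k₁ k₂ : Matrix (Fin n) (Fin n) F) (h₁ : k₁ ∈ K) (h₂ : k₂ ∈ K) :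
    (k₁ + k₂) ^ q = k₁ ^ q + k₂ ^ q := by
  haveI : Nonempty (Fin n) := ⟨⟨0, hn⟩⟩
  obtain ⟨f, _, hf⟩ := FiniteField.card F p
  rw [hq] at hf
  rw [hf]
  exact add_pow_char_pow_of_commute p _ (hK.comm k₁ h₁ k₂ h₂)

theorem frob_smul {q : ℕ} (hq : Fintype.card F = q) (a : F) (k : Matrix (Fin n) (Fin n) F) :
    (a • k) ^ q = a • k ^ q := by
  rw [smul_pow, ← hq, FiniteField.pow_card]

/-- the Frobenius map of a maximal field subalgebra, as a matrix -/
theorem exists_frobenius (p : ℕ) [Fact p.Prime] [CharP F p] (hn : 1 ≤ n) (K : Subalgebra F (Matrix (Fin n) (Fin n) F))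
    (hK : Cfsg.Geo.IsFieldSubalgebra n K) {q : ℕ} (hq : Fintype.card F = q)
    (v₀ : Fin n → F) (hv₀ : v₀ ≠ 0) :
    (∀ v : Fin n → F, ∃ k ∈ K, k *ᵥ v₀ = v) ∧
    ∃ S : Matrix (Fin n) (Fin n) F, S ^ n = 1 ∧ S *ᵥ v₀ = v₀ ∧ ∀ k ∈ K, S * k = k ^ q * S := by
  classical
  let ev : ↥K →ₗ[F] (Fin n → F) :=
    { toFun := fun k => (k : Matrix (Fin n) (Fin n) F) *ᵥ v₀
      map_add' := fun k₁ k₂ => by rw [Subalgebra.coe_add, Matrix.add_mulVec]
      map_smul' := fun a k => by
        rw [Subalgebra.coe_smul, Matrix.smul_mulVec, RingHom.id_apply] }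
  have hev : ∀ k : ↥K, ev k = (k : Matrix (Fin n) (Fin n) F) *ᵥ v₀ := fun k => rfl
  have hinj : Function.Injective ev := by
    rw [← LinearMap.ker_eq_bot, LinearMap.ker_eq_bot']
    intro k hk
    by_contra hne
    obtain ⟨y, hyK, hy⟩ := hK.inv k k.2 (fun h => hne (Subtype.ext h))
    have hyk : y * (k : Matrix (Fin n) (Fin n) F) = 1 := by
      rw [← hK.comm k k.2 y hyK]; exact hy
    apply hv₀
    rw [hev] at hk
    calc v₀ = (y * (k : Matrix (Fin n) (Fin n) F)) *ᵥ v₀ := by rw [hyk, Matrix.one_mulVec]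
      _ = 0 := by rw [← Matrix.mulVec_mulVec, hk, Matrix.mulVec_zero]
  have hsurj : Function.Surjective ev :=
    (LinearMap.injective_iff_surjective_of_finrank_eq_finrank
      (by rw [hK.finrank_eq, Module.finrank_fin_fun])).1 hinj
  let e : ↥K ≃ₗ[F] (Fin n → F) := LinearEquiv.ofBijective ev ⟨hinj, hsurj⟩
  have he : ∀ k : ↥K, e k = (k : Matrix (Fin n) (Fin n) F) *ᵥ v₀ := fun k => rfl
  let φ : ↥K →ₗ[F] ↥K :=
    { toFun := fun k => ⟨(k : Matrix (Fin n) (Fin n) F) ^ q, K.pow_mem k.2 q⟩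
      map_add' := fun k₁ k₂ => by
        apply Subtype.ext
        show ((k₁ + k₂ : ↥K) : Matrix (Fin n) (Fin n) F) ^ q =
          (k₁ : Matrix (Fin n) (Fin n) F) ^ q + (k₂ : Matrix (Fin n) (Fin n) F) ^ q
        rw [Subalgebra.coe_add]
        exact frob_add p hn K hK hq _ _ k₁.2 k₂.2
      map_smul' := fun a k => by
        apply Subtype.ext
        show ((a • k : ↥K) : Matrix (Fin n) (Fin n) F) ^ q =
          a • (k : Matrix (Fin n) (Fin n) F) ^ q
        rw [Subalgebra.coe_smul]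
        exact frob_smul hq a _ }
  have hφ : ∀ k : ↥K, ((φ k : ↥K) : Matrix (Fin n) (Fin n) F) =
      (k : Matrix (Fin n) (Fin n) F) ^ q := fun k => rfl
  let s : (Fin n → F) →ₗ[F] (Fin n → F) :=
    (e : ↥K →ₗ[F] (Fin n → F)) ∘ₗ φ ∘ₗ (e.symm : (Fin n → F) →ₗ[F] ↥K)
  have hs : ∀ k : ↥K, s (e k) = e (φ k) := by
    intro k
    simp only [s, LinearMap.comp_apply, LinearEquiv.coe_coe, LinearEquiv.symm_apply_apply]
  set S : Matrix (Fin n) (Fin n) F := LinearMap.toMatrix' s with hS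
  have hSv : ∀ v, S *ᵥ v = s v := by
    intro v
    rw [hS, ← Matrix.toLin'_apply, Matrix.toLin'_toMatrix']
  have hSk : ∀ k : ↥K, S *ᵥ ((k : Matrix (Fin n) (Fin n) F) *ᵥ v₀) =
      ((k : Matrix (Fin n) (Fin n) F) ^ q) *ᵥ v₀ := by
    intro k
    rw [hSv, ← he, hs, he, hφ]
  refine ⟨fun v => ?_, S, ?_, ?_, ?_⟩
  · obtain ⟨k, hk⟩ := hsurj v
    exact ⟨k, k.2, hk⟩
  · -- S ^ n = 1
    have hpow : ∀ (j : ℕ) (k : ↥K), (S ^ j) *ᵥ ((k : Matrix (Fin n) (Fin n) F) *ᵥ v₀) =
        ((k : Matrix (Fin n) (Fin n) F) ^ (q ^ j)) *ᵥ v₀ := by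
      intro j
      induction j with
      | zero => intro k; rw [pow_zero, Matrix.one_mulVec, pow_zero, pow_one]
      | succ j ih =>
        intro k
        rw [pow_succ', ← Matrix.mulVec_mulVec, ih k]
        have := hSk ⟨(k : Matrix (Fin n) (Fin n) F) ^ (q ^ j), K.pow_mem k.2 _⟩
        rw [this]
        simp only
        rw [← pow_mul, ← pow_succ]
    apply Matrix.toLin'.injective
    apply LinearMap.ext
    intro v
    obtain ⟨k, hk⟩ := hsurj v
    rw [Matrix.toLin'_apply, Matrix.toLin'_one, LinearMap.id_apply, ← hk, hev, hpow,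
      pow_card_K hn K hK hq _ k.2]
  · have := hSk 1
    rw [Subalgebra.coe_one, Matrix.one_mulVec, one_pow, Matrix.one_mulVec] at this
    exact this
  · intro k hk
    apply Matrix.toLin'.injective
    apply LinearMap.ext
    intro v
    obtain ⟨k', hk'⟩ := hsurj v
    have h1 := hSk (⟨k, hk⟩ * k')
    rw [Subalgebra.coe_mul] at h1
    simp only at h1
    rw [Matrix.toLin'_apply, Matrix.toLin'_apply, ← hk', hev, ← Matrix.mulVec_mulVec,
      ← Matrix.mulVec_mulVec, hSk k', Matrix.mulVec_mulVec v₀ k, h1, Matrix.mulVec_mulVec,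
      Commute.mul_pow (hK.comm k hk k' k'.2)]

end Frob

end Cfsg.Agent.Lib.Helper8.Singer3
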