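import Mathlib
import Cfsg.Prelude.Def_GeometricClasses
import Cfsg.Agent.Lib.Helper8.ExtFieldA
import Cfsg.Agent.Lib.Helper8.Singer3A

/-!
# Field subalgebras of the matrix algebra: normalizer criteria (helper8)
-/

set_option autoImplicit false
set_option linter.unusedSectionVars false

open scoped MatrixGroups

namespace Cfsg.Agent.Lib.Helper8.Singer3

open Matrix Module Cfsg.Agent.Lib.Helper8.ExtField

section Norm

variable {F : Type*} [Field F] {n : ℕ}

/-- a non-scalar element of a field subalgebra of degree at least two -/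
theorem exists_nonscalar (hn : 1 ≤ n) {r : ℕ} (hr : 2 ≤ r)
    (K : Subalgebra F (Matrix (Fin n) (Fin n) F)) (hK : Cfsg.Geo.IsFieldSubalgebra r K) :
    ∃ θ ∈ K, ∀ c : F, θ ≠ c • (1 : Matrix (Fin n) (Fin n) F) := by
  classical
  have hne : Nonempty (Fin n) := ⟨⟨0, hn⟩⟩
  have hnt : Nontrivial (Matrix (Fin n) (Fin n) F) := inferInstance
  by_contra hcon
  push Not at hcon
  have hle : K ≤ ⊥ := by
    intro k hk
    obtain ⟨c, hc⟩ := hcon k hk
    rw [Algebra.mem_bot]
    exact ⟨c, by rw [hc, Algebra.algebraMap_eq_smul_one]⟩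
  have : K = ⊥ := le_antisymm hle bot_le
  have h2 := hK.finrank_eq
  rw [this, Subalgebra.finrank_bot] at h2
  omega

/-- elements `c + (rank one)` do not normalize a field subalgebra of degree at least two when
`n ≥ 3` -/
theorem not_mem_normalizer' {K : Subalgebra F (Matrix (Fin n) (Fin n) F)} {r : ℕ}
    (hK : Cfsg.Geo.IsFieldSubalgebra r K) (hr : 2 ≤ r) (hn : 3 ≤ n)
    (g : GL (Fin n) F) (c : F) (hc : c ≠ 0) (w φ : Fin n → F) (hw : w ≠ 0)
    (v₀ : Fin n → F) (hφ : φ ⬝ᵥ v₀ ≠ 0)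
    (hgm : (g : Matrix (Fin n) (Fin n) F) = c • (1 : Matrix (Fin n) (Fin n) F) +
      Matrix.vecMulVec w φ) :
    g ∉ Cfsg.Geo.subalgebraNormalizer K := by
  classical
  intro hmem
  obtain ⟨ω, hωK, hωns⟩ := exists_nonscalar (by omega) hr K hK
  have hinv : ∀ k ∈ K, k ≠ 0 → ∃ y : Matrix (Fin n) (Fin n) F, k * y = 1 := by
    intro k hk hk0
    obtain ⟨y, _, hy⟩ := hK.inv k hk hk0
    exact ⟨y, hy⟩
  set G := (g : Matrix (Fin n) (Fin n) F) with hG
  set G' := ((g⁻¹ : GL (Fin n) F) : Matrix (Fin n) (Fin n) F) with hG'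
  have hGG' : G * G' = 1 := by
    rw [hG, hG', ← Units.val_mul, mul_inv_cancel, Units.val_one]
  have hG'G : G' * G = 1 := by
    rw [hG, hG', ← Units.val_mul, inv_mul_cancel, Units.val_one]
  set N := Matrix.vecMulVec w φ with hN
  have hω'K : G * ω * G' ∈ K := (hmem ω).1 hωK
  set ω' := G * ω * G' with hω'
  have hGω : G * ω = ω' * G := by
    rw [hω', Matrix.mul_assoc, Matrix.mul_assoc, hG'G, Matrix.mul_one]
  have hkey : N * ω + (-ω') * N = c • (ω' - ω) := by
    have h1 : (c • (1 : Matrix (Fin n) (Fin n) F) + N) * ω =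
        ω' * (c • (1 : Matrix (Fin n) (Fin n) F) + N) := by
      rw [← hgm]
      exact hGω
    rw [Matrix.add_mul, Matrix.mul_add, Matrix.smul_mul, Matrix.one_mul, Matrix.mul_smul,
      Matrix.mul_one] at h1
    rw [Matrix.neg_mul, smul_sub]
    have h2 : N * ω = c • ω' + ω' * N - c • ω := by rw [← h1]; abel
    rw [h2]
    abel
  have hNrank : N.rank ≤ 1 := Matrix.rank_vecMulVec_le w φ
  by_cases hωω' : ω' - ω = 0
  · -- `N` commutes with `ω`: an eigenvector
    have hNω : N * ω = ω * N := by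
      have hω'eq : ω' = ω := sub_eq_zero.1 hωω'
      rw [hωω', smul_zero, hω'eq] at hkey
      rw [Matrix.neg_mul] at hkey
      have := eq_neg_of_add_eq_zero_left hkey
      rw [neg_neg] at this
      exact this
    have hNv : ∀ u : Fin n → F, N *ᵥ u = (φ ⬝ᵥ u) • w := by
      intro u
      ext i
      rw [hN, Matrix.mulVec, dotProduct]
      simp only [Matrix.vecMulVec_apply, Pi.smul_apply, smul_eq_mul, dotProduct, Finset.mul_sum]
      rw [Finset.sum_mul]
      apply Finset.sum_congr rfl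
      intro j _
      ring
    have h1 : ω *ᵥ (N *ᵥ v₀) = N *ᵥ (ω *ᵥ v₀) := by
      rw [Matrix.mulVec_mulVec, Matrix.mulVec_mulVec, hNω]
    rw [hNv, hNv, Matrix.mulVec_smul] at h1
    set l : F := (φ ⬝ᵥ (ω *ᵥ v₀)) / (φ ⬝ᵥ v₀) with hl
    have h2 : ω *ᵥ w = l • w := by
      have : (φ ⬝ᵥ v₀) • (ω *ᵥ w) = (φ ⬝ᵥ v₀) • (l • w) := by
        rw [h1, smul_smul, hl, mul_div_cancel₀ _ hφ]
      exact smul_right_injective _ hφ this
    have h3 : ω - l • (1 : Matrix (Fin n) (Fin n) F) ∈ K :=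
      K.sub_mem hωK (K.smul_mem K.one_mem l)
    have h4 : ω - l • (1 : Matrix (Fin n) (Fin n) F) ≠ 0 :=
      fun h0 => hωns l (sub_eq_zero.1 h0)
    obtain ⟨y, hy⟩ := hinv _ h3 h4
    have hy' : y * (ω - l • (1 : Matrix (Fin n) (Fin n) F)) = 1 := mul_eq_one_comm.1 hy
    have h5 : (ω - l • (1 : Matrix (Fin n) (Fin n) F)) *ᵥ w = 0 := by
      rw [Matrix.sub_mulVec, h2, Matrix.smul_mulVec, Matrix.one_mulVec, sub_self]
    have h6 : w = 0 := by
      calc w = (y * (ω - l • (1 : Matrix (Fin n) (Fin n) F))) *ᵥ w := by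
            rw [hy', Matrix.one_mulVec]
        _ = 0 := by rw [← Matrix.mulVec_mulVec, h5, Matrix.mulVec_zero]
    exact hw h6
  · -- `ω' - ω` is invertible but has rank at most two
    have h3 : ω' - ω ∈ K := K.sub_mem hω'K hωK
    obtain ⟨y, hy⟩ := hinv _ h3 hωω'
    have hdet : IsUnit (c • (ω' - ω)).det := by
      rw [Matrix.det_smul]
      have h4 := congrArg Matrix.det hy
      rw [Matrix.det_mul, Matrix.det_one] at h4
      exact ((pow_ne_zero _ hc).isUnit).mul (IsUnit.of_mul_eq_one _ h4)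
    have hrank : (c • (ω' - ω)).rank = n := by
      rw [Matrix.rank_of_isUnit _ ((Matrix.isUnit_iff_isUnit_det _).2 hdet), Fintype.card_fin]
    have h5 : (N * ω + (-ω') * N).rank ≤ 2 := by
      calc (N * ω + (-ω') * N).rank ≤ (N * ω).rank + ((-ω') * N).rank := rank_add_le _ _
        _ ≤ N.rank + N.rank :=
            Nat.add_le_add (Matrix.rank_mul_le_left _ _) (Matrix.rank_mul_le_right _ _)
        _ ≤ 2 := by omega
    rw [hkey, hrank] at h5
    omega

/-- an element of finite order conjugating `K` into itself normalizes `K` -/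
theorem mem_normalizer_of_pow (K : Subalgebra F (Matrix (Fin n) (Fin n) F)) (g : GL (Fin n) F)
    (m : ℕ) (hgm : g ^ (m + 1) = 1)
    (h : ∀ k ∈ K, (g : Matrix (Fin n) (Fin n) F) * k *
      ((g⁻¹ : GL (Fin n) F) : Matrix (Fin n) (Fin n) F) ∈ K) :
    g ∈ Cfsg.Geo.subalgebraNormalizer K := by
  have hpow : ∀ (j : ℕ), ∀ k ∈ K, ((g ^ j : GL (Fin n) F) : Matrix (Fin n) (Fin n) F) * k *
      (((g ^ j)⁻¹ : GL (Fin n) F) : Matrix (Fin n) (Fin n) F) ∈ K := by
    intro j
    induction j with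
    | zero =>
      intro k hk
      rw [pow_zero, inv_one, Units.val_one, Matrix.one_mul, Matrix.mul_one]
      exact hk
    | succ j ih =>
      intro k hk
      have h1 := h _ (ih k hk)
      have e1 : ((g ^ (j + 1) : GL (Fin n) F) : Matrix (Fin n) (Fin n) F) * k *
          (((g ^ (j + 1))⁻¹ : GL (Fin n) F) : Matrix (Fin n) (Fin n) F) =
          (g : Matrix (Fin n) (Fin n) F) *
            (((g ^ j : GL (Fin n) F) : Matrix (Fin n) (Fin n) F) * k *
              (((g ^ j)⁻¹ : GL (Fin n) F) : Matrix (Fin n) (Fin n) F)) *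
            ((g⁻¹ : GL (Fin n) F) : Matrix (Fin n) (Fin n) F) := by
        rw [pow_succ', _root_.mul_inv_rev, Units.val_mul, Units.val_mul]
        simp only [Matrix.mul_assoc]
      rw [e1]
      exact h1
  intro k
  constructor
  · intro hk
    exact h k hk
  · intro hk
    have h1 := hpow m _ hk
    have e1 : ((g ^ m : GL (Fin n) F) : Matrix (Fin n) (Fin n) F) *
        ((g : Matrix (Fin n) (Fin n) F) * k *
          ((g⁻¹ : GL (Fin n) F) : Matrix (Fin n) (Fin n) F)) *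
        (((g ^ m)⁻¹ : GL (Fin n) F) : Matrix (Fin n) (Fin n) F) = k := by
      have e2 : ((g ^ m : GL (Fin n) F) : Matrix (Fin n) (Fin n) F) *
          (g : Matrix (Fin n) (Fin n) F) = 1 := by
        rw [← Units.val_mul, ← pow_succ, hgm, Units.val_one]
      have e3 : ((g⁻¹ : GL (Fin n) F) : Matrix (Fin n) (Fin n) F) *
          (((g ^ m)⁻¹ : GL (Fin n) F) : Matrix (Fin n) (Fin n) F) = 1 := by
        rw [← Units.val_mul, ← _root_.mul_inv_rev, ← pow_succ, hgm, inv_one, Units.val_one]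
      calc ((g ^ m : GL (Fin n) F) : Matrix (Fin n) (Fin n) F) *
          ((g : Matrix (Fin n) (Fin n) F) * k *
            ((g⁻¹ : GL (Fin n) F) : Matrix (Fin n) (Fin n) F)) *
          (((g ^ m)⁻¹ : GL (Fin n) F) : Matrix (Fin n) (Fin n) F)
          = (((g ^ m : GL (Fin n) F) : Matrix (Fin n) (Fin n) F) *
              (g : Matrix (Fin n) (Fin n) F)) * k *
            (((g⁻¹ : GL (Fin n) F) : Matrix (Fin n) (Fin n) F) *
              (((g ^ m)⁻¹ : GL (Fin n) F) : Matrix (Fin n) (Fin n) F)) := by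
            simp only [Matrix.mul_assoc]
        _ = k := by rw [e2, e3, Matrix.one_mul, Matrix.mul_one]
    rw [e1] at h1
    exact h1

end Norm

section FrobGL

variable {F : Type*} [Field F] [Fintype F] {n : ℕ}

/-- the Frobenius map as an element of the normalizer -/
theorem exists_frobGL (p : ℕ) [Fact p.Prime] [CharP F p] (hn : 1 ≤ n)
    (K : Subalgebra F (Matrix (Fin n) (Fin n) F))
    (hK : Cfsg.Geo.IsFieldSubalgebra n K) {q : ℕ} (hq : Fintype.card F = q)
    (v₀ : Fin n → F) (hv₀ : v₀ ≠ 0) :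
    (∀ v : Fin n → F, ∃ k ∈ K, k *ᵥ v₀ = v) ∧
    ∃ g : GL (Fin n) F, g ∈ Cfsg.Geo.subalgebraNormalizer K ∧ g ^ n = 1 ∧
      (g : Matrix (Fin n) (Fin n) F) *ᵥ v₀ = v₀ ∧
      ∀ k ∈ K, (g : Matrix (Fin n) (Fin n) F) * k = k ^ q * (g : Matrix (Fin n) (Fin n) F) := by
  obtain ⟨hsurj, S, hSn, hSv, hSk⟩ := exists_frobenius p hn K hK hq v₀ hv₀
  refine ⟨hsurj, ?_⟩
  obtain ⟨m, rfl⟩ : ∃ m, n = m + 1 := ⟨n - 1, by omega⟩
  have h1 : S * S ^ m = 1 := by rw [← pow_succ']; exact hSn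
  have h2 : S ^ m * S = 1 := by rw [← pow_succ]; exact hSn
  let g : GL (Fin (m + 1)) F := ⟨S, S ^ m, h1, h2⟩
  have hg : (g : Matrix (Fin (m + 1)) (Fin (m + 1)) F) = S := rfl
  have hgi : ((g⁻¹ : GL (Fin (m + 1)) F) : Matrix (Fin (m + 1)) (Fin (m + 1)) F) = S ^ m := rfl
  have hgn : g ^ (m + 1) = 1 := by
    apply Units.ext
    rw [Units.val_pow_eq_pow_val, hg, hSn, Units.val_one]
  refine ⟨g, ?_, hgn, hSv, hSk⟩
  apply mem_normalizer_of_pow K g m hgn
  intro k hk
  rw [hg, hgi, hSk k hk, Matrix.mul_assoc, h1, Matrix.mul_one]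
  exact K.pow_mem hk q

end FrobGL

end Cfsg.Agent.Lib.Helper8.Singer3
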