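import Mathlib

/-!
# Operators with an irreducible quadratic relation: the normal form and conjugacy (helper8)
-/

set_option autoImplicit false
set_option linter.unusedSectionVars false

namespace Cfsg.Agent.Lib.Helper8.ExtField

open Matrix Module

universe u

/-- an operator `ω` with `ω² = t ω - d`, `T² - tT + d` without roots, has a basis of the form
`(v_i, ω v_i)` -/
theorem exists_pair_basis {F : Type*} [Field F] (t d : F) (hirr : ∀ l : F, l ^ 2 - t * l + d ≠ 0) :
    ∀ (n : ℕ) (V : Type u) [AddCommGroup V] [Module F V] [FiniteDimensional F V] (ω : V →ₗ[F] V),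
      (∀ v, ω (ω v) = t • ω v - d • v) → Module.finrank F V = n →
      ∃ (ι : Type) (_ : Fintype ι) (v : ι → V) (b : Module.Basis (ι ⊕ ι) F V),
        ∀ i, b (Sum.inl i) = v i ∧ b (Sum.inr i) = ω (v i) := by
  intro n
  induction n using Nat.strong_induction_on with
  | _ n ih =>
    intro V _ _ _ ω hω hn
    classical
    rcases Nat.eq_zero_or_pos n with h0 | hpos
    · have hsub : Subsingleton V := by
        rw [← Module.finrank_zero_iff (R := F), hn, h0]
      refine ⟨Empty, inferInstance, fun e => e.elim, Module.Basis.empty V, fun e => e.elim⟩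
    · have hpos' : 0 < Module.finrank F V := by rw [hn]; exact hpos
      rw [Module.finrank_pos_iff_exists_ne_zero] at hpos'
      obtain ⟨v₀, hv₀⟩ := hpos'
      have hli : LinearIndependent F ![v₀, ω v₀] := by
        rw [LinearIndependent.pair_iff]
        intro a b hab
        by_cases hb : b = 0
        · rw [hb, zero_smul, add_zero] at hab
          exact ⟨(smul_eq_zero.1 hab).resolve_right hv₀, hb⟩
        · exfalso
          have h1 : ω v₀ = (-(a / b)) • v₀ := by
            have : b • ω v₀ = (-a) • v₀ := by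
              rw [neg_smul]
              exact eq_neg_of_add_eq_zero_right hab
            calc ω v₀ = b⁻¹ • (b • ω v₀) := by rw [smul_smul, inv_mul_cancel₀ hb, one_smul]
              _ = (-(a / b)) • v₀ := by
                rw [this, smul_smul]
                congr 1
                field_simp
          have h2 := hω v₀
          rw [h1, map_smul, h1, smul_smul, smul_smul, ← sub_smul] at h2
          have h3 : (-(a / b) * -(a / b) - (t * -(a / b) - d)) • v₀ = 0 := by
            rw [sub_smul, h2, sub_self]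
          have h4 := (smul_eq_zero.1 h3).resolve_right hv₀
          apply hirr (-(a / b))
          rw [← h4]
          ring
      set W : Submodule F V := Submodule.span F (Set.range ![v₀, ω v₀]) with hW
      have hvW : v₀ ∈ W := Submodule.subset_span ⟨0, rfl⟩
      have hωvW : ω v₀ ∈ W := Submodule.subset_span ⟨1, rfl⟩
      have he : W ≤ W.comap ω := by
        rw [hW, Submodule.span_le]
        rintro _ ⟨i, rfl⟩
        rw [SetLike.mem_coe, Submodule.mem_comap]
        fin_cases i
        · exact hωvW
        · change ω (ω v₀) ∈ W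
          rw [hω]
          exact W.sub_mem (W.smul_mem t hωvW) (W.smul_mem d hvW)
      let bW : Module.Basis (Fin 2) F W := Module.Basis.span hli
      have hfrW : Module.finrank F W = 2 := by
        rw [Module.finrank_eq_card_basis bW, Fintype.card_fin]
      have hfrQ : Module.finrank F (V ⧸ W) = n - 2 := by
        have := Submodule.finrank_quotient_add_finrank W
        omega
      have hn2 : 2 ≤ n := by
        have := Submodule.finrank_le W
        omega
      have hωq : ∀ q : V ⧸ W, (W.mapQ W ω he) ((W.mapQ W ω he) q) =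
          t • (W.mapQ W ω he) q - d • q := by
        intro q
        obtain ⟨v', rfl⟩ := Submodule.mkQ_surjective W q
        simp only [Submodule.mkQ_apply, Submodule.mapQ_apply, hω v', Submodule.Quotient.mk_smul,
          Submodule.Quotient.mk_sub]
      obtain ⟨ι', _, vq, bq, hbq⟩ := ih (n - 2) (by omega) (V ⧸ W) (W.mapQ W ω he) hωq hfrQ
      have hlift : ∀ i : ι', ∃ v' : V, W.mkQ v' = vq i := fun i => Submodule.mkQ_surjective W _
      choose v' hv' using hlift
      set v : Option ι' → V := fun o => o.elim v₀ v' with hv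
      set fam : Option ι' ⊕ Option ι' → V := Sum.elim v (fun o => ω (v o)) with hfam
      set S := Submodule.span F (Set.range fam) with hS
      have hfamS : ∀ j, fam j ∈ S := fun j => Submodule.subset_span ⟨j, rfl⟩
      have hWS : W ≤ S := by
        rw [hW, Submodule.span_le]
        rintro _ ⟨i, rfl⟩
        fin_cases i
        · exact hfamS (Sum.inl none)
        · exact hfamS (Sum.inr none)
      have hspan : ⊤ ≤ S := by
        intro y _
        set lift : ι' ⊕ ι' → V := Sum.elim v' (fun i => ω (v' i)) with hlift'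
        have hliftS : ∀ j, lift j ∈ S := by
          intro j
          rcases j with i | i
          · exact hfamS (Sum.inl (some i))
          · exact hfamS (Sum.inr (some i))
        have hliftq : ∀ j, W.mkQ (lift j) = bq j := by
          intro j
          rcases j with i | i
          · rw [(hbq i).1]
            exact hv' i
          · rw [(hbq i).2, ← hv' i]
            simp only [hlift', Sum.elim_inr, Submodule.mkQ_apply, Submodule.mapQ_apply]
        set y' : V := ∑ j, (bq.repr (W.mkQ y) j) • lift j with hy'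
        have hy'S : y' ∈ S := Submodule.sum_mem _ fun j _ => S.smul_mem _ (hliftS j)
        have hq : W.mkQ (y - y') = 0 := by
          rw [map_sub, hy', map_sum]
          simp only [map_smul, hliftq]
          rw [bq.sum_repr, sub_self]
        have hmem : y - y' ∈ W := by
          rw [Submodule.mkQ_apply, Submodule.Quotient.mk_eq_zero] at hq
          exact hq
        have := S.add_mem (hWS hmem) hy'S
        rwa [sub_add_cancel] at this
      have hcard : Fintype.card (Option ι' ⊕ Option ι') = Module.finrank F V := by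
        have h1 : Fintype.card (ι' ⊕ ι') = n - 2 := by
          rw [← Module.finrank_eq_card_basis bq, hfrQ]
        rw [Fintype.card_sum] at h1
        rw [Fintype.card_sum, Fintype.card_option, hn]
        omega
      refine ⟨Option ι', inferInstance, v, basisOfTopLeSpanOfCardEqFinrank fam hspan hcard, ?_⟩
      intro o
      rw [coe_basisOfTopLeSpanOfCardEqFinrank]
      exact ⟨rfl, rfl⟩

/-- two matrices with the same irreducible quadratic relation are conjugate -/
theorem exists_conj_gen {F : Type*} [Field F] {n : ℕ} (t d : F)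
    (hirr : ∀ l : F, l ^ 2 - t * l + d ≠ 0) (Ω₁ Ω₂ : Matrix (Fin n) (Fin n) F)
    (h₁ : Ω₁ * Ω₁ = t • Ω₁ - d • (1 : Matrix (Fin n) (Fin n) F))
    (h₂ : Ω₂ * Ω₂ = t • Ω₂ - d • (1 : Matrix (Fin n) (Fin n) F)) :
    ∃ G G' : Matrix (Fin n) (Fin n) F, G * G' = 1 ∧ G' * G = 1 ∧ G * Ω₁ = Ω₂ * G := by
  classical
  have hrel : ∀ (Ω : Matrix (Fin n) (Fin n) F),
      Ω * Ω = t • Ω - d • (1 : Matrix (Fin n) (Fin n) F) →
      ∀ v, Matrix.toLin' Ω (Matrix.toLin' Ω v) = t • Matrix.toLin' Ω v - d • v := by
    intro Ω h v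
    rw [Matrix.toLin'_apply, Matrix.toLin'_apply, Matrix.mulVec_mulVec, h, Matrix.sub_mulVec,
      Matrix.smul_mulVec, Matrix.smul_mulVec, Matrix.one_mulVec]
  obtain ⟨ι₁, _, v₁, b₁, hb₁⟩ := exists_pair_basis t d hirr n (Fin n → F) (Matrix.toLin' Ω₁)
    (hrel Ω₁ h₁) (Module.finrank_fin_fun F)
  obtain ⟨ι₂, _, v₂, b₂, hb₂⟩ := exists_pair_basis t d hirr n (Fin n → F) (Matrix.toLin' Ω₂)
    (hrel Ω₂ h₂) (Module.finrank_fin_fun F)
  have hc₁ : Fintype.card ι₁ + Fintype.card ι₁ = n := by
    rw [← Fintype.card_sum, ← Module.finrank_eq_card_basis b₁, Module.finrank_fin_fun]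
  have hc₂ : Fintype.card ι₂ + Fintype.card ι₂ = n := by
    rw [← Fintype.card_sum, ← Module.finrank_eq_card_basis b₂, Module.finrank_fin_fun]
  have hcc : Fintype.card ι₁ = Fintype.card ι₂ := by omega
  let e : ι₁ ≃ ι₂ := Fintype.equivOfCardEq hcc
  let g : (Fin n → F) ≃ₗ[F] (Fin n → F) := b₁.equiv b₂ (Equiv.sumCongr e e)
  have hg : ∀ j, g (b₁ j) = b₂ (Equiv.sumCongr e e j) := fun j => Module.Basis.equiv_apply _ _ _ _
  have hcomm : (g : (Fin n → F) →ₗ[F] (Fin n → F)) ∘ₗ Matrix.toLin' Ω₁ =
      Matrix.toLin' Ω₂ ∘ₗ (g : (Fin n → F) →ₗ[F] (Fin n → F)) := by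
    apply b₁.ext
    intro j
    simp only [LinearMap.comp_apply, LinearEquiv.coe_coe]
    rcases j with i | i
    · rw [hg, (hb₁ i).1, ← (hb₁ i).2, hg]
      simp only [Equiv.sumCongr_apply, Sum.map_inl, Sum.map_inr]
      rw [(hb₂ (e i)).1, (hb₂ (e i)).2]
    · rw [hg, (hb₁ i).2, hrel Ω₁ h₁, map_sub, map_smul, map_smul, ← (hb₁ i).2, ← (hb₁ i).1, hg, hg]
      simp only [Equiv.sumCongr_apply, Sum.map_inl, Sum.map_inr]
      rw [(hb₂ (e i)).1, (hb₂ (e i)).2, hrel Ω₂ h₂]
  refine ⟨LinearMap.toMatrix' (g : (Fin n → F) →ₗ[F] (Fin n → F)),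
    LinearMap.toMatrix' (g.symm : (Fin n → F) →ₗ[F] (Fin n → F)), ?_, ?_, ?_⟩
  · rw [← LinearMap.toMatrix'_comp]
    have : (g : (Fin n → F) →ₗ[F] (Fin n → F)) ∘ₗ (g.symm : (Fin n → F) →ₗ[F] (Fin n → F)) =
        LinearMap.id := by
      ext v
      simp
    rw [this, LinearMap.toMatrix'_id]
  · rw [← LinearMap.toMatrix'_comp]
    have : (g.symm : (Fin n → F) →ₗ[F] (Fin n → F)) ∘ₗ (g : (Fin n → F) →ₗ[F] (Fin n → F)) =
        LinearMap.id := by
      ext v
      simp
    rw [this, LinearMap.toMatrix'_id]
  · have e1 : Ω₁ = LinearMap.toMatrix' (Matrix.toLin' Ω₁) := (LinearMap.toMatrix'_toLin' Ω₁).symm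
    have e2 : Ω₂ = LinearMap.toMatrix' (Matrix.toLin' Ω₂) := (LinearMap.toMatrix'_toLin' Ω₂).symm
    conv_lhs => rw [e1]
    conv_rhs => rw [e2]
    rw [← LinearMap.toMatrix'_comp, ← LinearMap.toMatrix'_comp, hcomm]

end Cfsg.Agent.Lib.Helper8.ExtField
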