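import Mathlib
import Cfsg.Agent.Lib.Helper8.ExtFieldB

/-!
# `3 × 3` matrices of order three when the field has no primitive cube root of unity (helper8)
-/

set_option autoImplicit false
set_option linter.unusedSectionVars false

namespace Cfsg.Agent.Lib.Helper8.Singer3

open Matrix Module Cfsg.Agent.Lib.Helper8.ExtField

section CaseII

variable {F : Type*} [Field F]

/-- a fixed vector and a vector killed by `A² + A + 1` -/
def HasNF2 (A : Matrix (Fin 3) (Fin 3) F) : Prop :=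
  ∃ e₀ u : Fin 3 → F, e₀ ≠ 0 ∧ u ≠ 0 ∧ A *ᵥ e₀ = e₀ ∧ A *ᵥ (A *ᵥ u) = -u - A *ᵥ u

theorem exists_mulVec_ne_zero (M : Matrix (Fin 3) (Fin 3) F) (hM : M ≠ 0) :
    ∃ v : Fin 3 → F, M *ᵥ v ≠ 0 := by
  by_contra hcon
  push Not at hcon
  apply hM
  apply Matrix.toLin'.injective
  apply LinearMap.ext
  intro v
  rw [Matrix.toLin'_apply, hcon v, map_zero, LinearMap.zero_apply]

theorem hasNF2_of_ne_one (hirr : ∀ l : F, l ^ 2 + l + 1 ≠ 0)
    (A : Matrix (Fin 3) (Fin 3) F) (hA3 : A * A * A = 1) (hA1 : A ≠ 1) : HasNF2 A := by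
  classical
  set B₂ : Matrix (Fin 3) (Fin 3) F := A * A + A + 1 with hB₂def
  have hB₂ : B₂ ≠ 0 := by
    intro h0
    have hAA : A * A = -A - 1 := by
      have : A * A = B₂ - A - 1 := by rw [hB₂def]; abel
      rw [this, h0, zero_sub]
    have hω : ∀ v, Matrix.toLin' A (Matrix.toLin' A v) =
        (-1 : F) • Matrix.toLin' A v - (1 : F) • v := by
      intro v
      rw [Matrix.toLin'_apply, Matrix.toLin'_apply, Matrix.mulVec_mulVec, hAA,
        Matrix.sub_mulVec, Matrix.neg_mulVec, Matrix.one_mulVec, neg_smul, one_smul, one_smul]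
    obtain ⟨ι, _, v, b, _⟩ := exists_pair_basis (-1 : F) 1
      (by
        intro l h
        apply hirr l
        linear_combination h) 3 (Fin 3 → F) (Matrix.toLin' A) hω (Module.finrank_fin_fun F)
    have := Module.finrank_eq_card_basis b
    rw [Module.finrank_fin_fun, Fintype.card_sum] at this
    omega
  obtain ⟨v, hv⟩ := exists_mulVec_ne_zero B₂ hB₂
  have hAB₂ : A * B₂ = B₂ := by
    rw [hB₂def, Matrix.mul_add, Matrix.mul_add, ← Matrix.mul_assoc, hA3, Matrix.mul_one]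
    abel
  obtain ⟨v', hv'⟩ := exists_mulVec_ne_zero (A - 1) (sub_ne_zero.2 hA1)
  have hrel : B₂ * (A - 1) = 0 := by
    rw [hB₂def, Matrix.mul_sub, Matrix.mul_one, Matrix.add_mul, Matrix.add_mul, Matrix.one_mul,
      hA3]
    abel
  refine ⟨B₂ *ᵥ v, (A - 1) *ᵥ v', hv, hv', ?_, ?_⟩
  · rw [Matrix.mulVec_mulVec, hAB₂]
  · have h1 : B₂ *ᵥ ((A - 1) *ᵥ v') = 0 := by
      rw [Matrix.mulVec_mulVec, hrel, Matrix.zero_mulVec]
    rw [hB₂def, Matrix.add_mulVec, Matrix.add_mulVec, Matrix.one_mulVec,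
      ← Matrix.mulVec_mulVec] at h1
    have h2 := eq_neg_of_add_eq_zero_left h1
    have h3 := eq_sub_of_add_eq h2
    rw [h3]

/-- the vectors `u, A u` are linearly independent -/
theorem pair_indep (hirr : ∀ l : F, l ^ 2 + l + 1 ≠ 0)
    (A : Matrix (Fin 3) (Fin 3) F) (u : Fin 3 → F) (hu : u ≠ 0)
    (h₁ : A *ᵥ (A *ᵥ u) = -u - A *ᵥ u) (a b : F) (h : a • u + b • A *ᵥ u = 0) :
    a = 0 ∧ b = 0 := by
  have hb : b = 0 := by
    by_contra hb
    set l : F := -a / b with hl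
    have hAu : A *ᵥ u = l • u := by
      have : b • A *ᵥ u = b • (l • u) := by
        rw [smul_smul, hl, mul_div_cancel₀ _ hb, neg_smul]
        exact eq_neg_of_add_eq_zero_right h
      exact smul_right_injective _ hb this
    rw [hAu, Matrix.mulVec_smul, hAu, smul_smul] at h₁
    have : (l ^ 2 + l + 1) • u = 0 := by
      rw [add_smul, add_smul, one_smul, pow_two, h₁]
      abel
    rcases smul_eq_zero.1 this with h0 | h0
    · exact hirr l h0
    · exact hu h0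
  rw [hb, zero_smul, add_zero] at h
  exact ⟨(smul_eq_zero.1 h).resolve_right hu, hb⟩

theorem exists_basis_of_hasNF2 (h3 : (3 : F) ≠ 0) (hirr : ∀ l : F, l ^ 2 + l + 1 ≠ 0)
    (A : Matrix (Fin 3) (Fin 3) F) (e₀ u : Fin 3 → F) (he₀ : e₀ ≠ 0) (hu : u ≠ 0)
    (h₀ : A *ᵥ e₀ = e₀) (h₁ : A *ᵥ (A *ᵥ u) = -u - A *ᵥ u) :
    ∃ b : Basis (Fin 3) F (Fin 3 → F), b 0 = e₀ ∧ b 1 = u ∧ b 2 = A *ᵥ u := by
  classical
  have hli : LinearIndependent F (![e₀, u, A *ᵥ u] : Fin 3 → (Fin 3 → F)) := by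
    rw [Fintype.linearIndependent_iff]
    intro g hg
    rw [Fin.sum_univ_three] at hg
    simp only [Matrix.cons_val_zero, Matrix.cons_val_one, Matrix.cons_val_two, Matrix.head_cons,
      Matrix.tail_cons] at hg
    -- apply `A - 1`
    have h4 : (A - 1) *ᵥ (g 0 • e₀ + g 1 • u + g 2 • A *ᵥ u) = 0 := by
      rw [hg, Matrix.mulVec_zero]
    rw [Matrix.mulVec_add, Matrix.mulVec_add, Matrix.mulVec_smul, Matrix.mulVec_smul,
      Matrix.mulVec_smul, Matrix.sub_mulVec, Matrix.sub_mulVec, Matrix.sub_mulVec,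
      Matrix.one_mulVec, Matrix.one_mulVec, Matrix.one_mulVec, h₀, h₁, sub_self, smul_zero,
      zero_add] at h4
    have h5 : (-g 1 - g 2) • u + (g 1 - 2 * g 2) • A *ᵥ u = 0 := by
      rw [← h4]
      module
    obtain ⟨h6, h7⟩ := pair_indep hirr A u hu h₁ _ _ h5
    have hg2 : g 2 = 0 := by
      have : (3 : F) * g 2 = 0 := by linear_combination (-1 : F) * h6 - h7
      exact (mul_eq_zero.1 this).resolve_left h3
    have hg1 : g 1 = 0 := by
      rw [hg2] at h7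
      linear_combination h7
    rw [hg1, hg2, zero_smul, zero_smul, add_zero, add_zero] at hg
    have hg0 : g 0 = 0 := (smul_eq_zero.1 hg).resolve_right he₀
    intro i
    fin_cases i
    · exact hg0
    · exact hg1
    · exact hg2
  refine ⟨basisOfLinearIndependentOfCardEqFinrank hli (by simp), ?_, ?_, ?_⟩ <;>
    rw [coe_basisOfLinearIndependentOfCardEqFinrank] <;> rfl

/-- two matrices of order three are conjugate by a matrix of determinant one -/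
theorem conj_of_hasNF2 (h3 : (3 : F) ≠ 0) (hirr : ∀ l : F, l ^ 2 + l + 1 ≠ 0)
    (hcube : ∀ a : F, ∃ b : F, b ^ 3 = a)
    (A B : Matrix (Fin 3) (Fin 3) F) (hA : HasNF2 A) (hB : HasNF2 B) :
    ∃ T : Matrix (Fin 3) (Fin 3) F, T.det = 1 ∧ T * A = B * T := by
  classical
  obtain ⟨e₀, u, he₀, hu, h₀, h₁⟩ := hA
  obtain ⟨f₀, w, hf₀, hw, g₀, g₁⟩ := hB
  obtain ⟨bA, hbA0, hbA1, hbA2⟩ := exists_basis_of_hasNF2 h3 hirr A e₀ u he₀ hu h₀ h₁
  obtain ⟨bB, hbB0, hbB1, hbB2⟩ := exists_basis_of_hasNF2 h3 hirr B f₀ w hf₀ hw g₀ g₁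
  obtain ⟨L₁, hL₁⟩ : ∃ L₁ : (Fin 3 → F) ≃ₗ[F] (Fin 3 → F),
      L₁ = bA.equiv bB (Equiv.refl (Fin 3)) := ⟨_, rfl⟩
  have hL₁b : ∀ i, L₁ (bA i) = bB i := by
    intro i
    rw [hL₁, Basis.equiv_apply, Equiv.refl_apply]
  obtain ⟨δ, hδ⟩ : ∃ δ : F, δ = LinearMap.det (L₁ : (Fin 3 → F) →ₗ[F] (Fin 3 → F)) := ⟨_, rfl⟩
  have hδ0 : δ ≠ 0 := by
    rw [hδ]
    exact (LinearEquiv.isUnit_det' L₁).ne_zero
  obtain ⟨c, hc⟩ := hcube δ⁻¹
  obtain ⟨T₀, hT₀⟩ : ∃ T₀ : Matrix (Fin 3) (Fin 3) F,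
      T₀ = LinearMap.toMatrix' (L₁ : (Fin 3 → F) →ₗ[F] (Fin 3 → F)) := ⟨_, rfl⟩
  have hT₀det : T₀.det = δ := by rw [hT₀, LinearMap.det_toMatrix', hδ]
  have hcomm : (L₁ : (Fin 3 → F) →ₗ[F] (Fin 3 → F)) ∘ₗ Matrix.toLin' A =
      Matrix.toLin' B ∘ₗ (L₁ : (Fin 3 → F) →ₗ[F] (Fin 3 → F)) := by
    apply bA.ext
    intro i
    rw [LinearMap.comp_apply, LinearMap.comp_apply, LinearEquiv.coe_coe,
      hL₁b, Matrix.toLin'_apply, Matrix.toLin'_apply]
    fin_cases i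
    · simp only [Fin.zero_eta]
      rw [hbA0, hbB0, h₀, g₀, ← hbA0, hL₁b, hbB0]
    · simp only [Fin.mk_one]
      rw [hbA1, hbB1, ← hbA2, hL₁b, hbB2]
    · simp only [Fin.reduceFinMk]
      rw [hbA2, hbB2, h₁, g₁, map_sub, map_neg, ← hbA2, ← hbA1, hL₁b, hL₁b, hbB1, hbB2]
  have hT₀A : T₀ * A = B * T₀ := by
    have := congrArg LinearMap.toMatrix' hcomm
    rw [LinearMap.toMatrix'_comp, LinearMap.toMatrix'_comp, LinearMap.toMatrix'_toLin',
      LinearMap.toMatrix'_toLin', ← hT₀] at this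
    exact this
  refine ⟨c • T₀, ?_, ?_⟩
  · rw [Matrix.det_smul, Fintype.card_fin, hT₀det, hc, inv_mul_cancel₀ hδ0]
  · rw [Matrix.smul_mul, Matrix.mul_smul, hT₀A]

end CaseII

end Cfsg.Agent.Lib.Helper8.Singer3
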