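import Mathlib

/-!
# A `3 × 3` matrix with `A³ = z` and `z` not a cube has determinant `z` (helper8)
-/

set_option autoImplicit false
set_option linter.unusedSectionVars false

namespace Cfsg.Agent.Lib.Helper8.Singer3

open Matrix Module

section Companion

variable {F : Type*} [Field F]

theorem det_of_no_cube_root (A : Matrix (Fin 3) (Fin 3) F) (z : F)
    (hA3 : A * A * A = z • (1 : Matrix (Fin 3) (Fin 3) F)) (hnc : ∀ c : F, c ^ 3 ≠ z) :
    A.det = z := by
  classical
  have hz : z ≠ 0 := by
    intro h0
    exact hnc 0 (by rw [h0]; ring)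
  set v : Fin 3 → F := Pi.single 0 1 with hv
  have hv0 : v ≠ 0 := by
    intro h0
    have := congrFun h0 0
    rw [hv, Pi.single_eq_same, Pi.zero_apply] at this
    exact one_ne_zero this
  set u₁ : Fin 3 → F := A *ᵥ v with hu₁
  set u₂ : Fin 3 → F := A *ᵥ u₁ with hu₂
  have hAu₂ : A *ᵥ u₂ = z • v := by
    rw [hu₂, hu₁, Matrix.mulVec_mulVec, Matrix.mulVec_mulVec, hA3,
      Matrix.smul_mulVec, Matrix.one_mulVec]
  -- no eigenvector
  have hnoeig : ∀ l : F, u₁ ≠ l • v := by
    intro l h
    have h1 : u₂ = (l * l) • v := by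
      rw [hu₂, h, Matrix.mulVec_smul, ← hu₁, h, smul_smul]
    have h2 : z • v = (l * l * l) • v := by
      rw [← hAu₂, h1, Matrix.mulVec_smul, ← hu₁, h, smul_smul]
    have h3 : (z - l * l * l) • v = 0 := by rw [sub_smul, h2, sub_self]
    rcases smul_eq_zero.1 h3 with h4 | h4
    · exact hnc l (by linear_combination -h4)
    · exact hv0 h4
  -- `v, u₁` independent
  have hpair : ∀ a b : F, a • v + b • u₁ = 0 → a = 0 ∧ b = 0 := by
    intro a b h
    have hb : b = 0 := by
      by_contra hb
      apply hnoeig (-a / b)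
      have : b • u₁ = b • ((-a / b) • v) := by
        rw [smul_smul, mul_div_cancel₀ _ hb, neg_smul]
        exact eq_neg_of_add_eq_zero_right h
      exact smul_right_injective _ hb this
    rw [hb, zero_smul, add_zero] at h
    exact ⟨(smul_eq_zero.1 h).resolve_right hv0, hb⟩
  -- `u₂` is not in the span of `v, u₁`
  have hnospan : ∀ a b : F, u₂ ≠ a • v + b • u₁ := by
    intro a b h
    have h1 : z • v = (a * b) • v + (a + b * b) • u₁ := by
      rw [← hAu₂, h, Matrix.mulVec_add, Matrix.mulVec_smul, Matrix.mulVec_smul, ← hu₁, ← hu₂, h]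
      module
    have h2 : (a * b - z) • v + (a + b * b) • u₁ = 0 := by
      rw [sub_smul, h1]
      abel
    obtain ⟨h3, h4⟩ := hpair _ _ h2
    exact hnc (-b) (by linear_combination (-b) * h4 + h3)
  have hli : LinearIndependent F (![v, u₁, u₂] : Fin 3 → (Fin 3 → F)) := by
    rw [Fintype.linearIndependent_iff]
    intro g hg
    rw [Fin.sum_univ_three] at hg
    simp only [Matrix.cons_val_zero, Matrix.cons_val_one, Matrix.cons_val_two, Matrix.head_cons,
      Matrix.tail_cons] at hg
    have hg2 : g 2 = 0 := by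
      by_contra hg2
      apply hnospan (-g 0 / g 2) (-g 1 / g 2)
      have : g 2 • u₂ = g 2 • ((-g 0 / g 2) • v + (-g 1 / g 2) • u₁) := by
        rw [smul_add, smul_smul, smul_smul, mul_div_cancel₀ _ hg2, mul_div_cancel₀ _ hg2,
          neg_smul, neg_smul]
        have := eq_neg_of_add_eq_zero_right hg
        rw [this]
        abel
      exact smul_right_injective _ hg2 this
    rw [hg2, zero_smul, add_zero] at hg
    obtain ⟨hg0, hg1⟩ := hpair _ _ hg
    intro i
    fin_cases i
    · exact hg0
    · exact hg1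
    · exact hg2
  set R : Matrix (Fin 3) (Fin 3) F := Matrix.of ![v, u₁, u₂] with hR
  have hRunit : IsUnit R := by
    rw [← Matrix.linearIndependent_rows_iff_isUnit]
    exact hli
  set C : Matrix (Fin 3) (Fin 3) F := !![0, 1, 0; 0, 0, 1; z, 0, 0] with hC
  have hrel : R * Aᵀ = C * R := by
    ext j i
    have hrow : ∀ (w : Fin 3 → F), (∑ k, w k * Aᵀ k i) = (A *ᵥ w) i := by
      intro w
      rw [Matrix.mulVec, dotProduct]
      apply Finset.sum_congr rfl
      intro k _
      rw [Matrix.transpose_apply, mul_comm]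
    rw [Matrix.mul_apply, Matrix.mul_apply, Fin.sum_univ_three (f := fun k => C j k * R k i)]
    fin_cases j
    · have : ∀ k, R 0 k = v k := fun k => rfl
      simp only [Fin.zero_eta, this]
      rw [hrow v, hC]
      simp [hR, hu₁]
    · have : ∀ k, R 1 k = u₁ k := fun k => rfl
      simp only [Fin.mk_one, this]
      rw [hrow u₁, hC]
      simp [hR, hu₂]
    · have : ∀ k, R 2 k = u₂ k := fun k => rfl
      simp only [Fin.reduceFinMk, this]
      rw [hrow u₂, hAu₂, hC]
      simp [hR]
  have hdetR : R.det ≠ 0 := by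
    have := (Matrix.isUnit_iff_isUnit_det R).1 hRunit
    exact this.ne_zero
  have hdet := congrArg Matrix.det hrel
  rw [Matrix.det_mul, Matrix.det_mul, Matrix.det_transpose] at hdet
  have hCdet : C.det = z := by
    rw [hC, Matrix.det_fin_three]
    simp
  rw [hCdet, mul_comm] at hdet
  exact mul_right_cancel₀ hdetR hdet

end Companion

end Cfsg.Agent.Lib.Helper8.Singer3
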