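import Mathlib
import Cfsg.Agent.Lib.Helper8.Singer3B
import Cfsg.Agent.Lib.Helper8.Singer3D
import Cfsg.Agent.Lib.Helper8.Singer3E
import Cfsg.Agent.Lib.Helper8.Singer3F

/-!
# Elements of order three of `SL_3(q)` conjugate into the normalizer of a Singer cycle (helper8)
-/

set_option autoImplicit false
set_option linter.unusedSectionVars false

open scoped MatrixGroups

namespace Cfsg.Agent.Lib.Helper8.Singer3

open Matrix Module

section FrobNF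

variable {F : Type*} [Field F] [Fintype F]

/-- an element of `K` killing a nonzero vector is zero -/
theorem eq_zero_of_mulVec {n r : ℕ} (K : Subalgebra F (Matrix (Fin n) (Fin n) F))
    (hK : Cfsg.Geo.IsFieldSubalgebra r K) (k : Matrix (Fin n) (Fin n) F) (hk : k ∈ K)
    (v₀ : Fin n → F) (hv₀ : v₀ ≠ 0) (h : k *ᵥ v₀ = 0) : k = 0 := by
  by_contra hne
  obtain ⟨y, hyK, hy⟩ := hK.inv k hk hne
  have hyk : y * k = 1 := by rw [← hK.comm k hk y hyK]; exact hy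
  apply hv₀
  calc v₀ = (y * k) *ᵥ v₀ := by rw [hyk, Matrix.one_mulVec]
    _ = 0 := by rw [← Matrix.mulVec_mulVec, h, Matrix.mulVec_zero]

theorem eig_Q (A : Matrix (Fin 3) (Fin 3) F) (hA3 : A * A * A = 1) (c : F) (hc : c ^ 3 = 1) :
    A * (A * A + c • A + (c ^ 2) • (1 : Matrix (Fin 3) (Fin 3) F)) =
      c • (A * A + c • A + (c ^ 2) • (1 : Matrix (Fin 3) (Fin 3) F)) := by
  rw [Matrix.mul_add, Matrix.mul_add, ← Matrix.mul_assoc, hA3, Matrix.mul_smul,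
    Matrix.mul_smul, Matrix.mul_one, smul_add, smul_add, smul_smul, smul_smul]
  have : c * c ^ 2 = 1 := by rw [← pow_succ']; exact hc
  have h2 : c * c = c ^ 2 := (pow_two c).symm
  rw [this, one_smul, h2]
  abel

/-- the Frobenius matrix has the three cube roots of unity as eigenvalues -/
theorem frob_hasEig3 (K : Subalgebra F (Matrix (Fin 3) (Fin 3) F))
    (hK : Cfsg.Geo.IsFieldSubalgebra 3 K) {q : ℕ}
    (h3 : (3 : F) ≠ 0) (ω : F) (hω : ω ^ 2 + ω + 1 = 0)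
    (v₀ : Fin 3 → F) (hv₀ : v₀ ≠ 0) (hsurj : ∀ v : Fin 3 → F, ∃ k ∈ K, k *ᵥ v₀ = v)
    (G : Matrix (Fin 3) (Fin 3) F) (hG3 : G * G * G = 1) (hG1 : G ≠ 1) (hGv : G *ᵥ v₀ = v₀)
    (hGk : ∀ k ∈ K, G * k = k ^ q * G) : HasEig3 G ω := by
  classical
  have hω3 := omega_cube ω hω
  have hω1 := omega_ne_one h3 ω hω
  have hω21 := omega_sq_ne h3 ω hω
  have hGkv : ∀ k ∈ K, G *ᵥ (k *ᵥ v₀) = (k ^ q) *ᵥ v₀ := by
    intro k hk
    rw [Matrix.mulVec_mulVec, hGk k hk, ← Matrix.mulVec_mulVec, hGv]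
  -- an eigenvector for `ω` or `ω²`
  have hex : ∃ c : F, (c = ω ∨ c = ω ^ 2) ∧ ∃ e : Fin 3 → F, e ≠ 0 ∧ G *ᵥ e = c • e := by
    set Q₁ := G * G + ω • G + (ω ^ 2) • (1 : Matrix (Fin 3) (Fin 3) F) with hQ₁
    set Q₂ := G * G + (ω ^ 2) • G + ((ω ^ 2) ^ 2) • (1 : Matrix (Fin 3) (Fin 3) F) with hQ₂
    have hω23 : (ω ^ 2) ^ 3 = 1 := by rw [← pow_mul, mul_comm, pow_mul, hω3, one_pow]
    have hne : Q₁ ≠ 0 ∨ Q₂ ≠ 0 := by
      by_contra hcon
      push Not at hcon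
      obtain ⟨h1, h2⟩ := hcon
      apply hG1
      have h4 : (ω ^ 2) ^ 2 = ω := by
        rw [← pow_mul]
        linear_combination ω * hω3
      have h5 : (ω - ω ^ 2) • (G - 1) = 0 := by
        have : (ω - ω ^ 2) • (G - 1) = Q₁ - Q₂ := by
          rw [hQ₁, hQ₂, h4, smul_sub, sub_smul, sub_smul]
          abel
        rw [this, h1, h2, sub_self]
      rcases smul_eq_zero.1 h5 with h6 | h6
      · exact absurd (sub_eq_zero.1 h6).symm hω21
      · exact sub_eq_zero.1 h6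
    rcases hne with h | h
    · obtain ⟨v, hv⟩ := exists_mulVec_ne_zero _ h
      refine ⟨ω, Or.inl rfl, Q₁ *ᵥ v, hv, ?_⟩
      rw [Matrix.mulVec_mulVec, hQ₁, eig_Q G hG3 ω hω3, Matrix.smul_mulVec]
    · obtain ⟨v, hv⟩ := exists_mulVec_ne_zero _ h
      refine ⟨ω ^ 2, Or.inr rfl, Q₂ *ᵥ v, hv, ?_⟩
      rw [Matrix.mulVec_mulVec, hQ₂, eig_Q G hG3 (ω ^ 2) hω23, Matrix.smul_mulVec]
  obtain ⟨c, hc, e, he, hGe⟩ := hex
  obtain ⟨k, hkK, hke⟩ := hsurj e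
  have hk0 : k ≠ 0 := by
    intro h0
    rw [h0, Matrix.zero_mulVec] at hke
    exact he hke.symm
  have hkq : k ^ q = c • k := by
    have h1 : (k ^ q - c • k) *ᵥ v₀ = 0 := by
      rw [Matrix.sub_mulVec, ← hGkv k hkK, hke, hGe, Matrix.smul_mulVec, hke, sub_self]
    have := eq_zero_of_mulVec K hK _ (K.sub_mem (K.pow_mem hkK q) (K.smul_mem hkK c)) v₀ hv₀ h1
    exact sub_eq_zero.1 this
  have hkk0 : k * k ≠ 0 := by
    intro h0
    obtain ⟨y, _, hy⟩ := hK.inv k hkK hk0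
    apply hk0
    calc k = k * (k * y) := by rw [hy, Matrix.mul_one]
      _ = 0 := by rw [← Matrix.mul_assoc, h0, Matrix.zero_mul]
  have hkkK : k * k ∈ K := K.mul_mem hkK hkK
  have hkkq : (k * k) ^ q = (c ^ 2) • (k * k) := by
    rw [(Commute.refl k).mul_pow, hkq, Matrix.smul_mul, Matrix.mul_smul, smul_smul, pow_two]
  set e' : Fin 3 → F := (k * k) *ᵥ v₀ with he'
  have he'0 : e' ≠ 0 := by
    intro h0
    exact hkk0 (eq_zero_of_mulVec K hK _ hkkK v₀ hv₀ h0)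
  have hGe' : G *ᵥ e' = (c ^ 2) • e' := by
    rw [he', hGkv _ hkkK, hkkq, Matrix.smul_mulVec]
  rcases hc with hc | hc
  · rw [hc] at hGe hGe'
    exact ⟨v₀, e, e', hv₀, he, he'0, hGv, hGe, hGe'⟩
  · rw [hc] at hGe hGe'
    have h4 : (ω ^ 2) ^ 2 = ω := by
      rw [← pow_mul]
      linear_combination ω * hω3
    rw [h4] at hGe'
    exact ⟨v₀, e', e, hv₀, he'0, he, hGv, hGe', hGe⟩

end FrobNF

end Cfsg.Agent.Lib.Helper8.Singer3
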