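import Mathlib
import Cfsg.Agent.Lib.Helper8.Singer3G

/-!
# Elements of order three of `SL_3(q)` conjugate into the normalizer of a Singer cycle:
the positive direction (helper8)
-/

set_option autoImplicit false
set_option linter.unusedSectionVars false

open scoped MatrixGroups

namespace Cfsg.Agent.Lib.Helper8.Singer3

open Matrix Module

section FieldFacts

variable {F : Type*} [Field F] [Fintype F]

theorem three_ne_zero_of (p : ℕ) [Fact p.Prime] [CharP F p] (hp3 : p ≠ 3) : (3 : F) ≠ 0 := by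
  intro h0
  have h1 : ((3 : ℕ) : F) = 0 := by exact_mod_cast h0
  rw [CharP.cast_eq_zero_iff F p 3] at h1
  exact hp3 ((Nat.prime_dvd_prime_iff_eq (Fact.out : p.Prime) Nat.prime_three).1 h1)

theorem char_dvd_card (p : ℕ) [Fact p.Prime] [CharP F p] {q : ℕ} (hq : Fintype.card F = q) :
    p ∣ q := by
  obtain ⟨f, _, hf⟩ := FiniteField.card F p
  rw [hq] at hf
  rw [hf]
  exact dvd_pow_self p f.ne_zero

theorem card_units_eq {q : ℕ} (hq : Fintype.card F = q) : Nat.card Fˣ = q - 1 := by
  rw [Nat.card_units, Nat.card_eq_fintype_card, hq]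

/-- a primitive cube root of unity when `3 ∣ q - 1` -/
theorem exists_omega {q : ℕ} (hq : Fintype.card F = q) (h : 3 ∣ q - 1) :
    ∃ ω : F, ω ^ 2 + ω + 1 = 0 := by
  haveI : Fact (Nat.Prime 3) := ⟨Nat.prime_three⟩
  obtain ⟨u, hu⟩ := exists_prime_orderOf_dvd_card' (G := Fˣ) 3 (by rw [card_units_eq hq]; exact h)
  have hu3 : (u : F) ^ 3 = 1 := by
    rw [← Units.val_pow_eq_pow_val, ← hu, pow_orderOf_eq_one, Units.val_one]
  have hu1 : (u : F) ≠ 1 := by
    intro h1
    have : u = 1 := Units.ext (by rw [h1, Units.val_one])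
    rw [this, orderOf_one] at hu
    omega
  refine ⟨(u : F), ?_⟩
  have h2 : ((u : F) - 1) * ((u : F) ^ 2 + (u : F) + 1) = 0 := by linear_combination hu3
  rcases mul_eq_zero.1 h2 with h4 | h4
  · exact absurd (sub_eq_zero.1 h4) hu1
  · exact h4

/-- no root of `X² + X + 1` when `3 ∤ q - 1` and `3 ≠ 0` -/
theorem no_omega {q : ℕ} (hq : Fintype.card F = q) (h3 : (3 : F) ≠ 0) (h : ¬ 3 ∣ q - 1) (l : F) :
    l ^ 2 + l + 1 ≠ 0 := by
  intro hl
  have hl3 : l ^ 3 = 1 := by linear_combination (l - 1) * hl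
  have hl0 : l ≠ 0 := by
    intro h0
    rw [h0] at hl3
    simp at hl3
  have hl1 : l ≠ 1 := by
    intro h1
    rw [h1] at hl
    apply h3
    linear_combination hl
  apply h
  rw [← card_units_eq hq]
  have ho : orderOf (Units.mk0 l hl0) = 3 := by
    apply orderOf_eq_prime
    · apply Units.ext
      rw [Units.val_pow_eq_pow_val, Units.val_mk0, hl3, Units.val_one]
    · intro h1
      apply hl1
      have := congrArg Units.val h1
      rw [Units.val_mk0, Units.val_one] at this
      exact this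
  rw [← ho]
  exact orderOf_dvd_natCard _

/-- every element is a cube when `q ≡ 2 (mod 3)` -/
theorem exists_cube_root {q : ℕ} (hq : Fintype.card F = q) (h : q % 3 = 2) (a : F) :
    ∃ b : F, b ^ 3 = a := by
  by_cases ha : a = 0
  · exact ⟨0, by rw [ha]; ring⟩
  · have hq2 : 2 ≤ q := by rw [← hq]; exact Fintype.one_lt_card
    obtain ⟨t, ht⟩ : ∃ t, q - 1 = 3 * t + 1 := ⟨(q - 1) / 3, by omega⟩
    refine ⟨a ^ (2 * t + 1), ?_⟩
    have h1 : a ^ (q - 1) = 1 := by
      rw [← hq]
      exact FiniteField.pow_card_sub_one_eq_one a ha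
    have h2 : (2 * t + 1) * 3 = 2 * (q - 1) + 1 := by omega
    rw [← pow_mul, h2, pow_add, pow_mul', h1, one_pow, one_mul, pow_one]

/-- a cube root of a primitive cube root of unity has order nine -/
theorem nine_dvd_of_cube {q : ℕ} (hq : Fintype.card F = q) (c z : F) (hc : c ^ 3 = z)
    (hz3 : z ^ 3 = 1) (hz1 : z ≠ 1) : 9 ∣ q - 1 := by
  haveI : Fact (Nat.Prime 3) := ⟨Nat.prime_three⟩
  have hc0 : c ≠ 0 := by
    intro h0
    rw [h0] at hc
    rw [← hc] at hz3
    simp at hz3
  rw [← card_units_eq hq]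
  have ho : orderOf (Units.mk0 c hc0) = 3 ^ (1 + 1) := by
    apply orderOf_eq_prime_pow
    · intro h1
      apply hz1
      have := congrArg Units.val h1
      rw [Units.val_pow_eq_pow_val, Units.val_mk0, Units.val_one, pow_one, hc] at this
      exact this
    · apply Units.ext
      rw [Units.val_pow_eq_pow_val, Units.val_mk0, Units.val_one]
      have : c ^ 3 ^ (1 + 1) = (c ^ 3) ^ 3 := by rw [← pow_mul]; norm_num
      rw [this, hc, hz3]
  have : (9 : ℕ) = 3 ^ (1 + 1) := by norm_num
  rw [this, ← ho]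
  exact orderOf_dvd_natCard _

end FieldFacts

end Cfsg.Agent.Lib.Helper8.Singer3
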