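import Mathlib
import Cfsg.Agent.Lib.Helper8.Singer3H
import Cfsg.Agent.Lib.Helper8.SingerNA

/-!
# Finite-field facts for elements of prime order `n` in dimension `n` (helper8)
-/

set_option autoImplicit false
set_option linter.unusedSectionVars false

namespace Cfsg.Agent.Lib.Helper8.SingerN

open Matrix Module Polynomial

section FF

variable {F : Type*} [Field F] [Fintype F]

/-- a matrix of prime order `n` in dimension `n` fixes a nonzero vector when `n ∤ q - 1` -/
theorem exists_fixed {q n : ℕ} (hq : Fintype.card F = q) (hn : n.Prime) (hnq : ¬ n ∣ q - 1)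
    (M : Matrix (Fin n) (Fin n) F) (hM : M ^ n = 1) :
    ∃ e₀ : Fin n → F, e₀ ≠ 0 ∧ M *ᵥ e₀ = e₀ := by
  classical
  haveI : Fact n.Prime := ⟨hn⟩
  by_contra hcon
  push Not at hcon
  let f : Function.End (Fin n → F) := fun v => M *ᵥ v
  have hfpow : ∀ k : ℕ, ∀ v, (f ^ k) v = (M ^ k) *ᵥ v := by
    intro k
    induction k with
    | zero =>
      intro v
      rw [pow_zero, pow_zero, Matrix.one_mulVec]
      rfl
    | succ k ih =>
      intro v
      rw [pow_succ, pow_succ, ← Matrix.mulVec_mulVec, ← ih]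
      rfl
  have hf : f ^ n ^ 1 = 1 := by
    rw [pow_one]
    funext v
    rw [hfpow, hM, Matrix.one_mulVec]
    rfl
  have hmod := Equiv.Perm.card_fixedPoints_modEq (p := n) (n := 1) hf
  have hfix : Fintype.card (Function.fixedPoints f) = 1 := by
    rw [Fintype.card_eq_one_iff]
    refine ⟨⟨0, ?_⟩, ?_⟩
    · show f 0 = 0
      exact Matrix.mulVec_zero M
    · rintro ⟨v, hv⟩
      apply Subtype.ext
      show v = 0
      by_contra hv0
      exact hcon v hv0 hv
  rw [hfix, Fintype.card_fun, Fintype.card_fin, hq] at hmod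
  have h1 : ((q : ZMod n)) ^ n = 1 := by
    have := (ZMod.natCast_eq_natCast_iff _ _ _).2 hmod
    push_cast at this
    exact this
  rw [ZMod.pow_card] at h1
  have h2 : q ≡ 1 [MOD n] := by
    apply (ZMod.natCast_eq_natCast_iff _ _ _).1
    rw [h1, Nat.cast_one]
  have hq1 : 1 ≤ q := by rw [← hq]; exact Fintype.card_pos
  exact hnq ((Nat.modEq_iff_dvd' hq1).1 h2.symm)

/-- `x ↦ x ^ n` is injective on `F` when `n` is a prime not dividing `q - 1` -/
theorem pow_bij {q n : ℕ} (hq : Fintype.card F = q) (hn : n.Prime) (hnq : ¬ n ∣ q - 1) :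
    Function.Bijective (· ^ n : Fˣ → Fˣ) := by
  apply Nat.Coprime.pow_left_bijective
  rw [Singer3.card_units_eq hq]
  exact ((Nat.Prime.coprime_iff_not_dvd hn).2 hnq).symm

theorem eq_one_of_pow {q n : ℕ} (hq : Fintype.card F = q) (hn : n.Prime) (hnq : ¬ n ∣ q - 1)
    (z : F) (hz : z ^ n = 1) : z = 1 := by
  have hz0 : z ≠ 0 := by
    intro h0
    rw [h0, zero_pow hn.ne_zero] at hz
    exact zero_ne_one hz
  have h1 : (Units.mk0 z hz0) ^ n = (1 : Fˣ) ^ n := by
    apply Units.ext
    rw [Units.val_pow_eq_pow_val, Units.val_mk0, hz, one_pow, Units.val_one]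
  have := (pow_bij hq hn hnq).1 h1
  have h2 := congrArg Units.val this
  rw [Units.val_mk0, Units.val_one] at h2
  exact h2

theorem exists_root {q n : ℕ} (hq : Fintype.card F = q) (hn : n.Prime) (hnq : ¬ n ∣ q - 1)
    (a : F) : ∃ b : F, b ^ n = a := by
  by_cases ha : a = 0
  · exact ⟨0, by rw [ha, zero_pow hn.ne_zero]⟩
  · obtain ⟨b, hb⟩ := (pow_bij hq hn hnq).2 (Units.mk0 a ha)
    refine ⟨(b : F), ?_⟩
    have := congrArg Units.val hb
    simp only [Units.val_pow_eq_pow_val, Units.val_mk0] at this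
    exact this

/-- `1 + X + ⋯ + X^(n-1)` is irreducible over `F` when `q` has order `n - 1` modulo `n` -/
theorem irreducible_geomPoly (p : ℕ) [Fact p.Prime] [CharP F p] {q n : ℕ}
    (hq : Fintype.card F = q) (hn : n.Prime) (hnp : n ≠ p)
    (hord : orderOf (q : ZMod n) = n - 1) : Irreducible (geomPoly F n) := by
  haveI : Fact n.Prime := ⟨hn⟩
  obtain ⟨f, _, hf⟩ := FiniteField.card F p
  have hcop : p.Coprime n := by
    rw [Nat.coprime_primes (Fact.out : p.Prime) hn]
    exact fun h => hnp h.symm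
  have h1 : geomPoly F n = cyclotomic n F := by
    rw [cyclotomic_prime, geomPoly]
  rw [h1]
  apply irreducible_of_dvd_cyclotomic_of_natDegree hf hcop (dvd_refl _)
  rw [natDegree_cyclotomic, Nat.totient_prime hn, ← orderOf_units, ZMod.coe_unitOfCoprime,
    ← hf, hq, hord]

end FF

end Cfsg.Agent.Lib.Helper8.SingerN
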