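import Mathlib
import Cfsg.Agent.Lib.Helper8.InvSubC
import Cfsg.Agent.Lib.Helper8.SingerNB

/-!
# Invariant subspaces of elements of prime order over a finite field (helper8)
-/

set_option autoImplicit false
set_option linter.unusedSectionVars false

namespace Cfsg.Agent.Lib.Helper8.InvSub

open Module Polynomial Cfsg.Agent.Lib.Helper8.SingerN

section General

variable {F : Type*} [Field F] {V : Type*} [AddCommGroup V] [Module F V]

theorem allDeg_of_irreducible (g : F[X]) (hg : Irreducible g) : AllDeg g g.natDegree := by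
  intro g' hg' hdvd
  have h := hg'.associated_of_dvd hg hdvd
  exact natDegree_eq_of_degree_eq (degree_eq_degree_of_associated h)

theorem smul_mem_invt_iff (A : Module.End F V) (d : F) (hd : d ≠ 0) (W : Submodule F V) :
    W ∈ (d • A).invtSubmodule ↔ W ∈ A.invtSubmodule := by
  constructor
  · intro h v hv
    have h1 := h hv
    rw [Submodule.mem_comap, LinearMap.smul_apply] at h1
    rw [Submodule.mem_comap]
    have h2 := W.smul_mem d⁻¹ h1
    rw [smul_smul, inv_mul_cancel₀ hd, one_smul] at h2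
    exact h2
  · intro h v hv
    rw [Submodule.mem_comap, LinearMap.smul_apply]
    exact W.smul_mem d (h hv)

theorem isSemisimple_of_pow_eq_smul [FiniteDimensional F V] (A : Module.End F V) (r : ℕ)
    (hr : (r : F) ≠ 0) (c : F) (hc : c ≠ 0) (hA : A ^ r = c • 1) : A.IsSemisimple := by
  apply Module.End.isSemisimple_of_squarefree_aeval_eq_zero
    (p := (Polynomial.X : F[X]) ^ r - C c)
  · exact (separable_X_pow_sub_C c hr hc).squarefree
  · rw [map_sub, map_pow, aeval_X, aeval_C, hA, Algebra.algebraMap_eq_smul_one]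
    exact sub_self _

end General

section FF

variable {F : Type*} [Field F] [Fintype F] {V : Type*} [AddCommGroup V] [Module F V]

/-- the irreducible factors of `1 + X + ⋯ + X^(r-1)` over a field with `q` elements have degree
the order of `q` modulo `r` -/
theorem allDeg_geomPoly (p : ℕ) [Fact p.Prime] [CharP F p] {q r : ℕ}
    (hq : Fintype.card F = q) (hr : r.Prime) (hrp : r ≠ p) :
    AllDeg (geomPoly F r) (orderOf (q : ZMod r)) := by
  haveI : Fact r.Prime := ⟨hr⟩
  obtain ⟨f, _, hf⟩ := FiniteField.card F p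
  have hcop : p.Coprime r := by
    rw [Nat.coprime_primes (Fact.out : p.Prime) hr]
    exact fun h => hrp h.symm
  have h1 : geomPoly F r = cyclotomic r F := by
    rw [cyclotomic_prime, geomPoly]
  intro g hg hdvd
  rw [h1] at hdvd
  rw [natDegree_of_dvd_cyclotomic_of_irreducible hf hcop hdvd hg, ← orderOf_units,
    ZMod.coe_unitOfCoprime, ← hf, hq]

theorem natCast_ne_zero_of' (p : ℕ) [Fact p.Prime] [CharP F p] {r : ℕ} (hr : r.Prime)
    (hrp : r ≠ p) : (r : F) ≠ 0 := by
  intro h0
  rw [CharP.cast_eq_zero_iff F p r] at h0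
  exact hrp ((Nat.prime_dvd_prime_iff_eq (Fact.out : p.Prime) hr).1 h0).symm

theorem orderOf_eq_one_of_dvd {q r : ℕ} (hq1 : 1 ≤ q) (hdvd : r ∣ q - 1) :
    orderOf (q : ZMod r) = 1 := by
  have h1 : (q : ZMod r) = 1 := by
    have h2 : q = (q - 1) + 1 := by omega
    rw [h2, Nat.cast_add, (ZMod.natCast_eq_zero_iff _ _).2 hdvd, zero_add, Nat.cast_one]
  rw [h1, orderOf_one]

variable [FiniteDimensional F V]

/-- when `A ^ r = d ^ r`, invariant subspaces of dimension `m` exist if `m % i ≤ n % i` -/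
theorem exists_invt_of_pow_eq_pow (p : ℕ) [Fact p.Prime] [CharP F p] {q r : ℕ}
    (hq : Fintype.card F = q) (hr : r.Prime) (hrp : r ≠ p) (A : Module.End F V) (d : F)
    (hd : d ≠ 0) (hA : A ^ r = (d ^ r) • 1) (m : ℕ) (hm : m ≤ finrank F V)
    (hmod : m % orderOf (q : ZMod r) ≤ finrank F V % orderOf (q : ZMod r)) :
    ∃ W : Submodule F V, finrank F W = m ∧ W ∈ A.invtSubmodule := by
  have hA' : (d⁻¹ • A) ^ r = 1 := by
    rw [_root_.smul_pow, hA, smul_smul, ← mul_pow, inv_mul_cancel₀ hd, one_pow, one_smul]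
  obtain ⟨W, hWm, hW⟩ := exists_invt_of_pow_eq_one (d⁻¹ • A) r (natCast_ne_zero_of' p hr hrp) hA'
    _ (allDeg_geomPoly p hq hr hrp) m hm hmod
  exact ⟨W, hWm, (smul_mem_invt_iff A d⁻¹ (inv_ne_zero hd) W).1 hW⟩

/-- when `A ^ r = c` with `c` not an `r`-th power, the invariant subspaces are those of dimension
divisible by `r` -/
theorem exists_invt_of_not_pow {r : ℕ} (hr : r.Prime) (hr0 : (r : F) ≠ 0)
    (A : Module.End F V) (c : F) (hc : ∀ d : F, d ^ r ≠ c) (hA : A ^ r = c • 1) (m : ℕ)
    (hm : m ≤ finrank F V) (hrm : r ∣ m) :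
    ∃ W : Submodule F V, finrank F W = m ∧ W ∈ A.invtSubmodule := by
  have hc0 : c ≠ 0 := by
    intro h0
    exact hc 0 (by rw [h0, zero_pow hr.ne_zero])
  have hss := isSemisimple_of_pow_eq_smul A r hr0 c hc0 hA
  have hirr : Irreducible ((X : F[X]) ^ r - C c) := X_pow_sub_C_irreducible_of_prime hr hc
  have hker : LinearMap.ker (aeval A ((X : F[X]) ^ r - C c)) = ⊤ := by
    rw [LinearMap.ker_eq_top, map_sub, map_pow, aeval_X, aeval_C, hA,
      Algebra.algebraMap_eq_smul_one]
    exact sub_self _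
  have hdeg : ((X : F[X]) ^ r - C c).natDegree = r := natDegree_X_pow_sub_C
  obtain ⟨a, rfl⟩ := hrm
  have hle : a * r ≤ finrank F (LinearMap.ker (aeval A ((X : F[X]) ^ r - C c))) := by
    rw [hker, finrank_top, mul_comm]
    exact hm
  have hall := allDeg_of_irreducible _ hirr
  rw [hdeg] at hall
  obtain ⟨W, hW, _, hWd⟩ := exists_invt_mul A hss _ hirr.ne_zero r hall a hle
  exact ⟨W, by rw [hWd, mul_comm], hW⟩

/-- when `A ^ r = c` with `c` not an `r`-th power, invariant subspaces have dimension divisible by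
`r` -/
theorem dvd_finrank_of_not_pow {r : ℕ} (hr : r.Prime) (hr0 : (r : F) ≠ 0)
    (A : Module.End F V) (c : F) (hc : ∀ d : F, d ^ r ≠ c) (hA : A ^ r = c • 1)
    (W : Submodule F V) (hW : W ∈ A.invtSubmodule) : r ∣ finrank F W := by
  have hc0 : c ≠ 0 := by
    intro h0
    exact hc 0 (by rw [h0, zero_pow hr.ne_zero])
  have hss := isSemisimple_of_pow_eq_smul A r hr0 c hc0 hA
  have hirr : Irreducible ((X : F[X]) ^ r - C c) := X_pow_sub_C_irreducible_of_prime hr hc
  have hker : LinearMap.ker (aeval A ((X : F[X]) ^ r - C c)) = ⊤ := by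
    rw [LinearMap.ker_eq_top, map_sub, map_pow, aeval_X, aeval_C, hA,
      Algebra.algebraMap_eq_smul_one]
    exact sub_self _
  have hdeg : ((X : F[X]) ^ r - C c).natDegree = r := natDegree_X_pow_sub_C
  have hall := allDeg_of_irreducible _ hirr
  rw [hdeg] at hall
  exact dvd_finrank A hss _ hirr.ne_zero r hall _ W rfl hW (by rw [hker]; exact le_top)

end FF

end Cfsg.Agent.Lib.Helper8.InvSub
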