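import Mathlib
import Cfsg.Agent.Lib.Helper8.InvSubD

/-!
# Invariant flags `U ≤ W` with `dim U = m`, `dim W = n - m` (helper8)
-/

set_option autoImplicit false
set_option linter.unusedSectionVars false

namespace Cfsg.Agent.Lib.Helper8.InvSub

open Module Polynomial Cfsg.Agent.Lib.Helper8.SingerN

section Arith

theorem sub_mod_of_le (i n m : ℕ) (hℓ : m % i ≤ n % i) (hmn : m ≤ n) :
    (n - m) % i = n % i - m % i := by
  rcases Nat.eq_zero_or_pos i with h0 | hpos
  · subst h0
    simp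
  · have h1 := Nat.div_add_mod n i
    have h2 := Nat.div_add_mod m i
    have h3 : m / i ≤ n / i := Nat.div_le_div_right hmn
    have h4 : n - m = (n % i - m % i) + i * (n / i - m / i) := by
      rw [Nat.mul_sub]
      have : i * (m / i) ≤ i * (n / i) := Nat.mul_le_mul_left i h3
      omega
    rw [h4, Nat.add_mul_mod_self_left]
    apply Nat.mod_eq_of_lt
    have := Nat.mod_lt n hpos
    omega

theorem flag_mod (i n m : ℕ) (h : 2 * (m % i) ≤ n % i) (h2m : 2 * m ≤ n) :
    (n - 2 * m) % i ≤ (n - m) % i := by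
  have h1 := sub_mod_of_le i n m (by omega) (by omega)
  have h2 := sub_mod_of_le i (n - m) m (by omega) (by omega)
  have h3 : n - m - m = n - 2 * m := by omega
  rw [h3] at h2
  rw [h2]
  exact Nat.sub_le _ _

end Arith

section Flag

variable {F : Type*} [Field F] {V : Type*} [AddCommGroup V] [Module F V]

theorem restrict_pow_eq_smul (A : Module.End F V) (U' : Submodule F V)
    (hU' : ∀ x ∈ U', A x ∈ U') (r : ℕ) (c : F) (hA : A ^ r = c • 1) :
    (A.restrict hU') ^ r = c • (1 : Module.End F U') := by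
  rw [Module.End.pow_restrict]
  apply LinearMap.ext
  intro w
  apply Subtype.ext
  rw [LinearMap.coe_restrict_apply, hA]
  rfl

variable [FiniteDimensional F V]

/-- extend an invariant `U` by an invariant subspace of an invariant complement -/
theorem exists_flag_of_restrict (A : Module.End F V) (U U' : Submodule F V)
    (hU : U ∈ A.invtSubmodule) (hU' : ∀ x ∈ U', A x ∈ U') (hdisj : U ⊓ U' = ⊥)
    (W'' : Submodule F U') (hW'' : W'' ∈ Module.End.invtSubmodule (A.restrict hU')) :
    ∃ W : Submodule F V, U ≤ W ∧ W ∈ A.invtSubmodule ∧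
      finrank F W = finrank F U + finrank F W'' := by
  have hmap : W''.map U'.subtype ∈ A.invtSubmodule := by
    rintro _ ⟨w, hw, rfl⟩
    rw [Submodule.mem_comap]
    exact ⟨A.restrict hU' w, hW'' hw, rfl⟩
  refine ⟨U ⊔ W''.map U'.subtype, le_sup_left, sup_mem_invt A hU hmap, ?_⟩
  have h1 := Submodule.finrank_sup_add_finrank_inf_eq U (W''.map U'.subtype)
  have h2 : U ⊓ W''.map U'.subtype = ⊥ := by
    apply le_antisymm _ bot_le
    calc U ⊓ W''.map U'.subtype ≤ U ⊓ U' := inf_le_inf_left U (Submodule.map_subtype_le U' W'')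
      _ = ⊥ := hdisj
  rw [h2, finrank_bot, add_zero, Submodule.finrank_map_subtype_eq] at h1
  exact h1

end Flag

section FF

variable {F : Type*} [Field F] [Fintype F] {V : Type*} [AddCommGroup V] [Module F V]
  [FiniteDimensional F V]

/-- invariant flags when `A ^ r = d ^ r` -/
theorem exists_flag_of_pow_eq_pow (p : ℕ) [Fact p.Prime] [CharP F p] {q r : ℕ}
    (hq : Fintype.card F = q) (hr : r.Prime) (hrp : r ≠ p) (A : Module.End F V) (d : F)
    (hd : d ≠ 0) (hA : A ^ r = (d ^ r) • 1) (m : ℕ) (h2m : 2 * m ≤ finrank F V)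
    (hmod : 2 * (m % orderOf (q : ZMod r)) ≤ finrank F V % orderOf (q : ZMod r)) :
    ∃ U W : Submodule F V, U ≤ W ∧ finrank F U = m ∧ finrank F W = finrank F V - m ∧
      U ∈ A.invtSubmodule ∧ W ∈ A.invtSubmodule := by
  have hr0 : (r : F) ≠ 0 := natCast_ne_zero_of' p hr hrp
  have hss := isSemisimple_of_pow_eq_smul A r hr0 (d ^ r) (pow_ne_zero _ hd) hA
  obtain ⟨U, hUm, hU⟩ := exists_invt_of_pow_eq_pow p hq hr hrp A d hd hA m (by omega) (by omega)
  obtain ⟨U', hU', hcompl⟩ := (Module.End.isSemisimple_iff.1 hss) U hU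
  have hU'r : ∀ x ∈ U', A x ∈ U' := fun x hx => hU' hx
  have hdim := Submodule.finrank_add_eq_of_isCompl hcompl
  have hU'dim : finrank F U' = finrank F V - m := by omega
  have hA' := restrict_pow_eq_smul A U' hU'r r (d ^ r) hA
  obtain ⟨W'', hW''d, hW''⟩ := exists_invt_of_pow_eq_pow p hq hr hrp (A.restrict hU'r) d hd hA'
    (finrank F V - 2 * m) (by omega) (by
      rw [hU'dim]
      exact flag_mod _ _ _ hmod h2m)
  obtain ⟨W, hUW, hW, hWd⟩ := exists_flag_of_restrict A U U' hU hU'r hcompl.inf_eq_bot W'' hW''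
  exact ⟨U, W, hUW, hUm, by omega, hU, hW⟩

/-- invariant flags when `A ^ r = c`, `c` not an `r`-th power, `r ∣ m` -/
theorem exists_flag_of_not_pow {r : ℕ} (hr : r.Prime) (hr0 : (r : F) ≠ 0)
    (A : Module.End F V) (c : F) (hc : ∀ d : F, d ^ r ≠ c) (hA : A ^ r = c • 1) (m : ℕ)
    (h2m : 2 * m ≤ finrank F V) (hrm : r ∣ m) :
    ∃ U W : Submodule F V, U ≤ W ∧ finrank F U = m ∧ finrank F W = finrank F V - m ∧
      U ∈ A.invtSubmodule ∧ W ∈ A.invtSubmodule := by
  have hc0 : c ≠ 0 := by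
    intro h0
    exact hc 0 (by rw [h0, zero_pow hr.ne_zero])
  have hss := isSemisimple_of_pow_eq_smul A r hr0 c hc0 hA
  have hrn : r ∣ finrank F V := by
    have := dvd_finrank_of_not_pow hr hr0 A c hc hA ⊤ (by
      intro v _
      exact Submodule.mem_top)
    rwa [finrank_top] at this
  obtain ⟨U, hUm, hU⟩ := exists_invt_of_not_pow hr hr0 A c hc hA m (by omega) hrm
  obtain ⟨U', hU', hcompl⟩ := (Module.End.isSemisimple_iff.1 hss) U hU
  have hU'r : ∀ x ∈ U', A x ∈ U' := fun x hx => hU' hx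
  have hdim := Submodule.finrank_add_eq_of_isCompl hcompl
  have hU'dim : finrank F U' = finrank F V - m := by omega
  have hA' := restrict_pow_eq_smul A U' hU'r r c hA
  have hr2m : r ∣ finrank F V - 2 * m := Nat.dvd_sub hrn (Dvd.dvd.mul_left hrm 2)
  obtain ⟨W'', hW''d, hW''⟩ := exists_invt_of_not_pow hr hr0 (A.restrict hU'r) c hc hA'
    (finrank F V - 2 * m) (by omega) hr2m
  obtain ⟨W, hUW, hW, hWd⟩ := exists_flag_of_restrict A U U' hU hU'r hcompl.inf_eq_bot W'' hW''
  exact ⟨U, W, hUW, hUm, by omega, hU, hW⟩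

end FF

end Cfsg.Agent.Lib.Helper8.InvSub
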