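import Mathlib
import Cfsg.Agent.Lib.Helper8.DecStB
import Cfsg.Agent.Lib.Helper8.InvSubK

/-!
# Decompositions into invariant subspaces of a semisimple endomorphism (helper8)
-/

set_option autoImplicit false
set_option linter.unusedSectionVars false
set_option linter.style.haveILetI false

namespace Cfsg.Agent.Lib.Helper8.DecSt

open Module Polynomial Cfsg.Agent.Lib.Helper8.InvSub Cfsg.Agent.Lib.Helper8.SingerN

section Semisimple

variable {F : Type*} [Field F] {V : Type*} [AddCommGroup V] [Module F V]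

theorem map_subtype_mem_invt (A : Module.End F V) (W : Submodule F V) (hW : ∀ x ∈ W, A x ∈ W)
    (Z : Submodule F W) (hZ : Z ∈ Module.End.invtSubmodule (A.restrict hW)) :
    Z.map W.subtype ∈ A.invtSubmodule := by
  rintro _ ⟨w, hw, rfl⟩
  rw [Submodule.mem_comap]
  exact ⟨A.restrict hW w, hZ hw, rfl⟩

variable [FiniteDimensional F V]

/-- an invariant complement inside an invariant subspace -/
theorem exists_compl_in (A : Module.End F V) (hss : A.IsSemisimple) (Z W : Submodule F V)
    (hZ : Z ∈ A.invtSubmodule) (hW : W ∈ A.invtSubmodule) (hZW : Z ≤ W) :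
    ∃ W' : Submodule F V, W' ∈ A.invtSubmodule ∧ W' ≤ W ∧ Z ⊓ W' = ⊥ ∧ Z ⊔ W' = W ∧
      finrank F W = finrank F Z + finrank F W' := by
  obtain ⟨Z', hZ', hcompl⟩ := (Module.End.isSemisimple_iff.1 hss) Z hZ
  have hsup : Z ⊔ (W ⊓ Z') = W := by
    have := sup_inf_assoc_of_le Z' hZW
    rw [hcompl.sup_eq_top, top_inf_eq, inf_comm] at this
    exact this.symm
  have hinf : Z ⊓ (W ⊓ Z') = ⊥ := by
    apply le_antisymm _ bot_le
    calc Z ⊓ (W ⊓ Z') ≤ Z ⊓ Z' := inf_le_inf_left Z inf_le_right
      _ = ⊥ := hcompl.inf_eq_bot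
  have hdim := Submodule.finrank_sup_add_finrank_inf_eq Z (W ⊓ Z')
  rw [hsup, hinf, finrank_bot, add_zero] at hdim
  exact ⟨W ⊓ Z', inf_mem_invt A hW hZ', inf_le_left, hinf, hsup, hdim⟩

/-- an invariant subspace of an injective endomorphism is mapped onto itself -/
theorem map_eq_of_mem_invt (A : Module.End F V) (hA : Function.Injective A) (W : Submodule F V)
    (hW : W ∈ A.invtSubmodule) : W.map A = W := by
  apply Submodule.eq_of_le_of_finrank_eq ((Module.End.mem_invtSubmodule_iff_map_le A).1 hW)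
  exact finrank_map_of_injective A hA W

/-- peeling off invariant subspaces of dimension `a` one at a time -/
theorem decomp_fixed (A : Module.End F V) (hss : A.IsSemisimple) (hA : Function.Injective A)
    (a : ℕ) (good : ℕ → Prop)
    (hex : ∀ W : Submodule F V, W ∈ A.invtSubmodule → good (finrank F W) → a ≤ finrank F W →
      ∃ Z : Submodule F V, Z ≤ W ∧ Z ∈ A.invtSubmodule ∧ finrank F Z = a) :
    ∀ t : ℕ, (∀ t', 1 ≤ t' → t' ≤ t → good (a * t')) → ∀ W : Submodule F V,
      W ∈ A.invtSubmodule → finrank F W = a * t → HasDecompOn A a t W := by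
  intro t
  induction t with
  | zero =>
    intro _ W _ hWd
    rw [mul_zero] at hWd
    have : W = ⊥ := Submodule.finrank_eq_zero.1 hWd
    rw [this]
    exact hasDecompOn_zero A a
  | succ t ih =>
    intro hgood W hW hWd
    obtain ⟨Z, hZW, hZ, hZd⟩ := hex W hW (by rw [hWd]; exact hgood (t + 1) (by omega) le_rfl)
      (by rw [hWd]; exact Nat.le_mul_of_pos_right a (by omega))
    obtain ⟨W', hW', hW'W, hinf, hsup, hdim⟩ := exists_compl_in A hss Z W hZ hW hZW
    have hW'd : finrank F W' = a * t := by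
      rw [hWd, hZd, Nat.mul_succ] at hdim
      omega
    have h1 := ih (fun t' h1 h2 => hgood t' h1 (by omega)) W' hW' hW'd
    have h2 := hasDecompOn_one A a Z hZd (map_eq_of_mem_invt A hA Z hZ)
    exact hasDecompOn_congr A a (by omega) (by rw [sup_comm]; exact hsup) (hasDecompOn_add A a h1 h2)

end Semisimple

end Cfsg.Agent.Lib.Helper8.DecSt
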