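import Mathlib
import Cfsg.Agent.Lib.Helper8.DecStC

/-!
# Elements of prime order `r ≠ p`: decompositions into fixed subspaces and into `r`-cycles (helper8)
-/

set_option autoImplicit false
set_option linter.unusedSectionVars false
set_option linter.style.haveILetI false

namespace Cfsg.Agent.Lib.Helper8.DecSt

open Module Polynomial Cfsg.Agent.Lib.Helper8.InvSub Cfsg.Agent.Lib.Helper8.SingerN

section Arith

theorem mul_mod_of_le (c a t t' : ℕ) (hc : 0 < c) (h : (a * t) % c = t * (a % c)) (ht' : t' ≤ t) :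
    (a * t') % c = t' * (a % c) := by
  have h1 : t * (a % c) < c := by
    rw [← h]
    exact Nat.mod_lt _ hc
  have h2 : t' * (a % c) ≤ t * (a % c) := Nat.mul_le_mul_right _ ht'
  conv_lhs => rw [← Nat.div_add_mod a c]
  rw [add_mul, mul_assoc, Nat.mul_add_mod, mul_comm]
  exact Nat.mod_eq_of_lt (lt_of_le_of_lt h2 h1)

end Arith

section General

variable {F : Type*} [Field F] {V : Type*} [AddCommGroup V] [Module F V]

theorem injective_of_pow_eq_smul (A : Module.End F V) (r : ℕ) (hr : 0 < r) (c : F) (hc : c ≠ 0)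
    (hA : A ^ r = c • 1) : Function.Injective A := by
  rw [← LinearMap.ker_eq_bot, LinearMap.ker_eq_bot']
  intro v hv
  have h1 : (A ^ r) v = c • v := by rw [hA]; rfl
  obtain ⟨r', rfl⟩ : ∃ r', r = r' + 1 := ⟨r - 1, by omega⟩
  rw [pow_succ, Module.End.mul_apply, hv, map_zero] at h1
  exact (smul_eq_zero.1 h1.symm).resolve_left hc

theorem map_pow_eq_of_pow_eq_smul (A : Module.End F V) (r : ℕ) (c : F) (hc : c ≠ 0)
    (hA : A ^ r = c • 1) (D : Submodule F V) : D.map (A ^ r) = D := by
  rw [hA, Submodule.map_smul _ _ c hc]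
  exact Submodule.map_id D

variable [FiniteDimensional F V]

theorem exists_invt_le_of_restrict (A : Module.End F V) (W : Submodule F V)
    (hW : ∀ x ∈ W, A x ∈ W) (m : ℕ)
    (h : ∃ Z : Submodule F W, finrank F Z = m ∧ Z ∈ Module.End.invtSubmodule (A.restrict hW)) :
    ∃ Z : Submodule F V, Z ≤ W ∧ Z ∈ A.invtSubmodule ∧ finrank F Z = m := by
  obtain ⟨Z, hZm, hZ⟩ := h
  exact ⟨Z.map W.subtype, Submodule.map_subtype_le W Z, map_subtype_mem_invt A W hW Z hZ,
    by rw [Submodule.finrank_map_subtype_eq, hZm]⟩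

end General

section FF

variable {F : Type*} [Field F] [Fintype F] {V : Type*} [AddCommGroup V] [Module F V]
  [FiniteDimensional F V]

/-- when `A ^ r = d ^ r`, `V` is a sum of `t` invariant subspaces of dimension `a` provided
`n % c = t * (a % c)` -/
theorem hasDecomp_of_pow_eq_pow (p : ℕ) [Fact p.Prime] [CharP F p] {q r : ℕ}
    (hq : Fintype.card F = q) (hr : r.Prime) (hrp : r ≠ p) (A : Module.End F V) (d : F)
    (hd : d ≠ 0) (hA : A ^ r = (d ^ r) • 1) (a t : ℕ) (hV : finrank F V = a * t)
    (hk : (a * t) % orderOf (q : ZMod r) = t * (a % orderOf (q : ZMod r))) :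
    HasDecompOn A a t ⊤ := by
  have hr0 : (r : F) ≠ 0 := natCast_ne_zero_of' p hr hrp
  have hdr : d ^ r ≠ 0 := pow_ne_zero _ hd
  have hss := isSemisimple_of_pow_eq_smul A r hr0 (d ^ r) hdr hA
  have hinj := injective_of_pow_eq_smul A r hr.pos (d ^ r) hdr hA
  set c := orderOf (q : ZMod r) with hc
  rcases Nat.eq_zero_or_pos c with hc0 | hcpos
  · -- degenerate: `c = 0` cannot happen for the order, but the statement is still fine
    rw [hc0, Nat.mod_zero, Nat.mod_zero] at hk
    apply decomp_fixed A hss hinj a (fun m => a % c ≤ m % c) ?_ t ?_ ⊤ ?_ (by rw [finrank_top, hV])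
    · intro W hW hgood hle
      have hW' : ∀ x ∈ W, A x ∈ W := fun x hx => hW hx
      apply exists_invt_le_of_restrict A W hW'
      exact exists_invt_of_pow_eq_pow p hq hr hrp (A.restrict hW') d hd
        (restrict_pow_eq_smul A W hW' r (d ^ r) hA) a hle hgood
    · intro t' h1 _
      show a % c ≤ (a * t') % c
      rw [hc0, Nat.mod_zero, Nat.mod_zero]
      exact Nat.le_mul_of_pos_right a h1
    · intro v _
      exact Submodule.mem_top
  · apply decomp_fixed A hss hinj a (fun m => a % c ≤ m % c) ?_ t ?_ ⊤ ?_ (by rw [finrank_top, hV])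
    · intro W hW hgood hle
      have hW' : ∀ x ∈ W, A x ∈ W := fun x hx => hW hx
      apply exists_invt_le_of_restrict A W hW'
      exact exists_invt_of_pow_eq_pow p hq hr hrp (A.restrict hW') d hd
        (restrict_pow_eq_smul A W hW' r (d ^ r) hA) a hle hgood
    · intro t' h1 h2
      show a % c ≤ (a * t') % c
      rw [mul_mod_of_le c a t t' hcpos hk h2]
      exact Nat.le_mul_of_pos_left _ h1
    · intro v _
      exact Submodule.mem_top

/-- when `A ^ r = c` with `c` not an `r`-th power and `r ∣ a`, `V` is a sum of invariant subspaces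
of dimension `a` -/
theorem hasDecomp_of_not_pow_dvd {r : ℕ} (hr : r.Prime) (hr0 : (r : F) ≠ 0)
    (A : Module.End F V) (c : F) (hc : ∀ d : F, d ^ r ≠ c) (hA : A ^ r = c • 1) (a t : ℕ)
    (hV : finrank F V = a * t) (hra : r ∣ a) : HasDecompOn A a t ⊤ := by
  have hc0 : c ≠ 0 := by
    intro h0
    exact hc 0 (by rw [h0, zero_pow hr.ne_zero])
  have hss := isSemisimple_of_pow_eq_smul A r hr0 c hc0 hA
  have hinj := injective_of_pow_eq_smul A r hr.pos c hc0 hA
  apply decomp_fixed A hss hinj a (fun _ => True) ?_ t (fun _ _ _ => trivial) ⊤ ?_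
    (by rw [finrank_top, hV])
  · intro W hW _ hle
    have hW' : ∀ x ∈ W, A x ∈ W := fun x hx => hW hx
    apply exists_invt_le_of_restrict A W hW'
    exact exists_invt_of_not_pow hr hr0 (A.restrict hW') c hc
      (restrict_pow_eq_smul A W hW' r c hA) a hle hra
  · intro v _
    exact Submodule.mem_top

end FF

end Cfsg.Agent.Lib.Helper8.DecSt
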