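import Mathlib
import Cfsg.Agent.Lib.Helper8.DecStD

/-!
# Decompositions into `r`-cycles of subspaces (helper8)
-/

set_option autoImplicit false
set_option linter.unusedSectionVars false
set_option linter.style.haveILetI false

namespace Cfsg.Agent.Lib.Helper8.DecSt

open Module Polynomial Cfsg.Agent.Lib.Helper8.InvSub Cfsg.Agent.Lib.Helper8.SingerN

section Block

variable {F : Type*} [Field F] {V : Type*} [AddCommGroup V] [Module F V]

theorem cyc_eq_iSup (A : Module.End F V) (u : V) (d : ℕ) :
    cyc A u d = ⨆ s : Fin d, (Submodule.span F {u}).map (A ^ (s : ℕ)) := by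
  rw [cyc, Submodule.span_range_eq_iSup]
  apply iSup_congr
  intro s
  rw [Submodule.map_span, Set.image_singleton]

variable [FiniteDimensional F V]

/-- an invariant subspace of dimension `r * a` is the sum of the images of some `a`-dimensional
subspace under `1, A, …, A^(r-1)`, when the minimal polynomial of `A` is irreducible of degree
`r` -/
theorem exists_block (A : Module.End F V) (hss : A.IsSemisimple) (hinj : Function.Injective A)
    (g : F[X]) (hg : Irreducible g) (hgA : aeval A g = 0) (r : ℕ) (hgr : g.natDegree = r) :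
    ∀ (a : ℕ) (Z : Submodule F V), Z ∈ A.invtSubmodule → finrank F Z = r * a →
      ∃ D₀ : Submodule F V, finrank F D₀ = a ∧ (⨆ s : Fin r, D₀.map (A ^ (s : ℕ))) = Z := by
  have hrpos : 0 < r := by
    rw [← hgr]
    exact hg.natDegree_pos
  intro a
  induction a with
  | zero =>
    intro Z _ hZd
    rw [mul_zero] at hZd
    have hZ0 : Z = ⊥ := Submodule.finrank_eq_zero.1 hZd
    refine ⟨⊥, finrank_bot F V, ?_⟩
    rw [hZ0]
    simp
  | succ a ih =>
    intro Z hZ hZd
    have hZ0 : Z ≠ ⊥ := by
      intro h0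
      rw [h0, finrank_bot] at hZd
      have : 0 < r * (a + 1) := Nat.mul_pos hrpos (by omega)
      omega
    obtain ⟨u, huZ, hu0⟩ := Submodule.exists_mem_ne_zero_of_ne_bot hZ0
    have hgu : aeval A g u = 0 := by rw [hgA]; rfl
    have hY : cyc A u g.natDegree ∈ A.invtSubmodule := cyc_invt A g hg u hgu
    have hYd : finrank F (cyc A u g.natDegree) = g.natDegree := finrank_cyc A g hg u hu0 hgu
    have hYZ : cyc A u g.natDegree ≤ Z := cyc_le A hZ huZ _
    rw [hgr] at hY hYd hYZ
    obtain ⟨Z', hZ', hZ'Z, hinf, hsup, hdim⟩ := exists_compl_in A hss _ Z hY hZ hYZ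
    have hZ'd : finrank F Z' = r * a := by
      rw [hZd, hYd, Nat.mul_succ] at hdim
      omega
    obtain ⟨D₀', hD₀'d, hD₀'⟩ := ih Z' hZ' hZ'd
    set D₀ := D₀' ⊔ Submodule.span F {u} with hD₀
    have hsupD : (⨆ s : Fin r, D₀.map (A ^ (s : ℕ))) = Z := by
      have h1 : ∀ s : Fin r, D₀.map (A ^ (s : ℕ)) =
          D₀'.map (A ^ (s : ℕ)) ⊔ (Submodule.span F {u}).map (A ^ (s : ℕ)) := by
        intro s
        rw [hD₀, Submodule.map_sup]
      rw [iSup_congr h1, iSup_sup_eq, hD₀', ← cyc_eq_iSup, sup_comm, hsup]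
    refine ⟨D₀, ?_, hsupD⟩
    apply le_antisymm
    · calc finrank F D₀ ≤ finrank F D₀' + finrank F (Submodule.span F {u}) :=
            Submodule.finrank_add_le_finrank_add_finrank _ _
        _ ≤ a + 1 := by
          rw [hD₀'d]
          exact Nat.add_le_add_left (finrank_span_singleton hu0).le a
    · have h2 := finrank_iSup_le_sum (fun s : Fin r => D₀.map (A ^ (s : ℕ)))
      rw [hsupD, hZd, Finset.sum_congr rfl (fun s _ =>
        finrank_map_of_injective _ (pow_injective A hinj _) D₀), Finset.sum_const,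
        Finset.card_univ, Fintype.card_fin, smul_eq_mul] at h2
      exact Nat.le_of_mul_le_mul_left h2 hrpos

/-- decomposition into `r`-cycles -/
theorem hasDecomp_cycles (A : Module.End F V) (hss : A.IsSemisimple) (c : F) (hc0 : c ≠ 0)
    (r : ℕ) (hA : A ^ r = c • 1)
    (g : F[X]) (hg : Irreducible g) (hgA : aeval A g = 0) (hgr : g.natDegree = r) (a : ℕ)
    (hex : ∀ W : Submodule F V, W ∈ A.invtSubmodule → r * a ≤ finrank F W →
      ∃ Z : Submodule F V, Z ≤ W ∧ Z ∈ A.invtSubmodule ∧ finrank F Z = r * a) :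
    ∀ (s : ℕ) (W : Submodule F V), W ∈ A.invtSubmodule → finrank F W = r * a * s →
      HasDecompOn A a (r * s) W := by
  have hrpos : 0 < r := by
    rw [← hgr]
    exact hg.natDegree_pos
  have hinj := injective_of_pow_eq_smul A r hrpos c hc0 hA
  intro s
  induction s with
  | zero =>
    intro W _ hWd
    rw [mul_zero] at hWd
    have : W = ⊥ := Submodule.finrank_eq_zero.1 hWd
    rw [this, mul_zero]
    exact hasDecompOn_zero A a
  | succ s ih =>
    intro W hW hWd
    obtain ⟨Z, hZW, hZ, hZd⟩ := hex W hW (by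
      rw [hWd]
      exact Nat.le_mul_of_pos_right _ (by omega))
    obtain ⟨W', hW', hW'W, hinf, hsup, hdim⟩ := exists_compl_in A hss Z W hZ hW hZW
    have hW'd : finrank F W' = r * a * s := by
      rw [hWd, hZd, Nat.mul_succ] at hdim
      omega
    obtain ⟨D₀, hD₀d, hD₀⟩ := exists_block A hss hinj g hg hgA r hgr a Z hZ hZd
    have h1 := hasDecompOn_cycle A hinj a r hrpos D₀ hD₀d
      (map_pow_eq_of_pow_eq_smul A r c hc0 hA D₀)
    rw [hD₀] at h1
    have h2 := ih W' hW' hW'd
    exact hasDecompOn_congr A a (by rw [Nat.mul_succ]) (by rw [sup_comm]; exact hsup)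
      (hasDecompOn_add A a h2 h1)

end Block

section FF

variable {F : Type*} [Field F] [Fintype F] {V : Type*} [AddCommGroup V] [Module F V]
  [FiniteDimensional F V]

/-- when `A ^ r = c` with `c` not an `r`-th power and `r ∣ t`, `V` is a sum of `t` subspaces of
dimension `a` permuted by `A` in cycles of length `r` -/
theorem hasDecomp_of_not_pow_cycles {r : ℕ} (hr : r.Prime) (hr0 : (r : F) ≠ 0)
    (A : Module.End F V) (c : F) (hc : ∀ d : F, d ^ r ≠ c) (hA : A ^ r = c • 1) (a t : ℕ)
    (hV : finrank F V = a * t) (hrt : r ∣ t) : HasDecompOn A a t ⊤ := by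
  have hc0 : c ≠ 0 := by
    intro h0
    exact hc 0 (by rw [h0, zero_pow hr.ne_zero])
  have hss := isSemisimple_of_pow_eq_smul A r hr0 c hc0 hA
  have hirr : Irreducible ((X : F[X]) ^ r - C c) := X_pow_sub_C_irreducible_of_prime hr hc
  have hgA : aeval A ((X : F[X]) ^ r - C c) = 0 := by
    rw [map_sub, map_pow, aeval_X, aeval_C, hA, Algebra.algebraMap_eq_smul_one]
    exact sub_self _
  have hdeg : ((X : F[X]) ^ r - C c).natDegree = r := natDegree_X_pow_sub_C
  obtain ⟨s, rfl⟩ := hrt
  have h := hasDecomp_cycles A hss c hc0 r hA _ hirr hgA hdeg a ?_ s ⊤ ?_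
    (by rw [finrank_top, hV]; ring)
  · exact h
  · intro W hW hle
    have hW' : ∀ x ∈ W, A x ∈ W := fun x hx => hW hx
    apply exists_invt_le_of_restrict A W hW'
    exact exists_invt_of_not_pow hr hr0 (A.restrict hW') c hc
      (restrict_pow_eq_smul A W hW' r c hA) (r * a) hle (dvd_mul_right r a)
  · intro v _
    exact Submodule.mem_top

end FF

end Cfsg.Agent.Lib.Helper8.DecSt
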