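import Mathlib
import Cfsg.Agent.Lib.Helper8.DecStE

/-!
# Elements of order `r` with `q` of order `r - 1` modulo `r`: monomial bases (helper8)
-/

set_option autoImplicit false
set_option linter.unusedSectionVars false
set_option linter.style.haveILetI false

namespace Cfsg.Agent.Lib.Helper8.DecSt

open Module Polynomial Cfsg.Agent.Lib.Helper8.InvSub Cfsg.Agent.Lib.Helper8.SingerN

section Lines

variable {F : Type*} [Field F] {V : Type*} [AddCommGroup V] [Module F V]

theorem cyc_invt_of_pow_eq (A : Module.End F V) (v : V) (r : ℕ) (hr : 0 < r)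
    (hv : (A ^ r) v = v) : cyc A v r ∈ A.invtSubmodule := by
  rw [Module.End.mem_invtSubmodule, cyc, Submodule.span_le]
  rintro _ ⟨j, rfl⟩
  rw [SetLike.mem_coe, Submodule.mem_comap, ← cyc, ← Module.End.mul_apply, ← pow_succ']
  by_cases hj : (j : ℕ) + 1 < r
  · rw [cyc]
    exact Submodule.subset_span ⟨⟨(j : ℕ) + 1, hj⟩, rfl⟩
  · have hj' : (j : ℕ) + 1 = r := by have := j.2; omega
    rw [hj', hv]
    exact mem_cyc_self A v r hr

theorem aeval_geomPoly_apply_fixed (A : Module.End F V) (r : ℕ) (u : V) (hu : A u = u) :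
    aeval A (geomPoly F r) u = (r : F) • u := by
  have hpow : ∀ i : ℕ, (A ^ i) u = u := by
    intro i
    induction i with
    | zero => simp
    | succ i ih => rw [pow_succ, Module.End.mul_apply, hu, ih]
  rw [geomPoly, map_sum, LinearMap.sum_apply]
  simp only [map_pow, aeval_X, hpow, Finset.sum_const, Finset.card_range]
  rw [Nat.cast_smul_eq_nsmul]

/-- additivity of `dim (W ⊓ ker g(A))` over invariant complements -/
theorem finrank_inf_ker_add (A : Module.End F V) [FiniteDimensional F V] (g : F[X])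
    (Z W' W : Submodule F V) (hZ : Z ∈ A.invtSubmodule) (hW' : W' ∈ A.invtSubmodule)
    (hinf : Z ⊓ W' = ⊥) (hsup : Z ⊔ W' = W) :
    finrank F ↥(W ⊓ LinearMap.ker (aeval A g)) =
      finrank F ↥(Z ⊓ LinearMap.ker (aeval A g)) + finrank F ↥(W' ⊓ LinearMap.ker (aeval A g)) := by
  set K := LinearMap.ker (aeval A g) with hK
  have h1 : (Z ⊓ K) ⊔ (W' ⊓ K) = W ⊓ K := by
    apply le_antisymm
    · rw [← hsup]
      exact sup_le (inf_le_inf_right K le_sup_left) (inf_le_inf_right K le_sup_right)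
    · rintro v ⟨hvW, hvK⟩
      rw [← hsup] at hvW
      obtain ⟨z, hz, w, hw, rfl⟩ := Submodule.mem_sup.1 hvW
      have h2 : aeval A g z + aeval A g w = 0 := by
        rw [← map_add]
        exact LinearMap.mem_ker.1 hvK
      have h3 : aeval A g z ∈ Z ⊓ W' := by
        refine Submodule.mem_inf.2 ⟨aeval_mem A hZ g hz, ?_⟩
        rw [eq_neg_of_add_eq_zero_left h2]
        exact W'.neg_mem (aeval_mem A hW' g hw)
      rw [hinf, Submodule.mem_bot] at h3
      rw [h3, zero_add] at h2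
      exact Submodule.add_mem_sup (Submodule.mem_inf.2 ⟨hz, LinearMap.mem_ker.2 h3⟩)
        (Submodule.mem_inf.2 ⟨hw, LinearMap.mem_ker.2 h2⟩)
  have h4 : (Z ⊓ K) ⊓ (W' ⊓ K) = ⊥ := by
    apply le_antisymm _ bot_le
    calc (Z ⊓ K) ⊓ (W' ⊓ K) ≤ Z ⊓ W' := inf_le_inf inf_le_left inf_le_left
      _ = ⊥ := hinf
  have h5 := Submodule.finrank_sup_add_finrank_inf_eq (Z ⊓ K) (W' ⊓ K)
  rw [h1, h4, finrank_bot, add_zero] at h5
  exact h5

end Lines

end Cfsg.Agent.Lib.Helper8.DecSt
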