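import Mathlib
import Cfsg.Agent.Lib.Helper8.DecStF

/-!
# Elements of order `r` with `q` of order `r - 1` modulo `r`: decomposition into lines (helper8)
-/

set_option autoImplicit false
set_option linter.unusedSectionVars false
set_option linter.style.haveILetI false

namespace Cfsg.Agent.Lib.Helper8.DecSt

open Module Polynomial Cfsg.Agent.Lib.Helper8.InvSub Cfsg.Agent.Lib.Helper8.SingerN

section Lines

variable {F : Type*} [Field F] {V : Type*} [AddCommGroup V] [Module F V] [FiniteDimensional F V]

/-- the induction: pair a fixed vector with an irreducible constituent -/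
theorem hasDecomp_lines_aux (A : Module.End F V) (r : ℕ) (hr : 2 ≤ r) (hr0 : (r : F) ≠ 0)
    (hA : A ^ r = 1) (hirr : Irreducible (geomPoly F r)) :
    ∀ (k : ℕ) (W : Submodule F V), W ∈ A.invtSubmodule → finrank F W = k →
      finrank F ↥(W ⊓ LinearMap.ker (aeval A (geomPoly F r))) ≤
        (r - 1) * finrank F ↥(W ⊓ LinearMap.ker (aeval A (X - C (1 : F)))) →
      HasDecompOn A 1 k W := by
  have hss := isSemisimple_of_pow_eq_one A r hr0 hA
  have hA' : A ^ r = (1 : F) • 1 := by rw [hA, one_smul]
  have hinj := injective_of_pow_eq_smul A r (by omega) 1 one_ne_zero hA'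
  have hcop := isCoprime_X_sub_one_geomPoly (F := F) r hr0
  have h12 := aeval_X_sub_one_mul_geomPoly A r hA
  have hdeg : (geomPoly F r).natDegree = r - 1 := natDegree_geomPoly r (by omega)
  set Ck := LinearMap.ker (aeval A (X - C (1 : F))) with hCk
  set Dk := LinearMap.ker (aeval A (geomPoly F r)) with hDk
  have hCD : Ck ⊓ Dk = ⊥ := ker_inf_ker_eq_bot A _ _ hcop
  have hDinv : Dk ∈ A.invtSubmodule := ker_aeval_mem_invt A _
  intro k
  induction k using Nat.strong_induction_on with
  | _ k ih =>
    intro W hW hWk hP
    by_cases hW0 : W = ⊥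
    · rw [hW0, finrank_bot] at hWk
      rw [hW0, ← hWk]
      exact hasDecompOn_zero A 1
    have hsplit := finrank_split A _ _ hcop h12 W hW
    rw [← hCk, ← hDk] at hsplit
    by_cases hWD : W ⊓ Dk = ⊥
    · -- `W` consists of fixed vectors
      have hWC : W ≤ Ck := by
        rw [hWD, finrank_bot, add_zero] at hsplit
        have : W ⊓ Ck = W := Submodule.eq_of_le_of_finrank_eq inf_le_left hsplit.symm
        rw [← this]
        exact inf_le_right
      obtain ⟨u, huW, hu0⟩ := Submodule.exists_mem_ne_zero_of_ne_bot hW0
      have hL : Submodule.span F {u} ∈ A.invtSubmodule :=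
        le_fixed_mem_invt A _ (by
          rw [Submodule.span_singleton_le_iff_mem]
          exact hWC huW)
      have hLW : Submodule.span F {u} ≤ W := by
        rw [Submodule.span_singleton_le_iff_mem]
        exact huW
      obtain ⟨W', hW', hW'W, hinf, hsup, hdim⟩ := exists_compl_in A hss _ W hL hW hLW
      rw [finrank_span_singleton hu0, hWk] at hdim
      have hW'D : W' ⊓ Dk = ⊥ := by
        apply le_antisymm _ bot_le
        calc W' ⊓ Dk ≤ W ⊓ Dk := inf_le_inf_right Dk hW'W
          _ = ⊥ := hWD
      have h1 := ih (k - 1) (by omega) W' hW' (by omega) (by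
        rw [hW'D, finrank_bot]
        exact Nat.zero_le _)
      have h2 := hasDecompOn_one A 1 _ (finrank_span_singleton hu0)
        (map_eq_of_mem_invt A hinj _ hL)
      exact hasDecompOn_congr A 1 (by omega) (by rw [sup_comm]; exact hsup)
        (hasDecompOn_add A 1 h1 h2)
    · -- pair a fixed vector with an irreducible constituent
      obtain ⟨w, hwWD, hw0⟩ := Submodule.exists_mem_ne_zero_of_ne_bot hWD
      have hwW : w ∈ W := (Submodule.mem_inf.1 hwWD).1
      have hwD : w ∈ Dk := (Submodule.mem_inf.1 hwWD).2
      have hposD : 0 < finrank F ↥(W ⊓ Dk) := by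
        rw [Nat.pos_iff_ne_zero]
        intro h0
        exact hWD (Submodule.finrank_eq_zero.1 h0)
      have hposC : 0 < finrank F ↥(W ⊓ Ck) := by
        rw [Nat.pos_iff_ne_zero]
        intro h0
        rw [h0, mul_zero] at hP
        omega
      have hWC0 : W ⊓ Ck ≠ ⊥ := by
        intro h0
        rw [h0, finrank_bot] at hposC
        omega
      obtain ⟨u, huWC, hu0⟩ := Submodule.exists_mem_ne_zero_of_ne_bot hWC0
      have huW : u ∈ W := (Submodule.mem_inf.1 huWC).1
      have huC : u ∈ Ck := (Submodule.mem_inf.1 huWC).2
      have hAu : A u = u := (mem_ker_X_sub_one A u).1 huC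
      have hgw : aeval A (geomPoly F r) w = 0 := LinearMap.mem_ker.1 hwD
      -- the two pieces
      have hY : cyc A w (geomPoly F r).natDegree ∈ A.invtSubmodule := cyc_invt A _ hirr w hgw
      have hYd : finrank F (cyc A w (geomPoly F r).natDegree) = (geomPoly F r).natDegree :=
        finrank_cyc A _ hirr w hw0 hgw
      rw [hdeg] at hY hYd
      have hYW : cyc A w (r - 1) ≤ W := cyc_le A hW hwW _
      have hYD : cyc A w (r - 1) ≤ Dk := cyc_le A hDinv hwD _
      have hL : Submodule.span F {u} ∈ A.invtSubmodule :=
        le_fixed_mem_invt A _ (by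
          rw [Submodule.span_singleton_le_iff_mem]
          exact huC)
      have hLW : Submodule.span F {u} ≤ W := by
        rw [Submodule.span_singleton_le_iff_mem]
        exact huW
      have hLC : Submodule.span F {u} ≤ Ck := by
        rw [Submodule.span_singleton_le_iff_mem]
        exact huC
      set Z := Submodule.span F {u} ⊔ cyc A w (r - 1) with hZdef
      have hZ : Z ∈ A.invtSubmodule := sup_mem_invt A hL hY
      have hZW : Z ≤ W := sup_le hLW hYW
      have hZd : finrank F Z = r := by
        rw [hZdef]
        have h1 := Submodule.finrank_sup_add_finrank_inf_eq (Submodule.span F {u})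
          (cyc A w (r - 1))
        have h2 : Submodule.span F {u} ⊓ cyc A w (r - 1) = ⊥ := by
          apply le_antisymm _ bot_le
          calc Submodule.span F {u} ⊓ cyc A w (r - 1) ≤ Ck ⊓ Dk := inf_le_inf hLC hYD
            _ = ⊥ := hCD
        rw [h2, finrank_bot, add_zero, finrank_span_singleton hu0, hYd] at h1
        omega
      -- the cyclic vector
      have hv0 : u + w ≠ 0 := by
        intro h0
        have h1 : u ∈ Ck ⊓ Dk := by
          refine Submodule.mem_inf.2 ⟨huC, ?_⟩
          rw [eq_neg_of_add_eq_zero_left h0]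
          exact Dk.neg_mem hwD
        rw [hCD, Submodule.mem_bot] at h1
        exact hu0 h1
      have hvZ : u + w ∈ Z :=
        Submodule.add_mem_sup (Submodule.mem_span_singleton_self u)
          (mem_cyc_self A w (r - 1) (by omega))
      have hAv : (A ^ r) (u + w) = u + w := by rw [hA]; rfl
      have hY' : cyc A (u + w) r ∈ A.invtSubmodule :=
        cyc_invt_of_pow_eq A (u + w) r (by omega) hAv
      have hcycZ : cyc A (u + w) r = Z := by
        apply le_antisymm (cyc_le A hZ hvZ r)
        have hv' : u + w ∈ cyc A (u + w) r := mem_cyc_self A _ r (by omega)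
        have hT : aeval A (geomPoly F r) (u + w) ∈ cyc A (u + w) r := aeval_mem A hY' _ hv'
        rw [map_add, hgw, add_zero, aeval_geomPoly_apply_fixed A r u hAu] at hT
        have hu' : u ∈ cyc A (u + w) r := by
          have := (cyc A (u + w) r).smul_mem (r : F)⁻¹ hT
          rwa [smul_smul, inv_mul_cancel₀ hr0, one_smul] at this
        have hw' : w ∈ cyc A (u + w) r := by
          have := (cyc A (u + w) r).sub_mem hv' hu'
          rwa [add_sub_cancel_left] at this
        apply sup_le
        · rw [Submodule.span_singleton_le_iff_mem]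
          exact hu'
        · exact cyc_le A hY' hw' _
      have hZdec : HasDecompOn A 1 r Z := by
        have h1 := hasDecompOn_cycle A hinj 1 r (by omega) (Submodule.span F {u + w})
          (finrank_span_singleton hv0)
          (map_pow_eq_of_pow_eq_smul A r 1 one_ne_zero hA' _)
        rw [← cyc_eq_iSup, hcycZ] at h1
        exact h1
      obtain ⟨W', hW', hW'W, hinf, hsup, hdim⟩ := exists_compl_in A hss Z W hZ hW hZW
      rw [hZd, hWk] at hdim
      -- dimensions of the parts
      have hZsplit := finrank_split A _ _ hcop h12 Z hZ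
      rw [← hCk, ← hDk, hZd] at hZsplit
      have hZC : 1 ≤ finrank F ↥(Z ⊓ Ck) := by
        have h1 : Submodule.span F {u} ≤ Z ⊓ Ck := le_inf le_sup_left hLC
        have := Submodule.finrank_mono h1
        rwa [finrank_span_singleton hu0] at this
      have hZD : r - 1 ≤ finrank F ↥(Z ⊓ Dk) := by
        have h1 : cyc A w (r - 1) ≤ Z ⊓ Dk := le_inf le_sup_right hYD
        have := Submodule.finrank_mono h1
        rwa [hYd] at this
      have haddC := finrank_inf_ker_add A (X - C (1 : F)) Z W' W hZ hW' hinf hsup
      have haddD := finrank_inf_ker_add A (geomPoly F r) Z W' W hZ hW' hinf hsup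
      rw [← hCk] at haddC
      rw [← hDk] at haddD
      have hP' : finrank F ↥(W' ⊓ Dk) ≤ (r - 1) * finrank F ↥(W' ⊓ Ck) := by
        have e1 : finrank F ↥(Z ⊓ Ck) = 1 := by omega
        have e2 : finrank F ↥(Z ⊓ Dk) = r - 1 := by omega
        rw [haddC, haddD, e1, e2, Nat.mul_add, mul_one] at hP
        omega
      have h1 := ih (k - r) (by omega) W' hW' (by omega) hP'
      exact hasDecompOn_congr A 1 (by omega) (by rw [sup_comm]; exact hsup)
        (hasDecompOn_add A 1 h1 hZdec)

end Lines

end Cfsg.Agent.Lib.Helper8.DecSt
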