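import Mathlib
import Cfsg.Agent.H9.SemisimpleConj
import Cfsg.Agent.Lib.Helper8.InvSubD

/-!
# The characteristic polynomial and determinant of an operator killed by an irreducible
polynomial (helper8)
-/

set_option autoImplicit false
set_option linter.unusedSectionVars false

namespace Cfsg.Agent.Lib.Helper8.InvSub

open Module Polynomial Cfsg.Agent.H9.IrredOp Cfsg.Agent.H9.SemisimpleConj

universe u v

section Charpoly

variable {F : Type v} [Field F]

/-- an operator killed by a monic irreducible `g` has characteristic polynomial a power of `g` -/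
theorem charpoly_eq_pow_aux (g : F[X]) (hg : Irreducible g) (hgm : g.Monic) :
    ∀ (n : ℕ) (V : Type u) [AddCommGroup V] [Module F V] [FiniteDimensional F V]
      (X : Module.End F V), finrank F V = n → aeval X g = 0 → ∃ k : ℕ, X.charpoly = g ^ k := by
  intro n
  induction n using Nat.strong_induction_on with
  | _ n ih =>
    intro V _ _ _ X hn hX
    by_cases hV : Nontrivial V
    · have hss : X.IsSemisimple :=
        Module.End.isSemisimple_of_squarefree_aeval_eq_zero hg.squarefree hX
      obtain ⟨U, C, _, _, _, _, _, _, A, X', e, he, hirr⟩ := exists_split X hss hV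
      have hAg : aeval A g = 0 := by
        apply LinearMap.ext
        intro u
        have h1 := aeval_intertwine A X ((e : (U × C) →ₗ[F] V) ∘ₗ LinearMap.inl F U C) (by
          intro v
          simp only [LinearMap.comp_apply, LinearEquiv.coe_coe, LinearMap.inl_apply]
          rw [he, LinearMap.prodMap_apply, map_zero]) g u
        rw [hX, LinearMap.zero_apply] at h1
        simp only [LinearMap.comp_apply, LinearEquiv.coe_coe, LinearMap.inl_apply] at h1
        have h2 := e.injective (h1.symm.trans (map_zero e).symm)
        rw [LinearMap.zero_apply]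
        exact (Prod.ext_iff.1 h2).1
      have hX'g : aeval X' g = 0 := by
        apply LinearMap.ext
        intro c
        have h1 := aeval_intertwine X' X ((e : (U × C) →ₗ[F] V) ∘ₗ LinearMap.inr F U C) (by
          intro v
          simp only [LinearMap.comp_apply, LinearEquiv.coe_coe, LinearMap.inr_apply]
          rw [he, LinearMap.prodMap_apply, map_zero]) g c
        rw [hX, LinearMap.zero_apply] at h1
        simp only [LinearMap.comp_apply, LinearEquiv.coe_coe, LinearMap.inr_apply] at h1
        have h2 := e.injective (h1.symm.trans (map_zero e).symm)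
        rw [LinearMap.zero_apply]
        exact (Prod.ext_iff.1 h2).2
      have hUn : Nontrivial U := hirr.1
      have hmin : minpoly F A = g := (minpoly.eq_of_irreducible_of_monic hg hAg hgm).symm
      have hUpos : 0 < finrank F U := Module.finrank_pos
      have hlt : finrank F C < n := by
        rw [← hn, split_finrank e]
        omega
      obtain ⟨k, hk⟩ := ih _ hlt C X' rfl hX'g
      refine ⟨k + 1, ?_⟩
      rw [split_charpoly e he, Cfsg.Agent.H9.SemisimpleConj.Irred.charpoly_eq hirr, hmin, hk, pow_succ,
        mul_comm]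
    · rw [not_nontrivial_iff_subsingleton] at hV
      exact ⟨0, by rw [pow_zero, charpoly_eq_one_of_subsingleton]⟩

theorem charpoly_eq_pow {V : Type u} [AddCommGroup V] [Module F V] [FiniteDimensional F V]
    (g : F[X]) (hg : Irreducible g) (hgm : g.Monic) (X : Module.End F V) (hX : aeval X g = 0) :
    ∃ k : ℕ, X.charpoly = g ^ k ∧ finrank F V = k * g.natDegree := by
  obtain ⟨k, hk⟩ := charpoly_eq_pow_aux g hg hgm (finrank F V) V X rfl hX
  refine ⟨k, hk, ?_⟩
  have := LinearMap.charpoly_natDegree X
  rw [hk, natDegree_pow] at this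
  exact this.symm

/-- the determinant of a matrix `M` with `M ^ r = c`, `c` not an `r`-th power, `r` prime -/
theorem det_of_not_pow {n r : ℕ} (hr : r.Prime) (M : Matrix (Fin n) (Fin n) F) (c : F)
    (hc : ∀ d : F, d ^ r ≠ c) (hM : M ^ r = c • (1 : Matrix (Fin n) (Fin n) F)) :
    ∃ k : ℕ, n = k * r ∧ M.det = ((-1) ^ (r + 1) * c) ^ k := by
  have hirr : Irreducible ((X : F[X]) ^ r - C c) := X_pow_sub_C_irreducible_of_prime hr hc
  have hmonic : ((X : F[X]) ^ r - C c).Monic := monic_X_pow_sub_C c hr.ne_zero
  have hX : aeval (Matrix.toLin' M) ((X : F[X]) ^ r - C c) = 0 := by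
    rw [map_sub, map_pow, aeval_X, aeval_C, ← Matrix.toLin'_pow, hM,
      Algebra.algebraMap_eq_smul_one, map_smul, Matrix.toLin'_one]
    exact sub_self _
  obtain ⟨k, hk, hdim⟩ := charpoly_eq_pow _ hirr hmonic (Matrix.toLin' M) hX
  rw [Module.finrank_fin_fun, natDegree_X_pow_sub_C] at hdim
  refine ⟨k, hdim, ?_⟩
  rw [Matrix.charpoly_toLin'] at hk
  rw [Matrix.det_eq_sign_charpoly_coeff, hk, Fintype.card_fin, coeff_zero_eq_eval_zero, eval_pow,
    eval_sub, eval_pow, eval_X, eval_C, zero_pow hr.ne_zero, zero_sub, hdim, mul_comm k r, pow_mul,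
    ← mul_pow, pow_succ]
  congr 1
  ring

end Charpoly

end Cfsg.Agent.Lib.Helper8.InvSub
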