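import Mathlib
import Cfsg.Agent.Lib.Helper8.Singer3H

/-!
# `r`-th powers in a finite field (helper8)
-/

set_option autoImplicit false
set_option linter.unusedSectionVars false

namespace Cfsg.Agent.Lib.Helper8.InvSub

open Cfsg.Agent.Lib.Helper8.Singer3

section Powers

variable {F : Type*} [Field F] [Fintype F]

/-- a unit killed by `(q - 1) / r` is an `r`-th power -/
theorem exists_root_of_pow_div {q r : ℕ} (hq : Fintype.card F = q) (hr : 0 < r)
    (hdvd : r ∣ q - 1) (u : Fˣ) (hu : u ^ ((q - 1) / r) = 1) : ∃ d : Fˣ, d ^ r = u := by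
  have hq2 : 2 ≤ q := by rw [← hq]; exact Fintype.one_lt_card
  obtain ⟨ω, hω⟩ := IsCyclic.exists_monoid_generator (α := Fˣ)
  have hord : orderOf ω = q - 1 := by
    rw [orderOf_eq_card_of_forall_mem_zpowers, card_units_eq hq]
    intro x
    exact (mem_powers_iff_mem_zpowers).1 (hω x)
  obtain ⟨a, ha⟩ := hω u
  simp only at ha
  obtain ⟨N₁, hN₁⟩ := hdvd
  have hN₁pos : 0 < N₁ := by
    rcases Nat.eq_zero_or_pos N₁ with h | h
    · rw [h, mul_zero] at hN₁
      omega
    · exact h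
  rw [hN₁, Nat.mul_div_cancel_left _ hr, ← ha, ← pow_mul] at hu
  have h1 : q - 1 ∣ a * N₁ := by
    rw [← hord]
    exact orderOf_dvd_of_pow_eq_one hu
  rw [hN₁] at h1
  have h2 : r ∣ a := by
    have := Nat.dvd_of_mul_dvd_mul_right hN₁pos h1
    exact this
  obtain ⟨t, rfl⟩ := h2
  exact ⟨ω ^ t, by rw [← ha, ← pow_mul, mul_comm]⟩

/-- an `r`-th power is killed by `(q - 1) / r` -/
theorem pow_div_of_root {q r : ℕ} (hq : Fintype.card F = q) (hdvd : r ∣ q - 1) (u d : Fˣ)
    (hd : d ^ r = u) : u ^ ((q - 1) / r) = 1 := by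
  rw [← hd, ← pow_mul, Nat.mul_div_cancel' hdvd, ← card_units_eq hq]
  exact pow_card_eq_one'

/-- (⟸ arithmetic) -/
theorem exists_root_of_det {q r : ℕ} (hq : Fintype.card F = q) (hr : r.Prime)
    (hdvd : r ∣ q - 1) (c : F) (k n : ℕ) (hn : n = k * r) (hn0 : 0 < n)
    (hdet : ((-1) ^ (r + 1) * c) ^ k = 1)
    (hval : padicValNat r n ≤ padicValNat r (q - 1)) (h2 : r = 2 → Even n → q % 4 = 1) :
    ∃ d : F, d ^ r = c := by
  haveI : Fact r.Prime := ⟨hr⟩
  have hq2 : 2 ≤ q := by rw [← hq]; exact Fintype.one_lt_card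
  have hN0 : q - 1 ≠ 0 := by omega
  have hk0 : 0 < k := by
    rcases Nat.eq_zero_or_pos k with h | h
    · rw [h, zero_mul] at hn
      omega
    · exact h
  set c' : F := (-1) ^ (r + 1) * c with hc'
  have hc'0 : c' ≠ 0 := by
    intro h0
    rw [h0, zero_pow (by omega)] at hdet
    exact zero_ne_one hdet
  set u : Fˣ := Units.mk0 c' hc'0 with hu
  have huk : u ^ k = 1 := by
    apply Units.ext
    rw [Units.val_pow_eq_pow_val, hu, Units.val_mk0, hdet, Units.val_one]
  -- the order of `u` divides `(q - 1) / r`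
  have ho1 : orderOf u ∣ k := orderOf_dvd_of_pow_eq_one huk
  have ho2 : orderOf u ∣ q - 1 := by
    rw [← card_units_eq hq]
    exact orderOf_dvd_natCard u
  have hopos : orderOf u ≠ 0 := by
    intro h0
    rw [h0, zero_dvd_iff] at ho1
    omega
  obtain ⟨t, o', ho', hoeq⟩ := Nat.exists_eq_pow_mul_and_not_dvd hopos r hr.ne_one
  have hrt : r ^ (t + 1) ∣ q - 1 := by
    have h3 : r ^ (t + 1) ∣ n := by
      rw [hn, pow_succ]
      apply Nat.mul_dvd_mul _ (dvd_refl r)
      exact dvd_trans (Dvd.intro _ hoeq.symm) ho1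
    rw [padicValNat_dvd_iff_le hN0]
    exact le_trans ((padicValNat_dvd_iff_le (by omega)).1 h3) hval
  have ho'N : o' ∣ q - 1 := dvd_trans (Dvd.intro_left _ hoeq.symm) ho2
  have hcop : Nat.Coprime (r ^ (t + 1)) o' :=
    Nat.Coprime.pow_left _ ((Nat.Prime.coprime_iff_not_dvd hr).2 ho')
  have h4 : r ^ (t + 1) * o' ∣ q - 1 := Nat.Coprime.mul_dvd_of_dvd_of_dvd hcop hrt ho'N
  have h5 : r * orderOf u ∣ q - 1 := by
    rw [hoeq, ← mul_assoc, ← pow_succ']
    exact h4
  have h6 : orderOf u ∣ (q - 1) / r := by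
    obtain ⟨e, he⟩ := h5
    rw [he, mul_assoc, Nat.mul_div_cancel_left _ hr.pos]
    exact Dvd.intro _ rfl
  have h7 : u ^ ((q - 1) / r) = 1 := orderOf_dvd_iff_pow_eq_one.1 h6
  obtain ⟨d, hd⟩ := exists_root_of_pow_div hq hr.pos hdvd u h7
  have hd' : (d : F) ^ r = c' := by
    rw [← Units.val_pow_eq_pow_val, hd, hu, Units.val_mk0]
  rcases hr.eq_two_or_odd' with h | h
  · -- `r = 2`
    subst h
    have heven : Even n := ⟨k, by rw [hn]; ring⟩
    have hq4 := h2 rfl heven
    have hsq : IsSquare (-1 : F) := by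
      rw [FiniteField.isSquare_neg_one_iff, hq]
      omega
    obtain ⟨s, hs⟩ := hsq
    refine ⟨s * (d : F), ?_⟩
    rw [mul_pow, hd', hc', pow_two s, ← hs]
    ring
  · refine ⟨(d : F), ?_⟩
    rw [hd', hc', Even.neg_one_pow (Odd.add_one h), one_mul]

/-- (⟹ arithmetic) a scalar that is not an `r`-th power but can be the `r`-th power of a matrix of
determinant one -/
theorem exists_bad_scalar {q r : ℕ} (hq : Fintype.card F = q) (hr : r.Prime)
    (hdvd : r ∣ q - 1) (n : ℕ) (hn0 : 0 < n)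
    (hfail : ¬ (padicValNat r n ≤ padicValNat r (q - 1) ∧ (r = 2 → Even n → q % 4 = 1))) :
    ∃ (c : F) (k : ℕ), n = k * r ∧ (∀ d : F, d ^ r ≠ c) ∧ ((-1) ^ (r + 1) * c) ^ k = 1 := by
  haveI : Fact r.Prime := ⟨hr⟩
  have hq2 : 2 ≤ q := by rw [← hq]; exact Fintype.one_lt_card
  have hN0 : q - 1 ≠ 0 := by omega
  by_cases hA : padicValNat r (q - 1) < padicValNat r n
  · set b := padicValNat r (q - 1) with hb
    have hb1 : 1 ≤ b := one_le_padicValNat_of_dvd hN0 hdvd
    have hrbN : r ^ b ∣ q - 1 := pow_padicValNat_dvd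
    have hrbN' : ¬ r ^ (b + 1) ∣ q - 1 := pow_succ_padicValNat_not_dvd hN0
    have hrbn : r ^ (b + 1) ∣ n := (padicValNat_dvd_iff_le (by omega)).2 hA
    obtain ⟨n', hn'⟩ := hrbn
    obtain ⟨ω, hω⟩ := IsCyclic.exists_monoid_generator (α := Fˣ)
    have hord : orderOf ω = q - 1 := by
      rw [orderOf_eq_card_of_forall_mem_zpowers, card_units_eq hq]
      intro x
      exact (mem_powers_iff_mem_zpowers).1 (hω x)
    have hc₀ : orderOf (ω ^ (orderOf ω / r ^ b)) = r ^ b :=
      orderOf_pow_orderOf_div (by rw [hord]; exact hN0) (by rw [hord]; exact hrbN)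
    set c₀ : Fˣ := ω ^ (orderOf ω / r ^ b) with hc₀def
    refine ⟨(c₀ : F), r ^ b * n', ?_, ?_, ?_⟩
    · rw [hn', pow_succ]
      ring
    · intro d hd
      have hd0 : d ≠ 0 := by
        intro h0
        rw [h0, zero_pow hr.ne_zero] at hd
        exact c₀.ne_zero hd.symm
      have h1 : (Units.mk0 d hd0) ^ r = c₀ := by
        apply Units.ext
        rw [Units.val_pow_eq_pow_val, Units.val_mk0, hd]
      have h2 := pow_div_of_root hq hdvd c₀ _ h1
      have h3 : r ^ b ∣ (q - 1) / r := by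
        rw [← hc₀]
        exact orderOf_dvd_of_pow_eq_one h2
      apply hrbN'
      obtain ⟨N₁, hN₁⟩ := hdvd
      rw [hN₁, Nat.mul_div_cancel_left _ hr.pos] at h3
      rw [hN₁, pow_succ']
      exact Nat.mul_dvd_mul (dvd_refl r) h3
    · rw [mul_pow, ← pow_mul]
      have h1 : Even ((r + 1) * (r ^ b * n')) := by
        rcases hr.eq_two_or_odd' with h | h
        · subst h
          apply Even.mul_left
          apply Even.mul_right
          exact (Nat.even_pow.2 ⟨even_two, by omega⟩)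
        · exact Even.mul_right (Odd.add_one h) _
      rw [Even.neg_one_pow h1, one_mul, ← Units.val_pow_eq_pow_val, pow_mul, ← hc₀,
        pow_orderOf_eq_one, one_pow, Units.val_one]
  · have h1 : ¬ (r = 2 → Even n → q % 4 = 1) := by
      intro h
      exact hfail ⟨not_lt.1 hA, h⟩
    push Not at h1
    obtain ⟨hr2, hneven, hq4⟩ := h1
    subst hr2
    obtain ⟨k, hk⟩ := hneven
    have hq4' : q % 4 = 3 := by omega
    refine ⟨-1, k, by omega, ?_, ?_⟩
    · intro d hd
      have : IsSquare (-1 : F) := ⟨d, by rw [← hd, pow_two]⟩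
      rw [FiniteField.isSquare_neg_one_iff, hq] at this
      exact this hq4'
    · norm_num

end Powers

end Cfsg.Agent.Lib.Helper8.InvSub
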