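import Mathlib

/-!
# The number of `m`-dimensional subspaces of a finite vector space (helper8)
-/

set_option autoImplicit false
set_option linter.unusedSectionVars false

namespace Cfsg.Agent.Lib.Helper8.InvSub

open Module

section Count

variable {K V : Type*} [Field K] [Fintype K] [AddCommGroup V] [Module K V] [Finite V]

theorem coe_linearIndependent (W : Submodule K V) {m : ℕ} (t : Fin m → W)
    (ht : LinearIndependent K t) : LinearIndependent K (fun j => (t j : V)) :=
  ht.map' W.subtype (Submodule.ker_subtype _)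

theorem mem_of_span_eq (W : Submodule K V) {m : ℕ} (s : Fin m → V)
    (h : Submodule.span K (Set.range s) = W) (j : Fin m) : s j ∈ W := by
  rw [← h]
  exact Submodule.subset_span ⟨j, rfl⟩

/-- the frames of a fixed `m`-dimensional subspace -/
noncomputable def fiberEquiv (m : ℕ) (W : {W : Submodule K V // finrank K W = m}) :
    {s : {s : Fin m → V // LinearIndependent K s} //
      Submodule.span K (Set.range s.1) = W.1} ≃
    {t : Fin m → W.1 // LinearIndependent K t} where
  toFun s := ⟨fun j => ⟨s.1.1 j, mem_of_span_eq W.1 s.1.1 s.2 j⟩, by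
      apply LinearIndependent.of_comp W.1.subtype
      exact s.1.2⟩
  invFun t := ⟨⟨fun j => (t.1 j : V), coe_linearIndependent W.1 t.1 t.2⟩, by
      apply Submodule.eq_of_le_of_finrank_eq
      · rw [Submodule.span_le]
        rintro _ ⟨j, rfl⟩
        exact (t.1 j).2
      · rw [finrank_span_eq_card (coe_linearIndependent W.1 t.1 t.2),
          Fintype.card_fin, W.2]⟩
  left_inv s := by
    apply Subtype.ext
    apply Subtype.ext
    rfl
  right_inv t := by
    apply Subtype.ext
    rfl

/-- the number of `m`-subspaces times the number of frames of an `m`-space is the number of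
`m`-frames -/
theorem card_subspaces_mul (m : ℕ) (hm : m ≤ finrank K V) :
    Nat.card {W : Submodule K V // finrank K W = m} *
        ∏ j : Fin m, (Fintype.card K ^ m - Fintype.card K ^ (j : ℕ)) =
      ∏ j : Fin m, (Fintype.card K ^ finrank K V - Fintype.card K ^ (j : ℕ)) := by
  classical
  haveI : Fintype {W : Submodule K V // finrank K W = m} := Fintype.ofFinite _
  let f : {s : Fin m → V // LinearIndependent K s} → {W : Submodule K V // finrank K W = m} :=
    fun s => ⟨Submodule.span K (Set.range s.1), by
      rw [finrank_span_eq_card s.2, Fintype.card_fin]⟩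
  have h1 : Nat.card {s : Fin m → V // LinearIndependent K s} =
      Nat.card (Σ W : {W : Submodule K V // finrank K W = m},
        {s : {s : Fin m → V // LinearIndependent K s} // f s = W}) :=
    Nat.card_congr (Equiv.sigmaFiberEquiv f).symm
  rw [← card_linearIndependent hm, h1, Nat.card_sigma]
  have h2 : ∀ W : {W : Submodule K V // finrank K W = m},
      Nat.card {s : {s : Fin m → V // LinearIndependent K s} // f s = W} =
        ∏ j : Fin m, (Fintype.card K ^ m - Fintype.card K ^ (j : ℕ)) := by
    intro W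
    have e1 : {s : {s : Fin m → V // LinearIndependent K s} // f s = W} ≃
        {s : {s : Fin m → V // LinearIndependent K s} //
          Submodule.span K (Set.range s.1) = W.1} :=
      Equiv.subtypeEquivRight (fun s => by
        constructor
        · intro h
          exact congrArg Subtype.val h
        · intro h
          exact Subtype.ext h)
    rw [Nat.card_congr (e1.trans (fiberEquiv m W))]
    have := card_linearIndependent (K := K) (V := W.1) (k := m) (by rw [W.2])
    rw [this, W.2]
  rw [Finset.sum_congr rfl (fun W _ => h2 W), Finset.sum_const, Finset.card_univ, smul_eq_mul,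
    Nat.card_eq_fintype_card]

theorem pow_sub_pow_eq (q n j : ℕ) (hj : j ≤ n) : q ^ n - q ^ j = q ^ j * (q ^ (n - j) - 1) := by
  rw [Nat.mul_sub, mul_one, ← pow_add]
  congr 2
  omega

/-- the reduced form of the count -/
theorem card_subspaces_mul' (m : ℕ) (hm : m ≤ finrank K V) :
    Nat.card {W : Submodule K V // finrank K W = m} *
        ∏ j : Fin m, (Fintype.card K ^ (m - (j : ℕ)) - 1) =
      ∏ j : Fin m, (Fintype.card K ^ (finrank K V - (j : ℕ)) - 1) := by
  have h := card_subspaces_mul (K := K) (V := V) m hm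
  have e1 : ∏ j : Fin m, (Fintype.card K ^ m - Fintype.card K ^ (j : ℕ)) =
      (∏ j : Fin m, Fintype.card K ^ (j : ℕ)) *
        ∏ j : Fin m, (Fintype.card K ^ (m - (j : ℕ)) - 1) := by
    rw [← Finset.prod_mul_distrib]
    apply Finset.prod_congr rfl
    intro j _
    exact pow_sub_pow_eq _ _ _ (le_of_lt j.2)
  have e2 : ∏ j : Fin m, (Fintype.card K ^ finrank K V - Fintype.card K ^ (j : ℕ)) =
      (∏ j : Fin m, Fintype.card K ^ (j : ℕ)) *
        ∏ j : Fin m, (Fintype.card K ^ (finrank K V - (j : ℕ)) - 1) := by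
    rw [← Finset.prod_mul_distrib]
    apply Finset.prod_congr rfl
    intro j _
    exact pow_sub_pow_eq _ _ _ (le_trans (le_of_lt j.2) hm)
  rw [e1, e2, mul_left_comm] at h
  have hQ : 0 < ∏ j : Fin m, Fintype.card K ^ (j : ℕ) := by
    apply Finset.prod_pos
    intro j _
    exact pow_pos Fintype.card_pos _
  exact Nat.eq_of_mul_eq_mul_left hQ h

/-- the characteristic does not divide the number of `m`-subspaces -/
theorem not_char_dvd_card_subspaces (p : ℕ) [Fact p.Prime] [CharP K p] (m : ℕ)
    (hm : m ≤ finrank K V) : ¬ p ∣ Nat.card {W : Submodule K V // finrank K W = m} := by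
  intro hdvd
  have h := card_subspaces_mul' (K := K) (V := V) m hm
  have h1 : p ∣ ∏ j : Fin m, (Fintype.card K ^ (finrank K V - (j : ℕ)) - 1) := by
    rw [← h]
    exact dvd_mul_of_dvd_left hdvd _
  obtain ⟨j, -, hj⟩ := (Prime.dvd_finsetProd_iff (Nat.Prime.prime (Fact.out : p.Prime)) _).1 h1
  obtain ⟨f, _, hf⟩ := FiniteField.card K p
  have hpq : p ∣ Fintype.card K := by
    rw [hf]
    exact dvd_pow_self p f.ne_zero
  have hpos : 0 < finrank K V - (j : ℕ) := by have := j.2; omega
  have h2 : p ∣ Fintype.card K ^ (finrank K V - (j : ℕ)) := dvd_pow hpq (by omega)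
  have h3 : 1 ≤ Fintype.card K ^ (finrank K V - (j : ℕ)) :=
    Nat.one_le_pow _ _ Fintype.card_pos
  have h4 : p ∣ 1 := by
    have := (Nat.dvd_sub h2 hj)
    rwa [Nat.sub_sub_self h3] at this
  exact (Fact.out : p.Prime).one_lt.ne' (Nat.dvd_one.1 h4)

/-- a prime dividing the number of `m`-subspaces divides some `q^(n-j) - 1`, `j < m` -/
theorem exists_dvd_of_dvd_card_subspaces {r : ℕ} (hr : r.Prime) (m : ℕ)
    (hm : m ≤ finrank K V) (hdvd : r ∣ Nat.card {W : Submodule K V // finrank K W = m}) :
    ∃ j : ℕ, j < m ∧ r ∣ Fintype.card K ^ (finrank K V - j) - 1 := by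
  have h := card_subspaces_mul' (K := K) (V := V) m hm
  have h1 : r ∣ ∏ j : Fin m, (Fintype.card K ^ (finrank K V - (j : ℕ)) - 1) := by
    rw [← h]
    exact dvd_mul_of_dvd_left hdvd _
  obtain ⟨j, -, hj⟩ := (Prime.dvd_finsetProd_iff hr.prime _).1 h1
  exact ⟨j, j.2, hj⟩

end Count

section Order

theorem orderOf_dvd_of_dvd_pow_sub_one {q r t : ℕ} (hq : 0 < q) (h : r ∣ q ^ t - 1) :
    orderOf (q : ZMod r) ∣ t := by
  apply orderOf_dvd_of_pow_eq_one
  have h1 : 1 ≤ q ^ t := Nat.one_le_pow _ _ hq
  have h2 : ((q ^ t - 1 : ℕ) : ZMod r) = 0 := (ZMod.natCast_eq_zero_iff _ _).2 h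
  rw [Nat.cast_sub h1, Nat.cast_pow, Nat.cast_one, sub_eq_zero] at h2
  exact h2

end Order

end Cfsg.Agent.Lib.Helper8.InvSub
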