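import Mathlib

/-!
# Matrices of prime order without fixed vectors, and matrices whose `r`-th power is a prescribed
scalar (helper8)
-/

set_option autoImplicit false
set_option linter.unusedSectionVars false

namespace Cfsg.Agent.Lib.Helper8.InvSub

open Matrix Module Polynomial

section Free

variable {F : Type*} [Field F] [Fintype F]

/-- a matrix of order `r` of size `l` with `B - 1` invertible, when `r ∣ q^l - 1` -/
theorem exists_free_block (l : ℕ) (hl : 1 ≤ l) (r : ℕ) (hr : r.Prime)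
    (hd : r ∣ Fintype.card F ^ l - 1) :
    ∃ B : Matrix (Fin l) (Fin l) F, B ^ r = 1 ∧ IsUnit (B - 1) := by
  classical
  haveI : Fact r.Prime := ⟨hr⟩
  obtain ⟨p, hp⟩ := CharP.exists F
  have : Fact p.Prime := ⟨CharP.char_is_prime F p⟩
  have : NeZero l := ⟨by omega⟩
  let K := FiniteField.Extension F p l
  have hfr : Module.finrank F K = l := FiniteField.finrank_extension F p l
  have hcardK : Nat.card K = Fintype.card F ^ l := by
    rw [FiniteField.natCard_extension, Nat.card_eq_fintype_card]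
  obtain ⟨z, hz⟩ := exists_prime_orderOf_dvd_card' (G := Kˣ) r (by
    rw [Nat.card_units, hcardK]
    exact hd)
  let b : Module.Basis (Fin l) F K := Module.finBasisOfFinrankEq F K hfr
  refine ⟨Algebra.leftMulMatrix b (z : K), ?_, ?_⟩
  · rw [← map_pow, ← Units.val_pow_eq_pow_val, ← hz, pow_orderOf_eq_one, Units.val_one, map_one]
  · have hz1 : (z : K) - 1 ≠ 0 := by
      intro h0
      have h1 : z = 1 := Units.ext (by rw [sub_eq_zero.1 h0, Units.val_one])
      rw [h1, orderOf_one] at hz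
      exact hr.one_lt.ne hz
    have hu : IsUnit ((z : K) - 1) := isUnit_iff_ne_zero.2 hz1
    have := hu.map (Algebra.leftMulMatrix b)
    rw [map_sub, map_one] at this
    exact this

end Free

section Embed

variable {F : Type*} [Field F]

theorem fromBlocks_pow_one' {l k : ℕ} (Y : Matrix (Fin l) (Fin l) F) (m : ℕ) :
    (Matrix.fromBlocks Y 0 0 (1 : Matrix (Fin k) (Fin k) F)) ^ m =
      Matrix.fromBlocks (Y ^ m) 0 0 1 := by
  induction m with
  | zero => rw [pow_zero, pow_zero, Matrix.fromBlocks_one]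
  | succ m ih =>
    rw [pow_succ, ih, Matrix.fromBlocks_multiply, ← pow_succ]
    simp

/-- embedding a block `B` with `B - 1` invertible: the fixed space has small dimension -/
theorem exists_embed {l n : ℕ} (hl : l ≤ n) (B : Matrix (Fin l) (Fin l) F) (m : ℕ)
    (hBm : B ^ m = 1) (hB1 : IsUnit (B - 1)) :
    ∃ x : Matrix (Fin n) (Fin n) F, x ^ m = 1 ∧ x.det = B.det ∧ l ≤ (x - 1).rank := by
  classical
  obtain ⟨k, rfl⟩ : ∃ k, n = l + k := ⟨n - l, by omega⟩
  obtain ⟨φ, hφ⟩ : ∃ φ : Matrix (Fin l ⊕ Fin k) (Fin l ⊕ Fin k) F ≃ₐ[F]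
      Matrix (Fin (l + k)) (Fin (l + k)) F,
        ∀ M, φ M = Matrix.reindex finSumFinEquiv finSumFinEquiv M :=
    ⟨Matrix.reindexAlgEquiv F F finSumFinEquiv, fun M => by rw [Matrix.coe_reindexAlgEquiv]⟩
  set Bb : Matrix (Fin l ⊕ Fin k) (Fin l ⊕ Fin k) F := Matrix.fromBlocks B 0 0 1 with hBb
  have hB1' : Bb - 1 = Matrix.fromBlocks (B - 1) 0 0 0 := by
    rw [hBb, ← Matrix.fromBlocks_one, sub_eq_add_neg, Matrix.fromBlocks_neg, Matrix.fromBlocks_add]
    simp [sub_eq_add_neg]
  have hfac : B - 1 = Matrix.fromCols (1 : Matrix (Fin l) (Fin l) F) (0 : Matrix (Fin l) (Fin k) F) *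
      (Bb - 1) * Matrix.fromRows (1 : Matrix (Fin l) (Fin l) F) (0 : Matrix (Fin k) (Fin l) F) := by
    rw [hB1', Matrix.fromCols_mul_fromBlocks, Matrix.fromCols_mul_fromRows]
    simp
  refine ⟨φ Bb, ?_, ?_, ?_⟩
  · rw [← map_pow, hBb, fromBlocks_pow_one', hBm, Matrix.fromBlocks_one, map_one]
  · rw [hφ, Matrix.det_reindex_self, hBb, Matrix.det_fromBlocks_zero₂₁, Matrix.det_one, mul_one]
  · rw [← map_one φ, ← map_sub, hφ, Matrix.rank_reindex]
    have h1 : (B - 1).rank = l := by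
      rw [Matrix.rank_of_isUnit _ hB1, Fintype.card_fin]
    calc l = (B - 1).rank := h1.symm
      _ ≤ (Matrix.fromCols (1 : Matrix (Fin l) (Fin l) F) (0 : Matrix (Fin l) (Fin k) F) *
            (Bb - 1)).rank := by
          rw [hfac]
          exact Matrix.rank_mul_le_left _ _
      _ ≤ (Bb - 1).rank := Matrix.rank_mul_le_right _ _

end Embed

section Kummer

variable {F : Type*} [Field F]

/-- a matrix of size `r` with `Y ^ r = c` and determinant `(-1)^(r+1) c` -/
theorem exists_kummer_block (r : ℕ) (hr : 1 ≤ r) (c : F) :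
    ∃ (ι : Type) (_ : Fintype ι) (_ : DecidableEq ι) (Y : Matrix ι ι F),
      Fintype.card ι = r ∧ Y ^ r = c • (1 : Matrix ι ι F) ∧ Y.det = (-1) ^ (r + 1) * c := by
  classical
  have hmonic : ((X : F[X]) ^ r - C c).Monic := monic_X_pow_sub_C c (by omega)
  have hf0 : ((X : F[X]) ^ r - C c) ≠ 0 := hmonic.ne_zero
  have hdeg : ((X : F[X]) ^ r - C c).natDegree = r := natDegree_X_pow_sub_C
  set pb := AdjoinRoot.powerBasis hf0 with hpb
  have hdim : pb.dim = r := by rw [hpb, AdjoinRoot.powerBasis_dim, hdeg]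
  have hgen : pb.gen = AdjoinRoot.root ((X : F[X]) ^ r - C c) := by
    rw [hpb, AdjoinRoot.powerBasis_gen]
  have hroot : (AdjoinRoot.root ((X : F[X]) ^ r - C c)) ^ r =
      algebraMap F (AdjoinRoot ((X : F[X]) ^ r - C c)) c := by
    have h1 := AdjoinRoot.eval₂_root ((X : F[X]) ^ r - C c)
    rw [eval₂_sub, eval₂_pow, eval₂_X, eval₂_C, sub_eq_zero] at h1
    exact h1
  refine ⟨Fin pb.dim, inferInstance, inferInstance,
    Algebra.leftMulMatrix pb.basis (AdjoinRoot.root ((X : F[X]) ^ r - C c)), ?_, ?_, ?_⟩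
  · rw [Fintype.card_fin, hdim]
  · rw [← map_pow, hroot, AlgHom.commutes, Algebra.algebraMap_eq_smul_one]
  · rw [← Algebra.norm_eq_matrix_det pb.basis, ← hgen,
      Algebra.PowerBasis.norm_gen_eq_coeff_zero_minpoly, hpb,
      AdjoinRoot.minpoly_powerBasis_gen_of_monic hmonic hf0, ← hpb, hdim, coeff_sub,
      coeff_X_pow, coeff_C_zero, if_neg (by omega), zero_sub, pow_succ]
    ring

/-- a matrix of size `k * r` with `x ^ r = c` and determinant `((-1)^(r+1) c)^k` -/
theorem exists_kummer (r : ℕ) (hr : 1 ≤ r) (c : F) (k n : ℕ) (hn : n = k * r) :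
    ∃ x : Matrix (Fin n) (Fin n) F, x ^ r = c • (1 : Matrix (Fin n) (Fin n) F) ∧
      x.det = ((-1) ^ (r + 1) * c) ^ k := by
  classical
  obtain ⟨ι, _, _, Y, hι, hYr, hYdet⟩ := exists_kummer_block r hr c
  have hcard : Fintype.card (ι × Fin k) = n := by
    rw [Fintype.card_prod, hι, Fintype.card_fin, hn, mul_comm]
  let e : ι × Fin k ≃ Fin n := Fintype.equivFinOfCardEq hcard
  obtain ⟨φ, hφ⟩ : ∃ φ : Matrix (ι × Fin k) (ι × Fin k) F ≃ₐ[F]
      Matrix (Fin n) (Fin n) F, ∀ M, φ M = Matrix.reindex e e M :=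
    ⟨Matrix.reindexAlgEquiv F F e, fun M => by rw [Matrix.coe_reindexAlgEquiv]⟩
  refine ⟨φ (Matrix.blockDiagonal (fun _ : Fin k => Y)), ?_, ?_⟩
  · rw [← map_pow, ← Matrix.blockDiagonal_pow]
    have h1 : (fun _ : Fin k => Y) ^ r = c • (1 : Fin k → Matrix ι ι F) := by
      funext j
      rw [Pi.pow_apply, hYr, Pi.smul_apply, Pi.one_apply]
    rw [h1, Matrix.blockDiagonal_smul, Matrix.blockDiagonal_one, map_smul, map_one]
  · rw [hφ, Matrix.det_reindex_self, Matrix.det_blockDiagonal, Finset.prod_const,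
      Finset.card_univ, Fintype.card_fin, hYdet]

end Kummer

end Cfsg.Agent.Lib.Helper8.InvSub
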