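import Mathlib
import Cfsg.Agent.Lib.Helper8.InvSubE
import Cfsg.Agent.Lib.Helper8.InvSubF
import Cfsg.Agent.Lib.Helper8.InvSubG
import Cfsg.Agent.Lib.Helper8.InvSubH

/-!
# Elements of prime order of `SL_n(q)` and invariant `m`-subspaces (helper8)
-/

set_option autoImplicit false
set_option linter.unusedSectionVars false

open scoped MatrixGroups

namespace Cfsg.Agent.Lib.Helper8.InvSub

open Matrix Module Polynomial Cfsg.Agent.Lib.Helper8.SingerN

section Main

variable {F : Type*} [Field F] [Fintype F]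

theorem toLin'_pow_eq_smul {n r : ℕ} (M : Matrix (Fin n) (Fin n) F) (c : F)
    (hM : M ^ r = c • (1 : Matrix (Fin n) (Fin n) F)) :
    (Matrix.toLin' M) ^ r = c • (1 : Module.End F (Fin n → F)) := by
  rw [← Matrix.toLin'_pow, hM, map_smul, Matrix.toLin'_one]
  rfl

/-- the existence direction -/
theorem exists_invt_of_cond (p : ℕ) [Fact p.Prime] [CharP F p] {q : ℕ}
    (hq : Fintype.card F = q) (n m : ℕ) (hn : 2 ≤ n) (hmn : 2 * m ≤ n) (r : ℕ) (hr : r.Prime)
    (hrp : r ≠ p)
    (hcond : (orderOf (q : ZMod r) = 1 ∧ (r ∣ m ∨ (padicValNat r n ≤ padicValNat r (q - 1) ∧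
        (r = 2 → Even n → q % 4 = 1)))) ∨
      (2 ≤ orderOf (q : ZMod r) ∧ orderOf (q : ZMod r) ≤ m ∧
        m % orderOf (q : ZMod r) ≤ n % orderOf (q : ZMod r)))
    (x : Matrix.SpecialLinearGroup (Fin n) F) (c : F)
    (hx : ((x ^ r : Matrix.SpecialLinearGroup (Fin n) F) : Matrix (Fin n) (Fin n) F) =
      c • (1 : Matrix (Fin n) (Fin n) F)) :
    ∃ W : Submodule F (Fin n → F), Module.finrank F ↥W = m ∧
      W.map (Matrix.toLin' (x : Matrix (Fin n) (Fin n) F)) ≤ W := by
  classical
  have hq2 : 2 ≤ q := by rw [← hq]; exact Fintype.one_lt_card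
  set M := (x : Matrix (Fin n) (Fin n) F) with hM
  have hMr : M ^ r = c • (1 : Matrix (Fin n) (Fin n) F) := by
    rw [← hx, Matrix.SpecialLinearGroup.coe_pow]
  have hXr := toLin'_pow_eq_smul M c hMr
  have hfr : finrank F (Fin n → F) = n := Module.finrank_fin_fun F
  have hr0 : (r : F) ≠ 0 := natCast_ne_zero_of' p hr hrp
  suffices h : ∃ W : Submodule F (Fin n → F), finrank F W = m ∧
      W ∈ Module.End.invtSubmodule (Matrix.toLin' M) by
    obtain ⟨W, hWm, hW⟩ := h
    exact ⟨W, hWm, (Module.End.mem_invtSubmodule_iff_map_le _).1 hW⟩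
  by_cases hroot : ∃ d : F, d ^ r = c
  · obtain ⟨d, hd⟩ := hroot
    have hc0 : c ≠ 0 := by
      intro h0
      have h1 := congrArg Matrix.det hMr
      haveI : Nonempty (Fin n) := ⟨⟨0, by omega⟩⟩
      rw [Matrix.det_pow, x.2, one_pow, h0, zero_smul, Matrix.det_zero] at h1
      exact one_ne_zero h1
    have hd0 : d ≠ 0 := by
      intro h0
      rw [h0, zero_pow hr.ne_zero] at hd
      exact hc0 hd.symm
    rw [← hd] at hXr
    apply exists_invt_of_pow_eq_pow p hq hr hrp _ d hd0 hXr m (by rw [hfr]; omega)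
    rw [hfr]
    rcases hcond with h | h
    · rw [h.1, Nat.mod_one, Nat.mod_one]
    · exact h.2.2
  · push Not at hroot
    have hdvd : r ∣ q - 1 := by
      by_contra hnq
      obtain ⟨d, hd⟩ := exists_root hq hr hnq c
      exact hroot d hd
    have hi1 : orderOf (q : ZMod r) = 1 := orderOf_eq_one_of_dvd (by omega) hdvd
    rcases hcond with h | h
    · rcases h.2 with h1 | h1
      · exact exists_invt_of_not_pow hr hr0 _ c hroot hXr m (by rw [hfr]; omega) h1
      · exfalso
        obtain ⟨k, hk, hdet⟩ := det_of_not_pow hr M c hroot hMr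
        rw [x.2] at hdet
        obtain ⟨d, hd⟩ := exists_root_of_det hq hr hdvd c k n hk (by omega) hdet.symm h1.1 h1.2
        exact hroot d hd
    · rw [hi1] at h
      omega

/-- the necessity direction -/
theorem cond_of_forall_invt (p : ℕ) [Fact p.Prime] [CharP F p] {q : ℕ}
    (hq : Fintype.card F = q) (n m : ℕ) (hn : 2 ≤ n) (hm : 1 ≤ m) (hmn : 2 * m ≤ n) (r : ℕ)
    (hr : r.Prime)
    (hrΩ : r ∣ Nat.card {W : Submodule F (Fin n → F) // Module.finrank F ↥W = m})
    (H : ∀ x : Matrix.SpecialLinearGroup (Fin n) F,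
      (∃ c : F, ((x ^ r : Matrix.SpecialLinearGroup (Fin n) F) : Matrix (Fin n) (Fin n) F) =
        c • (1 : Matrix (Fin n) (Fin n) F)) →
      (∀ c : F, (x : Matrix (Fin n) (Fin n) F) ≠ c • (1 : Matrix (Fin n) (Fin n) F)) →
      ∃ W : Submodule F (Fin n → F), Module.finrank F ↥W = m ∧
        W.map (Matrix.toLin' (x : Matrix (Fin n) (Fin n) F)) ≤ W) :
    r ≠ p ∧
      ((orderOf (q : ZMod r) = 1 ∧ (r ∣ m ∨ (padicValNat r n ≤ padicValNat r (q - 1) ∧
        (r = 2 → Even n → q % 4 = 1)))) ∨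
      (2 ≤ orderOf (q : ZMod r) ∧ orderOf (q : ZMod r) ≤ m ∧
        m % orderOf (q : ZMod r) ≤ n % orderOf (q : ZMod r))) := by
  classical
  haveI : Fact r.Prime := ⟨hr⟩
  have hq2 : 2 ≤ q := by rw [← hq]; exact Fintype.one_lt_card
  have hfr : finrank F (Fin n → F) = n := Module.finrank_fin_fun F
  have hne : Nonempty (Fin n) := ⟨⟨0, by omega⟩⟩
  have hrp : r ≠ p := by
    intro h
    subst h
    exact not_char_dvd_card_subspaces (K := F) (V := Fin n → F) r m (by rw [hfr]; omega) hrΩ
  refine ⟨hrp, ?_⟩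
  have hr0 : (r : F) ≠ 0 := natCast_ne_zero_of' p hr hrp
  obtain ⟨j, hjm, hj⟩ := exists_dvd_of_dvd_card_subspaces (K := F) (V := Fin n → F) hr m
    (by rw [hfr]; omega) hrΩ
  rw [hfr, hq] at hj
  have hij : orderOf (q : ZMod r) ∣ n - j := orderOf_dvd_of_dvd_pow_sub_one (by omega) hj
  set i := orderOf (q : ZMod r) with hi
  have hipos : 0 < i := by
    rcases Nat.eq_zero_or_pos i with h | h
    · rw [h, zero_dvd_iff] at hij
      omega
    · exact h
  by_cases hdvd : r ∣ q - 1
  · left
    refine ⟨orderOf_eq_one_of_dvd (by omega) hdvd, ?_⟩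
    by_contra hcon
    push Not at hcon
    obtain ⟨hrm, hfail⟩ := hcon
    obtain ⟨c, k, hk, hc, hdet⟩ := exists_bad_scalar (F := F) hq hr hdvd n (by omega)
      (by
        intro h
        obtain ⟨h2, hev, h4⟩ := hfail h.1
        exact h4 (h.2 h2 hev))
    obtain ⟨x, hxr, hxdet⟩ := exists_kummer r hr.one_le c k n hk
    rw [hdet] at hxdet
    obtain ⟨Xs, hX⟩ : ∃ Xs : Matrix.SpecialLinearGroup (Fin n) F,
        (Xs : Matrix (Fin n) (Fin n) F) = x := ⟨⟨x, hxdet⟩, rfl⟩
    have h1 : ∃ c : F, ((Xs ^ r : Matrix.SpecialLinearGroup (Fin n) F) :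
        Matrix (Fin n) (Fin n) F) = c • (1 : Matrix (Fin n) (Fin n) F) :=
      ⟨c, by rw [Matrix.SpecialLinearGroup.coe_pow, hX, hxr]⟩
    have h2 : ∀ z : F, (Xs : Matrix (Fin n) (Fin n) F) ≠ z • (1 : Matrix (Fin n) (Fin n) F) := by
      intro z hz
      rw [hX] at hz
      rw [hz, _root_.smul_pow, one_pow] at hxr
      have := congrFun (congrFun hxr ⟨0, by omega⟩) ⟨0, by omega⟩
      rw [Matrix.smul_apply, Matrix.smul_apply, Matrix.one_apply_eq, smul_eq_mul, smul_eq_mul,
        mul_one, mul_one] at this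
      exact hc z this
    obtain ⟨W, hWm, hW⟩ := H Xs h1 h2
    rw [hX] at hW
    have hW' : W ∈ Module.End.invtSubmodule (Matrix.toLin' x) :=
      (Module.End.mem_invtSubmodule_iff_map_le _).2 hW
    have := dvd_finrank_of_not_pow hr hr0 _ c hc (toLin'_pow_eq_smul x c hxr) W hW'
    rw [hWm] at this
    exact hrm this
  · right
    have hi1 : i ≠ 1 := by
      intro h1
      apply hdvd
      have h2 : (q : ZMod r) ^ i = 1 := pow_orderOf_eq_one _
      rw [h1, pow_one] at h2
      have h3 : q ≡ 1 [MOD r] := by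
        apply (ZMod.natCast_eq_natCast_iff _ _ _).1
        rw [h2, Nat.cast_one]
      exact (Nat.modEq_iff_dvd' (by omega)).1 h3.symm
    have hi2 : 2 ≤ i := by omega
    refine ⟨hi2, ?_⟩
    by_contra hneg
    -- the bad element
    have hin : i ≤ n := by
      have := Nat.le_of_dvd (by omega) hij
      omega
    set l := n / i * i with hl
    have hl1 : 1 ≤ l := by
      have : 1 ≤ n / i := Nat.div_pos hin hipos
      calc 1 ≤ i := hipos
        _ = 1 * i := (one_mul i).symm
        _ ≤ n / i * i := Nat.mul_le_mul_right i this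
    have hln : l ≤ n := Nat.div_mul_le_self n i
    have hnl : n - l = n % i := by
      have := Nat.div_add_mod' n i
      omega
    have hrl : r ∣ Fintype.card F ^ l - 1 := by
      rw [hq]
      have h1 : (q : ZMod r) ^ l = 1 := by
        rw [hl, mul_comm, pow_mul, pow_orderOf_eq_one, one_pow]
      have h2 : q ^ l ≡ 1 [MOD r] := by
        apply (ZMod.natCast_eq_natCast_iff _ _ _).1
        rw [Nat.cast_pow, h1, Nat.cast_one]
      exact (Nat.modEq_iff_dvd' (Nat.one_le_pow _ _ (by omega))).1 h2.symm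
    obtain ⟨B, hBr, hB1⟩ := exists_free_block (F := F) l hl1 r hr hrl
    obtain ⟨x, hxr, hxdet, hxrank⟩ := exists_embed hln B r hBr hB1
    have hBdet : B.det = 1 := by
      apply eq_one_of_pow hq hr hdvd
      rw [← Matrix.det_pow, hBr, Matrix.det_one]
    rw [hBdet] at hxdet
    obtain ⟨Xs, hX⟩ : ∃ Xs : Matrix.SpecialLinearGroup (Fin n) F,
        (Xs : Matrix (Fin n) (Fin n) F) = x := ⟨⟨x, hxdet⟩, rfl⟩
    have h1 : ∃ c : F, ((Xs ^ r : Matrix.SpecialLinearGroup (Fin n) F) :
        Matrix (Fin n) (Fin n) F) = c • (1 : Matrix (Fin n) (Fin n) F) :=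
      ⟨1, by rw [Matrix.SpecialLinearGroup.coe_pow, hX, hxr, one_smul]⟩
    have h2 : ∀ z : F, (Xs : Matrix (Fin n) (Fin n) F) ≠ z • (1 : Matrix (Fin n) (Fin n) F) := by
      intro z hz
      rw [hX] at hz
      have hz' := hxr
      rw [hz, _root_.smul_pow, one_pow] at hz'
      have := congrFun (congrFun hz' ⟨0, by omega⟩) ⟨0, by omega⟩
      rw [Matrix.smul_apply, Matrix.one_apply_eq, smul_eq_mul, mul_one] at this
      have hz1 : z = 1 := eq_one_of_pow hq hr hdvd z this
      rw [hz, hz1, one_smul, sub_self, Matrix.rank_zero] at hxrank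
      omega
    obtain ⟨W, hWm, hW⟩ := H Xs h1 h2
    rw [hX] at hW
    have hW' : W ∈ Module.End.invtSubmodule (Matrix.toLin' x) :=
      (Module.End.mem_invtSubmodule_iff_map_le _).2 hW
    have hXr : (Matrix.toLin' x) ^ r = 1 := by
      rw [← Matrix.toLin'_pow, hxr, Matrix.toLin'_one]
      rfl
    obtain ⟨a, ha⟩ := finrank_invt_of_pow_eq_one (Matrix.toLin' x) r hr0 hXr i
      (allDeg_geomPoly p hq hr hrp) W hW'
    -- the fixed space is small
    have hker : finrank F (LinearMap.ker (aeval (Matrix.toLin' x) (X - C (1 : F)))) ≤ n % i := by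
      have e1 : aeval (Matrix.toLin' x) (X - C (1 : F)) = (x - 1).mulVecLin := by
        rw [map_sub, aeval_X, aeval_C, map_one]
        apply LinearMap.ext
        intro v
        rw [LinearMap.sub_apply, Matrix.toLin'_apply, Module.End.one_apply, Matrix.mulVecLin_apply,
          Matrix.sub_mulVec, Matrix.one_mulVec]
      rw [e1]
      have h3 := LinearMap.finrank_range_add_finrank_ker (x - 1).mulVecLin
      rw [hfr] at h3
      have h4 : (x - 1).rank = finrank F (LinearMap.range (x - 1).mulVecLin) := rfl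
      omega
    have hc' : finrank F ↥(W ⊓ LinearMap.ker (aeval (Matrix.toLin' x) (X - C (1 : F)))) ≤
        n % i := le_trans (Submodule.finrank_mono inf_le_right) hker
    have hmodlt : n % i < i := Nat.mod_lt _ hipos
    rw [hWm] at ha
    rcases Nat.eq_zero_or_pos a with h0 | hpos
    · -- `m ≤ n % i`
      rw [h0, mul_zero, add_zero] at ha
      obtain ⟨t, ht⟩ := hij
      have h5 : n % i = j % i := by
        have : n = j + i * t := by omega
        rw [this, Nat.add_mul_mod_self_left]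
      have h6 : j % i = j := Nat.mod_eq_of_lt (by omega)
      omega
    · apply hneg
      have h7 : i ≤ i * a := Nat.le_mul_of_pos_right i hpos
      refine ⟨by omega, ?_⟩
      rw [ha, Nat.add_mul_mod_self_left, Nat.mod_eq_of_lt (by omega)]
      exact hc'

end Main

end Cfsg.Agent.Lib.Helper8.InvSub
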