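import Mathlib
import Cfsg.Agent.Lib.Helper8.DecStG
import Cfsg.Agent.Lib.Helper8.InvSubI

/-!
# Elements of odd prime order `r ≠ p` of `SL_n(q)` stabilizing a decomposition: existence (helper8)
-/

set_option autoImplicit false
set_option linter.unusedSectionVars false
set_option linter.style.haveILetI false

open scoped MatrixGroups

namespace Cfsg.Agent.Lib.Helper8.DecSt

open Matrix Module Polynomial Cfsg.Agent.Lib.Helper8.InvSub Cfsg.Agent.Lib.Helper8.SingerN

section General

variable {F : Type*} [Field F] {V : Type*} [AddCommGroup V] [Module F V]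

theorem hasDecompOn_of_smul (A : Module.End F V) (d : F) (hd : d ≠ 0) (a t : ℕ)
    (W : Submodule F V) (H : HasDecompOn (d • A) a t W) : HasDecompOn A a t W := by
  obtain ⟨D, hD, hsup, σ, hσ⟩ := H
  refine ⟨D, hD, hsup, σ, ?_⟩
  intro j
  rw [← hσ j, Submodule.map_smul _ _ d hd]

end General

section FF

variable {F : Type*} [Field F] [Fintype F] {V : Type*} [AddCommGroup V] [Module F V]
  [FiniteDimensional F V]

/-- decomposition into lines when `q` has order `r - 1` modulo `r` and `n ≤ (n % (r-1)) * r` -/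
theorem hasDecomp_lines (p : ℕ) [Fact p.Prime] [CharP F p] {q r : ℕ}
    (hq : Fintype.card F = q) (hr : r.Prime) (hrp : r ≠ p) (A : Module.End F V)
    (hA : A ^ r = 1) (hord : orderOf (q : ZMod r) = r - 1) (hc : 1 < r - 1) (n : ℕ)
    (hV : finrank F V = n) (hn : n ≤ (n % (r - 1)) * r) : HasDecompOn A 1 n ⊤ := by
  have hr0 : (r : F) ≠ 0 := natCast_ne_zero_of' p hr hrp
  have hirr := irreducible_geomPoly p hq hr hrp hord
  have hss := isSemisimple_of_pow_eq_one A r hr0 hA
  have hΦ0 := geomPoly_ne_zero (F := F) r hr0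
  have hall : AllDeg (geomPoly F r) (r - 1) := by
    have := allDeg_of_irreducible _ hirr
    rwa [natDegree_geomPoly r hr.one_le] at this
  have hn0 := finrank_fixed_add A r hr0 hA
  have hDinv : LinearMap.ker (aeval A (geomPoly F r)) ∈ A.invtSubmodule :=
    ker_aeval_mem_invt A _
  obtain ⟨j, hj⟩ := dvd_finrank A hss (geomPoly F r) hΦ0 (r - 1) hall _
    (LinearMap.ker (aeval A (geomPoly F r))) rfl hDinv le_rfl
  apply hasDecomp_lines_aux A r hr.two_le hr0 hA hirr n ⊤ (fun v _ => Submodule.mem_top)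
    (by rw [finrank_top, hV])
  rw [top_inf_eq, top_inf_eq, hj]
  apply Nat.mul_le_mul_left
  -- arithmetic
  rw [hV, hj] at hn0
  set c := r - 1 with hcdef
  have hcpos : 0 < c := by omega
  have hrc : r = c + 1 := by omega
  have h1 : c * (n / c) + n % c = n := Nat.div_add_mod n c
  have h2 : c * (n / c) ≤ c * (n % c) := by
    rw [hrc, Nat.mul_add, mul_one, mul_comm (n % c) c] at hn
    omega
  have h3 : n / c ≤ n % c := Nat.le_of_mul_le_mul_left h2 hcpos
  have h4 : j ≤ n / c := by
    rw [Nat.le_div_iff_mul_le hcpos, mul_comm]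
    omega
  have h5 : c * j ≤ c * (n / c) := Nat.mul_le_mul_left c h4
  omega

end FF

section Main

variable {F : Type*} [Field F] [Fintype F]

/-- the existence direction -/
theorem exists_decomp_of_cond (p : ℕ) [Fact p.Prime] [CharP F p] {q : ℕ}
    (hq : Fintype.card F = q) (n a t : ℕ) (hat : n = a * t) (ha : 1 ≤ a) (ht : 2 ≤ t)
    (r : ℕ) (hr : r.Prime) (hrp : r ≠ p)
    (hcond : (a = 1 ∧ 1 < orderOf (q : ZMod r) ∧ orderOf (q : ZMod r) = r - 1 ∧
        n ≤ (n % orderOf (q : ZMod r)) * r) ∨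
      (orderOf (q : ZMod r) ≤ a ∧ n % orderOf (q : ZMod r) = t * (a % orderOf (q : ZMod r))))
    (x : Matrix.SpecialLinearGroup (Fin n) F) (z : F)
    (hx : ((x ^ r : Matrix.SpecialLinearGroup (Fin n) F) : Matrix (Fin n) (Fin n) F) =
      z • (1 : Matrix (Fin n) (Fin n) F)) :
    ∃ D : Fin t → Submodule F (Fin n → F), Cfsg.Geo.IsMDecomposition a D ∧
      ∃ σ : Equiv.Perm (Fin t), ∀ j,
        (D j).map (Matrix.toLin' (x : Matrix (Fin n) (Fin n) F)) = D (σ j) := by
  classical
  have hq2 : 2 ≤ q := by rw [← hq]; exact Fintype.one_lt_card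
  have hn1 : 1 ≤ n := by
    rw [hat]
    exact Nat.mul_pos ha (by omega)
  set M := (x : Matrix (Fin n) (Fin n) F) with hM
  have hMr : M ^ r = z • (1 : Matrix (Fin n) (Fin n) F) := by
    rw [← hx, Matrix.SpecialLinearGroup.coe_pow]
  have hXr := toLin'_pow_eq_smul M z hMr
  have hfr : finrank F (Fin n → F) = n := Module.finrank_fin_fun F
  have hr0 : (r : F) ≠ 0 := natCast_ne_zero_of' p hr hrp
  have hz0 : z ≠ 0 := by
    intro h0
    have h1 := congrArg Matrix.det hMr
    haveI : Nonempty (Fin n) := ⟨⟨0, by omega⟩⟩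
    rw [Matrix.det_pow, x.2, one_pow, h0, zero_smul, Matrix.det_zero] at h1
    exact one_ne_zero h1
  apply isMDecomposition_of_hasDecompOn (Matrix.toLin' M) a t (by omega) ht hat
  by_cases hroot : ∃ d : F, d ^ r = z
  · obtain ⟨d, hd⟩ := hroot
    have hd0 : d ≠ 0 := by
      intro h0
      rw [h0, zero_pow hr.ne_zero] at hd
      exact hz0 hd.symm
    rw [← hd] at hXr
    rcases hcond with ⟨ha1, hc1, hcr, hnk⟩ | ⟨_, hk⟩
    · have hA' : (d⁻¹ • Matrix.toLin' M) ^ r = 1 := by
        rw [_root_.smul_pow, hXr, smul_smul, ← mul_pow, inv_mul_cancel₀ hd0, one_pow, one_smul]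
      have h1 := hasDecomp_lines p hq hr hrp (d⁻¹ • Matrix.toLin' M) hA' hcr (by omega) n hfr
        (by rw [← hcr]; exact hnk)
      have h2 := hasDecompOn_of_smul _ d⁻¹ (inv_ne_zero hd0) 1 n ⊤ h1
      subst ha1
      exact hasDecompOn_congr _ 1 (by rw [hat, one_mul]) rfl h2
    · exact hasDecomp_of_pow_eq_pow p hq hr hrp _ d hd0 hXr a t (by rw [hfr, hat])
        (by rw [← hat]; exact hk)
  · push Not at hroot
    have hdvd : r ∣ q - 1 := by
      by_contra hnq
      obtain ⟨d, hd⟩ := exists_root hq hr hnq z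
      exact hroot d hd
    have hi1 : orderOf (q : ZMod r) = 1 := orderOf_eq_one_of_dvd (by omega) hdvd
    have hrn : r ∣ n := by
      have := dvd_finrank_of_not_pow hr hr0 (Matrix.toLin' M) z hroot hXr ⊤
        (fun v _ => Submodule.mem_top)
      rwa [finrank_top, hfr] at this
    rw [hat] at hrn
    rcases hcond with ⟨_, hc1, _, _⟩ | _
    · omega
    · rcases (Nat.Prime.dvd_mul hr).1 hrn with h | h
      · exact hasDecomp_of_not_pow_dvd hr hr0 _ z hroot hXr a t (by rw [hfr, hat]) h
      · exact hasDecomp_of_not_pow_cycles hr hr0 _ z hroot hXr a t (by rw [hfr, hat]) h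

end Main

end Cfsg.Agent.Lib.Helper8.DecSt
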