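import Mathlib

/-!
# The rank sequence of an endomorphism on an invariant subspace (helper8)

For `N : V →ₗ V` and an `N`-invariant subspace `M`, `eS N M s = dim N^s M`.  The sequence is
convex, additive over invariant complements, and from it one builds the multiset of "Jordan block
sizes" of `N` on `M` (when `N` is nilpotent on `M`).
-/

set_option autoImplicit false
set_option linter.unusedSectionVars false

namespace Cfsg.Agent.Lib.Helper8.NilSeq

open Module

variable {F V : Type*} [Field F] [AddCommGroup V] [Module F V] [FiniteDimensional F V]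

theorem finrank_eq_map_add_inf_ker (A : Submodule F V) (f : V →ₗ[F] V) :
    finrank F A = finrank F (A.map f) + finrank F ↥(A ⊓ LinearMap.ker f) := by
  have h1 := LinearMap.finrank_range_add_finrank_ker (f.domRestrict A)
  rw [LinearMap.range_domRestrict, LinearMap.ker_domRestrict] at h1
  have h2 : finrank F ↥(Submodule.comap A.subtype (LinearMap.ker f)) =
      finrank F ↥(A ⊓ LinearMap.ker f) := by
    rw [← Submodule.finrank_map_subtype_eq A, Submodule.map_comap_subtype]
  rw [h2] at h1
  exact h1.symm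

/-- `dim N^s M` -/
noncomputable def eS (N : V →ₗ[F] V) (M : Submodule F V) (s : ℕ) : ℕ :=
  finrank F (M.map (N ^ s))

variable (N : V →ₗ[F] V) (M : Submodule F V)

theorem eS_zero : eS N M 0 = finrank F M := by
  unfold eS
  rw [pow_zero, Module.End.one_eq_id, Submodule.map_id]

theorem map_pow_succ (s : ℕ) : M.map (N ^ (s + 1)) = (M.map (N ^ s)).map N := by
  rw [pow_succ', Module.End.mul_eq_comp, Submodule.map_comp]

theorem map_pow_succ' (s : ℕ) : M.map (N ^ (s + 1)) = (M.map N).map (N ^ s) := by
  rw [pow_succ, Module.End.mul_eq_comp, Submodule.map_comp]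

variable {N M}

theorem map_pow_le (hM : M.map N ≤ M) (s : ℕ) : M.map (N ^ s) ≤ M := by
  induction s with
  | zero => rw [pow_zero, Module.End.one_eq_id, Submodule.map_id]
  | succ s ih =>
    rw [map_pow_succ]
    exact (Submodule.map_mono ih).trans hM

theorem map_pow_anti (hM : M.map N ≤ M) (s : ℕ) : M.map (N ^ (s + 1)) ≤ M.map (N ^ s) := by
  rw [map_pow_succ']
  exact Submodule.map_mono hM

variable (N M)

theorem eS_eq (s : ℕ) :
    eS N M s = eS N M (s + 1) + finrank F ↥(M.map (N ^ s) ⊓ LinearMap.ker N) := by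
  unfold eS
  rw [map_pow_succ]
  exact finrank_eq_map_add_inf_ker _ _

variable {N M}

/-- convexity of the rank sequence -/
theorem eS_convex (hM : M.map N ≤ M) (s : ℕ) :
    2 * eS N M (s + 1) ≤ eS N M s + eS N M (s + 2) := by
  have h1 := eS_eq N M s
  have h2 := eS_eq N M (s + 1)
  rw [show s + 1 + 1 = s + 2 from rfl] at h2
  have h3 : finrank F ↥(M.map (N ^ (s + 1)) ⊓ LinearMap.ker N) ≤
      finrank F ↥(M.map (N ^ s) ⊓ LinearMap.ker N) :=
    Submodule.finrank_mono (inf_le_inf_right _ (map_pow_anti hM s))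
  omega

theorem eS_anti (N : V →ₗ[F] V) (M : Submodule F V) (s : ℕ) : eS N M (s + 1) ≤ eS N M s := by
  have h1 := eS_eq N M s
  omega

/-- additivity over invariant complements -/
theorem eS_add {M M' : Submodule F V} (hM : M.map N ≤ M) (hM' : M'.map N ≤ M')
    (hc : IsCompl M M') (s : ℕ) :
    finrank F (LinearMap.range (N ^ s)) = eS N M s + eS N M' s := by
  unfold eS
  have h1 : LinearMap.range (N ^ s) = M.map (N ^ s) ⊔ M'.map (N ^ s) := by
    rw [← Submodule.map_sup, hc.sup_eq_top, Submodule.map_top]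
  have h2 : M.map (N ^ s) ⊓ M'.map (N ^ s) = ⊥ := by
    apply le_bot_iff.1
    calc M.map (N ^ s) ⊓ M'.map (N ^ s) ≤ M ⊓ M' := inf_le_inf (map_pow_le hM s) (map_pow_le hM' s)
      _ = ⊥ := hc.inf_eq_bot
  have h3 := Submodule.finrank_sup_add_finrank_inf_eq (M.map (N ^ s)) (M'.map (N ^ s))
  rw [h2, finrank_bot, add_zero, ← h1] at h3
  exact h3

/-- a lower bound from injectivity on a subspace -/
theorem le_finrank_range_of_inj (f : V →ₗ[F] V) (A : Submodule F V)
    (h : ∀ v ∈ A, f v = 0 → v = 0) : finrank F A ≤ finrank F (LinearMap.range f) := by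
  have h1 := finrank_eq_map_add_inf_ker A f
  have h2 : A ⊓ LinearMap.ker f = ⊥ := by
    apply le_bot_iff.1
    intro v hv
    rw [Submodule.mem_inf, LinearMap.mem_ker] at hv
    rw [Submodule.mem_bot]
    exact h v hv.1 hv.2
  rw [h2, finrank_bot, add_zero] at h1
  rw [h1]
  apply Submodule.finrank_mono
  rintro _ ⟨v, -, rfl⟩
  exact ⟨v, rfl⟩

end Cfsg.Agent.Lib.Helper8.NilSeq
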