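import Mathlib
import Cfsg.Agent.Lib.Helper8.DecStA
import Cfsg.Agent.Lib.Helper8.NilSeqA

/-!
# An endomorphism of prime order permuting an independent family of subspaces (helper8)
-/

set_option autoImplicit false
set_option linter.unusedSectionVars false
set_option linter.style.haveILetI false

namespace Cfsg.Agent.Lib.Helper8.DecSt

open Module

section Perm

variable {F : Type*} [Field F] {V : Type*} [AddCommGroup V] [Module F V] {ι : Type*}

theorem map_pow_eq (A : Module.End F V) (D : ι → Submodule F V) (σ : Equiv.Perm ι)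
    (hσ : ∀ j, (D j).map A = D (σ j)) (s : ℕ) (j : ι) :
    (D j).map (A ^ s) = D ((σ ^ s) j) := by
  induction s generalizing j with
  | zero =>
    rw [pow_zero, pow_zero]
    exact Submodule.map_id _
  | succ s ih =>
    have h1 : (D j).map (A ^ (s + 1)) = ((D j).map A).map (A ^ s) := by
      rw [← Submodule.map_comp, pow_succ]
      rfl
    rw [h1, hσ, ih, pow_succ, Equiv.Perm.mul_apply]

theorem perm_pow_eq_one (A : Module.End F V) (D : ι → Submodule F V) (σ : Equiv.Perm ι)
    (hσ : ∀ j, (D j).map A = D (σ j)) (r : ℕ) (hA : A ^ r = 1) (hD : Function.Injective D) :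
    σ ^ r = 1 := by
  ext j
  apply hD
  rw [← map_pow_eq A D σ hσ r j, hA]
  exact Submodule.map_id _

theorem pow_apply_ne (σ : Equiv.Perm ι) (r : ℕ) (hr : r.Prime) (hσr : σ ^ r = 1) (j : ι)
    (hj : σ j ≠ j) (m : ℕ) (hm0 : 0 < m) (hmr : m < r) : (σ ^ m) j ≠ j := by
  intro h
  have h1 : Function.IsPeriodicPt σ m j := by
    unfold Function.IsPeriodicPt Function.IsFixedPt
    rw [Equiv.Perm.iterate_eq_pow]
    exact h
  have h2 : Function.IsPeriodicPt σ r j := by
    unfold Function.IsPeriodicPt Function.IsFixedPt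
    rw [Equiv.Perm.iterate_eq_pow, hσr]
    rfl
  have h3 := h1.gcd h2
  have h4 : m.gcd r = 1 := by
    rw [Nat.gcd_comm]
    exact (Nat.Prime.coprime_iff_not_dvd hr).2 (Nat.not_dvd_of_pos_of_lt hm0 hmr)
  rw [h4] at h3
  exact hj h3

theorem pow_apply_inj (σ : Equiv.Perm ι) (r : ℕ) (hr : r.Prime) (hσr : σ ^ r = 1) (j : ι)
    (hj : σ j ≠ j) (s s' : ℕ) (hs : s < r) (hs' : s' < r) (h : (σ ^ s) j = (σ ^ s') j) :
    s = s' := by
  by_contra hne
  rcases Nat.lt_or_gt_of_ne hne with hlt | hlt
  · apply pow_apply_ne σ r hr hσr j hj (s' - s) (by omega) (by omega)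
    have : σ ^ s' = σ ^ s * σ ^ (s' - s) := by rw [← pow_add]; congr 1; omega
    rw [this, Equiv.Perm.mul_apply] at h
    exact ((σ ^ s).injective h).symm
  · apply pow_apply_ne σ r hr hσr j hj (s - s') (by omega) (by omega)
    have : σ ^ s = σ ^ s' * σ ^ (s - s') := by rw [← pow_add]; congr 1; omega
    rw [this, Equiv.Perm.mul_apply] at h
    exact (σ ^ s').injective h

end Perm

end Cfsg.Agent.Lib.Helper8.DecSt
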