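import Mathlib
import Cfsg.Agent.Lib.Helper8.DecStI

/-!
# Fixed vectors of an endomorphism of prime order permuting independent subspaces (helper8)
-/

set_option autoImplicit false
set_option linter.unusedSectionVars false
set_option linter.style.haveILetI false

namespace Cfsg.Agent.Lib.Helper8.DecSt

open Module Cfsg.Agent.Lib.Helper8.NilSeq

section Fix

variable {F : Type*} [Field F] {V : Type*} [AddCommGroup V] [Module F V] {ι : Type*}

theorem pow_apply_mem (A : Module.End F V) (D : ι → Submodule F V) (σ : Equiv.Perm ι)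
    (hσ : ∀ j, (D j).map A = D (σ j)) (s : ℕ) (j : ι) {d : V} (hd : d ∈ D j) :
    (A ^ s) d ∈ D ((σ ^ s) j) := by
  rw [← map_pow_eq A D σ hσ s j]
  exact Submodule.mem_map_of_mem hd

theorem range_geom_le (A : Module.End F V) (r : ℕ) (hA : A ^ r = 1) :
    LinearMap.range (∑ s ∈ Finset.range r, A ^ s) ≤ LinearMap.ker (A - 1) := by
  rintro _ ⟨v, rfl⟩
  rw [LinearMap.mem_ker, ← Module.End.mul_apply, mul_geom_sum, hA, sub_self]
  rfl

/-- the trace map is injective on a moved summand -/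
theorem geom_apply_eq_zero (A : Module.End F V) (D : ι → Submodule F V) (σ : Equiv.Perm ι)
    (hσ : ∀ j, (D j).map A = D (σ j)) (hind : iSupIndep D) (r : ℕ) (hr : r.Prime)
    (hσr : σ ^ r = 1) (j : ι) (hj : σ j ≠ j) (d : V) (hd : d ∈ D j)
    (h0 : (∑ s ∈ Finset.range r, A ^ s) d = 0) : d = 0 := by
  obtain ⟨r', rfl⟩ : ∃ r', r = r' + 1 := ⟨r - 1, by have := hr.pos; omega⟩
  rw [Finset.sum_range_succ', pow_zero, LinearMap.add_apply, Module.End.one_apply,
    LinearMap.sum_apply] at h0
  have h1 : (∑ s ∈ Finset.range r', (A ^ (s + 1)) d) ∈ ⨆ (i) (_ : i ≠ j), D i := by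
    apply Submodule.sum_mem
    intro s hs
    have hs' : s + 1 < r' + 1 := by have := Finset.mem_range.1 hs; omega
    have hne := pow_apply_ne σ (r' + 1) hr hσr j hj (s + 1) (by omega) hs'
    exact Submodule.mem_iSup_of_mem _ (Submodule.mem_iSup_of_mem hne
      (pow_apply_mem A D σ hσ (s + 1) j hd))
  have h2 : d ∈ D j ⊓ ⨆ (i) (_ : i ≠ j), D i := by
    refine Submodule.mem_inf.2 ⟨hd, ?_⟩
    rw [eq_neg_of_add_eq_zero_right h0]
    exact Submodule.neg_mem _ h1
  rw [(hind j).eq_bot, Submodule.mem_bot] at h2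
  exact h2

variable [FiniteDimensional F V]

/-- a moved summand embeds into the fixed space of any invariant subspace containing its orbit -/
theorem finrank_le_fix_inf (A : Module.End F V) (D : ι → Submodule F V) (σ : Equiv.Perm ι)
    (hσ : ∀ j, (D j).map A = D (σ j)) (hind : iSupIndep D) (r : ℕ) (hr : r.Prime)
    (hA : A ^ r = 1) (hσr : σ ^ r = 1) (j : ι) (hj : σ j ≠ j) (W : Submodule F V)
    (hW : ∀ s, D ((σ ^ s) j) ≤ W) :
    finrank F (D j) ≤ finrank F ↥(LinearMap.ker (A - 1) ⊓ W) := by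
  set T := ∑ s ∈ Finset.range r, A ^ s with hT
  have h1 := finrank_eq_map_add_inf_ker (D j) T
  have h2 : D j ⊓ LinearMap.ker T = ⊥ := by
    apply le_bot_iff.1
    intro v hv
    rw [Submodule.mem_inf, LinearMap.mem_ker] at hv
    rw [Submodule.mem_bot]
    exact geom_apply_eq_zero A D σ hσ hind r hr hσr j hj v hv.1 hv.2
  rw [h2, finrank_bot, add_zero] at h1
  rw [h1]
  apply Submodule.finrank_mono
  rintro _ ⟨d, hd, rfl⟩
  refine Submodule.mem_inf.2 ⟨range_geom_le A r hA ⟨d, rfl⟩, ?_⟩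
  rw [hT, LinearMap.sum_apply]
  apply Submodule.sum_mem
  intro s _
  exact hW s (pow_apply_mem A D σ hσ s j hd)

theorem finrank_le_fix (A : Module.End F V) (D : ι → Submodule F V) (σ : Equiv.Perm ι)
    (hσ : ∀ j, (D j).map A = D (σ j)) (hind : iSupIndep D) (r : ℕ) (hr : r.Prime)
    (hA : A ^ r = 1) (hσr : σ ^ r = 1) (j : ι) (hj : σ j ≠ j) :
    finrank F (D j) ≤ finrank F (LinearMap.ker (A - 1)) := by
  have := finrank_le_fix_inf A D σ hσ hind r hr hA hσr j hj ⊤ (fun _ => le_top)
  rwa [inf_top_eq] at this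

/-- the fixed parts of the summands are independent -/
theorem sum_finrank_fix_le [Fintype ι] (A : Module.End F V) (D : ι → Submodule F V)
    (hind : iSupIndep D) :
    ∑ j, finrank F ↥(LinearMap.ker (A - 1) ⊓ D j) ≤ finrank F (LinearMap.ker (A - 1)) := by
  have h1 : iSupIndep (fun j => LinearMap.ker (A - 1) ⊓ D j) :=
    hind.mono (fun j => inf_le_right)
  rw [← finrank_iSup_of_indep _ h1]
  apply Submodule.finrank_mono
  exact iSup_le fun j => inf_le_left

end Fix

end Cfsg.Agent.Lib.Helper8.DecSt
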