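import Mathlib
import Cfsg.Agent.Lib.Helper8.DecStJ

/-!
# Rank of `A - 1` on a cycle of summands, and counting orbits against fixed vectors (helper8)
-/

set_option autoImplicit false
set_option linter.unusedSectionVars false
set_option linter.style.haveILetI false

namespace Cfsg.Agent.Lib.Helper8.DecSt

open Module Cfsg.Agent.Lib.Helper8.NilSeq

section Cyc

variable {F : Type*} [Field F] {V : Type*} [AddCommGroup V] [Module F V] {ι : Type*}

/-- partial sums along an orbit -/
def orbSup (D : ι → Submodule F V) (σ : Equiv.Perm ι) (j : ι) (m : ℕ) : Submodule F V :=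
  ⨆ s ∈ Finset.range m, D ((σ ^ s) j)

theorem orbSup_succ (D : ι → Submodule F V) (σ : Equiv.Perm ι) (j : ι) (m : ℕ) :
    orbSup D σ j (m + 1) = D ((σ ^ m) j) ⊔ orbSup D σ j m := by
  unfold orbSup
  rw [Finset.range_add_one, Finset.iSup_insert]

theorem orbSup_zero (D : ι → Submodule F V) (σ : Equiv.Perm ι) (j : ι) :
    orbSup D σ j 0 = ⊥ := by
  unfold orbSup
  simp

theorem disjoint_orbSup (D : ι → Submodule F V) (σ : Equiv.Perm ι) (hind : iSupIndep D)
    (r : ℕ) (hr : r.Prime) (hσr : σ ^ r = 1) (j : ι) (hj : σ j ≠ j) (m : ℕ) (hm : m < r) :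
    Disjoint (D ((σ ^ m) j)) (orbSup D σ j m) := by
  have hx : (σ ^ m) j ∉ {i | ∃ s, s < m ∧ (σ ^ s) j = i} := by
    rintro ⟨s, hs, hsm⟩
    have := pow_apply_inj σ r hr hσr j hj s m (by omega) hm hsm
    omega
  refine Disjoint.mono_right ?_ (hind.disjoint_biSup hx)
  unfold orbSup
  apply iSup₂_le
  intro s hs
  exact le_iSup₂_of_le ((σ ^ s) j) ⟨s, Finset.mem_range.1 hs, rfl⟩ le_rfl

theorem map_orbSup_le (A : Module.End F V) (D : ι → Submodule F V) (σ : Equiv.Perm ι)
    (hσ : ∀ j, (D j).map A = D (σ j)) (j : ι) (m : ℕ) :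
    (orbSup D σ j m).map A ≤ orbSup D σ j (m + 1) := by
  unfold orbSup
  rw [Submodule.map_iSup]
  apply iSup_le
  intro s
  rw [Submodule.map_iSup]
  apply iSup_le
  intro hs
  rw [hσ, ← Equiv.Perm.mul_apply, ← pow_succ']
  exact le_iSup₂_of_le (s + 1) (Finset.mem_range.2 (by have := Finset.mem_range.1 hs; omega)) le_rfl

variable [FiniteDimensional F V]

theorem finrank_orbSup (D : ι → Submodule F V) (σ : Equiv.Perm ι) (hind : iSupIndep D)
    (r : ℕ) (hr : r.Prime) (hσr : σ ^ r = 1) (j : ι) (hj : σ j ≠ j) (a : ℕ)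
    (ha : ∀ i, finrank F (D i) = a) (m : ℕ) (hm : m ≤ r) :
    finrank F (orbSup D σ j m) = m * a := by
  induction m with
  | zero => rw [orbSup_zero, finrank_bot, zero_mul]
  | succ m ih =>
    rw [orbSup_succ]
    have h1 := Submodule.finrank_sup_add_finrank_inf_eq (D ((σ ^ m) j)) (orbSup D σ j m)
    rw [(disjoint_orbSup D σ hind r hr hσr j hj m (by omega)).eq_bot, finrank_bot, add_zero,
      ih (by omega), ha] at h1
    rw [h1, Nat.succ_mul, add_comm]

theorem fix_inf_orbSup (A : Module.End F V) (hinj : Function.Injective A)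
    (D : ι → Submodule F V) (σ : Equiv.Perm ι)
    (hσ : ∀ j, (D j).map A = D (σ j)) (hind : iSupIndep D) (r : ℕ) (hr : r.Prime)
    (hσr : σ ^ r = 1) (j : ι) (hj : σ j ≠ j) (m : ℕ) (hm : m + 1 ≤ r) :
    LinearMap.ker (A - 1) ⊓ orbSup D σ j m = ⊥ := by
  induction m with
  | zero => rw [orbSup_zero, inf_bot_eq]
  | succ m ih =>
    apply le_bot_iff.1
    intro v hv
    obtain ⟨hvk, hvM⟩ := Submodule.mem_inf.1 hv
    have hAv : A v = v := by
      have := LinearMap.mem_ker.1 hvk
      rw [LinearMap.sub_apply, Module.End.one_apply, sub_eq_zero] at this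
      exact this
    have hvM' := hvM
    rw [orbSup_succ] at hvM'
    obtain ⟨d, hd, v', hv', rfl⟩ := Submodule.mem_sup.1 hvM'
    have h1 : A d ∈ D ((σ ^ (m + 1)) j) := by
      have := pow_apply_mem A D σ hσ 1 ((σ ^ m) j) hd
      rwa [pow_one, pow_one, ← Equiv.Perm.mul_apply, ← pow_succ'] at this
    have h2 : A v' ∈ orbSup D σ j (m + 1) :=
      map_orbSup_le A D σ hσ j m (Submodule.mem_map_of_mem hv')
    have h3 : A d ∈ orbSup D σ j (m + 1) := by
      have h4 : A d = (d + v') - A v' := by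
        rw [← hAv, map_add]
        abel
      rw [h4]
      exact Submodule.sub_mem _ hvM h2
    have h5 : A d ∈ D ((σ ^ (m + 1)) j) ⊓ orbSup D σ j (m + 1) := Submodule.mem_inf.2 ⟨h1, h3⟩
    rw [(disjoint_orbSup D σ hind r hr hσr j hj (m + 1) (by omega)).eq_bot,
      Submodule.mem_bot] at h5
    have hd0 : d = 0 := hinj (by rw [h5, map_zero])
    rw [hd0, zero_add] at hvk ⊢
    have h6 : v' ∈ LinearMap.ker (A - 1) ⊓ orbSup D σ j m := Submodule.mem_inf.2 ⟨hvk, hv'⟩
    rw [ih (by omega)] at h6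
    exact h6

/-- a moved summand forces `A - 1` to have large rank -/
theorem le_finrank_range_sub_one (A : Module.End F V) (hinj : Function.Injective A)
    (D : ι → Submodule F V) (σ : Equiv.Perm ι)
    (hσ : ∀ j, (D j).map A = D (σ j)) (hind : iSupIndep D) (r : ℕ) (hr : r.Prime)
    (hσr : σ ^ r = 1) (j : ι) (hj : σ j ≠ j) (a : ℕ) (ha : ∀ i, finrank F (D i) = a) :
    (r - 1) * a ≤ finrank F (LinearMap.range (A - 1)) := by
  rw [← finrank_orbSup D σ hind r hr hσr j hj a ha (r - 1) (by omega)]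
  apply le_finrank_range_of_inj
  intro v hv h0
  have h1 : v ∈ LinearMap.ker (A - 1) ⊓ orbSup D σ j (r - 1) :=
    Submodule.mem_inf.2 ⟨LinearMap.mem_ker.2 h0, hv⟩
  rw [fix_inf_orbSup A hinj D σ hσ hind r hr hσr j hj (r - 1)
    (by have := hr.pos; omega)] at h1
  exact h1

end Cyc

end Cfsg.Agent.Lib.Helper8.DecSt
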