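import Mathlib
import Cfsg.Agent.Lib.Helper8.DecStK

/-!
# Counting the summands against the fixed space, orbit by orbit (helper8)
-/

set_option autoImplicit false
set_option linter.unusedSectionVars false
set_option linter.style.haveILetI false

namespace Cfsg.Agent.Lib.Helper8.DecSt

open Module Cfsg.Agent.Lib.Helper8.NilSeq

section Orbits

variable {F : Type*} [Field F] {V : Type*} [AddCommGroup V] [Module F V] {ι : Type*}

theorem pow_mod_apply (σ : Equiv.Perm ι) (r : ℕ) (hσr : σ ^ r = 1) (s : ℕ) (j : ι) :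
    (σ ^ s) j = (σ ^ (s % r)) j := by
  conv_lhs => rw [← Nat.mod_add_div s r]
  rw [pow_add, pow_mul, hσr, one_pow, mul_one]

variable [FiniteDimensional F V] [DecidableEq ι]

/-- `a * |S| ≤ r * dim (fix ∩ ⨆_{i ∈ S} D i)` for `σ`-invariant sets `S` of indices -/
theorem card_mul_le (A : Module.End F V) (D : ι → Submodule F V) (σ : Equiv.Perm ι)
    (hσ : ∀ j, (D j).map A = D (σ j)) (hind : iSupIndep D) (r : ℕ) (hr : r.Prime)
    (hA : A ^ r = 1) (hσr : σ ^ r = 1) (a : ℕ) (ha : ∀ i, finrank F (D i) = a)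
    (hfix : ∀ j, σ j = j → D j ≤ LinearMap.ker (A - 1)) :
    ∀ (k : ℕ) (S : Finset ι), S.card = k → (∀ i ∈ S, σ i ∈ S) →
      a * S.card ≤ r * finrank F ↥(LinearMap.ker (A - 1) ⊓ ⨆ i ∈ S, D i) := by
  have hrpos : 0 < r := hr.pos
  intro k
  induction k using Nat.strong_induction_on with
  | _ k ih =>
    intro S hSk hS
    rcases S.eq_empty_or_nonempty with hS0 | ⟨j, hjS⟩
    · rw [hS0, Finset.card_empty, mul_zero]
      exact Nat.zero_le _
    -- the orbit of `j`
    set O := (Finset.range r).image (fun s => (σ ^ s) j) with hO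
    have hmemO : ∀ i, i ∈ O ↔ ∃ s, s < r ∧ (σ ^ s) j = i := by
      intro i
      rw [hO, Finset.mem_image]
      constructor
      · rintro ⟨s, hs, rfl⟩
        exact ⟨s, Finset.mem_range.1 hs, rfl⟩
      · rintro ⟨s, hs, rfl⟩
        exact ⟨s, Finset.mem_range.2 hs, rfl⟩
    have hpowS : ∀ s : ℕ, (σ ^ s) j ∈ S := by
      intro s
      induction s with
      | zero => simpa using hjS
      | succ s ihs =>
        rw [pow_succ', Equiv.Perm.mul_apply]
        exact hS _ ihs
    have hOS : O ⊆ S := by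
      intro i hi
      obtain ⟨s, _, rfl⟩ := (hmemO i).1 hi
      exact hpowS s
    have hpowO : ∀ s : ℕ, (σ ^ s) j ∈ O := by
      intro s
      rw [hmemO]
      exact ⟨s % r, Nat.mod_lt _ hrpos, (pow_mod_apply σ r hσr s j).symm⟩
    have hOinv : ∀ i, σ i ∈ O → i ∈ O := by
      intro i hi
      obtain ⟨s, _, hs⟩ := (hmemO _).1 hi
      have h1 : (σ ^ (s + (r - 1))) j = i := by
        rw [add_comm, pow_add, Equiv.Perm.mul_apply, hs, ← Equiv.Perm.mul_apply, ← pow_succ,
          Nat.sub_add_cancel hrpos, hσr]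
        rfl
      rw [← h1]
      exact hpowO _
    set S' := S \ O with hS'
    have hS'inv : ∀ i ∈ S', σ i ∈ S' := by
      intro i hi
      rw [hS', Finset.mem_sdiff] at hi ⊢
      exact ⟨hS i hi.1, fun h => hi.2 (hOinv i h)⟩
    have hcard : S'.card + O.card = S.card := Finset.card_sdiff_add_card_eq_card hOS
    have hOpos : 0 < O.card := Finset.card_pos.2 ⟨j, by
      have := hpowO 0
      simpa using this⟩
    have hOr : O.card ≤ r := by
      rw [hO]
      exact le_trans Finset.card_image_le (by rw [Finset.card_range])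
    have hIH := ih S'.card (by omega) S' rfl hS'inv
    -- the fixed vectors on the orbit
    have hjO : j ∈ O := by
      have := hpowO 0
      simpa using this
    have hfO : a ≤ finrank F ↥(LinearMap.ker (A - 1) ⊓ ⨆ i ∈ O, D i) := by
      by_cases hj : σ j = j
      · rw [← ha j]
        apply Submodule.finrank_mono
        exact le_inf (hfix j hj) (le_iSup₂_of_le j hjO le_rfl)
      · rw [← ha j]
        apply finrank_le_fix_inf A D σ hσ hind r hr hA hσr j hj
        intro s
        exact le_iSup₂_of_le _ (hpowO s) le_rfl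
    -- combine
    have hdisj : Disjoint (⨆ i ∈ O, D i) (⨆ i ∈ S', D i) := by
      have h1 : Disjoint (O : Set ι) (S' : Set ι) := by
        rw [Finset.disjoint_coe, hS']
        exact Finset.disjoint_sdiff
      have := hind.disjoint_biSup_biSup' h1 O.finite_toSet
      simpa using this
    set K := LinearMap.ker (A - 1) with hK
    have h2 : (K ⊓ ⨆ i ∈ O, D i) ⊔ (K ⊓ ⨆ i ∈ S', D i) ≤ K ⊓ ⨆ i ∈ S, D i := by
      apply sup_le
      · exact inf_le_inf_left K (biSup_mono fun i hi => hOS hi)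
      · exact inf_le_inf_left K (biSup_mono fun i hi => (Finset.mem_sdiff.1 hi).1)
    have h3 : (K ⊓ ⨆ i ∈ O, D i) ⊓ (K ⊓ ⨆ i ∈ S', D i) = ⊥ := by
      apply le_bot_iff.1
      calc (K ⊓ ⨆ i ∈ O, D i) ⊓ (K ⊓ ⨆ i ∈ S', D i)
          ≤ (⨆ i ∈ O, D i) ⊓ (⨆ i ∈ S', D i) := inf_le_inf inf_le_right inf_le_right
        _ = ⊥ := hdisj.eq_bot
    have h4 := Submodule.finrank_sup_add_finrank_inf_eq (K ⊓ ⨆ i ∈ O, D i) (K ⊓ ⨆ i ∈ S', D i)
    rw [h3, finrank_bot, add_zero] at h4
    have h5 := Submodule.finrank_mono h2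
    rw [h4] at h5
    calc a * S.card = a * S'.card + a * O.card := by rw [← hcard, Nat.mul_add]
      _ ≤ r * finrank F ↥(K ⊓ ⨆ i ∈ S', D i) + a * r :=
          Nat.add_le_add hIH (Nat.mul_le_mul_left a hOr)
      _ ≤ r * finrank F ↥(K ⊓ ⨆ i ∈ S', D i) + r * finrank F ↥(K ⊓ ⨆ i ∈ O, D i) := by
          rw [mul_comm a r]
          exact Nat.add_le_add_left (Nat.mul_le_mul_left r hfO) _
      _ = r * (finrank F ↥(K ⊓ ⨆ i ∈ O, D i) + finrank F ↥(K ⊓ ⨆ i ∈ S', D i)) := by ring
      _ ≤ r * finrank F ↥(K ⊓ ⨆ i ∈ S, D i) := Nat.mul_le_mul_left r h5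

/-- the number of summands is at most `r` times the dimension of the fixed space, when the fixed
summands consist of fixed vectors -/
theorem card_mul_le_univ [Fintype ι] (A : Module.End F V) (D : ι → Submodule F V)
    (σ : Equiv.Perm ι) (hσ : ∀ j, (D j).map A = D (σ j)) (hind : iSupIndep D) (r : ℕ)
    (hr : r.Prime) (hA : A ^ r = 1) (hσr : σ ^ r = 1) (a : ℕ) (ha : ∀ i, finrank F (D i) = a)
    (hfix : ∀ j, σ j = j → D j ≤ LinearMap.ker (A - 1)) :
    a * Fintype.card ι ≤ r * finrank F (LinearMap.ker (A - 1)) := by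
  have h := card_mul_le A D σ hσ hind r hr hA hσr a ha hfix _ Finset.univ rfl
    (fun i _ => Finset.mem_univ _)
  rw [Finset.card_univ] at h
  refine le_trans h (Nat.mul_le_mul_left r (Submodule.finrank_mono inf_le_left))

end Orbits

end Cfsg.Agent.Lib.Helper8.DecSt
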