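import Mathlib

/-!
# From a convex, eventually zero rank sequence to a multiset of block sizes (helper8)
-/

set_option autoImplicit false
set_option linter.unusedSectionVars false

namespace Cfsg.Agent.Lib.Helper8.NilSeq

/-- number of blocks of size `s + 1` read off a rank sequence -/
def cnt (e : ℕ → ℕ) (s : ℕ) : ℕ := e s + e (s + 2) - 2 * e (s + 1)

/-- the multiset of block sizes `≤ P` -/
def blocks (e : ℕ → ℕ) (P : ℕ) : Multiset ℕ :=
  ∑ s ∈ Finset.range P, Multiset.replicate (cnt e s) (s + 1)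

theorem count_blocks_succ (e : ℕ → ℕ) (P s : ℕ) :
    (blocks e P).count (s + 1) = if s < P then cnt e s else 0 := by
  unfold blocks
  rw [Multiset.count_sum']
  simp only [Multiset.count_replicate, add_left_inj]
  rw [Finset.sum_ite_eq' (Finset.range P) s (fun s => cnt e s)]
  simp only [Finset.mem_range]

theorem count_blocks_zero (e : ℕ → ℕ) (P : ℕ) : (blocks e P).count 0 = 0 := by
  unfold blocks
  rw [Multiset.count_sum']
  apply Finset.sum_eq_zero
  intro s _
  rw [Multiset.count_replicate, if_neg (by omega)]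

theorem sum_blocks_int (e : ℕ → ℕ) (hconv : ∀ s, 2 * e (s + 1) ≤ e s + e (s + 2)) (P : ℕ) :
    (((blocks e P).sum : ℕ) : ℤ) = (e 0 : ℤ) - e P - P * ((e P : ℤ) - e (P + 1)) := by
  unfold blocks
  induction P with
  | zero => simp
  | succ P ih =>
    rw [Finset.sum_range_succ, Multiset.sum_add, Nat.cast_add, ih, Multiset.sum_replicate,
      smul_eq_mul, Nat.cast_mul]
    unfold cnt
    have h := hconv P
    rw [Nat.cast_sub (by omega)]
    push_cast
    ring

theorem sum_blocks (e : ℕ → ℕ) (hconv : ∀ s, 2 * e (s + 1) ≤ e s + e (s + 2)) (P : ℕ)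
    (hz : ∀ s, P ≤ s → e s = 0) : (blocks e P).sum = e 0 := by
  have h := sum_blocks_int e hconv P
  rw [hz P le_rfl, hz (P + 1) (by omega)] at h
  simp only [Nat.cast_zero, sub_zero, mul_zero] at h
  exact_mod_cast h

/-- the sub-multiset of block sizes of an invariant summand -/
theorem exists_sub (μ : Multiset ℕ) (P a : ℕ) (eM eM' : ℕ → ℕ)
    (hM : ∀ s, 2 * eM (s + 1) ≤ eM s + eM (s + 2))
    (hM' : ∀ s, 2 * eM' (s + 1) ≤ eM' s + eM' (s + 2))
    (hz : ∀ s, P ≤ s → eM s = 0) (h0 : eM 0 = a)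
    (hcount : ∀ s, s < P → μ.count (s + 1) + 2 * (eM (s + 1) + eM' (s + 1)) =
      (eM s + eM' s) + (eM (s + 2) + eM' (s + 2))) :
    ∃ ν : Multiset ℕ, ν ≤ μ ∧ ν.sum = a := by
  refine ⟨blocks eM P, ?_, ?_⟩
  · rw [Multiset.le_iff_count]
    intro j
    rcases Nat.eq_zero_or_pos j with rfl | hj
    · rw [count_blocks_zero]
      exact Nat.zero_le _
    · obtain ⟨s, rfl⟩ : ∃ s, j = s + 1 := ⟨j - 1, by omega⟩
      rw [count_blocks_succ]
      split_ifs with hs
      · have h1 := hcount s hs
        have h2 := hM s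
        have h3 := hM' s
        unfold cnt
        omega
      · exact Nat.zero_le _
  · rw [sum_blocks eM hM P hz, h0]

end Cfsg.Agent.Lib.Helper8.NilSeq
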