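import Mathlib
import Cfsg.Prelude.Def_GeometricClasses
import Cfsg.Agent.Lib.Helper8.NilSeqA
import Cfsg.Agent.Lib.Helper8.NilSeqB

/-!
# An element of order `p` permuting the summands of a decomposition: the Jordan type of a fixed
summand, and the case without fixed summands (helper8)
-/

set_option autoImplicit false
set_option linter.unusedSectionVars false

namespace Cfsg.Agent.Lib.Helper8.NilSeq

open Module Polynomial

section Poly

variable {F : Type*} [Field F] {p : ℕ} [hp : Fact p.Prime] [CharP F p]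

theorem X_sub_one_pow_pred : (X - 1 : F[X]) ^ (p - 1) = ∑ i ∈ Finset.range p, (X : F[X]) ^ i := by
  have hpp : p.Prime := hp.out
  have h1 : (X - 1 : F[X]) ≠ 0 := by
    have := Polynomial.X_sub_C_ne_zero (1 : F)
    rwa [map_one] at this
  apply mul_right_cancel₀ h1
  rw [geom_sum_mul, ← pow_succ, Nat.sub_add_cancel hpp.one_le, sub_pow_char, one_pow]

theorem sub_one_pow_pred {n : ℕ} (A : Matrix (Fin n) (Fin n) F) :
    (A - 1) ^ (p - 1) = ∑ i ∈ Finset.range p, A ^ i := by
  have h := congrArg (Polynomial.aeval A) (X_sub_one_pow_pred (F := F) (p := p))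
  simpa using h

end Poly

variable {F : Type*} [Field F] {n : ℕ}

theorem map_toLin'_pow (A : Matrix (Fin n) (Fin n) F) {t : ℕ} (D : Fin t → Submodule F (Fin n → F))
    (σ : Equiv.Perm (Fin t)) (hσ : ∀ j, (D j).map (Matrix.toLin' A) = D (σ j)) (i : ℕ) (j : Fin t) :
    (D j).map (Matrix.toLin' (A ^ i)) = D ((σ ^ i) j) := by
  induction i generalizing j with
  | zero => simp
  | succ i ih =>
    rw [pow_succ, Matrix.toLin'_mul, Submodule.map_comp, hσ, ih, pow_succ, Equiv.Perm.mul_apply]

theorem finrank_range_toLin' (A : Matrix (Fin n) (Fin n) F) :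
    finrank F (LinearMap.range (Matrix.toLin' A)) = A.rank := by
  rw [Matrix.toLin'_apply']
  rfl

variable {p : ℕ} [hp : Fact p.Prime] [CharP F p]

/-- without fixed summands, there are at least `a` Jordan blocks of size `p` -/
theorem le_rank_of_no_fixed {a t : ℕ} (A : Matrix (Fin n) (Fin n) F) (hA : A ^ p = 1)
    (D : Fin t → Submodule F (Fin n → F)) (hD : Cfsg.Geo.IsMDecomposition a D)
    (σ : Equiv.Perm (Fin t)) (hσ : ∀ j, (D j).map (Matrix.toLin' A) = D (σ j))
    (hnf : ∀ j, σ j ≠ j) : a ≤ ((A - 1) ^ (p - 1)).rank := by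
  have hpp : p.Prime := hp.out
  have hne : ∀ j, D j ≠ ⊥ := by
    intro j hj
    have := hD.finrank_eq j
    rw [hj, finrank_bot] at this
    have := hD.pos
    omega
  have hinj : Function.Injective D := hD.indep.injective hne
  have hσp : ∀ j, (σ ^ p) j = j := by
    intro j
    apply hinj
    rw [← map_toLin'_pow A D σ hσ p j, hA, Matrix.toLin'_one, Submodule.map_id]
  have hσi : ∀ i, 0 < i → i < p → ∀ j, (σ ^ i) j ≠ j := by
    intro i hi0 hip j hij
    have hcop : Nat.Coprime i p :=
      ((Nat.Prime.coprime_iff_not_dvd hpp).2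
        (fun hdvd => absurd (Nat.le_of_dvd hi0 hdvd) (by omega))).symm
    obtain ⟨m, -, hm⟩ := Nat.exists_mul_mod_eq_one_of_coprime hcop hpp.one_lt
    have h1 : (σ ^ (i * m)) j = j := by
      rw [pow_mul]
      have : ∀ k : ℕ, ((σ ^ i) ^ k) j = j := by
        intro k
        induction k with
        | zero => simp
        | succ k ih => rw [pow_succ, Equiv.Perm.mul_apply, hij, ih]
      exact this m
    have h2 : σ ^ (i * m) = σ ^ (p * (i * m / p)) * σ := by
      conv_lhs => rw [← Nat.div_add_mod (i * m) p, hm, pow_add, pow_one]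
    have h3 : ∀ k : ℕ, (σ ^ (p * k)) j = j := by
      intro k
      rw [pow_mul]
      induction k with
      | zero => simp
      | succ k ih => rw [pow_succ, Equiv.Perm.mul_apply, hσp, ih]
    rw [h2, Equiv.Perm.mul_apply] at h1
    have h4 : (σ ^ (p * (i * m / p))) (σ j) = σ j := by
      have : σ ^ (p * (i * m / p)) * σ = σ * σ ^ (p * (i * m / p)) := by
        rw [← pow_succ, ← pow_succ']
      have h5 := congrArg (fun τ : Equiv.Perm (Fin t) => τ j) this
      simp only [Equiv.Perm.mul_apply] at h5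
      rw [h5, h3]
    rw [h4] at h1
    exact hnf j h1
  have ht : 0 < t := by have := hD.two_le; omega
  set j₀ : Fin t := ⟨0, ht⟩ with hj₀
  rw [← finrank_range_toLin', ← hD.finrank_eq j₀]
  apply le_finrank_range_of_inj
  intro v hv hv0
  rw [sub_one_pow_pred, map_sum, LinearMap.sum_apply] at hv0
  have hmem : ∀ i, Matrix.toLin' (A ^ i) v ∈ D ((σ ^ i) j₀) := by
    intro i
    rw [← map_toLin'_pow A D σ hσ i j₀]
    exact Submodule.mem_map_of_mem hv
  rw [Finset.range_eq_Ico, Finset.sum_eq_sum_Ico_succ_bot hpp.pos] at hv0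
  simp only [pow_zero, Matrix.toLin'_one, LinearMap.id_apply] at hv0
  have h1 : v = -∑ i ∈ Finset.Ico (0 + 1) p, Matrix.toLin' (A ^ i) v := eq_neg_of_add_eq_zero_left hv0
  have h2 : v ∈ ⨆ (j) (_ : j ≠ j₀), D j := by
    rw [h1]
    apply Submodule.neg_mem
    apply Submodule.sum_mem
    intro i hi
    rw [Finset.mem_Ico] at hi
    have h3 : (σ ^ i) j₀ ≠ j₀ := hσi i (by omega) hi.2 j₀
    exact Submodule.mem_iSup_of_mem ((σ ^ i) j₀) (Submodule.mem_iSup_of_mem h3 (hmem i))
  have h3 := hD.indep j₀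
  rw [Submodule.disjoint_def] at h3
  exact h3 v hv h2

end Cfsg.Agent.Lib.Helper8.NilSeq
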