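import Mathlib
import Cfsg.Agent.Lib.Helper8.DecStL
import Cfsg.Agent.Lib.Helper8.InvSubI
import Cfsg.Agent.Lib.Helper8.NilSeqD

/-!
# Test elements of order `r` in `SL_n(q)` and small invariant subspaces (helper8)
-/

set_option autoImplicit false
set_option linter.unusedSectionVars false
set_option linter.style.haveILetI false

open scoped MatrixGroups

namespace Cfsg.Agent.Lib.Helper8.DecSt

open Matrix Module Polynomial Cfsg.Agent.Lib.Helper8.InvSub Cfsg.Agent.Lib.Helper8.SingerN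
  Cfsg.Agent.Lib.Helper8.NilSeq

section Embed

variable {F : Type*} [Field F]

/-- embedding a block `B` with `B - 1` invertible: the rank of `x - 1` is the size of the block -/
theorem exists_embed_eq {l n : ℕ} (hl : l ≤ n) (B : Matrix (Fin l) (Fin l) F) (m : ℕ)
    (hBm : B ^ m = 1) (hB1 : IsUnit (B - 1)) :
    ∃ x : Matrix (Fin n) (Fin n) F, x ^ m = 1 ∧ x.det = B.det ∧ (x - 1).rank = l := by
  classical
  obtain ⟨k, rfl⟩ : ∃ k, n = l + k := ⟨n - l, by omega⟩
  obtain ⟨φ, hφ⟩ : ∃ φ : Matrix (Fin l ⊕ Fin k) (Fin l ⊕ Fin k) F ≃ₐ[F]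
      Matrix (Fin (l + k)) (Fin (l + k)) F,
        ∀ M, φ M = Matrix.reindex finSumFinEquiv finSumFinEquiv M :=
    ⟨Matrix.reindexAlgEquiv F F finSumFinEquiv, fun M => by rw [Matrix.coe_reindexAlgEquiv]⟩
  set Bb : Matrix (Fin l ⊕ Fin k) (Fin l ⊕ Fin k) F := Matrix.fromBlocks B 0 0 1 with hBb
  have hB1' : Bb - 1 = Matrix.fromBlocks (B - 1) 0 0 0 := by
    rw [hBb, ← Matrix.fromBlocks_one, sub_eq_add_neg, Matrix.fromBlocks_neg, Matrix.fromBlocks_add]
    simp [sub_eq_add_neg]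
  have hfac : B - 1 = Matrix.fromCols (1 : Matrix (Fin l) (Fin l) F) (0 : Matrix (Fin l) (Fin k) F) *
      (Bb - 1) * Matrix.fromRows (1 : Matrix (Fin l) (Fin l) F) (0 : Matrix (Fin k) (Fin l) F) := by
    rw [hB1', Matrix.fromCols_mul_fromBlocks, Matrix.fromCols_mul_fromRows]
    simp
  have hfac2 : Bb - 1 = Matrix.fromRows (1 : Matrix (Fin l) (Fin l) F)
      (0 : Matrix (Fin k) (Fin l) F) *
        Matrix.fromCols (B - 1) (0 : Matrix (Fin l) (Fin k) F) := by
    rw [hB1', Matrix.fromRows_mul_fromCols]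
    simp
  refine ⟨φ Bb, ?_, ?_, ?_⟩
  · rw [← map_pow, hBb, fromBlocks_pow_one', hBm, Matrix.fromBlocks_one, map_one]
  · rw [hφ, Matrix.det_reindex_self, hBb, Matrix.det_fromBlocks_zero₂₁, Matrix.det_one, mul_one]
  · rw [← map_one φ, ← map_sub, hφ, Matrix.rank_reindex]
    have h1 : (B - 1).rank = l := by
      rw [Matrix.rank_of_isUnit _ hB1, Fintype.card_fin]
    apply le_antisymm
    · rw [hfac2]
      refine le_trans (Matrix.rank_mul_le_right _ _) ?_
      have := Matrix.rank_le_card_height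
        (Matrix.fromCols (B - 1) (0 : Matrix (Fin l) (Fin k) F))
      rwa [Fintype.card_fin] at this
    · calc l = (B - 1).rank := h1.symm
        _ ≤ (Matrix.fromCols (1 : Matrix (Fin l) (Fin l) F) (0 : Matrix (Fin l) (Fin k) F) *
              (Bb - 1)).rank := by
            rw [hfac]
            exact Matrix.rank_mul_le_left _ _
        _ ≤ (Bb - 1).rank := Matrix.rank_mul_le_right _ _

end Embed

section Test

variable {F : Type*} [Field F] [Fintype F]

/-- an element of order `r` of `SL_n(q)` with `rank (x - 1) = l` -/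
theorem exists_test {q r : ℕ} (hq : Fintype.card F = q) (hr : r.Prime) (hdvd : ¬ r ∣ q - 1)
    (l n : ℕ) (hl1 : 1 ≤ l) (hln : l ≤ n) (hrl : r ∣ Fintype.card F ^ l - 1) :
    ∃ x : Matrix.SpecialLinearGroup (Fin n) F,
      (x : Matrix (Fin n) (Fin n) F) ^ r = 1 ∧ ((x : Matrix (Fin n) (Fin n) F) - 1).rank = l := by
  obtain ⟨B, hBr, hB1⟩ := exists_free_block (F := F) l hl1 r hr hrl
  obtain ⟨x, hxr, hxdet, hxrank⟩ := exists_embed_eq hln B r hBr hB1
  have hBdet : B.det = 1 := by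
    apply eq_one_of_pow hq hr hdvd
    rw [← Matrix.det_pow, hBr, Matrix.det_one]
  rw [hBdet] at hxdet
  exact ⟨⟨x, hxdet⟩, hxr, hxrank⟩

theorem dvd_pow_sub_one_of_dvd {q r : ℕ} (hq : Fintype.card F = q) (hq1 : 1 ≤ q) (l : ℕ)
    (hl : orderOf (q : ZMod r) ∣ l) : r ∣ Fintype.card F ^ l - 1 := by
  rw [hq]
  obtain ⟨m, rfl⟩ := hl
  have h1 : (q : ZMod r) ^ (orderOf (q : ZMod r) * m) = 1 := by
    rw [pow_mul, pow_orderOf_eq_one, one_pow]
  have h2 : q ^ (orderOf (q : ZMod r) * m) ≡ 1 [MOD r] := by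
    apply (ZMod.natCast_eq_natCast_iff _ _ _).1
    rw [Nat.cast_pow, h1, Nat.cast_one]
  exact (Nat.modEq_iff_dvd' (Nat.one_le_pow _ _ (by omega))).1 h2.symm

end Test

section Small

variable {F : Type*} [Field F] {V : Type*} [AddCommGroup V] [Module F V] [FiniteDimensional F V]

theorem aeval_X_sub_one (A : Module.End F V) : aeval A (X - C (1 : F)) = A - 1 := by
  rw [map_sub, aeval_X, aeval_C, map_one]

/-- the fixed part of an invariant subspace has dimension at least `dim W % c` -/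
theorem mod_le_finrank_fix_inf (A : Module.End F V) (r : ℕ) (hr0 : (r : F) ≠ 0)
    (hA : A ^ r = 1) (c : ℕ) (hc : AllDeg (geomPoly F r) c) (W : Submodule F V)
    (hW : W ∈ A.invtSubmodule) :
    finrank F W % c ≤ finrank F ↥(LinearMap.ker (A - 1) ⊓ W) := by
  obtain ⟨a', ha'⟩ := finrank_invt_of_pow_eq_one A r hr0 hA c hc W hW
  rw [aeval_X_sub_one, inf_comm] at ha'
  rw [ha', Nat.add_mul_mod_self_left]
  exact Nat.mod_le _ _

/-- an invariant subspace of dimension less than `c` consists of fixed vectors -/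
theorem le_fix_of_finrank_lt (A : Module.End F V) (r : ℕ) (hr0 : (r : F) ≠ 0)
    (hA : A ^ r = 1) (c : ℕ) (hc : AllDeg (geomPoly F r) c) (W : Submodule F V)
    (hW : W ∈ A.invtSubmodule) (hlt : finrank F W < c) : W ≤ LinearMap.ker (A - 1) := by
  have h1 := mod_le_finrank_fix_inf A r hr0 hA c hc W hW
  rw [Nat.mod_eq_of_lt hlt] at h1
  have h2 : LinearMap.ker (A - 1) ⊓ W = W :=
    Submodule.eq_of_le_of_finrank_le inf_le_right h1
  rw [← h2]
  exact inf_le_left

end Small

end Cfsg.Agent.Lib.Helper8.DecSt
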