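import Mathlib
import Cfsg.Agent.Lib.Helper8.DecStM
import Cfsg.Agent.Lib.Helper8.DecStD

/-!
# Elements of odd prime order `r ≠ p` of `SL_n(q)` stabilizing a decomposition: necessity (helper8)
-/

set_option autoImplicit false
set_option linter.unusedSectionVars false
set_option linter.style.haveILetI false

open scoped MatrixGroups

namespace Cfsg.Agent.Lib.Helper8.DecSt

open Matrix Module Polynomial Cfsg.Agent.Lib.Helper8.InvSub Cfsg.Agent.Lib.Helper8.SingerN
  Cfsg.Agent.Lib.Helper8.NilSeq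

section Main

variable {F : Type*} [Field F] [Fintype F]

theorem toLin'_sub_one {n : ℕ} (M : Matrix (Fin n) (Fin n) F) :
    Matrix.toLin' M - 1 = Matrix.toLin' (M - 1) := by
  rw [map_sub, Matrix.toLin'_one]
  rfl

theorem toLin'_pow_eq_one {n r : ℕ} (M : Matrix (Fin n) (Fin n) F) (hM : M ^ r = 1) :
    (Matrix.toLin' M) ^ r = 1 := by
  rw [← Matrix.toLin'_pow, hM, Matrix.toLin'_one]
  rfl

theorem finrank_ker_toLin'_sub_one {n : ℕ} (M : Matrix (Fin n) (Fin n) F) :
    finrank F (LinearMap.ker (Matrix.toLin' M - 1)) + (M - 1).rank = n := by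
  rw [toLin'_sub_one]
  have h := LinearMap.finrank_range_add_finrank_ker (Matrix.toLin' (M - 1))
  rw [Module.finrank_fin_fun, finrank_range_toLin'] at h
  omega

/-- the necessity direction, when `2 ≤ c ≤ n` -/
theorem cond_of_forall_decomp (p : ℕ) [Fact p.Prime] [CharP F p] {q : ℕ}
    (hq : Fintype.card F = q) (n a t : ℕ) (hat : n = a * t) (ha : 1 ≤ a) (ht : 2 ≤ t)
    (r : ℕ) (hr : r.Prime) (hrp : r ≠ p)
    (hc2 : 2 ≤ orderOf (q : ZMod r)) (hcn : orderOf (q : ZMod r) ≤ n)
    (H : ∀ x : Matrix.SpecialLinearGroup (Fin n) F,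
      (∃ z : F, ((x ^ r : Matrix.SpecialLinearGroup (Fin n) F) : Matrix (Fin n) (Fin n) F) =
        z • (1 : Matrix (Fin n) (Fin n) F)) →
      (∀ z : F, (x : Matrix (Fin n) (Fin n) F) ≠ z • (1 : Matrix (Fin n) (Fin n) F)) →
      ∃ D : Fin t → Submodule F (Fin n → F), Cfsg.Geo.IsMDecomposition a D ∧
        ∃ σ : Equiv.Perm (Fin t), ∀ j,
          (D j).map (Matrix.toLin' (x : Matrix (Fin n) (Fin n) F)) = D (σ j)) :
    (a = 1 ∧ 1 < orderOf (q : ZMod r) ∧ orderOf (q : ZMod r) = r - 1 ∧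
        n ≤ (n % orderOf (q : ZMod r)) * r) ∨
      (orderOf (q : ZMod r) ≤ a ∧ n % orderOf (q : ZMod r) = t * (a % orderOf (q : ZMod r))) := by
  classical
  haveI : Fact r.Prime := ⟨hr⟩
  have hq2 : 2 ≤ q := by rw [← hq]; exact Fintype.one_lt_card
  have hn1 : 1 ≤ n := by omega
  have hr0 : (r : F) ≠ 0 := natCast_ne_zero_of' p hr hrp
  set c := orderOf (q : ZMod r) with hc
  have hall : AllDeg (geomPoly F r) c := allDeg_geomPoly p hq hr hrp
  have hdvd : ¬ r ∣ q - 1 := by
    intro h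
    have := orderOf_eq_one_of_dvd (r := r) (by omega : 1 ≤ q) h
    omega
  -- `c ≤ r - 1`
  have hqr : (q : ZMod r) ≠ 0 := by
    intro h0
    rw [ZMod.natCast_eq_zero_iff] at h0
    obtain ⟨f, _, hf⟩ := FiniteField.card F p
    rw [← hq, hf] at h0
    have := hr.dvd_of_dvd_pow h0
    exact hrp ((Nat.prime_dvd_prime_iff_eq hr (Fact.out : p.Prime)).1 this)
  have hcr : c ≤ r - 1 :=
    Nat.le_of_dvd (by have := hr.two_le; omega) (ZMod.orderOf_dvd_card_sub_one hqr)
  -- general facts about an element `x` of order `r` and a stabilized decomposition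
  have key : ∀ (x : Matrix.SpecialLinearGroup (Fin n) F) (l : ℕ), 1 ≤ l →
      (x : Matrix (Fin n) (Fin n) F) ^ r = 1 → ((x : Matrix (Fin n) (Fin n) F) - 1).rank = l →
      ∃ (D : Fin t → Submodule F (Fin n → F)) (σ : Equiv.Perm (Fin t)),
        Cfsg.Geo.IsMDecomposition a D ∧
        (∀ j, (D j).map (Matrix.toLin' (x : Matrix (Fin n) (Fin n) F)) = D (σ j)) ∧
        σ ^ r = 1 := by
    intro x l hl1 hxr hxl
    have h1 : ∃ z : F, ((x ^ r : Matrix.SpecialLinearGroup (Fin n) F) :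
        Matrix (Fin n) (Fin n) F) = z • (1 : Matrix (Fin n) (Fin n) F) :=
      ⟨1, by rw [Matrix.SpecialLinearGroup.coe_pow, hxr, one_smul]⟩
    have h2 : ∀ z : F, (x : Matrix (Fin n) (Fin n) F) ≠ z • (1 : Matrix (Fin n) (Fin n) F) := by
      intro z hz
      have hz' := hxr
      rw [hz, _root_.smul_pow, one_pow] at hz'
      have := congrFun (congrFun hz' ⟨0, by omega⟩) ⟨0, by omega⟩
      rw [Matrix.smul_apply, Matrix.one_apply_eq, smul_eq_mul, mul_one] at this
      have hz1 : z = 1 := eq_one_of_pow hq hr hdvd z this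
      rw [hz, hz1, one_smul, sub_self, Matrix.rank_zero] at hxl
      omega
    obtain ⟨D, hD, σ, hσ⟩ := H x h1 h2
    have hinjD : Function.Injective D := by
      apply hD.indep.injective
      intro j h0
      have := hD.finrank_eq j
      rw [h0, finrank_bot] at this
      omega
    exact ⟨D, σ, hD, hσ, perm_pow_eq_one _ D σ hσ r (toLin'_pow_eq_one _ hxr) hinjD⟩
  -- the element with one block
  obtain ⟨x₁, hx₁r, hx₁l⟩ := exists_test (F := F) hq hr hdvd c n (by omega) hcn
    (dvd_pow_sub_one_of_dvd hq (by omega) c (dvd_refl _))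
  obtain ⟨D₁, σ₁, hD₁, hσ₁, hσ₁r⟩ := key x₁ c (by omega) hx₁r hx₁l
  have hA₁ := toLin'_pow_eq_one _ hx₁r
  have hA₁' : (Matrix.toLin' (x₁ : Matrix (Fin n) (Fin n) F)) ^ r = (1 : F) • 1 := by
    rw [hA₁, one_smul]
  have hinj₁ := injective_of_pow_eq_smul _ r hr.pos 1 one_ne_zero hA₁'
  have hstep1 : (a = 1 ∧ c = r - 1) ∨ c ≤ a := by
    by_cases hmoved : ∃ j, σ₁ j ≠ j
    · left
      obtain ⟨j, hj⟩ := hmoved
      have h1 := le_finrank_range_sub_one _ hinj₁ D₁ σ₁ hσ₁ hD₁.indep r hr hσ₁r j hj a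
        hD₁.finrank_eq
      rw [toLin'_sub_one, finrank_range_toLin', hx₁l] at h1
      have h2 : (r - 1) * a ≤ r - 1 := le_trans h1 hcr
      have h3 : 0 < r - 1 := by have := hr.two_le; omega
      have h4 : a ≤ 1 := by
        by_contra hcon
        push Not at hcon
        have : (r - 1) * 2 ≤ (r - 1) * a := Nat.mul_le_mul_left _ hcon
        omega
      have ha1 : a = 1 := by omega
      rw [ha1, mul_one] at h1
      exact ⟨ha1, by omega⟩
    · right
      push Not at hmoved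
      by_contra hcon
      push Not at hcon
      have hle : ∀ j, D₁ j ≤ LinearMap.ker (Matrix.toLin' (x₁ : Matrix (Fin n) (Fin n) F) - 1) := by
        intro j
        apply le_fix_of_finrank_lt _ r hr0 hA₁ c hall
        · rw [Module.End.mem_invtSubmodule_iff_map_le, hσ₁, hmoved]
        · rw [hD₁.finrank_eq]
          exact hcon
      have htop : (⊤ : Submodule F (Fin n → F)) ≤
          LinearMap.ker (Matrix.toLin' (x₁ : Matrix (Fin n) (Fin n) F) - 1) := by
        rw [← hD₁.iSup_eq_top]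
        exact iSup_le hle
      have h1 := finrank_ker_toLin'_sub_one (x₁ : Matrix (Fin n) (Fin n) F)
      rw [top_le_iff.1 htop, finrank_top, Module.finrank_fin_fun, hx₁l] at h1
      omega
  -- the element with as many blocks as possible
  have hJ1 : 1 ≤ n / c := Nat.div_pos hcn (by omega)
  have hl1 : 1 ≤ n / c * c := Nat.mul_pos hJ1 (by omega)
  have hln : n / c * c ≤ n := Nat.div_mul_le_self n c
  have hnl : n - n / c * c = n % c := by
    have := Nat.div_add_mod' n c
    omega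
  obtain ⟨x₂, hx₂r, hx₂l⟩ := exists_test (F := F) hq hr hdvd (n / c * c) n hl1 hln
    (dvd_pow_sub_one_of_dvd hq (by omega) _ (dvd_mul_left _ _))
  obtain ⟨D₂, σ₂, hD₂, hσ₂, hσ₂r⟩ := key x₂ _ hl1 hx₂r hx₂l
  have hA₂ := toLin'_pow_eq_one _ hx₂r
  have hfix₂ : finrank F (LinearMap.ker (Matrix.toLin' (x₂ : Matrix (Fin n) (Fin n) F) - 1)) =
      n % c := by
    have h1 := finrank_ker_toLin'_sub_one (x₂ : Matrix (Fin n) (Fin n) F)
    rw [hx₂l] at h1
    omega
  have hmodlt : n % c < c := Nat.mod_lt _ (by omega)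
  rcases hstep1 with ⟨ha1, hcr1⟩ | hca
  · left
    refine ⟨ha1, by omega, hcr1, ?_⟩
    have h1 := card_mul_le_univ _ D₂ σ₂ hσ₂ hD₂.indep r hr hA₂ hσ₂r a hD₂.finrank_eq (by
      intro j hj
      apply le_fix_of_finrank_lt _ r hr0 hA₂ c hall
      · rw [Module.End.mem_invtSubmodule_iff_map_le, hσ₂, hj]
      · rw [hD₂.finrank_eq]
        omega)
    rw [hfix₂, Fintype.card_fin, ← hat] at h1
    rw [mul_comm]
    exact h1
  · right
    refine ⟨hca, ?_⟩
    have hnomove : ∀ j, σ₂ j = j := by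
      intro j
      by_contra hj
      have h1 := finrank_le_fix _ D₂ σ₂ hσ₂ hD₂.indep r hr hA₂ hσ₂r j hj
      rw [hD₂.finrank_eq, hfix₂] at h1
      omega
    have h1 := sum_finrank_fix_le (Matrix.toLin' (x₂ : Matrix (Fin n) (Fin n) F)) D₂ hD₂.indep
    rw [hfix₂] at h1
    have h2 : ∀ j ∈ (Finset.univ : Finset (Fin t)), a % c ≤ finrank F
        ↥(LinearMap.ker (Matrix.toLin' (x₂ : Matrix (Fin n) (Fin n) F) - 1) ⊓ D₂ j) := by
      intro j _
      have := mod_le_finrank_fix_inf _ r hr0 hA₂ c hall (D₂ j) (by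
        rw [Module.End.mem_invtSubmodule_iff_map_le, hσ₂, hnomove])
      rwa [hD₂.finrank_eq] at this
    have h3 := Finset.sum_le_sum h2
    rw [Finset.sum_const, Finset.card_univ, Fintype.card_fin, smul_eq_mul] at h3
    have h4 : t * (a % c) ≤ n % c := le_trans h3 h1
    -- arithmetic
    rw [hat]
    conv_lhs => rw [← Nat.div_add_mod a c]
    rw [add_mul, mul_assoc, Nat.mul_add_mod, mul_comm]
    apply Nat.mod_eq_of_lt
    omega

end Main

end Cfsg.Agent.Lib.Helper8.DecSt
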