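import Mathlib
import Cfsg.Prelude.Def_GeometricClasses
import Cfsg.Agent.H9.Decomp
import Cfsg.Agent.Lib.Helper8.DecStC

/-!
# The number of decompositions: divisibility properties (helper8)
-/

set_option autoImplicit false
set_option linter.unusedSectionVars false
set_option linter.style.haveILetI false
set_option warn.classDefReducibility false

namespace Cfsg.Agent.Lib.Helper8.DecSt

open Module

section Act

variable {F : Type*} [Field F] {n : ℕ}

theorem isMDecomposition_map {a t : ℕ} (e : (Fin n → F) ≃ₗ[F] (Fin n → F))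
    (D : Fin t → Submodule F (Fin n → F)) (hD : Cfsg.Geo.IsMDecomposition a D) :
    Cfsg.Geo.IsMDecomposition a (fun j => (D j).map e.toLinearMap) where
  two_le := hD.two_le
  pos := hD.pos
  finrank_eq j := by rw [LinearEquiv.finrank_map_eq e, hD.finrank_eq]
  indep := hD.indep.map_orderIso (Submodule.orderIsoMapComap e)
  iSup_eq_top := by
    rw [← Submodule.map_iSup, hD.iSup_eq_top, Submodule.map_top]
    exact LinearEquiv.range e

theorem isMDecomposition_comp {a t : ℕ} (σ : Equiv.Perm (Fin t))
    (D : Fin t → Submodule F (Fin n → F)) (hD : Cfsg.Geo.IsMDecomposition a D) :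
    Cfsg.Geo.IsMDecomposition a (fun j => D (σ j)) where
  two_le := hD.two_le
  pos := hD.pos
  finrank_eq j := hD.finrank_eq _
  indep := hD.indep.comp σ.injective
  iSup_eq_top := by
    rw [← hD.iSup_eq_top]
    exact σ.iSup_comp (g := D)

theorem decomp_injective {a t : ℕ} (D : Fin t → Submodule F (Fin n → F))
    (hD : Cfsg.Geo.IsMDecomposition a D) : Function.Injective D := by
  apply hD.indep.injective
  intro j h0
  have := hD.finrank_eq j
  rw [h0, finrank_bot] at this
  have := hD.pos
  omega

/-- the action of the linear automorphisms on ordered decompositions -/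
def linAction (a t : ℕ) : MulAction ((Fin n → F) ≃ₗ[F] (Fin n → F))
    {D : Fin t → Submodule F (Fin n → F) // Cfsg.Geo.IsMDecomposition a D} where
  smul e D := ⟨fun j => (D.1 j).map e.toLinearMap, isMDecomposition_map e D.1 D.2⟩
  one_smul D := by
    apply Subtype.ext
    funext j
    exact Submodule.map_id _
  mul_smul e₁ e₂ D := by
    apply Subtype.ext
    funext j
    exact Submodule.map_comp e₂.toLinearMap e₁.toLinearMap (D.1 j)

/-- the action of the symmetric group on ordered decompositions -/
def permAction (a t : ℕ) : MulAction (Equiv.Perm (Fin t))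
    {D : Fin t → Submodule F (Fin n → F) // Cfsg.Geo.IsMDecomposition a D} where
  smul σ D := ⟨fun j => D.1 (σ.symm j), isMDecomposition_comp σ.symm D.1 D.2⟩
  one_smul D := by
    apply Subtype.ext
    funext j
    rfl
  mul_smul σ τ D := by
    apply Subtype.ext
    funext j
    rfl

theorem span_adapted {a t : ℕ} (D : Fin t → Submodule F (Fin n → F))
    (hD : Cfsg.Geo.IsMDecomposition a D) (b : Module.Basis (Fin t × Fin a) F (Fin n → F))
    (hb : ∀ i j, b (i, j) ∈ D i) (i : Fin t) :
    Submodule.span F (Set.range (fun j : Fin a => b (i, j))) = D i := by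
  apply Submodule.eq_of_le_of_finrank_eq
  · rw [Submodule.span_le]
    rintro _ ⟨j, rfl⟩
    exact hb i j
  · have hli : LinearIndependent F (fun j : Fin a => b (i, j)) :=
      b.linearIndependent.comp (fun j : Fin a => (i, j)) (fun j j' h => (Prod.mk.inj h).2)
    rw [finrank_span_eq_card hli, Fintype.card_fin, hD.finrank_eq]

theorem linAction_transitive (a t : ℕ)
    (D D' : {D : Fin t → Submodule F (Fin n → F) // Cfsg.Geo.IsMDecomposition a D}) :
    ∃ e : (Fin n → F) ≃ₗ[F] (Fin n → F),
      (fun j => (D.1 j).map e.toLinearMap) = D'.1 := by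
  classical
  obtain ⟨b, hb, -⟩ := Cfsg.Agent.H9.Decomp.exists_adapted_basis D.1 D.2
  obtain ⟨b', hb', -⟩ := Cfsg.Agent.H9.Decomp.exists_adapted_basis D'.1 D'.2
  refine ⟨b.equiv b' (Equiv.refl _), ?_⟩
  funext i
  rw [← span_adapted D.1 D.2 b hb i, ← span_adapted D'.1 D'.2 b' hb' i, Submodule.map_span,
    ← Set.range_comp]
  congr 2
  funext j
  simp

end Act

end Cfsg.Agent.Lib.Helper8.DecSt
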