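import Mathlib
import Cfsg.Agent.Lib.Helper8.DecStO
import Cfsg.Agent.Lib.Helper8.InvSubD

/-!
# A prime not dividing `|GL_n(q)|` does not divide the number of decompositions (helper8)
-/

set_option autoImplicit false
set_option linter.unusedSectionVars false
set_option linter.style.haveILetI false

namespace Cfsg.Agent.Lib.Helper8.DecSt

open Module Polynomial Cfsg.Agent.Lib.Helper8.InvSub Cfsg.Agent.Lib.Helper8.SingerN

section Exists

variable {F : Type*} [Field F] {V : Type*} [AddCommGroup V] [Module F V] [FiniteDimensional F V]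

/-- a decomposition of `V` into `t` subspaces of dimension `a` -/
theorem hasDecompOn_one_end (a t : ℕ) (hV : finrank F V = a * t) :
    HasDecompOn (1 : Module.End F V) a t ⊤ := by
  have hss : (1 : Module.End F V).IsSemisimple := Module.End.isSemisimple_id
  apply decomp_fixed (1 : Module.End F V) hss (fun x y h => h) a (fun _ => True) ?_ t
    (fun _ _ _ => trivial) ⊤ (fun v _ => Submodule.mem_top) (by rw [finrank_top, hV])
  intro W _ _ hle
  obtain ⟨Z, hZW, hZd⟩ := exists_le_finrank_eq W hle
  exact ⟨Z, hZW, fun v hv => hv, hZd⟩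

end Exists

section Count

variable {F : Type*} [Field F] [Fintype F] {n : ℕ}

theorem exists_isMDecomposition (a t : ℕ) (ha : 1 ≤ a) (ht : 2 ≤ t) (hat : n = a * t) :
    ∃ D : Fin t → Submodule F (Fin n → F), Cfsg.Geo.IsMDecomposition a D := by
  obtain ⟨D, hD, -⟩ := isMDecomposition_of_hasDecompOn (1 : Module.End F (Fin n → F)) a t
    (by omega) ht hat (hasDecompOn_one_end a t (by rw [Module.finrank_fin_fun, hat]))
  exact ⟨D, hD⟩

/-- the number of ordered decompositions divides the order of the group of linear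
automorphisms -/
theorem card_decomp_dvd (a t : ℕ) (ha : 1 ≤ a) (ht : 2 ≤ t) (hat : n = a * t) :
    Nat.card {D : Fin t → Submodule F (Fin n → F) // Cfsg.Geo.IsMDecomposition a D} ∣
      Nat.card ((Fin n → F) ≃ₗ[F] (Fin n → F)) := by
  obtain ⟨D₀, hD₀⟩ := exists_isMDecomposition (F := F) a t ha ht hat
  letI := linAction (F := F) (n := n) a t
  haveI : MulAction.IsPretransitive ((Fin n → F) ≃ₗ[F] (Fin n → F))
      {D : Fin t → Submodule F (Fin n → F) // Cfsg.Geo.IsMDecomposition a D} := by
    constructor
    intro D D'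
    obtain ⟨e, he⟩ := linAction_transitive a t D D'
    exact ⟨e, Subtype.ext he⟩
  rw [← MulAction.index_stabilizer_of_transitive ((Fin n → F) ≃ₗ[F] (Fin n → F))
    (⟨D₀, hD₀⟩ : {D : Fin t → Submodule F (Fin n → F) // Cfsg.Geo.IsMDecomposition a D})]
  exact Subgroup.index_dvd_card _

/-- `t!` divides the number of ordered decompositions -/
theorem factorial_dvd_card_decomp (a t : ℕ) :
    t.factorial ∣
      Nat.card {D : Fin t → Submodule F (Fin n → F) // Cfsg.Geo.IsMDecomposition a D} := by
  letI := permAction (F := F) (n := n) a t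
  have hfree : ∀ D : {D : Fin t → Submodule F (Fin n → F) // Cfsg.Geo.IsMDecomposition a D},
      MulAction.stabilizer (Equiv.Perm (Fin t)) D = ⊥ := by
    intro D
    rw [Subgroup.eq_bot_iff_forall]
    intro σ hσ
    rw [MulAction.mem_stabilizer_iff] at hσ
    have h1 : ∀ j, D.1 (σ.symm j) = D.1 j := by
      intro j
      exact congrFun (congrArg Subtype.val hσ) j
    have h2 : σ.symm = 1 := by
      ext j
      exact congrArg Fin.val (decomp_injective D.1 D.2 (h1 j))
    rw [← Equiv.symm_symm σ, h2]
    rfl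
  have e := MulAction.selfEquivOrbitsQuotientProd hfree
  rw [Nat.card_congr e, Nat.card_prod, Nat.card_perm, Nat.card_fin]
  exact dvd_mul_left _ _

end Count

section Cauchy

variable {F : Type*} [Field F] [Fintype F] {V : Type*} [AddCommGroup V] [Module F V] [Finite V]

/-- a prime `r ≠ p` dividing the order of the group of linear automorphisms has `c ≤ dim V` -/
theorem orderOf_le_of_dvd_card_linearEquiv (p : ℕ) [Fact p.Prime] [CharP F p] {q r : ℕ}
    (hq : Fintype.card F = q) (hr : r.Prime) (hrp : r ≠ p)
    (hdvd : r ∣ Nat.card (V ≃ₗ[F] V)) : orderOf (q : ZMod r) ≤ finrank F V := by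
  haveI : Fact r.Prime := ⟨hr⟩
  haveI : FiniteDimensional F V := Module.Finite.of_finite
  haveI : Finite (V ≃ₗ[F] V) :=
    Finite.of_injective (fun e : V ≃ₗ[F] V => (e : V → V)) DFunLike.coe_injective
  obtain ⟨e, he⟩ := exists_prime_orderOf_dvd_card' (G := V ≃ₗ[F] V) r hdvd
  have hr0 : (r : F) ≠ 0 := natCast_ne_zero_of' p hr hrp
  set A : Module.End F V := e.toLinearMap with hA
  have hAr : A ^ r = 1 := by
    have h1 : e ^ r = 1 := by rw [← he]; exact pow_orderOf_eq_one e
    have h2 := congrArg (LinearEquiv.automorphismGroup.toLinearMapMonoidHom (R := F) (M := V)) h1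
    rw [map_pow, map_one] at h2
    exact h2
  have hA1 : A ≠ 1 := by
    intro h1
    have : e = 1 := by
      apply LinearEquiv.toLinearMap_injective
      exact h1
    rw [this, orderOf_one] at he
    exact hr.one_lt.ne he
  have hss := isSemisimple_of_pow_eq_one A r hr0 hAr
  have hΦ0 := geomPoly_ne_zero (F := F) r hr0
  have hall := allDeg_geomPoly (F := F) p hq hr hrp
  have hn := finrank_fixed_add A r hr0 hAr
  have hDinv : LinearMap.ker (aeval A (geomPoly F r)) ∈ A.invtSubmodule :=
    ker_aeval_mem_invt A _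
  obtain ⟨j, hj⟩ := dvd_finrank A hss (geomPoly F r) hΦ0 _ hall _
    (LinearMap.ker (aeval A (geomPoly F r))) rfl hDinv le_rfl
  rcases Nat.eq_zero_or_pos j with hj0 | hjpos
  · exfalso
    rw [hj0, mul_zero] at hj
    rw [hj, add_zero] at hn
    have htop : LinearMap.ker (aeval A (X - C (1 : F))) = ⊤ :=
      Submodule.eq_top_of_finrank_eq hn.symm
    apply hA1
    apply LinearMap.ext
    intro v
    have hv : v ∈ LinearMap.ker (aeval A (X - C (1 : F))) := by rw [htop]; exact Submodule.mem_top
    exact (mem_ker_X_sub_one A v).1 hv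
  · have : orderOf (q : ZMod r) ≤ orderOf (q : ZMod r) * j := Nat.le_mul_of_pos_right _ hjpos
    omega

end Cauchy

end Cfsg.Agent.Lib.Helper8.DecSt
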