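import Mathlib
import Cfsg.Agent.Lib.Helper8.Derangement

set_option autoImplicit false

namespace Cfsg.Agent.Lib.Helper8.DerIndex

open MulAction Cfsg.Agent.Lib.Helper8.Derangement

/-- If all point stabilizers of a finite group action lie in the subgroup `N`, then the index
of `N` divides the number of points. -/
theorem index_dvd_card {A Y : Type*} [Group A] [Finite A] [MulAction A Y] [Finite Y]
    (N : Subgroup A) (h : ∀ y : Y, stabilizer A y ≤ N) : N.index ∣ Nat.card Y := by
  classical
  have : Fintype (Quotient (orbitRel A Y)) := Fintype.ofFinite _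
  rw [Nat.card_congr (selfEquivSigmaOrbits A Y), Nat.card_sigma]
  apply Finset.dvd_sum
  intro q _
  have h1 : Nat.card (orbit A q.out) = (stabilizer A q.out).index := by
    rw [index_stabilizer, Nat.card_coe_set_eq]
  rw [h1]
  exact Subgroup.index_dvd_of_le (h _)

variable {G Ω : Type*} [Group G] [MulAction G Ω]

theorem derSub_normal : (derSub G Ω).Normal := by
  have hconj : ∀ (g x : G), (∀ ω : Ω, x • ω ≠ ω) → ∀ ω : Ω, (g * x * g⁻¹) • ω ≠ ω := by
    intro g x hx ω h
    apply hx (g⁻¹ • ω)
    have h1 : x • g⁻¹ • ω = g⁻¹ • ((g * x * g⁻¹) • ω) := by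
      simp only [mul_smul, inv_smul_smul]
    rw [h1, h]
  constructor
  intro n hn g
  induction hn using Subgroup.closure_induction generalizing g with
  | mem x hx => exact Subgroup.subset_closure (hconj g x hx)
  | one => simp
  | mul x y _ _ hx hy =>
    have : g * (x * y) * g⁻¹ = (g * x * g⁻¹) * (g * y * g⁻¹) := by group
    rw [this]
    exact Subgroup.mul_mem _ (hx g) (hy g)
  | inv x _ hx =>
    have : g * x⁻¹ * g⁻¹ = (g * x * g⁻¹)⁻¹ := by group
    rw [this]
    exact Subgroup.inv_mem _ (hx g)

/-- an element fixing two distinct points lies in the derangement subgroup -/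
theorem mem_derSub_of_fix_two [Finite G] [Finite Ω] (htrans : IsPretransitive G Ω)
    {g : G} {a b : Ω} (hab : a ≠ b) (ha : g • a = a) (hb : g • b = b) : g ∈ derSub G Ω := by
  have : Nonempty Ω := ⟨a⟩
  by_contra hg
  have h1 := (main (G := G) (Ω := Ω) htrans).2 g hg
  rw [Nat.card_eq_one_iff_unique] at h1
  obtain ⟨hs, _⟩ := h1
  have := hs.elim (⟨a, ha⟩ : fixedBy Ω g) ⟨b, hb⟩
  exact hab (congrArg Subtype.val this)

theorem sup_stab_eq_top [Finite G] [Finite Ω] (htrans : IsPretransitive G Ω) (a : Ω) :
    stabilizer G a ⊔ derSub G Ω = ⊤ := by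
  have : Nonempty Ω := ⟨a⟩
  have hD := (main (G := G) (Ω := Ω) htrans).1
  rw [eq_top_iff]
  intro g _
  obtain ⟨d, hd⟩ := hD.exists_smul_eq a (g • a)
  have hd' : (d : G) • a = g • a := hd
  have h1 : (d : G)⁻¹ * g ∈ stabilizer G a := by
    rw [mem_stabilizer_iff, mul_smul, ← hd', inv_smul_smul]
  have h2 : g = (d : G) * ((d : G)⁻¹ * g) := by group
  rw [h2]
  exact Subgroup.mul_mem _ (Subgroup.mem_sup_right d.2) (Subgroup.mem_sup_left h1)

theorem relIndex_stab [Finite G] [Finite Ω] (htrans : IsPretransitive G Ω) (a : Ω) :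
    (derSub G Ω).relIndex (stabilizer G a) = (derSub G Ω).index := by
  have hn : (derSub G Ω).Normal := derSub_normal
  rw [← Subgroup.relIndex_sup_right, sup_stab_eq_top htrans a, Subgroup.relIndex_top_right]

/-- the index of the derangement subgroup divides `n - 1` -/
theorem index_dvd_pred [Finite G] [Finite Ω] (htrans : IsPretransitive G Ω) (a : Ω) :
    (derSub G Ω).index ∣ Nat.card Ω - 1 := by
  rw [← relIndex_stab htrans a, ← SubMulAction.nat_card_ofStabilizer_eq G a]
  apply index_dvd_card ((derSub G Ω).subgroupOf (stabilizer G a))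
  intro y g hg
  rw [Subgroup.mem_subgroupOf]
  have hy : (y : Ω) ≠ a := y.2
  have h1 : (g : G) • (y : Ω) = y := by
    have := congrArg Subtype.val (mem_stabilizer_iff.1 hg)
    exact this
  exact mem_derSub_of_fix_two htrans hy.symm g.2 h1

end Cfsg.Agent.Lib.Helper8.DerIndex
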