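import Mathlib

/-! S3520, piece B: an abelian regular normal subgroup `N`, "among three derangements two are
conjugate", and a derangement outside `N` force 2-transitivity and a nonidentity element with
two fixed points. -/

set_option autoImplicit false

namespace Cfsg.Agent.Lib.Helper8.DerTwoB

variable {G : Type*} [Group G] {Ω : Type*} [MulAction G Ω]

/-- regularity: two elements of `N` agreeing at a point are equal -/
theorem eq_of_smul_eq (N : Subgroup G) (hreg : ∀ ω : Ω, MulAction.stabilizer N ω = ⊥)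
    {a b : G} (ha : a ∈ N) (hb : b ∈ N) {ω : Ω} (h : a • ω = b • ω) : a = b := by
  have h1 : (b⁻¹ * a) • ω = ω := by rw [mul_smul, h, inv_smul_smul]
  have hm : (⟨b⁻¹ * a, N.mul_mem (N.inv_mem hb) ha⟩ : N) ∈ MulAction.stabilizer N ω := by
    rw [MulAction.mem_stabilizer_iff]
    exact h1
  rw [hreg ω, Subgroup.mem_bot] at hm
  have h2 : b⁻¹ * a = 1 := congrArg Subtype.val hm
  calc a = b * (b⁻¹ * a) := by group
    _ = b := by rw [h2, mul_one]

/-- transitivity of `N`, with the witness in `G` -/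
theorem exists_mem_smul_eq (N : Subgroup G) (hNt : MulAction.IsPretransitive N Ω) (α β : Ω) :
    ∃ w : G, w ∈ N ∧ w • α = β := by
  obtain ⟨n, hn⟩ := hNt.exists_smul_eq α β
  exact ⟨n.1, n.2, hn⟩

/-- `G = N * G_α` -/
theorem exists_factor (N : Subgroup G) (hNt : MulAction.IsPretransitive N Ω) (α : Ω) (g : G) :
    ∃ v : G, v ∈ N ∧ ∃ h : G, h • α = α ∧ g = v * h := by
  obtain ⟨v, hv, hvα⟩ := exists_mem_smul_eq N hNt α (g • α)
  refine ⟨v, hv, v⁻¹ * g, ?_, by group⟩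
  rw [mul_smul, ← hvα, inv_smul_smul]

theorem affine_two_transitive [Finite G] [Fintype Ω] [FaithfulSMul G Ω]
    (hΩ : 2 ≤ Fintype.card Ω) (N : Subgroup G) [N.Normal]
    (hab : ∀ x ∈ N, ∀ y ∈ N, x * y = y * x)
    (hNt : MulAction.IsPretransitive N Ω)
    (hreg : ∀ ω : Ω, MulAction.stabilizer N ω = ⊥)
    (h3 : ∀ g₁ g₂ g₃ : G, (∀ ω : Ω, g₁ • ω ≠ ω) → (∀ ω : Ω, g₂ • ω ≠ ω) →
      (∀ ω : Ω, g₃ • ω ≠ ω) → IsConj g₁ g₂ ∨ IsConj g₁ g₃ ∨ IsConj g₂ g₃)
    (g₀ : G) (hg₀ : ∀ ω : Ω, g₀ • ω ≠ ω) (hg₀N : g₀ ∉ N) :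
    MulAction.IsMultiplyPretransitive G Ω 2 ∧
      ∃ g : G, g ≠ 1 ∧ 2 ≤ Nat.card (MulAction.fixedBy Ω g) := by
  classical
  -- nonidentity elements of `N` are derangements
  have hder : ∀ w ∈ N, w ≠ 1 → ∀ ω : Ω, w • ω ≠ ω := by
    intro w hw hw1 ω h
    apply hw1
    exact eq_of_smul_eq N hreg hw N.one_mem (h.trans (one_smul G ω).symm)
  -- no element of `N` is conjugate to `g₀`
  have hnc : ∀ w ∈ N, ¬ IsConj w g₀ := by
    intro w hw h
    obtain ⟨c, hc⟩ := isConj_iff.1 h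
    apply hg₀N
    rw [← hc]
    exact ‹N.Normal›.conj_mem w hw c
  -- nonidentity elements of `N` are conjugate in `G`
  have hconj : ∀ w₁ ∈ N, w₁ ≠ 1 → ∀ w₂ ∈ N, w₂ ≠ 1 → IsConj w₁ w₂ := by
    intro w₁ h1 h11 w₂ h2 h21
    rcases h3 w₁ w₂ g₀ (hder w₁ h1 h11) (hder w₂ h2 h21) hg₀ with h | h | h
    · exact h
    · exact absurd h (hnc w₁ h1)
    · exact absurd h (hnc w₂ h2)
  -- ... even by an element of a point stabilizer
  have hconjH : ∀ α : Ω, ∀ w₁ ∈ N, w₁ ≠ 1 → ∀ w₂ ∈ N, w₂ ≠ 1 →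
      ∃ h : G, h • α = α ∧ h * w₁ * h⁻¹ = w₂ := by
    intro α w₁ h1 h11 w₂ h2 h21
    obtain ⟨c, hc⟩ := isConj_iff.1 (hconj w₁ h1 h11 w₂ h2 h21)
    obtain ⟨v, hv, h, hh, rfl⟩ := exists_factor N hNt α c
    refine ⟨h, hh, ?_⟩
    have hm : h * w₁ * h⁻¹ ∈ N := ‹N.Normal›.conj_mem w₁ h1 h
    have e : v * h * w₁ * (v * h)⁻¹ = v * (h * w₁ * h⁻¹) * v⁻¹ := by group
    rw [e, hab v hv _ hm, mul_assoc, mul_inv_cancel, mul_one] at hc
    exact hc
  -- a point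
  have hne : Nonempty Ω := by
    rw [← Fintype.card_pos_iff]; omega
  refine ⟨?_, ?_⟩
  · rw [MulAction.is_two_pretransitive_iff]
    intro a b c d hab' hcd
    -- move `a` to `c` by an element of `N`
    obtain ⟨n, hn, hna⟩ := exists_mem_smul_eq N hNt a c
    -- the images: `c` and `n • b ≠ c`; now fix `c` and move `n • b` to `d`
    have hnb : n • b ≠ c := by
      intro h
      apply hab'
      rw [← hna] at h
      exact (MulAction.injective n h).symm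
    obtain ⟨w₁, hw₁, hw₁c⟩ := exists_mem_smul_eq N hNt c (n • b)
    obtain ⟨w₂, hw₂, hw₂c⟩ := exists_mem_smul_eq N hNt c d
    have hw₁1 : w₁ ≠ 1 := by
      intro h
      rw [h, one_smul] at hw₁c
      exact hnb hw₁c.symm
    have hw₂1 : w₂ ≠ 1 := by
      intro h
      rw [h, one_smul] at hw₂c
      exact hcd hw₂c
    obtain ⟨h, hh, hhw⟩ := hconjH c w₁ hw₁ hw₁1 w₂ hw₂ hw₂1
    refine ⟨h * n, ?_, ?_⟩
    · rw [mul_smul, hna, hh]
    · rw [mul_smul, ← hw₁c, ← hw₂c, ← hhw, mul_smul, mul_smul, inv_smul_eq_iff.2 hh.symm]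
  · -- a nonidentity element with two fixed points
    obtain ⟨α⟩ := hne
    obtain ⟨v, hv, h, hh, hg⟩ := exists_factor N hNt α g₀
    have hh1 : h ≠ 1 := by
      intro h1
      apply hg₀N
      rw [hg, h1, mul_one]
      exact hv
    -- the map `w ↦ w * h * w⁻¹ * h⁻¹` on `N`
    let φ : N → N := fun w => ⟨w.1 * (h * w.1⁻¹ * h⁻¹),
      N.mul_mem w.2 (‹N.Normal›.conj_mem _ (N.inv_mem w.2) h)⟩
    have hns : ¬ Function.Surjective φ := by
      intro hs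
      obtain ⟨w, hw⟩ := hs ⟨v, hv⟩
      have hw' : w.1 * (h * w.1⁻¹ * h⁻¹) = v := congrArg Subtype.val hw
      apply hg₀ (w.1 • α)
      rw [hg, ← hw']
      have e : w.1 * (h * w.1⁻¹ * h⁻¹) * h * w.1 = w.1 * h := by group
      rw [← mul_smul, e, mul_smul, hh]
    have hni : ¬ Function.Injective φ := fun hi => hns (Finite.surjective_of_injective hi)
    rw [Function.Injective] at hni
    push Not at hni
    obtain ⟨w₁, w₂, hφ, hne12⟩ := hni
    have hφ' : w₁.1 * (h * w₁.1⁻¹ * h⁻¹) = w₂.1 * (h * w₂.1⁻¹ * h⁻¹) := congrArg Subtype.val hφ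
    -- `u := w₂⁻¹ * w₁` commutes with `h`
    have hu : (w₂.1⁻¹ * w₁.1) * h = h * (w₂.1⁻¹ * w₁.1) := by
      have e1 : (w₂.1⁻¹ * w₁.1) * h = w₂.1⁻¹ * (w₁.1 * (h * w₁.1⁻¹ * h⁻¹)) * h * w₁.1 := by group
      rw [e1, hφ']
      group
    have huN : w₂.1⁻¹ * w₁.1 ∈ N := N.mul_mem (N.inv_mem w₂.2) w₁.2
    have hu1 : w₂.1⁻¹ * w₁.1 ≠ 1 := by
      intro h1
      apply hne12
      apply Subtype.ext
      calc w₁.1 = w₂.1 * (w₂.1⁻¹ * w₁.1) := by group
        _ = w₂.1 := by rw [h1, mul_one]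
    refine ⟨h, hh1, ?_⟩
    have hfin : Finite (MulAction.fixedBy Ω h) := inferInstance
    have h1 : α ∈ MulAction.fixedBy Ω h := hh
    have h2 : (w₂.1⁻¹ * w₁.1) • α ∈ MulAction.fixedBy Ω h := by
      rw [MulAction.mem_fixedBy, ← mul_smul, ← hu, mul_smul, hh]
    have hne' : (w₂.1⁻¹ * w₁.1) • α ≠ α := hder _ huN hu1 α
    have hsub : ({α, (w₂.1⁻¹ * w₁.1) • α} : Set Ω) ⊆ MulAction.fixedBy Ω h := by
      intro x hx
      rcases hx with rfl | rfl
      · exact h1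
      · exact h2
    have hc2 : ({α, (w₂.1⁻¹ * w₁.1) • α} : Set Ω).ncard = 2 := Set.ncard_pair hne'.symm
    have := Set.ncard_le_ncard hsub (Set.toFinite _)
    rw [hc2] at this
    rwa [← Nat.card_coe_set_eq] at this

end Cfsg.Agent.Lib.Helper8.DerTwoB
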