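import Mathlib
import Cfsg.Agent.Lib.Helper8.DerTwoB

/-! S3520, piece A: an abelian regular normal subgroup `N` containing all derangements, with
exactly two classes of derangements: Frobenius-type conclusion and `2 * |G_α| = |Ω| - 1`. -/

set_option autoImplicit false

namespace Cfsg.Agent.Lib.Helper8.DerTwoA

open Cfsg.Agent.Lib.Helper8.DerTwoB

variable {G : Type*} [Group G] {Ω : Type*} [MulAction G Ω]

/-- Step (1): a nonidentity point-stabilizer element commutes with no nonidentity element of `N`. -/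
theorem eq_one_of_commute [Finite G] (N : Subgroup G) [N.Normal]
    (hNt : MulAction.IsPretransitive N Ω) (hreg : ∀ ω : Ω, MulAction.stabilizer N ω = ⊥)
    (hin : ∀ g : G, (∀ ω : Ω, g • ω ≠ ω) → g ∈ N) (α : Ω)
    {h : G} (hh : h • α = α) (hh1 : h ≠ 1) {w : G} (hw : w ∈ N) (hc : h * w * h⁻¹ = w) : w = 1 := by
  classical
  have hhinv : h⁻¹ • α = α := inv_smul_eq_iff.2 hh.symm
  have hhN : h ∉ N := by
    intro hN
    apply hh1
    exact eq_of_smul_eq N hreg hN N.one_mem (hh.trans (one_smul G α).symm)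
  let φ : N → N := fun u => ⟨u.1 * (h * u.1⁻¹ * h⁻¹),
    N.mul_mem u.2 (‹N.Normal›.conj_mem _ (N.inv_mem u.2) h)⟩
  have hsurj : Function.Surjective φ := by
    intro v
    have hvh : v.1 * h ∉ N := by
      intro hm
      apply hhN
      have : h = v.1⁻¹ * (v.1 * h) := by group
      rw [this]
      exact N.mul_mem (N.inv_mem v.2) hm
    have hnd : ¬ ∀ ω : Ω, (v.1 * h) • ω ≠ ω := fun hd => hvh (hin _ hd)
    push Not at hnd
    obtain ⟨β, hβ⟩ := hnd
    obtain ⟨u, hu, huβ⟩ := exists_mem_smul_eq N hNt α β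
    refine ⟨⟨u, hu⟩, ?_⟩
    apply Subtype.ext
    show u * (h * u⁻¹ * h⁻¹) = v.1
    have hm : v.1 * (h * u * h⁻¹) ∈ N := N.mul_mem v.2 (‹N.Normal›.conj_mem _ hu h)
    have e1 : (v.1 * (h * u * h⁻¹)) • α = u • α := by
      have e2 : v.1 * (h * u * h⁻¹) = (v.1 * h) * u * h⁻¹ := by group
      rw [e2, mul_smul, hhinv, mul_smul, huβ, hβ]
    have e3 : v.1 * (h * u * h⁻¹) = u := eq_of_smul_eq N hreg hm hu e1
    calc u * (h * u⁻¹ * h⁻¹) = (v.1 * (h * u * h⁻¹)) * (h * u⁻¹ * h⁻¹) := by rw [e3]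
      _ = v.1 := by group
  have hinj : Function.Injective φ := Finite.injective_iff_surjective.2 hsurj
  have h1 : φ ⟨w, hw⟩ = φ ⟨1, N.one_mem⟩ := by
    apply Subtype.ext
    show w * (h * w⁻¹ * h⁻¹) = 1 * (h * 1⁻¹ * h⁻¹)
    have e : h * w⁻¹ * h⁻¹ = (h * w * h⁻¹)⁻¹ := by group
    rw [e, hc]
    group
  exact congrArg Subtype.val (hinj h1)

theorem affine_frobenius [Finite G] [Fintype Ω] [FaithfulSMul G Ω]
    (N : Subgroup G) [N.Normal]
    (hab : ∀ x ∈ N, ∀ y ∈ N, x * y = y * x)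
    (hNt : MulAction.IsPretransitive N Ω)
    (hreg : ∀ ω : Ω, MulAction.stabilizer N ω = ⊥)
    (h3 : ∀ g₁ g₂ g₃ : G, (∀ ω : Ω, g₁ • ω ≠ ω) → (∀ ω : Ω, g₂ • ω ≠ ω) →
      (∀ ω : Ω, g₃ • ω ≠ ω) → IsConj g₁ g₂ ∨ IsConj g₁ g₃ ∨ IsConj g₂ g₃)
    (h2 : ∃ g₁ g₂ : G, (∀ ω : Ω, g₁ • ω ≠ ω) ∧ (∀ ω : Ω, g₂ • ω ≠ ω) ∧ ¬ IsConj g₁ g₂)
    (hin : ∀ g : G, (∀ ω : Ω, g • ω ≠ ω) → g ∈ N) (α : Ω) :
    (∀ g : G, g ≠ 1 → Nat.card (MulAction.fixedBy Ω g) ≤ 1) ∧ ¬ 2 ∣ Fintype.card Ω ∧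
      2 * Nat.card (MulAction.stabilizer G α) = Fintype.card Ω - 1 := by
  classical
  -- nonidentity elements of `N` are derangements
  have hder : ∀ w ∈ N, w ≠ 1 → ∀ ω : Ω, w • ω ≠ ω := by
    intro w hw hw1 ω h
    apply hw1
    exact eq_of_smul_eq N hreg hw N.one_mem (h.trans (one_smul G ω).symm)
  -- step (1) at an arbitrary point
  have hstep : ∀ β : Ω, ∀ h : G, h • β = β → h ≠ 1 → ∀ w ∈ N, h * w * h⁻¹ = w → w = 1 :=
    fun β h hh hh1 w hw hc => eq_one_of_commute N hNt hreg hin β hh hh1 hw hc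
  -- step (2)
  have hfix : ∀ g : G, g ≠ 1 → ∀ β γ : Ω, g • β = β → g • γ = γ → β = γ := by
    intro g hg1 β γ hβ hγ
    by_contra hne
    obtain ⟨w, hw, hwγ⟩ := exists_mem_smul_eq N hNt β γ
    have hw1 : w ≠ 1 := by
      intro h
      rw [h, one_smul] at hwγ
      exact hne hwγ
    have hginv : g⁻¹ • β = β := inv_smul_eq_iff.2 hβ.symm
    have hm : g * w * g⁻¹ ∈ N := ‹N.Normal›.conj_mem w hw g
    have e : (g * w * g⁻¹) • β = w • β := by
      rw [mul_smul, hginv, mul_smul, hwγ, hγ]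
    have hc : g * w * g⁻¹ = w := eq_of_smul_eq N hreg hm hw e
    exact hw1 (hstep β g hβ hg1 w hw hc)
  refine ⟨?_, ?_⟩
  · intro g hg1
    have : Subsingleton (MulAction.fixedBy Ω g) := by
      constructor
      intro a b
      apply Subtype.ext
      exact hfix g hg1 a.1 b.1 a.2 b.2
    exact Finite.card_le_one_iff_subsingleton.2 this
  -- step (3): the count
  obtain ⟨w₁, w₂, hd₁, hd₂, hnc⟩ := h2
  have hw₁ : w₁ ∈ N := hin w₁ hd₁
  have hw₂ : w₂ ∈ N := hin w₂ hd₂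
  have hw₁1 : w₁ ≠ 1 := by
    intro h; exact hd₁ α (by rw [h, one_smul])
  have hw₂1 : w₂ ≠ 1 := by
    intro h; exact hd₂ α (by rw [h, one_smul])
  let pick : Bool → G := fun b => if b then w₁ else w₂
  have hpickN : ∀ b, pick b ∈ N := by
    intro b; cases b
    · exact hw₂
    · exact hw₁
  have hpick1 : ∀ b, pick b ≠ 1 := by
    intro b; cases b
    · exact hw₂1
    · exact hw₁1
  have hpicknc : ∀ b b', b ≠ b' → ¬ IsConj (pick b) (pick b') := by
    intro b b' hbb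
    cases b <;> cases b'
    · exact absurd rfl hbb
    · exact fun h => hnc h.symm
    · exact hnc
    · exact absurd rfl hbb
  -- conjugation inside `N` is realised by the point stabilizer
  have hconjH : ∀ u ∈ N, ∀ u' ∈ N, IsConj u u' → ∃ h : G, h • α = α ∧ h * u * h⁻¹ = u' := by
    intro u hu u' hu' hcj
    obtain ⟨c, hc⟩ := isConj_iff.1 hcj
    obtain ⟨v, hv, h, hh, rfl⟩ := exists_factor N hNt α c
    refine ⟨h, hh, ?_⟩
    have hm : h * u * h⁻¹ ∈ N := ‹N.Normal›.conj_mem u hu h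
    have e : v * h * u * (v * h)⁻¹ = v * (h * u * h⁻¹) * v⁻¹ := by group
    rw [e, hab v hv _ hm, mul_assoc, mul_inv_cancel, mul_one] at hc
    exact hc
  -- the bijection `(h, b) ↦ (h * pick b * h⁻¹) • α` onto the points other than `α`
  let χ : (MulAction.stabilizer G α) × Bool → {ω : Ω // ω ≠ α} := fun p =>
    ⟨(p.1.1 * pick p.2 * p.1.1⁻¹) • α, by
      apply hder _ (‹N.Normal›.conj_mem _ (hpickN p.2) p.1.1)
      intro h
      apply hpick1 p.2
      have : pick p.2 = p.1.1⁻¹ * (p.1.1 * pick p.2 * p.1.1⁻¹) * p.1.1 := by group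
      rw [this, h]; group⟩
  have hχinj : Function.Injective χ := by
    rintro ⟨⟨h, hh⟩, b⟩ ⟨⟨h', hh'⟩, b'⟩ heq
    have heq' : (h * pick b * h⁻¹) • α = (h' * pick b' * h'⁻¹) • α := congrArg Subtype.val heq
    have e : h * pick b * h⁻¹ = h' * pick b' * h'⁻¹ :=
      eq_of_smul_eq N hreg (‹N.Normal›.conj_mem _ (hpickN b) h)
        (‹N.Normal›.conj_mem _ (hpickN b') h') heq'
    have hbb : b = b' := by
      by_contra hne
      apply hpicknc b b' hne
      rw [isConj_iff]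
      refine ⟨h'⁻¹ * h, ?_⟩
      calc h'⁻¹ * h * pick b * (h'⁻¹ * h)⁻¹ = h'⁻¹ * (h * pick b * h⁻¹) * h' := by group
        _ = pick b' := by rw [e]; group
    subst hbb
    have hk : (h'⁻¹ * h) • α = α := by
      rw [mul_smul, MulAction.mem_stabilizer_iff.1 hh, inv_smul_eq_iff,
        MulAction.mem_stabilizer_iff.1 hh']
    have hkc : (h'⁻¹ * h) * pick b * (h'⁻¹ * h)⁻¹ = pick b := by
      calc h'⁻¹ * h * pick b * (h'⁻¹ * h)⁻¹ = h'⁻¹ * (h * pick b * h⁻¹) * h' := by group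
        _ = pick b := by rw [e]; group
    have hk1 : h'⁻¹ * h = 1 := by
      by_contra hne
      exact hpick1 b (hstep α _ hk hne _ (hpickN b) hkc)
    have : h = h' := by
      calc h = h' * (h'⁻¹ * h) := by group
        _ = h' := by rw [hk1, mul_one]
    subst this
    rfl
  have hχsurj : Function.Surjective χ := by
    rintro ⟨ω, hω⟩
    obtain ⟨u, hu, huω⟩ := exists_mem_smul_eq N hNt α ω
    have hu1 : u ≠ 1 := by
      intro h
      rw [h, one_smul] at huω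
      exact hω huω.symm
    have hdu := hder u hu hu1
    have hcases : IsConj w₁ u ∨ IsConj w₂ u := by
      rcases h3 u w₁ w₂ hdu hd₁ hd₂ with h | h | h
      · exact Or.inl h.symm
      · exact Or.inr h.symm
      · exact absurd h hnc
    rcases hcases with h | h
    · obtain ⟨k, hk, hku⟩ := hconjH w₁ hw₁ u hu h
      refine ⟨(⟨k, MulAction.mem_stabilizer_iff.2 hk⟩, true), ?_⟩
      apply Subtype.ext
      show (k * w₁ * k⁻¹) • α = ω
      rw [hku, huω]
    · obtain ⟨k, hk, hku⟩ := hconjH w₂ hw₂ u hu h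
      refine ⟨(⟨k, MulAction.mem_stabilizer_iff.2 hk⟩, false), ?_⟩
      apply Subtype.ext
      show (k * w₂ * k⁻¹) • α = ω
      rw [hku, huω]
  have hcard : Nat.card ((MulAction.stabilizer G α) × Bool) = Nat.card {ω : Ω // ω ≠ α} :=
    Nat.card_congr (Equiv.ofBijective χ ⟨hχinj, hχsurj⟩)
  have hc1 : Nat.card ((MulAction.stabilizer G α) × Bool) =
      Nat.card (MulAction.stabilizer G α) * 2 := by
    rw [Nat.card_prod, Nat.card_eq_fintype_card (α := Bool), Fintype.card_bool]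
  have hc2 : Nat.card {ω : Ω // ω ≠ α} = Fintype.card Ω - 1 := by
    rw [Nat.card_eq_fintype_card]
    exact Set.card_ne_eq α
  have hmain : 2 * Nat.card (MulAction.stabilizer G α) = Fintype.card Ω - 1 := by
    rw [← hc2, ← hcard, hc1, mul_comm]
  have hpos : 0 < Fintype.card Ω := Fintype.card_pos_iff.2 ⟨α⟩
  refine ⟨?_, hmain⟩
  intro hdvd
  omega

end Cfsg.Agent.Lib.Helper8.DerTwoA
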