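import Mathlib

/-!
# Diagonal symmetric bilinear forms over finite fields of odd characteristic

Orthogonal families `e : ι → V` on a finset `s`; reduction step splitting off a hyperbolic plane;
criterion (in terms of the signed discriminant) for the existence of a totally isotropic subspace
of half the dimension.
-/

set_option autoImplicit false

namespace Cfsg.Agent.Lib.Helper8.DiagForm

open Module

variable {F V ι : Type*} [Field F] [AddCommGroup V] [Module F V] [DecidableEq ι]

/-- pairwise orthogonal on `s` -/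
def Orth (B : LinearMap.BilinForm F V) (s : Finset ι) (e : ι → V) : Prop :=
  ∀ i ∈ s, ∀ j ∈ s, i ≠ j → B (e i) (e j) = 0

/-- nonzero norms on `s` -/
def NZ (B : LinearMap.BilinForm F V) (s : Finset ι) (e : ι → V) : Prop :=
  ∀ i ∈ s, B (e i) (e i) ≠ 0

/-- the product of the norms -/
def disc (B : LinearMap.BilinForm F V) (s : Finset ι) (e : ι → V) : F :=
  ∏ i ∈ s, B (e i) (e i)

/-- the span of the family -/
def Sp (s : Finset ι) (e : ι → V) : Submodule F V := Submodule.span F (e '' (s : Set ι))

/-- totally isotropic -/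
def TI (B : LinearMap.BilinForm F V) (X : Submodule F V) : Prop :=
  ∀ x ∈ X, ∀ y ∈ X, B x y = 0

theorem mem_Sp {s : Finset ι} {e : ι → V} {i : ι} (hi : i ∈ s) : e i ∈ Sp (F := F) s e :=
  Submodule.subset_span ⟨i, hi, rfl⟩

theorem Sp_le {s : Finset ι} {e : ι → V} {S : Submodule F V} (h : ∀ i ∈ s, e i ∈ S) :
    Sp (F := F) s e ≤ S := by
  apply Submodule.span_le.2
  rintro _ ⟨i, hi, rfl⟩
  exact h i hi

/-- a vector orthogonal to the family is orthogonal to its span -/
theorem orth_Sp (B : LinearMap.BilinForm F V) {s : Finset ι} {e : ι → V} {v : V}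
    (h : ∀ i ∈ s, B (e i) v = 0) : ∀ x ∈ Sp (F := F) s e, B x v = 0 := by
  intro x hx
  induction hx using Submodule.span_induction with
  | mem x hx =>
    obtain ⟨i, hi, rfl⟩ := hx
    exact h i hi
  | zero => simp
  | add x y _ _ hx hy => rw [map_add, LinearMap.add_apply, hx, hy, add_zero]
  | smul a x _ hx => rw [map_smul, LinearMap.smul_apply, hx, smul_zero]

section finite
variable [Fintype F]

theorem exists_repr (h2 : (2 : F) ≠ 0) {c₁ c₂ : F} (h₁ : c₁ ≠ 0) (h₂ : c₂ ≠ 0) (c₃ : F) :
    ∃ x y : F, c₁ * x ^ 2 + c₂ * y ^ 2 + c₃ = 0 := by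
  have hch : ringChar F ≠ 2 := by
    intro h
    apply h2
    have := CharP.cast_eq_zero F (ringChar F)
    rw [h] at this
    exact_mod_cast this
  have hodd := FiniteField.odd_card_of_char_ne_two hch
  open Polynomial in
  have hf : degree (C c₁ * X ^ 2 + C 0 * X + C 0 : F[X]) = 2 := degree_quadratic h₁
  open Polynomial in
  have hg : degree (C c₂ * X ^ 2 + C 0 * X + C c₃ : F[X]) = 2 := degree_quadratic h₂
  obtain ⟨a, b, hab⟩ := FiniteField.exists_root_sum_quadratic hf hg hodd
  refine ⟨a, b, ?_⟩
  simp only [Polynomial.eval_add, Polynomial.eval_mul, Polynomial.eval_C, Polynomial.eval_pow,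
    Polynomial.eval_X, zero_mul, add_zero] at hab
  rw [← hab]
  ring

end finite

end Cfsg.Agent.Lib.Helper8.DiagForm
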