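import Mathlib
import Cfsg.Agent.Lib.Helper8.DiagForm

set_option autoImplicit false

namespace Cfsg.Agent.Lib.Helper8.DiagForm

open Module

variable {F V ι : Type*} [Field F] [Fintype F] [AddCommGroup V] [Module F V] [DecidableEq ι]

/-- the reduction step: split off the hyperbolic plane spanned by `v` and `e i₃` -/
theorem reduce {B : LinearMap.BilinForm F V} (hS : B.IsSymm) (h2 : (2 : F) ≠ 0)
    {s : Finset ι} {e : ι → V} (hO : Orth B s e) (hN : NZ B s e) {i₁ i₂ i₃ : ι}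
    (h₁ : i₁ ∈ s) (h₂ : i₂ ∈ s) (h₃ : i₃ ∈ s) (h12 : i₁ ≠ i₂) (h13 : i₁ ≠ i₃) (h23 : i₂ ≠ i₃) :
    ∃ (e' : ι → V) (v : V), Orth B ((s.erase i₁).erase i₃) e' ∧
      NZ B ((s.erase i₁).erase i₃) e' ∧
      disc B ((s.erase i₁).erase i₃) e' = - disc B s e ∧
      B v v = 0 ∧ (∀ j ∈ (s.erase i₁).erase i₃, B (e' j) v = 0) ∧
      Sp (F := F) ((s.erase i₁).erase i₃) e' ≤ Sp s e ∧ v ∈ Sp (F := F) s e ∧
      B (e i₃) v ≠ 0 ∧ (∀ j ∈ (s.erase i₁).erase i₃, B (e' j) (e i₃) = 0) ∧
      Sp (F := F) s e ≤ Submodule.span F {v, e i₃} ⊔ Sp ((s.erase i₁).erase i₃) e' := by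
  set c₁ := B (e i₁) (e i₁) with hc₁
  set c₂ := B (e i₂) (e i₂) with hc₂
  set c₃ := B (e i₃) (e i₃) with hc₃
  have hc₁0 : c₁ ≠ 0 := hN i₁ h₁
  have hc₂0 : c₂ ≠ 0 := hN i₂ h₂
  have hc₃0 : c₃ ≠ 0 := hN i₃ h₃
  obtain ⟨x, y, hxy⟩ := exists_repr h2 hc₁0 hc₂0 c₃
  have o12 : B (e i₁) (e i₂) = 0 := hO i₁ h₁ i₂ h₂ h12
  have o21 : B (e i₂) (e i₁) = 0 := hO i₂ h₂ i₁ h₁ h12.symm
  have o13 : B (e i₁) (e i₃) = 0 := hO i₁ h₁ i₃ h₃ h13
  have o31 : B (e i₃) (e i₁) = 0 := hO i₃ h₃ i₁ h₁ h13.symm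
  have o23 : B (e i₂) (e i₃) = 0 := hO i₂ h₂ i₃ h₃ h23
  have o32 : B (e i₃) (e i₂) = 0 := hO i₃ h₃ i₂ h₂ h23.symm
  set e₁' : V := x • e i₁ + y • e i₂ with he₁'
  set e₂' : V := (-(c₂ * y)) • e i₁ + (c₁ * x) • e i₂ with he₂'
  set s' := (s.erase i₁).erase i₃ with hs'
  have mem_s' : ∀ j, j ∈ s' ↔ j ≠ i₃ ∧ j ≠ i₁ ∧ j ∈ s := by
    intro j
    rw [hs', Finset.mem_erase, Finset.mem_erase]
  have h2s' : i₂ ∈ s' := (mem_s' i₂).2 ⟨h23, h12.symm, h₂⟩
  refine ⟨Function.update e i₂ e₂', e₁' + e i₃, ?_, ?_, ?_, ?_, ?_, ?_, ?_, ?_, ?_, ?_⟩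
  · -- Orth
    intro i hi j hj hij
    rw [mem_s'] at hi hj
    by_cases hi2 : i = i₂
    · subst hi2
      have hj2 : j ≠ i := fun h => hij h.symm
      rw [Function.update_self, Function.update_of_ne hj2]
      have a1 : B (e i₁) (e j) = 0 := hO i₁ h₁ j hj.2.2 (fun h => hj.2.1 h.symm)
      have a2 : B (e i) (e j) = 0 := hO i h₂ j hj.2.2 hij
      rw [he₂', map_add, map_smul, map_smul, LinearMap.add_apply, LinearMap.smul_apply,
        LinearMap.smul_apply, a1, a2]
      simp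
    · by_cases hj2 : j = i₂
      · subst hj2
        rw [Function.update_self, Function.update_of_ne hi2]
        have a1 : B (e i) (e i₁) = 0 := hO i hi.2.2 i₁ h₁ hi.2.1
        have a2 : B (e i) (e j) = 0 := hO i hi.2.2 j h₂ hij
        rw [he₂', map_add, map_smul, map_smul, a1, a2]
        simp
      · rw [Function.update_of_ne hi2, Function.update_of_ne hj2]
        exact hO i hi.2.2 j hj.2.2 hij
  · -- NZ
    intro i hi
    rw [mem_s'] at hi
    by_cases hi2 : i = i₂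
    · subst hi2
      rw [Function.update_self]
      have : B e₂' e₂' = -(c₁ * c₂ * c₃) := by
        rw [he₂']
        simp only [map_add, map_smul, LinearMap.add_apply, LinearMap.smul_apply, smul_eq_mul,
          o12, o21, ← hc₁, ← hc₂]
        linear_combination (c₁ * c₂) * hxy
      rw [this]
      exact neg_ne_zero.2 (mul_ne_zero (mul_ne_zero hc₁0 hc₂0) hc₃0)
    · rw [Function.update_of_ne hi2]
      exact hN i hi.2.2
  · -- disc
    unfold disc
    have e1 : ∏ i ∈ s, B (e i) (e i) = c₁ * (c₃ * (c₂ * ∏ i ∈ s'.erase i₂, B (e i) (e i))) := by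
      rw [← Finset.mul_prod_erase s _ h₁,
        ← Finset.mul_prod_erase (s.erase i₁) _ (Finset.mem_erase.2 ⟨h13.symm, h₃⟩),
        ← Finset.mul_prod_erase s' _ h2s']
    have e2 : ∏ i ∈ s', B (Function.update e i₂ e₂' i) (Function.update e i₂ e₂' i)
        = B e₂' e₂' * ∏ i ∈ s'.erase i₂, B (e i) (e i) := by
      rw [← Finset.mul_prod_erase s' _ h2s', Function.update_self]
      congr 1
      apply Finset.prod_congr rfl
      intro i hi
      rw [Function.update_of_ne (Finset.ne_of_mem_erase hi)]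
    have e3 : B e₂' e₂' = -(c₁ * c₂ * c₃) := by
      rw [he₂']
      simp only [map_add, map_smul, LinearMap.add_apply, LinearMap.smul_apply, smul_eq_mul,
        o12, o21, ← hc₁, ← hc₂]
      linear_combination (c₁ * c₂) * hxy
    rw [e1, e2, e3]
    ring
  · -- B v v = 0
    rw [he₁']
    simp only [map_add, map_smul, LinearMap.add_apply, LinearMap.smul_apply, smul_eq_mul,
      o12, o21, o13, o31, o23, o32, ← hc₁, ← hc₂, ← hc₃]
    linear_combination hxy
  · -- e' j ⊥ v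
    intro j hj
    rw [mem_s'] at hj
    by_cases hj2 : j = i₂
    · subst hj2
      rw [Function.update_self, he₂', he₁']
      simp only [map_add, map_smul, LinearMap.add_apply, LinearMap.smul_apply, smul_eq_mul,
        o12, o21, o13, o23, ← hc₁, ← hc₂]
      ring
    · rw [Function.update_of_ne hj2, he₁']
      have a1 : B (e j) (e i₁) = 0 := hO j hj.2.2 i₁ h₁ hj.2.1
      have a2 : B (e j) (e i₂) = 0 := hO j hj.2.2 i₂ h₂ hj2
      have a3 : B (e j) (e i₃) = 0 := hO j hj.2.2 i₃ h₃ hj.1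
      simp only [map_add, map_smul, smul_eq_mul, a1, a2, a3]
      ring
  · -- Sp s' e' ≤ Sp s e
    apply Sp_le
    intro j hj
    rw [mem_s'] at hj
    by_cases hj2 : j = i₂
    · subst hj2
      rw [Function.update_self, he₂']
      exact Submodule.add_mem _ (Submodule.smul_mem _ _ (mem_Sp h₁))
        (Submodule.smul_mem _ _ (mem_Sp h₂))
    · rw [Function.update_of_ne hj2]
      exact mem_Sp hj.2.2
  · -- v ∈ Sp s e
    rw [he₁']
    exact Submodule.add_mem _ (Submodule.add_mem _ (Submodule.smul_mem _ _ (mem_Sp h₁))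
        (Submodule.smul_mem _ _ (mem_Sp h₂))) (mem_Sp h₃)
  · -- B (e i₃) v ≠ 0
    rw [he₁']
    simp only [map_add, map_smul, smul_eq_mul, o31, o32, ← hc₃]
    simpa using hc₃0
  · -- e' j ⊥ e i₃
    intro j hj
    rw [mem_s'] at hj
    by_cases hj2 : j = i₂
    · subst hj2
      rw [Function.update_self, he₂']
      simp only [map_add, map_smul, LinearMap.add_apply, LinearMap.smul_apply, smul_eq_mul,
        o13, o23]
      ring
    · rw [Function.update_of_ne hj2]
      exact hO j hj.2.2 i₃ h₃ hj.1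
  · -- decomposition
    set T := Submodule.span F {e₁' + e i₃, e i₃} ⊔ Sp (F := F) s' (Function.update e i₂ e₂')
      with hT
    have hv : e₁' + e i₃ ∈ T :=
      Submodule.mem_sup_left (Submodule.subset_span (by simp))
    have h3 : e i₃ ∈ T :=
      Submodule.mem_sup_left (Submodule.subset_span (by simp))
    have h1' : e₁' ∈ T := by
      have := T.sub_mem hv h3
      simpa using this
    have h2' : e₂' ∈ T := by
      apply Submodule.mem_sup_right
      have := mem_Sp (F := F) (e := Function.update e i₂ e₂') h2s'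
      rwa [Function.update_self] at this
    have hne : c₁ * x ^ 2 + c₂ * y ^ 2 ≠ 0 := by
      intro h
      apply hc₃0
      rw [h, zero_add] at hxy
      exact hxy
    have k1 : (c₁ * x ^ 2 + c₂ * y ^ 2) • e i₁ = (c₁ * x) • e₁' - y • e₂' := by
      rw [he₁', he₂']
      module
    have k2 : (c₁ * x ^ 2 + c₂ * y ^ 2) • e i₂ = (c₂ * y) • e₁' + x • e₂' := by
      rw [he₁', he₂']
      module
    have m1 : e i₁ ∈ T := by
      have : (c₁ * x ^ 2 + c₂ * y ^ 2) • e i₁ ∈ T := by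
        rw [k1]
        exact T.sub_mem (T.smul_mem _ h1') (T.smul_mem _ h2')
      have := T.smul_mem (c₁ * x ^ 2 + c₂ * y ^ 2)⁻¹ this
      rwa [smul_smul, inv_mul_cancel₀ hne, one_smul] at this
    have m2 : e i₂ ∈ T := by
      have : (c₁ * x ^ 2 + c₂ * y ^ 2) • e i₂ ∈ T := by
        rw [k2]
        exact T.add_mem (T.smul_mem _ h1') (T.smul_mem _ h2')
      have := T.smul_mem (c₁ * x ^ 2 + c₂ * y ^ 2)⁻¹ this
      rwa [smul_smul, inv_mul_cancel₀ hne, one_smul] at this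
    apply Sp_le
    intro j hj
    by_cases hj1 : j = i₁
    · rw [hj1]; exact m1
    by_cases hj2 : j = i₂
    · rw [hj2]; exact m2
    by_cases hj3 : j = i₃
    · rw [hj3]; exact h3
    apply Submodule.mem_sup_right
    have := mem_Sp (F := F) (e := Function.update e i₂ e₂') ((mem_s' j).2 ⟨hj3, hj1, hj⟩)
    rwa [Function.update_of_ne hj2] at this

end Cfsg.Agent.Lib.Helper8.DiagForm
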