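import Mathlib
import Cfsg.Agent.Lib.Helper8.DiagForm2

set_option autoImplicit false

namespace Cfsg.Agent.Lib.Helper8.DiagForm

open Module

variable {F V ι : Type*} [Field F] [Fintype F] [AddCommGroup V] [Module F V] [DecidableEq ι]
variable [FiniteDimensional F V]

omit [Fintype F] [DecidableEq ι] in
theorem finrank_span_singleton_le (v : V) : finrank F ↥(F ∙ v) ≤ 1 := by
  have := finrank_span_le_card (R := F) ({v} : Set V)
  simpa using this

omit [Fintype F] [DecidableEq ι] in
theorem finrank_sup_span_singleton {X : Submodule F V} {v : V} (hv : v ∉ X) :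
    finrank F ↥(X ⊔ (F ∙ v)) = finrank F X + 1 := by
  have h1 := Submodule.finrank_add_le_finrank_add_finrank X (F ∙ v)
  have h2 := finrank_span_singleton_le (F := F) v
  have hlt : X < X ⊔ (F ∙ v) := by
    apply lt_of_le_of_ne le_sup_left
    intro heq
    apply hv
    rw [heq]
    exact Submodule.mem_sup_right (Submodule.mem_span_singleton_self v)
  have h3 := Submodule.finrank_lt_finrank_of_lt hlt
  omega

omit [Fintype F] [DecidableEq ι] [FiniteDimensional F V] in
/-- adding an isotropic vector orthogonal to a t.i. subspace -/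
theorem TI_sup_span {B : LinearMap.BilinForm F V} (hS : B.IsSymm) {X : Submodule F V}
    (hX : TI B X) {v : V} (hv : B v v = 0) (hXv : ∀ x ∈ X, B x v = 0) :
    TI B (X ⊔ (F ∙ v)) := by
  intro x hx y hy
  obtain ⟨x', hx', z, hz, rfl⟩ := Submodule.mem_sup.1 hx
  obtain ⟨y', hy', w, hw, rfl⟩ := Submodule.mem_sup.1 hy
  obtain ⟨a, rfl⟩ := Submodule.mem_span_singleton.1 hz
  obtain ⟨b, rfl⟩ := Submodule.mem_span_singleton.1 hw
  have h1 : B v y' = 0 := by rw [hS.eq]; exact hXv y' hy'
  simp only [map_add, map_smul, LinearMap.add_apply, LinearMap.smul_apply, smul_eq_mul,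
    hX x' hx' y' hy', hXv x' hx', h1, hv]
  ring

/-- existence of a totally isotropic subspace of half the dimension -/
theorem exists_TI {B : LinearMap.BilinForm F V} (hS : B.IsSymm) (h2 : (2 : F) ≠ 0) :
    ∀ (N : ℕ) (s : Finset ι) (e : ι → V), s.card = 2 * N → Orth B s e → NZ B s e →
      IsSquare ((-1) ^ N * disc B s e) →
      ∃ X : Submodule F V, X ≤ Sp s e ∧ finrank F X = N ∧ TI B X := by
  intro N
  induction N with
  | zero =>
    intro s e _ _ _ _
    refine ⟨⊥, bot_le, finrank_bot F V, ?_⟩
    intro x hx y _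
    rw [(Submodule.mem_bot F).1 hx]
    simp
  | succ N ih =>
    intro s e hcard hO hN hsq
    rcases Nat.eq_zero_or_pos N with hN0 | hNpos
    · -- two vectors
      subst hN0
      obtain ⟨i₁, i₂, h12, rfl⟩ := Finset.card_eq_two.1 (by simpa using hcard)
      have h₁ : i₁ ∈ ({i₁, i₂} : Finset ι) := by simp
      have h₂ : i₂ ∈ ({i₁, i₂} : Finset ι) := by simp
      have o12 := hO i₁ h₁ i₂ h₂ h12
      have o21 := hO i₂ h₂ i₁ h₁ h12.symm
      have hd : disc B {i₁, i₂} e = B (e i₁) (e i₁) * B (e i₂) (e i₂) := by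
        unfold disc
        rw [Finset.prod_pair h12]
      rw [hd] at hsq
      obtain ⟨r, hr⟩ := hsq
      set c₁ := B (e i₁) (e i₁) with hc₁
      set c₂ := B (e i₂) (e i₂) with hc₂
      have hc₁0 : c₁ ≠ 0 := hN i₁ h₁
      have hc₂0 : c₂ ≠ 0 := hN i₂ h₂
      set v : V := r • e i₁ + c₁ • e i₂ with hv
      have hvv : B v v = 0 := by
        rw [hv]
        simp only [map_add, map_smul, LinearMap.add_apply, LinearMap.smul_apply, smul_eq_mul,
          o12, o21, ← hc₁, ← hc₂]
        linear_combination (-c₁) * hr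
      have hv0 : v ≠ 0 := by
        intro h
        have : B v (e i₂) = c₁ * c₂ := by
          rw [hv]
          simp only [map_add, map_smul, LinearMap.add_apply, LinearMap.smul_apply, smul_eq_mul,
            o12, ← hc₂]
          ring
        rw [h] at this
        simp at this
        rcases this.symm with h | h
        · exact hc₂0 h
        · exact hc₁0 h
      refine ⟨F ∙ v, ?_, finrank_span_singleton hv0, ?_⟩
      · rw [Submodule.span_singleton_le_iff_mem, hv]
        exact Submodule.add_mem _ (Submodule.smul_mem _ _ (mem_Sp h₁))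
          (Submodule.smul_mem _ _ (mem_Sp h₂))
      · intro x hx y hy
        obtain ⟨a, rfl⟩ := Submodule.mem_span_singleton.1 hx
        obtain ⟨b, rfl⟩ := Submodule.mem_span_singleton.1 hy
        simp only [map_smul, LinearMap.smul_apply, hvv, smul_zero]
    · -- at least four vectors
      have h3 : 2 < s.card := by omega
      obtain ⟨i₁, i₂, i₃, h₁, h₂, h₃, h12, h13, h23⟩ := Finset.two_lt_card_iff.1 h3
      obtain ⟨e', v, hO', hN', hd', hvv, hev, hSp, hvS, hv3, he3, _⟩ :=
        reduce hS h2 hO hN h₁ h₂ h₃ h12 h13 h23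
      have hcard' : ((s.erase i₁).erase i₃).card = 2 * N := by
        rw [Finset.card_erase_of_mem (Finset.mem_erase.2 ⟨h13.symm, h₃⟩),
          Finset.card_erase_of_mem h₁]
        omega
      have hsq' : IsSquare ((-1) ^ N * disc B ((s.erase i₁).erase i₃) e') := by
        rw [hd']
        have : (-1 : F) ^ N * -disc B s e = (-1) ^ (N + 1) * disc B s e := by ring
        rw [this]
        exact hsq
      obtain ⟨X', hX'S, hX'r, hX'T⟩ := ih _ e' hcard' hO' hN' hsq'
      have hX'v : ∀ x ∈ X', B x v = 0 := fun x hx => orth_Sp B hev x (hX'S hx)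
      have hvX' : v ∉ X' := by
        intro h
        have h0 := orth_Sp B he3 v (hX'S h)
        apply hv3
        rw [hS.eq]
        exact h0
      refine ⟨X' ⊔ (F ∙ v), ?_, ?_, TI_sup_span hS hX'T hvv hX'v⟩
      · apply sup_le (hX'S.trans hSp)
        rw [Submodule.span_singleton_le_iff_mem]
        exact hvS
      · rw [finrank_sup_span_singleton hvX', hX'r]

end Cfsg.Agent.Lib.Helper8.DiagForm
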