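import Mathlib
import Cfsg.Agent.Lib.Helper8.DiagForm3

set_option autoImplicit false

namespace Cfsg.Agent.Lib.Helper8.DiagForm

open Module

variable {F V ι : Type*} [Field F] [Fintype F] [AddCommGroup V] [Module F V] [DecidableEq ι]
variable [FiniteDimensional F V]

omit [Fintype F] [DecidableEq ι] [FiniteDimensional F V] in
theorem TI.mono {B : LinearMap.BilinForm F V} {X Y : Submodule F V} (hX : TI B X) (h : Y ≤ X) :
    TI B Y := fun x hx y hy => hX x (h hx) y (h hy)

/-- a totally isotropic subspace of half the dimension forces the signed discriminant to be a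
square -/
theorem isSquare_of_TI {B : LinearMap.BilinForm F V} (hS : B.IsSymm) (h2 : (2 : F) ≠ 0) :
    ∀ (N : ℕ) (s : Finset ι) (e : ι → V), s.card = 2 * N → Orth B s e → NZ B s e →
      (∃ X : Submodule F V, X ≤ Sp s e ∧ TI B X ∧ N ≤ finrank F X) →
      IsSquare ((-1) ^ N * disc B s e) := by
  intro N
  induction N with
  | zero =>
    intro s e hcard _ _ _
    have : s = ∅ := Finset.card_eq_zero.1 (by simpa using hcard)
    subst this
    unfold disc
    simp
  | succ N ih =>
    intro s e hcard hO hN hX
    obtain ⟨X, hXS, hXT, hXr⟩ := hX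
    rcases Nat.eq_zero_or_pos N with hN0 | hNpos
    · -- two vectors
      subst hN0
      obtain ⟨i₁, i₂, h12, rfl⟩ := Finset.card_eq_two.1 (by simpa using hcard)
      have h₁ : i₁ ∈ ({i₁, i₂} : Finset ι) := by simp
      have h₂ : i₂ ∈ ({i₁, i₂} : Finset ι) := by simp
      have o12 := hO i₁ h₁ i₂ h₂ h12
      have o21 := hO i₂ h₂ i₁ h₁ h12.symm
      have hd : disc B {i₁, i₂} e = B (e i₁) (e i₁) * B (e i₂) (e i₂) := by
        unfold disc
        rw [Finset.prod_pair h12]
      rw [hd]
      set c₁ := B (e i₁) (e i₁) with hc₁
      set c₂ := B (e i₂) (e i₂) with hc₂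
      have hc₁0 : c₁ ≠ 0 := hN i₁ h₁
      have hc₂0 : c₂ ≠ 0 := hN i₂ h₂
      have hXne : X ≠ ⊥ := by
        intro h
        rw [h, finrank_bot] at hXr
        omega
      obtain ⟨x, hxX, hx0⟩ := Submodule.exists_mem_ne_zero_of_ne_bot hXne
      have hxS := hXS hxX
      have hSp : Sp (F := F) ({i₁, i₂} : Finset ι) e = Submodule.span F {e i₁, e i₂} := by
        unfold Sp
        congr 1
        ext z
        simp [eq_comm]
      rw [hSp, Submodule.mem_span_pair] at hxS
      obtain ⟨a, b, rfl⟩ := hxS
      have hxx := hXT _ hxX _ hxX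
      simp only [map_add, map_smul, LinearMap.add_apply, LinearMap.smul_apply, smul_eq_mul,
        o12, o21, ← hc₁, ← hc₂] at hxx
      have ha : a ≠ 0 := by
        intro ha
        rw [ha] at hxx hx0
        have hb : b = 0 := by
          by_contra hb
          have : b * (b * c₂) ≠ 0 := mul_ne_zero hb (mul_ne_zero hb hc₂0)
          apply this
          linear_combination hxx
        apply hx0
        rw [hb]
        simp
      refine ⟨c₂ * b / a, ?_⟩
      rw [div_mul_div_comm, eq_div_iff (mul_ne_zero ha ha)]
      linear_combination (-c₂) * hxx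
    · -- at least four vectors
      have h3 : 2 < s.card := by omega
      obtain ⟨i₁, i₂, i₃, h₁, h₂, h₃, h12, h13, h23⟩ := Finset.two_lt_card_iff.1 h3
      obtain ⟨e', v, hO', hN', hd', hvv, hev, hSp, hvS, hv3, he3, hdec⟩ :=
        reduce hS h2 hO hN h₁ h₂ h₃ h12 h13 h23
      set s' := (s.erase i₁).erase i₃ with hs'
      have hcard' : s'.card = 2 * N := by
        rw [hs', Finset.card_erase_of_mem (Finset.mem_erase.2 ⟨h13.symm, h₃⟩),
          Finset.card_erase_of_mem h₁]
        omega
      -- the subspace W = ⟨v⟩ ⊔ S'
      set S' := Sp (F := F) s' e' with hS'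
      set W := (F ∙ v) ⊔ S' with hW
      have hvW : ∀ w ∈ W, B w v = 0 := by
        intro w hw
        obtain ⟨z, hz, w', hw', rfl⟩ := Submodule.mem_sup.1 hw
        obtain ⟨a, rfl⟩ := Submodule.mem_span_singleton.1 hz
        rw [map_add, LinearMap.add_apply, orth_Sp B hev w' hw', map_smul, LinearMap.smul_apply,
          hvv]
        simp
      have hWS : W ≤ Sp s e := by
        apply sup_le _ hSp
        rw [Submodule.span_singleton_le_iff_mem]
        exact hvS
      -- S ≤ ⟨e i₃⟩ ⊔ W
      have hSW : Sp (F := F) s e ≤ (F ∙ e i₃) ⊔ W := by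
        refine hdec.trans ?_
        apply sup_le
        · apply Submodule.span_le.2
          intro z hz
          rcases hz with rfl | rfl
          · exact Submodule.mem_sup_right (Submodule.mem_sup_left
              (Submodule.mem_span_singleton_self _))
          · exact Submodule.mem_sup_left (Submodule.mem_span_singleton_self _)
        · exact le_sup_of_le_right le_sup_right
      have hfrS : finrank F ↥(Sp (F := F) s e) ≤ finrank F W + 1 := by
        have h1 := Submodule.finrank_mono hSW
        have h2' := Submodule.finrank_add_le_finrank_add_finrank (F ∙ e i₃) W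
        have h3' := finrank_span_singleton_le (F := F) (e i₃)
        omega
      -- elements of S orthogonal to v lie in W
      have hperp : ∀ x ∈ Sp (F := F) s e, B x v = 0 → x ∈ W := by
        intro x hx hxv
        obtain ⟨z, hz, w, hw, rfl⟩ := Submodule.mem_sup.1 (hSW hx)
        obtain ⟨a, rfl⟩ := Submodule.mem_span_singleton.1 hz
        rw [map_add, LinearMap.add_apply, hvW w hw, add_zero, map_smul, LinearMap.smul_apply,
          smul_eq_mul] at hxv
        have ha : a = 0 := by
          rcases mul_eq_zero.1 hxv with h | h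
          · exact h
          · exact absurd h hv3
        rw [ha, zero_smul, zero_add]
        exact hw
      -- a t.i. subspace Y ∋ v inside W of dimension ≥ N + 1
      obtain ⟨Y, hYW, hYT, hvY, hYr⟩ : ∃ Y : Submodule F V, Y ≤ W ∧ TI B Y ∧ v ∈ Y ∧
          N + 1 ≤ finrank F Y := by
        by_cases hvX : v ∈ X
        · refine ⟨X, ?_, hXT, hvX, hXr⟩
          intro x hx
          exact hperp x (hXS hx) (hXT x hx v hvX)
        · refine ⟨(X ⊓ W) ⊔ (F ∙ v), ?_, ?_, ?_, ?_⟩
          · apply sup_le inf_le_right
            rw [Submodule.span_singleton_le_iff_mem]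
            exact Submodule.mem_sup_left (Submodule.mem_span_singleton_self _)
          · apply TI_sup_span hS (hXT.mono inf_le_left) hvv
            intro x hx
            exact hvW x hx.2
          · exact Submodule.mem_sup_right (Submodule.mem_span_singleton_self _)
          · have hv' : v ∉ X ⊓ W := fun h => hvX h.1
            rw [finrank_sup_span_singleton hv']
            have h1 := Submodule.finrank_sup_add_finrank_inf_eq X W
            have h2' : finrank F ↥(X ⊔ W) ≤ finrank F ↥(Sp (F := F) s e) :=
              Submodule.finrank_mono (sup_le hXS hWS)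
            omega
      -- cut down to S'
      have hmod : Y = (F ∙ v) ⊔ (Y ⊓ S') := by
        have hvle : (F ∙ v) ≤ Y := by
          rw [Submodule.span_singleton_le_iff_mem]; exact hvY
        apply le_antisymm
        · intro y hy
          obtain ⟨z, hz, w, hw, rfl⟩ := Submodule.mem_sup.1 (hYW hy)
          refine Submodule.add_mem _ (Submodule.mem_sup_left hz) (Submodule.mem_sup_right ⟨?_, hw⟩)
          have := Y.sub_mem hy (hvle hz)
          simpa using this
        · exact sup_le hvle inf_le_left
      have hfr : N ≤ finrank F ↥(Y ⊓ S') := by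
        have h1 := Submodule.finrank_add_le_finrank_add_finrank (F ∙ v) (Y ⊓ S')
        have h2' := finrank_span_singleton_le (F := F) v
        rw [← hmod] at h1
        omega
      have := ih s' e' hcard' hO' hN' ⟨Y ⊓ S', inf_le_right, hYT.mono inf_le_left, hfr⟩
      rw [hd'] at this
      have h4 : (-1 : F) ^ N * -disc B s e = (-1) ^ (N + 1) * disc B s e := by ring
      rw [h4] at this
      exact this

end Cfsg.Agent.Lib.Helper8.DiagForm
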