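import Mathlib
import Cfsg.Agent.Lib.Helper8.DiagForm

/-!
# Matrices with scalar square: non-eigenvectors, centralizer elements of prescribed determinant,
`SL`-conjugacy from `GL`-conjugacy (helper8)
-/

set_option autoImplicit false
set_option linter.unusedSectionVars false

namespace Cfsg.Agent.Lib.Helper8.GSpForm

open Matrix

variable {n : ℕ} {F : Type*} [Field F]

/-- a non-scalar matrix has a vector which is not an eigenvector -/
theorem exists_noneigen (X : Matrix (Fin n) (Fin n) F)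
    (hX : ∀ z : F, X ≠ z • (1 : Matrix (Fin n) (Fin n) F)) :
    ∃ v : Fin n → F, ∀ c : F, X *ᵥ v ≠ c • v := by
  classical
  by_contra h
  push Not at h
  choose c hc using h
  rcases Nat.eq_zero_or_pos n with h0 | hpos
  · subst h0
    exact hX 0 (Subsingleton.elim _ _)
  set i₀ : Fin n := ⟨0, hpos⟩ with hi₀
  set c₀ := c (Pi.single i₀ 1) with hc₀
  have hcol : ∀ j : Fin n, X *ᵥ (Pi.single j 1) = c (Pi.single j 1) • Pi.single j 1 := fun j => hc _
  have hcj : ∀ j : Fin n, c (Pi.single j 1) = c₀ := by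
    intro j
    by_cases hj : j = i₀
    · rw [hj]
    · have h1 := hc (Pi.single j 1 + Pi.single i₀ 1)
      rw [Matrix.mulVec_add, hcol j, hcol i₀] at h1
      have h2 := congrFun h1 j
      have h3 := congrFun h1 i₀
      simp only [Pi.add_apply, Pi.smul_apply, Pi.single_eq_same, smul_eq_mul, mul_one,
        Pi.single_eq_of_ne hj, Pi.single_eq_of_ne (Ne.symm hj), mul_zero, add_zero, zero_add] at h2 h3
      rw [h2, ← h3]
  apply hX c₀
  ext i j
  have h1 := congrFun (hcol j) i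
  rw [Matrix.mulVec_single_one, hcj j] at h1
  rw [Matrix.smul_apply, Matrix.one_apply, smul_eq_mul]
  simp only [Matrix.col_apply, Pi.smul_apply, smul_eq_mul, Pi.single_apply] at h1
  rw [h1]

/-- a functional separating `v` and `X v` -/
theorem exists_sep (X : Matrix (Fin n) (Fin n) F) (v : Fin n → F)
    (hv : ∀ c : F, X *ᵥ v ≠ c • v) :
    ∃ w : Fin n → F, w ⬝ᵥ v = 0 ∧ w ⬝ᵥ (X *ᵥ v) = 1 := by
  classical
  have hnot : X *ᵥ v ∉ Submodule.span F {v} := by
    intro hmem
    obtain ⟨c, hc⟩ := Submodule.mem_span_singleton.1 hmem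
    exact hv c hc.symm
  obtain ⟨φ, hφ1, hφ2⟩ := Submodule.exists_dual_map_eq_bot_of_notMem hnot inferInstance
  have hφv : φ v = 0 := by
    have : φ v ∈ (Submodule.span F {v}).map φ :=
      Submodule.mem_map_of_mem (Submodule.mem_span_singleton_self v)
    rw [hφ2] at this
    exact (Submodule.mem_bot F).1 this
  set w : Fin n → F := fun i => (φ (X *ᵥ v))⁻¹ * φ (Pi.single i 1) with hw
  have hdot : ∀ u : Fin n → F, w ⬝ᵥ u = (φ (X *ᵥ v))⁻¹ * φ u := by
    intro u
    have h1 : φ u = ∑ i, u i * φ (Pi.single i 1) := by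
      conv_lhs => rw [pi_eq_sum_univ' u]
      rw [map_sum]
      apply Finset.sum_congr rfl
      intro i _
      rw [map_smul, smul_eq_mul]
    rw [h1, dotProduct, Finset.mul_sum]
    apply Finset.sum_congr rfl
    intro i _
    rw [hw]
    ring
  refine ⟨w, ?_, ?_⟩
  · rw [hdot, hφv, mul_zero]
  · rw [hdot, inv_mul_cancel₀ hφ1]

/-- centralizer elements with determinant any value of the norm form `a² - z b²` -/
theorem exists_centralizer_det (X : Matrix (Fin n) (Fin n) F) (z : F)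
    (hXz : X * X = z • (1 : Matrix (Fin n) (Fin n) F))
    (v : Fin n → F) (hv : ∀ c : F, X *ᵥ v ≠ c • v) (a b : F) :
    ∃ Z : Matrix (Fin n) (Fin n) F, Z * X = X * Z ∧ Z.det = a ^ 2 - z * b ^ 2 := by
  classical
  obtain ⟨w, hwv, hwXv⟩ := exists_sep X v hv
  have hXX : ∀ u : Fin n → F, X *ᵥ (X *ᵥ u) = z • u := by
    intro u
    rw [Matrix.mulVec_mulVec, hXz, Matrix.smul_mulVec, Matrix.one_mulVec]
  set a₁ : Fin n → F := (a - 1) • v + b • (X *ᵥ v) with ha₁
  set a₂ : Fin n → F := (a - 1) • (X *ᵥ v) + (b * z) • v with ha₂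
  set ψ₁ : Fin n → F := w ᵥ* X with hψ₁
  have hXa₁ : X *ᵥ a₁ = a₂ := by
    rw [ha₁, ha₂, Matrix.mulVec_add, Matrix.mulVec_smul, Matrix.mulVec_smul, hXX, smul_smul]
  have hXa₂ : X *ᵥ a₂ = z • a₁ := by
    rw [ha₁, ha₂, Matrix.mulVec_add, Matrix.mulVec_smul, Matrix.mulVec_smul, hXX, smul_add,
      smul_smul, smul_smul, smul_smul, mul_comm (a - 1) z, mul_comm b z]
  have hψ₁X : ψ₁ ᵥ* X = z • w := by
    rw [hψ₁, Matrix.vecMul_vecMul, hXz, Matrix.vecMul_smul, Matrix.vecMul_one]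
  have hψdot : ∀ u : Fin n → F, ψ₁ ⬝ᵥ u = w ⬝ᵥ (X *ᵥ u) := by
    intro u
    rw [hψ₁, Matrix.dotProduct_mulVec]
  set A : Matrix (Fin n) (Fin 2) F := Matrix.of (fun i j => if j = 0 then a₁ i else a₂ i) with hA
  set B : Matrix (Fin 2) (Fin n) F := Matrix.of (fun j i => if j = 0 then ψ₁ i else w i) with hB
  have hAB : A * B = Matrix.vecMulVec a₁ ψ₁ + Matrix.vecMulVec a₂ w := by
    ext i k
    rw [Matrix.mul_apply, Fin.sum_univ_two, Matrix.add_apply, Matrix.vecMulVec_apply,
      Matrix.vecMulVec_apply]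
    simp [hA, hB]
  refine ⟨1 + A * B, ?_, ?_⟩
  · rw [Matrix.add_mul, Matrix.mul_add, Matrix.one_mul, Matrix.mul_one, hAB, Matrix.add_mul,
      Matrix.mul_add]
    congr 1
    have e1 : Matrix.vecMulVec a₁ ψ₁ * X = Matrix.vecMulVec a₁ (z • w) := by
      rw [Matrix.vecMulVec_mul, hψ₁X]
    have e2 : Matrix.vecMulVec a₂ w * X = Matrix.vecMulVec a₂ ψ₁ := by
      rw [Matrix.vecMulVec_mul]
    have e3 : X * Matrix.vecMulVec a₁ ψ₁ = Matrix.vecMulVec a₂ ψ₁ := by
      rw [Matrix.mul_vecMulVec, hXa₁]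
    have e4 : X * Matrix.vecMulVec a₂ w = Matrix.vecMulVec (z • a₁) w := by
      rw [Matrix.mul_vecMulVec, hXa₂]
    rw [e1, e2, e3, e4, add_comm]
    congr 1
    ext i k
    simp only [Matrix.vecMulVec_apply, Pi.smul_apply, smul_eq_mul]
    ring
  · rw [Matrix.det_one_add_mul_comm, Matrix.det_fin_two]
    have hBA : ∀ j j' : Fin 2, (B * A) j j' =
        (if j = 0 then ψ₁ else w) ⬝ᵥ (if j' = 0 then a₁ else a₂) := by
      intro j j'
      rw [Matrix.mul_apply, dotProduct]
      apply Finset.sum_congr rfl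
      intro i _
      simp only [hA, hB, Matrix.of_apply]
      split_ifs <;> rfl
    have d11 : ψ₁ ⬝ᵥ a₁ = a - 1 := by
      rw [hψdot, hXa₁, ha₂, dotProduct_add, dotProduct_smul, dotProduct_smul, hwXv, hwv]
      simp
    have d12 : ψ₁ ⬝ᵥ a₂ = b * z := by
      rw [hψdot, hXa₂, ha₁, dotProduct_smul, dotProduct_add, dotProduct_smul, dotProduct_smul,
        hwXv, hwv]
      simp
      ring
    have d21 : w ⬝ᵥ a₁ = b := by
      rw [ha₁, dotProduct_add, dotProduct_smul, dotProduct_smul, hwXv, hwv]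
      simp
    have d22 : w ⬝ᵥ a₂ = a - 1 := by
      rw [ha₂, dotProduct_add, dotProduct_smul, dotProduct_smul, hwXv, hwv]
      simp
    simp only [Matrix.add_apply, hBA, Matrix.one_apply_eq, if_true,
      Matrix.one_apply_ne (show (0 : Fin 2) ≠ 1 by decide),
      Matrix.one_apply_ne (show (1 : Fin 2) ≠ 0 by decide),
      if_neg (show ¬ (1 : Fin 2) = 0 by decide), d11, d12, d21, d22]
    ring

/-- over a finite field the norm form `a² - z b²` (`z ≠ 0`) represents every element -/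
theorem exists_norm [Fintype F] (z : F) (hz : z ≠ 0) (t : F) : ∃ a b : F, a ^ 2 - z * b ^ 2 = t := by
  by_cases h2 : (2 : F) = 0
  · -- characteristic two: every element is a square
    have : CharP F 2 := CharTwo.of_one_ne_zero_of_two_eq_zero one_ne_zero h2
    obtain ⟨r, hr⟩ := FiniteField.isSquare_of_char_two (ringChar.eq F 2) t
    refine ⟨r, 0, ?_⟩
    rw [hr]
    ring
  · obtain ⟨x, y, hxy⟩ := Cfsg.Agent.Lib.Helper8.DiagForm.exists_repr h2 (one_ne_zero)
      (neg_ne_zero.2 hz) (-t)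
    refine ⟨x, y, ?_⟩
    linear_combination hxy

end Cfsg.Agent.Lib.Helper8.GSpForm
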