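import Mathlib
import Cfsg.Agent.Lib.Helper5.SympCount
import Cfsg.Agent.Lib.Helper5.Symp

/-!
# Symplectic bases and isometries onto the standard symplectic space (helper8)
-/

set_option autoImplicit false

namespace Cfsg.Agent.Lib.Helper8.SympBasis

open Cfsg Cfsg.Agent.Lib.Helper5.SympCount Cfsg.Agent.Lib.Helper5.Symp

universe u v

variable {F : Type v} [Field F]

/-- existence of symplectic families of full length -/
theorem exists_SB : ∀ (k : ℕ) (U : Type u) [AddCommGroup U] [Module F U] [FiniteDimensional F U]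
    (B : LinearMap.BilinForm F U), B.IsAlt → B.Nondegenerate → Module.finrank F U = 2 * k →
    ∃ p : (Fin k → U) × (Fin k → U), IsSB B k p := by
  intro k
  induction k with
  | zero =>
    intro U _ _ _ B _ _ _
    exact ⟨(Fin.elim0, Fin.elim0), fun i => i.elim0, fun i => i.elim0, fun i => i.elim0⟩
  | succ k ih =>
    intro U _ _ _ B hA hB hrank
    have hpos : 0 < Module.finrank F U := by omega
    have : Nontrivial U := Module.nontrivial_of_finrank_pos hpos
    obtain ⟨e, he⟩ : ∃ e : U, e ≠ 0 := exists_ne 0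
    obtain ⟨f₀, hf₀⟩ : ∃ f₀, B e f₀ ≠ 0 := by
      by_contra hno
      apply he
      apply hB.1
      intro y
      by_contra h
      exact hno ⟨y, h⟩
    have hef : B e ((B e f₀)⁻¹ • f₀) = 1 := by
      rw [map_smul, smul_eq_mul, inv_mul_cancel₀ hf₀]
    have hr := finrank_perp hA hef
    have hnd := restrict_perp_nondegenerate hB hA hef
    have hA' : (B.restrict (perp B e ((B e f₀)⁻¹ • f₀))).IsAlt := fun x => hA x
    obtain ⟨p', hp'⟩ := ih (perp B e ((B e f₀)⁻¹ • f₀)) (B.restrict (perp B e ((B e f₀)⁻¹ • f₀)))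
      hA' hnd (by omega)
    exact ⟨_, isSB_cons hA k hef ⟨p', hp'⟩⟩

section
variable {U : Type u} [AddCommGroup U] [Module F U] {B : LinearMap.BilinForm F U}

/-- the family `inl i ↦ f_i`, `inr i ↦ e_i` attached to a symplectic family `(e, f)` -/
def fam {k : ℕ} (p : (Fin k → U) × (Fin k → U)) : Fin k ⊕ Fin k → U := Sum.elim p.2 p.1

theorem fam_form (hA : B.IsAlt) {k : ℕ} {p : (Fin k → U) × (Fin k → U)} (hp : IsSB B k p)
    (x y : Fin k ⊕ Fin k) : B (fam p x) (fam p y) = Matrix.J (Fin k) F x y := by
  obtain ⟨h1, h2, h3⟩ := hp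
  rcases x with i | i <;> rcases y with j | j
  · simp [fam, Matrix.J, h3]
  · simp only [fam, Sum.elim_inl, Sum.elim_inr, Matrix.J, Matrix.fromBlocks_apply₁₂]
    rw [← hA.neg_eq, h1 j i]
    by_cases hij : i = j
    · subst hij; simp
    · rw [if_neg (Ne.symm hij)]; simp [hij]
  · simp only [fam, Sum.elim_inl, Sum.elim_inr, Matrix.J, Matrix.fromBlocks_apply₂₁]
    rw [h1 i j]
    simp [Matrix.one_apply]
  · simp [fam, Matrix.J, h2]

theorem fam_linearIndependent (hA : B.IsAlt) {k : ℕ} {p : (Fin k → U) × (Fin k → U)}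
    (hp : IsSB B k p) : LinearIndependent F (fam p) := by
  rw [Fintype.linearIndependent_iff]
  intro g hg y
  have key : ∀ z : Fin k ⊕ Fin k, ∑ x, g x * Matrix.J (Fin k) F x z = 0 := by
    intro z
    have h1 : B (∑ x, g x • fam p x) (fam p z) = 0 := by rw [hg]; simp
    rw [map_sum] at h1
    simp only [LinearMap.sum_apply, map_smul, LinearMap.smul_apply, smul_eq_mul,
      fam_form hA hp] at h1
    exact h1
  rcases y with j | j
  · have := key (Sum.inr j)
    simp only [Fintype.sum_sum_type, Matrix.J, Matrix.fromBlocks_apply₁₂, Matrix.fromBlocks_apply₂₂,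
      Matrix.neg_apply, Matrix.one_apply, Matrix.zero_apply, mul_zero, Finset.sum_const_zero,
      add_zero] at this
    simpa using this
  · have := key (Sum.inl j)
    simp only [Fintype.sum_sum_type, Matrix.J, Matrix.fromBlocks_apply₁₁, Matrix.fromBlocks_apply₂₁,
      Matrix.one_apply, Matrix.zero_apply, mul_zero, Finset.sum_const_zero,
      zero_add] at this
    simpa using this

end

/-- an isometry from a nondegenerate alternating space of dimension `2k` onto the standard one -/
theorem exists_isometry (k : ℕ) (U : Type u) [AddCommGroup U] [Module F U] [FiniteDimensional F U]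
    (B : LinearMap.BilinForm F U) (hA : B.IsAlt) (hB : B.Nondegenerate)
    (hrank : Module.finrank F U = 2 * k) :
    ∃ φ : U ≃ₗ[F] (Fin k ⊕ Fin k → F), ∀ u v, sympForm k F (φ u) (φ v) = B u v := by
  obtain ⟨p, hp⟩ := exists_SB k U B hA hB hrank
  have hli := fam_linearIndependent hA hp
  rcases Nat.eq_zero_or_pos k with hk0 | hkpos
  · subst hk0
    have hsub : Subsingleton U := by
      rw [← Module.finrank_zero_iff (R := F)]; simpa using hrank
    refine ⟨(Module.Basis.empty U : Module.Basis (Fin 0 ⊕ Fin 0) F U).equivFun, ?_⟩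
    intro u v
    have hu : u = 0 := Subsingleton.elim _ _
    subst hu
    simp [sympForm_zero_left]
  have : Nonempty (Fin k ⊕ Fin k) := ⟨Sum.inl ⟨0, hkpos⟩⟩
  have hcard : Fintype.card (Fin k ⊕ Fin k) = Module.finrank F U := by
    rw [hrank]; simp; ring
  let b := basisOfLinearIndependentOfCardEqFinrank hli hcard
  have hb : ∀ x, b x = fam p x := fun x => by
    simp [b, coe_basisOfLinearIndependentOfCardEqFinrank]
  refine ⟨b.equivFun, ?_⟩
  have hform : ∀ u v : Fin k ⊕ Fin k → F, sympForm k F u v = Matrix.toBilin' (Matrix.J (Fin k) F) u v := by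
    intro u v; rw [Matrix.toBilin'_apply']; rfl
  have heq : B = (Matrix.toBilin' (Matrix.J (Fin k) F)).comp b.equivFun.toLinearMap
      b.equivFun.toLinearMap := by
    apply LinearMap.BilinForm.ext_basis b
    intro x y
    rw [hb, hb, fam_form hA hp, LinearMap.BilinForm.comp_apply]
    simp only [LinearEquiv.coe_coe]
    have hs : ∀ z, b.equivFun (b z) = Pi.single z (1 : F) := by
      intro z; ext j
      rw [Module.Basis.equivFun_self]
      simp [Pi.single_apply, eq_comm]
    rw [← hb, ← hb, hs, hs, Matrix.toBilin'_single]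
  intro u v
  rw [hform]
  conv_rhs => rw [heq]
  rfl

end Cfsg.Agent.Lib.Helper8.SympBasis
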