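import Mathlib
import Cfsg.Prelude.Def_JordanBlocks
import Cfsg.Agent.Lib.Helper8.SympBasis
import Cfsg.Agent.H9.RegUni

/-!
# Jordan types in classical groups, part A (helper8)

Even rank of alternating matrices, ranks of powers of `jordanTypeMatrix d F - 1`, and the counting identity
relating multiplicities of block sizes to these ranks.
-/

set_option autoImplicit false

namespace Cfsg.Agent.Lib.Helper8.JType

open Cfsg Cfsg.Agent.Lib.Helper5.SympCount Cfsg.Agent.Lib.Helper5.Symp Module Matrix

universe u v

section Alt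

variable {F : Type v} [Field F]

/-- a nondegenerate alternating space has even dimension -/
theorem even_finrank_of_alt : ∀ (n : ℕ) (U : Type u) [AddCommGroup U] [Module F U] [FiniteDimensional F U]
    (B : LinearMap.BilinForm F U), B.IsAlt → B.Nondegenerate → Module.finrank F U = n → Even n := by
  intro n
  induction n using Nat.strong_induction_on with
  | _ n ih =>
    intro U _ _ _ B hA hB hrank
    rcases Nat.eq_zero_or_pos n with h0 | hpos
    · subst h0; exact ⟨0, rfl⟩
    · have hpos' : 0 < Module.finrank F U := by omega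
      have : Nontrivial U := Module.nontrivial_of_finrank_pos hpos'
      obtain ⟨e, he⟩ : ∃ e : U, e ≠ 0 := exists_ne 0
      obtain ⟨f₀, hf₀⟩ : ∃ f₀, B e f₀ ≠ 0 := by
        by_contra hno
        apply he
        apply hB.1
        intro y
        by_contra h
        exact hno ⟨y, h⟩
      have hef : B e ((B e f₀)⁻¹ • f₀) = 1 := by
        rw [map_smul, smul_eq_mul, inv_mul_cancel₀ hf₀]
      have hr := finrank_perp hA hef
      have hnd := restrict_perp_nondegenerate hB hA hef
      have hA' : (B.restrict (perp B e ((B e f₀)⁻¹ • f₀))).IsAlt := fun x => hA x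
      have h2 := ih (n - 2) (by omega) (perp B e ((B e f₀)⁻¹ • f₀))
        (B.restrict (perp B e ((B e f₀)⁻¹ • f₀))) hA' hnd (by omega)
      have : n = (n - 2) + 2 := by omega
      rw [this]
      exact h2.add even_two

variable {ι : Type*} [Fintype ι] [DecidableEq ι]

/-- alternating matrices: skew-symmetric with zero diagonal -/
def IsAltM (M : Matrix ι ι F) : Prop := Mᵀ = -M ∧ ∀ i, M i i = 0

theorem IsAltM.apply_swap {M : Matrix ι ι F} (h : IsAltM M) (i j : ι) : M j i = - M i j := by
  have := congrFun (congrFun h.1 i) j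
  rwa [Matrix.transpose_apply, Matrix.neg_apply] at this

theorem IsAltM.dot_self {M : Matrix ι ι F} (h : IsAltM M) (x : ι → F) : x ⬝ᵥ M.mulVec x = 0 := by
  have h1 : x ⬝ᵥ M.mulVec x = ∑ p : ι × ι, x p.1 * M p.1 p.2 * x p.2 := by
    rw [Fintype.sum_prod_type]
    simp only [dotProduct, Matrix.mulVec, Finset.mul_sum, mul_assoc]
  rw [h1]
  apply Finset.sum_involution (fun p _ => (p.2, p.1))
  · intro p _
    simp only
    rw [h.apply_swap p.1 p.2]
    ring
  · intro p _ hp heq
    apply hp
    have h2 : p.2 = p.1 := congrArg Prod.fst heq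
    rw [h2, h.2, mul_zero, zero_mul]
  · intro p _
    exact Finset.mem_univ _
  · intro p _
    rfl

theorem IsAltM.dot_swap {M : Matrix ι ι F} (h : IsAltM M) (x y : ι → F) :
    x ⬝ᵥ M.mulVec y = - (y ⬝ᵥ M.mulVec x) := by
  have h1 := h.dot_self (x + y)
  rw [Matrix.mulVec_add, add_dotProduct, dotProduct_add, dotProduct_add, h.dot_self x, h.dot_self y] at h1
  linear_combination h1

/-- an alternating matrix has even rank -/
theorem IsAltM.even_rank {M : Matrix ι ι F} (h : IsAltM M) : Even M.rank := by
  classical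
  set K : Submodule F (ι → F) := LinearMap.ker M.mulVecLin with hK
  obtain ⟨W, hW⟩ := Submodule.exists_isCompl K
  set B : LinearMap.BilinForm F (ι → F) := Matrix.toLinearMap₂' F M with hB
  have hBapp : ∀ x y, B x y = x ⬝ᵥ M.mulVec y := fun x y => by
    rw [hB, Matrix.toLinearMap₂'_apply']
  have hsep : ∀ w : W, (∀ w' : W, B (w' : ι → F) (w : ι → F) = 0) → w = 0 := by
    intro w hw
    have h1 : M.mulVec (w : ι → F) = 0 := by
      have h2 : ∀ v : ι → F, v ⬝ᵥ M.mulVec (w : ι → F) = 0 := by
        intro v
        obtain ⟨k, hk, w', hw', rfl⟩ : ∃ k ∈ K, ∃ w' ∈ W, k + w' = v := by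
          have : v ∈ K ⊔ W := by rw [hW.sup_eq_top]; trivial
          exact Submodule.mem_sup.mp this
        rw [add_dotProduct]
        have h3 := hw ⟨w', hw'⟩
        rw [hBapp] at h3
        rw [h3, add_zero, h.dot_swap]
        have h4 : M.mulVec k = 0 := by
          have := hk
          rwa [hK, LinearMap.mem_ker, Matrix.mulVecLin_apply] at this
        rw [h4, dotProduct_zero, neg_zero]
      funext i
      have := h2 (Pi.single i 1)
      rwa [single_one_dotProduct] at this
    have h5 : (w : ι → F) ∈ K ⊓ W := by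
      refine ⟨?_, w.2⟩
      show M.mulVecLin (w : ι → F) = 0
      rw [Matrix.mulVecLin_apply, h1]
    rw [hW.inf_eq_bot] at h5
    exact Subtype.ext ((Submodule.mem_bot F).mp h5)
  have hnd : (B.restrict W).Nondegenerate := by
    refine ⟨?_, ?_⟩
    · intro w hw
      apply hsep
      intro w'
      have := hw w'
      simp only [LinearMap.BilinForm.restrict_apply, LinearMap.domRestrict_apply] at this
      rw [hBapp, h.dot_swap, ← hBapp, this, neg_zero]
    · intro w hw
      apply hsep
      intro w'
      have := hw w'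
      simpa only [LinearMap.BilinForm.restrict_apply, LinearMap.domRestrict_apply] using this
  have hA : (B.restrict W).IsAlt := by
    intro w
    simp only [LinearMap.BilinForm.restrict_apply, LinearMap.domRestrict_apply]
    rw [hBapp, h.dot_self]
  have hfr : Module.finrank F W = M.rank := by
    have h1 := Submodule.finrank_add_eq_of_isCompl hW
    have h2 := LinearMap.finrank_range_add_finrank_ker M.mulVecLin
    rw [Matrix.rank]
    rw [hK] at h1
    rw [← h2] at h1
    omega
  exact even_finrank_of_alt M.rank W (B.restrict W) hA hnd hfr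

end Alt

section Rank

variable {F : Type*} [Field F]

/-- rank of a partial permutation matrix -/
theorem rank_pinj {ι X : Type*} [Fintype ι] [DecidableEq ι] [Fintype X] [DecidableEq X] (f g : X → ι)
    (hf : Function.Injective f) (hg : Function.Injective g) (N : Matrix ι ι F)
    (hN : ∀ i j, N i j = if ∃ x, f x = i ∧ g x = j then 1 else 0) : N.rank = Fintype.card X := by
  set P : Matrix ι X F := Matrix.of fun i x => if f x = i then 1 else 0 with hP
  set Q : Matrix X ι F := Matrix.of fun x j => if g x = j then 1 else 0 with hQ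
  have hPQ : N = P * Q := by
    ext i j
    rw [hN, Matrix.mul_apply]
    simp only [hP, hQ, Matrix.of_apply]
    by_cases hex : ∃ x, f x = i ∧ g x = j
    · obtain ⟨x, hx1, hx2⟩ := hex
      rw [if_pos ⟨x, hx1, hx2⟩, Finset.sum_eq_single x]
      · rw [if_pos hx1, if_pos hx2, mul_one]
      · intro y _ hy
        rw [if_neg, zero_mul]
        intro h
        exact hy (hf (h.trans hx1.symm))
      · intro h; exact absurd (Finset.mem_univ _) h
    · rw [if_neg hex]
      symm
      apply Finset.sum_eq_zero
      intro x _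
      by_cases h1 : f x = i
      · rw [if_pos h1, if_neg, mul_zero]
        intro h2; exact hex ⟨x, h1, h2⟩
      · rw [if_neg h1, zero_mul]
  have hPP : Pᵀ * P = 1 := by
    ext x y
    rw [Matrix.mul_apply, Matrix.one_apply]
    simp only [hP, Matrix.transpose_apply, Matrix.of_apply]
    by_cases hxy : x = y
    · subst hxy
      rw [if_pos rfl, Finset.sum_eq_single (f x)]
      · rw [if_pos rfl, mul_one]
      · intro i _ hi
        rw [if_neg (Ne.symm hi), zero_mul]
      · intro h; exact absurd (Finset.mem_univ _) h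
    · rw [if_neg hxy]
      apply Finset.sum_eq_zero
      intro i _
      by_cases h1 : f x = i
      · rw [if_pos h1, if_neg, mul_zero]
        intro h2; exact hxy (hf (h1.trans h2.symm))
      · rw [if_neg h1, zero_mul]
  have hQQ : Q * Qᵀ = 1 := by
    ext x y
    rw [Matrix.mul_apply, Matrix.one_apply]
    simp only [hQ, Matrix.transpose_apply, Matrix.of_apply]
    by_cases hxy : x = y
    · subst hxy
      rw [if_pos rfl, Finset.sum_eq_single (g x)]
      · rw [if_pos rfl, mul_one]
      · intro i _ hi
        rw [if_neg (Ne.symm hi), zero_mul]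
      · intro h; exact absurd (Finset.mem_univ _) h
    · rw [if_neg hxy]
      apply Finset.sum_eq_zero
      intro i _
      by_cases h1 : g x = i
      · rw [if_pos h1, if_neg, mul_zero]
        intro h2; exact hxy (hg (h1.trans h2.symm))
      · rw [if_neg h1, zero_mul]
  apply le_antisymm
  · rw [hPQ]
    calc (P * Q).rank ≤ P.rank := Matrix.rank_mul_le_left _ _
      _ ≤ Fintype.card X := Matrix.rank_le_card_width _
  · have h1 : Pᵀ * N * Qᵀ = 1 := by
      rw [hPQ, ← Matrix.mul_assoc, hPP, Matrix.one_mul, hQQ]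
    calc Fintype.card X = (1 : Matrix X X F).rank := (Matrix.rank_one).symm
      _ = (Pᵀ * N * Qᵀ).rank := by rw [h1]
      _ ≤ (Pᵀ * N).rank := Matrix.rank_mul_le_left _ _
      _ ≤ N.rank := Matrix.rank_mul_le_right _ _

/-- powers of the nilpotent part of a Jordan block -/
theorem jb_sub_one_pow (n m : ℕ) (i j : Fin n) :
    ((jordanBlock n F - 1) ^ m) i j = if i.val = j.val + m then (1 : F) else 0 := by
  have hn : 1 ≤ n := by have := i.2; omega
  have h1 : jordanBlock n F - 1 = Cfsg.Agent.S2163.NN F n (n - 1) := by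
    ext a b
    rw [Matrix.sub_apply, Cfsg.Agent.H9.RegUni.shift_apply hn, jordanBlock, Matrix.of_apply,
      Matrix.one_apply]
    by_cases hab : a = b
    · subst hab
      rw [if_pos rfl, if_pos rfl, sub_self, if_neg (by omega)]
    · have hab' : ¬ (a : ℕ) = (b : ℕ) := fun h => hab (Fin.ext h)
      rw [if_neg hab', if_neg hab, sub_zero]
  rw [h1, Cfsg.Agent.H9.RegUni.shift_pow hn]

variable {t : ℕ} (d : Fin t → ℕ)

theorem jt_sub_one_pow (m : ℕ) (x y : (k : Fin t) × Fin (d k)) :
    ((jordanTypeMatrix d F - 1) ^ m) x y =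
      if x.1 = y.1 ∧ (x.2 : ℕ) = (y.2 : ℕ) + m then (1 : F) else 0 := by
  have h1 : jordanTypeMatrix d F - 1 = Matrix.blockDiagonal' (fun k => jordanBlock (d k) F - 1) := by
    rw [jordanTypeMatrix]
    have : (fun k => jordanBlock (d k) F - 1) = (fun k => jordanBlock (d k) F) - 1 := rfl
    rw [this, Matrix.blockDiagonal'_sub, Matrix.blockDiagonal'_one]
  rw [h1, ← Matrix.blockDiagonal'_pow]
  obtain ⟨k, i⟩ := x
  obtain ⟨k', j⟩ := y
  rw [Matrix.blockDiagonal'_apply']
  by_cases hk : k = k'
  · subst hk
    rw [dif_pos rfl]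
    simp only [Pi.pow_apply, cast_eq, true_and]
    exact jb_sub_one_pow _ _ _ _
  · rw [dif_neg hk, if_neg]
    intro h
    exact hk h.1

theorem rank_jt_sub_one_pow (m : ℕ) :
    ((jordanTypeMatrix d F - 1) ^ m).rank = ∑ k, (d k - m) := by
  classical
  set X := {x : (k : Fin t) × Fin (d k) // (x.2 : ℕ) + m < d x.1} with hX
  have hlt : ∀ x : X, (x.1.2 : ℕ) + m < d x.1.1 := fun x => x.2
  rw [rank_pinj (X := X) (fun x => ⟨x.1.1, ⟨(x.1.2 : ℕ) + m, hlt x⟩⟩) (fun x => x.1) ?_
    Subtype.val_injective _ ?_]
  · rw [Fintype.card_subtype, Finset.card_filter, Fintype.sum_sigma]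
    apply Finset.sum_congr rfl
    intro k _
    simp only
    rw [← Finset.card_filter, ← Fintype.card_subtype]
    have : Fintype.card {i : Fin (d k) // (i : ℕ) + m < d k} = Fintype.card (Fin (d k - m)) := by
      apply Fintype.card_congr
      exact
        { toFun := fun i => ⟨i.1.1, by have := i.2; omega⟩
          invFun := fun i => ⟨⟨i.1, by have := i.2; omega⟩, by have := i.2; simp only; omega⟩
          left_inv := fun i => rfl
          right_inv := fun i => rfl }
    rw [this, Fintype.card_fin]
  · intro x y hxy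
    apply Subtype.ext
    obtain ⟨⟨k, i⟩, hx⟩ := x
    obtain ⟨⟨k', j⟩, hy⟩ := y
    simp only [Sigma.mk.injEq] at hxy
    obtain ⟨h1, h2⟩ := hxy
    subst h1
    simp only [heq_eq_eq, Fin.mk.injEq] at h2
    have : i = j := Fin.ext (by omega)
    subst this
    rfl
  · intro x y
    rw [jt_sub_one_pow]
    by_cases h : x.1 = y.1 ∧ (x.2 : ℕ) = (y.2 : ℕ) + m
    · rw [if_pos h, if_pos]
      obtain ⟨k, i⟩ := x
      obtain ⟨k', j⟩ := y
      obtain ⟨h1, h2⟩ := h
      simp only at h1 h2
      subst h1
      refine ⟨⟨⟨k, j⟩, by simp only; have := i.2; omega⟩, ?_, rfl⟩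
      simp only [Sigma.mk.injEq, heq_eq_eq, true_and]
      exact Fin.ext h2.symm
    · rw [if_neg h, if_neg]
      rintro ⟨z, hz1, hz2⟩
      apply h
      rw [← hz1, ← hz2]
      exact ⟨rfl, rfl⟩

/-- the counting identity: multiplicity of the block size `j` in terms of ranks -/
theorem count_add (j : ℕ) (hj : 1 ≤ j) :
    (Finset.univ.filter (fun k : Fin t => d k = j)).card + 2 * ∑ k, (d k - j) =
      ∑ k, (d k - (j - 1)) + ∑ k, (d k - (j + 1)) := by
  rw [Finset.card_filter, Finset.mul_sum, ← Finset.sum_add_distrib, ← Finset.sum_add_distrib]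
  apply Finset.sum_congr rfl
  intro k _
  split_ifs <;> omega

end Rank

end Cfsg.Agent.Lib.Helper8.JType
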