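import Mathlib
import Cfsg.Agent.Lib.Helper8.JTypeA

/-!
# Alternating forms scaled by an operator with scalar square (abstract vector spaces) (helper8)

`IsSympB B`: `B` is alternating and left-separating.  For `x` with `x ∘ x = z`:
* if every square root of `z` forces characteristic two, there is such a form with
  `B (x u) (x v) = -z * B u v`;
* if `z = s²`, `2 ≠ 0` and both eigenspaces have even dimension, there is one with multiplier `z`.
-/

set_option autoImplicit false
set_option linter.unusedSectionVars false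

namespace Cfsg.Agent.Lib.Helper8.GSpForm

open Module Cfsg.Agent.Lib.Helper8.JType

universe u

variable {F : Type*} [Field F]

/-- alternating and left-separating -/
def IsSympB {V : Type*} [AddCommGroup V] [Module F V] (B : LinearMap.BilinForm F V) : Prop :=
  (∀ u, B u u = 0) ∧ ∀ u, (∀ v, B u v = 0) → u = 0

theorem isAltM_J (k : ℕ) : IsAltM (Matrix.J (Fin k) F) := by
  refine ⟨Matrix.J_transpose (Fin k) F, ?_⟩
  rintro (i | i) <;> simp [Matrix.J, Matrix.fromBlocks]

/-- an even-dimensional space carries a symplectic form -/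
theorem exists_sympB (V : Type u) [AddCommGroup V] [Module F V] [FiniteDimensional F V] (k : ℕ)
    (hk : finrank F V = 2 * k) : ∃ B : LinearMap.BilinForm F V, IsSympB B := by
  classical
  have e : Fin (2 * k) ≃ Fin k ⊕ Fin k := (finCongr (two_mul k)).trans finSumFinEquiv.symm
  set b : Basis (Fin k ⊕ Fin k) F V := (Module.finBasisOfFinrankEq F V hk).reindex e with hb
  refine ⟨Matrix.toBilin b (Matrix.J (Fin k) F), ?_, ?_⟩
  · intro u
    rw [Matrix.toBilin_apply]
    have := (isAltM_J (F := F) k).dot_self (fun i => b.repr u i)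
    rw [dotProduct] at this
    rw [← this]
    apply Finset.sum_congr rfl
    intro i _
    rw [Matrix.mulVec, dotProduct, Finset.mul_sum]
    apply Finset.sum_congr rfl
    intro j _
    ring
  · have hdet : (Matrix.J (Fin k) F).det ≠ 0 := by
      intro h0
      have := Matrix.J_det_mul_J_det (Fin k) F
      rw [h0, zero_mul] at this
      exact zero_ne_one this
    have hnd := (Matrix.nondegenerate_of_det_ne_zero hdet).toBilin b
    exact hnd.1

/-- splitting off an invariant plane -/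
theorem extend_form {V : Type u} [AddCommGroup V] [Module F V] (x : V →ₗ[F] V)
    (w₁ w₂ : V) (ψ₁ ψ₂ : Module.Dual F V)
    (h11 : ψ₁ w₁ = 1) (h12 : ψ₁ w₂ = 0) (h21 : ψ₂ w₁ = 0) (h22 : ψ₂ w₂ = 1)
    (a b c d δ : F) (hdet : a * d - b * c = δ)
    (hxw₁ : x w₁ = a • w₁ + c • w₂) (hxw₂ : x w₂ = b • w₁ + d • w₂)
    (hψ₁ : ∀ u, ψ₁ (x u) = a * ψ₁ u + b * ψ₂ u) (hψ₂ : ∀ u, ψ₂ (x u) = c * ψ₁ u + d * ψ₂ u)
    (W' : Submodule F V) (hmemW' : ∀ u, u ∈ W' ↔ ψ₁ u = 0 ∧ ψ₂ u = 0)
    (hW' : ∀ u ∈ W', x u ∈ W')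
    (B' : LinearMap.BilinForm F ↥W') (hB' : IsSympB B')
    (hB'x : ∀ u v, B' (x.restrict hW' u) (x.restrict hW' v) = δ * B' u v) :
    ∃ B : LinearMap.BilinForm F V, IsSympB B ∧ ∀ u v, B (x u) (x v) = δ * B u v := by
  -- the projection onto `W'`
  set π₀ : V →ₗ[F] V := LinearMap.id - ψ₁.smulRight w₁ - ψ₂.smulRight w₂ with hπ₀
  have hπ₀app : ∀ u, π₀ u = u - ψ₁ u • w₁ - ψ₂ u • w₂ := by
    intro u
    rw [hπ₀]
    simp only [LinearMap.sub_apply, LinearMap.id_apply, LinearMap.smulRight_apply]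
  have hπ₀mem : ∀ u, π₀ u ∈ W' := by
    intro u
    rw [hmemW', hπ₀app]
    constructor
    · rw [map_sub, map_sub, map_smul, map_smul, h11, h12, smul_eq_mul, smul_eq_mul, mul_one,
        mul_zero, sub_self, sub_zero]
    · rw [map_sub, map_sub, map_smul, map_smul, h21, h22, smul_eq_mul, smul_eq_mul, mul_one,
        mul_zero, sub_zero, sub_self]
  set π : V →ₗ[F] ↥W' := π₀.codRestrict W' hπ₀mem with hπ
  have hπval : ∀ u, ((π u : ↥W') : V) = u - ψ₁ u • w₁ - ψ₂ u • w₂ := by
    intro u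
    rw [hπ, LinearMap.codRestrict_apply, hπ₀app]
  have hπW' : ∀ u : ↥W', π (u : V) = u := by
    intro u
    apply Subtype.ext
    rw [hπval, ((hmemW' _).1 u.2).1, ((hmemW' _).1 u.2).2, zero_smul, zero_smul, sub_zero, sub_zero]
  have hπx : ∀ u, π (x u) = x.restrict hW' (π u) := by
    intro u
    apply Subtype.ext
    rw [hπval, LinearMap.coe_restrict_apply, hπval, map_sub, map_sub, map_smul, map_smul, hxw₁,
      hxw₂, hψ₁, hψ₂]
    module
  set B : LinearMap.BilinForm F V :=
    LinearMap.BilinForm.linMulLin ψ₁ ψ₂ - LinearMap.BilinForm.linMulLin ψ₂ ψ₁ + B'.comp π π with hB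
  have hBapp : ∀ u v, B u v = ψ₁ u * ψ₂ v - ψ₂ u * ψ₁ v + B' (π u) (π v) := by
    intro u v
    rw [hB]
    rfl
  refine ⟨B, ⟨?_, ?_⟩, ?_⟩
  · intro u
    rw [hBapp, hB'.1, add_zero, mul_comm, sub_self]
  · intro u hu
    have hπw₁ : π w₁ = 0 := by
      apply Subtype.ext
      rw [hπval, h11, h21, one_smul, zero_smul, sub_self, sub_zero, Submodule.coe_zero]
    have hπw₂ : π w₂ = 0 := by
      apply Subtype.ext
      rw [hπval, h12, h22, one_smul, zero_smul, sub_zero, sub_self, Submodule.coe_zero]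
    have h1 := hu w₁
    rw [hBapp, hπw₁, map_zero, h11, h21, mul_zero, mul_one, zero_sub, add_zero, neg_eq_zero] at h1
    have h2 := hu w₂
    rw [hBapp, hπw₂, map_zero, h12, h22, mul_zero, mul_one, sub_zero, add_zero] at h2
    have h3 : π u = 0 := by
      apply hB'.2
      intro v
      have := hu (v : V)
      rw [hBapp, h1, h2, zero_mul, zero_mul, sub_zero, zero_add, hπW'] at this
      exact this
    have h4 := hπval u
    rw [h3, h1, h2, zero_smul, zero_smul, sub_zero, sub_zero, Submodule.coe_zero] at h4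
    exact h4.symm
  · intro u v
    rw [hBapp, hBapp, hπx, hπx, hB'x, hψ₁, hψ₂, hψ₁, hψ₂, ← hdet]
    ring

end Cfsg.Agent.Lib.Helper8.GSpForm
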