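import Mathlib
import Cfsg.Agent.Lib.Helper8.GSpFormJ

/-!
# Operators with `x ∘ x = s²` in odd characteristic: eigenspaces, determinant, and a symplectic
form with multiplier `s²` when both eigenspaces are even-dimensional (helper8)
-/

set_option autoImplicit false
set_option linter.unusedSectionVars false

namespace Cfsg.Agent.Lib.Helper8.GSpForm

open Module

universe u

variable {F : Type*} [Field F] {V : Type u} [AddCommGroup V] [Module F V]

/-- the `s`-eigenspace -/
def Ep (x : V →ₗ[F] V) (s : F) : Submodule F V := LinearMap.ker (x - s • LinearMap.id)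

/-- the `-s`-eigenspace -/
def Em (x : V →ₗ[F] V) (s : F) : Submodule F V := LinearMap.ker (x + s • LinearMap.id)

theorem mem_Ep (x : V →ₗ[F] V) (s : F) (v : V) : v ∈ Ep x s ↔ x v = s • v := by
  unfold Ep
  rw [LinearMap.mem_ker, LinearMap.sub_apply, LinearMap.smul_apply, LinearMap.id_apply, sub_eq_zero]

theorem mem_Em (x : V →ₗ[F] V) (s : F) (v : V) : v ∈ Em x s ↔ x v = -(s • v) := by
  unfold Em
  rw [LinearMap.mem_ker, LinearMap.add_apply, LinearMap.smul_apply, LinearMap.id_apply,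
    add_eq_zero_iff_eq_neg]

variable (x : V →ₗ[F] V) (s : F) (hs : s ≠ 0) (h2 : (2 : F) ≠ 0)
  (hx : ∀ v, x (x v) = (s ^ 2) • v)

include hs h2 hx

theorem half_add_mem (v : V) : ((2 * s)⁻¹) • (x v + s • v) ∈ Ep x s := by
  rw [mem_Ep, map_smul, map_add, map_smul, hx]
  module

theorem half_sub_mem (v : V) : ((2 * s)⁻¹) • (s • v - x v) ∈ Em x s := by
  rw [mem_Em, map_smul, map_sub, map_smul, hx]
  module

theorem half_add_half (v : V) :
    ((2 * s)⁻¹) • (x v + s • v) + ((2 * s)⁻¹) • (s • v - x v) = v := by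
  have h2s : (2 * s) ≠ 0 := mul_ne_zero h2 hs
  rw [← smul_add]
  have : x v + s • v + (s • v - x v) = (2 * s) • v := by
    rw [two_mul, add_smul]
    abel
  rw [this, smul_smul, inv_mul_cancel₀ h2s, one_smul]

theorem isCompl_E : IsCompl (Ep x s) (Em x s) := by
  have h2s : (2 * s) ≠ 0 := mul_ne_zero h2 hs
  constructor
  · rw [Submodule.disjoint_def]
    intro v hp hm
    rw [mem_Ep] at hp
    rw [mem_Em] at hm
    have h1 : (2 * s) • v = 0 := by
      rw [two_mul, add_smul]
      nth_rewrite 1 [← hp]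
      rw [hm, neg_add_cancel]
    exact (smul_eq_zero.1 h1).resolve_left h2s
  · rw [codisjoint_iff, eq_top_iff]
    intro v _
    rw [← half_add_half x s hs h2 hx v]
    exact Submodule.add_mem_sup (half_add_mem x s hs h2 hx v) (half_sub_mem x s hs h2 hx v)

theorem det_eq_of_sq [FiniteDimensional F V] :
    LinearMap.det x = s ^ finrank F (Ep x s) * (-s) ^ finrank F (Em x s) := by
  have hc := isCompl_E x s hs h2 hx
  set e := Submodule.prodEquivOfIsCompl (Ep x s) (Em x s) hc with he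
  have hconj : x = (e : (↥(Ep x s) × ↥(Em x s)) →ₗ[F] V) ∘ₗ
      (LinearMap.prodMap (s • (LinearMap.id : ↥(Ep x s) →ₗ[F] ↥(Ep x s)))
        ((-s) • (LinearMap.id : ↥(Em x s) →ₗ[F] ↥(Em x s)))) ∘ₗ
      (e.symm : V →ₗ[F] (↥(Ep x s) × ↥(Em x s))) := by
    apply LinearMap.ext
    intro v
    obtain ⟨⟨u₁, u₂⟩, rfl⟩ := e.surjective v
    simp only [LinearMap.coe_comp, LinearEquiv.coe_coe, Function.comp_apply,
      LinearEquiv.symm_apply_apply, LinearMap.prodMap_apply, LinearMap.smul_apply,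
      LinearMap.id_apply]
    rw [he, Submodule.coe_prodEquivOfIsCompl', Submodule.coe_prodEquivOfIsCompl', map_add]
    have h1 := (mem_Ep x s u₁).1 u₁.2
    have h2' := (mem_Em x s u₂).1 u₂.2
    rw [h1, h2']
    simp
  have hdet := congrArg LinearMap.det hconj
  rw [LinearMap.det_conj, LinearMap.det_prodMap, LinearMap.det_smul, LinearMap.det_smul,
    LinearMap.det_id, LinearMap.det_id, mul_one, mul_one] at hdet
  exact hdet

/-- a symplectic form with multiplier `s²` -/
theorem exists_form_pos [FiniteDimensional F V] (k₁ k₂ : ℕ)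
    (h₁ : finrank F (Ep x s) = 2 * k₁) (h₂ : finrank F (Em x s) = 2 * k₂) :
    ∃ B : LinearMap.BilinForm F V, IsSympB B ∧ ∀ u v, B (x u) (x v) = s ^ 2 * B u v := by
  obtain ⟨B₁, hB₁⟩ := exists_sympB (F := F) ↥(Ep x s) k₁ h₁
  obtain ⟨B₂, hB₂⟩ := exists_sympB (F := F) ↥(Em x s) k₂ h₂
  set p₀ : V →ₗ[F] V := ((2 * s)⁻¹) • (x + s • LinearMap.id) with hp₀
  set m₀ : V →ₗ[F] V := ((2 * s)⁻¹) • (s • LinearMap.id - x) with hm₀
  have hp₀app : ∀ v, p₀ v = ((2 * s)⁻¹) • (x v + s • v) := fun v => rfl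
  have hm₀app : ∀ v, m₀ v = ((2 * s)⁻¹) • (s • v - x v) := fun v => rfl
  set πp : V →ₗ[F] ↥(Ep x s) := p₀.codRestrict (Ep x s) (fun v => by
    rw [hp₀app]; exact half_add_mem x s hs h2 hx v) with hπp
  set πm : V →ₗ[F] ↥(Em x s) := m₀.codRestrict (Em x s) (fun v => by
    rw [hm₀app]; exact half_sub_mem x s hs h2 hx v) with hπm
  have hπpval : ∀ v, ((πp v : ↥(Ep x s)) : V) = ((2 * s)⁻¹) • (x v + s • v) := fun v => rfl
  have hπmval : ∀ v, ((πm v : ↥(Em x s)) : V) = ((2 * s)⁻¹) • (s • v - x v) := fun v => rfl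
  have h2s : (2 * s) ≠ 0 := mul_ne_zero h2 hs
  have hsum : ∀ v, ((πp v : ↥(Ep x s)) : V) + ((πm v : ↥(Em x s)) : V) = v := by
    intro v
    rw [hπpval, hπmval]
    exact half_add_half x s hs h2 hx v
  have hπp_p : ∀ u : ↥(Ep x s), πp (u : V) = u := by
    intro u
    apply Subtype.ext
    rw [hπpval, (mem_Ep x s _).1 u.2]
    calc ((2 * s)⁻¹) • (s • (u : V) + s • (u : V)) = ((2 * s)⁻¹ * (2 * s)) • (u : V) := by module
      _ = (u : V) := by rw [inv_mul_cancel₀ h2s, one_smul]
  have hπm_p : ∀ u : ↥(Ep x s), πm (u : V) = 0 := by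
    intro u
    apply Subtype.ext
    rw [hπmval, (mem_Ep x s _).1 u.2, sub_self, smul_zero, Submodule.coe_zero]
  have hπp_m : ∀ u : ↥(Em x s), πp (u : V) = 0 := by
    intro u
    apply Subtype.ext
    rw [hπpval, (mem_Em x s _).1 u.2, neg_add_cancel, smul_zero, Submodule.coe_zero]
  have hπm_m : ∀ u : ↥(Em x s), πm (u : V) = u := by
    intro u
    apply Subtype.ext
    rw [hπmval, (mem_Em x s _).1 u.2]
    calc ((2 * s)⁻¹) • (s • (u : V) - -(s • (u : V))) = ((2 * s)⁻¹ * (2 * s)) • (u : V) := by module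
      _ = (u : V) := by rw [inv_mul_cancel₀ h2s, one_smul]
  have hπpx : ∀ v, πp (x v) = s • πp v := by
    intro v
    apply Subtype.ext
    rw [Submodule.coe_smul, hπpval, hπpval, hx]
    module
  have hπmx : ∀ v, πm (x v) = (-s) • πm v := by
    intro v
    apply Subtype.ext
    rw [Submodule.coe_smul, hπmval, hπmval, hx]
    module
  set B : LinearMap.BilinForm F V := B₁.comp πp πp + B₂.comp πm πm with hB
  have hBapp : ∀ u v, B u v = B₁ (πp u) (πp v) + B₂ (πm u) (πm v) := fun u v => rfl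
  refine ⟨B, ⟨?_, ?_⟩, ?_⟩
  · intro u
    rw [hBapp, hB₁.1, hB₂.1, add_zero]
  · intro u hu
    have h1 : πp u = 0 := by
      apply hB₁.2
      intro v
      have := hu (v : V)
      rw [hBapp, hπp_p, hπm_p, map_zero, add_zero] at this
      exact this
    have h3 : πm u = 0 := by
      apply hB₂.2
      intro v
      have := hu (v : V)
      rw [hBapp, hπp_m, hπm_m, map_zero, zero_add] at this
      exact this
    have := hsum u
    rw [h1, h3, Submodule.coe_zero, Submodule.coe_zero, add_zero] at this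
    exact this.symm
  · intro u v
    rw [hBapp, hBapp, hπpx, hπpx, hπmx, hπmx]
    simp only [map_smul, LinearMap.smul_apply, smul_eq_mul]
    ring

end Cfsg.Agent.Lib.Helper8.GSpForm
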