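import Mathlib

/-!
# The determinant of an operator with `x² = z`, `z` a non-square (helper8)
-/

set_option autoImplicit false
set_option linter.unusedSectionVars false

namespace Cfsg.Agent.Lib.Helper8.SubfInv

open Matrix Module

universe u

theorem det_of_no_sqrt {F : Type*} [Field F] (z : F) (hz : ∀ s : F, s ^ 2 ≠ z) :
    ∀ (n : ℕ) (V : Type u) [AddCommGroup V] [Module F V] [FiniteDimensional F V] (x : V →ₗ[F] V),
      (∀ v, x (x v) = z • v) → Module.finrank F V = n →
      ∃ m : ℕ, n = 2 * m ∧ LinearMap.det x = (-z) ^ m := by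
  intro n
  induction n using Nat.strong_induction_on with
  | _ n ih =>
    intro V _ _ _ x hx hn
    rcases Nat.eq_zero_or_pos n with h0 | hpos
    · refine ⟨0, by omega, ?_⟩
      rw [pow_zero]
      exact LinearMap.det_eq_one_of_finrank_eq_zero (by rw [hn, h0]) x
    · have hpos' : 0 < Module.finrank F V := by rw [hn]; exact hpos
      rw [Module.finrank_pos_iff_exists_ne_zero] at hpos'
      obtain ⟨v, hv⟩ := hpos'
      have hli : LinearIndependent F ![v, x v] := by
        rw [LinearIndependent.pair_iff]
        intro a b hab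
        by_cases hb : b = 0
        · rw [hb, zero_smul, add_zero] at hab
          exact ⟨(smul_eq_zero.1 hab).resolve_right hv, hb⟩
        · exfalso
          have h1 : x v = (-(a / b)) • v := by
            have : b • x v = (-a) • v := by
              rw [neg_smul]
              exact eq_neg_of_add_eq_zero_right hab
            calc x v = b⁻¹ • (b • x v) := by rw [smul_smul, inv_mul_cancel₀ hb, one_smul]
              _ = (-(a / b)) • v := by
                rw [this, smul_smul]
                congr 1
                field_simp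
          have h2 := hx v
          rw [h1, map_smul, h1, smul_smul] at h2
          have h3 : (-(a / b) * -(a / b) - z) • v = 0 := by
            rw [sub_smul, h2, sub_self]
          have h4 := (smul_eq_zero.1 h3).resolve_right hv
          apply hz (-(a / b))
          rw [pow_two]
          exact sub_eq_zero.1 h4
      set W : Submodule F V := Submodule.span F (Set.range ![v, x v]) with hW
      have hvW : v ∈ W := Submodule.subset_span ⟨0, rfl⟩
      have hxvW : x v ∈ W := Submodule.subset_span ⟨1, rfl⟩
      have he : W ≤ W.comap x := by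
        rw [hW, Submodule.span_le]
        rintro _ ⟨i, rfl⟩
        rw [SetLike.mem_coe, Submodule.mem_comap]
        fin_cases i
        · exact hxvW
        · change x (x v) ∈ W
          rw [hx]
          exact W.smul_mem z hvW
      let bW : Module.Basis (Fin 2) F W := Module.Basis.span hli
      have hbW : ∀ i, ((bW i : W) : V) = ![v, x v] i := fun i =>
        congrArg Subtype.val (Module.Basis.span_apply hli i)
      have hb0 : (x.restrict he) (bW 0) = bW 1 := by
        apply Subtype.ext
        rw [LinearMap.coe_restrict_apply, hbW 0, hbW 1]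
        rfl
      have hb1 : (x.restrict he) (bW 1) = z • bW 0 := by
        apply Subtype.ext
        rw [LinearMap.coe_restrict_apply, hbW 1, Submodule.coe_smul, hbW 0]
        exact hx v
      have hdetW : LinearMap.det (x.restrict he) = -z := by
        rw [← LinearMap.det_toMatrix bW, Matrix.det_fin_two]
        simp only [LinearMap.toMatrix_apply, hb0, hb1, Module.Basis.repr_self, map_smul,
          Finsupp.smul_apply, Finsupp.single_apply, smul_eq_mul]
        simp
      have hfrW : Module.finrank F W = 2 := by
        rw [Module.finrank_eq_card_basis bW, Fintype.card_fin]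
      have hfrQ : Module.finrank F (V ⧸ W) = n - 2 := by
        have := Submodule.finrank_quotient_add_finrank W
        omega
      have hn2 : 2 ≤ n := by
        have := Submodule.finrank_le W
        omega
      have hxq : ∀ q : V ⧸ W, (W.mapQ W x he) ((W.mapQ W x he) q) = z • q := by
        intro q
        obtain ⟨v', rfl⟩ := Submodule.mkQ_surjective W q
        simp only [Submodule.mkQ_apply, Submodule.mapQ_apply, hx v', Submodule.Quotient.mk_smul]
      obtain ⟨m', hm', hdet'⟩ := ih (n - 2) (by omega) (V ⧸ W) (W.mapQ W x he) hxq hfrQ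
      refine ⟨m' + 1, by omega, ?_⟩
      rw [LinearMap.det_eq_det_mul_det W x he, hdetW, hdet', pow_succ']

theorem det_of_no_sqrt_matrix {F : Type*} [Field F] {n : ℕ} (X : Matrix (Fin n) (Fin n) F) (z : F)
    (hz : ∀ s : F, s ^ 2 ≠ z) (hXX : X * X = z • (1 : Matrix (Fin n) (Fin n) F)) :
    ∃ m : ℕ, n = 2 * m ∧ X.det = (-z) ^ m := by
  have hxlxl : ∀ v, Matrix.toLin' X (Matrix.toLin' X v) = z • v := by
    intro v
    rw [Matrix.toLin'_apply, Matrix.toLin'_apply, Matrix.mulVec_mulVec, hXX, Matrix.smul_mulVec,
      Matrix.one_mulVec]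
  obtain ⟨m, hm, hdet⟩ := det_of_no_sqrt z hz n (Fin n → F) (Matrix.toLin' X) hxlxl
    (Module.finrank_fin_fun F)
  exact ⟨m, hm, by rw [← hdet, LinearMap.det_toLin']⟩

section Arith

variable {F : Type*} [Field F] [Fintype F]

theorem ringChar_ne_two (h2 : (2 : F) ≠ 0) : ringChar F ≠ 2 := by
  intro h
  apply h2
  have : CharP F 2 := by
    rw [← h]
    exact ringChar.charP F
  have := CharP.cast_eq_zero F 2
  exact_mod_cast this

/-- if `(-z)^m = 1` with `(2m)_2 ≤ (q - 1)_2` and `q ≡ 1 mod 4` then `z` is a square -/
theorem exists_sq_of_pow (q : ℕ) (hq : Fintype.card F = q) (h2 : (2 : F) ≠ 0) (h4 : 4 ∣ q - 1)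
    (z : F) (hz0 : z ≠ 0) (m : ℕ) (hm : m ≠ 0)
    (hv : padicValNat 2 (2 * m) ≤ padicValNat 2 (q - 1)) (h : (-z) ^ m = 1) :
    ∃ s : F, s ^ 2 = z := by
  have hch := ringChar_ne_two h2
  by_contra hcon
  have hnsq : ¬ IsSquare z := by
    rintro ⟨s, hs⟩
    exact hcon ⟨s, by rw [hs, pow_two]⟩
  have hq2 : 2 ≤ q := by rw [← hq]; exact Fintype.one_lt_card
  have hq1 : q - 1 ≠ 0 := by omega
  have hzq : z ^ (q / 2) = -1 := by
    rcases FiniteField.pow_dichotomy hch hz0 with h1 | h1
    · exact absurd ((FiniteField.isSquare_iff hch hz0).2 h1) hnsq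
    · rw [← hq]
      exact h1
  obtain ⟨u, hu⟩ := h4
  have hqh : q / 2 = 2 * u := by omega
  have hwq : (-z) ^ (q / 2) = -1 := by
    rw [neg_pow, hzq, hqh, pow_mul, neg_one_sq, one_pow, one_mul]
  set a := padicValNat 2 (q - 1) with ha
  set b := padicValNat 2 m with hb
  have hab : b + 1 ≤ a := by
    have : padicValNat 2 (2 * m) = 1 + b := by
      rw [padicValNat.mul (by norm_num) hm, padicValNat.self (by norm_num)]
    omega
  have hfac : 2 ^ a * (ordCompl[2] (q - 1)) = q - 1 := by
    have := Nat.ordProj_mul_ordCompl_eq_self (q - 1) 2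
    rwa [Nat.factorization_def _ Nat.prime_two] at this
  have hfacm : 2 ^ b * (ordCompl[2] m) = m := by
    have := Nat.ordProj_mul_ordCompl_eq_self m 2
    rwa [Nat.factorization_def _ Nat.prime_two] at this
  have hoddm : Odd (ordCompl[2] m) := by
    rw [← Nat.not_even_iff_odd, even_iff_two_dvd]
    exact Nat.not_dvd_ordCompl Nat.prime_two hm
  set t := ordCompl[2] (q - 1) with ht
  set m' := ordCompl[2] m with hm'
  have hhalf : q / 2 = 2 ^ (a - 1) * t := by
    have e1 : 2 ^ a = 2 * 2 ^ (a - 1) := by
      rw [← pow_succ']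
      congr 1
      omega
    rw [e1] at hfac
    have : 2 * (2 ^ (a - 1) * t) = q - 1 := by rw [← hfac]; ring
    omega
  have e1 : m * (2 ^ (a - 1 - b) * t) = (q / 2) * m' := by
    rw [hhalf, ← hfacm]
    have : 2 ^ (a - 1) = 2 ^ (a - 1 - b) * 2 ^ b := by
      rw [← pow_add]
      congr 1
      omega
    rw [this]
    ring
  have h5 : ((-z) ^ m) ^ (2 ^ (a - 1 - b) * t) = -1 := by
    rw [← pow_mul, e1, pow_mul, hwq, hoddm.neg_one_pow]
  rw [h, one_pow] at h5
  apply h2
  calc (2 : F) = 1 - (-1) := by ring
    _ = 0 := by rw [← h5]; ring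

end Arith

end Cfsg.Agent.Lib.Helper8.SubfInv
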