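import Mathlib
import Cfsg.Agent.Lib.Helper8.GSpFormH
import Cfsg.Agent.Lib.Helper8.GSpFormL
import Cfsg.Agent.Lib.Helper8.SubfInvD

/-!
# Operators with a quadratic relation commuting or semi-commuting with a given involution
(helper8)
-/

set_option autoImplicit false
set_option linter.unusedSectionVars false

namespace Cfsg.Agent.Lib.Helper8.ExtField

open Matrix Module Cfsg.Agent.Lib.Helper8.GSpForm Cfsg.Agent.Lib.Helper8.SubfInv

section Two

variable {F : Type*} [Field F] [Fintype F]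

/-- the case `n = 2` -/
theorem exists_semi_two (t d : F) (hirr : ∀ l : F, l ^ 2 - t * l + d ≠ 0)
    (X : Matrix (Fin 2) (Fin 2) F) (z : F) (hz : z ≠ 0)
    (hXX : X * X = z • (1 : Matrix (Fin 2) (Fin 2) F))
    (hns : ∀ c : F, X ≠ c • (1 : Matrix (Fin 2) (Fin 2) F)) :
    ∃ Ω' : Matrix (Fin 2) (Fin 2) F,
      Ω' * Ω' = t • Ω' - d • (1 : Matrix (Fin 2) (Fin 2) F) ∧
      X * Ω' = (t • (1 : Matrix (Fin 2) (Fin 2) F) - Ω') * X := by
  classical
  -- the parameters
  have hpr : ∃ p r : F, p ^ 2 - t * p + d = z * r ^ 2 := by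
    by_cases h2 : (2 : F) = 0
    · have : CharP F 2 := CharTwo.of_one_ne_zero_of_two_eq_zero one_ne_zero h2
      obtain ⟨s, hs⟩ := FiniteField.isSquare_of_char_two (ringChar.eq F 2) z
      obtain ⟨e, he⟩ := FiniteField.isSquare_of_char_two (ringChar.eq F 2) d
      have hs0 : s ≠ 0 := by
        intro h0
        rw [h0, mul_zero] at hs
        exact hz hs
      have ht : t ≠ 0 := by
        intro h0
        apply hirr e
        rw [h0, he]
        linear_combination e * e * h2
      refine ⟨d / t, d / (t * s), ?_⟩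
      rw [hs]
      field_simp
      ring
    · obtain ⟨a, b, hab⟩ := exists_norm z hz ((t ^ 2 - 4 * d) / 4)
      refine ⟨a + t / 2, b, ?_⟩
      have h4 : (4 : F) ≠ 0 := by
        have : (4 : F) = 2 * 2 := by norm_num
        rw [this]
        exact mul_ne_zero h2 h2
      have : a ^ 2 = z * b ^ 2 + (t ^ 2 - 4 * d) / 4 := by linear_combination hab
      field_simp
      field_simp at this
      linear_combination this
  obtain ⟨p, r, hpr⟩ := hpr
  obtain ⟨v, hv⟩ := exists_noneigen X hns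
  obtain ⟨w, hw⟩ : ∃ w : Fin 2 → F, w = X *ᵥ v := ⟨_, rfl⟩
  rw [← hw] at hv
  have hXw : X *ᵥ w = z • v := by
    rw [hw, Matrix.mulVec_mulVec, hXX, Matrix.smul_mulVec, Matrix.one_mulVec]
  have h0 : ∀ i, X i 0 * v 0 + X i 1 * v 1 = w i := by
    intro i
    have := congrFun hw i
    rw [Matrix.mulVec, dotProduct, Fin.sum_univ_two] at this
    exact this.symm
  have h1 : ∀ i, X i 0 * w 0 + X i 1 * w 1 = z * v i := by
    intro i
    have := congrFun hXw i
    rw [Matrix.mulVec, dotProduct, Fin.sum_univ_two] at this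
    exact this
  set P₀ : Matrix (Fin 2) (Fin 2) F := Matrix.of ![![v 0, w 0], ![v 1, w 1]] with hP₀
  have hdet : P₀.det ≠ 0 := by
    rw [Matrix.det_fin_two, hP₀]
    simp only [Matrix.of_apply, Matrix.cons_val_zero, Matrix.cons_val_one]
    intro h0'
    have h1' : v 0 * w 1 = w 0 * v 1 := sub_eq_zero.1 h0'
    by_cases hv0 : v 0 = 0
    · have hv1 : v 1 ≠ 0 := by
        intro hv1
        apply hv 0
        rw [zero_smul]
        have : v = 0 := by
          ext i
          fin_cases i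
          · exact hv0
          · exact hv1
        rw [hw, this, Matrix.mulVec_zero]
      rw [hv0, zero_mul] at h1'
      have hw0 : w 0 = 0 := by
        rcases mul_eq_zero.1 h1'.symm with h | h
        · exact h
        · exact absurd h hv1
      apply hv (w 1 / v 1)
      ext i
      fin_cases i
      · simp only [Fin.zero_eta, Pi.smul_apply, smul_eq_mul]
        rw [hw0, hv0, mul_zero]
      · simp only [Fin.mk_one, Pi.smul_apply, smul_eq_mul]
        field_simp
    · apply hv (w 0 / v 0)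
      ext i
      fin_cases i
      · simp only [Fin.zero_eta, Pi.smul_apply, smul_eq_mul]
        field_simp
      · simp only [Fin.mk_one, Pi.smul_apply, smul_eq_mul]
        field_simp
        linear_combination h1'
  have hu : IsUnit P₀.det := hdet.isUnit
  set Q₀ := P₀⁻¹ with hQ₀
  have hPQ : P₀ * Q₀ = 1 := Matrix.mul_nonsing_inv P₀ hu
  have hQP : Q₀ * P₀ = 1 := Matrix.nonsing_inv_mul P₀ hu
  set Xc : Matrix (Fin 2) (Fin 2) F := Matrix.of ![![0, z], ![1, 0]] with hXc
  set Ωc : Matrix (Fin 2) (Fin 2) F := Matrix.of ![![p, -(z * r)], ![r, t - p]] with hΩc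
  have hXP : X * P₀ = P₀ * Xc := by
    have e00 := h0 0
    have e01 := h0 1
    have e10 := h1 0
    have e11 := h1 1
    ext i j
    fin_cases i <;> fin_cases j
    · simp [Matrix.mul_apply, Fin.sum_univ_two, hP₀, hXc]
      linear_combination e00
    · simp [Matrix.mul_apply, Fin.sum_univ_two, hP₀, hXc]
      linear_combination e10
    · simp [Matrix.mul_apply, Fin.sum_univ_two, hP₀, hXc]
      linear_combination e01
    · simp [Matrix.mul_apply, Fin.sum_univ_two, hP₀, hXc]
      linear_combination e11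
  have hΩc2 : Ωc * Ωc = t • Ωc - d • (1 : Matrix (Fin 2) (Fin 2) F) := by
    ext i j
    fin_cases i <;> fin_cases j
    · simp [Matrix.mul_apply, Fin.sum_univ_two, hΩc]
      linear_combination hpr
    · simp [Matrix.mul_apply, Fin.sum_univ_two, hΩc]
      ring
    · simp [Matrix.mul_apply, Fin.sum_univ_two, hΩc]
      ring
    · simp [Matrix.mul_apply, Fin.sum_univ_two, hΩc]
      linear_combination hpr
  have hXΩc : Xc * Ωc = (t • (1 : Matrix (Fin 2) (Fin 2) F) - Ωc) * Xc := by
    ext i j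
    fin_cases i <;> fin_cases j
    · simp [Matrix.mul_apply, Fin.sum_univ_two, hΩc, hXc]
    · simp [Matrix.mul_apply, Fin.sum_univ_two, hΩc, hXc]
      ring
    · simp [Matrix.mul_apply, Fin.sum_univ_two, hΩc, hXc]
    · simp [Matrix.mul_apply, Fin.sum_univ_two, hΩc, hXc]
      try ring
  have hX : X = P₀ * Xc * Q₀ := by
    rw [← hXP, Matrix.mul_assoc, hPQ, Matrix.mul_one]
  refine ⟨P₀ * Ωc * Q₀, ?_, ?_⟩
  · calc P₀ * Ωc * Q₀ * (P₀ * Ωc * Q₀) = P₀ * (Ωc * ((Q₀ * P₀) * Ωc)) * Q₀ := by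
          simp only [Matrix.mul_assoc]
      _ = P₀ * (t • Ωc - d • (1 : Matrix (Fin 2) (Fin 2) F)) * Q₀ := by
          rw [hQP, Matrix.one_mul, hΩc2]
      _ = t • (P₀ * Ωc * Q₀) - d • (1 : Matrix (Fin 2) (Fin 2) F) := by
          rw [Matrix.mul_sub, Matrix.sub_mul, Matrix.mul_smul, Matrix.smul_mul, Matrix.mul_smul,
            Matrix.mul_one, Matrix.smul_mul, hPQ]
  · calc X * (P₀ * Ωc * Q₀) = P₀ * (Xc * ((Q₀ * P₀) * Ωc)) * Q₀ := by
          rw [hX]
          simp only [Matrix.mul_assoc]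
      _ = P₀ * ((t • (1 : Matrix (Fin 2) (Fin 2) F) - Ωc) * Xc) * Q₀ := by
          rw [hQP, Matrix.one_mul, hXΩc]
      _ = (t • (1 : Matrix (Fin 2) (Fin 2) F) - P₀ * Ωc * Q₀) * X := by
          rw [hX]
          have e1 : t • (1 : Matrix (Fin 2) (Fin 2) F) - P₀ * Ωc * Q₀ =
              P₀ * (t • (1 : Matrix (Fin 2) (Fin 2) F) - Ωc) * Q₀ := by
            rw [Matrix.mul_sub, Matrix.sub_mul, Matrix.mul_smul, Matrix.mul_one, Matrix.smul_mul,
              hPQ]
          rw [e1]
          calc P₀ * ((t • (1 : Matrix (Fin 2) (Fin 2) F) - Ωc) * Xc) * Q₀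
              = P₀ * ((t • (1 : Matrix (Fin 2) (Fin 2) F) - Ωc) * (1 * Xc)) * Q₀ := by
                rw [Matrix.one_mul]
            _ = P₀ * (t • (1 : Matrix (Fin 2) (Fin 2) F) - Ωc) * Q₀ * (P₀ * Xc * Q₀) := by
                rw [← hQP]
                simp only [Matrix.mul_assoc]

end Two

section NonSq

variable {F : Type*} [Field F] [Fintype F] {n : ℕ}

/-- the case of a non-square multiplier -/
theorem exists_comm_nonsq (h2 : (2 : F) ≠ 0) (t d : F) (hirr : ∀ l : F, l ^ 2 - t * l + d ≠ 0)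
    (X : Matrix (Fin n) (Fin n) F) (z : F) (hz : z ≠ 0)
    (hXX : X * X = z • (1 : Matrix (Fin n) (Fin n) F)) (hnsq : ∀ s : F, s ^ 2 ≠ z) :
    ∃ Ω' : Matrix (Fin n) (Fin n) F,
      Ω' * Ω' = t • Ω' - d • (1 : Matrix (Fin n) (Fin n) F) ∧ X * Ω' = Ω' * X := by
  classical
  have hch := ringChar_ne_two h2
  have h4 : (4 : F) ≠ 0 := by
    have : (4 : F) = 2 * 2 := by norm_num
    rw [this]
    exact mul_ne_zero h2 h2
  set D : F := t ^ 2 - 4 * d with hD
  have hDnsq : ¬ IsSquare D := by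
    rintro ⟨e, he⟩
    apply hirr ((t + e) / 2)
    have e0 : ((t + e) / 2) ^ 2 - t * ((t + e) / 2) + d = (e * e - (t ^ 2 - 4 * d)) / 4 := by
      field_simp
      ring
    rw [e0, ← he, hD, sub_self, zero_div]
  have hD0 : D ≠ 0 := by
    intro h0
    exact hDnsq ⟨0, by rw [h0, mul_zero]⟩
  have hznsq : ¬ IsSquare z := by
    rintro ⟨s, hs⟩
    exact hnsq s (by rw [hs, pow_two])
  have hDq : D ^ (Fintype.card F / 2) = -1 := by
    rcases FiniteField.pow_dichotomy hch hD0 with h1 | h1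
    · exact absurd ((FiniteField.isSquare_iff hch hD0).2 h1) hDnsq
    · exact h1
  have hzq : z ^ (Fintype.card F / 2) = -1 := by
    rcases FiniteField.pow_dichotomy hch hz with h1 | h1
    · exact absurd ((FiniteField.isSquare_iff hch hz).2 h1) hznsq
    · exact h1
  have hsq : IsSquare (D / z) := by
    rw [FiniteField.isSquare_iff hch (div_ne_zero hD0 hz), div_pow, hDq, hzq]
    field_simp
  obtain ⟨c, hc⟩ := hsq
  have hcz : c * c * z = D := by
    rw [← hc]
    field_simp
  refine ⟨(t / 2) • (1 : Matrix (Fin n) (Fin n) F) + (c / 2) • X, ?_, ?_⟩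
  · have e1 : ((t / 2) • (1 : Matrix (Fin n) (Fin n) F) + (c / 2) • X) *
        ((t / 2) • (1 : Matrix (Fin n) (Fin n) F) + (c / 2) • X) =
        (t / 2 * (t / 2) + c / 2 * (c / 2) * z) • (1 : Matrix (Fin n) (Fin n) F) +
          (t / 2 * (c / 2) + c / 2 * (t / 2)) • X := by
      simp only [Matrix.add_mul, Matrix.mul_add, Matrix.smul_mul, Matrix.mul_smul,
        Matrix.one_mul, Matrix.mul_one, hXX, smul_smul]
      module
    rw [e1]
    have e2 : t / 2 * (t / 2) + c / 2 * (c / 2) * z = t * (t / 2) - d := by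
      have : c / 2 * (c / 2) * z = D / 4 := by
        rw [← hcz]
        field_simp
        ring
      rw [this, hD]
      field_simp
      ring
    have e3 : t / 2 * (c / 2) + c / 2 * (t / 2) = t * (c / 2) := by
      field_simp
      ring
    rw [e2, e3, smul_add, smul_smul, smul_smul, sub_smul]
    abel
  · rw [Matrix.mul_add, Matrix.add_mul, Matrix.mul_smul, Matrix.smul_mul, Matrix.mul_one,
      Matrix.one_mul, Matrix.mul_smul, Matrix.smul_mul]

end NonSq

section Sq

universe u

variable {F : Type*} [Field F]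

/-- on an even-dimensional space there is an operator with a given quadratic relation -/
theorem exists_op_of_even (t d : F) {V : Type u} [AddCommGroup V] [Module F V]
    [FiniteDimensional F V] (k : ℕ) (hk : Module.finrank F V = 2 * k) :
    ∃ ω : V →ₗ[F] V, ∀ v, ω (ω v) = t • ω v - d • v := by
  classical
  have hcard : Fintype.card (Fin k ⊕ Fin k) = Module.finrank F V := by
    rw [Fintype.card_sum, Fintype.card_fin, hk, two_mul]
  let b : Module.Basis (Fin k ⊕ Fin k) F V :=
    (Module.finBasis F V).reindex (Fintype.equivOfCardEq (by rw [Fintype.card_fin, hcard])).symm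
  set ω : V →ₗ[F] V := b.constr F
    (Sum.elim (fun i => b (Sum.inr i)) (fun i => t • b (Sum.inr i) - d • b (Sum.inl i))) with hω
  have hωl : ∀ i, ω (b (Sum.inl i)) = b (Sum.inr i) := by
    intro i
    rw [hω, Module.Basis.constr_basis, Sum.elim_inl]
  have hωr : ∀ i, ω (b (Sum.inr i)) = t • b (Sum.inr i) - d • b (Sum.inl i) := by
    intro i
    rw [hω, Module.Basis.constr_basis, Sum.elim_inr]
  refine ⟨ω, ?_⟩
  have hlin : ω ∘ₗ ω = t • ω - d • LinearMap.id := by
    apply b.ext
    intro j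
    rcases j with i | i
    · simp only [LinearMap.comp_apply, LinearMap.sub_apply, LinearMap.smul_apply,
        LinearMap.id_apply]
      rw [hωl, hωr]
    · simp only [LinearMap.comp_apply, LinearMap.sub_apply, LinearMap.smul_apply,
        LinearMap.id_apply]
      rw [hωr, map_sub, map_smul, map_smul, hωr, hωl]
  intro v
  have := congrArg (fun f : V →ₗ[F] V => f v) hlin
  simpa using this

variable {n : ℕ}

/-- the case of a square multiplier with even-dimensional eigenspaces -/
theorem exists_comm_sq (h2 : (2 : F) ≠ 0) (t d : F) (X : Matrix (Fin n) (Fin n) F) (s : F)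
    (hs : s ≠ 0) (hXX : X * X = (s ^ 2) • (1 : Matrix (Fin n) (Fin n) F)) (k₁ k₂ : ℕ)
    (h₁ : Module.finrank F (Ep (Matrix.toLin' X) s) = 2 * k₁)
    (h₂ : Module.finrank F (Em (Matrix.toLin' X) s) = 2 * k₂) :
    ∃ Ω' : Matrix (Fin n) (Fin n) F,
      Ω' * Ω' = t • Ω' - d • (1 : Matrix (Fin n) (Fin n) F) ∧ X * Ω' = Ω' * X := by
  classical
  set xl : (Fin n → F) →ₗ[F] (Fin n → F) := Matrix.toLin' X with hxl
  have hxlxl : ∀ v, xl (xl v) = (s ^ 2) • v := by
    intro v
    rw [hxl, Matrix.toLin'_apply, Matrix.toLin'_apply, Matrix.mulVec_mulVec, hXX,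
      Matrix.smul_mulVec, Matrix.one_mulVec]
  have hc := isCompl_E xl s hs h2 hxlxl
  obtain ⟨ωa, hωa⟩ := exists_op_of_even t d (V := ↥(Ep xl s)) k₁ h₁
  obtain ⟨ωb, hωb⟩ := exists_op_of_even t d (V := ↥(Em xl s)) k₂ h₂
  set e := Submodule.prodEquivOfIsCompl (Ep xl s) (Em xl s) hc with he
  set ω' : (Fin n → F) →ₗ[F] (Fin n → F) :=
    (e : (↥(Ep xl s) × ↥(Em xl s)) →ₗ[F] (Fin n → F)) ∘ₗ (LinearMap.prodMap ωa ωb) ∘ₗ
      (e.symm : (Fin n → F) →ₗ[F] (↥(Ep xl s) × ↥(Em xl s))) with hω'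
  have hω'app : ∀ v, ω' v = ((ωa (e.symm v).1 : ↥(Ep xl s)) : Fin n → F) +
      ((ωb (e.symm v).2 : ↥(Em xl s)) : Fin n → F) := by
    intro v
    simp only [hω', LinearMap.comp_apply, LinearEquiv.coe_coe, LinearMap.prodMap_apply, he,
      Submodule.coe_prodEquivOfIsCompl']
  have hsymm : ∀ (u : ↥(Ep xl s)) (w : ↥(Em xl s)),
      e.symm ((u : Fin n → F) + (w : Fin n → F)) = (u, w) := by
    intro u w
    rw [LinearEquiv.symm_apply_eq, he, Submodule.coe_prodEquivOfIsCompl']
  have hdecomp : ∀ v, v = (((e.symm v).1 : ↥(Ep xl s)) : Fin n → F) +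
      (((e.symm v).2 : ↥(Em xl s)) : Fin n → F) := by
    intro v
    have := e.apply_symm_apply v
    rw [he, Submodule.coe_prodEquivOfIsCompl'] at this
    exact this.symm
  have hω'uw : ∀ (u : ↥(Ep xl s)) (w : ↥(Em xl s)),
      ω' ((u : Fin n → F) + (w : Fin n → F)) =
        ((ωa u : ↥(Ep xl s)) : Fin n → F) + ((ωb w : ↥(Em xl s)) : Fin n → F) := by
    intro u w
    rw [hω'app, hsymm]
  have hrel : ∀ v, ω' (ω' v) = t • ω' v - d • v := by
    intro v
    obtain ⟨u, w, rfl⟩ : ∃ (u : ↥(Ep xl s)) (w : ↥(Em xl s)),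
        v = (u : Fin n → F) + (w : Fin n → F) := ⟨_, _, hdecomp v⟩
    rw [hω'uw, hω'uw, hωa, hωb]
    simp only [Submodule.coe_sub, Submodule.coe_smul]
    module
  have hcomm : ∀ v, xl (ω' v) = ω' (xl v) := by
    intro v
    obtain ⟨u, w, rfl⟩ : ∃ (u : ↥(Ep xl s)) (w : ↥(Em xl s)),
        v = (u : Fin n → F) + (w : Fin n → F) := ⟨_, _, hdecomp v⟩
    have hu := (mem_Ep xl s _).1 u.2
    have hw := (mem_Em xl s _).1 w.2
    have hu' := (mem_Ep xl s _).1 (ωa u).2
    have hw' := (mem_Em xl s _).1 (ωb w).2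
    have h1 : xl ((u : Fin n → F) + (w : Fin n → F)) =
        ((s • u : ↥(Ep xl s)) : Fin n → F) + (((-s) • w : ↥(Em xl s)) : Fin n → F) := by
      rw [map_add, hu, hw, Submodule.coe_smul, Submodule.coe_smul, neg_smul]
    rw [hω'uw, h1, hω'uw, map_add, hu', hw', map_smul, map_smul, Submodule.coe_smul,
      Submodule.coe_smul, neg_smul]
  refine ⟨LinearMap.toMatrix' ω', ?_, ?_⟩
  · rw [← LinearMap.toMatrix'_comp]
    have : ω' ∘ₗ ω' = t • ω' - d • LinearMap.id := by
      apply LinearMap.ext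
      intro v
      rw [LinearMap.comp_apply, LinearMap.sub_apply, LinearMap.smul_apply, LinearMap.smul_apply,
        LinearMap.id_apply]
      exact hrel v
    rw [this, map_sub, map_smul, map_smul, LinearMap.toMatrix'_id]
  · have e1 : X = LinearMap.toMatrix' xl := (LinearMap.toMatrix'_toLin' X).symm
    rw [e1, ← LinearMap.toMatrix'_comp, ← LinearMap.toMatrix'_comp]
    congr 1
    apply LinearMap.ext
    intro v
    rw [LinearMap.comp_apply, LinearMap.comp_apply]
    exact hcomm v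

end Sq

end Cfsg.Agent.Lib.Helper8.ExtField
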