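import Mathlib
import Cfsg.Prelude.Def_GeometricClasses
import Cfsg.Agent.S5642
import Cfsg.Agent.Lib.Helper8.JTypeA

/-!
# Similarities of a symplectic form on `Fin n → F`: the Gram matrix, the rank invariant
`rank (g - μ) = rank (g - c / μ)`, and the parity of `rank (g - 1)²` for isometries (helper8)
-/

set_option autoImplicit false
set_option linter.unusedSectionVars false

namespace Cfsg.Agent.Lib.Helper8.GSpForm

open Matrix Module Cfsg.Agent.Lib.Helper8.JType

section Mat

variable {ι : Type*} [Fintype ι] [DecidableEq ι] {F : Type*} [Field F]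

theorem rank_smul_of_ne_zero (c : F) (hc : c ≠ 0) (M : Matrix ι ι F) : (c • M).rank = M.rank := by
  have h1 : c • M = (c • (1 : Matrix ι ι F)) * M := by rw [Matrix.smul_mul, Matrix.one_mul]
  rw [h1]
  apply Matrix.rank_mul_eq_right_of_isUnit_det
  rw [Matrix.det_smul, Matrix.det_one, mul_one]
  exact (pow_ne_zero _ hc).isUnit

/-- a similarity `g` of the invertible form `A` with multiplier `c` has
`rank (g - μ) = rank (g - c / μ)` -/
theorem rank_sub_smul_eq (A g : Matrix ι ι F) (hA : A.det ≠ 0) (hg : g.det ≠ 0) (c μ : F)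
    (hμ : μ ≠ 0) (h : gᵀ * A * g = c • A) :
    (g - μ • (1 : Matrix ι ι F)).rank = (g - (c / μ) • (1 : Matrix ι ι F)).rank := by
  have key : (g - μ • (1 : Matrix ι ι F))ᵀ * (A * g) =
      (-μ) • (A * (g - (c / μ) • (1 : Matrix ι ι F))) := by
    rw [Matrix.transpose_sub, Matrix.transpose_smul, Matrix.transpose_one, Matrix.sub_mul,
      ← Matrix.mul_assoc, h, Matrix.smul_mul, Matrix.one_mul, Matrix.mul_sub, Matrix.mul_smul,
      Matrix.mul_one, smul_sub, smul_smul]
    have : -μ * (c / μ) = -c := by field_simp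
    rw [this]
    simp only [neg_smul]
    abel
  have h1 : ((g - μ • (1 : Matrix ι ι F))ᵀ * (A * g)).rank = (g - μ • (1 : Matrix ι ι F)).rank := by
    rw [Matrix.rank_mul_eq_left_of_isUnit_det _ _ (by
      rw [Matrix.det_mul]; exact (mul_ne_zero hA hg).isUnit), Matrix.rank_transpose]
  rw [← h1, key, rank_smul_of_ne_zero _ (neg_ne_zero.2 hμ),
    Matrix.rank_mul_eq_right_of_isUnit_det _ _ hA.isUnit]

/-- for an isometry `g` of an invertible alternating form, `rank (g - 1)²` is even -/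
theorem even_rank_sq (A g : Matrix ι ι F) (hA : IsAltM A) (hAd : A.det ≠ 0) (hgd : g.det ≠ 0)
    (h : gᵀ * A * g = A) : Even ((g - 1) * (g - 1)).rank := by
  have hgu : IsUnit g.det := hgd.isUnit
  have hgi : g * g⁻¹ = 1 := Matrix.mul_nonsing_inv g hgu
  have hig : g⁻¹ * g = 1 := Matrix.nonsing_inv_mul g hgu
  have h1 : gᵀ * A = A * g⁻¹ := by
    have : gᵀ * A * g * g⁻¹ = A * g⁻¹ := by rw [h]
    rwa [Matrix.mul_assoc, hgi, Matrix.mul_one] at this
  have h2 : g⁻¹ᵀ * A = A * g := by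
    have : g⁻¹ᵀ * (gᵀ * A * g) = g⁻¹ᵀ * A := by rw [h]
    rw [← this, ← Matrix.mul_assoc, ← Matrix.mul_assoc, ← Matrix.transpose_mul, hgi,
      Matrix.transpose_one, Matrix.one_mul]
  set M := A * g + A * g⁻¹ - A - A with hM
  have hMalt : IsAltM M := by
    constructor
    · rw [hM, Matrix.transpose_sub, Matrix.transpose_sub, Matrix.transpose_add,
        Matrix.transpose_mul, Matrix.transpose_mul, hA.1, Matrix.mul_neg, Matrix.mul_neg, h1, h2]
      abel
    · intro i
      rw [hM, Matrix.sub_apply, Matrix.sub_apply, Matrix.add_apply, hA.2 i, sub_zero, sub_zero,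
        ← h1, Matrix.mul_apply, Matrix.mul_apply, ← Finset.sum_add_distrib]
      apply Finset.sum_eq_zero
      intro k _
      rw [Matrix.transpose_apply, hA.apply_swap k i]
      ring
  have e1 : g⁻¹ * ((g - 1) * (g - 1)) = g + g⁻¹ - 1 - 1 := by
    have : (g - 1) * (g - 1) = g * g - g - g + 1 := by noncomm_ring
    rw [this, Matrix.mul_add, Matrix.mul_sub, Matrix.mul_sub, ← Matrix.mul_assoc, hig,
      Matrix.one_mul, Matrix.mul_one]
    abel
  have hMeq : M = (A * g⁻¹) * ((g - 1) * (g - 1)) := by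
    rw [Matrix.mul_assoc, e1, hM, Matrix.mul_sub, Matrix.mul_sub, Matrix.mul_add, Matrix.mul_one]
  have := hMalt.even_rank
  rwa [hMeq, Matrix.rank_mul_eq_right_of_isUnit_det _ _ (by
    rw [Matrix.det_mul, Matrix.det_nonsing_inv]
    exact (mul_ne_zero hAd (by simpa using hgd)).isUnit)] at this

end Mat

section Form

variable {n : ℕ} {F : Type*} [Field F] {f : (Fin n → F) → (Fin n → F) → F}

/-- the Gram matrix of a symplectic form -/
noncomputable def gram (hf : Cfsg.Geo.IsSymplecticForm f) : Matrix (Fin n) (Fin n) F :=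
  LinearMap.toMatrix' (Cfsg.Agent.S5642.flat hf)

theorem gram_mulVec (hf : Cfsg.Geo.IsSymplecticForm f) (v : Fin n → F) :
    gram hf *ᵥ v = Cfsg.Agent.S5642.flat hf v := by
  rw [gram, ← Matrix.toLin'_apply, Matrix.toLin'_toMatrix']

theorem form_eq (hf : Cfsg.Geo.IsSymplecticForm f) (u v : Fin n → F) :
    f u v = u ⬝ᵥ (gram hf *ᵥ v) := by
  rw [gram_mulVec, dotProduct_comm, Cfsg.Agent.S5642.flat_dot]

theorem gram_apply (hf : Cfsg.Geo.IsSymplecticForm f) (i j : Fin n) :
    gram hf i j = f (Pi.single i 1) (Pi.single j 1) := by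
  rw [gram, LinearMap.toMatrix'_apply]
  rfl

theorem gram_alt (hf : Cfsg.Geo.IsSymplecticForm f) : IsAltM (gram hf) := by
  constructor
  · ext i j
    rw [Matrix.transpose_apply, Matrix.neg_apply, gram_apply, gram_apply, hf.skew]
  · intro i
    rw [gram_apply, hf.alternating]

theorem gram_det (hf : Cfsg.Geo.IsSymplecticForm f) : (gram hf).det ≠ 0 := by
  intro h0
  obtain ⟨v, hv, hv0⟩ := Matrix.exists_mulVec_eq_zero_iff.2 h0
  rw [gram_mulVec] at hv0
  apply hv
  apply Cfsg.Agent.S5642.flat_injective hf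
  rw [hv0, map_zero]

theorem form_mulVec (hf : Cfsg.Geo.IsSymplecticForm f) (g : Matrix (Fin n) (Fin n) F)
    (u v : Fin n → F) : f (g *ᵥ u) (g *ᵥ v) = u ⬝ᵥ ((gᵀ * gram hf * g) *ᵥ v) := by
  rw [form_eq hf, Matrix.mulVec_mulVec, Matrix.dotProduct_mulVec, ← Matrix.vecMul_transpose,
    Matrix.vecMul_vecMul, ← Matrix.dotProduct_mulVec, Matrix.mul_assoc]

theorem eq_of_dot {M N : Matrix (Fin n) (Fin n) F}
    (h : ∀ u v : Fin n → F, u ⬝ᵥ (M *ᵥ v) = u ⬝ᵥ (N *ᵥ v)) : M = N := by
  ext i j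
  have := h (Pi.single i 1) (Pi.single j 1)
  rwa [Matrix.mulVec_single_one, Matrix.mulVec_single_one, single_one_dotProduct,
    single_one_dotProduct] at this

/-- similarities in matrix form -/
theorem sim_iff (hf : Cfsg.Geo.IsSymplecticForm f) (g : Matrix (Fin n) (Fin n) F) (c : F) :
    (∀ u v, f (g *ᵥ u) (g *ᵥ v) = c * f u v) ↔ gᵀ * gram hf * g = c • gram hf := by
  constructor
  · intro h
    apply eq_of_dot
    intro u v
    rw [← form_mulVec hf, h, form_eq hf, Matrix.smul_mulVec, dotProduct_smul, smul_eq_mul]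
  · intro h u v
    rw [form_mulVec hf, h, form_eq hf, Matrix.smul_mulVec, dotProduct_smul, smul_eq_mul]

theorem mem_sim_iff (hf : Cfsg.Geo.IsSymplecticForm f) (g : GL (Fin n) F) :
    g ∈ Cfsg.Geo.similarityGroup f ↔
      ∃ c : F, c ≠ 0 ∧ (g : Matrix (Fin n) (Fin n) F)ᵀ * gram hf * (g : Matrix (Fin n) (Fin n) F) =
        c • gram hf := by
  constructor
  · rintro ⟨c, hc⟩
    exact ⟨(c : F), c.ne_zero, (sim_iff hf _ _).1 hc⟩
  · rintro ⟨c, hc0, hc⟩
    exact ⟨Units.mk0 c hc0, (sim_iff hf _ _).2 hc⟩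

end Form

end Cfsg.Agent.Lib.Helper8.GSpForm
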