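import Mathlib
import Cfsg.Agent.Lib.Helper8.GSpFormA
import Cfsg.Agent.H9.SympEmbed
import Cfsg.Agent.Lib.Helper8.SpCountA
import Cfsg.Agent.S0245

/-!
# The isometry group of a symplectic form on `Fin n → F` inside `SL_n(F)`: transfer to the standard
symplectic group, determinant one, and the order (helper8)
-/

set_option autoImplicit false
set_option linter.unusedSectionVars false

namespace Cfsg.Agent.Lib.Helper8.GSpForm

open Matrix Module Cfsg.Agent.Lib.Helper8.JType

section Conj

variable {α β : Type*} [Fintype α] [Fintype β] [DecidableEq α] [DecidableEq β] {R : Type*}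
  [CommRing R]

theorem conj_form (C : Matrix α β R) (D : Matrix β α R) (hCD : C * D = 1) (g A : Matrix α α R) :
    (D * g * C)ᵀ * (Cᵀ * A * C) * (D * g * C) = Cᵀ * (gᵀ * A * g) * C := by
  have : (D * g * C)ᵀ * (Cᵀ * A * C) * (D * g * C) =
      Cᵀ * (gᵀ * ((C * D)ᵀ * A * (C * D)) * g) * C := by
    simp only [Matrix.transpose_mul, Matrix.mul_assoc]
  rw [this, hCD, Matrix.transpose_one, Matrix.one_mul, Matrix.mul_one]

end Conj

variable {n : ℕ} {F : Type*} [Field F] {f : (Fin n → F) → (Fin n → F) → F}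

/-- a change of basis to the standard symplectic form -/
theorem exists_transfer [Finite F] (hf : Cfsg.Geo.IsSymplecticForm f) (m : ℕ) (hn : n = 2 * m) :
    ∃ (C : Matrix (Fin n) (Fin m ⊕ Fin m) F) (D : Matrix (Fin m ⊕ Fin m) (Fin n) F),
      C * D = 1 ∧ D * C = 1 ∧ Cᵀ * gram hf * C = J (Fin m) F := by
  classical
  set B : LinearMap.BilinForm F (Fin n → F) := Matrix.toBilin' (gram hf) with hB
  have hBapp : ∀ u v, B u v = u ⬝ᵥ (gram hf *ᵥ v) := fun u v => by
    rw [hB, Matrix.toBilin'_apply']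
  have hnd : B.Nondegenerate :=
    Matrix.Nondegenerate.toBilin' (Matrix.nondegenerate_of_det_ne_zero (gram_det hf))
  have halt : B.IsAlt := fun v => by rw [hBapp]; exact (gram_alt hf).dot_self v
  have hdim : finrank F (Fin n → F) = 2 * m := by
    rw [Module.finrank_pi, Fintype.card_fin, hn]
  obtain ⟨b, hb⟩ := Cfsg.Agent.H9.SympEmbed.exists_symplectic_basis B hnd halt m hdim
  refine ⟨(Pi.basisFun F (Fin n)).toMatrix b, b.toMatrix (Pi.basisFun F (Fin n)),
    Module.Basis.toMatrix_mul_toMatrix_flip _ _, Module.Basis.toMatrix_mul_toMatrix_flip _ _, ?_⟩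
  ext j k
  rw [← hb j k, hBapp, Matrix.mul_apply]
  simp only [Matrix.mul_apply, Matrix.transpose_apply, Module.Basis.toMatrix_apply,
    Pi.basisFun_repr, dotProduct, Matrix.mulVec, Finset.sum_mul]
  rw [Finset.sum_comm]
  apply Finset.sum_congr rfl
  intro i _
  rw [Finset.mul_sum]
  apply Finset.sum_congr rfl
  intro l _
  ring

/-- isometries have determinant one -/
theorem det_eq_one_of_isometry [Finite F] (hf : Cfsg.Geo.IsSymplecticForm f) (m : ℕ)
    (hn : n = 2 * m) (g : Matrix (Fin n) (Fin n) F) (h : gᵀ * gram hf * g = gram hf) :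
    g.det = 1 := by
  obtain ⟨C, D, hCD, hDC, hJ⟩ := exists_transfer hf m hn
  have hmem : D * g * C ∈ symplecticGroup (Fin m) F := by
    rw [SymplecticGroup.mem_iff', ← hJ, conj_form C D hCD, h]
  have h1 := Cfsg.Agent.Lib.Helper8.SpCount.det_eq_one (⟨D * g * C, hmem⟩ : symplecticGroup (Fin m) F)
  have h2 : (D * g * C).det = g.det := Matrix.det_conj_of_mul_eq_one hDC hCD
  rw [← h2]
  exact h1

/-- the isometries of the form, as a subgroup of `SL_n(F)` -/
noncomputable def isoSub (hf : Cfsg.Geo.IsSymplecticForm f) :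
    Subgroup (Matrix.SpecialLinearGroup (Fin n) F) where
  carrier := {x | (x : Matrix (Fin n) (Fin n) F)ᵀ * gram hf * (x : Matrix (Fin n) (Fin n) F) = gram hf}
  mul_mem' := by
    intro a b ha hb
    simp only [Set.mem_ofPred_eq] at ha hb ⊢
    rw [Matrix.SpecialLinearGroup.coe_mul, Matrix.transpose_mul]
    have : (b : Matrix (Fin n) (Fin n) F)ᵀ * (a : Matrix (Fin n) (Fin n) F)ᵀ * gram hf *
        ((a : Matrix (Fin n) (Fin n) F) * (b : Matrix (Fin n) (Fin n) F)) =
        (b : Matrix (Fin n) (Fin n) F)ᵀ * ((a : Matrix (Fin n) (Fin n) F)ᵀ * gram hf *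
          (a : Matrix (Fin n) (Fin n) F)) * (b : Matrix (Fin n) (Fin n) F) := by
      simp only [Matrix.mul_assoc]
    rw [this, ha, hb]
  one_mem' := by
    simp only [Set.mem_ofPred_eq, Matrix.SpecialLinearGroup.coe_one, Matrix.transpose_one,
      Matrix.one_mul, Matrix.mul_one]
  inv_mem' := by
    intro a ha
    simp only [Set.mem_ofPred_eq] at ha ⊢
    have h1 : (a : Matrix (Fin n) (Fin n) F) * ((a⁻¹ : Matrix.SpecialLinearGroup (Fin n) F) :
        Matrix (Fin n) (Fin n) F) = 1 := by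
      rw [← Matrix.SpecialLinearGroup.coe_mul, mul_inv_cancel, Matrix.SpecialLinearGroup.coe_one]
    set ai := ((a⁻¹ : Matrix.SpecialLinearGroup (Fin n) F) : Matrix (Fin n) (Fin n) F) with hai
    calc aiᵀ * gram hf * ai
        = aiᵀ * ((a : Matrix (Fin n) (Fin n) F)ᵀ * gram hf * (a : Matrix (Fin n) (Fin n) F)) * ai := by
          rw [ha]
      _ = ((a : Matrix (Fin n) (Fin n) F) * ai)ᵀ * gram hf * ((a : Matrix (Fin n) (Fin n) F) * ai) := by
          simp only [Matrix.transpose_mul, Matrix.mul_assoc]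
      _ = gram hf := by rw [h1, Matrix.transpose_one, Matrix.one_mul, Matrix.mul_one]

theorem mem_isoSub (hf : Cfsg.Geo.IsSymplecticForm f) (x : Matrix.SpecialLinearGroup (Fin n) F) :
    x ∈ isoSub hf ↔
      (x : Matrix (Fin n) (Fin n) F)ᵀ * gram hf * (x : Matrix (Fin n) (Fin n) F) = gram hf :=
  Iff.rfl

theorem isoSub_le (hf : Cfsg.Geo.IsSymplecticForm f) :
    isoSub hf ≤ (Cfsg.Geo.similarityGroup f).comap
      (Matrix.SpecialLinearGroup.toGL : Matrix.SpecialLinearGroup (Fin n) F →* GL (Fin n) F) := by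
  intro x hx
  rw [Subgroup.mem_comap, mem_sim_iff hf]
  refine ⟨1, one_ne_zero, ?_⟩
  rw [one_smul]
  exact hx

/-- the order of the isometry group -/
theorem card_isoSub [Finite F] (hf : Cfsg.Geo.IsSymplecticForm f) (m : ℕ) (hn : n = 2 * m) :
    Nat.card ↥(isoSub hf) = Nat.card ↥(symplecticGroup (Fin m) F) := by
  obtain ⟨C, D, hCD, hDC, hJ⟩ := exists_transfer hf m hn
  have hA : gram hf = Dᵀ * J (Fin m) F * D := by
    rw [← hJ]
    have : Dᵀ * (Cᵀ * gram hf * C) * D = (C * D)ᵀ * gram hf * (C * D) := by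
      simp only [Matrix.transpose_mul, Matrix.mul_assoc]
    rw [this, hCD, Matrix.transpose_one, Matrix.one_mul, Matrix.mul_one]
  have hback : ∀ M : ↥(symplecticGroup (Fin m) F),
      (C * M.1 * D)ᵀ * gram hf * (C * M.1 * D) = gram hf := by
    intro M
    have hM := (SymplecticGroup.mem_iff'.1 M.2)
    rw [hA, conj_form D C hDC, hM]
  apply Nat.card_congr
  refine
    { toFun := fun x => ⟨D * (x.1 : Matrix (Fin n) (Fin n) F) * C, ?_⟩
      invFun := fun M => ⟨⟨C * M.1 * D, det_eq_one_of_isometry hf m hn _ (hback M)⟩, hback M⟩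
      left_inv := ?_
      right_inv := ?_ }
  · rw [SymplecticGroup.mem_iff', ← hJ, conj_form C D hCD]
    have := (mem_isoSub hf x.1).1 x.2
    rw [this]
  · intro x
    apply Subtype.ext
    apply Subtype.ext
    show C * (D * (x.1 : Matrix (Fin n) (Fin n) F) * C) * D = (x.1 : Matrix (Fin n) (Fin n) F)
    have : C * (D * (x.1 : Matrix (Fin n) (Fin n) F) * C) * D =
        (C * D) * (x.1 : Matrix (Fin n) (Fin n) F) * (C * D) := by
      simp only [Matrix.mul_assoc]
    rw [this, hCD, Matrix.one_mul, Matrix.mul_one]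
  · intro M
    apply Subtype.ext
    show D * (C * M.1 * D) * C = M.1
    have : D * (C * M.1 * D) * C = (D * C) * M.1 * (D * C) := by
      simp only [Matrix.mul_assoc]
    rw [this, hDC, Matrix.one_mul, Matrix.mul_one]

end Cfsg.Agent.Lib.Helper8.GSpForm
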