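import Mathlib
import Cfsg.Agent.Lib.Helper8.GSpFormB
import Cfsg.Agent.Lib.Helper8.GSpFormH

/-!
# An involution of `PSL_n` which is a similarity of some symplectic form is `SL`-conjugate into
the similarity group of any given symplectic form (helper8)
-/

set_option autoImplicit false
set_option linter.unusedSectionVars false

namespace Cfsg.Agent.Lib.Helper8.GSpForm

open Matrix Module

variable {n : ℕ} {F : Type*} [Field F] [Fintype F]
  {f f' : (Fin n → F) → (Fin n → F) → F}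

theorem exists_sl_conj (hf : Cfsg.Geo.IsSymplecticForm f) (hf' : Cfsg.Geo.IsSymplecticForm f')
    (m : ℕ) (hn : n = 2 * m) (x : Matrix.SpecialLinearGroup (Fin n) F) (z : F) (hz : z ≠ 0)
    (hx2 : (x : Matrix (Fin n) (Fin n) F) * (x : Matrix (Fin n) (Fin n) F) =
      z • (1 : Matrix (Fin n) (Fin n) F))
    (hns : ∀ c : F, (x : Matrix (Fin n) (Fin n) F) ≠ c • (1 : Matrix (Fin n) (Fin n) F))
    (c : F) (hc : c ≠ 0)
    (hx : (x : Matrix (Fin n) (Fin n) F)ᵀ * gram hf' * (x : Matrix (Fin n) (Fin n) F) =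
      c • gram hf') :
    ∃ P : Matrix.SpecialLinearGroup (Fin n) F, P⁻¹ * x * P ∈
      ((Cfsg.Geo.similarityGroup f).comap (Matrix.SpecialLinearGroup.toGL :
        Matrix.SpecialLinearGroup (Fin n) F →* GL (Fin n) F)) := by
  classical
  set X := (x : Matrix (Fin n) (Fin n) F) with hX
  obtain ⟨C₁, D₁, h11, h12, hJ1⟩ := exists_transfer hf m hn
  obtain ⟨C₂, D₂, h21, h22, hJ2⟩ := exists_transfer hf' m hn
  set P₀ := C₂ * D₁ with hP₀
  set Q₀ := C₁ * D₂ with hQ₀
  have hPQ : P₀ * Q₀ = 1 := by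
    rw [hP₀, hQ₀, Matrix.mul_assoc, ← Matrix.mul_assoc D₁, h12, Matrix.one_mul, h21]
  have hQP : Q₀ * P₀ = 1 := by
    rw [hP₀, hQ₀, Matrix.mul_assoc, ← Matrix.mul_assoc D₂, h22, Matrix.one_mul, h11]
  -- `P₀ᵀ A' P₀ = A`
  have hPA : P₀ᵀ * gram hf' * P₀ = gram hf := by
    have e1 : P₀ᵀ * gram hf' * P₀ = D₁ᵀ * (C₂ᵀ * gram hf' * C₂) * D₁ := by
      rw [hP₀, Matrix.transpose_mul]
      simp only [Matrix.mul_assoc]
    have e2 : D₁ᵀ * (C₁ᵀ * gram hf * C₁) * D₁ = (C₁ * D₁)ᵀ * gram hf * (C₁ * D₁) := by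
      rw [Matrix.transpose_mul]
      simp only [Matrix.mul_assoc]
    rw [e1, hJ2, ← hJ1, e2, h11, Matrix.transpose_one, Matrix.one_mul, Matrix.mul_one]
  have hP₀det : P₀.det ≠ 0 := by
    intro h0
    have := congrArg Matrix.det hPQ
    rw [Matrix.det_mul, h0, zero_mul, Matrix.det_one] at this
    exact zero_ne_one this
  -- a centralizing matrix with the inverse determinant
  obtain ⟨v, hv⟩ := exists_noneigen X hns
  obtain ⟨a, b, hab⟩ := exists_norm z hz (P₀.det)⁻¹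
  obtain ⟨Z, hZX, hZdet⟩ := exists_centralizer_det X z hx2 v hv a b
  rw [hab] at hZdet
  have hZu : IsUnit Z.det := by
    rw [hZdet]
    exact (inv_ne_zero hP₀det).isUnit
  set W := Z⁻¹ with hW
  have hZW : Z * W = 1 := Matrix.mul_nonsing_inv Z hZu
  have hWZ : W * Z = 1 := Matrix.nonsing_inv_mul Z hZu
  have hWX : W * X = X * W := by
    have : W * (Z * X) * W = W * (X * Z) * W := by rw [hZX]
    rw [← Matrix.mul_assoc, hWZ, Matrix.one_mul, Matrix.mul_assoc, Matrix.mul_assoc, hZW,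
      Matrix.mul_one] at this
    exact this.symm
  -- the twisted form
  set A'' := Wᵀ * gram hf' * W with hA''
  have hXA'' : Xᵀ * A'' * X = c • A'' := by
    have e1 : Xᵀ * A'' * X = (W * X)ᵀ * gram hf' * (W * X) := by
      rw [hA'', Matrix.transpose_mul]
      simp only [Matrix.mul_assoc]
    have e2 : (X * W)ᵀ * gram hf' * (X * W) = Wᵀ * (Xᵀ * gram hf' * X) * W := by
      rw [Matrix.transpose_mul]
      simp only [Matrix.mul_assoc]
    rw [e1, hWX, e2, hx, hA'', Matrix.mul_smul, Matrix.smul_mul]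
  set Pm := Z * P₀ with hPm
  have hPmdet : Pm.det = 1 := by
    rw [hPm, Matrix.det_mul, hZdet, inv_mul_cancel₀ hP₀det]
  have hPmA : Pmᵀ * A'' * Pm = gram hf := by
    have e1 : Pmᵀ * A'' * Pm = P₀ᵀ * ((W * Z)ᵀ * gram hf' * (W * Z)) * P₀ := by
      rw [hPm, hA'', Matrix.transpose_mul Z P₀, Matrix.transpose_mul W Z]
      simp only [Matrix.mul_assoc]
    rw [e1, hWZ, Matrix.transpose_one, Matrix.one_mul, Matrix.mul_one, hPA]
  let P : Matrix.SpecialLinearGroup (Fin n) F := ⟨Pm, hPmdet⟩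
  have hP : (P : Matrix (Fin n) (Fin n) F) = Pm := rfl
  set Q := ((P⁻¹ : Matrix.SpecialLinearGroup (Fin n) F) : Matrix (Fin n) (Fin n) F) with hQ
  have hPmQ : Pm * Q = 1 := by
    rw [← hP, hQ, ← Matrix.SpecialLinearGroup.coe_mul, mul_inv_cancel,
      Matrix.SpecialLinearGroup.coe_one]
  refine ⟨P, ?_⟩
  rw [Subgroup.mem_comap, mem_sim_iff hf]
  refine ⟨c, hc, ?_⟩
  have hY : ((Matrix.SpecialLinearGroup.toGL (P⁻¹ * x * P) : GL (Fin n) F) :
      Matrix (Fin n) (Fin n) F) = Q * X * Pm := by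
    rw [Matrix.SpecialLinearGroup.coe_GL_coe_matrix, Matrix.SpecialLinearGroup.coe_mul,
      Matrix.SpecialLinearGroup.coe_mul]
  rw [hY]
  have := conj_form Pm Q hPmQ X A''
  rw [hPmA, hXA'', Matrix.mul_smul, Matrix.smul_mul, hPmA] at this
  exact this

end Cfsg.Agent.Lib.Helper8.GSpForm
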