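import Mathlib
import Cfsg.Agent.Lib.Helper8.GSpFormJ

/-!
# A symplectic form with multiplier `-z` for an operator with `x ∘ x = z` (no square root of `z`
outside characteristic two) (helper8)
-/

set_option autoImplicit false
set_option linter.unusedSectionVars false

namespace Cfsg.Agent.Lib.Helper8.GSpForm

open Module

universe u

variable {F : Type*} [Field F]

theorem finrank_ker_pair {V : Type u} [AddCommGroup V] [Module F V] [FiniteDimensional F V]
    (w₁ w₂ : V) (ψ₁ ψ₂ : Module.Dual F V)
    (h11 : ψ₁ w₁ = 1) (h12 : ψ₁ w₂ = 0) (h21 : ψ₂ w₁ = 0) (h22 : ψ₂ w₂ = 1) :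
    finrank F ↥(LinearMap.ker ψ₁ ⊓ LinearMap.ker ψ₂) + 2 = finrank F V := by
  have h1 := LinearMap.finrank_range_add_finrank_ker (ψ₁.prod ψ₂)
  rw [LinearMap.ker_prod] at h1
  have h2 : LinearMap.range (ψ₁.prod ψ₂) = ⊤ := by
    rw [LinearMap.range_eq_top]
    rintro ⟨α, β⟩
    refine ⟨α • w₁ + β • w₂, ?_⟩
    apply Prod.ext
    · simp [h11, h12]
    · simp [h21, h22]
  rw [h2, finrank_top, Module.finrank_prod, Module.finrank_self] at h1
  omega

theorem exists_form_neg (z : F) (hz : z ≠ 0) (hsq : ∀ s : F, s ^ 2 = z → (2 : F) = 0) :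
    ∀ (n : ℕ) (V : Type u) [AddCommGroup V] [Module F V] [FiniteDimensional F V] (x : V →ₗ[F] V),
      (∀ v, x (x v) = z • v) → finrank F V = n → Even n →
      ∃ B : LinearMap.BilinForm F V, IsSympB B ∧ ∀ u v, B (x u) (x v) = (-z) * B u v := by
  intro n
  induction n using Nat.strong_induction_on with
  | _ n ih =>
    intro V _ _ _ x hx hn hev
    by_cases hA : ∀ v, x v ∈ Submodule.span F {v}
    · -- every vector is an eigenvector
      rcases Nat.eq_zero_or_pos n with h0 | hpos
      · have hsub : Subsingleton V := by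
          rw [← Module.finrank_zero_iff (R := F), hn, h0]
        refine ⟨0, ⟨fun u => rfl, fun u _ => Subsingleton.elim _ _⟩, fun u v => ?_⟩
        simp
      · have hpos' : 0 < finrank F V := by rw [hn]; exact hpos
        obtain ⟨v₀, hv₀⟩ := Module.finrank_pos_iff_exists_ne_zero.1 hpos'
        have hc : ∀ v : V, ∃ c : F, c • v = x v := fun v => Submodule.mem_span_singleton.1 (hA v)
        choose c hc using hc
        have hcsq : ∀ v : V, v ≠ 0 → c v ^ 2 = z := by
          intro v hv
          have h1 := hx v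
          rw [← hc v, map_smul, ← hc v, smul_smul, ← pow_two] at h1
          have h2 : (c v ^ 2 - z) • v = 0 := by rw [sub_smul, h1, sub_self]
          rcases smul_eq_zero.1 h2 with h3 | h3
          · exact sub_eq_zero.1 h3
          · exact absurd h3 hv
        have h2 : (2 : F) = 0 := hsq (c v₀) (hcsq v₀ hv₀)
        have hxall : ∀ v : V, x v = c v₀ • v := by
          intro v
          by_cases hv : v = 0
          · rw [hv, map_zero, smul_zero]
          · have h3 : (c v - c v₀) ^ 2 = 0 := by
              have : (c v - c v₀) ^ 2 = c v ^ 2 + c v₀ ^ 2 - 2 * (c v * c v₀) := by ring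
              rw [this, hcsq v hv, hcsq v₀ hv₀, h2, zero_mul, sub_zero, ← two_mul, h2, zero_mul]
            have h4 : c v = c v₀ := sub_eq_zero.1 (pow_eq_zero_iff (two_ne_zero) |>.1 h3)
            rw [← hc v, h4]
        obtain ⟨k, hk⟩ := hev
        obtain ⟨B, hB⟩ := exists_sympB (F := F) V k (by rw [hn, hk, two_mul])
        refine ⟨B, hB, fun u v => ?_⟩
        rw [hxall u, hxall v, map_smul, map_smul, LinearMap.smul_apply, smul_eq_mul, smul_eq_mul,
          ← mul_assoc, ← pow_two, hcsq v₀ hv₀]
        have : -z = z := by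
          have : z + z = 0 := by rw [← two_mul, h2, zero_mul]
          exact neg_eq_of_add_eq_zero_left this
        rw [this]
    · push Not at hA
      obtain ⟨v, hv⟩ := hA
      obtain ⟨φ, hφ1, hφ2⟩ := Submodule.exists_dual_map_eq_bot_of_notMem hv inferInstance
      have hφv : φ v = 0 := by
        have : φ v ∈ (Submodule.span F {v}).map φ :=
          Submodule.mem_map_of_mem (Submodule.mem_span_singleton_self v)
        rw [hφ2] at this
        exact (Submodule.mem_bot F).1 this
      set ψ : Module.Dual F V := (φ (x v))⁻¹ • φ with hψ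
      have hψv : ψ v = 0 := by
        rw [hψ, LinearMap.smul_apply, hφv, smul_zero]
      have hψxv : ψ (x v) = 1 := by
        rw [hψ, LinearMap.smul_apply, smul_eq_mul, inv_mul_cancel₀ hφ1]
      set ψ₁ : Module.Dual F V := ψ ∘ₗ x with hψ₁
      have hψ₁app : ∀ u, ψ₁ u = ψ (x u) := fun u => rfl
      set W' : Submodule F V := LinearMap.ker ψ₁ ⊓ LinearMap.ker ψ with hW'
      have hmemW' : ∀ u, u ∈ W' ↔ ψ₁ u = 0 ∧ ψ u = 0 := by
        intro u
        rw [hW', Submodule.mem_inf, LinearMap.mem_ker, LinearMap.mem_ker]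
      have h11 : ψ₁ v = 1 := by rw [hψ₁app, hψxv]
      have h12 : ψ₁ (x v) = 0 := by rw [hψ₁app, hx, map_smul, hψv, smul_zero]
      have hinv : ∀ u ∈ W', x u ∈ W' := by
        intro u hu
        rw [hmemW'] at hu ⊢
        refine ⟨?_, hu.1⟩
        rw [hψ₁app, hx, map_smul, hu.2, smul_zero]
      have hdim : finrank F ↥W' + 2 = n := by
        rw [← hn]
        exact finrank_ker_pair v (x v) ψ₁ ψ h11 h12 hψv hψxv
      have hx' : ∀ u : ↥W', (x.restrict hinv) ((x.restrict hinv) u) = z • u := by
        intro u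
        apply Subtype.ext
        simp only [LinearMap.coe_restrict_apply, Submodule.coe_smul]
        exact hx u
      have hev' : Even (finrank F ↥W') := by
        obtain ⟨k, hk⟩ := hev
        exact ⟨k - 1, by omega⟩
      obtain ⟨B', hB', hB'x⟩ := ih (finrank F ↥W') (by omega) ↥W' (x.restrict hinv) hx' rfl hev'
      exact extend_form x v (x v) ψ₁ ψ h11 h12 hψv hψxv 0 z 1 0 (-z) (by ring)
        (by rw [zero_smul, one_smul, zero_add]) (by rw [hx, zero_smul, add_zero])
        (fun u => by rw [hψ₁app, hx, map_smul, smul_eq_mul, zero_mul, zero_add])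
        (fun u => by rw [one_mul, zero_mul, add_zero, hψ₁app]) W' hmemW' hinv B' hB' hB'x

end Cfsg.Agent.Lib.Helper8.GSpForm
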