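import Mathlib
import Cfsg.Agent.Lib.Helper8.GSpFormI
import Cfsg.Agent.Lib.Helper8.GSpFormK
import Cfsg.Agent.Lib.Helper8.GSpFormL

/-!
# Involutions of `PSL_n(q)` are conjugate into the symplectic-type subgroup when
`(q - 1)_2 ≤ (n)_2` (helper8)
-/

set_option autoImplicit false
set_option linter.unusedSectionVars false

namespace Cfsg.Agent.Lib.Helper8.GSpForm

open Matrix Module

variable {n : ℕ} {F : Type*} [Field F]

/-- from an abstract alternating separating form to a symplectic form in the sense of the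
prelude -/
theorem isSymplecticForm_of_sympB (B : LinearMap.BilinForm F (Fin n → F)) (hB : IsSympB B) :
    Cfsg.Geo.IsSymplecticForm (fun u v : Fin n → F => B u v) := by
  have hskew : ∀ v w, B v w = - B w v := by
    intro v w
    have h := hB.1 (v + w)
    simp only [map_add, LinearMap.add_apply] at h
    rw [hB.1 v, hB.1 w] at h
    linear_combination h
  refine ⟨⟨?_, ?_, ?_, ?_⟩, hskew, hB.1, ?_⟩
  · intro x y v
    simp only [map_add, LinearMap.add_apply]
  · intro c x v
    simp only [map_smul, LinearMap.smul_apply, smul_eq_mul]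
  · intro v x y
    simp only [map_add]
  · intro c v x
    simp only [map_smul, smul_eq_mul]
  · intro v hv
    have h1 : ∃ x, B v x ≠ 0 := by
      by_contra hcon
      push Not at hcon
      exact hv (hB.2 v hcon)
    refine ⟨?_, h1⟩
    obtain ⟨x, hx⟩ := h1
    refine ⟨x, ?_⟩
    simp only
    rw [hskew]
    exact neg_ne_zero.2 hx

variable [Fintype F] {f : (Fin n → F) → (Fin n → F) → F}

/-- parity of the `-s`-eigenspace from the determinant -/
theorem even_of_pow_mul (q : ℕ) (hq : Fintype.card F = q) (h2 : (2 : F) ≠ 0) (s : F) (hs : s ≠ 0)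
    (b : ℕ) (hv : padicValNat 2 (q - 1) ≤ padicValNat 2 n) (hn : n ≠ 0)
    (h : s ^ n * (-1) ^ b = 1) : Even b := by
  by_contra hodd
  rw [Nat.not_even_iff_odd] at hodd
  rw [hodd.neg_one_pow, mul_neg, mul_one, neg_eq_iff_eq_neg] at h
  have hq2 : 2 ≤ q := by rw [← hq]; exact Fintype.one_lt_card
  have hq1 : q - 1 ≠ 0 := by omega
  set A := padicValNat 2 (q - 1) with hA
  have hfac : 2 ^ A * (ordCompl[2] (q - 1)) = q - 1 := by
    have := Nat.ordProj_mul_ordCompl_eq_self (q - 1) 2
    rwa [Nat.factorization_def _ Nat.prime_two] at this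
  have hoddc : Odd (ordCompl[2] (q - 1)) := by
    rw [← Nat.not_even_iff_odd, even_iff_two_dvd]
    exact Nat.not_dvd_ordCompl Nat.prime_two hq1
  have hdvd : 2 ^ A ∣ n := (pow_dvd_pow 2 hv).trans pow_padicValNat_dvd
  obtain ⟨n₁, hn₁⟩ := hdvd
  have h1 : (s ^ n) ^ (ordCompl[2] (q - 1)) = 1 := by
    rw [← pow_mul, hn₁, mul_assoc, mul_comm n₁, ← mul_assoc, hfac, pow_mul, ← hq,
      FiniteField.pow_card_sub_one_eq_one s hs, one_pow]
  rw [h, hoddc.neg_one_pow] at h1
  apply h2
  calc (2 : F) = 1 - (-1) := by ring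
    _ = 0 := by rw [h1]; ring

theorem conj_of_le (hf : Cfsg.Geo.IsSymplecticForm f) (hn : n ≠ 0) (he : Even n) (q : ℕ)
    (hq : Fintype.card F = q) (hv : padicValNat 2 (q - 1) ≤ padicValNat 2 n)
    (x : Matrix.SpecialLinearGroup (Fin n) F) (z : F)
    (hx2 : ((x ^ 2 : Matrix.SpecialLinearGroup (Fin n) F) : Matrix (Fin n) (Fin n) F) =
      z • (1 : Matrix (Fin n) (Fin n) F))
    (hns : ∀ c : F, (x : Matrix (Fin n) (Fin n) F) ≠ c • (1 : Matrix (Fin n) (Fin n) F)) :
    ∃ P : Matrix.SpecialLinearGroup (Fin n) F, P⁻¹ * x * P ∈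
      ((Cfsg.Geo.similarityGroup f).comap (Matrix.SpecialLinearGroup.toGL :
        Matrix.SpecialLinearGroup (Fin n) F →* GL (Fin n) F)) := by
  classical
  set X := (x : Matrix (Fin n) (Fin n) F) with hX
  have hXX : X * X = z • (1 : Matrix (Fin n) (Fin n) F) := by
    rw [← hx2, Matrix.SpecialLinearGroup.coe_pow, pow_two]
  have hXdet : X.det = 1 := x.2
  have hz : z ≠ 0 := by
    intro h0
    have hne : Nonempty (Fin n) := ⟨⟨0, Nat.pos_of_ne_zero hn⟩⟩
    have := congrArg Matrix.det hXX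
    rw [Matrix.det_mul, hXdet, h0, zero_smul, Matrix.det_zero] at this
    rw [mul_one] at this
    exact (one_ne_zero : (1 : F) ≠ 0) this
  obtain ⟨m, hm⟩ := he
  have hn2 : n = 2 * m := by omega
  set xl : (Fin n → F) →ₗ[F] (Fin n → F) := Matrix.toLin' X with hxl
  have hxlapp : ∀ v, xl v = X *ᵥ v := fun v => Matrix.toLin'_apply X v
  have hxlxl : ∀ v, xl (xl v) = z • v := by
    intro v
    rw [hxlapp, hxlapp, Matrix.mulVec_mulVec, hXX, Matrix.smul_mulVec, Matrix.one_mulVec]
  have hfr : finrank F (Fin n → F) = n := by rw [Module.finrank_pi, Fintype.card_fin]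
  by_cases hcase : ∀ s : F, s ^ 2 = z → (2 : F) = 0
  · obtain ⟨B, hB, hBx⟩ := exists_form_neg z hz hcase n (Fin n → F) xl hxlxl hfr ⟨m, hm⟩
    have hf' := isSymplecticForm_of_sympB B hB
    have hsim : Xᵀ * gram hf' * X = (-z) • gram hf' := by
      apply (sim_iff hf' X (-z)).1
      intro u v
      have := hBx u v
      rw [hxlapp, hxlapp] at this
      exact this
    exact exists_sl_conj hf hf' m hn2 x z hz hXX hns (-z) (neg_ne_zero.2 hz) hsim
  · push Not at hcase
    obtain ⟨s, hs, h2⟩ := hcase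
    have hs0 : s ≠ 0 := by
      intro h0
      rw [h0] at hs
      exact hz (by rw [← hs]; ring)
    have hxl' : ∀ v, xl (xl v) = (s ^ 2) • v := by
      intro v
      rw [hxlxl, hs]
    have hc := isCompl_E xl s hs0 h2 hxl'
    have hab := Submodule.finrank_add_eq_of_isCompl hc
    rw [hfr] at hab
    have hdet := det_eq_of_sq xl s hs0 h2 hxl'
    rw [hxl, LinearMap.det_toLin', hXdet] at hdet
    rw [← hxl] at hdet
    have hb : Even (finrank F ↥(Em xl s)) := by
      apply even_of_pow_mul q hq h2 s hs0 _ hv hn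
      have hsn : s ^ n = s ^ (finrank F ↥(Ep xl s)) * s ^ (finrank F ↥(Em xl s)) := by
        rw [← pow_add, hab]
      rw [hsn, mul_assoc, ← mul_pow, mul_neg_one]
      exact hdet.symm
    have ha : Even (finrank F ↥(Ep xl s)) := by
      obtain ⟨kb, hkb⟩ := hb
      exact ⟨m - kb, by omega⟩
    obtain ⟨k₁, hk₁⟩ := ha
    obtain ⟨k₂, hk₂⟩ := hb
    obtain ⟨B, hB, hBx⟩ := exists_form_pos xl s hs0 h2 hxl' k₁ k₂ (by rw [hk₁, two_mul])
      (by rw [hk₂, two_mul])
    have hf' := isSymplecticForm_of_sympB B hB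
    have hsim : Xᵀ * gram hf' * X = z • gram hf' := by
      apply (sim_iff hf' X z).1
      intro u v
      have := hBx u v
      rw [hxlapp, hxlapp, hs] at this
      exact this
    exact exists_sl_conj hf hf' m hn2 x z hz hXX hns z hz hsim

end Cfsg.Agent.Lib.Helper8.GSpForm
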