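import Mathlib
import Cfsg.Agent.Lib.Helper8.GSpFormB

/-!
# Consequences of being conjugate into the symplectic-type subgroup of `SL_n(F)` (helper8)
-/

set_option autoImplicit false
set_option linter.unusedSectionVars false

namespace Cfsg.Agent.Lib.Helper8.GSpForm

open Matrix Module

section Rank

variable {ι : Type*} [Fintype ι] [DecidableEq ι] {F : Type*} [Field F]

theorem rank_lt_of_mulVec_eq_zero (M : Matrix ι ι F) (v : ι → F) (hv : v ≠ 0)
    (h : M *ᵥ v = 0) : M.rank < Fintype.card ι := by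
  have h1 := LinearMap.finrank_range_add_finrank_ker M.mulVecLin
  rw [Module.finrank_pi] at h1
  have h2 : 0 < finrank F (LinearMap.ker M.mulVecLin) := by
    rw [Module.finrank_pos_iff_exists_ne_zero]
    refine ⟨⟨v, ?_⟩, ?_⟩
    · rw [LinearMap.mem_ker, Matrix.mulVecLin_apply, h]
    · intro h0
      exact hv (congrArg Subtype.val h0)
  have h3 : M.rank = finrank F (LinearMap.range M.mulVecLin) := rfl
  omega

theorem rank_conj (P Q M : Matrix ι ι F) (hPQ : P * Q = 1) : (Q * M * P).rank = M.rank := by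
  have hP : IsUnit P.det := by
    have := congrArg Matrix.det hPQ
    rw [Matrix.det_mul, Matrix.det_one] at this
    exact IsUnit.of_mul_eq_one _ this
  have hQ : IsUnit Q.det := by
    have := congrArg Matrix.det hPQ
    rw [Matrix.det_mul, Matrix.det_one, mul_comm] at this
    exact IsUnit.of_mul_eq_one _ this
  rw [Matrix.rank_mul_eq_left_of_isUnit_det _ _ hP, Matrix.rank_mul_eq_right_of_isUnit_det _ _ hQ]

theorem rank_pos_of_ne_zero (M : Matrix ι ι F) (h : M ≠ 0) : 0 < M.rank := by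
  by_contra hcon
  have h0 : M.rank = 0 := by omega
  have h1 : finrank F (LinearMap.range M.mulVecLin) = 0 := h0
  rw [Submodule.finrank_eq_zero] at h1
  apply h
  ext i j
  have h2 : M.mulVecLin (Pi.single j 1) ∈ LinearMap.range M.mulVecLin := ⟨_, rfl⟩
  rw [h1, Submodule.mem_bot, Matrix.mulVecLin_apply, Matrix.mulVec_single_one] at h2
  exact congrFun h2 i

end Rank

variable {n : ℕ} {F : Type*} [Field F] {f : (Fin n → F) → (Fin n → F) → F}

/-- what follows from being conjugate into the similarity group of a symplectic form -/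
theorem conj_consequence (hf : Cfsg.Geo.IsSymplecticForm f)
    (x P : Matrix.SpecialLinearGroup (Fin n) F)
    (h : P⁻¹ * x * P ∈ (Cfsg.Geo.similarityGroup f).comap
      (Matrix.SpecialLinearGroup.toGL : Matrix.SpecialLinearGroup (Fin n) F →* GL (Fin n) F)) :
    ∃ c : F, c ≠ 0 ∧
      (∀ μ : F, μ ≠ 0 → ((x : Matrix (Fin n) (Fin n) F) - μ • (1 : Matrix (Fin n) (Fin n) F)).rank =
        ((x : Matrix (Fin n) (Fin n) F) - (c / μ) • (1 : Matrix (Fin n) (Fin n) F)).rank) ∧
      (c = 1 → Even (((x : Matrix (Fin n) (Fin n) F) - 1) * ((x : Matrix (Fin n) (Fin n) F) - 1)).rank) := by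
  rw [Subgroup.mem_comap, mem_sim_iff hf] at h
  obtain ⟨c, hc0, hc⟩ := h
  set X := (x : Matrix (Fin n) (Fin n) F) with hX
  set Pm := (P : Matrix (Fin n) (Fin n) F) with hPm
  set Pi := ((P⁻¹ : Matrix.SpecialLinearGroup (Fin n) F) : Matrix (Fin n) (Fin n) F) with hPi
  have hPP : Pm * Pi = 1 := by
    rw [hPm, hPi, ← Matrix.SpecialLinearGroup.coe_mul, mul_inv_cancel,
      Matrix.SpecialLinearGroup.coe_one]
  have hPP' : Pi * Pm = 1 := by
    rw [hPm, hPi, ← Matrix.SpecialLinearGroup.coe_mul, inv_mul_cancel,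
      Matrix.SpecialLinearGroup.coe_one]
  have hY : ((Matrix.SpecialLinearGroup.toGL (P⁻¹ * x * P) : GL (Fin n) F) :
      Matrix (Fin n) (Fin n) F) = Pi * X * Pm := by
    rw [Matrix.SpecialLinearGroup.coe_GL_coe_matrix, Matrix.SpecialLinearGroup.coe_mul,
      Matrix.SpecialLinearGroup.coe_mul]
  rw [hY] at hc
  have hYdet : (Pi * X * Pm).det ≠ 0 := by
    rw [← hY, Matrix.SpecialLinearGroup.coe_GL_coe_matrix, Matrix.SpecialLinearGroup.det_coe]
    exact one_ne_zero
  have hsub : ∀ μ : F, Pi * X * Pm - μ • (1 : Matrix (Fin n) (Fin n) F) =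
      Pi * (X - μ • (1 : Matrix (Fin n) (Fin n) F)) * Pm := by
    intro μ
    rw [Matrix.mul_sub, Matrix.sub_mul, Matrix.mul_smul, Matrix.mul_one, Matrix.smul_mul, hPP']
  refine ⟨c, hc0, ?_, ?_⟩
  · intro μ hμ
    have := rank_sub_smul_eq (gram hf) (Pi * X * Pm) (gram_det hf) hYdet c μ hμ hc
    rwa [hsub, hsub, rank_conj Pm Pi _ hPP, rank_conj Pm Pi _ hPP] at this
  · intro hc1
    rw [hc1, one_smul] at hc
    have := even_rank_sq (gram hf) (Pi * X * Pm) (gram_alt hf) (gram_det hf) hYdet hc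
    have e1 : Pi * X * Pm - 1 = Pi * (X - 1) * Pm := by
      have := hsub 1
      rwa [one_smul] at this
    have e2 : Pi * (X - 1) * Pm * (Pi * (X - 1) * Pm) = Pi * ((X - 1) * (X - 1)) * Pm := by
      have : Pi * (X - 1) * Pm * (Pi * (X - 1) * Pm) = Pi * ((X - 1) * ((Pm * Pi) * (X - 1))) * Pm := by
        simp only [Matrix.mul_assoc]
      rw [this, hPP, Matrix.one_mul]
    rwa [e1, e2, rank_conj Pm Pi _ hPP] at this

/-- elements with `1` as only possible eigenvalue in `F`, a fixed vector, and `rank (x - 1)²` odd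
are not conjugate into the similarity group -/
theorem not_conj_typeI (hf : Cfsg.Geo.IsSymplecticForm f)
    (x : Matrix.SpecialLinearGroup (Fin n) F)
    (h1 : ∀ μ : F, μ ≠ 0 → μ ≠ 1 →
      ((x : Matrix (Fin n) (Fin n) F) - μ • (1 : Matrix (Fin n) (Fin n) F)).det ≠ 0)
    (h2 : ∃ v : Fin n → F, v ≠ 0 ∧ (x : Matrix (Fin n) (Fin n) F) *ᵥ v = v)
    (h3 : Odd (((x : Matrix (Fin n) (Fin n) F) - 1) * ((x : Matrix (Fin n) (Fin n) F) - 1)).rank)
    (P : Matrix.SpecialLinearGroup (Fin n) F) :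
    P⁻¹ * x * P ∉ (Cfsg.Geo.similarityGroup f).comap
      (Matrix.SpecialLinearGroup.toGL : Matrix.SpecialLinearGroup (Fin n) F →* GL (Fin n) F) := by
  intro hmem
  obtain ⟨c, hc0, hrk, hev⟩ := conj_consequence hf x P hmem
  have hc1 : c = 1 := by
    by_contra hne
    have e1 := hrk 1 one_ne_zero
    rw [div_one, Matrix.rank_of_isUnit _ ((Matrix.isUnit_iff_isUnit_det _).2 (h1 c hc0 hne).isUnit)] at e1
    obtain ⟨v, hv, hxv⟩ := h2
    have := rank_lt_of_mulVec_eq_zero
      ((x : Matrix (Fin n) (Fin n) F) - (1 : F) • (1 : Matrix (Fin n) (Fin n) F)) v hv (by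
        rw [one_smul, Matrix.sub_mulVec, hxv, Matrix.one_mulVec, sub_self])
    omega
  have := hev hc1
  rw [← Nat.not_odd_iff_even] at this
  exact this h3

end Cfsg.Agent.Lib.Helper8.GSpForm
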