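import Mathlib
import Cfsg.Agent.Lib.Helper8.GSpFormD

/-!
# An involution of `PSL_n(q)` not conjugate into the symplectic-type subgroup when
`(n)_2 < (q - 1)_2` (helper8)
-/

set_option autoImplicit false
set_option linter.unusedSectionVars false

namespace Cfsg.Agent.Lib.Helper8.GSpForm

open Matrix Module

section Conj

variable {n : ℕ} {F : Type*} [Field F] {f : (Fin n → F) → (Fin n → F) → F}

/-- what follows from being conjugate into the similarity group of a symplectic form, with the
parity statement for every square root of the multiplier -/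
theorem conj_consequence' (hf : Cfsg.Geo.IsSymplecticForm f)
    (x P : Matrix.SpecialLinearGroup (Fin n) F)
    (h : P⁻¹ * x * P ∈ (Cfsg.Geo.similarityGroup f).comap
      (Matrix.SpecialLinearGroup.toGL : Matrix.SpecialLinearGroup (Fin n) F →* GL (Fin n) F)) :
    ∃ c : F, c ≠ 0 ∧
      (∀ μ : F, μ ≠ 0 → ((x : Matrix (Fin n) (Fin n) F) - μ • (1 : Matrix (Fin n) (Fin n) F)).rank =
        ((x : Matrix (Fin n) (Fin n) F) - (c / μ) • (1 : Matrix (Fin n) (Fin n) F)).rank) ∧
      (∀ s : F, s ^ 2 = c →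
        Even (((x : Matrix (Fin n) (Fin n) F) - s • (1 : Matrix (Fin n) (Fin n) F)) *
          ((x : Matrix (Fin n) (Fin n) F) - s • (1 : Matrix (Fin n) (Fin n) F))).rank) := by
  rw [Subgroup.mem_comap, mem_sim_iff hf] at h
  obtain ⟨c, hc0, hc⟩ := h
  set X := (x : Matrix (Fin n) (Fin n) F) with hX
  set Pm := (P : Matrix (Fin n) (Fin n) F) with hPm
  set Pi := ((P⁻¹ : Matrix.SpecialLinearGroup (Fin n) F) : Matrix (Fin n) (Fin n) F) with hPi
  have hPP : Pm * Pi = 1 := by
    rw [hPm, hPi, ← Matrix.SpecialLinearGroup.coe_mul, mul_inv_cancel,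
      Matrix.SpecialLinearGroup.coe_one]
  have hPP' : Pi * Pm = 1 := by
    rw [hPm, hPi, ← Matrix.SpecialLinearGroup.coe_mul, inv_mul_cancel,
      Matrix.SpecialLinearGroup.coe_one]
  have hY : ((Matrix.SpecialLinearGroup.toGL (P⁻¹ * x * P) : GL (Fin n) F) :
      Matrix (Fin n) (Fin n) F) = Pi * X * Pm := by
    rw [Matrix.SpecialLinearGroup.coe_GL_coe_matrix, Matrix.SpecialLinearGroup.coe_mul,
      Matrix.SpecialLinearGroup.coe_mul]
  rw [hY] at hc
  have hYdet : (Pi * X * Pm).det ≠ 0 := by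
    rw [← hY, Matrix.SpecialLinearGroup.coe_GL_coe_matrix, Matrix.SpecialLinearGroup.det_coe]
    exact one_ne_zero
  have hsub : ∀ μ : F, Pi * X * Pm - μ • (1 : Matrix (Fin n) (Fin n) F) =
      Pi * (X - μ • (1 : Matrix (Fin n) (Fin n) F)) * Pm := by
    intro μ
    rw [Matrix.mul_sub, Matrix.sub_mul, Matrix.mul_smul, Matrix.mul_one, Matrix.smul_mul, hPP']
  refine ⟨c, hc0, ?_, ?_⟩
  · intro μ hμ
    have := rank_sub_smul_eq (gram hf) (Pi * X * Pm) (gram_det hf) hYdet c μ hμ hc
    rwa [hsub, hsub, rank_conj Pm Pi _ hPP, rank_conj Pm Pi _ hPP] at this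
  · intro s hs
    have hs0 : s ≠ 0 := by
      intro h0
      rw [h0] at hs
      exact hc0 (by rw [← hs]; ring)
    set Y := Pi * X * Pm with hYdef
    set Y' := s⁻¹ • Y with hY'
    have hY'det : Y'.det ≠ 0 := by
      rw [hY', Matrix.det_smul]
      exact mul_ne_zero (pow_ne_zero _ (inv_ne_zero hs0)) hYdet
    have hiso : Y'ᵀ * gram hf * Y' = gram hf := by
      rw [hY', Matrix.transpose_smul, Matrix.smul_mul, Matrix.smul_mul, Matrix.mul_smul, hc,
        smul_smul, smul_smul, ← hs]
      have : s⁻¹ * s⁻¹ * s ^ 2 = 1 := by field_simp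
      rw [this, one_smul]
    have hev := even_rank_sq (gram hf) Y' (gram_alt hf) (gram_det hf) hY'det hiso
    have e0 : Y' - 1 = s⁻¹ • (Y - s • (1 : Matrix (Fin n) (Fin n) F)) := by
      rw [hY', smul_sub, smul_smul, inv_mul_cancel₀ hs0, one_smul]
    have e1 : (Y' - 1) * (Y' - 1) = (s⁻¹ * s⁻¹) • ((Y - s • (1 : Matrix (Fin n) (Fin n) F)) *
        (Y - s • (1 : Matrix (Fin n) (Fin n) F))) := by
      rw [e0, Matrix.smul_mul, Matrix.mul_smul, smul_smul]
    have e2 : Pi * (X - s • (1 : Matrix (Fin n) (Fin n) F)) * Pm *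
        (Pi * (X - s • (1 : Matrix (Fin n) (Fin n) F)) * Pm) =
        Pi * ((X - s • (1 : Matrix (Fin n) (Fin n) F)) *
          (X - s • (1 : Matrix (Fin n) (Fin n) F))) * Pm := by
      have : Pi * (X - s • (1 : Matrix (Fin n) (Fin n) F)) * Pm *
          (Pi * (X - s • (1 : Matrix (Fin n) (Fin n) F)) * Pm) =
          Pi * ((X - s • (1 : Matrix (Fin n) (Fin n) F)) *
            ((Pm * Pi) * (X - s • (1 : Matrix (Fin n) (Fin n) F)))) * Pm := by
        simp only [Matrix.mul_assoc]
      rw [this, hPP, Matrix.one_mul]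
    rwa [e1, rank_smul_of_ne_zero _ (mul_ne_zero (inv_ne_zero hs0) (inv_ne_zero hs0)), hsub, e2,
      rank_conj Pm Pi _ hPP] at hev

end Conj

section Root

variable {F : Type*} [Field F] [Fintype F]

/-- an `n`-th root of `-1` when `(n)_2 < (q - 1)_2` -/
theorem exists_pow_eq_neg_one (q : ℕ) (hq : Fintype.card F = q) (n : ℕ) (hn : n ≠ 0)
    (hv : padicValNat 2 n < padicValNat 2 (q - 1)) :
    (2 : F) ≠ 0 ∧ ∃ s : F, s ^ n = -1 := by
  classical
  have hq2 : 2 ≤ q := by rw [← hq]; exact Fintype.one_lt_card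
  have hq1 : q - 1 ≠ 0 := by omega
  set a := padicValNat 2 (q - 1) with ha
  set b := padicValNat 2 n with hb
  have hfac : 2 ^ a * (ordCompl[2] (q - 1)) = q - 1 := by
    have := Nat.ordProj_mul_ordCompl_eq_self (q - 1) 2
    rwa [Nat.factorization_def _ Nat.prime_two] at this
  have hfacn : 2 ^ b * (ordCompl[2] n) = n := by
    have := Nat.ordProj_mul_ordCompl_eq_self n 2
    rwa [Nat.factorization_def _ Nat.prime_two] at this
  have hoddn : Odd (ordCompl[2] n) := by
    rw [← Nat.not_even_iff_odd, even_iff_two_dvd]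
    exact Nat.not_dvd_ordCompl Nat.prime_two hn
  set t := ordCompl[2] (q - 1) with ht
  set n' := ordCompl[2] n with hn'
  have ht0 : 0 < t := by
    rcases Nat.eq_zero_or_pos t with h | h
    · rw [h, mul_zero] at hfac
      omega
    · exact h
  obtain ⟨g, hg⟩ := IsCyclic.exists_generator (α := Fˣ)
  have hord : orderOf g = q - 1 := by
    rw [orderOf_eq_card_of_forall_mem_zpowers hg, Nat.card_eq_fintype_card, Fintype.card_units, hq]
  set half := 2 ^ (a - 1) * t with hhalf
  have h2half : 2 * half = q - 1 := by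
    rw [hhalf, ← mul_assoc, ← pow_succ', Nat.sub_add_cancel (by omega), hfac]
  set h := g ^ half with hh
  have hh2 : h * h = 1 := by
    rw [hh, ← pow_add, ← two_mul, h2half, ← hord, pow_orderOf_eq_one]
  have hh1 : h ≠ 1 := by
    intro h1
    have := orderOf_dvd_of_pow_eq_one h1
    rw [hord] at this
    have h3 := Nat.le_of_dvd (by positivity) this
    have : 0 < half := by positivity
    omega
  have hhF : (h : F) = -1 := by
    have h3 : (h : F) * (h : F) = 1 := by
      rw [← Units.val_mul, hh2, Units.val_one]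
    rcases mul_self_eq_one_iff.1 h3 with h4 | h4
    · exact absurd (Units.ext (by rw [h4, Units.val_one])) hh1
    · exact h4
  have h20 : (2 : F) ≠ 0 := by
    intro h0
    apply hh1
    apply Units.ext
    rw [hhF, Units.val_one]
    linear_combination (-1 : F) * h0
  refine ⟨h20, ((g ^ (2 ^ (a - b - 1) * t) : Fˣ) : F), ?_⟩
  rw [← Units.val_pow_eq_pow_val, ← pow_mul]
  have e1 : 2 ^ (a - b - 1) * t * n = half * n' := by
    rw [← hfacn, hhalf]
    have : 2 ^ (a - 1) = 2 ^ (a - b - 1) * 2 ^ b := by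
      rw [← pow_add]
      congr 1
      omega
    rw [this]
    ring
  rw [e1, pow_mul, ← hh, Units.val_pow_eq_pow_val, hhF, hoddn.neg_one_pow]

end Root

section Witness

variable {F : Type*} [Field F]

/-- the diagonal `(s, -s, …, -s)` -/
def svec (k : ℕ) (s : F) : Fin (k + 1) → F :=
  Fin.cons s (fun _ => -s)

theorem svec_zero (k : ℕ) (s : F) : svec k s 0 = s := by
  unfold svec
  simp

theorem svec_succ (k : ℕ) (s : F) (j : Fin k) : svec k s j.succ = -s := by
  unfold svec
  simp

theorem prod_svec (k : ℕ) (s : F) : ∏ i, svec k s i = s * (-s) ^ k := by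
  rw [Fin.prod_univ_succ, svec_zero]
  simp only [svec_succ, Finset.prod_const, Finset.card_univ, Fintype.card_fin]

theorem svec_sq (k : ℕ) (s : F) (i : Fin (k + 1)) : svec k s i * svec k s i = s ^ 2 := by
  refine Fin.cases ?_ (fun i => ?_) i
  · rw [svec_zero]; ring
  · rw [svec_succ]; ring

theorem rank_svec [DecidableEq F] (k : ℕ) (s μ : F) :
    (Matrix.diagonal (svec k s) - μ • (1 : Matrix (Fin (k + 1)) (Fin (k + 1)) F)).rank =
      (if s = μ then 0 else 1) + (if -s = μ then 0 else k) := by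
  have e1 : Matrix.diagonal (svec k s) - μ • (1 : Matrix (Fin (k + 1)) (Fin (k + 1)) F) =
      Matrix.diagonal (fun i => svec k s i - μ) := by
    rw [Matrix.smul_one_eq_diagonal, ← Matrix.diagonal_sub]
  rw [e1, Matrix.rank_diagonal, Fintype.card_subtype, Finset.card_filter]
  rw [Fin.sum_univ_succ]
  simp only [svec_zero, svec_succ, Finset.sum_const, Finset.card_univ, Fintype.card_fin,
    smul_eq_mul, sub_ne_zero]
  by_cases h1 : s = μ <;> by_cases h2 : -s = μ <;> simp [h1, h2]

theorem rank_svec_sq [DecidableEq F] (k : ℕ) (s : F) (hs : s ≠ 0) (h2 : (2 : F) ≠ 0) :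
    ((Matrix.diagonal (svec k s) - s • (1 : Matrix (Fin (k + 1)) (Fin (k + 1)) F)) *
      (Matrix.diagonal (svec k s) - s • (1 : Matrix (Fin (k + 1)) (Fin (k + 1)) F))).rank = k := by
  have e1 : Matrix.diagonal (svec k s) - s • (1 : Matrix (Fin (k + 1)) (Fin (k + 1)) F) =
      Matrix.diagonal (fun i => svec k s i - s) := by
    rw [Matrix.smul_one_eq_diagonal, ← Matrix.diagonal_sub]
  rw [e1, Matrix.diagonal_mul_diagonal, Matrix.rank_diagonal, Fintype.card_subtype,
    Finset.card_filter, Fin.sum_univ_succ]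
  have hne : (-s - s) * (-s - s) ≠ 0 := by
    have : -s - s = -(2 * s) := by ring
    rw [this]
    exact mul_ne_zero (neg_ne_zero.2 (mul_ne_zero h2 hs)) (neg_ne_zero.2 (mul_ne_zero h2 hs))
  simp only [svec_zero, svec_succ, sub_self, mul_zero, ne_eq, not_true_eq_false, if_false,
    zero_add, hne, not_false_eq_true, if_true, Finset.sum_const, Finset.card_univ,
    Fintype.card_fin, smul_eq_mul, mul_one]

/-- the diagonal witness -/
theorem exists_inv_witness {k : ℕ} {f : (Fin (k + 1) → F) → (Fin (k + 1) → F) → F}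
    (hf : Cfsg.Geo.IsSymplecticForm f) (hk : Odd k) (hk3 : 3 ≤ k) (h2 : (2 : F) ≠ 0)
    (s : F) (hs : s ^ (k + 1) = -1) :
    ∃ x : Matrix.SpecialLinearGroup (Fin (k + 1)) F,
      (∃ z : F, ((x ^ 2 : Matrix.SpecialLinearGroup (Fin (k + 1)) F) :
        Matrix (Fin (k + 1)) (Fin (k + 1)) F) = z • (1 : Matrix (Fin (k + 1)) (Fin (k + 1)) F)) ∧
      (∀ z : F, (x : Matrix (Fin (k + 1)) (Fin (k + 1)) F) ≠
        z • (1 : Matrix (Fin (k + 1)) (Fin (k + 1)) F)) ∧
      ∀ P : Matrix.SpecialLinearGroup (Fin (k + 1)) F, P⁻¹ * x * P ∉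
        ((Cfsg.Geo.similarityGroup f).comap (Matrix.SpecialLinearGroup.toGL :
          Matrix.SpecialLinearGroup (Fin (k + 1)) F →* GL (Fin (k + 1)) F)) := by
  classical
  have hs0 : s ≠ 0 := by
    intro h0
    rw [h0, zero_pow (by omega)] at hs
    have : (1 : F) = 0 := by linear_combination hs
    exact one_ne_zero this
  have hss : s ≠ -s := by
    intro h
    have : 2 * s = 0 := by linear_combination h
    exact (mul_ne_zero h2 hs0) this
  set d := svec k s with hd
  have hdet : (Matrix.diagonal d).det = 1 := by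
    rw [Matrix.det_diagonal, hd, prod_svec, hk.neg_pow, mul_neg, ← pow_succ', hs, neg_neg]
  let x : Matrix.SpecialLinearGroup (Fin (k + 1)) F := ⟨Matrix.diagonal d, hdet⟩
  have hx : (x : Matrix (Fin (k + 1)) (Fin (k + 1)) F) = Matrix.diagonal d := rfl
  refine ⟨x, ⟨s ^ 2, ?_⟩, ?_, ?_⟩
  · rw [Matrix.SpecialLinearGroup.coe_pow, hx, pow_two, Matrix.diagonal_mul_diagonal,
      Matrix.smul_one_eq_diagonal]
    congr 1
    funext i
    exact svec_sq k s i
  · intro z hz
    rw [hx, Matrix.smul_one_eq_diagonal, Matrix.diagonal_eq_diagonal_iff] at hz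
    have h0 := hz 0
    have h3 := hz (⟨0, by omega⟩ : Fin k).succ
    rw [hd, svec_zero] at h0
    rw [hd, svec_succ] at h3
    exact hss (h0.trans h3.symm)
  · intro P hP
    obtain ⟨c, hc0, hrk, hev⟩ := conj_consequence' hf x P hP
    rw [hx] at hrk hev
    have h1 := hrk s hs0
    rw [hd, rank_svec, rank_svec, if_pos rfl, if_neg hss.symm] at h1
    have hcs : c / s = s := by
      by_contra hne
      rw [if_neg (Ne.symm hne)] at h1
      by_cases h4 : -s = c / s
      · rw [if_pos h4] at h1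
        omega
      · rw [if_neg h4] at h1
        omega
    have hc : s ^ 2 = c := by
      field_simp at hcs
      rw [hcs]
    have := hev s hc
    rw [hd, rank_svec_sq k s hs0 h2, ← Nat.not_odd_iff_even] at this
    exact this hk

end Witness

end Cfsg.Agent.Lib.Helper8.GSpForm
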