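import Mathlib
import Cfsg.Agent.Lib.Helper8.GSpFormH

/-!
# From `GL`-conjugacy to `SL`-conjugacy for matrices with scalar square (helper8)
-/

set_option autoImplicit false
set_option linter.unusedSectionVars false

namespace Cfsg.Agent.Lib.Helper8.SubfInv

open Matrix Cfsg.Agent.Lib.Helper8.GSpForm

variable {n : ℕ} {F : Type*} [Field F] [Fintype F]

/-- a non-scalar element of `SL_n(F)` with scalar square: every `GL`-conjugate is an
`SL`-conjugate -/
theorem exists_sl_of_gl (x : Matrix.SpecialLinearGroup (Fin n) F) (z : F) (hz : z ≠ 0)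
    (hx2 : (x : Matrix (Fin n) (Fin n) F) * (x : Matrix (Fin n) (Fin n) F) =
      z • (1 : Matrix (Fin n) (Fin n) F))
    (hns : ∀ c : F, (x : Matrix (Fin n) (Fin n) F) ≠ c • (1 : Matrix (Fin n) (Fin n) F))
    (P₀ Q₀ : Matrix (Fin n) (Fin n) F) (hPQ : P₀ * Q₀ = 1) :
    ∃ P : Matrix.SpecialLinearGroup (Fin n) F,
      ((P⁻¹ * x * P : Matrix.SpecialLinearGroup (Fin n) F) : Matrix (Fin n) (Fin n) F) =
        Q₀ * (x : Matrix (Fin n) (Fin n) F) * P₀ := by
  classical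
  set X := (x : Matrix (Fin n) (Fin n) F) with hX
  have hP₀det : P₀.det ≠ 0 := by
    intro h0
    have := congrArg Matrix.det hPQ
    rw [Matrix.det_mul, h0, zero_mul, Matrix.det_one] at this
    exact zero_ne_one this
  obtain ⟨v, hv⟩ := exists_noneigen X hns
  obtain ⟨a, b, hab⟩ := exists_norm z hz (P₀.det)⁻¹
  obtain ⟨Z, hZX, hZdet⟩ := exists_centralizer_det X z hx2 v hv a b
  rw [hab] at hZdet
  have hZu : IsUnit Z.det := by
    rw [hZdet]
    exact (inv_ne_zero hP₀det).isUnit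
  set W := Z⁻¹ with hW
  have hZW : Z * W = 1 := Matrix.mul_nonsing_inv Z hZu
  have hWZ : W * Z = 1 := Matrix.nonsing_inv_mul Z hZu
  set Pm := Z * P₀ with hPm
  have hPmdet : Pm.det = 1 := by
    rw [hPm, Matrix.det_mul, hZdet, inv_mul_cancel₀ hP₀det]
  let P : Matrix.SpecialLinearGroup (Fin n) F := ⟨Pm, hPmdet⟩
  have hP : (P : Matrix (Fin n) (Fin n) F) = Pm := rfl
  set Q := ((P⁻¹ : Matrix.SpecialLinearGroup (Fin n) F) : Matrix (Fin n) (Fin n) F) with hQ
  have hQPm : Q * Pm = 1 := by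
    rw [← hP, hQ, ← Matrix.SpecialLinearGroup.coe_mul, inv_mul_cancel,
      Matrix.SpecialLinearGroup.coe_one]
  have h1 : Pm * (Q₀ * W) = 1 := by
    calc Pm * (Q₀ * W) = Z * ((P₀ * Q₀) * W) := by
          rw [hPm]
          simp only [Matrix.mul_assoc]
      _ = 1 := by rw [hPQ, Matrix.one_mul, hZW]
  have hQeq : Q = Q₀ * W := by
    calc Q = Q * (Pm * (Q₀ * W)) := by rw [h1, Matrix.mul_one]
      _ = (Q * Pm) * (Q₀ * W) := (Matrix.mul_assoc Q Pm (Q₀ * W)).symm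
      _ = Q₀ * W := by rw [hQPm, Matrix.one_mul]
  refine ⟨P, ?_⟩
  rw [Matrix.SpecialLinearGroup.coe_mul, Matrix.SpecialLinearGroup.coe_mul, hP, ← hQ, ← hX, hQeq,
    hPm]
  calc Q₀ * W * X * (Z * P₀) = Q₀ * (W * (X * Z)) * P₀ := by simp only [Matrix.mul_assoc]
    _ = Q₀ * ((W * Z) * X) * P₀ := by rw [← hZX, Matrix.mul_assoc W Z X]
    _ = Q₀ * X * P₀ := by rw [hWZ, Matrix.one_mul]

end Cfsg.Agent.Lib.Helper8.SubfInv
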