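import Mathlib
import Cfsg.Prelude.Def_GeometricClasses
import Cfsg.Agent.Lib.Helper4.SubfB

/-!
# Membership in the standard subfield subgroup `GL_n(F₀) · F^×` (helper8)
-/

set_option autoImplicit false
set_option linter.unusedSectionVars false

open scoped MatrixGroups

namespace Cfsg.Agent.Lib.Helper8.SubfInv

open Matrix Cfsg.Agent.Lib.Helper4.Subf
open scoped Pointwise

variable {n : ℕ} {F : Type*} [Field F] (F₀ : Subfield F)

theorem subfieldSubgroup_one :
    Cfsg.Geo.subfieldSubgroup F₀ (1 : GL (Fin n) F) =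
      (Matrix.GeneralLinearGroup.map (F₀.subtype : F₀ →+* F)).range ⊔ Cfsg.Geo.scalars (Fin n) F := by
  rw [Cfsg.Geo.subfieldSubgroup, map_one]
  exact Subgroup.map_id _

/-- membership in the subfield group: a scalar multiple of a matrix with entries in `F₀` -/
theorem mem_iff (g : GL (Fin n) F) :
    g ∈ Cfsg.Geo.subfieldSubgroup F₀ (1 : GL (Fin n) F) ↔
      ∃ c : F, c ≠ 0 ∧ ∀ i j, c⁻¹ * (g : Matrix (Fin n) (Fin n) F) i j ∈ F₀ := by
  classical
  rw [subfieldSubgroup_one]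
  constructor
  · intro hg
    have hk' : g ∈ (((Matrix.GeneralLinearGroup.map (F₀.subtype : F₀ →+* F)).range :
        Subgroup (GL (Fin n) F)) : Set (GL (Fin n) F)) *
        ((Cfsg.Geo.scalars (Fin n) F : Subgroup (GL (Fin n) F)) : Set (GL (Fin n) F)) := by
      rw [← Subgroup.mul_normal]
      exact hg
    obtain ⟨A, ⟨A₀, rfl⟩, S, hS, rfl⟩ := Set.mem_mul.1 hk'
    obtain ⟨c, hSc⟩ := (Cfsg.Geo.mem_scalars_iff S).1 hS
    refine ⟨c, c.ne_zero, fun i j => ?_⟩
    rw [Units.val_mul, hSc, Matrix.mul_smul, Matrix.mul_one, Matrix.smul_apply, smul_eq_mul,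
      ← mul_assoc, inv_mul_cancel₀ c.ne_zero, one_mul, Matrix.GeneralLinearGroup.map_apply]
    exact (A₀.1 i j).2
  · rintro ⟨c, hc, h⟩
    set cu : Fˣ := Units.mk0 c hc with hcu
    set B : GL (Fin n) F := g * (scal cu)⁻¹ with hB
    have hBe : ∀ i j, (B : Matrix (Fin n) (Fin n) F) i j ∈ F₀ := by
      intro i j
      have e : (scal cu : GL (Fin n) F)⁻¹ = scal cu⁻¹ := by
        rw [scal, scal, map_inv]
      have e2 : ((scal cu⁻¹ : GL (Fin n) F) : Matrix (Fin n) (Fin n) F) =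
          c⁻¹ • (1 : Matrix (Fin n) (Fin n) F) := by
        simp [scal, Matrix.smul_one_eq_diagonal, hcu]
      rw [hB, e, Units.val_mul, e2, Matrix.mul_smul, Matrix.mul_one, Matrix.smul_apply, smul_eq_mul]
      exact h i j
    have hBr := mem_range_of_entries F₀ B hBe
    have hg : g = B * scal cu := by
      rw [hB]; group
    rw [hg]
    exact Subgroup.mul_mem_sup hBr (scal_mem cu)

/-- membership of an element of `SL_n(F)` in the subfield subgroup -/
theorem mem_comap_iff (x : Matrix.SpecialLinearGroup (Fin n) F) :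
    x ∈ (Cfsg.Geo.subfieldSubgroup F₀ (1 : GL (Fin n) F)).comap
      (Matrix.SpecialLinearGroup.toGL : Matrix.SpecialLinearGroup (Fin n) F →* GL (Fin n) F) ↔
      ∃ c : F, c ≠ 0 ∧ ∀ i j, c⁻¹ * (x : Matrix (Fin n) (Fin n) F) i j ∈ F₀ := by
  rw [Subgroup.mem_comap, mem_iff]
  rfl

theorem mem_comap_of_eq_smul (x : Matrix.SpecialLinearGroup (Fin n) F) (c : F) (hc : c ≠ 0)
    (A : Matrix (Fin n) (Fin n) F) (hA : ∀ i j, A i j ∈ F₀)
    (h : (x : Matrix (Fin n) (Fin n) F) = c • A) :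
    x ∈ (Cfsg.Geo.subfieldSubgroup F₀ (1 : GL (Fin n) F)).comap
      (Matrix.SpecialLinearGroup.toGL : Matrix.SpecialLinearGroup (Fin n) F →* GL (Fin n) F) := by
  rw [mem_comap_iff]
  refine ⟨c, hc, fun i j => ?_⟩
  rw [h, Matrix.smul_apply, smul_eq_mul, ← mul_assoc, inv_mul_cancel₀ hc, one_mul]
  exact hA i j

theorem exists_of_mem_comap (x : Matrix.SpecialLinearGroup (Fin n) F)
    (h : x ∈ (Cfsg.Geo.subfieldSubgroup F₀ (1 : GL (Fin n) F)).comap
      (Matrix.SpecialLinearGroup.toGL : Matrix.SpecialLinearGroup (Fin n) F →* GL (Fin n) F)) :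
    ∃ (c : F) (A : Matrix (Fin n) (Fin n) F), c ≠ 0 ∧ (∀ i j, A i j ∈ F₀) ∧
      (x : Matrix (Fin n) (Fin n) F) = c • A := by
  rw [mem_comap_iff] at h
  obtain ⟨c, hc, h⟩ := h
  refine ⟨c, c⁻¹ • (x : Matrix (Fin n) (Fin n) F), hc, fun i j => ?_, ?_⟩
  · rw [Matrix.smul_apply, smul_eq_mul]
    exact h i j
  · rw [smul_smul, mul_inv_cancel₀ hc, one_smul]

end Cfsg.Agent.Lib.Helper8.SubfInv
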