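import Mathlib
import Cfsg.Agent.Lib.Helper8.SubfInvA
import Cfsg.Agent.Lib.Helper8.SubfInvD

/-!
# An involution of `PSL_n(q)`, `q = q₀²` odd, `(q - 1)_2 < (n)_2`, not conjugate into the subfield
subgroup (helper8)
-/

set_option autoImplicit false
set_option linter.unusedSectionVars false

open scoped MatrixGroups

namespace Cfsg.Agent.Lib.Helper8.SubfInv

open Matrix Cfsg.Agent.Lib.Helper4.Subf

section Field

variable {F : Type*} [Field F] [Fintype F]

theorem two_ne_zero_of_odd (hodd : Odd (Fintype.card F)) : (2 : F) ≠ 0 := by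
  intro h0
  have : CharP F 2 := CharTwo.of_one_ne_zero_of_two_eq_zero one_ne_zero h0
  have h1 := FiniteField.even_card_of_char_two (ringChar.eq F 2)
  rw [Nat.odd_iff] at hodd
  omega

/-- a generator of the multiplicative group, with `g^(q/2) = -1` -/
theorem exists_gen_neg_one (q : ℕ) (hq : Fintype.card F = q) (h2 : (2 : F) ≠ 0) :
    ∃ g : Fˣ, orderOf g = q - 1 ∧ (g : F) ^ (q / 2) = -1 := by
  classical
  have hch := ringChar_ne_two h2
  have hoddq := FiniteField.odd_card_of_char_ne_two hch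
  rw [hq] at hoddq
  have hq2 : 2 ≤ q := by rw [← hq]; exact Fintype.one_lt_card
  obtain ⟨g, hg⟩ := IsCyclic.exists_generator (α := Fˣ)
  have hord : orderOf g = q - 1 := by
    rw [orderOf_eq_card_of_forall_mem_zpowers hg, Nat.card_eq_fintype_card, Fintype.card_units, hq]
  refine ⟨g, hord, ?_⟩
  rcases FiniteField.pow_dichotomy hch g.ne_zero with h1 | h1
  · exfalso
    rw [hq] at h1
    have h3 : g ^ (q / 2) = 1 := by
      apply Units.ext
      rw [Units.val_pow_eq_pow_val, h1, Units.val_one]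
    have := orderOf_dvd_of_pow_eq_one h3
    rw [hord] at this
    have h4 := Nat.le_of_dvd (by omega) this
    omega
  · rw [hq] at h1
    exact h1

/-- elements of the subfield of index two are squares -/
theorem exists_sq_of_mem (F₀ : Subfield F) (q₀ : ℕ) (hF₀ : Nat.card ↥F₀ = q₀)
    (hq : Fintype.card F = q₀ ^ 2) (h2 : (2 : F) ≠ 0) (a : F) (ha : a ∈ F₀) :
    ∃ s : F, s ^ 2 = a := by
  have hch := ringChar_ne_two h2
  by_cases ha0 : a = 0
  · exact ⟨0, by rw [ha0]; ring⟩
  have hoddq := FiniteField.odd_card_of_char_ne_two hch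
  rw [hq] at hoddq
  have hq₀odd : Odd q₀ := by
    have : Odd (q₀ ^ 2) := Nat.odd_iff.2 hoddq
    exact (Nat.odd_pow_iff (by norm_num)).1 this
  have h1 := (mem_subfield_iff_pow F₀ q₀ hF₀ a).1 ha
  have hq₀pos : 1 ≤ q₀ := hq₀odd.pos
  have h3 : a ^ (q₀ - 1) = 1 := by
    have : a ^ (q₀ - 1) * a = 1 * a := by
      rw [← pow_succ, Nat.sub_add_cancel hq₀pos, h1, one_mul]
    exact mul_right_cancel₀ ha0 this
  obtain ⟨u, hu⟩ := hq₀odd
  have h4 : q₀ ^ 2 / 2 = (q₀ - 1) * (u + 1) := by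
    have : q₀ ^ 2 = 2 * ((q₀ - 1) * (u + 1)) + 1 := by
      rw [hu]
      have : 2 * u + 1 - 1 = 2 * u := by omega
      rw [this]
      ring
    omega
  have h5 : IsSquare a := by
    rw [FiniteField.isSquare_iff hch ha0, hq, h4, pow_mul, h3, one_pow]
  obtain ⟨s, hs⟩ := h5
  exact ⟨s, by rw [hs, pow_two]⟩

end Field

section Witness

variable {F : Type*} [Field F] [Fintype F] (F₀ : Subfield F)

theorem exists_witness (q q₀ : ℕ) (hq : Fintype.card F = q) (hF₀ : Nat.card ↥F₀ = q₀)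
    (hqk : q = q₀ ^ 2) (hodd : Odd q) (n : ℕ) (hn : 1 ≤ n)
    (hv : padicValNat 2 (q - 1) < padicValNat 2 n) :
    ∃ x : Matrix.SpecialLinearGroup (Fin n) F,
      (∃ z : F, ((x ^ 2 : Matrix.SpecialLinearGroup (Fin n) F) : Matrix (Fin n) (Fin n) F) =
        z • (1 : Matrix (Fin n) (Fin n) F)) ∧
      (∀ z : F, (x : Matrix (Fin n) (Fin n) F) ≠ z • (1 : Matrix (Fin n) (Fin n) F)) ∧
      ∀ P : Matrix.SpecialLinearGroup (Fin n) F, P⁻¹ * x * P ∉
        ((Cfsg.Geo.subfieldSubgroup F₀ (1 : GL (Fin n) F)).comap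
          (Matrix.SpecialLinearGroup.toGL : Matrix.SpecialLinearGroup (Fin n) F →* GL (Fin n) F)) := by
  classical
  have h2 : (2 : F) ≠ 0 := two_ne_zero_of_odd (by rw [hq]; exact hodd)
  have hq2 : 2 ≤ q := by rw [← hq]; exact Fintype.one_lt_card
  have hq1 : q - 1 ≠ 0 := by omega
  have hn0 : n ≠ 0 := by omega
  set a := padicValNat 2 (q - 1) with ha
  have hdvdn : 2 ^ (a + 1) ∣ n := (pow_dvd_pow 2 (by omega)).trans pow_padicValNat_dvd
  obtain ⟨m₁, hm₁⟩ := hdvdn
  set m := 2 ^ a * m₁ with hm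
  have hnm : n = m + m := by rw [hm₁, hm, pow_succ]; ring
  have hfac : 2 ^ a * (ordCompl[2] (q - 1)) = q - 1 := by
    have := Nat.ordProj_mul_ordCompl_eq_self (q - 1) 2
    rwa [Nat.factorization_def _ Nat.prime_two] at this
  have hoddt : Odd (ordCompl[2] (q - 1)) := by
    rw [← Nat.not_even_iff_odd, even_iff_two_dvd]
    exact Nat.not_dvd_ordCompl Nat.prime_two hq1
  set t := ordCompl[2] (q - 1) with ht
  obtain ⟨g, hgord, hghalf⟩ := exists_gen_neg_one q hq h2
  set w : F := (g : F) ^ t with hw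
  have hwm : w ^ m = 1 := by
    rw [hw, ← pow_mul, hm, ← mul_assoc, mul_comm t, hfac, pow_mul, ← Units.val_pow_eq_pow_val,
      ← hgord, pow_orderOf_eq_one, Units.val_one, one_pow]
  -- `q / 2` is even
  have hq₀odd : Odd q₀ := by
    rw [hqk] at hodd
    exact (Nat.odd_pow_iff (by norm_num)).1 hodd
  have hqhalf : Even (q / 2) := by
    obtain ⟨u, hu⟩ := hq₀odd
    have : q = 2 * (2 * (u * (u + 1))) + 1 := by rw [hqk, hu]; ring
    exact ⟨u * (u + 1), by omega⟩
  set z : F := -w with hz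
  have hzhalf : z ^ (q / 2) = -1 := by
    rw [hz, neg_pow, hqhalf.neg_one_pow, one_mul, hw, ← pow_mul, mul_comm, pow_mul, hghalf,
      hoddt.neg_one_pow]
  have hz0 : z ≠ 0 := by
    intro h0
    rw [h0, zero_pow (by omega)] at hzhalf
    have : (1 : F) = 0 := by linear_combination hzhalf
    exact one_ne_zero this
  have hznsq : ∀ s : F, s ^ 2 ≠ z := by
    intro s hs
    have hs0 : s ≠ 0 := by
      intro h0
      rw [h0] at hs
      exact hz0 (by rw [← hs]; ring)
    have hoddq : q % 2 = 1 := Nat.odd_iff.1 hodd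
    have h1 : z ^ (q / 2) = 1 := by
      rw [← hs, ← pow_mul]
      have : 2 * (q / 2) = q - 1 := by omega
      rw [this, ← hq]
      exact FiniteField.pow_card_sub_one_eq_one s hs0
    rw [hzhalf] at h1
    apply h2
    calc (2 : F) = 1 - (-1) := by ring
      _ = 0 := by rw [h1]; ring
  -- the matrix
  set X₀ : Matrix (Fin m ⊕ Fin m) (Fin m ⊕ Fin m) F :=
    Matrix.fromBlocks 1 ((z - 1) • (1 : Matrix (Fin m) (Fin m) F)) 1 (-1) with hX₀
  have hX₀X₀ : X₀ * X₀ = z • (1 : Matrix (Fin m ⊕ Fin m) (Fin m ⊕ Fin m) F) := by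
    rw [hX₀, Matrix.fromBlocks_multiply, ← Matrix.fromBlocks_one, Matrix.fromBlocks_smul]
    congr 1
    · rw [Matrix.one_mul, Matrix.mul_one]
      rw [show (1 : Matrix (Fin m) (Fin m) F) + (z - 1) • (1 : Matrix (Fin m) (Fin m) F) =
        (1 : F) • (1 : Matrix (Fin m) (Fin m) F) + (z - 1) • (1 : Matrix (Fin m) (Fin m) F) by
          rw [one_smul], ← add_smul]
      congr 1
      ring
    · rw [Matrix.one_mul, Matrix.mul_neg, Matrix.mul_one, add_neg_cancel, smul_zero]
    · rw [Matrix.one_mul, Matrix.mul_one, add_neg_cancel, smul_zero]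
    · rw [Matrix.one_mul, Matrix.neg_mul, Matrix.mul_neg, neg_neg, Matrix.one_mul]
      rw [show (z - 1) • (1 : Matrix (Fin m) (Fin m) F) + 1 =
        (z - 1) • (1 : Matrix (Fin m) (Fin m) F) + (1 : F) • (1 : Matrix (Fin m) (Fin m) F) by
          rw [one_smul], ← add_smul]
      congr 1
      ring
  have hX₀det : X₀.det = 1 := by
    rw [hX₀, Matrix.det_fromBlocks_one₁₁, Matrix.one_mul]
    have : (-1 : Matrix (Fin m) (Fin m) F) - (z - 1) • (1 : Matrix (Fin m) (Fin m) F) =
        (-z) • (1 : Matrix (Fin m) (Fin m) F) := by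
      rw [show (-1 : Matrix (Fin m) (Fin m) F) = (-1 : F) • (1 : Matrix (Fin m) (Fin m) F) by
        rw [neg_smul, one_smul], ← sub_smul]
      congr 1
      ring
    rw [this, Matrix.det_smul, Matrix.det_one, mul_one, Fintype.card_fin, hz, neg_neg, hwm]
  let e : Fin m ⊕ Fin m ≃ Fin n := finSumFinEquiv.trans (finCongr hnm.symm)
  set X : Matrix (Fin n) (Fin n) F := Matrix.reindex e e X₀ with hXdef
  have hXdet : X.det = 1 := by rw [hXdef, Matrix.det_reindex_self, hX₀det]
  have hXX : X * X = z • (1 : Matrix (Fin n) (Fin n) F) := by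
    rw [hXdef, Matrix.reindex_apply, Matrix.submatrix_mul_equiv, hX₀X₀]
    ext i j
    simp only [Matrix.submatrix_apply, Matrix.smul_apply, Matrix.one_apply,
      EmbeddingLike.apply_eq_iff_eq]
  let x : Matrix.SpecialLinearGroup (Fin n) F := ⟨X, hXdet⟩
  have hx : (x : Matrix (Fin n) (Fin n) F) = X := rfl
  have i₀ : Fin n := ⟨0, by omega⟩
  refine ⟨x, ⟨z, ?_⟩, ?_, ?_⟩
  · rw [Matrix.SpecialLinearGroup.coe_pow, hx, pow_two, hXX]
  · intro c hc
    rw [hx] at hc
    rw [hc, Matrix.smul_mul, Matrix.mul_smul, Matrix.one_mul, smul_smul] at hXX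
    have := congrFun (congrFun hXX i₀) i₀
    rw [Matrix.smul_apply, Matrix.smul_apply, Matrix.one_apply_eq, smul_eq_mul, smul_eq_mul,
      mul_one, mul_one] at this
    exact hznsq c (by rw [pow_two]; exact this)
  · intro P hP
    obtain ⟨c, A, hc, hA, hcA⟩ := exists_of_mem_comap F₀ _ hP
    set Pm := (P : Matrix (Fin n) (Fin n) F) with hPm
    set Q := ((P⁻¹ : Matrix.SpecialLinearGroup (Fin n) F) : Matrix (Fin n) (Fin n) F) with hQ
    have hQP : Q * Pm = 1 := by
      rw [hPm, hQ, ← Matrix.SpecialLinearGroup.coe_mul, inv_mul_cancel,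
        Matrix.SpecialLinearGroup.coe_one]
    have hPQ : Pm * Q = 1 := by
      rw [hPm, hQ, ← Matrix.SpecialLinearGroup.coe_mul, mul_inv_cancel,
        Matrix.SpecialLinearGroup.coe_one]
    rw [Matrix.SpecialLinearGroup.coe_mul, Matrix.SpecialLinearGroup.coe_mul, hx, ← hPm, ← hQ]
      at hcA
    have hYY : (Q * X * Pm) * (Q * X * Pm) = z • (1 : Matrix (Fin n) (Fin n) F) := by
      calc (Q * X * Pm) * (Q * X * Pm) = Q * (X * ((Pm * Q) * X)) * Pm := by
            simp only [Matrix.mul_assoc]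
        _ = z • (1 : Matrix (Fin n) (Fin n) F) := by
            rw [hPQ, Matrix.one_mul, hXX, Matrix.mul_smul, Matrix.mul_one, Matrix.smul_mul, hQP]
    rw [hcA, Matrix.smul_mul, Matrix.mul_smul, smul_smul] at hYY
    have h00 := congrFun (congrFun hYY i₀) i₀
    rw [Matrix.smul_apply, Matrix.smul_apply, Matrix.one_apply_eq, smul_eq_mul, smul_eq_mul,
      mul_one] at h00
    have hmem : (A * A) i₀ i₀ ∈ F₀ := by
      rw [Matrix.mul_apply]
      exact F₀.sum_mem fun k _ => F₀.mul_mem (hA i₀ k) (hA k i₀)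
    obtain ⟨s, hs⟩ := exists_sq_of_mem F₀ q₀ hF₀ (by rw [hq, hqk]) h2 _ hmem
    apply hznsq (c * s)
    rw [mul_pow, hs, ← h00]
    ring

end Witness

end Cfsg.Agent.Lib.Helper8.SubfInv
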