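import Mathlib
import Cfsg.Agent.Lib.Helper8.ExtFieldA
import Cfsg.Agent.Lib.Helper8.ExtFieldB
import Cfsg.Agent.Lib.Helper8.ExtFieldC
import Cfsg.Agent.Lib.Helper8.GSpFormM
import Cfsg.Agent.Lib.Helper8.GSpFormN
import Cfsg.Agent.Lib.Helper8.SubfInvB
import Cfsg.Agent.Lib.Helper8.SubfInvF

/-!
# Involutions of `PSL_n(q)` and the normalizer of a quadratic field subalgebra (helper8)
-/

set_option autoImplicit false
set_option linter.unusedSectionVars false

open scoped MatrixGroups

namespace Cfsg.Agent.Lib.Helper8.ExtField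

open Matrix Module Cfsg.Agent.Lib.Helper8.GSpForm Cfsg.Agent.Lib.Helper8.SubfInv

section Conj

variable {F : Type*} [Field F] [Fintype F]

/-- the operator to conjugate onto the generator -/
theorem exists_op {q : ℕ} (hq : Fintype.card F = q) (n : ℕ) (hn : 2 ≤ n)
    (t d : F) (hirr : ∀ l : F, l ^ 2 - t * l + d ≠ 0)
    (hcond : n = 2 ∨ (Odd q ∧ padicValNat 2 (q - 1) ≤ padicValNat 2 n))
    (X : Matrix (Fin n) (Fin n) F) (hXdet : X.det = 1) (z : F) (hz : z ≠ 0)
    (hXX : X * X = z • (1 : Matrix (Fin n) (Fin n) F))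
    (hns : ∀ c : F, X ≠ c • (1 : Matrix (Fin n) (Fin n) F)) :
    ∃ Ω' : Matrix (Fin n) (Fin n) F,
      Ω' * Ω' = t • Ω' - d • (1 : Matrix (Fin n) (Fin n) F) ∧
      (X * Ω' = Ω' * X ∨ X * Ω' = (t • (1 : Matrix (Fin n) (Fin n) F) - Ω') * X) := by
  classical
  rcases hcond with h2 | ⟨hodd, hv⟩
  · subst h2
    obtain ⟨Ω', h1, h2⟩ := exists_semi_two t d hirr X z hz hXX hns
    exact ⟨Ω', h1, Or.inr h2⟩
  · have h2 : (2 : F) ≠ 0 := two_ne_zero_of_odd (by rw [hq]; exact hodd)
    by_cases hsq : ∃ s : F, s ^ 2 = z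
    · obtain ⟨s, hs⟩ := hsq
      have hs0 : s ≠ 0 := by
        intro h0
        rw [h0] at hs
        exact hz (by rw [← hs]; ring)
      have hn0 : n ≠ 0 := by omega
      set xl : (Fin n → F) →ₗ[F] (Fin n → F) := Matrix.toLin' X with hxl
      have hxl' : ∀ v, xl (xl v) = (s ^ 2) • v := by
        intro v
        rw [hxl, Matrix.toLin'_apply, Matrix.toLin'_apply, Matrix.mulVec_mulVec, hXX, hs,
          Matrix.smul_mulVec, Matrix.one_mulVec]
      have hfr : finrank F (Fin n → F) = n := by rw [Module.finrank_pi, Fintype.card_fin]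
      have hc := isCompl_E xl s hs0 h2 hxl'
      have hab := Submodule.finrank_add_eq_of_isCompl hc
      rw [hfr] at hab
      have hdet := det_eq_of_sq xl s hs0 h2 hxl'
      rw [hxl, LinearMap.det_toLin', hXdet] at hdet
      rw [← hxl] at hdet
      have hb : Even (finrank F ↥(Em xl s)) := by
        apply even_of_pow_mul q hq h2 s hs0 _ hv hn0
        have hsn : s ^ n = s ^ (finrank F ↥(Ep xl s)) * s ^ (finrank F ↥(Em xl s)) := by
          rw [← pow_add, hab]
        rw [hsn, mul_assoc, ← mul_pow, mul_neg_one]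
        exact hdet.symm
      -- `n` is even
      have hne : Even n := by
        by_contra hno
        rw [Nat.not_even_iff_odd] at hno
        have h0 : padicValNat 2 n = 0 := by
          rw [padicValNat.eq_zero_iff]
          right; right
          rw [Nat.two_dvd_ne_zero]
          exact Nat.odd_iff.1 hno
        rw [h0, Nat.le_zero, padicValNat.eq_zero_iff] at hv
        have hq2 : 2 ≤ q := by rw [← hq]; exact Fintype.one_lt_card
        rcases hv with hv | hv | hv
        · omega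
        · omega
        · rw [Nat.odd_iff] at hodd
          omega
      obtain ⟨m, hm⟩ := hne
      have ha : Even (finrank F ↥(Ep xl s)) := by
        obtain ⟨kb, hkb⟩ := hb
        exact ⟨m - kb, by omega⟩
      obtain ⟨k₁, hk₁⟩ := ha
      obtain ⟨k₂, hk₂⟩ := hb
      have hXX' : X * X = (s ^ 2) • (1 : Matrix (Fin n) (Fin n) F) := by rw [hXX, hs]
      obtain ⟨Ω', h1, h3⟩ := exists_comm_sq h2 t d X s hs0 hXX' k₁ k₂ (by rw [hk₁, two_mul])
        (by rw [hk₂, two_mul])
      exact ⟨Ω', h1, Or.inl h3⟩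
    · push Not at hsq
      obtain ⟨Ω', h1, h3⟩ := exists_comm_nonsq h2 t d hirr X z hz hXX hsq
      exact ⟨Ω', h1, Or.inl h3⟩

/-- (⟸) every involution is conjugate into the normalizer -/
theorem conj_into_normalizer {q : ℕ} (hq : Fintype.card F = q) (n : ℕ) (hn : 2 ≤ n)
    (K : Subalgebra F (Matrix (Fin n) (Fin n) F)) (hK : Cfsg.Geo.IsFieldSubalgebra 2 K)
    (hcond : n = 2 ∨ (Odd q ∧ padicValNat 2 (q - 1) ≤ padicValNat 2 n))
    (x : Matrix.SpecialLinearGroup (Fin n) F) (z : F)
    (hx2 : ((x ^ 2 : Matrix.SpecialLinearGroup (Fin n) F) : Matrix (Fin n) (Fin n) F) =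
      z • (1 : Matrix (Fin n) (Fin n) F))
    (hns : ∀ c : F, (x : Matrix (Fin n) (Fin n) F) ≠ c • (1 : Matrix (Fin n) (Fin n) F)) :
    ∃ P : Matrix.SpecialLinearGroup (Fin n) F, P⁻¹ * x * P ∈
      ((Cfsg.Geo.subalgebraNormalizer K).comap (Matrix.SpecialLinearGroup.toGL :
        Matrix.SpecialLinearGroup (Fin n) F →* GL (Fin n) F)) := by
  classical
  obtain ⟨ω, t, d, hg⟩ := exists_gen (by omega) K hK
  set X := (x : Matrix (Fin n) (Fin n) F) with hX
  have hXX : X * X = z • (1 : Matrix (Fin n) (Fin n) F) := by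
    rw [← hx2, Matrix.SpecialLinearGroup.coe_pow, pow_two]
  have hXdet : X.det = 1 := x.2
  have hz : z ≠ 0 := by
    intro h0
    have hne : Nonempty (Fin n) := ⟨⟨0, by omega⟩⟩
    have := congrArg Matrix.det hXX
    rw [Matrix.det_mul, hXdet, h0, zero_smul, Matrix.det_zero] at this
    rw [mul_one] at this
    exact (one_ne_zero : (1 : F) ≠ 0) this
  obtain ⟨Ω', hΩ', hcomm⟩ := exists_op hq n hn t d hg.irr hcond X hXdet z hz hXX hns
  obtain ⟨G, G', hGG', hG'G, hGΩ⟩ := exists_conj_gen t d hg.irr Ω' ω hΩ' hg.rel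
  have hG'ω : G' * ω = Ω' * G' := by
    calc G' * ω = G' * ω * (G * G') := by rw [hGG', Matrix.mul_one]
      _ = G' * (ω * G) * G' := by simp only [Matrix.mul_assoc]
      _ = G' * (G * Ω') * G' := by rw [hGΩ]
      _ = (G' * G) * Ω' * G' := by simp only [Matrix.mul_assoc]
      _ = Ω' * G' := by rw [hG'G, Matrix.one_mul]
  obtain ⟨P, hP⟩ := exists_sl_of_gl x z hz hXX hns G' G hG'G
  refine ⟨P, ?_⟩
  rw [Subgroup.mem_comap]
  apply mem_normalizer_of hg
  rw [Matrix.SpecialLinearGroup.coe_GL_coe_matrix, hP, ← hX]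
  rcases hcomm with h | h
  · left
    calc G * X * G' * ω = G * X * (G' * ω) := by simp only [Matrix.mul_assoc]
      _ = G * (X * Ω') * G' := by rw [hG'ω]; simp only [Matrix.mul_assoc]
      _ = (G * Ω') * X * G' := by rw [h]; simp only [Matrix.mul_assoc]
      _ = ω * (G * X * G') := by rw [hGΩ]; simp only [Matrix.mul_assoc]
  · right
    calc G * X * G' * ω = G * X * (G' * ω) := by simp only [Matrix.mul_assoc]
      _ = G * (X * Ω') * G' := by rw [hG'ω]; simp only [Matrix.mul_assoc]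
      _ = (G * (t • (1 : Matrix (Fin n) (Fin n) F) - Ω')) * X * G' := by
          rw [h]; simp only [Matrix.mul_assoc]
      _ = ((t • (1 : Matrix (Fin n) (Fin n) F) - ω) * G) * X * G' := by
          have e1 : G * (t • (1 : Matrix (Fin n) (Fin n) F) - Ω') =
              (t • (1 : Matrix (Fin n) (Fin n) F) - ω) * G := by
            rw [Matrix.mul_sub, Matrix.sub_mul, hGΩ, Matrix.mul_smul, Matrix.smul_mul,
              Matrix.mul_one, Matrix.one_mul]
          rw [e1]
      _ = (t • (1 : Matrix (Fin n) (Fin n) F) - ω) * (G * X * G') := by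
          simp only [Matrix.mul_assoc]

end Conj

end Cfsg.Agent.Lib.Helper8.ExtField
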