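import Mathlib
import Cfsg.Agent.Lib.Helper8.ExtFieldA
import Cfsg.Agent.Lib.Helper8.GSpFormA
import Cfsg.Agent.Lib.Helper8.GSpFormN
import Cfsg.Agent.Lib.Helper8.SubfInvD

/-!
# Involutions of `PSL_n(q)` not conjugate into the normalizer of a quadratic field subalgebra
(helper8)
-/

set_option autoImplicit false
set_option linter.unusedSectionVars false

open scoped MatrixGroups

namespace Cfsg.Agent.Lib.Helper8.ExtField

open Matrix Module Cfsg.Agent.Lib.Helper8.GSpForm Cfsg.Agent.Lib.Helper8.SubfInv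

section Bad

variable {n : ℕ} {F : Type*} [Field F]

/-- an element `c + (rank one)` of `SL_n(F)` with scalar square not conjugate into the
normalizer -/
theorem exists_bad_of {K : Subalgebra F (Matrix (Fin n) (Fin n) F)}
    {ω : Matrix (Fin n) (Fin n) F} {t d : F} (hg : IsGen K ω t d) (hn : 3 ≤ n)
    (c : F) (hc : c ≠ 0) (w φ u : Fin n → F) (hτ : φ ⬝ᵥ w = -(2 * c)) (hdet : -(c ^ n) = 1)
    (hw : w ≠ 0) (hφ : φ ⬝ᵥ u ≠ 0) :
    ∃ x : Matrix.SpecialLinearGroup (Fin n) F,
      (∃ z : F, ((x ^ 2 : Matrix.SpecialLinearGroup (Fin n) F) : Matrix (Fin n) (Fin n) F) =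
        z • (1 : Matrix (Fin n) (Fin n) F)) ∧
      (∀ z : F, (x : Matrix (Fin n) (Fin n) F) ≠ z • (1 : Matrix (Fin n) (Fin n) F)) ∧
      ∀ P : Matrix.SpecialLinearGroup (Fin n) F, P⁻¹ * x * P ∉
        ((Cfsg.Geo.subalgebraNormalizer K).comap (Matrix.SpecialLinearGroup.toGL :
          Matrix.SpecialLinearGroup (Fin n) F →* GL (Fin n) F)) := by
  classical
  set N : Matrix (Fin n) (Fin n) F := Matrix.vecMulVec w φ with hN
  set M : Matrix (Fin n) (Fin n) F := c • (1 : Matrix (Fin n) (Fin n) F) + N with hM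
  have hφ0 : φ ≠ 0 := by
    intro h0
    apply hφ
    rw [h0, zero_dotProduct]
  have hNN : N * N = (-(2 * c)) • N := by
    rw [hN, Matrix.vecMulVec_mul_vecMulVec, hτ, Matrix.vecMulVec_smul]
  have hMdet : M.det = 1 := by
    have e1 : M = c • ((1 : Matrix (Fin n) (Fin n) F) + Matrix.vecMulVec (c⁻¹ • w) φ) := by
      rw [hM, hN, smul_add, Matrix.smul_vecMulVec, smul_smul, mul_inv_cancel₀ hc, one_smul]
    rw [e1, Matrix.det_smul, Fintype.card_fin, Matrix.vecMulVec_eq Unit,
      Matrix.det_one_add_replicateCol_mul_replicateRow, dotProduct_smul, hτ, smul_eq_mul]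
    have : c⁻¹ * -(2 * c) = -2 := by field_simp
    rw [this]
    linear_combination hdet
  have hMM : M * M = (c * c) • (1 : Matrix (Fin n) (Fin n) F) := by
    rw [hM]
    simp only [Matrix.add_mul, Matrix.mul_add, Matrix.smul_mul, Matrix.mul_smul, Matrix.one_mul,
      Matrix.mul_one, hNN]
    module
  let x : Matrix.SpecialLinearGroup (Fin n) F := ⟨M, hMdet⟩
  have hx : (x : Matrix (Fin n) (Fin n) F) = M := rfl
  refine ⟨x, ⟨c * c, ?_⟩, ?_, ?_⟩
  · rw [Matrix.SpecialLinearGroup.coe_pow, hx, pow_two, hMM]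
  · intro z hz
    rw [hx, hM] at hz
    have hNz : N = (z - c) • (1 : Matrix (Fin n) (Fin n) F) := by
      rw [sub_smul, ← hz]
      abel
    have hrk : N.rank ≤ 1 := Matrix.rank_vecMulVec_le w φ
    by_cases hzc : z - c = 0
    · rw [hzc, zero_smul, hN, Matrix.vecMulVec_eq_zero] at hNz
      rcases hNz with h | h
      · exact hw h
      · exact hφ0 h
    · rw [hNz, rank_smul_of_ne_zero _ hzc, Matrix.rank_one, Fintype.card_fin] at hrk
      omega
  · intro P hP
    rw [Subgroup.mem_comap] at hP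
    set Pm := (P : Matrix (Fin n) (Fin n) F) with hPm
    set Pi := ((P⁻¹ : Matrix.SpecialLinearGroup (Fin n) F) : Matrix (Fin n) (Fin n) F) with hPi
    have hPP : Pm * Pi = 1 := by
      rw [hPm, hPi, ← Matrix.SpecialLinearGroup.coe_mul, mul_inv_cancel,
        Matrix.SpecialLinearGroup.coe_one]
    have hPP' : Pi * Pm = 1 := by
      rw [hPm, hPi, ← Matrix.SpecialLinearGroup.coe_mul, inv_mul_cancel,
        Matrix.SpecialLinearGroup.coe_one]
    have hY : ((Matrix.SpecialLinearGroup.toGL (P⁻¹ * x * P) : GL (Fin n) F) :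
        Matrix (Fin n) (Fin n) F) =
        c • (1 : Matrix (Fin n) (Fin n) F) + Matrix.vecMulVec (Pi *ᵥ w) (φ ᵥ* Pm) := by
      rw [Matrix.SpecialLinearGroup.coe_GL_coe_matrix, Matrix.SpecialLinearGroup.coe_mul,
        Matrix.SpecialLinearGroup.coe_mul, hx, ← hPm, ← hPi, hM, Matrix.mul_add, Matrix.add_mul,
        Matrix.mul_smul, Matrix.mul_one, Matrix.smul_mul, hPP', hN, Matrix.mul_vecMulVec,
        Matrix.vecMulVec_mul]
    refine not_mem_normalizer hg hn _ c hc (Pi *ᵥ w) (φ ᵥ* Pm) ?_ (Pi *ᵥ u) ?_ hY hP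
    · intro h0
      apply hw
      have : Pm *ᵥ (Pi *ᵥ w) = w := by rw [Matrix.mulVec_mulVec, hPP, Matrix.one_mulVec]
      rw [← this, h0, Matrix.mulVec_zero]
    · rw [← Matrix.dotProduct_mulVec, Matrix.mulVec_mulVec, hPP, Matrix.one_mulVec]
      exact hφ

end Bad

section Main

variable {F : Type*} [Field F] [Fintype F]

/-- (⟹) a bad involution when the arithmetic condition fails -/
theorem exists_bad {q : ℕ} (hq : Fintype.card F = q) (n : ℕ) (hn : 3 ≤ n) (he : Even n)
    (K : Subalgebra F (Matrix (Fin n) (Fin n) F)) (hK : Cfsg.Geo.IsFieldSubalgebra 2 K)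
    (hcond : ¬ (Odd q ∧ padicValNat 2 (q - 1) ≤ padicValNat 2 n)) :
    ∃ x : Matrix.SpecialLinearGroup (Fin n) F,
      (∃ z : F, ((x ^ 2 : Matrix.SpecialLinearGroup (Fin n) F) : Matrix (Fin n) (Fin n) F) =
        z • (1 : Matrix (Fin n) (Fin n) F)) ∧
      (∀ z : F, (x : Matrix (Fin n) (Fin n) F) ≠ z • (1 : Matrix (Fin n) (Fin n) F)) ∧
      ∀ P : Matrix.SpecialLinearGroup (Fin n) F, P⁻¹ * x * P ∉
        ((Cfsg.Geo.subalgebraNormalizer K).comap (Matrix.SpecialLinearGroup.toGL :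
          Matrix.SpecialLinearGroup (Fin n) F →* GL (Fin n) F)) := by
  classical
  obtain ⟨ω, t, d, hg⟩ := exists_gen (by omega) K hK
  set i0 : Fin n := ⟨0, by omega⟩ with hi0
  set i1 : Fin n := ⟨1, by omega⟩ with hi1
  have h01 : i0 ≠ i1 := by
    intro h
    have := congrArg Fin.val h
    simp [hi0, hi1] at this
  set e₀ : Fin n → F := Pi.single i0 1 with he₀
  set e₁ : Fin n → F := Pi.single i1 1 with he₁
  have h00 : e₀ ⬝ᵥ e₀ = 1 := by
    rw [he₀, dotProduct_single, Pi.single_eq_same, mul_one]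
  have h0e1 : e₀ ⬝ᵥ e₁ = 0 := by
    rw [he₁, dotProduct_single, he₀, Pi.single_eq_of_ne h01.symm, zero_mul]
  by_cases hodd : Odd q
  · have hv : padicValNat 2 n < padicValNat 2 (q - 1) := by
      by_contra hle
      exact hcond ⟨hodd, not_lt.1 hle⟩
    obtain ⟨h2, s, hs⟩ := exists_pow_eq_neg_one (F := F) q hq n (by omega) hv
    have hs0 : s ≠ 0 := by
      intro h0
      rw [h0, zero_pow (by omega)] at hs
      have : (1 : F) = 0 := by linear_combination hs
      exact one_ne_zero this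
    refine exists_bad_of hg hn (-s) (neg_ne_zero.2 hs0) ((2 * s) • e₀) e₀ e₀ ?_ ?_ ?_ ?_
    · rw [dotProduct_smul, h00, smul_eq_mul]
      ring
    · rw [he.neg_pow, hs, neg_neg]
    · intro h0
      have := congrFun h0 i0
      rw [Pi.smul_apply, he₀, Pi.single_eq_same, smul_eq_mul, mul_one, Pi.zero_apply] at this
      exact (mul_ne_zero h2 hs0) this
    · rw [h00]
      exact one_ne_zero
  · have h2 : (2 : F) = 0 := by
      by_contra h2
      apply hodd
      rw [← hq]
      exact Nat.odd_iff.2 (FiniteField.odd_card_of_char_ne_two (ringChar_ne_two h2))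
    refine exists_bad_of hg hn 1 one_ne_zero e₁ e₀ e₀ ?_ ?_ ?_ ?_
    · rw [h0e1, mul_one, h2, neg_zero]
    · rw [one_pow]
      linear_combination (-1 : F) * h2
    · intro h0
      have := congrFun h0 i1
      rw [he₁, Pi.single_eq_same, Pi.zero_apply] at this
      exact one_ne_zero this
    · rw [h00]
      exact one_ne_zero

end Main

end Cfsg.Agent.Lib.Helper8.ExtField
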