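import Mathlib
import Cfsg.Agent.Lib.Helper8.FRam1

/-!
# Fully ramified characters (S4564), part 2: the unique character above `θ` (Step A) and the
degree formula for characters of intermediate subgroups lying above `θ`.
-/

set_option autoImplicit false
set_option linter.style.haveILetI false
set_option linter.unusedSectionVars false
set_option linter.unusedVariables false

namespace Cfsg.Agent.Lib.Helper8.FRam

open Cfsg Cfsg.Agent.Lib.helper3.Irr Cfsg.Agent.Lib.helper3.IndFun
open scoped ComplexConjugate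

section stepA

variable {H : Type*} [Group H] [Fintype H] (Z : Subgroup H) [Fintype Z]
  (χ : IrrCharacter H) (θ : IrrCharacter Z) (e : ℕ)

/-- `χ|_Z = e θ` as functions. -/
theorem restrict_eq (hχZ : ∀ z : Z, (χ : H → ℂ) z = (e : ℂ) * (θ : Z → ℂ) z) :
    (fun z : Z => (χ : H → ℂ) z) = (e : ℂ) • (θ : Z → ℂ) := by
  funext z
  rw [hχZ z]
  rfl

/-- **Step A**: `χ` is the only irreducible character of `H` above `θ`. -/
theorem unique_over (he : e ^ 2 = Z.index)
    (hχZ : ∀ z : Z, (χ : H → ℂ) z = (e : ℂ) * (θ : Z → ℂ) z) (χ' : IrrCharacter H)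
    (hχ' : classInner (fun z : Z => (χ' : H → ℂ) z) (θ : Z → ℂ) ≠ 0) : χ' = χ := by
  classical
  have hθc := isCharacter_of_isIrrCharacter θ.2
  have hind := isCharacter_indFun Z (θ : Z → ℂ) hθc
  obtain ⟨m, hm⟩ := exists_decomposition_of_isCharacter hind
  have hmul : ∀ ψ : IrrCharacter H,
      (m ψ : ℂ) = classInner (θ : Z → ℂ) (fun z : Z => (ψ : H → ℂ) z) := by
    intro ψ
    rw [← frobenius_reciprocity Z (θ : Z → ℂ) (ψ : H → ℂ)
      (isClassFunction_of_isCharacter (isCharacter_of_isIrrCharacter ψ.2)), hm,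
      classInner_decomposition_left]
  obtain ⟨t, ht, hθ1⟩ := exists_pos_nat_apply_one θ.2
  have hdeg : ∀ ψ : IrrCharacter H, ∃ d : ℕ, 0 < d ∧ (ψ : H → ℂ) 1 = d :=
    fun ψ => exists_pos_nat_apply_one ψ.2
  choose d hdpos hd using hdeg
  -- multiplicity of χ
  have hmχ : m χ = e := by
    have h1 := hmul χ
    rw [restrict_eq Z χ θ e hχZ, classInner_smul_right, irr_classInner_self θ.2, mul_one,
      Complex.conj_natCast] at h1
    exact_mod_cast h1
  have hdχ : d χ = e * t := by
    have h1 := hd χ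
    have h2 := hχZ 1
    rw [show ((1 : Z) : H) = 1 from rfl] at h2
    rw [h2, hθ1] at h1
    exact_mod_cast h1.symm
  -- evaluate at 1
  have h1 := congrFun hm 1
  rw [indFun_apply_one, hθ1, Finset.sum_apply] at h1
  have h2 : (Z.index * t : ℕ) = ∑ ψ : IrrCharacter H, m ψ * d ψ := by
    have : ((Z.index * t : ℕ) : ℂ) = ((∑ ψ : IrrCharacter H, m ψ * d ψ : ℕ) : ℂ) := by
      push_cast
      rw [h1]
      apply Finset.sum_congr rfl
      intro ψ _
      rw [Pi.smul_apply, smul_eq_mul, hd ψ]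
    exact_mod_cast this
  have h3 := Finset.add_sum_erase Finset.univ (fun ψ => m ψ * d ψ) (Finset.mem_univ χ)
  have h4 : m χ * d χ = Z.index * t := by
    rw [hmχ, hdχ, ← he]
    ring
  have h5 : ∑ ψ ∈ Finset.univ.erase χ, m ψ * d ψ = 0 := by
    omega
  by_contra hne
  have h6 := (Finset.sum_eq_zero_iff.mp h5) χ' (Finset.mem_erase.mpr ⟨hne, Finset.mem_univ _⟩)
  have h7 : m χ' = 0 := by
    rcases Nat.mul_eq_zero.mp h6 with h | h
    · exact h
    · exact absurd h (hdpos χ').ne'
  apply hχ'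
  have h8 := hmul χ'
  rw [h7, Nat.cast_zero] at h8
  rw [← classInner_conj_symm, ← h8, map_zero]

end stepA

section F1

variable {H : Type*} [Group H] [Fintype H] (Z : Subgroup H) [Fintype Z]
  (χ : IrrCharacter H) (θ : IrrCharacter Z) (e : ℕ)

/-- **(F1)** A character `ψ` of an intermediate subgroup `X` lying above `θ` induces to a multiple
of `χ`; degree formula. -/
theorem indFun_eq_smul (he : e ^ 2 = Z.index)
    (hχZ : ∀ z : Z, (χ : H → ℂ) z = (e : ℂ) * (θ : Z → ℂ) z)
    (X : Subgroup H) [Fintype X] (hZX : Z ≤ X) (ψ : IrrCharacter X)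
    (hψ : classInner (fun z : Z => (ψ : X → ℂ) ⟨z, hZX z.2⟩) (θ : Z → ℂ) ≠ 0) :
    ∃ c : ℕ, c ≠ 0 ∧ classInner (fun x : X => (χ : H → ℂ) x) (ψ : X → ℂ) = c ∧
      indFun X (ψ : X → ℂ) = (c : ℂ) • (χ : H → ℂ) ∧
      ((X.index : ℂ) * (ψ : X → ℂ) 1 = (c : ℂ) * (χ : H → ℂ) 1) := by
  classical
  have hψc := isCharacter_of_isIrrCharacter ψ.2
  have hind := isCharacter_indFun X (ψ : X → ℂ) hψc
  obtain ⟨c, hc⟩ := exists_nat_classInner_of_isCharacter
    (isCharacter_restrict (isCharacter_of_isIrrCharacter χ.2) X) ψ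
  -- all constituents of the induced character equal χ
  have hzero : ∀ χ' : IrrCharacter H, χ' ≠ χ →
      classInner (indFun X (ψ : X → ℂ)) (χ' : H → ℂ) = 0 := by
    intro χ' hne
    by_contra h0
    apply hne
    apply unique_over Z χ θ e he hχZ χ'
    rw [frobenius_reciprocity X (ψ : X → ℂ) (χ' : H → ℂ)
      (isClassFunction_of_isCharacter (isCharacter_of_isIrrCharacter χ'.2))] at h0
    have h1 : classInner (fun x : X => (χ' : H → ℂ) x) (ψ : X → ℂ) ≠ 0 := by
      intro hh
      apply h0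
      rw [← classInner_conj_symm, hh, map_zero]
    exact classInner_restrict_ne_zero_of_constituent (Subgroup.inclusion hZX)
      (isCharacter_restrict (isCharacter_of_isIrrCharacter χ'.2) X) ψ.2 h1 θ hψ
  have hdec := isCharacter_eq_sum_classInner hind
  have hcc : classInner (indFun X (ψ : X → ℂ)) (χ : H → ℂ) = c := by
    rw [frobenius_reciprocity X (ψ : X → ℂ) (χ : H → ℂ)
      (isClassFunction_of_isCharacter (isCharacter_of_isIrrCharacter χ.2)),
      ← classInner_conj_symm, hc, Complex.conj_natCast]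
  have hsm : indFun X (ψ : X → ℂ) = (c : ℂ) • (χ : H → ℂ) := by
    rw [hdec, Finset.sum_eq_single χ]
    · rw [hcc]
    · intro b _ hb
      rw [hzero b hb, zero_smul]
    · intro hb
      exact absurd (Finset.mem_univ _) hb
  have hdeg : (X.index : ℂ) * (ψ : X → ℂ) 1 = (c : ℂ) * (χ : H → ℂ) 1 := by
    have := congrFun hsm 1
    rw [indFun_apply_one, Pi.smul_apply, smul_eq_mul] at this
    exact this
  refine ⟨c, ?_, hc, hsm, hdeg⟩
  intro hc0
  rw [hc0, Nat.cast_zero, zero_mul] at hdeg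
  have h1 : (X.index : ℂ) ≠ 0 := by
    have : X.index ≠ 0 := Subgroup.index_ne_zero_of_finite
    exact_mod_cast this
  exact (mul_ne_zero h1 (apply_one_ne_zero ψ.2)) hdeg

end F1

end Cfsg.Agent.Lib.Helper8.FRam
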