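import Mathlib
import Cfsg.Agent.Lib.Helper8.FRam2

/-!
# Fully ramified characters (S4564), part 3 (Step B): over a "Sylow" subgroup `Q ≥ Z` the
restriction of `χ` is a multiple of a single irreducible character.
-/

set_option autoImplicit false
set_option linter.style.haveILetI false
set_option linter.unusedSectionVars false
set_option linter.unusedVariables false

namespace Cfsg.Agent.Lib.Helper8.FRam

open Cfsg Cfsg.Agent.Lib.helper3.Irr Cfsg.Agent.Lib.helper3.IndFun
open scoped ComplexConjugate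

section arithmetic

/-- If `m a = c e`, `e² = p^j m` and `p ∤ m`, then `a = 0` or `p^j ≤ a²`. -/
theorem sq_ge_of_mul_eq (p j m a c e : ℕ) (hp : p.Prime) (hm : ¬ p ∣ m) (hm0 : m ≠ 0)
    (h1 : m * a = c * e) (h2 : e ^ 2 = p ^ j * m) : a = 0 ∨ p ^ j ≤ a ^ 2 := by
  by_cases ha : a = 0
  · left; exact ha
  right
  have h3 : m * a ^ 2 = c ^ 2 * p ^ j := by
    have : (m * a) ^ 2 = (c * e) ^ 2 := by rw [h1]
    have h4 : m * (m * a ^ 2) = m * (c ^ 2 * p ^ j) := by
      calc m * (m * a ^ 2) = (m * a) ^ 2 := by ring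
        _ = (c * e) ^ 2 := this
        _ = c ^ 2 * e ^ 2 := by ring
        _ = c ^ 2 * (p ^ j * m) := by rw [h2]
        _ = m * (c ^ 2 * p ^ j) := by ring
    exact Nat.eq_of_mul_eq_mul_left (Nat.pos_of_ne_zero hm0) h4
  have hcop : Nat.Coprime (p ^ j) m := by
    apply Nat.Coprime.pow_left
    exact (Nat.Prime.coprime_iff_not_dvd hp).mpr hm
  have hdvd : p ^ j ∣ m * a ^ 2 := ⟨c ^ 2, by rw [h3]; ring⟩
  have hdvd' : p ^ j ∣ a ^ 2 := hcop.dvd_of_dvd_mul_left hdvd
  exact Nat.le_of_dvd (by positivity) hdvd'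

/-- A finite sum of terms each `0` or `≥ N`, summing to `N > 0`, has exactly one nonzero
term. -/
theorem exists_unique_ne_zero_of_sum {ι : Type*} [Fintype ι] [DecidableEq ι] (f : ι → ℕ) (N : ℕ)
    (hN : 0 < N) (hf : ∀ i, f i = 0 ∨ N ≤ f i) (hsum : ∑ i, f i = N) :
    ∃ i₀, f i₀ ≠ 0 ∧ ∀ i, i ≠ i₀ → f i = 0 := by
  obtain ⟨i₀, hi₀⟩ : ∃ i₀, f i₀ ≠ 0 := by
    by_contra h
    push Not at h
    simp [h] at hsum
    omega
  refine ⟨i₀, hi₀, ?_⟩
  intro i hi
  by_contra hne
  have h1 := Finset.add_sum_erase Finset.univ f (Finset.mem_univ i₀)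
  have h2 := Finset.add_sum_erase (Finset.univ.erase i₀) f
    (Finset.mem_erase.mpr ⟨hi, Finset.mem_univ i⟩)
  have h3 : N ≤ f i₀ := (hf i₀).resolve_left hi₀
  have h4 : N ≤ f i := (hf i).resolve_left hne
  omega

end arithmetic

section stepB

variable {H : Type*} [Group H] [Fintype H] (Z : Subgroup H) [Fintype Z]
  (χ : IrrCharacter H) (θ : IrrCharacter Z) (e : ℕ)

/-- **Step B**: if `|Q : Z|` is a power of `p` and `|H : Q|` is prime to `p`, then `χ|_Q` is a
multiple of a single irreducible character of `Q`. -/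
theorem restrict_sylow_eq_smul (he : e ^ 2 = Z.index)
    (hχZ : ∀ z : Z, (χ : H → ℂ) z = (e : ℂ) * (θ : Z → ℂ) z)
    (p : ℕ) [Fact p.Prime] (Q : Subgroup H) [Fintype Q] (hZQ : Z ≤ Q)
    (hQp : ∃ j : ℕ, Z.relIndex Q = p ^ j) (hQidx : ¬ p ∣ Q.index) :
    ∃ (ψ : IrrCharacter Q) (c : ℕ), c ≠ 0 ∧
      (fun q : Q => (χ : H → ℂ) q) = (c : ℂ) • (ψ : Q → ℂ) := by
  classical
  obtain ⟨j, hj⟩ := hQp
  obtain ⟨t, ht, hθ1⟩ := exists_pos_nat_apply_one θ.2
  have hχc := isCharacter_of_isIrrCharacter χ.2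
  have hresc := isCharacter_restrict hχc Q
  have hm0 : Q.index ≠ 0 := Subgroup.index_ne_zero_of_finite
  have he2 : e ^ 2 = p ^ j * Q.index := by
    rw [he, ← hj]
    exact (Subgroup.relIndex_mul_index hZQ).symm
  have hχ1 : (χ : H → ℂ) 1 = ((e * t : ℕ) : ℂ) := by
    have h2 := hχZ 1
    rw [show ((1 : Z) : H) = 1 from rfl] at h2
    rw [h2, hθ1]
    push_cast
    ring
  have hAZ : (fun z : Z => (fun q : Q => (χ : H → ℂ) q) (Subgroup.inclusion hZQ z))
      = (e : ℂ) • (θ : Z → ℂ) := restrict_eq Z χ θ e hχZ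
  -- the data for each irreducible character of `Q`
  have key : ∀ ψ : IrrCharacter Q, ∃ a c : ℕ,
      classInner (fun q : Q => (χ : H → ℂ) q) (ψ : Q → ℂ) = c ∧
      (c : ℂ) * (ψ : Q → ℂ) 1 = ((c * a * t : ℕ) : ℂ) ∧ Q.index * a = c * e ∧
      (a = 0 → c = 0) := by
    intro ψ
    obtain ⟨c, hc⟩ := exists_nat_classInner_of_isCharacter hresc ψ
    by_cases hc0 : c = 0
    · refine ⟨0, 0, ?_, ?_, ?_, fun _ => rfl⟩
      · rw [hc, hc0]
      · simp
      · simp
    · have hne : classInner (fun q : Q => (χ : H → ℂ) q) (ψ : Q → ℂ) ≠ 0 := by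
        rw [hc]
        exact_mod_cast hc0
      obtain ⟨a, ha0, ha⟩ := restrict_eq_smul_of_constituent (Subgroup.inclusion hZQ)
        hresc ψ.2 hne θ e hAZ
      have hover : classInner (fun z : Z => (ψ : Q → ℂ) ⟨z, hZQ z.2⟩) (θ : Z → ℂ) ≠ 0 := by
        have : (fun z : Z => (ψ : Q → ℂ) ⟨z, hZQ z.2⟩) = (a : ℂ) • (θ : Z → ℂ) := ha
        rw [this, classInner_smul_left, irr_classInner_self θ.2, mul_one]
        exact_mod_cast ha0
      obtain ⟨c', hc'0, hc', -, hdeg⟩ := indFun_eq_smul Z χ θ e he hχZ Q hZQ ψ hover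
      have hcc : c' = c := by
        have : (c' : ℂ) = c := by rw [← hc', hc]
        exact_mod_cast this
      subst hcc
      have hψ1 : (ψ : Q → ℂ) 1 = ((a * t : ℕ) : ℂ) := by
        have := congrFun ha 1
        simp only [Pi.smul_apply, smul_eq_mul] at this
        rw [hθ1] at this
        have h1 : (ψ : Q → ℂ) 1 = (ψ : Q → ℂ) ((Subgroup.inclusion hZQ) 1) := by
          rw [map_one]
        rw [h1, this]
        push_cast
        ring
      refine ⟨a, c', hc, ?_, ?_, fun h => absurd h ha0⟩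
      · rw [hψ1]
        push_cast
        ring
      · rw [hψ1, hχ1] at hdeg
        have h5 : (Q.index * (a * t) : ℕ) = c' * (e * t) := by exact_mod_cast hdeg
        have h6 : (Q.index * a) * t = (c' * e) * t := by
          calc (Q.index * a) * t = Q.index * (a * t) := by ring
            _ = c' * (e * t) := h5
            _ = (c' * e) * t := by ring
        exact Nat.eq_of_mul_eq_mul_right ht h6
  choose a c hc hdeg hrel hac using key
  -- F2: evaluate the decomposition at 1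
  have hdec := isCharacter_eq_sum_classInner hresc
  have hF2 : e = ∑ ψ : IrrCharacter Q, c ψ * a ψ := by
    have h1 := congrFun hdec 1
    rw [Finset.sum_apply] at h1
    have h2 : ((e * t : ℕ) : ℂ) = ((∑ ψ : IrrCharacter Q, c ψ * a ψ * t : ℕ) : ℂ) := by
      rw [← hχ1]
      have h1' : (χ : H → ℂ) 1 = ∑ ψ : IrrCharacter Q,
          (classInner (fun h : Q => (χ : H → ℂ) h) (ψ : Q → ℂ) • (ψ : Q → ℂ)) 1 := h1
      rw [h1']
      push_cast
      apply Finset.sum_congr rfl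
      intro ψ _
      rw [Pi.smul_apply, smul_eq_mul, hc ψ, hdeg ψ]
      push_cast
      ring
    have h3 : e * t = (∑ ψ : IrrCharacter Q, c ψ * a ψ) * t := by
      rw [Finset.sum_mul]
      exact_mod_cast h2
    exact Nat.eq_of_mul_eq_mul_right ht h3
  have hsq : ∑ ψ : IrrCharacter Q, (a ψ) ^ 2 = p ^ j := by
    have h1 : e * e = ∑ ψ : IrrCharacter Q, Q.index * (a ψ) ^ 2 := by
      have h0 : e * e = (∑ ψ : IrrCharacter Q, c ψ * a ψ) * e := by rw [← hF2]
      rw [h0, Finset.sum_mul]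
      apply Finset.sum_congr rfl
      intro ψ _
      calc c ψ * a ψ * e = (c ψ * e) * a ψ := by ring
        _ = (Q.index * a ψ) * a ψ := by rw [hrel ψ]
        _ = Q.index * (a ψ) ^ 2 := by ring
    rw [← Finset.mul_sum, ← sq, he2, mul_comm] at h1
    exact (Nat.eq_of_mul_eq_mul_left (Nat.pos_of_ne_zero hm0) h1).symm
  have hterm : ∀ ψ, (a ψ) ^ 2 = 0 ∨ p ^ j ≤ (a ψ) ^ 2 := by
    intro ψ
    rcases sq_ge_of_mul_eq p j Q.index (a ψ) (c ψ) e Fact.out hQidx hm0 (hrel ψ) he2 with h | h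
    · left; rw [h]; rfl
    · right; exact h
  obtain ⟨ψ₀, hψ₀, hother⟩ := exists_unique_ne_zero_of_sum (fun ψ => (a ψ) ^ 2) (p ^ j)
    (pow_pos (Fact.out : p.Prime).pos j) hterm hsq
  refine ⟨ψ₀, c ψ₀, ?_, ?_⟩
  · intro h0
    have hsum0 : ∑ ψ : IrrCharacter Q, c ψ * a ψ = 0 := by
      apply Finset.sum_eq_zero
      intro ψ _
      by_cases hψ : ψ = ψ₀
      · rw [hψ, h0, zero_mul]
      · have := hother ψ hψ
        have ha0 : a ψ = 0 := by
          simpa using this
        rw [ha0, mul_zero]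
    rw [← hF2] at hsum0
    rw [hsum0] at he2
    have : p ^ j * Q.index ≠ 0 := mul_ne_zero (pow_pos (Fact.out : p.Prime).pos j).ne' hm0
    exact this (by simpa using he2.symm)
  · rw [hdec, Finset.sum_eq_single ψ₀]
    · rw [hc ψ₀]
    · intro ψ _ hψ
      have := hother ψ hψ
      have ha0 : a ψ = 0 := by simpa using this
      rw [hc ψ, hac ψ ha0, Nat.cast_zero, zero_smul]
    · intro hb
      exact absurd (Finset.mem_univ _) hb

end stepB

end Cfsg.Agent.Lib.Helper8.FRam
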