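import Mathlib
import Cfsg.Agent.Lib.Helper8.FRam3

/-!
# Fully ramified characters (S4564), part 4: the conjugation action of `N_H(R)` on functions
on `R`, orbit–stabilizer and the orbit inequality.
-/

set_option autoImplicit false
set_option linter.style.haveILetI false
set_option linter.unusedSectionVars false
set_option linter.unusedVariables false

namespace Cfsg.Agent.Lib.Helper8.FRam

open Cfsg Cfsg.Agent.Lib.helper3.Irr Cfsg.Agent.Lib.helper3.IndFun
open scoped ComplexConjugate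

section action

variable {H : Type*} [Group H] (R : Subgroup H)

/-- The conjugation action of `N_H(R)` on complex functions on `R`:
`(n • ρ) r = ρ (n⁻¹ r n)`. -/
@[reducible] noncomputable def normAct : MulAction ↥(Subgroup.normalizer (R : Set H)) (↥R → ℂ) where
  smul n ρ := fun r => ρ (n⁻¹ • r)
  one_smul ρ := by
    funext r
    show ρ ((1 : ↥(Subgroup.normalizer (R : Set H)))⁻¹ • r) = ρ r
    rw [inv_one, one_smul]
  mul_smul a b ρ := by
    funext r
    show ρ ((a * b)⁻¹ • r) = ρ (b⁻¹ • (a⁻¹ • r))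
    rw [mul_inv_rev, mul_smul]

attribute [local instance] normAct

theorem normAct_apply (n : ↥(Subgroup.normalizer (R : Set H))) (ρ : ↥R → ℂ) (r : ↥R) :
    (n • ρ) r = ρ (n⁻¹ • r) := rfl

theorem normAct_eq_comp (n : ↥(Subgroup.normalizer (R : Set H))) (ρ : ↥R → ℂ) :
    n • ρ = fun r => ρ ((MulDistribMulAction.toMulAut _ ↥R n⁻¹ : ↥R ≃* ↥R) r) := rfl

/-- The stabilizer of `ρ` in `N_H(R)`, as a subgroup of `H`. -/
noncomputable def stabH (ρ : ↥R → ℂ) : Subgroup H :=
  (MulAction.stabilizer ↥(Subgroup.normalizer (R : Set H)) ρ).map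
    (Subgroup.normalizer (R : Set H)).subtype

theorem stabH_le (ρ : ↥R → ℂ) : stabH R ρ ≤ Subgroup.normalizer (R : Set H) := by
  rintro x ⟨n, -, rfl⟩
  exact n.2

theorem mem_stabH_iff (ρ : ↥R → ℂ) (x : H) :
    x ∈ stabH R ρ ↔ ∃ hx : x ∈ Subgroup.normalizer (R : Set H),
      (⟨x, hx⟩ : ↥(Subgroup.normalizer (R : Set H))) • ρ = ρ := by
  constructor
  · rintro ⟨n, hn, rfl⟩
    exact ⟨n.2, hn⟩
  · rintro ⟨hx, h⟩
    exact ⟨⟨x, hx⟩, h, rfl⟩

theorem relIndex_stabH (ρ : ↥R → ℂ) :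
    (stabH R ρ).relIndex (Subgroup.normalizer (R : Set H))
      = (MulAction.orbit ↥(Subgroup.normalizer (R : Set H)) ρ).ncard := by
  rw [← MulAction.index_stabilizer]
  unfold stabH Subgroup.relIndex
  congr 1
  ext x
  rw [Subgroup.mem_subgroupOf, Subgroup.mem_map]
  constructor
  · rintro ⟨n, hn, hnx⟩
    have : n = x := Subtype.ext hnx
    rw [← this]
    exact hn
  · intro hx
    exact ⟨x, hx, rfl⟩

/-- `R` stabilizes every class function of `R`. -/
theorem le_stabH (ρ : ↥R → ℂ) (hρ : IsClassFunction ↥R ρ) : R ≤ stabH R ρ := by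
  intro x hx
  rw [mem_stabH_iff]
  refine ⟨Subgroup.le_normalizer hx, ?_⟩
  funext r
  rw [normAct_apply]
  have h1 : ((⟨x, Subgroup.le_normalizer hx⟩ : ↥(Subgroup.normalizer (R : Set H)))⁻¹ • r)
      = (⟨x, hx⟩ : ↥R)⁻¹ * r * (⟨x, hx⟩ : ↥R)⁻¹⁻¹ := by
    apply Subtype.ext
    show ((⟨x, Subgroup.le_normalizer hx⟩ : ↥(Subgroup.normalizer (R : Set H)))⁻¹ :
        ↥(Subgroup.normalizer (R : Set H))).1 * r.1 *
        ((⟨x, Subgroup.le_normalizer hx⟩ : ↥(Subgroup.normalizer (R : Set H)))⁻¹ :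
        ↥(Subgroup.normalizer (R : Set H))).1⁻¹ = _
    simp
  rw [h1]
  exact hρ r _

end action

section orbit

attribute [local instance] normAct

variable {H : Type*} [Group H] [Fintype H] (R : Subgroup H) [Fintype R]

/-- Conjugates of an irreducible character are irreducible. -/
theorem isIrrCharacter_normAct (n : ↥(Subgroup.normalizer (R : Set H))) (ρ : ↥R → ℂ)
    (hρ : IsIrrCharacter ↥R ρ) : IsIrrCharacter ↥R (n • ρ) := by
  rw [normAct_eq_comp]
  exact isIrrCharacter_comp_mulEquiv _ hρ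

theorem normAct_apply_one (n : ↥(Subgroup.normalizer (R : Set H))) (ρ : ↥R → ℂ) :
    (n • ρ) 1 = ρ 1 := by
  rw [normAct_apply, smul_one]

/-- The multiplicity in the restriction of a class function of `H` is constant on orbits. -/
theorem classInner_normAct (χ : H → ℂ) (hχ : IsClassFunction H χ)
    (n : ↥(Subgroup.normalizer (R : Set H))) (ρ : ↥R → ℂ) :
    classInner (fun r : R => χ r) (n • ρ) = classInner (fun r : R => χ r) ρ := by
  rw [normAct_eq_comp]
  have h1 : (fun r : R => χ r) = fun r : R => (fun r' : R => χ r')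
      ((MulDistribMulAction.toMulAut _ ↥R n⁻¹ : ↥R ≃* ↥R) r) := by
    funext r
    show χ r = χ ((n⁻¹ • r : ↥R) : H)
    have : ((n⁻¹ • r : ↥R) : H) = ((n⁻¹ : ↥(Subgroup.normalizer (R : Set H))) : H) * r
        * ((n⁻¹ : ↥(Subgroup.normalizer (R : Set H))) : H)⁻¹ := rfl
    rw [this]
    exact (hχ r _).symm
  conv_lhs => rw [h1]
  exact classInner_comp_mulEquiv _ (fun r' : R => χ r') ρ

/-- **Orbit inequality**: the `N_H(R)`-orbit of a constituent `ρ` of `χ|_R` contributes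
`|orbit| · [χ_R, ρ] · ρ(1)` to `χ(1)`. -/
theorem orbit_mul_le (χ : IrrCharacter H) (ρ : IrrCharacter R) (c d D : ℕ)
    (hc : classInner (fun r : R => (χ : H → ℂ) r) (ρ : R → ℂ) = c)
    (hd : (ρ : R → ℂ) 1 = d) (hD : (χ : H → ℂ) 1 = D) :
    (stabH R (ρ : R → ℂ)).relIndex (Subgroup.normalizer (R : Set H)) * (c * d) ≤ D := by
  classical
  have hχc := isCharacter_of_isIrrCharacter χ.2
  have hcf := isClassFunction_of_isCharacter hχc
  have hresc := isCharacter_restrict hχc R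
  have hdata : ∀ ρ' : IrrCharacter R, ∃ c' d' : ℕ,
      classInner (fun r : R => (χ : H → ℂ) r) (ρ' : R → ℂ) = c' ∧ (ρ' : R → ℂ) 1 = d' := by
    intro ρ'
    obtain ⟨c', hc'⟩ := exists_nat_classInner_of_isCharacter hresc ρ'
    obtain ⟨d', -, hd'⟩ := exists_pos_nat_apply_one ρ'.2
    exact ⟨c', d', hc', hd'⟩
  choose c' d' hc' hd' using hdata
  have hdec := isCharacter_eq_sum_classInner hresc
  have hF2 : D = ∑ ρ' : IrrCharacter R, c' ρ' * d' ρ' := by
    have h1 := congrFun hdec 1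
    rw [Finset.sum_apply] at h1
    have h1' : (χ : H → ℂ) 1 = ∑ ρ' : IrrCharacter R,
        (classInner (fun h : R => (χ : H → ℂ) h) (ρ' : R → ℂ) • (ρ' : R → ℂ)) 1 := h1
    have : ((D : ℕ) : ℂ) = ((∑ ρ' : IrrCharacter R, c' ρ' * d' ρ' : ℕ) : ℂ) := by
      rw [← hD, h1']
      push_cast
      apply Finset.sum_congr rfl
      intro ρ' _
      rw [Pi.smul_apply, smul_eq_mul, hc' ρ', hd' ρ']
    exact_mod_cast this
  set O : Finset (IrrCharacter R) := Finset.univ.filter
    (fun ρ' : IrrCharacter R => (ρ' : R → ℂ) ∈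
      MulAction.orbit ↥(Subgroup.normalizer (R : Set H)) (ρ : R → ℂ)) with hO
  have hOcard : O.card = (MulAction.orbit ↥(Subgroup.normalizer (R : Set H)) (ρ : R → ℂ)).ncard := by
    rw [← Set.ncard_coe_finset O]
    apply Set.ncard_congr (fun (ρ' : IrrCharacter R) _ => (ρ' : R → ℂ))
    · intro ρ' hρ'
      rw [hO] at hρ'
      simp only [Finset.coe_filter, Finset.mem_univ, true_and, Set.mem_ofPred_eq] at hρ'
      exact hρ'
    · intro a b _ _ hab
      exact Subtype.ext hab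
    · intro f hf
      obtain ⟨n, rfl⟩ := hf
      refine ⟨⟨n • (ρ : R → ℂ), isIrrCharacter_normAct R n _ ρ.2⟩, ?_, rfl⟩
      rw [hO]
      simp only [Finset.coe_filter, Finset.mem_univ, true_and, Set.mem_ofPred_eq]
      exact ⟨n, rfl⟩
  have hOterm : ∀ ρ' ∈ O, c' ρ' * d' ρ' = c * d := by
    intro ρ' hρ'
    rw [hO, Finset.mem_filter] at hρ'
    obtain ⟨n, hn⟩ := hρ'.2
    have h1 : (c' ρ' : ℂ) = c := by
      rw [← hc' ρ', ← hn]
      show classInner (fun r : R => (χ : H → ℂ) r) (n • (ρ : R → ℂ)) = c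
      rw [classInner_normAct R (χ : H → ℂ) hcf n, hc]
    have h2 : (d' ρ' : ℂ) = d := by
      rw [← hd' ρ', ← hn]
      show (n • (ρ : R → ℂ)) 1 = d
      rw [normAct_apply_one, hd]
    have h1' : c' ρ' = c := by exact_mod_cast h1
    have h2' : d' ρ' = d := by exact_mod_cast h2
    rw [h1', h2']
  rw [relIndex_stabH, ← hOcard, hF2]
  calc O.card * (c * d) = ∑ ρ' ∈ O, c' ρ' * d' ρ' := by
        rw [Finset.sum_congr rfl hOterm, Finset.sum_const, smul_eq_mul]
    _ ≤ ∑ ρ' : IrrCharacter R, c' ρ' * d' ρ' :=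
        Finset.sum_le_sum_of_subset (Finset.subset_univ O)

end orbit

end Cfsg.Agent.Lib.Helper8.FRam
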