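import Mathlib
import Cfsg.Agent.Lib.Helper8.FRam4

/-!
# Fully ramified characters (S4564), part 5 (Step C, common part): the numerical data attached
to a constituent `ρ` of `χ|_R`, `R = Q ∩ K`.
-/

set_option autoImplicit false
set_option linter.style.haveILetI false
set_option linter.unusedSectionVars false
set_option linter.unusedVariables false

namespace Cfsg.Agent.Lib.Helper8.FRam

open Cfsg Cfsg.Agent.Lib.helper3.Irr Cfsg.Agent.Lib.helper3.IndFun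
open scoped ComplexConjugate

section stepC

variable {H : Type*} [Group H] [Fintype H] (Z : Subgroup H) [Fintype Z]
  (χ : IrrCharacter H) (θ : IrrCharacter Z) (e : ℕ)

/-- If `χ|_Q = c ψ` then `c² = |H : Q|`. -/
theorem sq_eq_index_of_restrict_eq_smul (he : e ^ 2 = Z.index)
    (hχZ : ∀ z : Z, (χ : H → ℂ) z = (e : ℂ) * (θ : Z → ℂ) z)
    (Q : Subgroup H) [Fintype Q] (hZQ : Z ≤ Q) (ψ : IrrCharacter Q) (c : ℕ) (hc0 : c ≠ 0)
    (hψ : (fun q : Q => (χ : H → ℂ) q) = (c : ℂ) • (ψ : Q → ℂ)) : c ^ 2 = Q.index := by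
  have hχc := isCharacter_of_isIrrCharacter χ.2
  have hresc := isCharacter_restrict hχc Q
  have hne : classInner (fun q : Q => (χ : H → ℂ) q) (ψ : Q → ℂ) ≠ 0 := by
    rw [hψ, classInner_smul_left, irr_classInner_self ψ.2, mul_one]
    exact_mod_cast hc0
  have hAZ : (fun z : Z => (fun q : Q => (χ : H → ℂ) q) (Subgroup.inclusion hZQ z))
      = (e : ℂ) • (θ : Z → ℂ) := restrict_eq Z χ θ e hχZ
  obtain ⟨a, ha0, ha⟩ := restrict_eq_smul_of_constituent (Subgroup.inclusion hZQ)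
    hresc ψ.2 hne θ e hAZ
  have hover : classInner (fun z : Z => (ψ : Q → ℂ) ⟨z, hZQ z.2⟩) (θ : Z → ℂ) ≠ 0 := by
    have : (fun z : Z => (ψ : Q → ℂ) ⟨z, hZQ z.2⟩) = (a : ℂ) • (θ : Z → ℂ) := ha
    rw [this, classInner_smul_left, irr_classInner_self θ.2, mul_one]
    exact_mod_cast ha0
  obtain ⟨c', hc'0, hc', -, hdeg⟩ := indFun_eq_smul Z χ θ e he hχZ Q hZQ ψ hover
  have hcc : c' = c := by
    have : (c' : ℂ) = c := by
      rw [← hc', hψ, classInner_smul_left, irr_classInner_self ψ.2, mul_one]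
    exact_mod_cast this
  subst hcc
  have hχ1 : (χ : H → ℂ) 1 = (c' : ℂ) * (ψ : Q → ℂ) 1 := by
    have := congrFun hψ 1
    simpa using this
  rw [hχ1] at hdeg
  have hψ1 := apply_one_ne_zero ψ.2
  have h2 : (Q.index : ℂ) = (c' : ℂ) * c' := by
    have h3 : (Q.index : ℂ) * (ψ : Q → ℂ) 1 = ((c' : ℂ) * c') * (ψ : Q → ℂ) 1 := by
      rw [hdeg]; ring
    exact mul_right_cancel₀ hψ1 h3
  have : (Q.index : ℕ) = c' * c' := by exact_mod_cast h2
  rw [this, sq]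

/-- **Step C, common part.**  Let `χ|_Q = cψ · ψ`, `Z ≤ R ≤ Q ≤ N_H(R)` and let `ρ` be an
irreducible constituent of `χ|_R`.  With `ω = |N_H(R) : Stab(ρ)|` and `f = [ψ|_R, ρ]` we have
`ω f² ≤ |Q : R|`, `|Q : Q ∩ Stab(ρ)| ≤ ω`, `|H : R| ρ(1) = cψ f χ(1)`, and `ρ` lies above `θ`. -/
theorem constituent_data (he : e ^ 2 = Z.index)
    (hχZ : ∀ z : Z, (χ : H → ℂ) z = (e : ℂ) * (θ : Z → ℂ) z)
    (Q : Subgroup H) [Fintype Q] (hZQ : Z ≤ Q) (ψ : IrrCharacter Q) (cψ : ℕ) (hc0 : cψ ≠ 0)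
    (hψ : (fun q : Q => (χ : H → ℂ) q) = (cψ : ℂ) • (ψ : Q → ℂ))
    (R : Subgroup H) [Fintype R] (hZR : Z ≤ R) (hRQ : R ≤ Q)
    (hQN : Q ≤ Subgroup.normalizer (R : Set H))
    (ρ : IrrCharacter R)
    (hρ : classInner (fun r : R => (χ : H → ℂ) r) (ρ : R → ℂ) ≠ 0) :
    ∃ f d D : ℕ, f ≠ 0 ∧ d ≠ 0 ∧ D ≠ 0 ∧ (ρ : R → ℂ) 1 = d ∧ (χ : H → ℂ) 1 = D ∧
      classInner (fun r : R => (ψ : Q → ℂ) ⟨r, hRQ r.2⟩) (ρ : R → ℂ) = f ∧
      R.index * d = cψ * f * D ∧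
      (stabH R (ρ : R → ℂ)).relIndex (Subgroup.normalizer (R : Set H)) * f ^ 2 ≤ R.relIndex Q ∧
      (Q ⊓ stabH R (ρ : R → ℂ)).relIndex Q
        ≤ (stabH R (ρ : R → ℂ)).relIndex (Subgroup.normalizer (R : Set H)) ∧
      classInner (fun z : Z => (ρ : R → ℂ) ⟨z, hZR z.2⟩) (θ : Z → ℂ) ≠ 0 := by
  classical
  have hχc := isCharacter_of_isIrrCharacter χ.2
  have hresc := isCharacter_restrict hχc R
  have hψc := isCharacter_of_isIrrCharacter ψ.2
  have hψR : IsCharacter R (fun r : R => (ψ : Q → ℂ) ⟨r, hRQ r.2⟩) :=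
    isCharacter_comp hψc (Subgroup.inclusion hRQ)
  obtain ⟨f, hf⟩ := exists_nat_classInner_of_isCharacter hψR ρ
  obtain ⟨d, hdpos, hd⟩ := exists_pos_nat_apply_one ρ.2
  obtain ⟨D, hDpos, hD⟩ := exists_pos_nat_apply_one χ.2
  -- χ_R = cψ ψ_R
  have hχR : (fun r : R => (χ : H → ℂ) r)
      = (cψ : ℂ) • (fun r : R => (ψ : Q → ℂ) ⟨r, hRQ r.2⟩) := by
    funext r
    have := congrFun hψ ⟨r, hRQ r.2⟩
    exact this
  have hcρ : classInner (fun r : R => (χ : H → ℂ) r) (ρ : R → ℂ) = ((cψ * f : ℕ) : ℂ) := by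
    rw [hχR, classInner_smul_left, hf]
    push_cast
    ring
  have hf0 : f ≠ 0 := by
    intro h0
    apply hρ
    rw [hcρ, h0, mul_zero, Nat.cast_zero]
  -- ρ lies above θ
  have hAZ : (fun z : Z => (fun r : R => (χ : H → ℂ) r) (Subgroup.inclusion hZR z))
      = (e : ℂ) • (θ : Z → ℂ) := restrict_eq Z χ θ e hχZ
  obtain ⟨b, hb0, hb⟩ := restrict_eq_smul_of_constituent (Subgroup.inclusion hZR)
    hresc ρ.2 hρ θ e hAZ
  have hover : classInner (fun z : Z => (ρ : R → ℂ) ⟨z, hZR z.2⟩) (θ : Z → ℂ) ≠ 0 := by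
    have : (fun z : Z => (ρ : R → ℂ) ⟨z, hZR z.2⟩) = (b : ℂ) • (θ : Z → ℂ) := hb
    rw [this, classInner_smul_left, irr_classInner_self θ.2, mul_one]
    exact_mod_cast hb0
  -- F1 for ρ
  obtain ⟨c', hc'0, hc', -, hdeg⟩ := indFun_eq_smul Z χ θ e he hχZ R hZR ρ hover
  have hcc : c' = cψ * f := by
    have : (c' : ℂ) = ((cψ * f : ℕ) : ℂ) := by rw [← hc', hcρ]
    exact_mod_cast this
  have hdeg' : R.index * d = cψ * f * D := by
    rw [hd, hD, hcc] at hdeg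
    exact_mod_cast hdeg
  -- orbit inequality
  have horb := orbit_mul_le R χ ρ (cψ * f) d D hcρ hd hD
  have hcψ2 := sq_eq_index_of_restrict_eq_smul Z χ θ e he hχZ Q hZQ ψ cψ hc0 hψ
  have hRidx : R.index = R.relIndex Q * Q.index := (Subgroup.relIndex_mul_index hRQ).symm
  set ω := (stabH R (ρ : R → ℂ)).relIndex (Subgroup.normalizer (R : Set H)) with hω
  have hineq : ω * f ^ 2 ≤ R.relIndex Q := by
    -- ω (cψ f) d ≤ D, multiply by (cψ f): ω (cψ f)² d ≤ (cψ f) D = |H:R| d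
    have h1 : ω * (cψ * f * d) * (cψ * f) ≤ D * (cψ * f) := Nat.mul_le_mul_right _ horb
    have h2 : D * (cψ * f) = R.relIndex Q * cψ ^ 2 * d := by
      calc D * (cψ * f) = cψ * f * D := by ring
        _ = R.index * d := hdeg'.symm
        _ = R.relIndex Q * cψ ^ 2 * d := by rw [hRidx, hcψ2]
    have h3 : (ω * f ^ 2) * (cψ ^ 2 * d) ≤ (R.relIndex Q) * (cψ ^ 2 * d) := by
      calc (ω * f ^ 2) * (cψ ^ 2 * d) = ω * (cψ * f * d) * (cψ * f) := by ring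
        _ ≤ D * (cψ * f) := h1
        _ = R.relIndex Q * cψ ^ 2 * d := h2
        _ = (R.relIndex Q) * (cψ ^ 2 * d) := by ring
    have hpos : 0 < cψ ^ 2 * d := by positivity
    exact Nat.le_of_mul_le_mul_right h3 hpos
  have hT : (Q ⊓ stabH R (ρ : R → ℂ)).relIndex Q ≤ ω := by
    rw [inf_comm, Subgroup.inf_relIndex_right]
    apply Subgroup.relIndex_le_of_le_right hQN
    intro h0
    have : ω = 0 := h0
    -- the relative index in a finite group is nonzero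
    have hne : (stabH R (ρ : R → ℂ)).relIndex (Subgroup.normalizer (R : Set H)) ≠ 0 := by
      unfold Subgroup.relIndex
      exact Subgroup.index_ne_zero_of_finite
    exact hne h0
  exact ⟨f, d, D, hf0, hdpos.ne', hDpos.ne', hd, hD, hf, hdeg', hineq, hT, hover⟩

end stepC

end Cfsg.Agent.Lib.Helper8.FRam
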