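import Mathlib
import Cfsg.Agent.Lib.Helper8.FRam5
import Cfsg.Agent.Lib.Helper4.CyclicExt

/-!
# Fully ramified characters (S4564), part 6 (Step C, cyclic case): if all sections `T/R`,
`R ≤ T ≤ Q`, are cyclic then the stabilizer of a constituent `ρ` of `χ|_R` in `N_H(R)` has index
`|Q : R|`.
-/

set_option autoImplicit false
set_option linter.style.haveILetI false
set_option linter.unusedSectionVars false
set_option linter.unusedVariables false

namespace Cfsg.Agent.Lib.Helper8.FRam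

open Cfsg Cfsg.Agent.Lib.helper3.Irr Cfsg.Agent.Lib.helper3.IndFun
open scoped ComplexConjugate

section arithmetic

/-- The arithmetic core of Step C. -/
theorem stepC_arith (u v ω f c' : ℕ) (hf : f ≠ 0) (hv : v ≠ 0) (hu : u ≠ 0)
    (h1 : u * c' = f) (h5 : ω * f ^ 2 ≤ u * v) (h6 : v ≤ ω) : u = 1 ∧ ω = v := by
  have hc' : c' ≠ 0 := by
    intro h0
    rw [h0, mul_zero] at h1
    exact hf h1.symm
  -- v f² ≤ ω f² ≤ u v ⇒ f² ≤ u
  have h7 : v * f ^ 2 ≤ v * u := by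
    calc v * f ^ 2 ≤ ω * f ^ 2 := Nat.mul_le_mul_right _ h6
      _ ≤ u * v := h5
      _ = v * u := by ring
  have h8 : f ^ 2 ≤ u := Nat.le_of_mul_le_mul_left h7 (Nat.pos_of_ne_zero hv)
  -- f² = u c' f ≤ u ⇒ c' f ≤ 1
  have h9 : u * (c' * f) ≤ u * 1 := by
    calc u * (c' * f) = (u * c') * f := by ring
      _ = f ^ 2 := by rw [h1]; ring
      _ ≤ u := h8
      _ = u * 1 := by ring
  have h10 : c' * f ≤ 1 := Nat.le_of_mul_le_mul_left h9 (Nat.pos_of_ne_zero hu)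
  have hf1 : f = 1 := by
    have h11 : 1 ≤ c' := Nat.one_le_iff_ne_zero.mpr hc'
    have h12 : 1 ≤ f := Nat.one_le_iff_ne_zero.mpr hf
    nlinarith
  have hc1 : c' = 1 := by
    rw [hf1, mul_one] at h10
    have h11 : 1 ≤ c' := Nat.one_le_iff_ne_zero.mpr hc'
    omega
  have hu1 : u = 1 := by
    rw [hc1, hf1, mul_one] at h1
    exact h1
  refine ⟨hu1, ?_⟩
  rw [hf1, hu1] at h5
  omega

end arithmetic

section stepC

attribute [local instance] normAct

variable {H : Type*} [Group H] [Fintype H] (Z : Subgroup H) [Fintype Z]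
  (χ : IrrCharacter H) (θ : IrrCharacter Z) (e : ℕ)

/-- **Step C (cyclic case).** -/
theorem exists_stab_of_cyclic (he : e ^ 2 = Z.index)
    (hχZ : ∀ z : Z, (χ : H → ℂ) z = (e : ℂ) * (θ : Z → ℂ) z)
    (Q : Subgroup H) [Fintype Q] (hZQ : Z ≤ Q) (ψ : IrrCharacter Q) (cψ : ℕ) (hc0 : cψ ≠ 0)
    (hψ : (fun q : Q => (χ : H → ℂ) q) = (cψ : ℂ) • (ψ : Q → ℂ))
    (R : Subgroup H) [Fintype R] (hZR : Z ≤ R) (hRQ : R ≤ Q)
    (hQN : Q ≤ Subgroup.normalizer (R : Set H))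
    (hcyc : ∀ (T : Subgroup H) (hRT : R ≤ T) (hTQ : T ≤ Q) [(R.subgroupOf T).Normal],
      IsCyclic (↥T ⧸ R.subgroupOf T)) :
    ∃ M₀ : Subgroup H, M₀ ≤ Subgroup.normalizer (R : Set H) ∧ R ≤ M₀ ∧
      M₀.relIndex (Subgroup.normalizer (R : Set H)) = R.relIndex Q := by
  classical
  have hχc := isCharacter_of_isIrrCharacter χ.2
  have hresc := isCharacter_restrict hχc R
  -- a constituent of χ_R
  have hne0 : (fun r : R => (χ : H → ℂ) r) ≠ 0 := by
    intro h0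
    have := congrFun h0 1
    exact apply_one_ne_zero χ.2 this
  obtain ⟨ρ, hρ⟩ := exists_constituent hresc hne0
  obtain ⟨f, d, D, hf0, hd0, hD0, hd, hD, hf, hdeg, hineq, hTle, hover⟩ :=
    constituent_data Z χ θ e he hχZ Q hZQ ψ cψ hc0 hψ R hZR hRQ hQN ρ hρ
  have hρcf := isClassFunction_of_isCharacter (isCharacter_of_isIrrCharacter ρ.2)
  set M₀ := stabH R (ρ : R → ℂ) with hM₀
  set T := Q ⊓ M₀ with hT
  have hRT : R ≤ T := le_inf hRQ (le_stabH R _ hρcf)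
  have hTQ : T ≤ Q := inf_le_left
  haveI hnorm : (R.subgroupOf T).Normal :=
    (Subgroup.normal_subgroupOf_iff_le_normalizer hRT).mpr (hTQ.trans hQN)
  have hZT : Z ≤ T := hZR.trans hRT
  letI : Fintype T := Fintype.ofFinite T
  -- the extension of ρ to T
  let eR : ↥(R.subgroupOf T) ≃* ↥R := Subgroup.subgroupOfEquivOfLe hRT
  have hϑ : IsIrrCharacter ↥(R.subgroupOf T) (fun k => (ρ : R → ℂ) (eR k)) :=
    isIrrCharacter_comp_mulEquiv eR ρ.2
  have hinv : ∀ (g : T) (n : R.subgroupOf T),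
      (fun k => (ρ : R → ℂ) (eR k)) ⟨g * n * g⁻¹, hnorm.conj_mem (n : T) n.2 g⟩
        = (fun k => (ρ : R → ℂ) (eR k)) n := by
    intro g n
    have hgM : (g : H) ∈ M₀ := (inf_le_right : T ≤ M₀) g.2
    rw [hM₀, mem_stabH_iff] at hgM
    obtain ⟨hx, hfix⟩ := hgM
    have h1 := congrFun hfix (eR ⟨g * n * g⁻¹, hnorm.conj_mem (n : T) n.2 g⟩)
    rw [normAct_apply] at h1
    show (ρ : R → ℂ) (eR ⟨g * n * g⁻¹, hnorm.conj_mem (n : T) n.2 g⟩) = (ρ : R → ℂ) (eR n)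
    rw [← h1]
    have harg : ((⟨(g : H), hx⟩ : ↥(Subgroup.normalizer (R : Set H)))⁻¹ •
        eR ⟨g * n * g⁻¹, hnorm.conj_mem (n : T) n.2 g⟩ : ↥R) = eR n := by
      apply Subtype.ext
      show ((⟨(g : H), hx⟩ : ↥(Subgroup.normalizer (R : Set H)))⁻¹ :
          ↥(Subgroup.normalizer (R : Set H))).1 * ((g : H) * ((n : T) : H) * (g : H)⁻¹) *
          ((⟨(g : H), hx⟩ : ↥(Subgroup.normalizer (R : Set H)))⁻¹ :
          ↥(Subgroup.normalizer (R : Set H))).1⁻¹ = ((n : T) : H)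
      simp only [InvMemClass.coe_inv]
      group
    rw [harg]
  obtain ⟨ρhat, hρhat, hρhatR⟩ := Cfsg.Agent.Lib.Helper4.CyclicExt.exists_irr_extension
    (R.subgroupOf T) (hcyc T hRT hTQ) _ hϑ hinv
  have hρhatR' : ∀ r : R, ρhat ⟨r, hRT r.2⟩ = (ρ : R → ℂ) r := by
    intro r
    have := hρhatR ⟨⟨r, hRT r.2⟩, by rw [Subgroup.mem_subgroupOf]; exact r.2⟩
    rw [this]
    congr 1
  -- ρhat lies above θ
  have hoverT : classInner (fun z : Z => ρhat ⟨z, hZT z.2⟩) (θ : Z → ℂ) ≠ 0 := by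
    have : (fun z : Z => ρhat ⟨z, hZT z.2⟩) = fun z : Z => (ρ : R → ℂ) ⟨z, hZR z.2⟩ := by
      funext z
      exact hρhatR' ⟨z, hZR z.2⟩
    rw [this]
    exact hover
  obtain ⟨c'', hc''0, hc'', -, hdegT⟩ :=
    indFun_eq_smul Z χ θ e he hχZ T hZT ⟨ρhat, hρhat⟩ hoverT
  -- c'' = cψ c'
  have hψc := isCharacter_of_isIrrCharacter ψ.2
  have hψT : IsCharacter T (fun x : T => (ψ : Q → ℂ) ⟨x, hTQ x.2⟩) :=
    isCharacter_comp hψc (Subgroup.inclusion hTQ)
  obtain ⟨c', hc'⟩ := exists_nat_classInner_of_isCharacter hψT ⟨ρhat, hρhat⟩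
  have hχT : (fun x : T => (χ : H → ℂ) x)
      = (cψ : ℂ) • (fun x : T => (ψ : Q → ℂ) ⟨x, hTQ x.2⟩) := by
    funext x
    exact congrFun hψ ⟨x, hTQ x.2⟩
  have hcc : c'' = cψ * c' := by
    have : (c'' : ℂ) = ((cψ * c' : ℕ) : ℂ) := by
      rw [← hc'', hχT, classInner_smul_left, hc']
      push_cast
      ring
    exact_mod_cast this
  have hρhat1 : ρhat 1 = d := by
    have := hρhatR' 1
    rw [← hd, ← this]
    rfl
  have hdegT' : T.index * d = cψ * c' * D := by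
    have h1 : ((⟨ρhat, hρhat⟩ : IrrCharacter T) : T → ℂ) 1 = d := hρhat1
    rw [h1, hD, hcc] at hdegT
    exact_mod_cast hdegT
  -- arithmetic
  have hidx : R.index = R.relIndex T * T.index := (Subgroup.relIndex_mul_index hRT).symm
  have hrel : R.relIndex T * T.relIndex Q = R.relIndex Q :=
    Subgroup.relIndex_mul_relIndex R T Q hRT hTQ
  have hu0 : R.relIndex T ≠ 0 := by
    unfold Subgroup.relIndex
    exact Subgroup.index_ne_zero_of_finite
  have hv0 : T.relIndex Q ≠ 0 := by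
    unfold Subgroup.relIndex
    exact Subgroup.index_ne_zero_of_finite
  have h1 : R.relIndex T * c' = f := by
    have h2 : (R.relIndex T * c') * (cψ * D) = f * (cψ * D) := by
      calc (R.relIndex T * c') * (cψ * D) = R.relIndex T * (cψ * c' * D) := by ring
        _ = R.relIndex T * (T.index * d) := by rw [hdegT']
        _ = R.index * d := by rw [hidx]; ring
        _ = cψ * f * D := hdeg
        _ = f * (cψ * D) := by ring
    exact Nat.eq_of_mul_eq_mul_right (Nat.pos_of_ne_zero (mul_ne_zero hc0 hD0)) h2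
  rw [← hrel] at hineq
  obtain ⟨hu1, hω⟩ := stepC_arith (R.relIndex T) (T.relIndex Q) _ f c' hf0 hv0 hu0 h1 hineq hTle
  refine ⟨M₀, stabH_le R _, le_stabH R _ hρcf, ?_⟩
  rw [hω, ← hrel, hu1, one_mul]

end stepC

end Cfsg.Agent.Lib.Helper8.FRam
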