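import Mathlib
import Cfsg.Agent.Lib.Helper8.FRam6

/-!
# Fully ramified characters (S4564), part 7: the choice of `Q`, cyclicity of the sections, and
the existence of the stabilizer `M₀`.
-/

set_option autoImplicit false
set_option linter.style.haveILetI false
set_option linter.unusedSectionVars false
set_option linter.unusedVariables false

namespace Cfsg.Agent.Lib.Helper8.FRam

open Cfsg Cfsg.Agent.Lib.helper3.Irr Cfsg.Agent.Lib.helper3.IndFun
open scoped ComplexConjugate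

section sylow

variable {H : Type*} [Group H] [Finite H] (Z : Subgroup H) [Z.Normal] (p : ℕ) [Fact p.Prime]

/-- The preimage `Q` of a Sylow `p`-subgroup of `H ⧸ Z`. -/
theorem exists_sylow_preimage :
    ∃ (Q : Subgroup H) (j : ℕ), Z ≤ Q ∧ Z.relIndex Q = p ^ j ∧ ¬ p ∣ Q.index ∧
      ∀ x ∈ Q, x ^ (p ^ j) ∈ Z := by
  obtain ⟨S⟩ : Nonempty (Sylow p (H ⧸ Z)) := inferInstance
  obtain ⟨j, hj⟩ := IsPGroup.iff_card.mp S.2
  refine ⟨(S : Subgroup (H ⧸ Z)).comap (QuotientGroup.mk' Z), j, ?_, ?_, ?_, ?_⟩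
  · intro z hz
    rw [Subgroup.mem_comap]
    have : (QuotientGroup.mk' Z) z = 1 := (QuotientGroup.eq_one_iff z).mpr hz
    rw [this]
    exact Subgroup.one_mem _
  · have h1 : Z.relIndex ((S : Subgroup (H ⧸ Z)).comap (QuotientGroup.mk' Z))
        = ((QuotientGroup.mk' Z).ker).relIndex
          ((S : Subgroup (H ⧸ Z)).comap (QuotientGroup.mk' Z)) := by
      rw [QuotientGroup.ker_mk']
    have h2 : ((QuotientGroup.mk' Z).ker).relIndex
          ((S : Subgroup (H ⧸ Z)).comap (QuotientGroup.mk' Z))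
        = ((⊥ : Subgroup (H ⧸ Z)).comap (QuotientGroup.mk' Z)).relIndex
          ((S : Subgroup (H ⧸ Z)).comap (QuotientGroup.mk' Z)) := rfl
    rw [h1, h2, Subgroup.relIndex_comap, Subgroup.map_comap_eq_self_of_surjective
      (QuotientGroup.mk'_surjective Z), Subgroup.relIndex_bot_left, hj]
  · rw [Subgroup.index_comap_of_surjective _ (QuotientGroup.mk'_surjective Z)]
    exact S.not_dvd_index
  · intro x hx
    have hxS : (QuotientGroup.mk' Z) x ∈ (S : Subgroup (H ⧸ Z)) := hx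
    have h1 : (⟨(QuotientGroup.mk' Z) x, hxS⟩ : (S : Subgroup (H ⧸ Z))) ^ (p ^ j) = 1 := by
      rw [← hj]
      exact pow_card_eq_one'
    have h2 : ((QuotientGroup.mk' Z) x) ^ (p ^ j) = 1 := by
      have := congrArg Subtype.val h1
      simpa using this
    rw [← map_pow] at h2
    exact (QuotientGroup.eq_one_iff _).mp h2

end sylow

section cyclic

variable {H : Type*} [Group H] [Finite H] (K : Subgroup H) [K.Normal] (p : ℕ) [Fact p.Prime]

/-- A subgroup `T` all of whose elements have `p`-power order modulo `K` has cyclic image in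
`H ⧸ K` when the Sylow `p`-subgroups of `H ⧸ K` are cyclic. -/
theorem isCyclic_section (P : Sylow p (H ⧸ K)) (hcyc : IsCyclic P) (j : ℕ)
    (T R : Subgroup H) (hRT : R ≤ T) (hR : ∀ x ∈ T, x ∈ R ↔ x ∈ K)
    (hT : ∀ x ∈ T, x ^ (p ^ j) ∈ K) [hn : (R.subgroupOf T).Normal] :
    IsCyclic (↥T ⧸ R.subgroupOf T) := by
  let φ : ↥T →* H ⧸ K := (QuotientGroup.mk' K).comp T.subtype
  have hpg : IsPGroup p φ.range := by
    rintro ⟨y, x, rfl⟩
    refine ⟨j, ?_⟩
    apply Subtype.ext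
    show (φ x) ^ (p ^ j) = 1
    rw [← map_pow]
    show (QuotientGroup.mk' K) ((x ^ (p ^ j) : T) : H) = 1
    rw [QuotientGroup.mk'_apply, QuotientGroup.eq_one_iff]
    have := hT x x.2
    simpa using this
  obtain ⟨P', hP'⟩ := hpg.exists_le_sylow
  obtain ⟨g, hg⟩ := MulAction.exists_smul_eq (H ⧸ K) P P'
  haveI : IsCyclic (P' : Subgroup (H ⧸ K)) := by
    rw [← hg]
    haveI := hcyc
    exact isCyclic_of_surjective (P.equivSMul g) (P.equivSMul g).surjective
  let ψ : ↥T →* (P' : Subgroup (H ⧸ K)) := φ.codRestrict _ (fun x => hP' ⟨x, rfl⟩)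
  have hker : ∀ x : T, x ∈ R.subgroupOf T ↔ ψ x = 1 := by
    intro x
    rw [Subgroup.mem_subgroupOf, hR x x.2]
    constructor
    · intro hx
      apply Subtype.ext
      show (QuotientGroup.mk' K) (x : H) = 1
      rw [QuotientGroup.mk'_apply, QuotientGroup.eq_one_iff]
      exact hx
    · intro hx
      have := congrArg Subtype.val hx
      have h2 : (QuotientGroup.mk' K) (x : H) = 1 := this
      rw [QuotientGroup.mk'_apply, QuotientGroup.eq_one_iff] at h2
      exact h2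
  let f : ↥T ⧸ R.subgroupOf T →* (P' : Subgroup (H ⧸ K)) :=
    QuotientGroup.lift (R.subgroupOf T) ψ (fun x hx => (hker x).mp hx)
  apply isCyclic_of_injective f
  rw [injective_iff_map_eq_one]
  intro y hy
  obtain ⟨x, rfl⟩ := QuotientGroup.mk'_surjective _ y
  have : ψ x = 1 := hy
  exact (QuotientGroup.eq_one_iff x).mpr ((hker x).mpr this)

end cyclic

section main

variable {H : Type*} [Group H] [Finite H] (Z : Subgroup H) [Z.Normal]

/-- **Steps A–C**: the subgroups `Q` and `M₀` fed into the group-theoretic Steps D–E. -/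
theorem exists_stab (χ : IrrCharacter H) (θ : IrrCharacter ↥Z) (e : ℕ) (he : e ^ 2 = Z.index)
    (hχZ : ∀ z : ↥Z, (χ : H → ℂ) z = (e : ℂ) * (θ : ↥Z → ℂ) z)
    (K : Subgroup H) [K.Normal] (hZK : Z ≤ K) (p : ℕ) [Fact p.Prime]
    (P : Sylow p (H ⧸ K)) (hcyc : IsCyclic P) :
    ∃ (Q M₀ : Subgroup H), Z ≤ Q ∧ (∃ j : ℕ, Z.relIndex Q = p ^ j) ∧ ¬ p ∣ Q.index ∧
      M₀ ≤ Subgroup.normalizer ((Q ⊓ K : Subgroup H) : Set H) ∧ Q ⊓ K ≤ M₀ ∧
      M₀.relIndex (Subgroup.normalizer ((Q ⊓ K : Subgroup H) : Set H)) = (Q ⊓ K).relIndex Q := by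
  classical
  letI : Fintype H := Fintype.ofFinite H
  letI : Fintype Z := Fintype.ofFinite Z
  obtain ⟨Q, j, hZQ, hQj, hQidx, hQpow⟩ := exists_sylow_preimage Z p
  letI : Fintype Q := Fintype.ofFinite Q
  obtain ⟨ψ, cψ, hc0, hψ⟩ := restrict_sylow_eq_smul Z χ θ e he hχZ p Q hZQ ⟨j, hQj⟩ hQidx
  set R := Q ⊓ K with hR
  letI : Fintype R := Fintype.ofFinite R
  have hZR : Z ≤ R := le_inf hZQ hZK
  have hRQ : R ≤ Q := inf_le_left
  have hQN : Q ≤ Subgroup.normalizer (R : Set H) := by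
    intro q hq
    apply Subgroup.inf_normalizer_le_normalizer_inf
    refine ⟨Subgroup.le_normalizer hq, ?_⟩
    rw [Subgroup.normalizer_eq_top]
    exact Subgroup.mem_top q
  have hcyc' : ∀ (T : Subgroup H) (hRT : R ≤ T) (hTQ : T ≤ Q) [(R.subgroupOf T).Normal],
      IsCyclic (↥T ⧸ R.subgroupOf T) := by
    intro T hRT hTQ hn
    apply isCyclic_section K p P hcyc j T R hRT
    · intro x hx
      rw [hR, Subgroup.mem_inf]
      exact ⟨fun h => h.2, fun h => ⟨hTQ hx, h⟩⟩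
    · intro x hx
      exact hZK (hQpow x (hTQ hx))
  obtain ⟨M₀, h1, h2, h3⟩ := exists_stab_of_cyclic Z χ θ e he hχZ Q hZQ ψ cψ hc0 hψ R hZR hRQ
    hQN hcyc'
  exact ⟨Q, M₀, hZQ, ⟨j, hQj⟩, hQidx, h1, h2, h3⟩

end main

end Cfsg.Agent.Lib.Helper8.FRam
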