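import Mathlib
import Cfsg.Agent.Lib.Helper8.FRam5
import Cfsg.Agent.Lib.helper3.GoingDown2
import Cfsg.Agent.Lib.helper3.BlockOver
import Cfsg.Agent.Lib.helper3.Ito
import Cfsg.Agent.Lib.helper3.IndLin

/-!
# Fully ramified characters (S4563), Step 0: if `χ` is induced from `K ⊴ H` then `H/K` acts
freely on the irreducible constituents of `χ|_K`.
-/

set_option autoImplicit false
set_option linter.style.haveILetI false
set_option linter.unusedSectionVars false
set_option linter.unusedVariables false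

namespace Cfsg.Agent.Lib.Helper8.FRam

open Cfsg Cfsg.Agent.Lib.helper3.Irr Cfsg.Agent.Lib.helper3.IndFun
open scoped ComplexConjugate

section step0

variable {H : Type*} [Group H] [Fintype H] (Z : Subgroup H) [Fintype Z]
  (χ : IrrCharacter H) (θ : IrrCharacter Z) (e : ℕ)

/-- **Step 0.**  If `χ = φ^H` with `φ` a character of `K ⊴ H` (and `χ` is fully ramified over
`Z ≤ K`), then the stabilizer in `H` of every irreducible constituent of `χ|_K` is contained in
`K`. -/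
theorem stab_le_of_induced (he : e ^ 2 = Z.index)
    (hχZ : ∀ z : Z, (χ : H → ℂ) z = (e : ℂ) * (θ : Z → ℂ) z)
    (K : Subgroup H) [hK : K.Normal] [Fintype K] (hZK : Z ≤ K) (φ : K → ℂ)
    (hφ : IsCharacter K φ) (hind : indFun K φ = (χ : H → ℂ))
    (φ' : IrrCharacter K)
    (hφ' : classInner (fun k : K => (χ : H → ℂ) k) (φ' : K → ℂ) ≠ 0) (x : H)
    (hx : ∀ k : K, (φ' : K → ℂ) ⟨x * k * x⁻¹, hK.conj_mem k k.2 x⟩ = (φ' : K → ℂ) k) :
    x ∈ K := by
  classical
  have hχc := isCharacter_of_isIrrCharacter χ.2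
  have hcf := isClassFunction_of_isCharacter hχc
  have hresc := isCharacter_restrict hχc K
  -- φ ≠ 0
  have hφ0 : φ ≠ 0 := by
    intro h0
    rw [h0, indFun_zero] at hind
    have := congrFun hind 1
    exact apply_one_ne_zero χ.2 this.symm
  obtain ⟨φ₁, hφ₁⟩ := exists_constituent hφ hφ0
  obtain ⟨φ'', hφ'', hsplit⟩ := exists_add_of_constituent hφ φ₁.2 hφ₁
  have hφ₁c := isCharacter_of_isIrrCharacter φ₁.2
  have hA₁ := isCharacter_indFun K (φ₁ : K → ℂ) hφ₁c
  have hA₂ := isCharacter_indFun K φ'' hφ''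
  have hχsplit : (χ : H → ℂ) = indFun K (φ₁ : K → ℂ) + indFun K φ'' := by
    rw [← hind, hsplit, indFun_add]
  -- φ₁ is a constituent of χ_K
  have hA₁0 : indFun K (φ₁ : K → ℂ) ≠ 0 := by
    intro h0
    have := congrFun h0 1
    rw [indFun_apply_one] at this
    have hidx : (K.index : ℂ) ≠ 0 := by
      have : K.index ≠ 0 := Subgroup.index_ne_zero_of_finite
      exact_mod_cast this
    exact (mul_ne_zero hidx (apply_one_ne_zero φ₁.2)) this
  have hconst : classInner (fun k : K => (χ : H → ℂ) k) (φ₁ : K → ℂ) ≠ 0 := by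
    obtain ⟨n₁, hn₁⟩ := exists_nat_classInner_of_isCharacter_of_isCharacter hA₁ hA₁
    obtain ⟨n₂, hn₂⟩ := exists_nat_classInner_of_isCharacter_of_isCharacter hA₁ hA₂
    have hn₁0 : n₁ ≠ 0 := by
      intro h0
      rw [h0, Nat.cast_zero] at hn₁
      exact hA₁0 (eq_zero_of_classInner_self_eq_zero _ hn₁)
    have h1 : classInner (indFun K (φ₁ : K → ℂ)) (χ : H → ℂ) = ((n₁ + n₂ : ℕ) : ℂ) := by
      rw [hχsplit, classInner_add_right, hn₁, hn₂]
      push_cast
      rfl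
    rw [frobenius_reciprocity K (φ₁ : K → ℂ) (χ : H → ℂ) hcf] at h1
    intro h0
    have h2 : classInner (φ₁ : K → ℂ) (fun k : K => (χ : H → ℂ) k) = 0 := by
      rw [← classInner_conj_symm, h0, map_zero]
    rw [h2] at h1
    have : (n₁ + n₂ : ℕ) = 0 := by exact_mod_cast h1.symm
    omega
  -- F1 for φ₁
  have hAZ : (fun z : Z => (fun k : K => (χ : H → ℂ) k) (Subgroup.inclusion hZK z))
      = (e : ℂ) • (θ : Z → ℂ) := restrict_eq Z χ θ e hχZ
  obtain ⟨a, ha0, ha⟩ := restrict_eq_smul_of_constituent (Subgroup.inclusion hZK)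
    hresc φ₁.2 hconst θ e hAZ
  have hover : classInner (fun z : Z => (φ₁ : K → ℂ) ⟨z, hZK z.2⟩) (θ : Z → ℂ) ≠ 0 := by
    have : (fun z : Z => (φ₁ : K → ℂ) ⟨z, hZK z.2⟩) = (a : ℂ) • (θ : Z → ℂ) := ha
    rw [this, classInner_smul_left, irr_classInner_self θ.2, mul_one]
    exact_mod_cast ha0
  obtain ⟨c₁, hc₁0, hc₁, -, hdeg⟩ := indFun_eq_smul Z χ θ e he hχZ K hZK φ₁ hover
  -- degrees
  obtain ⟨d₁, hd₁pos, hd₁⟩ := exists_pos_nat_apply_one φ₁.2
  obtain ⟨d₂, hd₂⟩ := exists_nat_apply_one hφ''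
  have hχ1 : (χ : H → ℂ) 1 = ((K.index * (d₁ + d₂) : ℕ) : ℂ) := by
    rw [← hind, indFun_apply_one, hsplit, Pi.add_apply, hd₁, hd₂]
    push_cast
    ring
  have hidx0 : K.index ≠ 0 := Subgroup.index_ne_zero_of_finite
  have hc₁1 : c₁ = 1 ∧ d₂ = 0 := by
    rw [hd₁, hχ1] at hdeg
    have h1 : K.index * d₁ = c₁ * (K.index * (d₁ + d₂)) := by exact_mod_cast hdeg
    have h2 : K.index * d₁ = K.index * (c₁ * (d₁ + d₂)) := by rw [h1]; ring
    have h3 : d₁ = c₁ * (d₁ + d₂) := Nat.eq_of_mul_eq_mul_left (Nat.pos_of_ne_zero hidx0) h2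
    have hc1 : 1 ≤ c₁ := Nat.one_le_iff_ne_zero.mpr hc₁0
    constructor
    · by_contra hne
      have : 2 ≤ c₁ := by omega
      nlinarith
    · by_contra hne
      have : 1 ≤ d₂ := Nat.one_le_iff_ne_zero.mpr hne
      nlinarith
  obtain ⟨hc₁one, hd₂0⟩ := hc₁1
  -- Clifford
  obtain ⟨e', he'0, he', hcl, -, hall⟩ :=
    clifford_finset K (χ : H → ℂ) χ.2 (φ₁ : K → ℂ) φ₁.2 hconst
  have he'1 : e' = 1 := by
    have : (e' : ℂ) = (c₁ : ℂ) := by rw [← he', hc₁]
    have h : e' = c₁ := by exact_mod_cast this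
    rw [h, hc₁one]
  -- the orbit has |H : K| elements
  have horb : (Finset.univ.image (conjFun K (φ₁ : K → ℂ))).card = K.index := by
    have h1 := congrFun hcl 1
    rw [he'1, Nat.cast_one, one_smul, Finset.sum_apply] at h1
    have h2 : ∀ ψ ∈ Finset.univ.image (conjFun K (φ₁ : K → ℂ)), ψ 1 = (d₁ : ℂ) := by
      intro ψ hψ
      obtain ⟨g, -, rfl⟩ := Finset.mem_image.mp hψ
      have h0 : conjFun K (φ₁ : K → ℂ) g 1 = (φ₁ : K → ℂ) 1 := by
        unfold conjFun
        have harg : (⟨g * ((1 : K) : H) * g⁻¹, hK.conj_mem _ (1 : K).2 g⟩ : K) = 1 := by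
          apply Subtype.ext
          simp
        rw [harg]
      rw [h0, hd₁]
    rw [Finset.sum_congr rfl h2, Finset.sum_const, nsmul_eq_mul] at h1
    have h3 : (χ : H → ℂ) 1 = ((K.index * d₁ : ℕ) : ℂ) := by
      rw [hχ1, hd₂0, add_zero]
    have h4 : (χ : H → ℂ) ((1 : K) : H) = (χ : H → ℂ) 1 := rfl
    rw [h4, h3] at h1
    have h5 : K.index * d₁ = (Finset.univ.image (conjFun K (φ₁ : K → ℂ))).card * d₁ := by
      exact_mod_cast h1
    exact (Nat.eq_of_mul_eq_mul_right hd₁pos h5).symm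
  -- the inertia group of φ₁ is K
  have hstab := Cfsg.Agent.Lib.helper3.Block.card_image_conjFun_mul K (φ₁ : K → ℂ)
  rw [horb] at hstab
  have hcardI : Nat.card (inertia K (φ₁ : K → ℂ)) = Nat.card K := by
    have h1 : Nat.card {g : H // ∀ h : K, (φ₁ : K → ℂ) ⟨g * h * g⁻¹, hK.conj_mem h h.2 g⟩
        = (φ₁ : K → ℂ) h} = Nat.card (inertia K (φ₁ : K → ℂ)) := by
      apply Nat.card_congr
      exact Equiv.subtypeEquivRight (fun g => (mem_inertia_iff K _ g).symm)
    rw [h1] at hstab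
    have h2 : K.index * Nat.card K = Nat.card H := by
      rw [mul_comm]; exact Subgroup.card_mul_index K
    have h3 : K.index * Nat.card (inertia K (φ₁ : K → ℂ)) = K.index * Nat.card K := by
      rw [hstab, h2]
    exact Nat.eq_of_mul_eq_mul_left (Nat.pos_of_ne_zero hidx0) h3
  have hKI : K ≤ inertia K (φ₁ : K → ℂ) :=
    le_inertia K _ (isClassFunction_of_isCharacter hφ₁c)
  have hIK : inertia K (φ₁ : K → ℂ) = K := by
    symm
    apply Subgroup.eq_of_le_of_card_ge hKI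
    rw [hcardI]
  -- φ' is a conjugate of φ₁
  have hmem := hall (φ' : K → ℂ) φ'.2 hφ'
  obtain ⟨g, -, hg⟩ := Finset.mem_image.mp hmem
  have hfix : conjFun K (φ' : K → ℂ) x = (φ' : K → ℂ) := by
    funext k
    exact hx k
  rw [← hg, conjFun_mul] at hfix
  have h1 : conjFun K (φ₁ : K → ℂ) (g * x * g⁻¹) = (φ₁ : K → ℂ) := by
    have h0 : conjFun K (conjFun K (φ₁ : K → ℂ) (g * x)) g⁻¹
        = conjFun K (conjFun K (φ₁ : K → ℂ) g) g⁻¹ := by rw [hfix]
    rw [conjFun_mul, conjFun_mul, mul_inv_cancel, conjFun_one] at h0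
    exact h0
  have h2 : g * x * g⁻¹ ∈ K := by
    rw [← hIK]
    exact h1
  have h3 := hK.conj_mem _ h2 g⁻¹
  have h4 : g⁻¹ * (g * x * g⁻¹) * g⁻¹⁻¹ = x := by group
  rw [h4] at h3
  exact h3

end step0

end Cfsg.Agent.Lib.Helper8.FRam
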