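import Mathlib
import Cfsg.Agent.Lib.Helper8.FRam8

/-!
# Fully ramified characters (S4563), Step C′: when `χ` is induced from `K`, the stabilizer of a
constituent `ρ` of `χ|_R` (`R = Q ∩ K`) in `N_H(R)` has index `|Q : R|`.
-/

set_option autoImplicit false
set_option linter.style.haveILetI false
set_option linter.unusedSectionVars false
set_option linter.unusedVariables false

namespace Cfsg.Agent.Lib.Helper8.FRam

open Cfsg Cfsg.Agent.Lib.helper3.Irr Cfsg.Agent.Lib.helper3.IndFun
open scoped ComplexConjugate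

section free

/-- A weighted count over a finite set on which a group acts, with invariant weights and all
orbits of nonzero weight of the same size `u`, is divisible by `u`. -/
theorem dvd_sum_of_free {G α : Type*} [Group G] [MulAction G α] [Fintype α]
    (m : α → ℕ) (hm : ∀ (g : G) (a : α), m (g • a) = m a) (u : ℕ)
    (hfree : ∀ a, m a ≠ 0 → (MulAction.orbit G a).ncard = u) : u ∣ ∑ a, m a := by
  classical
  letI : Fintype (MulAction.orbitRel.Quotient G α) := Fintype.ofFinite _
  rw [← Finset.sum_fiberwise Finset.univ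
    (fun a => (Quotient.mk'' a : MulAction.orbitRel.Quotient G α)) m]
  apply Finset.dvd_sum
  intro ω _
  obtain ⟨a₀, rfl⟩ := Quotient.exists_rep ω
  have hmem : ∀ a, (Quotient.mk'' a : MulAction.orbitRel.Quotient G α) = Quotient.mk'' a₀ ↔
      a ∈ MulAction.orbit G a₀ := by
    intro a
    rw [Quotient.eq'']
    exact MulAction.orbitRel_apply
  have hconst : ∀ a ∈ Finset.univ.filter
      (fun a => (Quotient.mk'' a : MulAction.orbitRel.Quotient G α) = Quotient.mk'' a₀),
      m a = m a₀ := by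
    intro a ha
    rw [Finset.mem_filter] at ha
    obtain ⟨g, rfl⟩ := (hmem a).mp ha.2
    exact hm g a₀
  have hsum : ∑ a ∈ Finset.univ.filter
      (fun a => (Quotient.mk'' a : MulAction.orbitRel.Quotient G α) = Quotient.mk'' a₀), m a
      = (Finset.univ.filter
      (fun a => (Quotient.mk'' a : MulAction.orbitRel.Quotient G α) = Quotient.mk'' a₀)).card
        * m a₀ := by
    rw [Finset.sum_congr rfl hconst, Finset.sum_const, smul_eq_mul]
  show u ∣ ∑ a ∈ Finset.univ.filter
      (fun a => (Quotient.mk'' a : MulAction.orbitRel.Quotient G α) = Quotient.mk'' a₀), m a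
  rw [hsum]
  by_cases h0 : m a₀ = 0
  · rw [h0, mul_zero]
    exact dvd_zero u
  · have hcard : (Finset.univ.filter
        (fun a => (Quotient.mk'' a : MulAction.orbitRel.Quotient G α) = Quotient.mk'' a₀)).card
        = u := by
      rw [← hfree a₀ h0, ← Set.ncard_coe_finset]
      congr 1
      ext a
      simp only [Finset.coe_filter, Finset.mem_univ, true_and, Set.mem_ofPred_eq]
      exact hmem a
    rw [hcard]
    exact dvd_mul_right u _

end free

section irrAct

variable {H : Type*} [Group H] [Finite H] (K : Subgroup H) [hK : K.Normal]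

/-- The conjugation action of `H` on the irreducible characters of a normal subgroup `K`:
`(x • φ) k = φ (x⁻¹ k x)`. -/
@[reducible] noncomputable def irrAct : MulAction H (IrrCharacter K) where
  smul x φ := ⟨conjFun K (φ : K → ℂ) x⁻¹, isIrrCharacter_conjFun K φ.2 x⁻¹⟩
  one_smul φ := by
    apply Subtype.ext
    show conjFun K (φ : K → ℂ) (1 : H)⁻¹ = (φ : K → ℂ)
    rw [inv_one, conjFun_one]
  mul_smul x y φ := by
    apply Subtype.ext
    show conjFun K (φ : K → ℂ) (x * y)⁻¹ = conjFun K (conjFun K (φ : K → ℂ) y⁻¹) x⁻¹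
    rw [conjFun_mul, mul_inv_rev]

attribute [local instance] irrAct

theorem irrAct_coe (x : H) (φ : IrrCharacter K) :
    ((x • φ : IrrCharacter K) : K → ℂ) = conjFun K (φ : K → ℂ) x⁻¹ := rfl

end irrAct

section normAct2

attribute [local instance] normAct

variable {H : Type*} [Group H] [Fintype H] (R : Subgroup H) [Fintype R]

theorem classInner_normAct_normAct (n : ↥(Subgroup.normalizer (R : Set H))) (A B : ↥R → ℂ) :
    classInner (n • A) (n • B) = classInner A B := by
  rw [normAct_eq_comp, normAct_eq_comp]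
  exact classInner_comp_mulEquiv _ A B

end normAct2

section stepC'

attribute [local instance] normAct irrAct

variable {H : Type*} [Group H] [Fintype H] (Z : Subgroup H) [Fintype Z]
  (χ : IrrCharacter H) (θ : IrrCharacter Z) (e : ℕ)

/-- The arithmetic core of Step C′. -/
theorem stepC'_arith (p u v ω f c i : ℕ) (hp : p.Prime) (hf : f ≠ 0) (hv : v ≠ 0)
    (hu : u = p ^ i) (hc : ¬ p ∣ c) (hdvd : u ∣ c * f)
    (h5 : ω * f ^ 2 ≤ u * v) (h6 : v ≤ ω) : u = 1 ∧ ω = v := by
  have hcop : Nat.Coprime u c := by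
    rw [hu]
    apply Nat.Coprime.pow_left
    exact (Nat.Prime.coprime_iff_not_dvd hp).mpr hc
  have huf : u ∣ f := hcop.dvd_of_dvd_mul_left hdvd
  have hule : u ≤ f := Nat.le_of_dvd (Nat.pos_of_ne_zero hf) huf
  have hu0 : u ≠ 0 := by rw [hu]; exact (pow_pos hp.pos i).ne'
  have h7 : v * f ^ 2 ≤ v * u := by
    calc v * f ^ 2 ≤ ω * f ^ 2 := Nat.mul_le_mul_right _ h6
      _ ≤ u * v := h5
      _ = v * u := by ring
  have h8 : f ^ 2 ≤ u := Nat.le_of_mul_le_mul_left h7 (Nat.pos_of_ne_zero hv)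
  have hf1 : f = 1 := by
    have h12 : 1 ≤ f := Nat.one_le_iff_ne_zero.mpr hf
    nlinarith
  have hu1 : u = 1 := by
    rw [hf1] at hule h8
    have : 1 ≤ u := Nat.one_le_iff_ne_zero.mpr hu0
    omega
  refine ⟨hu1, ?_⟩
  rw [hf1, hu1] at h5
  omega

/-- **Step C′.** -/
theorem exists_stab_of_induced (he : e ^ 2 = Z.index)
    (hχZ : ∀ z : Z, (χ : H → ℂ) z = (e : ℂ) * (θ : Z → ℂ) z)
    (p : ℕ) [Fact p.Prime]
    (Q : Subgroup H) [Fintype Q] (hZQ : Z ≤ Q) (j : ℕ) (hQj : Z.relIndex Q = p ^ j)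
    (hQidx : ¬ p ∣ Q.index) (ψ : IrrCharacter Q) (cψ : ℕ) (hc0 : cψ ≠ 0)
    (hψ : (fun q : Q => (χ : H → ℂ) q) = (cψ : ℂ) • (ψ : Q → ℂ))
    (K : Subgroup H) [hK : K.Normal] [Fintype K] (hZK : Z ≤ K) (φ : K → ℂ)
    (hφ : IsCharacter K φ) (hind : indFun K φ = (χ : H → ℂ))
    (R : Subgroup H) [Fintype R] (hR : R = Q ⊓ K)
    (hQN : Q ≤ Subgroup.normalizer (R : Set H)) :
    ∃ M₀ : Subgroup H, M₀ ≤ Subgroup.normalizer (R : Set H) ∧ R ≤ M₀ ∧
      M₀.relIndex (Subgroup.normalizer (R : Set H)) = R.relIndex Q := by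
  classical
  have hZR : Z ≤ R := by rw [hR]; exact le_inf hZQ hZK
  have hRQ : R ≤ Q := by rw [hR]; exact inf_le_left
  have hRK : R ≤ K := by rw [hR]; exact inf_le_right
  have hχc := isCharacter_of_isIrrCharacter χ.2
  have hcf := isClassFunction_of_isCharacter hχc
  have hresc := isCharacter_restrict hχc R
  have hrescK := isCharacter_restrict hχc K
  have hne0 : (fun r : R => (χ : H → ℂ) r) ≠ 0 := by
    intro h0
    have := congrFun h0 1
    exact apply_one_ne_zero χ.2 this
  obtain ⟨ρ, hρ⟩ := exists_constituent hresc hne0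
  obtain ⟨f, d, D, hf0, hd0, hD0, hd, hD, hf, hdeg, hineq, hTle, hover⟩ :=
    constituent_data Z χ θ e he hχZ Q hZQ ψ cψ hc0 hψ R hZR hRQ hQN ρ hρ
  have hρcf := isClassFunction_of_isCharacter (isCharacter_of_isIrrCharacter ρ.2)
  set M₀ := stabH R (ρ : R → ℂ) with hM₀
  set T := Q ⊓ M₀ with hT
  have hRT : R ≤ T := le_inf hRQ (le_stabH R _ hρcf)
  have hTQ : T ≤ Q := inf_le_left
  have hTN : T ≤ Subgroup.normalizer (R : Set H) := hTQ.trans hQN
  -- the weights
  have hdata : ∀ φ' : IrrCharacter K, ∃ c m : ℕ,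
      classInner (fun k : K => (χ : H → ℂ) k) (φ' : K → ℂ) = c ∧
      classInner (fun r : R => (φ' : K → ℂ) ⟨r, hRK r.2⟩) (ρ : R → ℂ) = m := by
    intro φ'
    obtain ⟨c, hc⟩ := exists_nat_classInner_of_isCharacter hrescK φ'
    obtain ⟨m, hm⟩ := exists_nat_classInner_of_isCharacter
      (isCharacter_comp (isCharacter_of_isIrrCharacter φ'.2) (Subgroup.inclusion hRK)) ρ
    exact ⟨c, m, hc, hm⟩
  choose c m hc hm using hdata
  -- the sum of the weights is cψ f
  have hsum : ∑ φ' : IrrCharacter K, c φ' * m φ' = cψ * f := by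
    have hdec := isCharacter_eq_sum_classInner hrescK
    have hχR : (fun r : R => (χ : H → ℂ) r)
        = ∑ φ' : IrrCharacter K, (c φ' : ℂ) • (fun r : R => (φ' : K → ℂ) ⟨r, hRK r.2⟩) := by
      funext r
      have h1 := congrFun hdec ⟨r, hRK r.2⟩
      rw [Finset.sum_apply] at h1
      rw [Finset.sum_apply]
      have h1' : (χ : H → ℂ) r = ∑ φ' : IrrCharacter K,
          (classInner (fun h : K => (χ : H → ℂ) h) (φ' : K → ℂ) • (φ' : K → ℂ))
            ⟨r, hRK r.2⟩ := h1
      rw [h1']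
      apply Finset.sum_congr rfl
      intro φ' _
      rw [Pi.smul_apply, Pi.smul_apply, hc φ']
    have h2 : classInner (fun r : R => (χ : H → ℂ) r) (ρ : R → ℂ)
        = ((∑ φ' : IrrCharacter K, c φ' * m φ' : ℕ) : ℂ) := by
      rw [hχR, classInner_sum_left]
      push_cast
      apply Finset.sum_congr rfl
      intro φ' _
      rw [classInner_smul_left, hm φ']
    have hχR' : (fun r : R => (χ : H → ℂ) r)
        = (cψ : ℂ) • (fun r : R => (ψ : Q → ℂ) ⟨r, hRQ r.2⟩) := by
      funext r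
      exact congrFun hψ ⟨r, hRQ r.2⟩
    have h3 : classInner (fun r : R => (χ : H → ℂ) r) (ρ : R → ℂ) = ((cψ * f : ℕ) : ℂ) := by
      rw [hχR', classInner_smul_left, hf]
      push_cast
      ring
    rw [h2] at h3
    exact_mod_cast h3
  -- invariance of the weights under T
  have hinvc : ∀ (x : T) (φ' : IrrCharacter K), c ((x : H) • φ') = c φ' := by
    intro x φ'
    have h1 : (c ((x : H) • φ') : ℂ) = c φ' := by
      rw [← hc, ← hc, irrAct_coe]
      exact classInner_restrict_conjFun K (χ : H → ℂ) hcf (φ' : K → ℂ) _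
    exact_mod_cast h1
  have hinvm : ∀ (x : T) (φ' : IrrCharacter K), m ((x : H) • φ') = m φ' := by
    intro x φ'
    have hxM : (x : H) ∈ M₀ := (inf_le_right : T ≤ M₀) x.2
    rw [hM₀, mem_stabH_iff] at hxM
    obtain ⟨hxN, hfix⟩ := hxM
    have h0 : (fun r : R => (((x : H) • φ' : IrrCharacter K) : K → ℂ) ⟨r, hRK r.2⟩)
        = (⟨(x : H), hxN⟩ : ↥(Subgroup.normalizer (R : Set H))) •
          (fun r : R => (φ' : K → ℂ) ⟨r, hRK r.2⟩) := by
      funext r
      rw [irrAct_coe, normAct_apply]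
      unfold conjFun
      congr 1
    have h1 : (m ((x : H) • φ') : ℂ) = m φ' := by
      rw [← hm, ← hm, h0]
      conv_lhs => rw [← hfix]
      exact classInner_normAct_normAct R _ _ _
    exact_mod_cast h1
  -- the action of T is free on the support
  have hfree : ∀ φ' : IrrCharacter K, c φ' * m φ' ≠ 0 →
      (MulAction.orbit ↥T φ').ncard = R.relIndex T := by
    intro φ' hw
    have hcφ : c φ' ≠ 0 := fun h => hw (by rw [h, zero_mul])
    have hconst : classInner (fun k : K => (χ : H → ℂ) k) (φ' : K → ℂ) ≠ 0 := by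
      rw [hc]
      exact_mod_cast hcφ
    rw [← MulAction.index_stabilizer]
    unfold Subgroup.relIndex
    congr 1
    ext x
    rw [MulAction.mem_stabilizer_iff, Subgroup.mem_subgroupOf]
    constructor
    · intro hx
      have hx' : conjFun K (φ' : K → ℂ) (x : H)⁻¹ = (φ' : K → ℂ) := congrArg Subtype.val hx
      have hxK : (x : H)⁻¹ ∈ K := by
        apply stab_le_of_induced Z χ θ e he hχZ K hZK φ hφ hind φ' hconst
        intro k
        exact congrFun hx' k
      have hxK' : (x : H) ∈ K := by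
        have := K.inv_mem hxK
        simpa using this
      rw [hR]
      exact ⟨hTQ x.2, hxK'⟩
    · intro hx
      apply Subtype.ext
      show conjFun K (φ' : K → ℂ) (x : H)⁻¹ = (φ' : K → ℂ)
      have hxK : (x : H)⁻¹ ∈ K := K.inv_mem (hRK hx)
      have := le_inertia K (φ' : K → ℂ)
        (isClassFunction_of_isCharacter (isCharacter_of_isIrrCharacter φ'.2)) hxK
      exact this
  have hdvd : R.relIndex T ∣ cψ * f := by
    rw [← hsum]
    apply dvd_sum_of_free (G := ↥T) (fun φ' => c φ' * m φ')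
    · intro x φ'
      show c ((x : H) • φ') * m ((x : H) • φ') = c φ' * m φ'
      rw [hinvc, hinvm]
    · exact hfree
  -- arithmetic
  have hrel : R.relIndex T * T.relIndex Q = R.relIndex Q :=
    Subgroup.relIndex_mul_relIndex R T Q hRT hTQ
  have hv0 : T.relIndex Q ≠ 0 := by
    unfold Subgroup.relIndex
    exact Subgroup.index_ne_zero_of_finite
  have hpow : ∃ i : ℕ, R.relIndex T = p ^ i := by
    have h1 : R.relIndex T ∣ R.relIndex Q := ⟨_, hrel.symm⟩
    have h2 : R.relIndex Q ∣ Z.relIndex Q := Subgroup.relIndex_dvd_of_le_left Q hZR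
    rw [hQj] at h2
    obtain ⟨i, -, hi⟩ := (Nat.dvd_prime_pow (Fact.out : p.Prime)).mp (h1.trans h2)
    exact ⟨i, hi⟩
  obtain ⟨i, hi⟩ := hpow
  have hcψp : ¬ p ∣ cψ := by
    intro hdiv
    apply hQidx
    rw [← sq_eq_index_of_restrict_eq_smul Z χ θ e he hχZ Q hZQ ψ cψ hc0 hψ]
    exact dvd_pow hdiv two_ne_zero
  rw [← hrel] at hineq
  obtain ⟨hu1, hω⟩ := stepC'_arith p (R.relIndex T) (T.relIndex Q) _ f cψ i Fact.out hf0 hv0 hi
    hcψp hdvd hineq hTle
  refine ⟨M₀, stabH_le R _, le_stabH R _ hρcf, ?_⟩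
  rw [hω, ← hrel, hu1, one_mul]

end stepC'

end Cfsg.Agent.Lib.Helper8.FRam
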