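import Mathlib
import Cfsg.Agent.Lib.Helper8.FRam7
import Cfsg.Agent.Lib.Helper8.FRam9
import Cfsg.Agent.Lib.helper3.FRamDE

/-!
# Fully ramified characters (S4563), assembly: if `χ` is induced from `K ⊴ H`, then `H ⧸ K` has a
subgroup of index `|H/K|_p` for every prime `p`.
-/

set_option autoImplicit false
set_option linter.style.haveILetI false
set_option linter.unusedSectionVars false
set_option linter.unusedVariables false

namespace Cfsg.Agent.Lib.Helper8.FRam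

open Cfsg Cfsg.Agent.Lib.helper3.Irr Cfsg.Agent.Lib.helper3.IndFun
open scoped ComplexConjugate

section main

variable {H : Type*} [Group H] [Fintype H] (Z : Subgroup H) [Z.Normal]

theorem exists_index_of_induced (χ : IrrCharacter H) (θ : IrrCharacter ↥Z) (e : ℕ)
    (he : e ^ 2 = Z.index)
    (hχZ : ∀ z : ↥Z, (χ : H → ℂ) z = (e : ℂ) * (θ : ↥Z → ℂ) z)
    (K : Subgroup H) [K.Normal] [Fintype K] (hZK : Z ≤ K) (φ : ↥K → ℂ)
    (hφ : IsCharacter ↥K φ) (hind : indFun K φ = (χ : H → ℂ))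
    (p : ℕ) (hp : p.Prime) :
    ∃ M : Subgroup (H ⧸ K), M.index = p ^ (Nat.card (H ⧸ K)).factorization p := by
  classical
  haveI : Fact p.Prime := ⟨hp⟩
  letI : Fintype Z := Fintype.ofFinite Z
  obtain ⟨Q, j, hZQ, hQj, hQidx, hQpow⟩ := exists_sylow_preimage Z p
  letI : Fintype Q := Fintype.ofFinite Q
  obtain ⟨ψ, cψ, hc0, hψ⟩ := restrict_sylow_eq_smul Z χ θ e he hχZ p Q hZQ ⟨j, hQj⟩ hQidx
  set R := Q ⊓ K with hR
  letI : Fintype R := Fintype.ofFinite R
  have hQN : Q ≤ Subgroup.normalizer (R : Set H) := by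
    intro q hq
    apply Subgroup.inf_normalizer_le_normalizer_inf
    refine ⟨Subgroup.le_normalizer hq, ?_⟩
    rw [Subgroup.normalizer_eq_top]
    exact Subgroup.mem_top q
  obtain ⟨M₀, h1, h2, h3⟩ := exists_stab_of_induced Z χ θ e he hχZ p Q hZQ j hQj hQidx ψ cψ
    hc0 hψ K hZK φ hφ hind R hR hQN
  obtain ⟨P⟩ : Nonempty (Sylow p (H ⧸ K)) := inferInstance
  obtain ⟨M, hM⟩ := Cfsg.Agent.Lib.helper3.FRamDE.exists_complement_of_stab Z K hZK p P Q hZQ
    ⟨j, hQj⟩ hQidx M₀ h1 h2 h3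
  refine ⟨M, ?_⟩
  rw [hM.symm.index_eq_card, Sylow.card_eq_multiplicity]

end main

end Cfsg.Agent.Lib.Helper8.FRam
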