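import Mathlib
import Cfsg.Prelude.Def_Characters
import Cfsg.Agent.Lib.helper3.IndFun
import Cfsg.Agent.Lib.helper3.Irr8
import Cfsg.Agent.Lib.helper3.Irr9
import Cfsg.Agent.Lib.helper3.MackeyLin

/-!
# Feit's theorem on Zassenhaus groups: the final step, part 1 (generic character lemmas)

(author: helper8)
-/

set_option autoImplicit false
set_option linter.unusedVariables false
set_option linter.unusedSectionVars false
set_option linter.style.haveILetI false
set_option maxHeartbeats 1000000

namespace Cfsg.Agent.Lib.Helper8.FeitP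

open Cfsg Cfsg.Agent.Lib.helper3.IndFun Cfsg.Agent.Lib.helper3.Irr Cfsg.Agent.Lib.helper3.Lin
open scoped ComplexConjugate

variable {G : Type*} [Group G] [Fintype G]

/-- the degrees of distinct irreducible constituents of a character add up to at most its degree -/
theorem sum_degree_le {Ψ : G → ℂ} (hΨ : IsCharacter G Ψ) (Y : Finset (IrrCharacter G))
    (hY : ∀ y ∈ Y, classInner Ψ (y : G → ℂ) ≠ 0) (deg : IrrCharacter G → ℕ)
    (hdeg : ∀ y : IrrCharacter G, (y : G → ℂ) 1 = deg y) (D : ℕ) (hD : Ψ 1 = D) :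
    ∑ y ∈ Y, deg y ≤ D := by
  classical
  obtain ⟨m, hm⟩ := exists_decomposition_of_isCharacter hΨ
  have h1 : (D : ℂ) = ((∑ ψ : IrrCharacter G, m ψ * deg ψ : ℕ) : ℂ) := by
    rw [← hD, hm]
    simp only [Finset.sum_apply, Pi.smul_apply, smul_eq_mul, hdeg]
    push_cast
    rfl
  have h2 : D = ∑ ψ : IrrCharacter G, m ψ * deg ψ := by exact_mod_cast h1
  have h3 : ∀ y ∈ Y, 1 ≤ m y := by
    intro y hy
    have h4 := hY y hy
    rw [hm, classInner_decomposition_left] at h4
    by_contra hcon
    have h5 : m y = 0 := by omega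
    apply h4
    rw [h5]
    simp
  rw [h2]
  calc ∑ y ∈ Y, deg y ≤ ∑ y ∈ Y, m y * deg y :=
        Finset.sum_le_sum (fun y hy => Nat.le_mul_of_pos_left _ (h3 y hy))
    _ ≤ ∑ ψ : IrrCharacter G, m ψ * deg ψ :=
        Finset.sum_le_sum_of_subset (Finset.subset_univ Y)

/-- Frobenius reciprocity for `χ χ̄` against a function induced from `N` that is `1` on `H`, when
`χ` restricted to `N` has norm one and vanishes off `H` -/
theorem classInner_indFun_mul_conj (N : Subgroup G) [Fintype N] (H : Subgroup G) (χ : G → ℂ)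
    (hχ : IsCharacter G χ) (hvan : ∀ n : N, (n : G) ∉ H → χ n = 0)
    (hnorm : classInner (fun n : N => χ n) (fun n : N => χ n) = 1)
    (μ : N → ℂ) (hμH : ∀ n : N, (n : G) ∈ H → μ n = 1) :
    classInner (indFun N μ) (χ * fun g => conj (χ g)) = 1 := by
  have hcf : IsClassFunction G (χ * fun g => conj (χ g)) :=
    isClassFunction_of_isCharacter (isCharacter_mul hχ (isCharacter_conj hχ))
  rw [frobenius_reciprocity N μ _ hcf, classInner_apply]
  rw [classInner_apply] at hnorm
  rw [← hnorm]
  congr 1
  apply Finset.sum_congr rfl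
  intro n _
  by_cases hn : (n : G) ∈ H
  · rw [hμH n hn, one_mul]
    simp only [Pi.mul_apply, map_mul, Complex.conj_conj]
    ring
  · simp only [Pi.mul_apply, hvan n hn, map_zero, mul_zero]

end Cfsg.Agent.Lib.Helper8.FeitP
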