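import Mathlib
import Cfsg.Prelude.Def_Characters
import Cfsg.Agent.Lib.Helper8.FeitP1

/-!
# Feit's theorem on Zassenhaus groups: the final step, part 2 (orthogonality of induced linear characters)

(author: helper8)
-/

set_option autoImplicit false
set_option linter.unusedVariables false
set_option linter.unusedSectionVars false
set_option linter.style.haveILetI false
set_option maxHeartbeats 1000000

namespace Cfsg.Agent.Lib.Helper8.FeitP

open Cfsg Cfsg.Agent.Lib.helper3.IndFun Cfsg.Agent.Lib.helper3.Irr Cfsg.Agent.Lib.helper3.Lin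
open Cfsg.Agent.Lib.helper3.MackeyLin
open scoped ComplexConjugate

variable {G : Type*} [Group G] [Fintype G]

/-- two-character version of `MackeyLin.sum_not_mem` -/
theorem sum_twisted_eq_zero (K : Subgroup G) [Fintype K] (μ ν : K → ℂ) (hμ : IsCharacter K μ)
    (h1 : μ 1 = 1) (hν : IsCharacter K ν) (h1' : ν 1 = 1) (x : G) (k₀ : K)
    (hk₀ : x⁻¹ * (k₀ : G) * x ∈ K)
    (hne : μ k₀ ≠ ν ⟨x⁻¹ * (k₀ : G) * x, hk₀⟩) :
    ∑ k : K, μ k * conj (extendByZero K ν (x⁻¹ * (k : G) * x)) = 0 := by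
  classical
  set c : ℂ := μ k₀ * conj (ν ⟨x⁻¹ * (k₀ : G) * x, hk₀⟩) with hc
  have hstep : ∀ k : K, μ (k₀ * k) * conj (extendByZero K ν (x⁻¹ * ((k₀ * k : K) : G) * x))
      = c * (μ k * conj (extendByZero K ν (x⁻¹ * (k : G) * x))) := by
    intro k
    rw [map_mul_of_apply_one_eq_one hμ h1]
    have hprod : x⁻¹ * ((k₀ * k : K) : G) * x = (x⁻¹ * (k₀ : G) * x) * (x⁻¹ * (k : G) * x) := by
      rw [Subgroup.coe_mul]
      group
    by_cases hk : x⁻¹ * (k : G) * x ∈ K
    · have hmem : x⁻¹ * ((k₀ * k : K) : G) * x ∈ K := by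
        rw [hprod]
        exact K.mul_mem hk₀ hk
      rw [extendByZero_mem K ν hmem, extendByZero_mem K ν hk]
      have h3 : (⟨x⁻¹ * ((k₀ * k : K) : G) * x, hmem⟩ : K)
          = (⟨x⁻¹ * (k₀ : G) * x, hk₀⟩ : K) * ⟨x⁻¹ * (k : G) * x, hk⟩ := by
        apply Subtype.ext
        exact hprod
      rw [h3, map_mul_of_apply_one_eq_one hν h1', map_mul, hc]
      ring
    · have hnmem : x⁻¹ * ((k₀ * k : K) : G) * x ∉ K := by
        rw [hprod]
        intro hcon
        apply hk
        have := K.mul_mem (K.inv_mem hk₀) hcon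
        rwa [inv_mul_cancel_left] at this
      rw [extendByZero_not_mem K ν hnmem, extendByZero_not_mem K ν hk]
      simp
  have hsum : ∑ k : K, μ k * conj (extendByZero K ν (x⁻¹ * (k : G) * x))
      = c * ∑ k : K, μ k * conj (extendByZero K ν (x⁻¹ * (k : G) * x)) := by
    rw [Finset.mul_sum]
    rw [← Fintype.sum_equiv (Equiv.mulLeft k₀)
      (fun k => μ (k₀ * k) * conj (extendByZero K ν (x⁻¹ * ((k₀ * k : K) : G) * x)))
      (fun k => μ k * conj (extendByZero K ν (x⁻¹ * (k : G) * x))) (fun k => rfl)]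
    exact Finset.sum_congr rfl (fun k _ => hstep k)
  have hc1 : c ≠ 1 := by
    intro hc1
    apply hne
    have h4 := mul_conj_eq_one_of_linear hν h1' (⟨x⁻¹ * (k₀ : G) * x, hk₀⟩ : K)
    have h5 : conj (ν ⟨x⁻¹ * (k₀ : G) * x, hk₀⟩) ≠ 0 := by
      intro h0
      rw [h0, mul_zero] at h4
      exact zero_ne_one h4
    apply mul_right_cancel₀ h5
    rw [h4, ← hc, hc1]
  have : (1 - c) * ∑ k : K, μ k * conj (extendByZero K ν (x⁻¹ * (k : G) * x)) = 0 := by
    rw [sub_mul, one_mul, ← hsum, sub_self]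
  rcases mul_eq_zero.1 this with h | h
  · exact absurd (sub_eq_zero.1 h).symm hc1
  · exact h

/-- two functions induced from linear characters are orthogonal when every twisted sum vanishes -/
theorem classInner_indFun_linear_eq_zero (K : Subgroup G) (μ ν : K → ℂ)
    (hμ : IsCharacter K μ) (h1 : μ 1 = 1) (hν : IsCharacter K ν) (h1' : ν 1 = 1)
    (hx : ∀ x : G, ∃ k₀ : K, ∃ hk₀ : x⁻¹ * (k₀ : G) * x ∈ K,
      μ k₀ ≠ ν ⟨x⁻¹ * (k₀ : G) * x, hk₀⟩) :
    classInner (indFun K μ) (indFun K ν) = 0 := by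
  classical
  letI : Fintype K := Fintype.ofFinite K
  rw [frobenius_reciprocity K μ _ (indFun_isClassFunction K ν), classInner_apply]
  have hexp : ∑ k : K, μ k * conj (indFun K ν k)
      = (Nat.card K : ℂ)⁻¹ * ∑ x : G, ∑ k : K, μ k * conj (extendByZero K ν (x⁻¹ * (k : G) * x)) := by
    rw [Finset.sum_comm, Finset.mul_sum]
    apply Finset.sum_congr rfl
    intro k _
    rw [indFun_apply, map_mul, map_inv₀, Complex.conj_natCast, map_sum, Finset.mul_sum,
      Finset.mul_sum, Finset.mul_sum]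
    apply Finset.sum_congr rfl
    intro x _
    ring
  have hT : ∀ x : G, ∑ k : K, μ k * conj (extendByZero K ν (x⁻¹ * (k : G) * x)) = 0 := by
    intro x
    obtain ⟨k₀, hk₀, hne⟩ := hx x
    exact sum_twisted_eq_zero K μ ν hμ h1 hν h1' x k₀ hk₀ hne
  rw [hexp, Finset.sum_congr rfl (fun x _ => hT x)]
  simp

end Cfsg.Agent.Lib.Helper8.FeitP
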