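import Mathlib
import Cfsg.Agent.Lib.Helper8.FeitP2
import Cfsg.Agent.S0878
import Cfsg.Agent.Lib.Helper5.Zassenhaus

/-!
# Feit's theorem on Zassenhaus groups: the final step, part 3 (the point stabiliser `G_a = H E`)

(author: helper8)
-/

set_option autoImplicit false
set_option linter.unusedVariables false
set_option linter.unusedSectionVars false
set_option linter.style.haveILetI false
set_option maxHeartbeats 1000000

namespace Cfsg.Agent.Lib.Helper8.FeitP

open MulAction

variable {G Ω : Type*} [Group G] [Finite G] [MulAction G Ω] [Fintype Ω]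

/-- the kernel `H` is regular on the points other than `a` -/
theorem kernel_regular {a b : Ω} (hab : a ≠ b) (H : Subgroup G) (hHa : H ≤ stabilizer G a)
    (hHcard : Nat.card H + 1 = Fintype.card Ω)
    (hHfix : ∀ u ∈ H, u ≠ 1 → ∀ c : Ω, u • c = c → c = a) :
    ∀ c : Ω, c ≠ a → ∃ u ∈ H, u • b = c := by
  classical
  letI : Fintype H := Fintype.ofFinite H
  let φ : Option H → Ω := fun o => match o with
    | none => a
    | some u => (u : G) • b
  have hφinj : Function.Injective φ := by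
    intro o1 o2 h12
    rcases o1 with _ | u <;> rcases o2 with _ | v
    · rfl
    · exfalso
      have h3 : (v : G) • b = a := h12.symm
      have h4 : (v : G) • a = a := mem_stabilizer_iff.1 (hHa v.2)
      have : (v : G) • b = (v : G) • a := by rw [h3, h4]
      exact hab (smul_left_cancel _ this).symm
    · exfalso
      have h3 : (u : G) • b = a := h12
      have h4 : (u : G) • a = a := mem_stabilizer_iff.1 (hHa u.2)
      have : (u : G) • b = (u : G) • a := by rw [h3, h4]
      exact hab (smul_left_cancel _ this).symm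
    · have h3 : (u : G) • b = (v : G) • b := h12
      have h4 : ((v : G)⁻¹ * (u : G)) • b = b := by
        rw [mul_smul, h3, inv_smul_smul]
      have h5 : (v : G)⁻¹ * (u : G) = 1 := by
        by_contra hne
        exact hab (hHfix _ (H.mul_mem (H.inv_mem v.2) u.2) hne b h4).symm
      have h6 : (u : G) = v := by
        have := congrArg (fun z => (v : G) * z) h5
        simpa using this
      rw [Subtype.ext h6]
  have hcard : Fintype.card (Option H) = Fintype.card Ω := by
    rw [Fintype.card_option, ← Nat.card_eq_fintype_card, hHcard]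
  have hφbij := (Fintype.bijective_iff_injective_and_card φ).2 ⟨hφinj, hcard⟩
  intro c hc
  obtain ⟨o, ho⟩ := hφbij.2 c
  rcases o with _ | u
  · exact absurd ho.symm hc
  · exact ⟨u, u.2, ho⟩

/-- `H ∩ E = 1` -/
theorem kernel_inf_two_point {a b : Ω} (hab : a ≠ b) (H : Subgroup G)
    (hHfix : ∀ u ∈ H, u ≠ 1 → ∀ c : Ω, u • c = c → c = a) {u : G} (hu : u ∈ H)
    (hub : u • b = b) : u = 1 := by
  by_contra hne
  exact hab (hHfix u hu hne b hub).symm

/-- `G_a = H E` -/
theorem exists_kernel_mul {a b : Ω} (hab : a ≠ b) (H : Subgroup G) (hHa : H ≤ stabilizer G a)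
    (hHcard : Nat.card H + 1 = Fintype.card Ω)
    (hHfix : ∀ u ∈ H, u ≠ 1 → ∀ c : Ω, u • c = c → c = a) (n : G) (hn : n • a = a) :
    ∃ u ∈ H, (u⁻¹ * n) • a = a ∧ (u⁻¹ * n) • b = b := by
  have hnb : n • b ≠ a := by
    intro h
    have : n • b = n • a := by rw [h, hn]
    exact hab (smul_left_cancel _ this).symm
  obtain ⟨u, hu, hub⟩ := kernel_regular hab H hHa hHcard hHfix _ hnb
  have hua : u • a = a := mem_stabilizer_iff.1 (hHa hu)
  refine ⟨u, hu, ?_, ?_⟩
  · rw [mul_smul, hn, inv_smul_eq_iff, hua]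
  · rw [mul_smul, inv_smul_eq_iff, hub]

/-- the kernel is normal in the point stabiliser -/
theorem kernel_normal (hZ : Cfsg.IsZassenhausGroup G Ω) (a : Ω) (H : Subgroup G)
    (hHa : H ≤ stabilizer G a) (hHcard : Nat.card H + 1 = Fintype.card Ω)
    (hHfix : ∀ u ∈ H, u ≠ 1 → ∀ c : Ω, u • c = c → c = a) :
    (H.subgroupOf (stabilizer G a)).Normal := by
  have h := (Cfsg.Agent.S0878.result hZ a H hHa hHcard hHfix).2
  rw [Subgroup.normal_subgroupOf_iff_le_normalizer hHa, h]

/-- for `x` outside the point stabiliser some `s x s'` with `s, s' ∈ G_a` interchanges `a` and `b` -/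
theorem exists_swap (hZ : Cfsg.IsZassenhausGroup G Ω) {a b : Ω} (hab : a ≠ b) (x : G)
    (hxa : x • a ≠ a) :
    ∃ s s' : G, s • a = a ∧ s' • a = a ∧ (s * x * s') • a = b ∧ (s * x * s') • b = a := by
  have h2 : ∀ {a b c d : Ω}, a ≠ b → c ≠ d → ∃ g : G, g • a = c ∧ g • b = d :=
    MulAction.is_two_pretransitive_iff.1 hZ.2.1
  obtain ⟨s, hsa, hsc⟩ := h2 (a := a) (b := x • a) (c := a) (d := b) (Ne.symm hxa) hab
  have hya : (s * x) • a = b := by rw [mul_smul, hsc]
  have hd : (s * x)⁻¹ • a ≠ a := by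
    intro h
    have : (s * x) • a = a := by
      conv_lhs => rw [← h]
      rw [smul_inv_smul]
    exact hab (this.symm.trans hya)
  obtain ⟨s', hs'a, hs'b⟩ := h2 (a := a) (b := b) (c := a) (d := (s * x)⁻¹ • a) hab (Ne.symm hd)
  refine ⟨s, s', hsa, hs'a, ?_, ?_⟩
  · rw [mul_smul, hs'a, hya]
  · rw [mul_smul, hs'b, smul_inv_smul]

/-- the quotient `G_a / H` is commutative of order `|E|` -/
theorem quotient_comm_card {a b : Ω} (hab : a ≠ b) (H : Subgroup G) (hHa : H ≤ stabilizer G a)
    (hHcard : Nat.card H + 1 = Fintype.card Ω)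
    (hHfix : ∀ u ∈ H, u ≠ 1 → ∀ c : Ω, u • c = c → c = a)
    [hn : (H.subgroupOf (stabilizer G a)).Normal]
    (hEcomm : ∀ x ∈ stabilizer G a ⊓ stabilizer G b, ∀ y ∈ stabilizer G a ⊓ stabilizer G b,
      x * y = y * x) :
    (∀ x y : ↥(stabilizer G a) ⧸ H.subgroupOf (stabilizer G a), x * y = y * x) ∧
      Nat.card (↥(stabilizer G a) ⧸ H.subgroupOf (stabilizer G a)) =
        Nat.card ↥(stabilizer G a ⊓ stabilizer G b) := by
  classical
  set N : Subgroup G := stabilizer G a with hN
  set E : Subgroup G := stabilizer G a ⊓ stabilizer G b with hE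
  have hEmem : ∀ g : G, g ∈ E ↔ g • a = a ∧ g • b = b := by
    intro g
    rw [hE, Subgroup.mem_inf, mem_stabilizer_iff, mem_stabilizer_iff]
  let φ : ↥E →* ↥N ⧸ H.subgroupOf N :=
    (QuotientGroup.mk' (H.subgroupOf N)).comp (Subgroup.inclusion (inf_le_left : E ≤ N))
  have hφinj : Function.Injective φ := by
    rw [injective_iff_map_eq_one]
    intro ε hε
    have h1 : (Subgroup.inclusion (inf_le_left : E ≤ N) ε) ∈ H.subgroupOf N := by
      rw [← QuotientGroup.eq_one_iff]
      exact hε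
    rw [Subgroup.mem_subgroupOf] at h1
    have h2 : (ε : G) ∈ H := h1
    exact Subtype.ext (kernel_inf_two_point hab H hHfix h2 ((hEmem _).1 ε.2).2)
  have hφsurj : Function.Surjective φ := by
    intro q
    obtain ⟨n, rfl⟩ := QuotientGroup.mk_surjective q
    obtain ⟨u, hu, hfa, hfb⟩ :=
      exists_kernel_mul hab H hHa hHcard hHfix (n : G) (mem_stabilizer_iff.1 n.2)
    refine ⟨⟨u⁻¹ * (n : G), (hEmem _).2 ⟨hfa, hfb⟩⟩, ?_⟩
    show ((Subgroup.inclusion (inf_le_left : E ≤ N) ⟨u⁻¹ * (n : G), _⟩ : ↥N) :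
      ↥N ⧸ H.subgroupOf N) = (n : ↥N ⧸ H.subgroupOf N)
    rw [QuotientGroup.eq_iff_div_mem, Subgroup.mem_subgroupOf]
    have : (((Subgroup.inclusion (inf_le_left : E ≤ N) ⟨u⁻¹ * (n : G), (hEmem _).2 ⟨hfa, hfb⟩⟩) / n : ↥N) : G)
        = u⁻¹ := by
      simp
    rw [this]
    exact H.inv_mem hu
  constructor
  · intro x y
    obtain ⟨x', rfl⟩ := hφsurj x
    obtain ⟨y', rfl⟩ := hφsurj y
    rw [← map_mul, ← map_mul]
    congr 1
    exact Subtype.ext (hEcomm x' x'.2 y' y'.2)
  · exact (Nat.card_eq_of_bijective φ ⟨hφinj, hφsurj⟩).symm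

end Cfsg.Agent.Lib.Helper8.FeitP
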