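import Mathlib
import Cfsg.Agent.Lib.Helper8.FeitP3
import Cfsg.Agent.Lib.Helper5.Zass3.SimpleOdd

/-!
# Feit's theorem on Zassenhaus groups: the final step, part 4 (the twisting elements for Mackey's formula)

(author: helper8)
-/

set_option autoImplicit false
set_option linter.unusedVariables false
set_option linter.unusedSectionVars false
set_option linter.style.haveILetI false
set_option maxHeartbeats 1000000

namespace Cfsg.Agent.Lib.Helper8.FeitP

open Cfsg MulAction Cfsg.Agent.Lib.helper3.IndFun Cfsg.Agent.Lib.helper3.Irr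
open Cfsg.Agent.Lib.helper3.Lin Cfsg.Agent.Lib.helper3.MackeyLin
open scoped ComplexConjugate

variable {G Ω : Type*} [Group G] [Fintype G] [MulAction G Ω] [Fintype Ω]

/-- a linear character takes conjugate values at inverse elements -/
theorem linear_inv {K : Type*} [Group K] [Finite K] {ν : K → ℂ} (hν : IsCharacter K ν)
    (h1 : ν 1 = 1) (k : K) : ν k⁻¹ = conj (ν k) := by
  have h2 : ν k * ν k⁻¹ = 1 := by
    rw [← map_mul_of_apply_one_eq_one hν h1, mul_inv_cancel, h1]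
  have h3 := mul_conj_eq_one_of_linear hν h1 k
  have h4 : ν k ≠ 0 := by
    intro h0
    rw [h0, zero_mul] at h2
    exact zero_ne_one h2
  apply mul_left_cancel₀ h4
  rw [h2, h3]

/-- the twisting elements: two linear characters of `G_a` that are trivial on the kernel `H`, are distinct and
not complex conjugate, are separated by every `x : G` -/
theorem exists_twist (hZ : Cfsg.IsZassenhausGroup G Ω) {a b : Ω} (hab : a ≠ b) [IsSimpleGroup G]
    (hodd : Odd (Nat.card ↥(stabilizer G a ⊓ stabilizer G b : Subgroup G)))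
    (H : Subgroup G) (hHa : H ≤ stabilizer G a) (hHcard : Nat.card H + 1 = Fintype.card Ω)
    (hHfix : ∀ u ∈ H, u ≠ 1 → ∀ c : Ω, u • c = c → c = a)
    (μ ν : stabilizer G a → ℂ) (hμ : IsCharacter (stabilizer G a) μ) (hμ1 : μ 1 = 1)
    (hν : IsCharacter (stabilizer G a) ν) (hν1 : ν 1 = 1)
    (hμH : ∀ n : stabilizer G a, (n : G) ∈ H → μ n = 1)
    (hνH : ∀ n : stabilizer G a, (n : G) ∈ H → ν n = 1)
    (hne : μ ≠ ν) (hne' : μ ≠ fun n => conj (ν n)) (x : G) :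
    ∃ k₀ : stabilizer G a, ∃ hk₀ : x⁻¹ * (k₀ : G) * x ∈ stabilizer G a,
      μ k₀ ≠ ν ⟨x⁻¹ * (k₀ : G) * x, hk₀⟩ := by
  classical
  have hfinG : Finite G := inferInstance
  have hNmem : ∀ g : G, g ∈ stabilizer G a ↔ g • a = a := fun g => mem_stabilizer_iff
  have hμcf := isClassFunction_of_isCharacter hμ
  have hνcf := isClassFunction_of_isCharacter hν
  have hμmul := map_mul_of_apply_one_eq_one hμ hμ1
  have hνmul := map_mul_of_apply_one_eq_one hν hν1
  by_cases hx : x ∈ stabilizer G a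
  · -- `x` in the stabiliser
    obtain ⟨k₀, hk₀⟩ : ∃ k₀ : ↥(stabilizer G a), μ k₀ ≠ ν k₀ := by
      by_contra hcon
      push Not at hcon
      exact hne (funext hcon)
    have hmem : x⁻¹ * (k₀ : G) * x ∈ stabilizer G a := (stabilizer G a).mul_mem ((stabilizer G a).mul_mem ((stabilizer G a).inv_mem hx) k₀.2) hx
    refine ⟨k₀, hmem, ?_⟩
    have h3 : (⟨x⁻¹ * (k₀ : G) * x, hmem⟩ : ↥(stabilizer G a)) = (⟨x, hx⟩ : ↥(stabilizer G a))⁻¹ * k₀ * (⟨x, hx⟩ : ↥(stabilizer G a))⁻¹⁻¹ := by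
      apply Subtype.ext
      simp
    rw [h3, hνcf k₀ (⟨x, hx⟩ : ↥(stabilizer G a))⁻¹]
    exact hk₀
  · -- `x` outside the stabiliser
    have hxa : x • a ≠ a := fun h => hx ((hNmem x).2 h)
    obtain ⟨s, s', hsa, hs'a, hta, htb⟩ := exists_swap hZ hab x hxa
    obtain ⟨_, hinv⟩ := Cfsg.Agent.Lib.Helper5.Zass3.simple_odd_inverts hZ hab hodd
    -- an element of `E` separating `μ` and `conj ν`
    obtain ⟨k, hk⟩ : ∃ k : ↥(stabilizer G a), μ k ≠ conj (ν k) := by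
      by_contra hcon
      push Not at hcon
      exact hne' (funext hcon)
    obtain ⟨u, hu, hfa, hfb⟩ :=
      exists_kernel_mul hab H hHa hHcard hHfix (k : G) ((hNmem _).1 k.2)
    have huN : u ∈ stabilizer G a := hHa hu
    have hεN : u⁻¹ * (k : G) ∈ stabilizer G a := (hNmem _).2 hfa
    obtain ⟨ε, hεdef⟩ : ∃ ε : ↥(stabilizer G a), ε = (⟨u, huN⟩ : ↥(stabilizer G a))⁻¹ * k := ⟨_, rfl⟩
    have hεval : (ε : G) = u⁻¹ * (k : G) := by rw [hεdef]; rfl
    have hkε : k = (⟨u, huN⟩ : ↥(stabilizer G a)) * ε := by rw [hεdef, mul_inv_cancel_left]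
    have hμε : μ ε = μ k := by rw [hkε, hμmul, hμH ⟨u, huN⟩ hu, one_mul]
    have hνε : ν ε = ν k := by rw [hkε, hνmul, hνH ⟨u, huN⟩ hu, one_mul]
    have hεE : (ε : G) ∈ stabilizer G a ⊓ stabilizer G b := by
      rw [hεval]
      exact ⟨mem_stabilizer_iff.2 hfa, mem_stabilizer_iff.2 hfb⟩
    set t : G := s * x * s' with ht
    have hinv1 := hinv t hta htb (ε : G)⁻¹ (Subgroup.inv_mem _ hεE)
    rw [inv_inv] at hinv1
    have hinv2 : t⁻¹ * (ε : G) * t = (ε : G)⁻¹ := by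
      calc t⁻¹ * (ε : G) * t = t⁻¹ * (t * (ε : G)⁻¹ * t⁻¹) * t := by rw [hinv1]
        _ = (ε : G)⁻¹ := by group
    have hsN : s ∈ stabilizer G a := (hNmem _).2 hsa
    have hs'N : s' ∈ stabilizer G a := (hNmem _).2 hs'a
    obtain ⟨k₀, hk₀⟩ : ∃ k₀ : ↥(stabilizer G a), k₀ = (⟨s, hsN⟩ : ↥(stabilizer G a))⁻¹ * ε * ⟨s, hsN⟩ := ⟨_, rfl⟩
    have hk₀val : (k₀ : G) = s⁻¹ * (ε : G) * s := by rw [hk₀]; rfl
    have hconj : x⁻¹ * (k₀ : G) * x = s' * (ε : G)⁻¹ * s'⁻¹ := by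
      rw [← hinv2, hk₀val, ht]
      group
    have hk₀mem : x⁻¹ * (k₀ : G) * x ∈ stabilizer G a := by
      rw [hconj]
      exact (stabilizer G a).mul_mem ((stabilizer G a).mul_mem hs'N ((stabilizer G a).inv_mem ε.2)) ((stabilizer G a).inv_mem hs'N)
    refine ⟨k₀, hk₀mem, ?_⟩
    have hv1 : μ k₀ = μ ε := by
      have h := hμcf ε (⟨s, hsN⟩ : ↥(stabilizer G a))⁻¹
      rw [inv_inv] at h
      rw [hk₀]
      exact h
    have hv2 : ν ⟨x⁻¹ * (k₀ : G) * x, hk₀mem⟩ = ν ε⁻¹ := by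
      have h3 : (⟨x⁻¹ * (k₀ : G) * x, hk₀mem⟩ : ↥(stabilizer G a))
          = (⟨s', hs'N⟩ : ↥(stabilizer G a)) * ε⁻¹ * (⟨s', hs'N⟩ : ↥(stabilizer G a))⁻¹ := by
        apply Subtype.ext
        simp only [Subgroup.coe_mul, Subgroup.coe_inv]
        exact hconj
      rw [h3]
      exact hνcf ε⁻¹ ⟨s', hs'N⟩
    rw [hv1, hv2, linear_inv hν hν1 ε, hμε, hνε]
    exact hk

end Cfsg.Agent.Lib.Helper8.FeitP
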