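import Mathlib
import Cfsg.Agent.Lib.Helper8.FeitP4
import Cfsg.Agent.S0881
import Cfsg.Agent.Lib.helper3.GlFpf2
import Cfsg.Agent.Lib.helper3.Irr10
import Cfsg.Agent.Lib.helper3.Irr11

/-!
# Feit's theorem on Zassenhaus groups: the final step

Let `G` be a simple Zassenhaus group, `N = G_a = H E` with `|E| = e` odd.  If some character `χ` of `G` of
degree `e` restricts to `N` as an irreducible character vanishing off `H`, then `χ χ̄` contains the trivial
character and each of the `(e - 1) / 2` irreducible characters of degree `h + 1` induced from the non-trivial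
linear characters of `N / H`; hence `e ^ 2 ≥ 1 + (e - 1) (h + 1) / 2`, that is `h - 1 ≤ 2 e`.

(author: helper8)
-/

set_option autoImplicit false
set_option linter.unusedVariables false
set_option linter.unusedSectionVars false
set_option linter.style.haveILetI false
set_option maxHeartbeats 2000000

namespace Cfsg.Agent.Lib.Helper8.FeitP

open Cfsg MulAction Cfsg.Agent.Lib.helper3.IndFun Cfsg.Agent.Lib.helper3.Irr
open Cfsg.Agent.Lib.helper3.Lin Cfsg.Agent.Lib.helper3.MackeyLin
open scoped ComplexConjugate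

universe u

/-- a finite set all of whose elements are `a` or satisfy a predicate with at most one solution has at most
two elements -/
theorem card_le_two_of {α : Type*} [DecidableEq α] (s : Finset α) (a : α) (P : α → Prop)
    [DecidablePred P] (h : ∀ x ∈ s, x = a ∨ P x) (hP : ∀ x y, P x → P y → x = y) : s.card ≤ 2 := by
  have h1 : s ⊆ insert a (s.filter P) := by
    intro x hx
    rcases h x hx with rfl | hPx
    · exact Finset.mem_insert_self _ _
    · exact Finset.mem_insert_of_mem (Finset.mem_filter.2 ⟨hx, hPx⟩)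
  have h2 : (s.filter P).card ≤ 1 := by
    rw [Finset.card_le_one]
    intro x hx y hy
    exact hP x y (Finset.mem_filter.1 hx).2 (Finset.mem_filter.1 hy).2
  calc s.card ≤ (insert a (s.filter P)).card := Finset.card_le_card h1
    _ ≤ (s.filter P).card + 1 := Finset.card_insert_le _ _
    _ ≤ 2 := by omega

/-- the non-trivial linear characters of `K` that are trivial on a normal subgroup `L` with commutative
quotient -/
theorem linear_family {K : Type u} [Group K] [Finite K] (L : Subgroup K) [L.Normal]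
    (hcomm : ∀ x y : K ⧸ L, x * y = y * x) :
    ∃ (ι : Type u) (_ : Fintype ι) (μ : ι → K → ℂ), Fintype.card ι = Nat.card (K ⧸ L) - 1 ∧
      Function.Injective μ ∧ ∀ i, IsCharacter K (μ i) ∧ μ i 1 = 1 ∧ (∀ n ∈ L, μ i n = 1) ∧
        μ i ≠ fun _ => 1 := by
  classical
  let triv : IrrCharacter (K ⧸ L) := ⟨fun _ => 1, isIrrCharacter_one⟩
  have hψone : ∀ ψ : IrrCharacter (K ⧸ L), (ψ : K ⧸ L → ℂ) 1 = 1 :=
    fun ψ => apply_one_eq_one_of_comm hcomm ψ.2
  have hinj : ∀ ψ φ : IrrCharacter (K ⧸ L),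
      (fun n : K => (ψ : K ⧸ L → ℂ) (QuotientGroup.mk' L n)) =
        (fun n : K => (φ : K ⧸ L → ℂ) (QuotientGroup.mk' L n)) → ψ = φ := by
    intro ψ φ hh
    apply Subtype.ext
    funext q
    obtain ⟨n, rfl⟩ := QuotientGroup.mk_surjective q
    exact congrFun hh n
  refine ⟨{ψ : IrrCharacter (K ⧸ L) // ψ ≠ triv}, inferInstance,
    fun ψ n => (ψ.1 : K ⧸ L → ℂ) (QuotientGroup.mk' L n), ?_, ?_, ?_⟩
  · have h1 : Fintype.card (IrrCharacter (K ⧸ L)) = Nat.card (K ⧸ L) := by
      rw [← Nat.card_eq_fintype_card, Cfsg.Agent.Lib.helper3.GlFpf.card_irr_of_comm hcomm]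
    rw [← h1]
    exact (Fintype.card_subtype_compl (fun ψ => ψ = triv)).trans (by
      rw [Fintype.card_subtype_eq])
  · intro ψ φ hh
    exact Subtype.ext (hinj ψ.1 φ.1 hh)
  · intro ψ
    refine ⟨isCharacter_comp (isCharacter_of_isIrrCharacter ψ.1.2) (QuotientGroup.mk' L), ?_, ?_, ?_⟩
    · show (ψ.1 : K ⧸ L → ℂ) (QuotientGroup.mk' L 1) = 1
      rw [map_one]
      exact hψone ψ.1
    · intro n hn
      have h1 : QuotientGroup.mk' L n = 1 := by
        rw [QuotientGroup.mk'_apply, QuotientGroup.eq_one_iff]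
        exact hn
      show (ψ.1 : K ⧸ L → ℂ) (QuotientGroup.mk' L n) = 1
      rw [h1]
      exact hψone ψ.1
    · intro hh
      apply ψ.2
      apply hinj
      exact hh

/-- **Feit's final step.** -/
theorem feit_punchline {G Ω : Type*} [Group G] [Fintype G] [MulAction G Ω] [Fintype Ω]
    (hZ : Cfsg.IsZassenhausGroup G Ω) {a b : Ω} (hab : a ≠ b) [IsSimpleGroup G]
    (hodd : Odd (Nat.card ↥(stabilizer G a ⊓ stabilizer G b : Subgroup G)))
    (hlt : Nat.card ↥(stabilizer G a ⊓ stabilizer G b : Subgroup G) < Fintype.card Ω - 2)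
    (H : Subgroup G) (hHa : H ≤ stabilizer G a) (hHcard : Nat.card H + 1 = Fintype.card Ω)
    (hHfix : ∀ u ∈ H, u ≠ 1 → ∀ c : Ω, u • c = c → c = a)
    [Fintype ↥(stabilizer G a)] (χ : G → ℂ) (hχ : IsCharacter G χ)
    (hχ1 : χ 1 = (Nat.card ↥(stabilizer G a ⊓ stabilizer G b : Subgroup G) : ℂ))
    (hvan : ∀ n : stabilizer G a, (n : G) ∉ H → χ n = 0)
    (hnorm : classInner (fun n : stabilizer G a => χ n) (fun n : stabilizer G a => χ n) = 1) :
    Fintype.card Ω - 2 ≤ 2 * Nat.card ↥(stabilizer G a ⊓ stabilizer G b : Subgroup G) := by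
  classical
  have hfinG : Finite G := inferInstance
  have h := Cfsg.Agent.Lib.Helper5.Zass.hyp_of_zassenhaus hZ
  set e := Nat.card ↥(stabilizer G a ⊓ stabilizer G b : Subgroup G) with he
  obtain ⟨hEcyc, hinv⟩ := Cfsg.Agent.Lib.Helper5.Zass3.simple_odd_inverts hZ hab hodd
  have hEcomm : ∀ x ∈ stabilizer G a ⊓ stabilizer G b, ∀ y ∈ stabilizer G a ⊓ stabilizer G b,
      x * y = y * x := by
    intro x hx y hy
    haveI := hEcyc
    have h1 := (IsCyclic.commGroup (α := ↥(stabilizer G a ⊓ stabilizer G b : Subgroup G))).mul_comm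
      ⟨x, hx⟩ ⟨y, hy⟩
    exact congrArg Subtype.val h1
  -- `e ≥ 2`
  have he2 : 2 ≤ e := by
    obtain ⟨g, hg1, hga, hgb⟩ := Cfsg.Agent.Lib.Helper5.Zass.exists_fix2 h a b hab
    have hgE : g ∈ stabilizer G a ⊓ stabilizer G b :=
      ⟨mem_stabilizer_iff.2 hga, mem_stabilizer_iff.2 hgb⟩
    by_contra hcon
    have hpos : 0 < e := Nat.card_pos
    have h1 : e = 1 := by omega
    have hsub : Subsingleton ↥(stabilizer G a ⊓ stabilizer G b : Subgroup G) :=
      (Nat.card_eq_one_iff_unique.1 h1).1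
    have := Subsingleton.elim (⟨g, hgE⟩ : ↥(stabilizer G a ⊓ stabilizer G b : Subgroup G)) 1
    exact hg1 (congrArg Subtype.val this)
  haveI hHn : (H.subgroupOf (stabilizer G a)).Normal := kernel_normal hZ a H hHa hHcard hHfix
  obtain ⟨hQcomm, hQcard⟩ := quotient_comm_card hab H hHa hHcard hHfix hEcomm
  obtain ⟨ι, instι, μ, hιcard, hμinj, hμ⟩ :=
    linear_family (K := ↥(stabilizer G a)) (H.subgroupOf (stabilizer G a)) hQcomm
  have hinfl_char : ∀ i, IsCharacter ↥(stabilizer G a) (μ i) := fun i => (hμ i).1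
  have hinfl_one : ∀ i, μ i 1 = 1 := fun i => (hμ i).2.1
  have hinfl_H : ∀ i, ∀ n : ↥(stabilizer G a), (n : G) ∈ H → μ i n = 1 := fun i n hn =>
    (hμ i).2.2.1 n (Subgroup.mem_subgroupOf.2 hn)
  have hMcard : Fintype.card ι = e - 1 := by rw [hιcard, hQcard]
  -- irreducibility of the induced characters
  have hirr : ∀ i, IsIrrCharacter G (indFun (stabilizer G a) (μ i)) := by
    intro i
    exact (Cfsg.Agent.S0881.result hZ hab hodd hlt H hHa hHcard hHfix (μ i)
      ⟨hinfl_char i, hinfl_one i⟩ (fun u hu => hinfl_H i u hu) (hμ i).2.2.2).1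
  let f : ι → IrrCharacter G := fun i => ⟨indFun (stabilizer G a) (μ i), hirr i⟩
  -- the product character
  obtain ⟨Ψ, hΨ⟩ : ∃ Ψ : G → ℂ, Ψ = χ * fun g => conj (χ g) := ⟨_, rfl⟩
  have hΨchar : IsCharacter G Ψ := by
    rw [hΨ]
    exact isCharacter_mul hχ (isCharacter_conj hχ)
  have hΨ1 : Ψ 1 = ((e * e : ℕ) : ℂ) := by
    rw [hΨ]
    simp only [Pi.mul_apply, hχ1, Complex.conj_natCast]
    push_cast
    rfl
  have hΨf : ∀ ψ, classInner Ψ (f ψ : G → ℂ) ≠ 0 := by
    intro ψ
    have h1 := classInner_indFun_mul_conj (stabilizer G a) H χ hχ hvan hnorm (μ ψ)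
      (hinfl_H ψ)
    have h2 : classInner Ψ (indFun (stabilizer G a) (μ ψ)) = 1 := by
      rw [hΨ, ← classInner_conj_symm, h1, map_one]
    show classInner Ψ (indFun (stabilizer G a) (μ ψ)) ≠ 0
    rw [h2]
    exact one_ne_zero
  let trivG : IrrCharacter G := ⟨fun _ => 1, isIrrCharacter_one⟩
  have hΨtriv : classInner Ψ (trivG : G → ℂ) ≠ 0 := by
    have h1 : classInner Ψ (fun _ => (1 : ℂ)) = classInner χ χ := by
      rw [classInner_apply, classInner_apply, hΨ]
      congr 1
      apply Finset.sum_congr rfl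
      intro g _
      simp
    show classInner Ψ (fun _ => (1 : ℂ)) ≠ 0
    rw [h1]
    intro h0
    have h2 := eq_zero_of_classInner_self_eq_zero χ h0
    have h3 : χ 1 = 0 := by rw [h2]; rfl
    rw [hχ1] at h3
    have h4 : e = 0 := by exact_mod_cast h3
    omega
  -- degrees
  have hdegex : ∀ y : IrrCharacter G, ∃ n : ℕ, 0 < n ∧ (y : G → ℂ) 1 = n :=
    fun y => exists_pos_nat_apply_one y.2
  choose deg hdegpos hdeg using hdegex
  have hidx : (stabilizer G a).index = Fintype.card Ω := by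
    haveI : IsMultiplyPretransitive G Ω 2 := hZ.2.1
    haveI : IsPretransitive G Ω := isPretransitive_of_is_two_pretransitive
    rw [index_stabilizer_of_transitive, Nat.card_eq_fintype_card]
  have hdeg_f : ∀ ψ, deg (f ψ) = Fintype.card Ω := by
    intro ψ
    have h1 : (f ψ : G → ℂ) 1 = ((stabilizer G a).index : ℂ) * μ ψ 1 :=
      indFun_apply_one (stabilizer G a) (μ ψ)
    rw [hinfl_one, mul_one, hdeg, hidx] at h1
    exact_mod_cast h1
  have hdeg_triv : deg trivG = 1 := by
    have h1 : (trivG : G → ℂ) 1 = 1 := rfl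
    rw [hdeg] at h1
    exact_mod_cast h1
  have hcard3 : 3 ≤ Fintype.card Ω := by omega
  have htriv_notin : trivG ∉ Finset.univ.image f := by
    intro hmem
    obtain ⟨ψ, -, hψ⟩ := Finset.mem_image.1 hmem
    have h1 := hdeg_f ψ
    rw [hψ, hdeg_triv] at h1
    omega
  have hsum := sum_degree_le hΨchar (insert trivG (Finset.univ.image f)) (by
    intro y hy
    rcases Finset.mem_insert.1 hy with rfl | hy
    · exact hΨtriv
    · obtain ⟨ψ, -, rfl⟩ := Finset.mem_image.1 hy
      exact hΨf ψ) deg hdeg (e * e) hΨ1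
  rw [Finset.sum_insert htriv_notin, hdeg_triv] at hsum
  have hsum2 : ∑ y ∈ Finset.univ.image f, deg y = (Finset.univ.image f).card * Fintype.card Ω := by
    apply Finset.sum_const_nat
    intro y hy
    obtain ⟨ψ, -, rfl⟩ := Finset.mem_image.1 hy
    exact hdeg_f ψ
  rw [hsum2] at hsum
  -- the fibres of `f` have at most two elements
  have hfiber : ∀ y ∈ Finset.univ.image f, (Finset.univ.filter (fun ψ => f ψ = y)).card ≤ 2 := by
    intro y hy
    obtain ⟨ψ₀, -, rfl⟩ := Finset.mem_image.1 hy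
    apply card_le_two_of _ ψ₀ (fun ψ => μ ψ₀ = fun n => conj (μ ψ n))
    · intro ψ hψ
      have hfeq : f ψ = f ψ₀ := (Finset.mem_filter.1 hψ).2
      by_contra hcon
      push Not at hcon
      obtain ⟨hne1, hne2⟩ := hcon
      have hne1' : μ ψ₀ ≠ μ ψ := by
        intro hh
        apply hne1
        exact (hμinj hh).symm
      have hzero := classInner_indFun_linear_eq_zero (stabilizer G a) (μ ψ₀) (μ ψ)
        (hinfl_char ψ₀) (hinfl_one ψ₀) (hinfl_char ψ) (hinfl_one ψ)
        (exists_twist hZ hab hodd H hHa hHcard hHfix (μ ψ₀) (μ ψ)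
          (hinfl_char ψ₀) (hinfl_one ψ₀) (hinfl_char ψ) (hinfl_one ψ)
          (hinfl_H ψ₀) (hinfl_H ψ) hne1' hne2)
      have hone : classInner (indFun (stabilizer G a) (μ ψ₀))
          (indFun (stabilizer G a) (μ ψ)) = 1 := by
        have h1 : (f ψ : G → ℂ) = (f ψ₀ : G → ℂ) := congrArg Subtype.val hfeq
        have h2 : indFun (stabilizer G a) (μ ψ) = indFun (stabilizer G a) (μ ψ₀) := h1
        rw [h2]
        exact irr_classInner_self (hirr ψ₀)
      rw [hzero] at hone
      exact zero_ne_one hone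
    · intro ψ ψ' h1 h2
      apply hμinj
      funext n
      have e1 := congrFun h1 n
      have e2 := congrFun h2 n
      have e3 : conj (μ ψ n) = conj (μ ψ' n) := e1.symm.trans e2
      exact (starRingEnd ℂ).injective e3
  have hcount : e - 1 ≤ 2 * (Finset.univ.image f).card := by
    have h1 := Finset.card_le_mul_card_image (Finset.univ : Finset ι) 2 hfiber
    rwa [Finset.card_univ, hMcard] at h1
  -- arithmetic
  set k := (Finset.univ.image f).card with hk
  set n := Fintype.card Ω with hn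
  by_contra hcon
  push Not at hcon
  have h1 : 2 * e + 3 ≤ n := by omega
  have h2 : (e - 1) * n ≤ 2 * k * n := Nat.mul_le_mul_right n hcount
  have h3 : (e - 1) * (2 * e + 3) ≤ (e - 1) * n := Nat.mul_le_mul_left (e - 1) h1
  obtain ⟨m, hm⟩ : ∃ m, e = m + 2 := ⟨e - 2, by omega⟩
  rw [hm] at h2 h3 hsum
  have h4 : m + 2 - 1 = m + 1 := by omega
  rw [h4] at h2 h3
  nlinarith

end Cfsg.Agent.Lib.Helper8.FeitP
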