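import Cfsg.Agent.Lib.Lead.PG.Pk
import Cfsg.Agent.Lib.Lead.PL.Pk

/-!
# The number of the fixed points of a permutation, from its code

A count that the kernel evaluates, for the codes with nine bits per point and for the codes with twelve bits per point;
the number of the fixed points of a permutation is invariant under conjugation and under inversion.
-/

set_option autoImplicit false

namespace Cfsg.Agent.Lib.Helper8.FixCnt

/-- the number of `p < k` with `f p` -/
def cnt (f : ℕ → Bool) (k : ℕ) : ℕ := Nat.rec 0 (fun p acc => cond (f p) (Nat.succ acc) acc) k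

theorem cnt_succ (f : ℕ → Bool) (k : ℕ) : cnt f (k + 1) = cond (f k) (Nat.succ (cnt f k)) (cnt f k) := rfl

theorem cnt_eq_card (f : ℕ → Bool) (k : ℕ) : cnt f k = ((Finset.range k).filter fun p => f p = true).card := by
  induction k with
  | zero => rfl
  | succ k ih =>
    rw [cnt_succ, Finset.range_add_one, Finset.filter_insert]
    cases hf : f k with
    | false => simp [ih]
    | true =>
      rw [if_pos rfl, Finset.card_insert_of_notMem (by simp), ih]
      rfl

/-- the number of the fixed points of a permutation of `Fin n`, as a count over the numbers below `n` -/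
theorem card_fixedPoints_eq_cnt {n : ℕ} (g : Equiv.Perm (Fin n)) (f : ℕ → ℕ)
    (hf : ∀ i : Fin n, f i = (g i : ℕ)) :
    Fintype.card (Function.fixedPoints g) = cnt (fun p => Nat.beq (f p) p) n := by
  classical
  rw [cnt_eq_card, Fintype.card_subtype]
  have h1 : ((Finset.range n).filter fun p => Nat.beq (f p) p = true) =
      ((Finset.univ : Finset (Fin n)).filter fun i => i ∈ Function.fixedPoints g).map Fin.valEmbedding := by
    ext p
    simp only [Finset.mem_filter, Finset.mem_range, Finset.mem_map, Finset.mem_univ, true_and,
      Fin.valEmbedding_apply, Function.mem_fixedPoints, Function.IsFixedPt]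
    constructor
    · rintro ⟨hp, h⟩
      refine ⟨⟨p, hp⟩, Fin.ext ?_, rfl⟩
      rw [← hf ⟨p, hp⟩]
      exact Nat.eq_of_beq_eq_true h
    · rintro ⟨i, hi, rfl⟩
      refine ⟨i.2, ?_⟩
      rw [hf i, hi]
      exact Nat.beq_refl _
  rw [h1, Finset.card_map]

/-- the number of the fixed points of the permutation with the code `c`, nine bits per point -/
def cntFixG (n c : ℕ) : ℕ := cnt (fun p => Nat.beq (Cfsg.Agent.PG.lk c p) p) n

/-- the number of the fixed points of the permutation with the code `c`, twelve bits per point -/
def cntFixL (n c : ℕ) : ℕ := cnt (fun p => Nat.beq (Cfsg.Agent.PL.lk c p) p) n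

/-- **the number of the fixed points of a permutation, from its code with nine bits per point** -/
theorem card_fixedPoints_pg {n : ℕ} (hn : n ≤ 512) (g : Equiv.Perm (Fin n)) :
    Fintype.card (Function.fixedPoints g) = cntFixG n (Cfsg.Agent.PG.enc n g) :=
  card_fixedPoints_eq_cnt g _ fun i => Cfsg.Agent.PG.lk_enc_fin hn g i

/-- **the number of the fixed points of a permutation, from its code with twelve bits per point** -/
theorem card_fixedPoints_pl {n : ℕ} (hn : n ≤ 4096) (g : Equiv.Perm (Fin n)) :
    Fintype.card (Function.fixedPoints g) = cntFixL n (Cfsg.Agent.PL.enc n g) :=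
  card_fixedPoints_eq_cnt g _ fun i => Cfsg.Agent.PL.lk_enc_fin hn g i

/-- **the number of the fixed points is invariant under conjugation** -/
theorem card_fixedPoints_conj {α : Type*} [Fintype α] [DecidableEq α] (q h : Equiv.Perm α) :
    Fintype.card (Function.fixedPoints (q * h * q⁻¹ : Equiv.Perm α)) = Fintype.card (Function.fixedPoints h) := by
  refine (Fintype.card_congr (Equiv.subtypeEquiv q fun a => ?_)).symm
  simp only [Function.mem_fixedPoints, Function.IsFixedPt, Equiv.Perm.mul_apply]
  rw [show (q⁻¹ : Equiv.Perm α) (q a) = a from by simp]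
  exact q.injective.eq_iff.symm

/-- **the number of the fixed points is invariant under inversion** -/
theorem card_fixedPoints_inv {α : Type*} [Fintype α] [DecidableEq α] (h : Equiv.Perm α) :
    Fintype.card (Function.fixedPoints (h⁻¹ : Equiv.Perm α)) = Fintype.card (Function.fixedPoints h) := by
  refine Fintype.card_congr (Equiv.subtypeEquiv (Equiv.refl _) fun a => ?_)
  simp only [Function.mem_fixedPoints, Function.IsFixedPt, Equiv.refl_apply]
  rw [Equiv.Perm.inv_eq_iff_eq]
  exact eq_comm

end Cfsg.Agent.Lib.Helper8.FixCnt
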