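import Mathlib
import Cfsg.Agent.S0144
import Cfsg.Agent.S0183
import Cfsg.Agent.S1230

/-!
# Groups with four automorphism orbits, part A (helper8)

A finite non-solvable group `G` on which `Aut(G)` has exactly four orbits: every non-identity
element has prime order, exactly three primes divide `|G|`, and `G ≅ PSL₂(F)` with `|F| = |T|`
for a Sylow `2`-subgroup `T` (via Burnside `p^a q^b`, the odd-order CN-theorem and
Brauer–Suzuki–Wall in characteristic `2`, all on main).
-/

set_option autoImplicit false

namespace Cfsg.Agent.Lib.Helper8.FourOrb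

variable {G : Type*} [Group G] [Finite G]

/-- Burnside: at most two prime divisors of the order ⇒ solvable. -/
theorem solvable_of_primeFactors_card_le_two {H : Type*} [Group H] [Finite H]
    (h : (Nat.card H).primeFactors.card ≤ 2) : Group.IsSolvable H := by
  have hn : Nat.card H ≠ 0 := Nat.card_pos.ne'
  have hprod := Nat.prod_factorization_pow_eq_self hn
  rw [Finsupp.prod, Nat.support_factorization] at hprod
  obtain h0 | h1 | h2 : (Nat.card H).primeFactors.card = 0 ∨ (Nat.card H).primeFactors.card = 1 ∨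
      (Nat.card H).primeFactors.card = 2 := by omega
  · rw [Finset.card_eq_zero.1 h0, Finset.prod_empty] at hprod
    exact Cfsg.Agent.S0144.result 2 3 0 0 Nat.prime_two Nat.prime_three (by simp [← hprod])
  · obtain ⟨p, hp⟩ := Finset.card_eq_one.1 h1
    have hpp : p.Prime := Nat.prime_of_mem_primeFactors (by rw [hp]; simp)
    rw [hp, Finset.prod_singleton] at hprod
    exact Cfsg.Agent.S0144.result p 2 ((Nat.card H).factorization p) 0 hpp Nat.prime_two
      (by rw [pow_zero, mul_one]; exact hprod.symm)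
  · obtain ⟨p, q, hpq, hs⟩ := Finset.card_eq_two.1 h2
    have hpp : p.Prime := Nat.prime_of_mem_primeFactors (by rw [hs]; simp)
    have hqp : q.Prime := Nat.prime_of_mem_primeFactors (by rw [hs]; simp)
    rw [hs, Finset.prod_pair hpq] at hprod
    exact Cfsg.Agent.S0144.result p q _ _ hpp hqp hprod.symm

/-- any finite set of element orders has at most four elements -/
theorem card_orders_le (h4 : Nat.card (MulAction.orbitRel.Quotient (MulAut G) G) = 4)
    (s : Finset ℕ) (hs : ∀ n ∈ s, ∃ g : G, orderOf g = n) : s.card ≤ 4 := by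
  classical
  choose! f hf using hs
  let φ : s → MulAction.orbitRel.Quotient (MulAut G) G := fun n => Quotient.mk'' (f n.1)
  have hinj : Function.Injective φ := by
    intro m n hmn
    have h1 : (MulAction.orbitRel (MulAut G) G) (f m.1) (f n.1) := Quotient.exact' hmn
    rw [MulAction.orbitRel_apply] at h1
    obtain ⟨ψ, hψ⟩ := h1
    have h2 : orderOf (f m.1) = orderOf (f n.1) := by
      rw [← hψ]
      exact MulEquiv.orderOf_eq ψ (f n.1)
    rw [hf m.1 m.2, hf n.1 n.2] at h2
    exact Subtype.ext h2
  have := Nat.card_le_card_of_injective φ hinj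
  rw [h4] at this
  simpa using this

theorem primeFactors_card_le_three
    (h4 : Nat.card (MulAction.orbitRel.Quotient (MulAut G) G) = 4) :
    (Nat.card G).primeFactors.card ≤ 3 := by
  classical
  have h := card_orders_le h4 (insert 1 (Nat.card G).primeFactors) (by
    intro n hn
    rcases Finset.mem_insert.1 hn with rfl | hn
    · exact ⟨1, orderOf_one⟩
    · have hp : n.Prime := Nat.prime_of_mem_primeFactors hn
      have : Fact n.Prime := ⟨hp⟩
      exact exists_prime_orderOf_dvd_card' n (Nat.dvd_of_mem_primeFactors hn))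
  rw [Finset.card_insert_of_notMem (fun h1 => Nat.not_prime_one (Nat.prime_of_mem_primeFactors h1))]
    at h
  omega

theorem prime_orderOf (h4 : Nat.card (MulAction.orbitRel.Quotient (MulAut G) G) = 4)
    (h3 : 3 ≤ (Nat.card G).primeFactors.card) (g : G) (hg : g ≠ 1) : (orderOf g).Prime := by
  classical
  by_contra hnp
  have hn1 : orderOf g ∉ insert 1 (Nat.card G).primeFactors := by
    intro h
    rcases Finset.mem_insert.1 h with h | h
    · exact hg (orderOf_eq_one_iff.1 h)
    · exact hnp (Nat.prime_of_mem_primeFactors h)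
  have h := card_orders_le h4 (insert (orderOf g) (insert 1 (Nat.card G).primeFactors)) (by
    intro n hn
    rcases Finset.mem_insert.1 hn with rfl | hn
    · exact ⟨g, rfl⟩
    rcases Finset.mem_insert.1 hn with rfl | hn
    · exact ⟨1, orderOf_one⟩
    · have hp : n.Prime := Nat.prime_of_mem_primeFactors hn
      have : Fact n.Prime := ⟨hp⟩
      exact exists_prime_orderOf_dvd_card' n (Nat.dvd_of_mem_primeFactors hn))
  rw [Finset.card_insert_of_notMem hn1,
    Finset.card_insert_of_notMem (fun h1 => Nat.not_prime_one (Nat.prime_of_mem_primeFactors h1))]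
    at h
  omega

omit [Finite G] in
/-- commuting non-identity elements have the same (prime) order -/
theorem orderOf_eq_of_commute (hP : ∀ g : G, g ≠ 1 → (orderOf g).Prime) {x c : G} (hx : x ≠ 1)
    (hc : c ≠ 1) (hcomm : Commute x c) : orderOf c = orderOf x := by
  by_contra hne
  have hpx := hP x hx
  have hpc := hP c hc
  have hcop : (orderOf x).Coprime (orderOf c) := (Nat.coprime_primes hpx hpc).2 (Ne.symm hne)
  have hmul := hcomm.orderOf_mul_eq_mul_orderOf_of_coprime hcop
  have hnp : ¬ (orderOf (x * c)).Prime := by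
    rw [hmul]
    exact Nat.not_prime_mul hpx.one_lt.ne' hpc.one_lt.ne'
  have h1 : x * c ≠ 1 := by
    intro h
    rw [h, orderOf_one] at hmul
    have := hpx.two_le
    have := hpc.two_le
    nlinarith
  exact hnp (hP _ h1)

theorem isCNGroup (hP : ∀ g : G, g ≠ 1 → (orderOf g).Prime) : Cfsg.IsCNGroup G := by
  intro g hg
  have hp := hP g hg
  have : Fact (orderOf g).Prime := ⟨hp⟩
  have hpg : IsPGroup (orderOf g) (Subgroup.centralizer ({g} : Set G)) := by
    rintro ⟨c, hc⟩
    by_cases hc1 : c = 1
    · exact ⟨0, by simp [hc1]⟩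
    · refine ⟨1, Subtype.ext ?_⟩
      have hcomm : Commute g c := (Subgroup.mem_centralizer_singleton_iff.1 hc).symm
      have := orderOf_eq_of_commute hP hg hc1 hcomm
      simp only [pow_one, Subgroup.coe_pow, Subgroup.coe_one]
      rw [← this]
      exact pow_orderOf_eq_one c
  exact hpg.isNilpotent

theorem even_card (hns : ¬ Group.IsSolvable G) (hP : ∀ g : G, g ≠ 1 → (orderOf g).Prime) :
    2 ∣ Nat.card G := by
  by_contra h
  exact hns (Cfsg.Agent.S0183.result (Nat.not_even_iff_odd.1 (fun he => h (even_iff_two_dvd.1 he)))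
    (isCNGroup hP))

/-- groups of odd order dividing `|G|` are solvable -/
theorem solvable_of_odd_of_dvd (h3 : (Nat.card G).primeFactors.card ≤ 3) (h2 : 2 ∣ Nat.card G)
    {H : Type*} [Group H] [Finite H] (hdvd : Nat.card H ∣ Nat.card G) (hodd : ¬ 2 ∣ Nat.card H) :
    Group.IsSolvable H := by
  classical
  apply solvable_of_primeFactors_card_le_two
  have hn : Nat.card G ≠ 0 := Nat.card_pos.ne'
  have hsub : (Nat.card H).primeFactors ⊆ (Nat.card G).primeFactors.erase 2 := by
    intro p hp
    rw [Finset.mem_erase]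
    refine ⟨?_, Nat.primeFactors_mono hdvd hn hp⟩
    rintro rfl
    exact hodd (Nat.dvd_of_mem_primeFactors hp)
  have h2m : 2 ∈ (Nat.card G).primeFactors := Nat.mem_primeFactors.2 ⟨Nat.prime_two, h2, hn⟩
  have := Finset.card_le_card hsub
  rw [Finset.card_erase_of_mem h2m] at this
  omega

theorem hC_of_prime (hP : ∀ g : G, g ≠ 1 → (orderOf g).Prime) (t : G) (ht : orderOf t = 2) :
    IsMulCommutative (Subgroup.centralizer ({t} : Set G)) ∧
      ∀ c ∈ Subgroup.centralizer ({t} : Set G), c ^ 2 = 1 := by
  have ht1 : t ≠ 1 := by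
    rintro rfl
    rw [orderOf_one] at ht
    omega
  have hsq : ∀ c ∈ Subgroup.centralizer ({t} : Set G), c ^ 2 = 1 := by
    intro c hc
    by_cases hc1 : c = 1
    · simp [hc1]
    · have hcomm : Commute t c := (Subgroup.mem_centralizer_singleton_iff.1 hc).symm
      have := orderOf_eq_of_commute hP ht1 hc1 hcomm
      rw [← ht, ← this]
      exact pow_orderOf_eq_one c
  refine ⟨⟨⟨?_⟩⟩, hsq⟩
  rintro ⟨a, ha⟩ ⟨b, hb⟩
  apply Subtype.ext
  show a * b = b * a
  have h1 := hsq a ha
  have h2 := hsq b hb
  have h3 := hsq (a * b) (Subgroup.mul_mem _ ha hb)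
  rw [pow_two] at h1 h2 h3
  have ha' : a⁻¹ = a := inv_eq_of_mul_eq_one_right h1
  have hb' : b⁻¹ = b := inv_eq_of_mul_eq_one_right h2
  have hab' : (a * b)⁻¹ = a * b := inv_eq_of_mul_eq_one_right h3
  rw [← hab', mul_inv_rev, ha', hb']

theorem not_isCyclic_sylow (hns : ¬ Group.IsSolvable G) (h3 : (Nat.card G).primeFactors.card ≤ 3)
    (h2 : 2 ∣ Nat.card G) (T : Sylow 2 G) : ¬ IsCyclic (T : Subgroup G) := by
  intro hT
  have hp : (Nat.card G).minFac = 2 := (Nat.minFac_eq_two_iff _).2 h2
  have hNC := hT.normalizer_le_centralizer hp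
  have : Fact (Nat.Prime 2) := ⟨Nat.prime_two⟩
  have hodd : ¬ 2 ∣ Nat.card (MonoidHom.transferSylow T hNC).ker :=
    MonoidHom.not_dvd_card_ker_transferSylow T hNC
  have hsN : Group.IsSolvable (MonoidHom.transferSylow T hNC).ker :=
    solvable_of_odd_of_dvd h3 h2 (Subgroup.card_subgroup_dvd_card _) hodd
  have hsT : Group.IsSolvable (T : Subgroup G) := by
    have : Group.IsNilpotent (T : Subgroup G) := T.isPGroup'.isNilpotent
    infer_instance
  apply hns
  haveI := hsN
  haveI := hsT
  exact Group.isSolvable_of_ker_le_range (MonoidHom.transferSylow T hNC).ker.subtype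
    (MonoidHom.transferSylow T hNC) (by simp)

theorem not_normal_sylow (hns : ¬ Group.IsSolvable G) (h3 : (Nat.card G).primeFactors.card ≤ 3)
    (h2 : 2 ∣ Nat.card G) (T : Sylow 2 G) : ¬ (T : Subgroup G).Normal := by
  intro hT
  have : Fact (Nat.Prime 2) := ⟨Nat.prime_two⟩
  have hsQ : Group.IsSolvable (G ⧸ (T : Subgroup G)) := by
    apply solvable_of_odd_of_dvd h3 h2
    · rw [← Subgroup.index_eq_card]; exact Subgroup.index_dvd_card _
    · rw [← Subgroup.index_eq_card]; exact T.not_dvd_index
  have hsT : Group.IsSolvable (T : Subgroup G) := by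
    have : Group.IsNilpotent (T : Subgroup G) := T.isPGroup'.isNilpotent
    infer_instance
  apply hns
  haveI := hsQ
  haveI := hsT
  exact Group.isSolvable_of_ker_le_range (T : Subgroup G).subtype (QuotientGroup.mk' (T : Subgroup G))
    (by simp)

/-- **Part A.** -/
theorem partA (hns : ¬ Group.IsSolvable G)
    (h4 : Nat.card (MulAction.orbitRel.Quotient (MulAut G) G) = 4) :
    (∀ g : G, g ≠ 1 → (orderOf g).Prime) ∧ (Nat.card G).primeFactors.card ≤ 3 ∧
    ∃ (F : Type) (_ : Field F) (_ : Fintype F) (a : ℕ), 2 ≤ a ∧ Fintype.card F = 2 ^ a ∧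
      Nonempty (G ≃* Matrix.ProjectiveSpecialLinearGroup (Fin 2) F) := by
  have h3 := primeFactors_card_le_three h4
  have h3' : 3 ≤ (Nat.card G).primeFactors.card := by
    by_contra h
    exact hns (solvable_of_primeFactors_card_le_two (by omega))
  have hP := prime_orderOf h4 h3'
  have h2 := even_card hns hP
  have : Fact (Nat.Prime 2) := ⟨Nat.prime_two⟩
  obtain ⟨T⟩ : Nonempty (Sylow 2 G) := inferInstance
  have hnc := not_isCyclic_sylow hns h3 h2 T
  have hnn := not_normal_sylow hns h3 h2 T
  obtain ⟨F, iF, iFt, hcF, he⟩ := Cfsg.Agent.S1230.result T hnc hnn (hC_of_prime hP)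
  refine ⟨hP, h3, F, iF, iFt, ?_⟩
  obtain ⟨a, ha⟩ := IsPGroup.iff_card.1 T.isPGroup'
  refine ⟨a, ?_, by rw [hcF]; exact ha, he⟩
  by_contra hlt
  apply hnc
  have ha1 : a = 0 ∨ a = 1 := by omega
  rcases ha1 with rfl | rfl
  · have : Subsingleton (T : Subgroup G) :=
      (Nat.card_eq_one_iff_unique.1 (by simpa using ha)).1
    exact isCyclic_of_subsingleton
  · exact isCyclic_of_prime_card (p := 2) (by simpa using ha)

end Cfsg.Agent.Lib.Helper8.FourOrb
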