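import Mathlib
import Cfsg.Agent.H2.SL2Char2
import Cfsg.Agent.S0242

/-!
# Groups with four automorphism orbits, part B (helper8)

`SL₂(F)`, `|F| = 2^a`, `a ≥ 2`: if every non-identity element has prime order and at most three
primes divide the order, then `|F| = 4`.
-/

set_option autoImplicit false

namespace Cfsg.Agent.Lib.Helper8.FourOrb

open Matrix Cfsg.Agent.H2.SL2Char2

variable {F : Type*} [Field F]

local notation "SL2" => Matrix.SpecialLinearGroup (Fin 2) F

/-- the four entries of an element of `SL₂` -/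
def Ent (m : SL2) (a b c d : F) : Prop := m 0 0 = a ∧ m 0 1 = b ∧ m 1 0 = c ∧ m 1 1 = d

theorem Ent.mul {m n : SL2} {a b c d a' b' c' d' : F} (h : Ent m a b c d)
    (h' : Ent n a' b' c' d') :
    Ent (m * n) (a * a' + b * c') (a * b' + b * d') (c * a' + d * c') (c * b' + d * d') := by
  obtain ⟨h1, h2, h3, h4⟩ := h
  obtain ⟨k1, k2, k3, k4⟩ := h'
  exact ⟨by rw [mul00, h1, h2, k1, k3], by rw [mul01, h1, h2, k2, k4],
    by rw [mul10, h3, h4, k1, k3], by rw [mul11, h3, h4, k2, k4]⟩

theorem Ent.congr {m : SL2} {a b c d a' b' c' d' : F} (h : Ent m a b c d) (ha : a = a')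
    (hb : b = b') (hc : c = c') (hd : d = d') : Ent m a' b' c' d' := by
  subst ha hb hc hd; exact h

theorem Ent.eq_one {m : SL2} (h : Ent m 1 0 0 1) : m = 1 :=
  ext2 (by rw [h.1, one00]) (by rw [h.2.1, one01]) (by rw [h.2.2.1, one10])
    (by rw [h.2.2.2, one11])

/-- the diagonal torus -/
def torus : Fˣ →* SL2 where
  toFun u := mk (u : F) 0 0 ((u⁻¹ : Fˣ) : F) (by simp)
  map_one' := by
    apply ext2 <;> simp [one00, one01, one10, one11]
  map_mul' u v := by
    apply ext2 <;> simp [mul00, mul01, mul10, mul11, mul_comm]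

theorem torus_injective : Function.Injective (torus (F := F)) := by
  intro u v h
  have := congrArg (fun m : SL2 => m 0 0) h
  exact Units.ext this

theorem exists_orderOf_eq_card_sub_one [Fintype F] :
    ∃ d : SL2, orderOf d = Fintype.card F - 1 := by
  classical
  obtain ⟨u, hu⟩ := IsCyclic.exists_generator (α := Fˣ)
  refine ⟨torus u, ?_⟩
  rw [orderOf_injective torus torus_injective u, orderOf_eq_card_of_forall_mem_zpowers hu,
    Nat.card_eq_fintype_card, Fintype.card_units]

theorem exists_orderOf_two (h2 : (2 : F) = 0) : ∃ w : SL2, orderOf w = 2 := by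
  have hdet : (1 : F) * 1 - 1 * 0 = 1 := by ring
  have hw : Ent (mk 1 1 0 1 hdet) 1 1 0 1 := ⟨rfl, rfl, rfl, rfl⟩
  have hw2 : Ent (mk 1 1 0 1 hdet * mk 1 1 0 1 hdet) 1 0 0 1 :=
    (hw.mul hw).congr (by ring) (by linear_combination h2) (by ring) (by ring)
  have : Fact (Nat.Prime 2) := ⟨Nat.prime_two⟩
  refine ⟨mk 1 1 0 1 hdet, orderOf_eq_prime (by rw [pow_two]; exact hw2.eq_one) ?_⟩
  intro h
  have h01 := hw.2.1
  rw [h, one01] at h01
  exact zero_ne_one h01

theorem exists_orderOf_three (h2 : (2 : F) = 0) : ∃ w : SL2, orderOf w = 3 := by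
  have hdet : (0 : F) * 1 - 1 * 1 = 1 := by linear_combination (-1) * h2
  have hw : Ent (mk 0 1 1 1 hdet) 0 1 1 1 := ⟨rfl, rfl, rfl, rfl⟩
  have hw2 : Ent (mk 0 1 1 1 hdet * mk 0 1 1 1 hdet) 1 1 1 0 :=
    (hw.mul hw).congr (by ring) (by ring) (by ring) (by linear_combination h2)
  have hw3 : Ent (mk 0 1 1 1 hdet * mk 0 1 1 1 hdet * mk 0 1 1 1 hdet) 1 0 0 1 :=
    (hw2.mul hw).congr (by ring) (by linear_combination h2) (by ring) (by ring)
  have : Fact (Nat.Prime 3) := ⟨Nat.prime_three⟩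
  refine ⟨mk 0 1 1 1 hdet, orderOf_eq_prime (by rw [pow_succ, pow_two]; exact hw3.eq_one) ?_⟩
  intro h
  have h00 := hw.1
  rw [h, one00] at h00
  exact one_ne_zero h00

theorem exists_orderOf_nine (h2 : (2 : F) = 0) (t : F) (ht : t ^ 3 + t + 1 = 0) :
    ∃ g : SL2, orderOf g = 9 := by
  have hdet : (0 : F) * t - 1 * 1 = 1 := by linear_combination (-1) * h2
  have hg : Ent (mk 0 1 1 t hdet) 0 1 1 t := ⟨rfl, rfl, rfl, rfl⟩
  set g := mk 0 1 1 t hdet with hgdef
  have h2' : Ent (g * g) 1 t t (t ^ 2 + 1) :=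
    (hg.mul hg).congr (by ring) (by ring) (by ring) (by ring)
  have h3' : Ent (g * g * g) t (t ^ 2 + 1) (t ^ 2 + 1) (t + 1) :=
    (h2'.mul hg).congr (by ring) (by ring) (by ring) (by linear_combination (1) * ht + (-1) * h2)
  have h6' : Ent (g * g * g * (g * g * g)) (t + 1) (t ^ 2 + 1) (t ^ 2 + 1) t :=
    (h3'.mul h3').congr (by linear_combination (t) * ht + (t ^ 2 - t) * h2)
      (by linear_combination (2) * ht + (-1) * h2)
      (by linear_combination (2) * ht + (-1) * h2)
      (by linear_combination (t) * ht + (t ^ 2 + 1) * h2)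
  have h9' : Ent (g * g * g * (g * g * g) * (g * g * g)) 1 0 0 1 :=
    (h6'.mul h3').congr (by linear_combination (t) * ht + (t ^ 2) * h2)
      (by linear_combination (2) * ht + (t ^ 2) * h2)
      (by linear_combination (2) * ht + (-1) * h2)
      (by linear_combination (t) * ht + (t ^ 2) * h2)
  have e3 : g ^ 3 = g * g * g := by rw [pow_succ, pow_two]
  have e9 : g ^ 9 = g * g * g * (g * g * g) * (g * g * g) := by
    rw [show 9 = 3 * 3 from rfl, pow_mul, e3, pow_succ, pow_two]
  have : Fact (Nat.Prime 3) := ⟨Nat.prime_three⟩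
  refine ⟨g, ?_⟩
  have := orderOf_eq_prime_pow (x := g) (p := 3) (n := 1) ?_ ?_
  · simpa using this
  · rw [pow_one, e3]
    intro h
    have h00 := h3'.1
    rw [h, one00] at h00
    -- t = 1 contradicts the cubic
    rw [← h00] at ht
    have : (1 : F) = 0 := by linear_combination ht - h2
    exact one_ne_zero this
  · rw [show 3 ^ (1 + 1) = 9 from rfl, e9]
    exact h9'.eq_one

end Cfsg.Agent.Lib.Helper8.FourOrb
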