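import Mathlib
import Cfsg.Agent.Lib.Helper8.FourOrbB

/-!
# Groups with four automorphism orbits, part C (helper8)

`SL₂(F)`, `|F| = 2^a`, `a ≥ 2`: if every non-identity element has prime order and at most three
primes divide the order, then `|F| = 4` (modulo two elementary facts passed as hypotheses).
-/

set_option autoImplicit false

namespace Cfsg.Agent.Lib.Helper8.FourOrb

open Matrix Cfsg.Agent.H2.SL2Char2

variable {F : Type*} [Field F] [Fintype F]

local notation "SL2" => Matrix.SpecialLinearGroup (Fin 2) F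

theorem card_sl2 (q : ℕ) (hq : 2 ≤ q) (hF : Fintype.card F = q) :
    Nat.card SL2 = (q + 1) * (q * (q - 1)) := by
  have h := Cfsg.Agent.S0242.result hF 2 (by norm_num)
  rw [Fin.prod_univ_two] at h
  simp only [Fin.val_zero, Fin.val_one, pow_zero, pow_one] at h
  obtain ⟨m, rfl⟩ : ∃ m, q = m + 2 := ⟨q - 2, by omega⟩
  have e1 : (m + 2) ^ 2 - 1 = (m + 1) * (m + 3) := by
    have : (m + 2) ^ 2 = (m + 1) * (m + 3) + 1 := by ring
    omega
  have e2 : (m + 2) ^ 2 - (m + 2) = (m + 2) * (m + 1) := by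
    have : (m + 2) ^ 2 = (m + 2) * (m + 1) + (m + 2) := by ring
    omega
  have e3 : m + 2 - 1 = m + 1 := by omega
  rw [e1, e2, e3] at h
  rw [e3]
  have hpos : 0 < m + 1 := by omega
  apply Nat.eq_of_mul_eq_mul_left hpos
  rw [h]
  ring

theorem card_eq_four (a : ℕ) (ha : 2 ≤ a) (hF : Fintype.card F = 2 ^ a)
    (hprime : ∀ g : SL2, g ≠ 1 → (orderOf g).Prime)
    (h3 : (Nat.card SL2).primeFactors.card ≤ 3)
    (harith : ∀ a b : ℕ, 2 ≤ a → 2 ^ a + 1 = 3 ^ b → a = 3)
    (hroot : Fintype.card F = 8 → ∃ t : F, t ^ 3 + t + 1 = 0) :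
    Fintype.card F = 4 := by
  classical
  have h2 : (2 : F) = 0 := by
    have h0 : ((Fintype.card F : ℕ) : F) = 0 := Nat.cast_card_eq_zero F
    rw [hF] at h0
    push_cast at h0
    exact (pow_eq_zero_iff (by omega)).1 h0
  have hq4 : 4 ≤ 2 ^ a := by
    calc 4 = 2 ^ 2 := by norm_num
      _ ≤ 2 ^ a := Nat.pow_le_pow_right (by norm_num) ha
  have hqeven : 2 ∣ 2 ^ a := dvd_pow_self 2 (by omega)
  have hcard := card_sl2 (F := F) (2 ^ a) (by omega) hF
  have hN0 : Nat.card SL2 ≠ 0 := by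
    rw [hcard]
    have : 0 < 2 ^ a - 1 := by omega
    positivity
  -- `q - 1` is prime
  obtain ⟨d, hd⟩ := exists_orderOf_eq_card_sub_one (F := F)
  rw [hF] at hd
  have hd1 : d ≠ 1 := by
    rintro rfl
    rw [orderOf_one] at hd
    omega
  have hpq : (2 ^ a - 1).Prime := hd ▸ hprime d hd1
  by_cases hq3 : 2 ^ a - 1 = 3
  · rw [hF]; omega
  exfalso
  obtain ⟨w, hw⟩ := exists_orderOf_three (F := F) h2
  have m2 : 2 ∈ (Nat.card SL2).primeFactors :=
    Nat.mem_primeFactors.2 ⟨Nat.prime_two, by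
      rw [hcard]; exact (hqeven.mul_right _).mul_left _, hN0⟩
  have m3 : 3 ∈ (Nat.card SL2).primeFactors :=
    Nat.mem_primeFactors.2 ⟨Nat.prime_three, hw ▸ orderOf_dvd_natCard w, hN0⟩
  have mq : 2 ^ a - 1 ∈ (Nat.card SL2).primeFactors :=
    Nat.mem_primeFactors.2 ⟨hpq, hd ▸ orderOf_dvd_natCard d, hN0⟩
  have hq2 : 2 ^ a - 1 ≠ 2 := by
    intro h
    obtain ⟨k, hk⟩ := hqeven
    omega
  have hsub : ({2, 3, 2 ^ a - 1} : Finset ℕ) ⊆ (Nat.card SL2).primeFactors := by
    intro x hx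
    simp only [Finset.mem_insert, Finset.mem_singleton] at hx
    rcases hx with rfl | rfl | rfl
    · exact m2
    · exact m3
    · exact mq
  have hc3 : ({2, 3, 2 ^ a - 1} : Finset ℕ).card = 3 := by
    rw [Finset.card_insert_of_notMem, Finset.card_insert_of_notMem, Finset.card_singleton]
    · simp only [Finset.mem_singleton]; exact fun h => hq3 h.symm
    · simp only [Finset.mem_insert, Finset.mem_singleton]
      rintro (h | h)
      · omega
      · exact hq2 h.symm
  have heq : ({2, 3, 2 ^ a - 1} : Finset ℕ) = (Nat.card SL2).primeFactors :=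
    Finset.eq_of_subset_of_card_le hsub (by rw [hc3]; exact h3)
  -- every prime divisor of `q + 1` is `3`
  have hall : ∀ {l : ℕ}, l.Prime → l ∣ 2 ^ a + 1 → l = 3 := by
    intro l hl hdvd
    have hmem : l ∈ (Nat.card SL2).primeFactors :=
      Nat.mem_primeFactors.2 ⟨hl, by rw [hcard]; exact hdvd.mul_right _, hN0⟩
    rw [← heq] at hmem
    simp only [Finset.mem_insert, Finset.mem_singleton] at hmem
    rcases hmem with rfl | rfl | rfl
    · exfalso
      obtain ⟨k, hk⟩ := hqeven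
      obtain ⟨k', hk'⟩ := hdvd
      omega
    · rfl
    · exfalso
      have h1 : 2 ^ a - 1 ∣ (2 ^ a + 1) - (2 ^ a - 1) := Nat.dvd_sub hdvd dvd_rfl
      have h2' : (2 ^ a + 1) - (2 ^ a - 1) = 2 := by omega
      rw [h2'] at h1
      have := Nat.le_of_dvd (by norm_num) h1
      omega
  have hpow := Nat.eq_prime_pow_of_unique_prime_dvd (n := 2 ^ a + 1) (p := 3) (by omega) hall
  have ha3 := harith a _ ha hpow
  subst ha3
  obtain ⟨t, ht⟩ := hroot (by rw [hF]; norm_num)
  obtain ⟨g, hg⟩ := exists_orderOf_nine (F := F) h2 t ht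
  have hg1 : g ≠ 1 := by
    rintro rfl
    rw [orderOf_one] at hg
    omega
  have := hprime g hg1
  rw [hg] at this
  exact absurd this (by norm_num)

end Cfsg.Agent.Lib.Helper8.FourOrb
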