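import Mathlib

/-!
# A root of `t³ + t + 1` in the field with eight elements (helper8)
-/

set_option autoImplicit false

namespace Cfsg.Agent.Lib.Helper8.FourOrb

theorem exists_cubic_root' {F : Type*} [Field F] [Fintype F] (hF : Fintype.card F = 8) :
    ∃ t : F, t ^ 3 + t + 1 = 0 := by
  classical
  have h2 : (2 : F) = 0 := by
    have h0 : ((Fintype.card F : ℕ) : F) = 0 := Nat.cast_card_eq_zero F
    rw [hF] at h0
    have h8 : (2 : F) ^ 3 = 0 := by
      have : ((8 : ℕ) : F) = (2 : F) ^ 3 := by norm_num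
      rw [← this]; exact h0
    exact (pow_eq_zero_iff (by norm_num)).1 h8
  -- an element different from `0` and `1`
  obtain ⟨u, hu0, hu1⟩ : ∃ u : F, u ≠ 0 ∧ u ≠ 1 := by
    have h3 : 2 < Fintype.card F := by rw [hF]; norm_num
    obtain ⟨x, y, z, hxy, hxz, hyz⟩ := Fintype.two_lt_card_iff.1 h3
    by_cases hx : x = 0 ∨ x = 1
    · by_cases hy : y = 0 ∨ y = 1
      · refine ⟨z, ?_, ?_⟩
        · rintro rfl
          rcases hx with rfl | rfl
          · exact hxz rfl
          · rcases hy with rfl | rfl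
            · exact hyz rfl
            · exact hxy rfl
        · rintro rfl
          rcases hx with rfl | rfl
          · rcases hy with rfl | rfl
            · exact hxy rfl
            · exact hyz rfl
          · exact hxz rfl
      · push Not at hy
        exact ⟨y, hy.1, hy.2⟩
    · push Not at hx
      exact ⟨x, hx.1, hx.2⟩
  have h7 : u ^ 7 = 1 := by
    have := FiniteField.pow_card_sub_one_eq_one u hu0
    rwa [hF] at this
  have hprod : (u + 1) * ((u ^ 3 + u + 1) * (u ^ 3 + u ^ 2 + 1)) = 0 := by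
    linear_combination h7 + (u ^ 6 + u ^ 5 + 2 * u ^ 4 + 2 * u ^ 3 + u ^ 2 + u + 1) * h2
  rcases mul_eq_zero.1 hprod with h | h
  · exfalso
    apply hu1
    linear_combination h - h2
  rcases mul_eq_zero.1 h with h | h
  · exact ⟨u, h⟩
  · refine ⟨u⁻¹, ?_⟩
    have hu3 : u ^ 3 ≠ 0 := pow_ne_zero 3 hu0
    apply mul_left_cancel₀ hu3
    rw [mul_zero]
    have e : u ^ 3 * (u⁻¹ ^ 3 + u⁻¹ + 1) = u ^ 3 + u ^ 2 + 1 := by
      field_simp
      ring
    rw [e]; exact h

end Cfsg.Agent.Lib.Helper8.FourOrb
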