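import Mathlib

/-!
# Sums of primitive roots of unity (helper8)

`sum_primitiveRoots`: in a domain containing a primitive `N`-th root of unity, the sum of the
primitive `d`-th roots of unity is `μ(d)` for every `d ∣ N`.
-/

set_option autoImplicit false

namespace Cfsg.Agent.Lib.Helper8.RootsOne

open Finset ArithmeticFunction Polynomial

variable {K : Type*} [CommRing K] [IsDomain K]

/-- the sum of all `n`-th roots of unity is `[n = 1]` -/
theorem sum_nthRootsFinset_one {n : ℕ} {ζ : K} (hζ : IsPrimitiveRoot ζ n) (hn : 0 < n) :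
    ∑ ξ ∈ nthRootsFinset n (1 : K), ξ = if n = 1 then 1 else 0 := by
  classical
  have h1 : nthRoots n (1 : K) = (Multiset.range n).map (ζ ^ · * 1) :=
    hζ.nthRoots_eq (one_pow n)
  have h2 : (nthRootsFinset n (1 : K)).val = nthRoots n (1 : K) := by
    unfold nthRootsFinset
    rw [Multiset.toFinset_val, Multiset.dedup_eq_self]
    exact hζ.nthRoots_one_nodup
  have h3 : ∑ ξ ∈ nthRootsFinset n (1 : K), ξ = ((nthRootsFinset n (1 : K)).val).sum := by
    show (Multiset.map (fun ξ => ξ) _).sum = _
    rw [Multiset.map_id']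
  rw [h3, h2, h1]
  have h4 : ((Multiset.range n).map (ζ ^ · * 1)).sum = ∑ i ∈ range n, ζ ^ i := by
    simp only [mul_one]
    rfl
  rw [h4]
  by_cases h : n = 1
  · subst h
    simp
  · rw [if_neg h]
    exact hζ.geom_sum_eq_zero (by omega)

/-- the sum of the primitive `d`-th roots of unity is `μ(d)`, for `d ∣ N`, in a domain with a
primitive `N`-th root of unity -/
theorem sum_primitiveRoots {N : ℕ} {ω : K} (hω : IsPrimitiveRoot ω N) (hN : 0 < N) {d : ℕ}
    (hd : d ∣ N) : ∑ ξ ∈ primitiveRoots d K, ξ = ((ArithmeticFunction.moebius d : ℤ) : K) := by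
  classical
  have hdpos : 0 < d := Nat.pos_of_dvd_of_pos hd hN
  have key := (sum_eq_iff_sum_mul_moebius_eq_on (R := K)
    (f := fun i => ∑ ξ ∈ primitiveRoots i K, ξ) (g := fun n => if n = 1 then 1 else 0)
    {n | n ∣ N} (fun m n hmn hn => dvd_trans hmn hn)).mp ?_ d hdpos hd
  · rw [← key]
    rw [Finset.sum_eq_single (d, 1)]
    · simp
    · rintro ⟨a, b⟩ hab hne
      have hb : b ≠ 1 := by
        rintro rfl
        rw [Nat.mem_divisorsAntidiagonal] at hab
        apply hne
        simp only [mul_one] at hab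
        rw [hab.1]
      simp [hb]
    · intro h
      exfalso
      apply h
      rw [Nat.mem_divisorsAntidiagonal]
      exact ⟨by simp, hdpos.ne'⟩
  · intro n hn hnN
    have hnN' : n ∣ N := hnN
    obtain ⟨e, he⟩ := hnN'
    have hζ : IsPrimitiveRoot (ω ^ e) n := by
      have := hω.pow (n := N) (a := e) (b := n) hN (by rw [he, mul_comm])
      exact this
    have h1 := sum_nthRootsFinset_one hζ hn
    rw [IsPrimitiveRoot.nthRoots_one_eq_biUnion_primitiveRoots, Finset.sum_biUnion] at h1
    · exact h1
    · intro a _ b _ hab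
      exact IsPrimitiveRoot.disjoint hab

end Cfsg.Agent.Lib.Helper8.RootsOne
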