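import Mathlib
import Cfsg.Agent.Lib.Helper8.RootsOneA

/-!
# Trace of a root of unity in a cyclotomic field (helper8)

`totient_mul_trace`: in `L = ℚ(ω_N)`, for a primitive `n`-th root of unity `ξ` with `n ∣ N`,
`φ(n) · Tr_{L/ℚ}(ξ) = φ(N) · μ(n)`.

`totient_moebius_of_sum`: if `ζ + ζ⁻¹ + η + η⁻¹ = 1` with `ζ`, `η` primitive `n`-th, `m`-th roots of
unity, then `2 μ(n) φ(m) + 2 μ(m) φ(n) = φ(n) φ(m)`.
-/

set_option autoImplicit false

namespace Cfsg.Agent.Lib.Helper8.RootsOne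

open Finset ArithmeticFunction Polynomial IntermediateField

/-- `nextCoeff` of the `n`-th cyclotomic polynomial over `ℚ` is `-μ(n)` -/
theorem nextCoeff_cyclotomic_rat {L : Type*} [Field L] [CharZero L] {N : ℕ} {ω : L}
    (hω : IsPrimitiveRoot ω N) (hN : 0 < N) {n : ℕ} (hn : n ∣ N) :
    (cyclotomic n ℚ).nextCoeff = -((ArithmeticFunction.moebius n : ℤ) : ℚ) := by
  have hinj : Function.Injective (algebraMap ℚ L) := (algebraMap ℚ L).injective
  apply hinj
  rw [← nextCoeff_map hinj, map_cyclotomic]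
  obtain ⟨e, he⟩ := hn
  have hζ : IsPrimitiveRoot (ω ^ e) n := hω.pow (n := N) (a := e) (b := n) hN (by rw [he, mul_comm])
  rw [cyclotomic_eq_prod_X_sub_primitiveRoots hζ, prod_X_sub_C_nextCoeff,
    sum_primitiveRoots hω hN ⟨e, he⟩]
  simp

/-- `φ(n) · Tr_{L/ℚ}(ξ) = φ(N) · μ(n)` -/
theorem totient_mul_trace {N : ℕ} [NeZero N] {L : Type*} [Field L] [CharZero L]
    [IsCyclotomicExtension {N} ℚ L] {n : ℕ} (hn : n ∣ N) {ξ : L} (hξ : IsPrimitiveRoot ξ n) :
    (Nat.totient n : ℚ) * Algebra.trace ℚ L ξ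
      = (Nat.totient N : ℚ) * ((ArithmeticFunction.moebius n : ℤ) : ℚ) := by
  have hN : 0 < N := NeZero.pos N
  have hnpos : 0 < n := Nat.pos_of_dvd_of_pos hn hN
  have : FiniteDimensional ℚ L := IsCyclotomicExtension.finiteDimensional {N} ℚ L
  obtain ⟨ω, hω⟩ := IsCyclotomicExtension.exists_isPrimitiveRoot ℚ L (S := {N}) (n := N)
    (Set.mem_singleton N) hN.ne'
  have hint : IsIntegral ℚ ξ := .of_finite ℚ ξ
  have h1 : Algebra.trace ℚ L ξ
      = (Module.finrank ℚ⟮ξ⟯ L : ℚ) * -(minpoly ℚ ξ).nextCoeff :=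
    trace_eq_finrank_mul_minpoly_nextCoeff ℚ ξ
  have h2 : minpoly ℚ ξ = cyclotomic n ℚ := (cyclotomic_eq_minpoly_rat hξ hnpos).symm
  have h3 : Module.finrank ℚ ℚ⟮ξ⟯ = Nat.totient n := by
    rw [IntermediateField.adjoin.finrank hint, h2, natDegree_cyclotomic]
  have h4 : Module.finrank ℚ L = Nat.totient N := IsCyclotomicExtension.Rat.finrank N L
  have h5 : Module.finrank ℚ ℚ⟮ξ⟯ * Module.finrank ℚ⟮ξ⟯ L = Module.finrank ℚ L :=
    Module.finrank_mul_finrank ℚ ℚ⟮ξ⟯ L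
  rw [h3, h4] at h5
  rw [h1, h2, nextCoeff_cyclotomic_rat hω hN hn, neg_neg, ← mul_assoc, ← h5]
  push_cast
  ring

/-- the trace equation for `ζ + ζ⁻¹ + η + η⁻¹ = 1` -/
theorem totient_moebius_of_sum {N : ℕ} [NeZero N] {L : Type*} [Field L] [CharZero L]
    [IsCyclotomicExtension {N} ℚ L] {n m : ℕ} (hn : n ∣ N) (hm : m ∣ N) {ζ η : L}
    (hζ : IsPrimitiveRoot ζ n) (hη : IsPrimitiveRoot η m) (h : ζ + ζ⁻¹ + η + η⁻¹ = 1) :
    2 * (ArithmeticFunction.moebius n : ℤ) * (Nat.totient m : ℤ)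
      + 2 * (ArithmeticFunction.moebius m : ℤ) * (Nat.totient n : ℤ)
      = (Nat.totient n : ℤ) * (Nat.totient m : ℤ) := by
  have hN : 0 < N := NeZero.pos N
  have : FiniteDimensional ℚ L := IsCyclotomicExtension.finiteDimensional {N} ℚ L
  have hNφ : (Nat.totient N : ℚ) ≠ 0 := by
    have := Nat.totient_pos.mpr hN
    positivity
  have t1 := totient_mul_trace (N := N) hn hζ
  have t2 := totient_mul_trace (N := N) hn hζ.inv
  have t3 := totient_mul_trace (N := N) hm hη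
  have t4 := totient_mul_trace (N := N) hm hη.inv
  have t5 : Algebra.trace ℚ L 1 = (Nat.totient N : ℚ) := by
    have := Algebra.trace_algebraMap (R := ℚ) (S := L) (1 : ℚ)
    rw [map_one, IsCyclotomicExtension.Rat.finrank N L] at this
    rw [this]
    simp
  have t6 := congrArg (Algebra.trace ℚ L) h
  rw [map_add, map_add, map_add, t5] at t6
  have key : (Nat.totient N : ℚ) * (2 * ((ArithmeticFunction.moebius n : ℤ) : ℚ) * (Nat.totient m : ℚ)
      + 2 * ((ArithmeticFunction.moebius m : ℤ) : ℚ) * (Nat.totient n : ℚ))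
      = (Nat.totient N : ℚ) * ((Nat.totient n : ℚ) * (Nat.totient m : ℚ)) := by
    linear_combination (Nat.totient n : ℚ) * (Nat.totient m : ℚ) * t6
      - (Nat.totient m : ℚ) * t1 - (Nat.totient m : ℚ) * t2
      - (Nat.totient n : ℚ) * t3 - (Nat.totient n : ℚ) * t4
  have key2 := mul_left_cancel₀ hNφ key
  exact_mod_cast key2

end Cfsg.Agent.Lib.Helper8.RootsOne
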