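import Mathlib
import Cfsg.Agent.Lib.Helper8.RootsOneB

/-!
# The arithmetic of `2 μ(n) φ(m) + 2 μ(m) φ(n) = φ(n) φ(m)` (helper8)
-/

set_option autoImplicit false

namespace Cfsg.Agent.Lib.Helper8.RootsOne

open Finset ArithmeticFunction

/-- a squarefree number whose totient divides `4` divides `30` -/
theorem dvd_thirty_of_squarefree {k : ℕ} (hk : Squarefree k) (hφ : Nat.totient k ∣ 4) :
    k ∣ 30 := by
  have h1 : ∏ p ∈ k.primeFactors, p = k := Nat.prod_primeFactors_of_squarefree hk
  have h2 : k.primeFactors ⊆ ({2, 3, 5} : Finset ℕ) := by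
    intro p hp
    have hpp : p.Prime := Nat.prime_of_mem_primeFactors hp
    have hpk : p ∣ k := Nat.dvd_of_mem_primeFactors hp
    have h3 : Nat.totient p ∣ 4 := dvd_trans (Nat.totient_dvd_of_dvd hpk) hφ
    rw [Nat.totient_prime hpp] at h3
    have h4 : p - 1 ≤ 4 := Nat.le_of_dvd (by norm_num) h3
    have h5 : p ≤ 5 := by omega
    have h6 : 2 ≤ p := hpp.two_le
    interval_cases p
    · simp
    · simp
    · exact absurd hpp (by norm_num)
    · simp
  have h7 : ∏ p ∈ k.primeFactors, p ∣ ∏ p ∈ ({2, 3, 5} : Finset ℕ), p :=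
    Finset.prod_dvd_prod_of_subset _ _ _ h2
  rw [h1] at h7
  have h8 : ∏ p ∈ ({2, 3, 5} : Finset ℕ), p = 30 := by decide
  rwa [h8] at h7

theorem moebius_two : (ArithmeticFunction.moebius 2 : ℤ) = -1 :=
  moebius_apply_prime Nat.prime_two

theorem moebius_three : (ArithmeticFunction.moebius 3 : ℤ) = -1 :=
  moebius_apply_prime Nat.prime_three

theorem moebius_five : (ArithmeticFunction.moebius 5 : ℤ) = -1 :=
  moebius_apply_prime Nat.prime_five

theorem moebius_six : (ArithmeticFunction.moebius 6 : ℤ) = 1 := by
  have h := isMultiplicative_moebius.map_mul_of_coprime (m := 2) (n := 3) (by norm_num)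
  norm_num at h
  rw [h, moebius_two, moebius_three]
  norm_num

theorem moebius_ten : (ArithmeticFunction.moebius 10 : ℤ) = 1 := by
  have h := isMultiplicative_moebius.map_mul_of_coprime (m := 2) (n := 5) (by norm_num)
  norm_num at h
  rw [h, moebius_two, moebius_five]
  norm_num

/-- classification of `k` with `μ k ≠ 0` and `φ k ∣ 4` -/
theorem cases_of_moebius_totient {k : ℕ} (hμ : (ArithmeticFunction.moebius k : ℤ) ≠ 0)
    (hφ : Nat.totient k ∣ 4) :
    k = 1 ∨ k = 2 ∨ k = 3 ∨ k = 5 ∨ k = 6 ∨ k = 10 := by
  have hk : Squarefree k := moebius_ne_zero_iff_squarefree.mp hμ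
  have h30 := dvd_thirty_of_squarefree hk hφ
  have hle : k ≤ 30 := Nat.le_of_dvd (by norm_num) h30
  have hpos : 0 < k := Nat.pos_of_dvd_of_pos h30 (by norm_num)
  have h15 : Nat.totient 15 = 8 := by decide
  have h30' : Nat.totient 30 = 8 := by decide
  interval_cases k <;> first
    | omega
    | (exfalso; rw [h15] at hφ; norm_num at hφ)
    | (exfalso; rw [h30'] at hφ; norm_num at hφ)

theorem totient_values : Nat.totient 1 = 1 ∧ Nat.totient 2 = 1 ∧ Nat.totient 3 = 2 ∧
    Nat.totient 5 = 4 ∧ Nat.totient 6 = 2 ∧ Nat.totient 10 = 4 := by decide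

/-- the pairs allowed by the trace equation -/
theorem pairs_of_totient_moebius {n m : ℕ} (hn : 0 < n) (hm : 0 < m)
    (h : 2 * (ArithmeticFunction.moebius n : ℤ) * (Nat.totient m : ℤ)
      + 2 * (ArithmeticFunction.moebius m : ℤ) * (Nat.totient n : ℤ)
      = (Nat.totient n : ℤ) * (Nat.totient m : ℤ)) :
    ((ArithmeticFunction.moebius n : ℤ) = 0 ∧ m = 6) ∨
    (n = 6 ∧ (ArithmeticFunction.moebius m : ℤ) = 0) ∨
    (n = 1 ∧ m = 3) ∨ (n = 3 ∧ m = 1) ∨ (n = 10 ∧ m = 10) := by
  obtain ⟨v1, v2, v3, v5, v6, v10⟩ := totient_values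
  have ha : (1 : ℤ) ≤ (Nat.totient n : ℤ) := by exact_mod_cast Nat.totient_pos.mpr hn
  have hb : (1 : ℤ) ≤ (Nat.totient m : ℤ) := by exact_mod_cast Nat.totient_pos.mpr hm
  -- a general tool: from `μ k ≠ 0` and a bound on the totient get the list
  have tool : ∀ k : ℕ, (ArithmeticFunction.moebius k : ℤ) ≠ 0 → Nat.totient k ∣ 4 →
      k = 1 ∨ k = 2 ∨ k = 3 ∨ k = 5 ∨ k = 6 ∨ k = 10 := fun k => cases_of_moebius_totient
  rcases moebius_eq_or n with hs | hs | hs <;> rcases moebius_eq_or m with ht | ht | ht
  · -- (0,0)
    rw [hs, ht] at h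
    nlinarith
  · -- (0,1): φ m = 2
    rw [hs, ht] at h
    have hb2 : (Nat.totient m : ℤ) = 2 := by nlinarith
    have hb2' : Nat.totient m = 2 := by exact_mod_cast hb2
    left
    refine ⟨hs, ?_⟩
    rcases tool m (by rw [ht]; norm_num) (by rw [hb2']; norm_num) with r | r | r | r | r | r
    all_goals first
      | exact r
      | (exfalso; subst r; first | omega | (rw [moebius_three] at ht; omega))
  · -- (0,-1)
    rw [hs, ht] at h
    nlinarith
  · -- (1,0): φ n = 2
    rw [hs, ht] at h
    have ha2 : (Nat.totient n : ℤ) = 2 := by nlinarith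
    have ha2' : Nat.totient n = 2 := by exact_mod_cast ha2
    right; left
    refine ⟨?_, ht⟩
    rcases tool n (by rw [hs]; norm_num) (by rw [ha2']; norm_num) with r | r | r | r | r | r
    all_goals first
      | exact r
      | (exfalso; subst r; first | omega | (rw [moebius_three] at hs; omega))
  · -- (1,1): (a-2)(b-2) = 4
    rw [hs, ht] at h
    have hor : (Nat.totient n : ℤ) ≤ 4 ∨ (Nat.totient m : ℤ) ≤ 4 := by
      by_contra hcon
      push Not at hcon
      nlinarith
    have hab : (Nat.totient n = 3 ∧ Nat.totient m = 6) ∨ (Nat.totient n = 4 ∧ Nat.totient m = 4)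
        ∨ (Nat.totient n = 6 ∧ Nat.totient m = 3) := by
      rcases hor with h4 | h4
      · have h4' : Nat.totient n ≤ 4 := by exact_mod_cast h4
        have h1' : 1 ≤ Nat.totient n := Nat.totient_pos.mpr hn
        interval_cases hq : Nat.totient n
        · exfalso; push_cast at h; omega
        · exfalso; push_cast at h; omega
        · left; refine ⟨rfl, ?_⟩; push_cast at h; omega
        · right; left; refine ⟨rfl, ?_⟩; push_cast at h; omega
      · have h4' : Nat.totient m ≤ 4 := by exact_mod_cast h4
        have h1' : 1 ≤ Nat.totient m := Nat.totient_pos.mpr hm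
        interval_cases hq : Nat.totient m
        · exfalso; push_cast at h; omega
        · exfalso; push_cast at h; omega
        · right; right; refine ⟨?_, rfl⟩; push_cast at h; omega
        · right; left; refine ⟨?_, rfl⟩; push_cast at h; omega
    have odd3 : ∀ k : ℕ, Nat.totient k ≠ 3 := by
      intro k hk3
      rcases Nat.lt_or_ge 2 k with h2 | h2
      · have := Nat.totient_even h2
        rw [hk3] at this
        exact absurd this (by decide)
      · interval_cases k <;> simp at hk3
    rcases hab with ⟨h3, _⟩ | ⟨h4n, h4m⟩ | ⟨_, h3⟩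
    · exact absurd h3 (odd3 n)
    · right; right; right; right
      constructor
      · rcases tool n (by rw [hs]; norm_num) (by rw [h4n]) with r | r | r | r | r | r
        all_goals first
          | exact r
          | (exfalso; subst r; first | omega | (rw [moebius_five] at hs; omega))
      · rcases tool m (by rw [ht]; norm_num) (by rw [h4m]) with r | r | r | r | r | r
        all_goals first
          | exact r
          | (exfalso; subst r; first | omega | (rw [moebius_five] at ht; omega))
    · exact absurd h3 (odd3 m)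
  · -- (1,-1): a = 1, b = 2
    rw [hs, ht] at h
    have ha1 : (Nat.totient n : ℤ) = 1 := by
      by_contra hne
      have : (2 : ℤ) ≤ (Nat.totient n : ℤ) := by omega
      nlinarith
    have hb2 : (Nat.totient m : ℤ) = 2 := by rw [ha1] at h; linarith
    have ha1' : Nat.totient n = 1 := by exact_mod_cast ha1
    have hb2' : Nat.totient m = 2 := by exact_mod_cast hb2
    right; right; left
    constructor
    · rcases Nat.totient_eq_one_iff.mp ha1' with r | r
      · exact r
      · exfalso; subst r; rw [moebius_two] at hs; omega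
    · rcases tool m (by rw [ht]; norm_num) (by rw [hb2']; norm_num) with r | r | r | r | r | r
      all_goals first
        | exact r
        | (exfalso; subst r; first | omega | (rw [moebius_six] at ht; omega))
  · -- (-1,0)
    rw [hs, ht] at h
    nlinarith
  · -- (-1,1): a = 2, b = 1
    rw [hs, ht] at h
    have hb1 : (Nat.totient m : ℤ) = 1 := by
      by_contra hne
      have : (2 : ℤ) ≤ (Nat.totient m : ℤ) := by omega
      nlinarith
    have ha2 : (Nat.totient n : ℤ) = 2 := by rw [hb1] at h; linarith
    have hb1' : Nat.totient m = 1 := by exact_mod_cast hb1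
    have ha2' : Nat.totient n = 2 := by exact_mod_cast ha2
    right; right; right; left
    constructor
    · rcases tool n (by rw [hs]; norm_num) (by rw [ha2']; norm_num) with r | r | r | r | r | r
      all_goals first
        | exact r
        | (exfalso; subst r; first | omega | (rw [moebius_six] at hs; omega))
    · rcases Nat.totient_eq_one_iff.mp hb1' with r | r
      · exact r
      · exfalso; subst r; rw [moebius_two] at ht; omega
  · -- (-1,-1)
    rw [hs, ht] at h
    nlinarith

end Cfsg.Agent.Lib.Helper8.RootsOne
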