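import Mathlib
import Cfsg.Agent.Lib.Helper8.RootsOneC

/-!
# Roots of unity with `ζ + ζ⁻¹ + η + η⁻¹ = 1` (helper8)

`pairs_of_sum_eq_one`: in a field of characteristic zero, if `ζ`, `η` are primitive `n`-th and
`m`-th roots of unity with `ζ + ζ⁻¹ + η + η⁻¹ = 1`, then
`(n, m) ∈ {(1,3), (3,1), (4,6), (6,4), (10,10)}`.
-/

set_option autoImplicit false

namespace Cfsg.Agent.Lib.Helper8.RootsOne

open Finset ArithmeticFunction Polynomial IntermediateField

/-- a primitive sixth root of unity satisfies `η + η⁻¹ = 1` -/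
theorem add_inv_of_primitive_six {K : Type*} [Field K] {η : K} (hη : IsPrimitiveRoot η 6) :
    η + η⁻¹ = 1 := by
  have h6 : η ^ 6 = 1 := hη.pow_eq_one
  have h3 : η ^ 3 ≠ 1 := hη.pow_ne_one_of_pos_of_lt (by norm_num) (by norm_num)
  have h2 : η ^ 2 ≠ 1 := hη.pow_ne_one_of_pos_of_lt (by norm_num) (by norm_num)
  have h0 : η ≠ 0 := hη.ne_zero (by norm_num)
  have e1 : (η ^ 3 - 1) * (η ^ 3 + 1) = 0 := by linear_combination h6
  have e2 : η ^ 3 + 1 = 0 := by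
    rcases mul_eq_zero.mp e1 with e | e
    · exact absurd (sub_eq_zero.mp e) h3
    · exact e
  have e3 : (η + 1) * (η ^ 2 - η + 1) = 0 := by linear_combination e2
  have e4 : η ^ 2 - η + 1 = 0 := by
    rcases mul_eq_zero.mp e3 with e | e
    · exfalso
      apply h2
      have : η = -1 := by linear_combination e
      rw [this]; ring
    · exact e
  field_simp
  linear_combination e4

/-- `ζ + ζ⁻¹ = 0` forces order `4` in characteristic zero -/
theorem four_of_add_inv_eq_zero {K : Type*} [Field K] [CharZero K] {n : ℕ} {ζ : K}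
    (hζ : IsPrimitiveRoot ζ n) (hn : 0 < n) (h : ζ + ζ⁻¹ = 0) : n = 4 := by
  have h0 : ζ ≠ 0 := hζ.ne_zero hn.ne'
  have e1 : ζ ^ 2 = -1 := by
    field_simp at h
    linear_combination h
  have e2 : ζ ^ 4 = 1 := by
    have : ζ ^ 4 = (ζ ^ 2) ^ 2 := by ring
    rw [this, e1]; ring
  have hdvd : n ∣ 4 := hζ.dvd_of_pow_eq_one 4 e2
  have hle : n ≤ 4 := Nat.le_of_dvd (by norm_num) hdvd
  have two_ne : (2 : K) ≠ 0 := two_ne_zero
  interval_cases n
  · exfalso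
    have h1 : ζ = 1 := by simpa using hζ.pow_eq_one
    rw [h1] at e1
    apply two_ne
    linear_combination e1
  · exfalso
    have h1 : ζ ^ 2 = 1 := hζ.pow_eq_one
    rw [e1] at h1
    apply two_ne
    linear_combination -h1
  · exfalso; revert hdvd; norm_num
  · rfl

/-- the pair lemma in a cyclotomic field -/
theorem pairs_cyclotomic {N : ℕ} [NeZero N] {L : Type*} [Field L] [CharZero L]
    [IsCyclotomicExtension {N} ℚ L] {n m : ℕ} (hn : n ∣ N) (hm : m ∣ N) {ζ η : L}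
    (hζ : IsPrimitiveRoot ζ n) (hη : IsPrimitiveRoot η m) (h : ζ + ζ⁻¹ + η + η⁻¹ = 1) :
    (n = 1 ∧ m = 3) ∨ (n = 3 ∧ m = 1) ∨ (n = 4 ∧ m = 6) ∨ (n = 6 ∧ m = 4) ∨
      (n = 10 ∧ m = 10) := by
  have hN : 0 < N := NeZero.pos N
  have hnpos : 0 < n := Nat.pos_of_dvd_of_pos hn hN
  have hmpos : 0 < m := Nat.pos_of_dvd_of_pos hm hN
  have key := totient_moebius_of_sum (N := N) hn hm hζ hη h
  rcases pairs_of_totient_moebius hnpos hmpos key with ⟨_, r⟩ | ⟨r, _⟩ | r | r | r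
  · subst r
    have e := add_inv_of_primitive_six hη
    have e' : ζ + ζ⁻¹ = 0 := by linear_combination h - e
    right; right; left
    exact ⟨four_of_add_inv_eq_zero hζ hnpos e', rfl⟩
  · subst r
    have e := add_inv_of_primitive_six hζ
    have e' : η + η⁻¹ = 0 := by linear_combination h - e
    right; right; right; left
    exact ⟨rfl, four_of_add_inv_eq_zero hη hmpos e'⟩
  · left; exact r
  · right; left; exact r
  · right; right; right; right; exact r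

/-- **The pair lemma.** In a field of characteristic zero, roots of unity `ζ`, `η` of orders
`n`, `m` with `ζ + ζ⁻¹ + η + η⁻¹ = 1` have `(n, m) ∈ {(1,3), (3,1), (4,6), (6,4), (10,10)}`. -/
theorem pairs_of_sum_eq_one {K : Type*} [Field K] [CharZero K] {n m : ℕ} {ζ η : K}
    (hζ : IsPrimitiveRoot ζ n) (hη : IsPrimitiveRoot η m) (hn : 0 < n) (hm : 0 < m)
    (h : ζ + ζ⁻¹ + η + η⁻¹ = 1) :
    (n = 1 ∧ m = 3) ∨ (n = 3 ∧ m = 1) ∨ (n = 4 ∧ m = 6) ∨ (n = 6 ∧ m = 4) ∨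
      (n = 10 ∧ m = 10) := by
  have hNpos : 0 < Nat.lcm n m := Nat.lcm_pos hn hm
  have : NeZero (Nat.lcm n m) := ⟨hNpos.ne'⟩
  obtain ⟨ω, hω⟩ : ∃ ω : K, IsPrimitiveRoot ω (Nat.lcm n m) :=
    ⟨_, hζ.pow_mul_pow_lcm hη hn.ne' hm.ne'⟩
  have hint : IsIntegral ℚ ω := (hω.isIntegral hNpos).tower_top
  have : IsCyclotomicExtension {Nat.lcm n m} ℚ ℚ⟮ω⟯ := by
    change IsCyclotomicExtension {Nat.lcm n m} ℚ (IntermediateField.adjoin ℚ {ω}).toSubalgebra
    rw [IntermediateField.adjoin_simple_toSubalgebra_of_isAlgebraic hint.isAlgebraic]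
    exact hω.adjoin_isCyclotomicExtension ℚ
  have hωmem : ω ∈ ℚ⟮ω⟯ := IntermediateField.mem_adjoin_simple_self ℚ ω
  have hζN : ζ ^ (Nat.lcm n m) = 1 := by
    obtain ⟨e, he⟩ := Nat.dvd_lcm_left n m
    rw [he, pow_mul, hζ.pow_eq_one, one_pow]
  have hηN : η ^ (Nat.lcm n m) = 1 := by
    obtain ⟨e, he⟩ := Nat.dvd_lcm_right n m
    rw [he, pow_mul, hη.pow_eq_one, one_pow]
  obtain ⟨i, -, hi⟩ := hω.eq_pow_of_pow_eq_one hζN
  obtain ⟨j, -, hj⟩ := hω.eq_pow_of_pow_eq_one hηN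
  set ω' : ℚ⟮ω⟯ := ⟨ω, hωmem⟩ with hω'
  have hζ' : IsPrimitiveRoot (ω' ^ i) n := by
    apply IsPrimitiveRoot.of_map_of_injective (f := algebraMap ℚ⟮ω⟯ K) _
      (algebraMap ℚ⟮ω⟯ K).injective
    rw [map_pow]
    show IsPrimitiveRoot (ω ^ i) n
    rw [hi]; exact hζ
  have hη' : IsPrimitiveRoot (ω' ^ j) m := by
    apply IsPrimitiveRoot.of_map_of_injective (f := algebraMap ℚ⟮ω⟯ K) _
      (algebraMap ℚ⟮ω⟯ K).injective
    rw [map_pow]
    show IsPrimitiveRoot (ω ^ j) m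
    rw [hj]; exact hη
  have h' : ω' ^ i + (ω' ^ i)⁻¹ + ω' ^ j + (ω' ^ j)⁻¹ = 1 := by
    apply (algebraMap ℚ⟮ω⟯ K).injective
    rw [map_add, map_add, map_add, map_inv₀, map_inv₀, map_pow, map_pow, map_one]
    show ω ^ i + (ω ^ i)⁻¹ + ω ^ j + (ω ^ j)⁻¹ = 1
    rw [hi, hj]; exact h
  exact pairs_cyclotomic (N := Nat.lcm n m) (Nat.dvd_lcm_left n m) (Nat.dvd_lcm_right n m)
    hζ' hη' h'

end Cfsg.Agent.Lib.Helper8.RootsOne
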