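import Mathlib
import Cfsg.Agent.Lib.Helper8.RootsOneD

/-!
# Fixed-point-free representations: basic facts (helper8)

`ρ : G →* Module.End E V` with `hfpf : ∀ g ≠ 1, ∀ v, ρ g v = v → v = 0`.
-/

set_option autoImplicit false

namespace Cfsg.Agent.Lib.Helper8.FpfPair

open Module

variable {G : Type*} [Group G] {E : Type*} [Field E] {V : Type*} [AddCommGroup V] [Module E V]

/-- an invariant nonzero subspace contains an eigenvector -/
theorem exists_eigenvector_mem [IsAlgClosed E] [FiniteDimensional E V]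
    (W : Submodule E V) (hW : W ≠ ⊥) (f : Module.End E V) (hf : ∀ w ∈ W, f w ∈ W) :
    ∃ (l : E) (w : V), w ∈ W ∧ w ≠ 0 ∧ f w = l • w := by
  have : Nontrivial W := Submodule.nontrivial_iff_ne_bot.mpr hW
  obtain ⟨l, hl⟩ := Module.End.exists_eigenvalue (f.restrict hf)
  obtain ⟨w, hw⟩ := hl.exists_hasEigenvector
  refine ⟨l, (w : V), w.2, ?_, ?_⟩
  · intro h0
    apply hw.2
    exact Subtype.ext h0
  · have := hw.apply_eq_smul
    have h2 := congrArg (Subtype.val) this
    simpa using h2

/-- an element of order two acts as `-1` -/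
theorem order_two (ρ : G →* Module.End E V)
    (hfpf : ∀ g : G, g ≠ 1 → ∀ v : V, ρ g v = v → v = 0) {u : G} (hu : orderOf u = 2) :
    ρ u = -1 := by
  have hu1 : u ≠ 1 := by
    rintro rfl
    simp at hu
  have hsq : ρ u * ρ u = 1 := by
    rw [← map_mul, ← sq, ← hu, pow_orderOf_eq_one, map_one]
  apply LinearMap.ext
  intro v
  have h1 : ρ u (ρ u v + v) = ρ u v + v := by
    rw [map_add]
    have : ρ u (ρ u v) = v := by
      have := LinearMap.congr_fun hsq v
      simpa using this
    rw [this, add_comm]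
  have h2 := hfpf u hu1 _ h1
  have : ρ u v = -v := eq_neg_of_add_eq_zero_left h2
  simpa using this

/-- an element of order three satisfies `a² + a + 1 = 0` -/
theorem order_three (ρ : G →* Module.End E V)
    (hfpf : ∀ g : G, g ≠ 1 → ∀ v : V, ρ g v = v → v = 0) {x : G} (hx : orderOf x = 3) :
    ρ x * ρ x + ρ x + 1 = 0 := by
  have hx1 : x ≠ 1 := by
    rintro rfl
    simp at hx
  have hcube : ρ x * ρ x * ρ x = 1 := by
    rw [← map_mul, ← map_mul, ← pow_three', ← hx, pow_orderOf_eq_one, map_one]
  apply LinearMap.ext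
  intro v
  have h1 : ρ x ((ρ x * ρ x + ρ x + 1) v) = (ρ x * ρ x + ρ x + 1) v := by
    have e : ρ x * (ρ x * ρ x + ρ x + 1) = ρ x * ρ x + ρ x + 1 := by
      have : ρ x * (ρ x * ρ x + ρ x + 1) = ρ x * ρ x * ρ x + ρ x * ρ x + ρ x := by
        noncomm_ring
      rw [this, hcube]
      abel
    have := LinearMap.congr_fun e v
    simpa using this
  have h2 := hfpf x hx1 _ h1
  simpa using h2

/-- an eigenvalue of `ρ g` is a primitive `orderOf g`-th root of unity -/
theorem eigen_primitive (ρ : G →* Module.End E V)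
    (hfpf : ∀ g : G, g ≠ 1 → ∀ v : V, ρ g v = v → v = 0) {g : G} {l : E} {w : V}
    (hw : ρ g w = l • w) (hw0 : w ≠ 0) : IsPrimitiveRoot l (orderOf g) := by
  have hpow : ∀ k : ℕ, ρ (g ^ k) w = l ^ k • w := by
    intro k
    induction k with
    | zero => simp
    | succ k ih =>
      rw [pow_succ, map_mul, Module.End.mul_apply, hw, map_smul, ih, smul_smul, pow_succ, mul_comm]
  constructor
  · have h1 := hpow (orderOf g)
    rw [pow_orderOf_eq_one, map_one, Module.End.one_apply] at h1
    have h2 : (l ^ orderOf g - 1) • w = 0 := by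
      rw [sub_smul, one_smul, ← h1, sub_self]
    rcases smul_eq_zero.mp h2 with h3 | h3
    · exact sub_eq_zero.mp h3
    · exact absurd h3 hw0
  · intro k hk
    have h1 := hpow k
    rw [hk, one_smul] at h1
    by_contra hnd
    have hne : g ^ k ≠ 1 := fun h => hnd (orderOf_dvd_of_pow_eq_one h)
    exact hw0 (hfpf _ hne w h1)

end Cfsg.Agent.Lib.Helper8.FpfPair
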