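import Mathlib
import Cfsg.Agent.Lib.Helper8.FpfPairA

/-!
# Fixed-point-free representations: two elements of order three (helper8)

`orders_three_three`: in a finite group with a fixed-point-free representation over an
algebraically closed field of characteristic zero, two elements `x`, `y` of order three have
`(o(xy), o(xy⁻¹)) ∈ {(1,3), (3,1), (4,6), (6,4), (10,10)}`.
-/

set_option autoImplicit false

namespace Cfsg.Agent.Lib.Helper8.FpfPair

open Module Cfsg.Agent.Lib.Helper8.RootsOne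

variable {G : Type*} [Group G] {E : Type*} [Field E] {V : Type*} [AddCommGroup V] [Module E V]

/-- `ρ (g⁻¹)` is a two-sided inverse of `ρ g` -/
theorem rho_inv_mul (ρ : G →* Module.End E V) (g : G) : ρ g⁻¹ * ρ g = 1 := by
  rw [← map_mul, inv_mul_cancel, map_one]

theorem rho_mul_inv (ρ : G →* Module.End E V) (g : G) : ρ g * ρ g⁻¹ = 1 := by
  rw [← map_mul, mul_inv_cancel, map_one]

/-- for `x` of order three, `ρ x⁻¹ = -1 - ρ x` -/
theorem rho_inv_three (ρ : G →* Module.End E V)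
    (hfpf : ∀ g : G, g ≠ 1 → ∀ v : V, ρ g v = v → v = 0) {x : G} (hx : orderOf x = 3) :
    ρ x⁻¹ = -1 - ρ x := by
  have h3 := order_three ρ hfpf hx
  have h1 : ρ x⁻¹ * (ρ x * ρ x + ρ x + 1) = 0 := by rw [h3, mul_zero]
  have h2 : ρ x⁻¹ * (ρ x * ρ x + ρ x + 1) = ρ x + 1 + ρ x⁻¹ := by
    have : ρ x⁻¹ * (ρ x * ρ x + ρ x + 1) = (ρ x⁻¹ * ρ x) * ρ x + ρ x⁻¹ * ρ x + ρ x⁻¹ := by
      noncomm_ring
    rw [this, rho_inv_mul, one_mul]
  rw [h2] at h1
  have : ρ x⁻¹ = -(ρ x + 1) := eq_neg_of_add_eq_zero_right h1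
  rw [this]; abel

/-- an eigenvector `w` of `ρ g` with eigenvalue `l` is an eigenvector of `ρ g + ρ g⁻¹` with
eigenvalue `l + l⁻¹` -/
theorem eigen_add_inv (ρ : G →* Module.End E V) {g : G} {l : E} {w : V} (hl : l ≠ 0)
    (hw : ρ g w = l • w) : (ρ g + ρ g⁻¹) w = (l + l⁻¹) • w := by
  have h1 : ρ g⁻¹ w = l⁻¹ • w := by
    have : ρ g⁻¹ (ρ g w) = w := by
      exact LinearMap.congr_fun (rho_inv_mul ρ g) w
    rw [hw, map_smul] at this
    calc ρ g⁻¹ w = l⁻¹ • (l • ρ g⁻¹ w) := by rw [smul_smul, inv_mul_cancel₀ hl, one_smul]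
      _ = l⁻¹ • w := by rw [this]
  rw [LinearMap.add_apply, hw, h1, add_smul]

variable [IsAlgClosed E] [CharZero E] [FiniteDimensional E V] [Nontrivial V] [Finite G]

/-- **two elements of order three** -/
theorem orders_three_three (ρ : G →* Module.End E V)
    (hfpf : ∀ g : G, g ≠ 1 → ∀ v : V, ρ g v = v → v = 0) {x y : G}
    (hx : orderOf x = 3) (hy : orderOf y = 3) :
    (orderOf (x * y) = 1 ∧ orderOf (x * y⁻¹) = 3) ∨ (orderOf (x * y) = 3 ∧ orderOf (x * y⁻¹) = 1) ∨
    (orderOf (x * y) = 4 ∧ orderOf (x * y⁻¹) = 6) ∨ (orderOf (x * y) = 6 ∧ orderOf (x * y⁻¹) = 4) ∨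
    (orderOf (x * y) = 10 ∧ orderOf (x * y⁻¹) = 10) := by
  set a := ρ x with ha
  set b := ρ y with hb
  have ha3 : a * a + a + 1 = 0 := order_three ρ hfpf hx
  have hb3 : b * b + b + 1 = 0 := order_three ρ hfpf hy
  have hai : ρ x⁻¹ = -1 - a := rho_inv_three ρ hfpf hx
  have hbi : ρ y⁻¹ = -1 - b := rho_inv_three ρ hfpf hy
  -- c and c'
  set c : Module.End E V := ρ (x * y) + ρ (x * y)⁻¹ with hc
  set c' : Module.End E V := ρ (x * y⁻¹) + ρ (x * y⁻¹)⁻¹ with hc'
  have hc_eq : c = a * b + b * a + a + b + 1 := by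
    rw [hc, mul_inv_rev, map_mul, map_mul, hai, hbi]
    noncomm_ring
  have hc'_eq : c' = -(a * b) - b * a - a - b := by
    rw [hc', mul_inv_rev, inv_inv, map_mul, map_mul, hai, hbi]
    noncomm_ring
  have hsum : c + c' = 1 := by rw [hc_eq, hc'_eq]; abel
  have hca : c * a = a * c := by
    have : c * a - a * c = b * (a * a + a + 1) - (a * a + a + 1) * b := by
      rw [hc_eq]; noncomm_ring
    rw [ha3, mul_zero, zero_mul, sub_zero] at this
    exact sub_eq_zero.mp this
  have hcb : c * b = b * c := by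
    have : c * b - b * c = a * (b * b + b + 1) - (b * b + b + 1) * a := by
      rw [hc_eq]; noncomm_ring
    rw [hb3, mul_zero, zero_mul, sub_zero] at this
    exact sub_eq_zero.mp this
  -- an eigenspace of c
  obtain ⟨γ, hγ⟩ := Module.End.exists_eigenvalue c
  set W := Module.End.eigenspace c γ with hW
  have hWne : W ≠ ⊥ := hγ
  have hWa : ∀ w ∈ W, a w ∈ W := by
    intro w hw
    rw [hW, Module.End.mem_eigenspace_iff] at hw ⊢
    have := LinearMap.congr_fun hca w
    simp only [Module.End.mul_apply] at this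
    rw [this, hw, map_smul]
  have hWb : ∀ w ∈ W, b w ∈ W := by
    intro w hw
    rw [hW, Module.End.mem_eigenspace_iff] at hw ⊢
    have := LinearMap.congr_fun hcb w
    simp only [Module.End.mul_apply] at this
    rw [this, hw, map_smul]
  have hWab : ∀ w ∈ W, ρ (x * y) w ∈ W := by
    intro w hw
    rw [map_mul, Module.End.mul_apply]
    exact hWa _ (hWb _ hw)
  have hWab' : ∀ w ∈ W, ρ (x * y⁻¹) w ∈ W := by
    intro w hw
    rw [map_mul, Module.End.mul_apply, hbi]
    apply hWa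
    rw [LinearMap.sub_apply, LinearMap.neg_apply, Module.End.one_apply]
    exact W.sub_mem (W.neg_mem hw) (hWb _ hw)
  obtain ⟨l, w, hwW, hw0, hlw⟩ := exists_eigenvector_mem W hWne (ρ (x * y)) hWab
  obtain ⟨k, w', hw'W, hw'0, hkw⟩ := exists_eigenvector_mem W hWne (ρ (x * y⁻¹)) hWab'
  have hl := eigen_primitive ρ hfpf hlw hw0
  have hk := eigen_primitive ρ hfpf hkw hw'0
  have hl0 : l ≠ 0 := hl.ne_zero (orderOf_pos _).ne'
  have hk0 : k ≠ 0 := hk.ne_zero (orderOf_pos _).ne'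
  have e1 : c w = (l + l⁻¹) • w := eigen_add_inv ρ hl0 hlw
  have e2 : c' w' = (k + k⁻¹) • w' := eigen_add_inv ρ hk0 hkw
  have e3 : c w = γ • w := Module.End.mem_eigenspace_iff.mp hwW
  have e4 : c w' = γ • w' := Module.End.mem_eigenspace_iff.mp hw'W
  have e5 : l + l⁻¹ = γ := by
    have : (l + l⁻¹ - γ) • w = 0 := by rw [sub_smul, ← e1, ← e3, sub_self]
    rcases smul_eq_zero.mp this with h | h
    · exact sub_eq_zero.mp h
    · exact absurd h hw0
  have e6 : k + k⁻¹ = 1 - γ := by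
    have h1 : c' w' = (1 - γ) • w' := by
      have : c' = 1 - c := eq_sub_of_add_eq' hsum
      rw [this, LinearMap.sub_apply, Module.End.one_apply, e4, sub_smul, one_smul]
    have : (k + k⁻¹ - (1 - γ)) • w' = 0 := by rw [sub_smul, ← e2, ← h1, sub_self]
    rcases smul_eq_zero.mp this with h | h
    · exact sub_eq_zero.mp h
    · exact absurd h hw'0
  have hfin : l + l⁻¹ + k + k⁻¹ = 1 := by linear_combination e5 + e6
  exact pairs_of_sum_eq_one hl hk (orderOf_pos _) (orderOf_pos _) hfin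

end Cfsg.Agent.Lib.Helper8.FpfPair
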