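import Mathlib
import Cfsg.Agent.Lib.Helper8.FpfPairA

/-!
# Fixed-point-free representations: `C_p × C_p` and non-cyclic `pq` subgroups (helper8)

* `pu_of_fpf`: commuting elements `a`, `b` of the same prime order satisfy `b ∈ zpowers a`.
* `pb_of_fpf`: an element of prime order normalizing a cyclic subgroup centralizes it.
-/

set_option autoImplicit false

namespace Cfsg.Agent.Lib.Helper8.FpfPair

open Module

variable {G : Type*} [Group G] {E : Type*} [Field E] {V : Type*} [AddCommGroup V] [Module E V]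

/-- an eigenvector of `ρ g` is an eigenvector of `ρ (g ^ k)` -/
theorem eigen_pow (ρ : G →* Module.End E V) {g : G} {l : E} {w : V} (hw : ρ g w = l • w)
    (k : ℕ) : ρ (g ^ k) w = l ^ k • w := by
  induction k with
  | zero => simp
  | succ k ih =>
    rw [pow_succ, map_mul, Module.End.mul_apply, hw, map_smul, ih, smul_smul, pow_succ, mul_comm]

variable [IsAlgClosed E] [FiniteDimensional E V] [Nontrivial V]

/-- no `C_p × C_p` -/
theorem pu_of_fpf (ρ : G →* Module.End E V)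
    (hfpf : ∀ g : G, g ≠ 1 → ∀ v : V, ρ g v = v → v = 0) {p : ℕ} (hp : p.Prime) {a b : G}
    (ha : orderOf a = p) (hb : orderOf b = p) (hab : a * b = b * a) :
    b ∈ Subgroup.zpowers a := by
  obtain ⟨α, hα⟩ := Module.End.exists_eigenvalue (ρ a)
  set W := Module.End.eigenspace (ρ a) α with hW
  have hWne : W ≠ ⊥ := hα
  have hcomm : ρ a * ρ b = ρ b * ρ a := by rw [← map_mul, ← map_mul, hab]
  have hWb : ∀ w ∈ W, ρ b w ∈ W := by
    intro w hw
    rw [hW, Module.End.mem_eigenspace_iff] at hw ⊢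
    have := LinearMap.congr_fun hcomm w
    simp only [Module.End.mul_apply] at this
    rw [this, hw, map_smul]
  obtain ⟨β, w, hwW, hw0, hβw⟩ := exists_eigenvector_mem W hWne (ρ b) hWb
  have hαw : ρ a w = α • w := Module.End.mem_eigenspace_iff.mp hwW
  have hα' := eigen_primitive ρ hfpf hαw hw0
  have hβ' := eigen_primitive ρ hfpf hβw hw0
  rw [ha] at hα'
  rw [hb] at hβ'
  have : NeZero p := ⟨hp.ne_zero⟩
  obtain ⟨i, -, hi⟩ := hα'.eq_pow_of_pow_eq_one hβ'.pow_eq_one
  -- `a ^ i * b⁻¹` fixes `w`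
  have hβ0 : β ≠ 0 := hβ'.ne_zero hp.ne_zero
  have h1 : ρ b⁻¹ w = β⁻¹ • w := by
    have h2 : ρ b⁻¹ (ρ b w) = w := by
      have : ρ b⁻¹ * ρ b = 1 := by rw [← map_mul, inv_mul_cancel, map_one]
      exact LinearMap.congr_fun this w
    rw [hβw, map_smul] at h2
    calc ρ b⁻¹ w = β⁻¹ • (β • ρ b⁻¹ w) := by rw [smul_smul, inv_mul_cancel₀ hβ0, one_smul]
      _ = β⁻¹ • w := by rw [h2]
  have h3 : ρ (a ^ i * b⁻¹) w = w := by
    rw [map_mul, Module.End.mul_apply, h1, map_smul, eigen_pow ρ hαw, hi, smul_smul,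
      inv_mul_cancel₀ hβ0, one_smul]
  have h4 : a ^ i * b⁻¹ = 1 := by
    by_contra hne
    exact hw0 (hfpf _ hne w h3)
  have h5 : b = a ^ i := by
    have := mul_eq_one_iff_eq_inv.mp h4
    rw [inv_inv] at this
    exact this.symm
  rw [h5]
  exact Subgroup.pow_mem _ (Subgroup.mem_zpowers a) i

/-- subgroups of order `pq` are cyclic -/
theorem pb_of_fpf [Finite G] (ρ : G →* Module.End E V)
    (hfpf : ∀ g : G, g ≠ 1 → ∀ v : V, ρ g v = v → v = 0) {p : ℕ} (hp : p.Prime)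
    {a b : G} (ha : orderOf a = p)
    (hn : a * b * a⁻¹ ∈ Subgroup.zpowers b) : a * b = b * a := by
  classical
  have ha1 : a ≠ 1 := by
    rintro rfl
    rw [orderOf_one] at ha
    exact hp.one_lt.ne ha
  -- conjugation by powers of `a` preserves `zpowers b`
  have hconj : ∀ h ∈ Subgroup.zpowers b, a * h * a⁻¹ ∈ Subgroup.zpowers b := by
    intro h hh
    obtain ⟨m, rfl⟩ := Subgroup.mem_zpowers_iff.mp hh
    have : a * b ^ m * a⁻¹ = (a * b * a⁻¹) ^ m := by
      rw [conj_zpow]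
    rw [this]
    exact Subgroup.zpow_mem _ hn m
  have hconjpow : ∀ (i : ℕ), ∀ h ∈ Subgroup.zpowers b, a ^ i * h * (a ^ i)⁻¹ ∈ Subgroup.zpowers b := by
    intro i
    induction i with
    | zero => intro h hh; simpa using hh
    | succ i ih =>
      intro h hh
      have := hconj _ (ih h hh)
      have e : a ^ (i + 1) * h * (a ^ (i + 1))⁻¹ = a * (a ^ i * h * (a ^ i)⁻¹) * a⁻¹ := by
        rw [pow_succ']; group
      rw [e]; exact this
  -- `c i = a^{-i} b a^{i} ∈ zpowers b`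
  have hpinv : ∀ i : ℕ, (a ^ i)⁻¹ = a ^ (i * (p - 1)) := by
    intro i
    rw [inv_eq_iff_mul_eq_one, ← pow_add]
    have : i + i * (p - 1) = i * p := by
      have := hp.one_le
      calc i + i * (p - 1) = i * (p - 1 + 1) := by ring
        _ = i * p := by rw [Nat.sub_add_cancel this]
    rw [this, mul_comm, pow_mul, ← ha, pow_orderOf_eq_one, one_pow]
  have hc : ∀ i : ℕ, (a ^ i)⁻¹ * b * a ^ i ∈ Subgroup.zpowers b := by
    intro i
    have := hconjpow (i * (p - 1)) b (Subgroup.mem_zpowers b)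
    rw [← hpinv, inv_inv] at this
    exact this
  -- an eigenvector of `ρ b`
  obtain ⟨β, hβ⟩ := Module.End.exists_eigenvalue (ρ b)
  obtain ⟨w, hw⟩ := hβ.exists_hasEigenvector
  have hβw : ρ b w = β • w := hw.apply_eq_smul
  have hw0 : w ≠ 0 := hw.2
  -- every element of `zpowers b` has `w` as an eigenvector
  have heig : ∀ h ∈ Subgroup.zpowers b, ∃ μ : E, ρ h w = μ • w := by
    intro h hh
    rw [← mem_powers_iff_mem_zpowers] at hh
    obtain ⟨k, rfl⟩ := (Submonoid.mem_powers_iff _ _).mp hh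
    exact ⟨β ^ k, eigen_pow ρ hβw k⟩
  choose μ hμ using fun i : ℕ => heig _ (hc i)
  -- `v i = ρ (a^i) w` is an eigenvector of `ρ b` with eigenvalue `μ i`
  have hv : ∀ i : ℕ, ρ b (ρ (a ^ i) w) = μ i • ρ (a ^ i) w := by
    intro i
    have e : b * a ^ i = a ^ i * ((a ^ i)⁻¹ * b * a ^ i) := by group
    calc ρ b (ρ (a ^ i) w) = ρ (b * a ^ i) w := by rw [map_mul, Module.End.mul_apply]
      _ = ρ (a ^ i) (ρ ((a ^ i)⁻¹ * b * a ^ i) w) := by
        rw [e, map_mul, Module.End.mul_apply]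
      _ = μ i • ρ (a ^ i) w := by rw [hμ i, map_smul]
  have hvne : ∀ i : ℕ, ρ (a ^ i) w ≠ 0 := by
    intro i h0
    apply hw0
    have : ρ (a ^ i)⁻¹ (ρ (a ^ i) w) = w := by
      have : ρ (a ^ i)⁻¹ * ρ (a ^ i) = 1 := by rw [← map_mul, inv_mul_cancel, map_one]
      exact LinearMap.congr_fun this w
    rw [← this, h0, map_zero]
  -- the sum of the `v i` is fixed by `a`
  have hsum : ∑ i ∈ Finset.range p, ρ (a ^ i) w = 0 := by
    apply hfpf a ha1
    rw [map_sum]
    have : ∀ i ∈ Finset.range p, ρ a (ρ (a ^ i) w) = ρ (a ^ (i + 1)) w := by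
      intro i _
      rw [pow_succ', map_mul, Module.End.mul_apply]
    rw [Finset.sum_congr rfl this]
    have h1 := Finset.sum_range_succ' (fun i => ρ (a ^ i) w) p
    have h2 := Finset.sum_range_succ (fun i => ρ (a ^ i) w) p
    rw [h2] at h1
    have h3 : ρ (a ^ p) w = ρ (a ^ 0) w := by rw [← ha, pow_orderOf_eq_one, pow_zero]
    rw [h3] at h1
    exact (add_right_cancel h1).symm
  -- not injective
  have hninj : ¬ Function.Injective (fun i : Fin p => μ i) := by
    intro hinj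
    have hli := Module.End.eigenvectors_linearIndependent' (ρ b) (fun i : Fin p => μ i) hinj
      (fun i : Fin p => ρ (a ^ (i : ℕ)) w)
      (fun i => ⟨Module.End.mem_eigenspace_iff.mpr (hv i), hvne i⟩)
    have h1 := Fintype.linearIndependent_iff.mp hli (fun _ => (1 : E)) (by
      simp only [one_smul]
      rw [Finset.sum_fin_eq_sum_range] 
      rw [← hsum]
      apply Finset.sum_congr rfl
      intro i hi
      rw [dif_pos (Finset.mem_range.mp hi)])
    have hp0 : 0 < p := hp.pos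
    exact one_ne_zero (h1 ⟨0, hp0⟩)
  -- two coinciding eigenvalues
  have : ∃ i j : Fin p, i < j ∧ μ i = μ j := by
    by_contra hcon
    push Not at hcon
    apply hninj
    intro i j hij
    by_contra hne
    rcases lt_or_gt_of_ne hne with h | h
    · exact hcon i j h hij
    · exact hcon j i h hij.symm
  obtain ⟨i, j, hij, hμij⟩ := this
  -- so `c i = c j`
  have hcij : (a ^ (i : ℕ))⁻¹ * b * a ^ (i : ℕ) = (a ^ (j : ℕ))⁻¹ * b * a ^ (j : ℕ) := by
    by_contra hne
    have hne' : ((a ^ (i : ℕ))⁻¹ * b * a ^ (i : ℕ)) * ((a ^ (j : ℕ))⁻¹ * b * a ^ (j : ℕ))⁻¹ ≠ 1 := by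
      intro h
      exact hne (mul_inv_eq_one.mp h)
    apply hw0
    apply hfpf _ hne' w
    set cj := (a ^ (j : ℕ))⁻¹ * b * a ^ (j : ℕ) with hcj
    have hj0 : μ j ≠ 0 := by
      intro h0
      have h1 := hμ j
      rw [h0, zero_smul] at h1
      apply hw0
      have : ρ cj⁻¹ (ρ cj w) = w := by
        have : ρ cj⁻¹ * ρ cj = 1 := by rw [← map_mul, inv_mul_cancel, map_one]
        exact LinearMap.congr_fun this w
      rw [← this, h1, map_zero]
    have h2 : ρ cj⁻¹ w = (μ j)⁻¹ • w := by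
      have h3 : ρ cj⁻¹ (ρ cj w) = w := by
        have : ρ cj⁻¹ * ρ cj = 1 := by rw [← map_mul, inv_mul_cancel, map_one]
        exact LinearMap.congr_fun this w
      rw [hμ j, map_smul] at h3
      calc ρ cj⁻¹ w = (μ j)⁻¹ • (μ j • ρ cj⁻¹ w) := by
            rw [smul_smul, inv_mul_cancel₀ hj0, one_smul]
        _ = (μ j)⁻¹ • w := by rw [h3]
    rw [map_mul, Module.End.mul_apply, h2, map_smul, hμ i, smul_smul, hμij,
      inv_mul_cancel₀ hj0, one_smul]
  -- hence `a ^ (j - i)` commutes with `b`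
  have hji : (i : ℕ) < (j : ℕ) := hij
  set d := (j : ℕ) - (i : ℕ) with hd
  have hdpos : 0 < d := Nat.sub_pos_of_lt hji
  have hdlt : d < p := lt_of_le_of_lt (Nat.sub_le _ _) j.2
  have hcomm : a ^ d * b = b * a ^ d := by
    have hj : a ^ (j : ℕ) = a ^ (i : ℕ) * a ^ d := by
      rw [← pow_add, hd, Nat.add_sub_cancel' hji.le]
    rw [hj] at hcij
    have e2 : (a ^ d)⁻¹ * b * a ^ d = b := by
      have e3 : (a ^ (i : ℕ) * a ^ d)⁻¹ * b * (a ^ (i : ℕ) * a ^ d)
          = (a ^ d)⁻¹ * ((a ^ (i : ℕ))⁻¹ * b * a ^ (i : ℕ)) * a ^ d := by group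
      rw [e3] at hcij
      have e4 : (a ^ (i : ℕ))⁻¹ * b * a ^ (i : ℕ)
          = (a ^ (i : ℕ))⁻¹ * ((a ^ d)⁻¹ * b * a ^ d) * a ^ (i : ℕ) := by
        have hcm : a ^ (i : ℕ) * a ^ d = a ^ d * a ^ (i : ℕ) := by
          rw [← pow_add, ← pow_add, add_comm]
        calc (a ^ (i : ℕ))⁻¹ * b * a ^ (i : ℕ)
            = (a ^ d)⁻¹ * ((a ^ (i : ℕ))⁻¹ * b * a ^ (i : ℕ)) * a ^ d := hcij
          _ = (a ^ d * a ^ (i : ℕ))⁻¹ * b * (a ^ (i : ℕ) * a ^ d) := by group
          _ = (a ^ (i : ℕ) * a ^ d)⁻¹ * b * (a ^ d * a ^ (i : ℕ)) := by rw [hcm]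
          _ = (a ^ (i : ℕ))⁻¹ * ((a ^ d)⁻¹ * b * a ^ d) * a ^ (i : ℕ) := by group
      have e5 := mul_left_cancel (mul_right_cancel e4)
      exact e5.symm
    calc a ^ d * b = a ^ d * ((a ^ d)⁻¹ * b * a ^ d) := by rw [e2]
      _ = b * a ^ d := by group
  -- and `a` is a power of `a ^ d`
  have hcop : Nat.Coprime d (orderOf a) := by
    rw [ha]
    exact (Nat.coprime_of_lt_prime hdpos.ne' hdlt hp).symm
  obtain ⟨m, hm⟩ := exists_pow_eq_self_of_coprime hcop
  have hcomm' : (a ^ d) ^ m * b = b * (a ^ d) ^ m := by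
    have : Commute (a ^ d) b := hcomm
    exact (this.pow_left m).eq
  rwa [hm] at hcomm'

end Cfsg.Agent.Lib.Helper8.FpfPair
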