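import Mathlib
import Cfsg.Agent.Lib.Helper8.GS2

/-!
# S4914, part 3 (piece A): the orbit facts, restated in the vocabulary of `Lib/helper3/GNS0`
(`GNS.Hyp`, `GNS.PInv`, `GNS.inertia`), with the names of the stubs of
`notes/S4914_stubs_helper3.lean.txt`.
-/

set_option autoImplicit false
set_option linter.style.haveILetI false
set_option linter.unusedSectionVars false
set_option linter.unusedVariables false

namespace Cfsg.Agent.Lib.Helper8.GSN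

open Cfsg Cfsg.Agent.Lib.helper3.Irr Cfsg.Agent.Lib.helper3.CharBasic
open Cfsg.Agent.Lib.helper3.Glaub Cfsg.Agent.Lib.helper3.GlP
open Cfsg.Agent.Lib.helper3.GNS

variable {G : Type*} [Group G] [Finite G] {p : ℕ} [hp : Fact p.Prime] {P K Q C : Subgroup G}

/-- helper3's bundled hypotheses give helper8's. -/
theorem toGS (h : Hyp p P K Q C) : Cfsg.Agent.Lib.Helper8.GS.Hyp p P K Q C where
  hP := h.hP
  hPK := h.hPK
  hQK := h.hQK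
  hQn := fun k hk q hq => (Subgroup.mem_normalizer_iff.mp (h.hKQ hk) q).mp hq
  hQp := IsPGroup.iff_card.mp h.hQp
  hQsyl := h.hQsyl
  hCK := h.hCK
  hC := h.hC

/-- and conversely. -/
theorem ofGS (h : Cfsg.Agent.Lib.Helper8.GS.Hyp p P K Q C) : Hyp p P K Q C where
  hP := h.hP
  hPK := h.hPK
  hQK := h.hQK
  hKQ := h.hKn
  hPQ := h.hPn
  hQp := h.isPGroup_Q
  hQsyl := h.hQsyl
  hCK := h.hCK
  hQC := h.hQC
  hC := h.hC

theorem pinv_iff (P A : Subgroup G) (χ : ↥A → ℂ) :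
    PInv P A χ ↔ Cfsg.Agent.Lib.Helper8.GS.PInv P A χ := Iff.rfl

theorem inertia_eq (X Q : Subgroup G) (hX : X ≤ Subgroup.normalizer (Q : Set G)) (θ : ↥Q → ℂ) :
    inertia X Q θ = Cfsg.Agent.Lib.Helper8.GS.inertiaIn Q X θ := by
  ext g
  rw [mem_inertia, Cfsg.Agent.Lib.Helper8.GS.mem_inertiaIn_iff Q X hX θ g]
  constructor
  · rintro ⟨h1, -, h3⟩
    exact ⟨h1, h3⟩
  · rintro ⟨h1, h3⟩
    exact ⟨h1, hX h1, h3⟩

theorem mem_inertia_iff (X Q : Subgroup G) (hX : X ≤ Subgroup.normalizer (Q : Set G))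
    (θ : ↥Q → ℂ) (g : G) :
    g ∈ inertia X Q θ ↔ g ∈ X ∧ Cfsg.Agent.Lib.Helper8.GS.ConjBy Q g θ θ := by
  rw [inertia_eq X Q hX, Cfsg.Agent.Lib.Helper8.GS.mem_inertiaIn_iff Q X hX θ g]

theorem exists_fixed_under (h : Hyp p P K Q C) (χ : IrrCharacter ↥K) (hχ : PInv P K χ) :
    ∃ θ : IrrCharacter ↥Q, PInv P Q θ ∧ ip (res h.hQK χ) (θ : ↥Q → ℂ) ≠ 0 :=
  Cfsg.Agent.Lib.Helper8.GS.exists_fixed_under (toGS h) χ hχ

theorem fixed_of_under (h : Hyp p P K Q C) (ξ : IrrCharacter ↥C) (hξ : PInv P C ξ)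
    (θ : IrrCharacter ↥Q) (hθ : ip (res h.hQC ξ) (θ : ↥Q → ℂ) ≠ 0) : PInv P Q θ :=
  Cfsg.Agent.Lib.Helper8.GS.fixed_of_under (toGS h) ξ hξ θ hθ

theorem exists_conj_of_fixed (h : Hyp p P K Q C) (χ : IrrCharacter ↥K) (θ θ' : IrrCharacter ↥Q)
    (hθ : PInv P Q θ) (hθ' : PInv P Q θ') (h1 : ip (res h.hQK χ) (θ : ↥Q → ℂ) ≠ 0)
    (h2 : ip (res h.hQK χ) (θ' : ↥Q → ℂ) ≠ 0) :
    ∃ c ∈ C, ∀ q q' : ↥Q, (q' : G) = c * q * c⁻¹ → (θ' : ↥Q → ℂ) q' = (θ : ↥Q → ℂ) q :=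
  Cfsg.Agent.Lib.Helper8.GS.exists_conj_of_fixed (toGS h) χ θ θ' hθ hθ' h1 h2

/-- The index congruence (the hypotheses on `χ` of the stub are not needed). -/
theorem relIndex_congr' (h : Hyp p P K Q C) (θ : IrrCharacter ↥Q) (hθ : PInv P Q θ) :
    (((inertia K Q (θ : ↥Q → ℂ)).relIndex K : ℕ) : ZMod p) =
      (((inertia C Q (θ : ↥Q → ℂ)).relIndex C : ℕ) : ZMod p) := by
  rw [inertia_eq K Q h.hKQ, inertia_eq C Q (h.hCK.trans h.hKQ)]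
  exact (ZMod.natCast_eq_natCast_iff _ _ _).mpr
    (Cfsg.Agent.Lib.Helper8.GS.relIndex_modEq (toGS h) θ hθ)

theorem relIndex_congr (h : Hyp p P K Q C) (χ : IrrCharacter ↥K) (hχ : PInv P K χ)
    (θ : IrrCharacter ↥Q) (hθ : PInv P Q θ) (h1 : ip (res h.hQK χ) (θ : ↥Q → ℂ) ≠ 0) :
    (((inertia K Q (θ : ↥Q → ℂ)).relIndex K : ℕ) : ZMod p) =
      (((inertia C Q (θ : ↥Q → ℂ)).relIndex C : ℕ) : ZMod p) :=
  relIndex_congr' h θ hθ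

theorem ip_res_conj (X Q : Subgroup G) (hQX : Q ≤ X) (ξ : ↥X → ℂ) (hξ : IsClassFunction ↥X ξ)
    (θ θ' : ↥Q → ℂ) (c : G) (hc : c ∈ X) (hcQ : c ∈ Subgroup.normalizer (Q : Set G))
    (hconj : ∀ q q' : ↥Q, (q' : G) = c * q * c⁻¹ → θ' q' = θ q) :
    ip (res hQX ξ) θ' = ip (res hQX ξ) θ :=
  Cfsg.Agent.Lib.Helper8.GS.ip_res_conj X Q hQX ξ hξ θ θ' c hc hcQ hconj

/-- `P` normalizes the inertia groups of a `P`-fixed character of `Q`. -/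
theorem le_normalizer_inertia_K (h : Hyp p P K Q C) (θ : ↥Q → ℂ) (hθ : PInv P Q θ) :
    P ≤ Subgroup.normalizer ((inertia K Q θ : Subgroup G) : Set G) := by
  rw [inertia_eq K Q h.hKQ]
  exact Cfsg.Agent.Lib.Helper8.GS.le_normalizer_inertiaIn_K (toGS h) θ hθ

theorem le_normalizer_inertia_C (h : Hyp p P K Q C) (θ : ↥Q → ℂ) (hθ : PInv P Q θ) :
    P ≤ Subgroup.normalizer ((inertia C Q θ : Subgroup G) : Set G) := by
  rw [inertia_eq C Q (h.hCK.trans h.hKQ)]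
  exact Cfsg.Agent.Lib.Helper8.GS.le_normalizer_inertiaIn_C (toGS h) θ hθ

/-- Clifford: two irreducible constituents of `χ_Q` are conjugate under `X`. -/
theorem exists_conj_of_over (X Q : Subgroup G) (hQX : Q ≤ X)
    (hXn : X ≤ Subgroup.normalizer (Q : Set G)) (χ : IrrCharacter ↥X) (θ θ' : IrrCharacter ↥Q)
    (h1 : ip (res hQX (χ : ↥X → ℂ)) (θ : ↥Q → ℂ) ≠ 0)
    (h2 : ip (res hQX (χ : ↥X → ℂ)) (θ' : ↥Q → ℂ) ≠ 0) :
    ∃ k ∈ X, ∀ q q' : ↥Q, (q' : G) = k * q * k⁻¹ → (θ' : ↥Q → ℂ) q' = (θ : ↥Q → ℂ) q :=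
  Cfsg.Agent.Lib.Helper8.GS.exists_conjBy_of_over X Q hQX hXn χ θ θ' h1 h2

end Cfsg.Agent.Lib.Helper8.GSN
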