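import Mathlib
import Cfsg.Agent.Lib.Helper8.GS3
import Cfsg.Agent.Lib.helper3.Inflate2

/-!
# S4914, part 4: `P`-equivariance of the Clifford–Gallagher parametrization
(decoupled from the parametrization itself: the uniqueness facts are hypotheses).
-/

set_option autoImplicit false
set_option linter.style.haveILetI false
set_option linter.unusedSectionVars false
set_option linter.unusedVariables false

namespace Cfsg.Agent.Lib.Helper8.GSN

open Cfsg Cfsg.Agent.Lib.helper3.Irr Cfsg.Agent.Lib.helper3.CharBasic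
open Cfsg.Agent.Lib.helper3.Glaub Cfsg.Agent.Lib.helper3.GlP
open Cfsg.Agent.Lib.helper3.GNS
open Cfsg.Agent.Lib.Helper8.GS (ConjBy exists_conjBy)

variable {G : Type*} [Group G] [Finite G]

/-- Conjugating both arguments by `x ∈ N_G(A)` preserves the inner product on `A`. -/
theorem ip_conjBy2 (A : Subgroup G) (x : G) (hx : x ∈ Subgroup.normalizer (A : Set G))
    (F F' ψ ψ' : ↥A → ℂ) (hF : ConjBy A x F F') (hψ : ConjBy A x ψ ψ') :
    ip F' ψ' = ip F ψ := by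
  classical
  letI : Fintype ↥A := Fintype.ofFinite _
  rw [ip_eq_classInner, ip_eq_classInner]
  set σ : ↥A ≃* ↥A := conjN A ⟨x, hx⟩ with hσ
  have h1 : F = fun a => F' (σ a) := by
    funext a
    exact (hF a (σ a) rfl).symm
  have h2 : ψ = fun a => ψ' (σ a) := by
    funext a
    exact (hψ a (σ a) rfl).symm
  conv_rhs => rw [h1, h2]
  exact (classInner_comp_mulEquiv σ F' ψ').symm

theorem conjBy_res {A B : Subgroup G} (hBA : B ≤ A) (x : G) (χ χ' : ↥A → ℂ)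
    (h : ConjBy A x χ χ') : ConjBy B x (res hBA χ) (res hBA χ') := by
  intro b b' hb
  exact h ⟨b, hBA b.2⟩ ⟨b', hBA b'.2⟩ hb

theorem conjBy_mul (A : Subgroup G) (x : G) (F F' H H' : ↥A → ℂ) (hF : ConjBy A x F F')
    (hH : ConjBy A x H H') : ConjBy A x (F * H) (F' * H') := by
  intro a a' ha
  rw [Pi.mul_apply, Pi.mul_apply, hF a a' ha, hH a a' ha]

theorem conjBy_apply_one (A : Subgroup G) (x : G) (β β' : ↥A → ℂ) (h : ConjBy A x β β') :
    β' 1 = β 1 := by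
  apply h 1 1
  simp

theorem kerGE_of_conjBy (Q A : Subgroup G) (x : G) (hxA : x ∈ Subgroup.normalizer (A : Set G))
    (hxQ : x ∈ Subgroup.normalizer (Q : Set G)) (β β' : ↥A → ℂ) (hβ : KerGE Q A β)
    (h : ConjBy A x β β') : KerGE Q A β' := by
  intro a' ha'
  have h1 : x⁻¹ * (a' : G) * x ∈ A := by
    have := (Subgroup.mem_normalizer_iff.mp (inv_mem hxA) _).mp a'.2
    rwa [inv_inv] at this
  have h2 : x⁻¹ * (a' : G) * x ∈ Q := by
    have := (Subgroup.mem_normalizer_iff.mp (inv_mem hxQ) _).mp ha'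
    rwa [inv_inv] at this
  have h3 := h ⟨_, h1⟩ a' (by show (a' : G) = x * (x⁻¹ * (a' : G) * x) * x⁻¹; group)
  rw [h3, hβ ⟨_, h1⟩ h2, conjBy_apply_one A x β β' h]

section equivariance

variable (P X T Q : Subgroup G) (hPX : P ≤ Subgroup.normalizer (X : Set G))
  (hPT : P ≤ Subgroup.normalizer (T : Set G)) (hPQ : P ≤ Subgroup.normalizer (Q : Set G))
  (hTX : T ≤ X) (θh : ↥T → ℂ) (hθh : PInv P T θh)

include hPT hPQ hθh in
/-- (E1a) the Gallagher parameter of a `P`-invariant character is `P`-invariant. -/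
theorem pinv_of_unique (χ : ↥X → ℂ) (hχ : PInv P X χ) (β : IrrCharacter ↥T)
    (hβ : KerGE Q T (β : ↥T → ℂ))
    (huniq : ∀ β' : IrrCharacter ↥T, KerGE Q T (β' : ↥T → ℂ) →
      ip (res hTX χ) (θh * (β' : ↥T → ℂ)) ≠ 0 → β' = β)
    (h1 : ip (res hTX χ) (θh * (β : ↥T → ℂ)) ≠ 0) : PInv P T (β : ↥T → ℂ) := by
  intro x hx
  obtain ⟨β', hβ'⟩ := exists_conjBy T x (hPT hx) β
  have hk : KerGE Q T (β' : ↥T → ℂ) :=
    kerGE_of_conjBy Q T x (hPT hx) (hPQ hx) _ _ hβ hβ'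
  have hF : ConjBy T x (res hTX χ) (res hTX χ) := conjBy_res hTX x χ χ (hχ x hx)
  have hψ : ConjBy T x (θh * (β : ↥T → ℂ)) (θh * (β' : ↥T → ℂ)) :=
    conjBy_mul T x _ _ _ _ (hθh x hx) hβ'
  have h2 := ip_conjBy2 T x (hPT hx) _ _ _ _ hF hψ
  have h3 : β' = β := huniq β' hk (by rw [h2]; exact h1)
  rw [h3] at hβ'
  exact hβ'

include hPX hPT hθh in
/-- (E1b) a character determined by a `P`-invariant Gallagher parameter is `P`-invariant. -/
theorem pinv_of_inj (β : ↥T → ℂ) (hβ : PInv P T β) (χ : IrrCharacter ↥X)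
    (h1 : ip (res hTX (χ : ↥X → ℂ)) (θh * β) ≠ 0)
    (hinj : ∀ χ' : IrrCharacter ↥X, ip (res hTX (χ' : ↥X → ℂ)) (θh * β) ≠ 0 → χ' = χ) :
    PInv P X (χ : ↥X → ℂ) := by
  intro x hx
  obtain ⟨χ', hχ'⟩ := exists_conjBy X x (hPX hx) χ
  have hF : ConjBy T x (res hTX (χ : ↥X → ℂ)) (res hTX (χ' : ↥X → ℂ)) :=
    conjBy_res hTX x _ _ hχ'
  have hψ : ConjBy T x (θh * β) (θh * β) := conjBy_mul T x _ _ _ _ (hθh x hx) (hβ x hx)
  have h2 := ip_conjBy2 T x (hPT hx) _ _ _ _ hF hψ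
  have h3 : χ' = χ := hinj χ' (by rw [h2]; exact h1)
  rw [h3] at hχ'
  exact hχ'

end equivariance

/-- (E2) a character of `D` with `Q` in its kernel is `P`-invariant when `[P, D] ≤ Q`. -/
theorem pinv_of_kerGE (P Q D : Subgroup G) (hQD : Q ≤ D) (γ : ↥D → ℂ) (hγ : IsCharacter ↥D γ)
    (hk : KerGE Q D γ) (hD : ∀ x ∈ P, ∀ d ∈ D, x * d * x⁻¹ * d⁻¹ ∈ Q) : PInv P D γ := by
  intro x hx d d' hd
  have hq := hD x hx d d.2
  have hcf := isClassFunction_of_isCharacter hγ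
  have e2 : d' = (⟨x * (d : G) * x⁻¹ * (d : G)⁻¹, hQD hq⟩ : ↥D) * d := by
    apply Subtype.ext
    rw [hd]
    simp
  have e3 : γ d' = γ (d * (⟨x * (d : G) * x⁻¹ * (d : G)⁻¹, hQD hq⟩ : ↥D)) := by
    have := hcf (d * (⟨x * (d : G) * x⁻¹ * (d : G)⁻¹, hQD hq⟩ : ↥D))
      (⟨x * (d : G) * x⁻¹ * (d : G)⁻¹, hQD hq⟩ : ↥D)
    rw [e2, ← this]
    congr 1
    group
  rw [e3]
  exact apply_mul_of_apply_eq_one hγ (hk _ hq) d

end Cfsg.Agent.Lib.Helper8.GSN
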