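import Mathlib
import Cfsg.Agent.Lib.Helper8.GS3

/-!
# S4914, part 5: packaging of the correspondence into the exact shape of the statement.
-/

set_option autoImplicit false
set_option linter.style.haveILetI false
set_option linter.unusedSectionVars false
set_option linter.unusedVariables false

namespace Cfsg.Agent.Lib.Helper8.GSN

open Cfsg Cfsg.Agent.Lib.helper3.Irr Cfsg.Agent.Lib.helper3.CharBasic
open Cfsg.Agent.Lib.helper3.GNS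

variable {G : Type*} [Group G] [Finite G]

/-- The multiplicity `[χ_C, ξ]` is a natural number. -/
theorem exists_nat_ip_res {K C : Subgroup G} (hCK : C ≤ K) (χ : IrrCharacter ↥K)
    (ξ : IrrCharacter ↥C) : ∃ m : ℕ, ip (res hCK (χ : ↥K → ℂ)) (ξ : ↥C → ℂ) = m := by
  classical
  letI : Fintype ↥C := Fintype.ofFinite _
  have hc : IsCharacter ↥C (res hCK (χ : ↥K → ℂ)) :=
    isCharacter_comp (isCharacter_of_isIrrCharacter χ.2) (Subgroup.inclusion hCK)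
  obtain ⟨m, hm⟩ := exists_nat_classInner_of_isCharacter hc ξ
  exact ⟨m, by rw [ip_eq_classInner]; exact hm⟩

/-- **Packaging**: existence (with the congruences), surjectivity and injectivity of the
relation `p ∤ [χ_C, ξ]` give the conclusion of S4914 verbatim. -/
theorem final_of_corr (p : ℕ) [Fact p.Prime] (P K C : Subgroup G) (hCK : C ≤ K)
    (H1 : ∀ χ : IrrCharacter ↥K, PInv P K (χ : ↥K → ℂ) →
      ∃ ξ₀ : IrrCharacter ↥C, PInv P C (ξ₀ : ↥C → ℂ) ∧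
        (∃ m : ℕ, ip (res hCK (χ : ↥K → ℂ)) (ξ₀ : ↥C → ℂ) = m ∧
          ((m : ZMod p) = 1 ∨ (m : ZMod p) = -1)) ∧
        (∀ ξ : IrrCharacter ↥C, PInv P C (ξ : ↥C → ℂ) → ξ ≠ ξ₀ →
          ∃ m : ℕ, ip (res hCK (χ : ↥K → ℂ)) (ξ : ↥C → ℂ) = m ∧ p ∣ m) ∧
        ((Cfsg.charDegree (ξ₀ : ↥C → ℂ) : ZMod p) = (Cfsg.charDegree (χ : ↥K → ℂ) : ZMod p) ∨
          (Cfsg.charDegree (ξ₀ : ↥C → ℂ) : ZMod p)
            = -(Cfsg.charDegree (χ : ↥K → ℂ) : ZMod p)))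
    (H2 : ∀ ξ : IrrCharacter ↥C, PInv P C (ξ : ↥C → ℂ) →
      ∃ χ : IrrCharacter ↥K, PInv P K (χ : ↥K → ℂ) ∧
        ∃ m : ℕ, ip (res hCK (χ : ↥K → ℂ)) (ξ : ↥C → ℂ) = m ∧ ¬ p ∣ m)
    (H3 : ∀ χ χ' : IrrCharacter ↥K, PInv P K (χ : ↥K → ℂ) → PInv P K (χ' : ↥K → ℂ) →
      ∀ ξ : IrrCharacter ↥C, PInv P C (ξ : ↥C → ℂ) → ∀ m m' : ℕ,
        ip (res hCK (χ : ↥K → ℂ)) (ξ : ↥C → ℂ) = m → ¬ p ∣ m →
        ip (res hCK (χ' : ↥K → ℂ)) (ξ : ↥C → ℂ) = m' → ¬ p ∣ m' → χ = χ') :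
    ∃ f : {χ : Cfsg.IrrCharacter ↥K // (∀ x ∈ P, ∀ k k' : ↥K, (k' : G) = x * (k : G) * x⁻¹ →
        (χ : ↥K → ℂ) k' = (χ : ↥K → ℂ) k)} →
        {ξ : Cfsg.IrrCharacter ↥C // (∀ x ∈ P, ∀ k k' : ↥C, (k' : G) = x * (k : G) * x⁻¹ →
          (ξ : ↥C → ℂ) k' = (ξ : ↥C → ℂ) k)},
      Function.Bijective f ∧ ∀ χ,
        (∀ ξ : {ξ : Cfsg.IrrCharacter ↥C // (∀ x ∈ P, ∀ k k' : ↥C,
            (k' : G) = x * (k : G) * x⁻¹ → (ξ : ↥C → ℂ) k' = (ξ : ↥C → ℂ) k)},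
          ∃ m : ℕ, (Nat.card ↥C : ℂ)⁻¹ * ∑ᶠ c : ↥C, (χ.1 : ↥K → ℂ) (Subgroup.inclusion hCK c) *
              (starRingEnd ℂ) ((ξ.1 : ↥C → ℂ) c) = (m : ℂ) ∧
            (ξ = f χ → ((m : ZMod p) = 1 ∨ (m : ZMod p) = -1)) ∧ (ξ ≠ f χ → p ∣ m)) ∧
        ((Cfsg.charDegree ((f χ).1 : ↥C → ℂ) : ZMod p)
            = (Cfsg.charDegree (χ.1 : ↥K → ℂ) : ZMod p) ∨
          (Cfsg.charDegree ((f χ).1 : ↥C → ℂ) : ZMod p)
            = -(Cfsg.charDegree (χ.1 : ↥K → ℂ) : ZMod p)) := by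
  classical
  have hp : p.Prime := Fact.out
  have hpm : ∀ m : ℕ, ((m : ZMod p) = 1 ∨ (m : ZMod p) = -1) → ¬ p ∣ m := by
    intro m hm hdvd
    have h0 : (m : ZMod p) = 0 := (ZMod.natCast_eq_zero_iff m p).mpr hdvd
    haveI : Fact (1 < p) := ⟨hp.one_lt⟩
    rcases hm with hm | hm
    · rw [h0] at hm
      exact zero_ne_one hm
    · rw [h0] at hm
      have : (1 : ZMod p) = 0 := by
        have := congrArg Neg.neg hm
        simpa using this.symm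
      exact one_ne_zero this
  choose F hF using H1
  let f : {χ : Cfsg.IrrCharacter ↥K // (∀ x ∈ P, ∀ k k' : ↥K, (k' : G) = x * (k : G) * x⁻¹ →
        (χ : ↥K → ℂ) k' = (χ : ↥K → ℂ) k)} →
        {ξ : Cfsg.IrrCharacter ↥C // (∀ x ∈ P, ∀ k k' : ↥C, (k' : G) = x * (k : G) * x⁻¹ →
          (ξ : ↥C → ℂ) k' = (ξ : ↥C → ℂ) k)} :=
    fun χ => ⟨F χ.1 χ.2, (hF χ.1 χ.2).1⟩
  have hfval : ∀ χ, (f χ).1 = F χ.1 χ.2 := fun χ => rfl
  refine ⟨f, ⟨?_, ?_⟩, ?_⟩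
  · -- injective
    intro χ χ' hff
    obtain ⟨m, hm, hm1⟩ := (hF χ.1 χ.2).2.1
    obtain ⟨m', hm', hm1'⟩ := (hF χ'.1 χ'.2).2.1
    have hval : F χ.1 χ.2 = F χ'.1 χ'.2 := congrArg Subtype.val hff
    rw [← hval] at hm'
    exact Subtype.ext (H3 χ.1 χ'.1 χ.2 χ'.2 (F χ.1 χ.2) (hF χ.1 χ.2).1 m m' hm (hpm m hm1)
      hm' (hpm m' hm1'))
  · -- surjective
    intro ξ
    obtain ⟨χ, hχ, m, hm, hpm'⟩ := H2 ξ.1 ξ.2
    refine ⟨⟨χ, hχ⟩, ?_⟩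
    by_contra hne
    have hne' : ξ.1 ≠ F χ hχ := by
      intro h
      apply hne
      exact Subtype.ext h.symm
    obtain ⟨m', hm', hdvd⟩ := (hF χ hχ).2.2.1 ξ.1 ξ.2 hne'
    have : (m : ℂ) = (m' : ℂ) := by rw [← hm, ← hm']
    have hmm : m = m' := by exact_mod_cast this
    rw [hmm] at hpm'
    exact hpm' hdvd
  · intro χ
    refine ⟨?_, (hF χ.1 χ.2).2.2.2⟩
    intro ξ
    obtain ⟨m, hm⟩ := exists_nat_ip_res hCK χ.1 ξ.1
    refine ⟨m, hm, ?_, ?_⟩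
    · intro hξ
      obtain ⟨m', hm', hm1'⟩ := (hF χ.1 χ.2).2.1
      have hval : ξ.1 = F χ.1 χ.2 := by rw [hξ]
      rw [← hval] at hm'
      have : (m : ℂ) = (m' : ℂ) := by rw [← hm, ← hm']
      have hmm : m = m' := by exact_mod_cast this
      rw [hmm]
      exact hm1'
    · intro hξ
      have hne' : ξ.1 ≠ F χ.1 χ.2 := by
        intro h
        apply hξ
        exact Subtype.ext h
      obtain ⟨m', hm', hdvd⟩ := (hF χ.1 χ.2).2.2.1 ξ.1 ξ.2 hne'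
      have : (m : ℂ) = (m' : ℂ) := by rw [← hm, ← hm']
      have hmm : m = m' := by exact_mod_cast this
      rw [hmm]
      exact hdvd

end Cfsg.Agent.Lib.Helper8.GSN
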