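import Mathlib
import Cfsg.Agent.Lib.Helper8.GS5
import Cfsg.Agent.Lib.Helper8.FRam1

/-!
# S4914, part 7: the global statement from the local theorem over a `P`-fixed character of `Q`.
-/

set_option autoImplicit false
set_option linter.style.haveILetI false
set_option linter.unusedSectionVars false
set_option linter.unusedVariables false

namespace Cfsg.Agent.Lib.Helper8.GSN

open Cfsg Cfsg.Agent.Lib.helper3.Irr Cfsg.Agent.Lib.helper3.CharBasic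
open Cfsg.Agent.Lib.helper3.GNS

variable {G : Type*} [Group G] [Finite G]

/-- A constituent of the restriction to `Q` of a constituent of `χ_C` is a constituent
of `χ_Q`. -/
theorem ip_res_ne_zero_of_constituent {K C Q : Subgroup G} (hQC : Q ≤ C) (hCK : C ≤ K)
    (χ : IrrCharacter ↥K) (ξ : IrrCharacter ↥C)
    (h : ip (res hCK (χ : ↥K → ℂ)) (ξ : ↥C → ℂ) ≠ 0) (θ : IrrCharacter ↥Q)
    (hθ : ip (res hQC (ξ : ↥C → ℂ)) (θ : ↥Q → ℂ) ≠ 0) :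
    ip (res (hQC.trans hCK) (χ : ↥K → ℂ)) (θ : ↥Q → ℂ) ≠ 0 := by
  classical
  letI : Fintype ↥C := Fintype.ofFinite _
  letI : Fintype ↥Q := Fintype.ofFinite _
  have hc : IsCharacter ↥C (res hCK (χ : ↥K → ℂ)) :=
    isCharacter_comp (isCharacter_of_isIrrCharacter χ.2) (Subgroup.inclusion hCK)
  rw [ip_eq_classInner] at h hθ ⊢
  exact Cfsg.Agent.Lib.Helper8.FRam.classInner_restrict_ne_zero_of_constituent
    (Subgroup.inclusion hQC) hc ξ.2 h θ hθ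

/-- The local theorem over a `P`-fixed irreducible character `θ` of `Q`. -/
def Local (p : ℕ) (P K Q C : Subgroup G) (hQK : Q ≤ K) (hQC : Q ≤ C) (hCK : C ≤ K)
    (θ : IrrCharacter ↥Q) : Prop :=
  (∀ χ : IrrCharacter ↥K, PInv P K (χ : ↥K → ℂ) → ip (res hQK (χ : ↥K → ℂ)) (θ : ↥Q → ℂ) ≠ 0 →
    ∃ ξ₀ : IrrCharacter ↥C, PInv P C (ξ₀ : ↥C → ℂ) ∧
      ip (res hQC (ξ₀ : ↥C → ℂ)) (θ : ↥Q → ℂ) ≠ 0 ∧
      (∃ m : ℕ, ip (res hCK (χ : ↥K → ℂ)) (ξ₀ : ↥C → ℂ) = m ∧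
        ((m : ZMod p) = 1 ∨ (m : ZMod p) = -1)) ∧
      (∀ ξ : IrrCharacter ↥C, ip (res hQC (ξ : ↥C → ℂ)) (θ : ↥Q → ℂ) ≠ 0 → ξ ≠ ξ₀ →
        ∃ m : ℕ, ip (res hCK (χ : ↥K → ℂ)) (ξ : ↥C → ℂ) = m ∧ p ∣ m) ∧
      ((Cfsg.charDegree (ξ₀ : ↥C → ℂ) : ZMod p) = (Cfsg.charDegree (χ : ↥K → ℂ) : ZMod p) ∨
        (Cfsg.charDegree (ξ₀ : ↥C → ℂ) : ZMod p)
          = -(Cfsg.charDegree (χ : ↥K → ℂ) : ZMod p))) ∧
  (∀ χ χ' : IrrCharacter ↥K, PInv P K (χ : ↥K → ℂ) → PInv P K (χ' : ↥K → ℂ) →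
    ip (res hQK (χ : ↥K → ℂ)) (θ : ↥Q → ℂ) ≠ 0 → ip (res hQK (χ' : ↥K → ℂ)) (θ : ↥Q → ℂ) ≠ 0 →
    ∀ ξ : IrrCharacter ↥C, ip (res hQC (ξ : ↥C → ℂ)) (θ : ↥Q → ℂ) ≠ 0 → ∀ m m' : ℕ,
      ip (res hCK (χ : ↥K → ℂ)) (ξ : ↥C → ℂ) = m → ¬ p ∣ m →
      ip (res hCK (χ' : ↥K → ℂ)) (ξ : ↥C → ℂ) = m' → ¬ p ∣ m' → χ = χ') ∧
  (∀ ξ : IrrCharacter ↥C, ip (res hQC (ξ : ↥C → ℂ)) (θ : ↥Q → ℂ) ≠ 0 →
    ∃ χ : IrrCharacter ↥K, PInv P K (χ : ↥K → ℂ) ∧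
      ∃ m : ℕ, ip (res hCK (χ : ↥K → ℂ)) (ξ : ↥C → ℂ) = m ∧ ¬ p ∣ m)

/-- **The global statement of S4914 from the local theorem.** -/
theorem result_of_local {p : ℕ} [Fact p.Prime] {P K Q C : Subgroup G} (h : Hyp p P K Q C)
    (hloc : ∀ θ : IrrCharacter ↥Q, PInv P Q (θ : ↥Q → ℂ) →
      Local p P K Q C h.hQK h.hQC h.hCK θ) :
    ∃ f : {χ : Cfsg.IrrCharacter ↥K // (∀ x ∈ P, ∀ k k' : ↥K, (k' : G) = x * (k : G) * x⁻¹ →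
        (χ : ↥K → ℂ) k' = (χ : ↥K → ℂ) k)} →
        {ξ : Cfsg.IrrCharacter ↥C // (∀ x ∈ P, ∀ k k' : ↥C, (k' : G) = x * (k : G) * x⁻¹ →
          (ξ : ↥C → ℂ) k' = (ξ : ↥C → ℂ) k)},
      Function.Bijective f ∧ ∀ χ,
        (∀ ξ : {ξ : Cfsg.IrrCharacter ↥C // (∀ x ∈ P, ∀ k k' : ↥C,
            (k' : G) = x * (k : G) * x⁻¹ → (ξ : ↥C → ℂ) k' = (ξ : ↥C → ℂ) k)},
          ∃ m : ℕ, (Nat.card ↥C : ℂ)⁻¹ * ∑ᶠ c : ↥C,
              (χ.1 : ↥K → ℂ) (Subgroup.inclusion h.hCK c) *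
              (starRingEnd ℂ) ((ξ.1 : ↥C → ℂ) c) = (m : ℂ) ∧
            (ξ = f χ → ((m : ZMod p) = 1 ∨ (m : ZMod p) = -1)) ∧ (ξ ≠ f χ → p ∣ m)) ∧
        ((Cfsg.charDegree ((f χ).1 : ↥C → ℂ) : ZMod p)
            = (Cfsg.charDegree (χ.1 : ↥K → ℂ) : ZMod p) ∨
          (Cfsg.charDegree ((f χ).1 : ↥C → ℂ) : ZMod p)
            = -(Cfsg.charDegree (χ.1 : ↥K → ℂ) : ZMod p)) := by
  have hCn : C ≤ Subgroup.normalizer (Q : Set G) := h.hCK.trans h.hKQ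
  apply final_of_corr p P K C h.hCK
  · -- existence with congruences
    intro χ hχ
    obtain ⟨θ, hθ, hov⟩ := exists_fixed_under h χ hχ
    obtain ⟨La, -, -⟩ := hloc θ hθ
    obtain ⟨ξ₀, hξ₀, hξ₀θ, hm, hoth, hdeg⟩ := La χ hχ hov
    refine ⟨ξ₀, hξ₀, hm, ?_, hdeg⟩
    intro ξ hξ hne
    by_cases hξθ : ip (res h.hQC (ξ : ↥C → ℂ)) (θ : ↥Q → ℂ) ≠ 0
    · exact hoth ξ hξθ hne
    · push Not at hξθ
      refine ⟨0, ?_, dvd_zero p⟩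
      rw [Nat.cast_zero]
      by_contra hne0
      obtain ⟨θ', hθ'⟩ := Cfsg.Agent.Lib.Helper8.GS.exists_under C Q h.hQC ξ
      have hθ'P := fixed_of_under h ξ hξ θ' hθ'
      have hθ'χ : ip (res h.hQK (χ : ↥K → ℂ)) (θ' : ↥Q → ℂ) ≠ 0 :=
        ip_res_ne_zero_of_constituent h.hQC h.hCK χ ξ hne0 θ' hθ'
      obtain ⟨c, hc, hconj⟩ := exists_conj_of_fixed h χ θ θ' hθ hθ'P hov hθ'χ
      have hcf := isClassFunction_of_isCharacter (isCharacter_of_isIrrCharacter ξ.2)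
      rw [ip_res_conj C Q h.hQC _ hcf _ _ c hc (hCn hc) hconj] at hθ'
      exact hθ' hξθ
  · -- surjectivity
    intro ξ hξ
    obtain ⟨θ, hθ⟩ := Cfsg.Agent.Lib.Helper8.GS.exists_under C Q h.hQC ξ
    have hθP := fixed_of_under h ξ hξ θ hθ
    exact (hloc θ hθP).2.2 ξ hθ
  · -- injectivity
    intro χ χ' hχ hχ' ξ hξ m m' hm hpm hm' hpm'
    obtain ⟨θ, hθ⟩ := Cfsg.Agent.Lib.Helper8.GS.exists_under C Q h.hQC ξ
    have hθP := fixed_of_under h ξ hξ θ hθ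
    have hne : ip (res h.hCK (χ : ↥K → ℂ)) (ξ : ↥C → ℂ) ≠ 0 := by
      rw [hm]
      intro h0
      have : m = 0 := by exact_mod_cast h0
      rw [this] at hpm
      exact hpm (dvd_zero p)
    have hne' : ip (res h.hCK (χ' : ↥K → ℂ)) (ξ : ↥C → ℂ) ≠ 0 := by
      rw [hm']
      intro h0
      have : m' = 0 := by exact_mod_cast h0
      rw [this] at hpm'
      exact hpm' (dvd_zero p)
    have hχθ := ip_res_ne_zero_of_constituent h.hQC h.hCK χ ξ hne θ hθ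
    have hχ'θ := ip_res_ne_zero_of_constituent h.hQC h.hCK χ' ξ hne' θ hθ
    exact (hloc θ hθP).2.1 χ χ' hχ hχ' hχθ hχ'θ ξ hθ m m' hm hpm hm' hpm'

end Cfsg.Agent.Lib.Helper8.GSN
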