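import Mathlib
import Cfsg.Agent.Lib.Helper8.GS7
import Cfsg.Agent.Lib.Helper8.GS6
import Cfsg.Agent.Lib.Helper8.GS4
import Cfsg.Agent.Lib.helper3.GNS2
import Cfsg.Agent.Lib.helper3.CycExt2
import Cfsg.Agent.H2.GSec3
import Cfsg.Agent.H1.GSInv

/-!
# S4914, part 8: the local theorem over a `P`-fixed character `θ` of `Q` — setup,
injectivity and surjectivity clauses (the multiplicity formula is a hypothesis).
-/

set_option autoImplicit false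
set_option linter.style.haveILetI false
set_option linter.unusedSectionVars false
set_option linter.unusedVariables false

namespace Cfsg.Agent.Lib.Helper8.GSN

open Cfsg Cfsg.Agent.Lib.helper3.Irr Cfsg.Agent.Lib.helper3.CharBasic
open Cfsg.Agent.Lib.helper3.GNS

variable {G : Type*} [Group G] [Finite G] {p : ℕ} [hp : Fact p.Prime] {P K Q C : Subgroup G}

section setup

variable (h : Hyp p P K Q C) (θ : IrrCharacter ↥Q)
include h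

theorem le_inertia_K : Q ≤ inertia K Q (θ : ↥Q → ℂ) :=
  le_inertia h.hQK (isClassFunction_of_isCharacter (isCharacter_of_isIrrCharacter θ.2))

theorem le_inertia_C : Q ≤ inertia C Q (θ : ↥Q → ℂ) :=
  le_inertia h.hQC (isClassFunction_of_isCharacter (isCharacter_of_isIrrCharacter θ.2))

theorem inertia_C_le_K : inertia C Q (θ : ↥Q → ℂ) ≤ inertia K Q (θ : ↥Q → ℂ) := by
  rw [inertia_inf K C Q h.hCK]
  exact inf_le_left

theorem mem_inertia_K_iff (g : G) : g ∈ inertia K Q (θ : ↥Q → ℂ) ↔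
    g ∈ K ∧ ∀ q q' : ↥Q, (q' : G) = g * q * g⁻¹ → (θ : ↥Q → ℂ) q' = (θ : ↥Q → ℂ) q :=
  mem_inertia_iff K Q h.hKQ _ g

theorem mem_inertia_C_iff (g : G) : g ∈ inertia C Q (θ : ↥Q → ℂ) ↔
    g ∈ C ∧ ∀ q q' : ↥Q, (q' : G) = g * q * g⁻¹ → (θ : ↥Q → ℂ) q' = (θ : ↥Q → ℂ) q :=
  mem_inertia_iff C Q (h.hCK.trans h.hKQ) _ g

theorem mem_inertia_C_iff' (t : G) : t ∈ inertia C Q (θ : ↥Q → ℂ) ↔
    t ∈ inertia K Q (θ : ↥Q → ℂ) ∧ ∀ x ∈ P, x * t * x⁻¹ * t⁻¹ ∈ Q := by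
  rw [inertia_inf K C Q h.hCK, Subgroup.mem_inf, h.hC]
  constructor
  · rintro ⟨h1, -, h3⟩
    exact ⟨h1, h3⟩
  · rintro ⟨h1, h3⟩
    exact ⟨h1, inertia_le K Q _ h1, h3⟩

theorem not_dvd_relIndex_inertia : ¬ p ∣ Q.relIndex (inertia K Q (θ : ↥Q → ℂ)) := by
  intro hdvd
  apply h.hQsyl
  rw [← Subgroup.relIndex_mul_relIndex Q (inertia K Q (θ : ↥Q → ℂ)) K (le_inertia_K h θ)
    (inertia_le K Q _)]
  exact dvd_mul_of_dvd_left hdvd _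

omit h in
/-- The restriction of an extension of `θ` to an intermediate subgroup is irreducible. -/
theorem isIrr_res_of_ext {T D : Subgroup G} (hQD : Q ≤ D) (hDT : D ≤ T) (θh : ↥T → ℂ)
    (hθh : IsCharacter ↥T θh) (hext : res (hQD.trans hDT) θh = (θ : ↥Q → ℂ)) :
    IsIrrCharacter ↥D (res hDT θh) := by
  classical
  letI : Fintype ↥D := Fintype.ofFinite _
  letI : Fintype ↥(Q.subgroupOf D) := Fintype.ofFinite _
  have hc : IsCharacter ↥D (res hDT θh) := isCharacter_comp hθh (Subgroup.inclusion hDT)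
  apply Cfsg.Agent.Lib.helper3.CycExt.isIrrCharacter_of_restrict (Q.subgroupOf D) hc
  have h1 : (fun n : ↥(Q.subgroupOf D) => res hDT θh n) = toSub hQD (θ : ↥Q → ℂ) := by
    rw [← hext]
    rfl
  rw [h1]
  exact isIrrCharacter_toSub hQD θ.2

end setup

/-- The configuration over a `P`-fixed character `θ` of `Q`: `T` and `D` are the inertia groups
of `θ` in `K` and in `C`. -/
structure Ctx (p : ℕ) (P K Q C : Subgroup G) (θ : IrrCharacter ↥Q) (T D : Subgroup G) : Prop where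
  hyp : Hyp p P K Q C
  hθ : PInv P Q (θ : ↥Q → ℂ)
  hQD : Q ≤ D
  hDT : D ≤ T
  hTK : T ≤ K
  hDC : D ≤ C
  hT : ∀ g : G, g ∈ T ↔ g ∈ K ∧
    ∀ q q' : ↥Q, (q' : G) = g * q * g⁻¹ → (θ : ↥Q → ℂ) q' = (θ : ↥Q → ℂ) q
  hD : ∀ g : G, g ∈ D ↔ g ∈ C ∧
    ∀ q q' : ↥Q, (q' : G) = g * q * g⁻¹ → (θ : ↥Q → ℂ) q' = (θ : ↥Q → ℂ) q
  hD' : ∀ t : G, t ∈ D ↔ t ∈ T ∧ ∀ x ∈ P, x * t * x⁻¹ * t⁻¹ ∈ Q
  hPT : P ≤ Subgroup.normalizer (T : Set G)
  hPD : P ≤ Subgroup.normalizer (D : Set G)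
  hidx : ¬ p ∣ Q.relIndex T

theorem ctx_inertia (h : Hyp p P K Q C) (θ : IrrCharacter ↥Q) (hθ : PInv P Q (θ : ↥Q → ℂ)) :
    Ctx p P K Q C θ (inertia K Q (θ : ↥Q → ℂ)) (inertia C Q (θ : ↥Q → ℂ)) where
  hyp := h
  hθ := hθ
  hQD := le_inertia_C h θ
  hDT := inertia_C_le_K h θ
  hTK := inertia_le K Q _
  hDC := inertia_le C Q _
  hT := mem_inertia_K_iff h θ
  hD := mem_inertia_C_iff h θ
  hD' := mem_inertia_C_iff' h θ
  hPT := le_normalizer_inertia_K h _ hθ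
  hPD := le_normalizer_inertia_C h _ hθ
  hidx := not_dvd_relIndex_inertia h θ

/-- The multiplicity formula, as a hypothesis. -/
def MultHyp (K Q C T D : Subgroup G) (hTK : T ≤ K) (hDT : D ≤ T) (hDC : D ≤ C) (hCK : C ≤ K)
    (θh : ↥T → ℂ) : Prop :=
  ∀ (χ : IrrCharacter ↥K) (β : IrrCharacter ↥T) (ξ : IrrCharacter ↥C) (γ : IrrCharacter ↥D),
    KerGE Q T (β : ↥T → ℂ) → ip (res hTK (χ : ↥K → ℂ)) (θh * (β : ↥T → ℂ)) ≠ 0 →
    KerGE Q D (γ : ↥D → ℂ) → ip (res hDC (ξ : ↥C → ℂ)) (res hDT θh * (γ : ↥D → ℂ)) ≠ 0 →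
    ip (res hCK (χ : ↥K → ℂ)) (ξ : ↥C → ℂ) = ip (res hDT (β : ↥T → ℂ)) (γ : ↥D → ℂ)

section param

variable {θ : IrrCharacter ↥Q} {T D : Subgroup G} (c : Ctx p P K Q C θ T D)
  (θh : IrrCharacter ↥T) (hext : res (c.hQD.trans c.hDT) (θh : ↥T → ℂ) = (θ : ↥Q → ℂ))
  (hθhP : PInv P T (θh : ↥T → ℂ))

include hext in
/-- The relation `[χ_T, θh β] ≠ 0` holds exactly for `χ = (θh β)^K`. -/
theorem rel_K_iff (χ : IrrCharacter ↥K) (β : IrrCharacter ↥T) (hβk : KerGE Q T (β : ↥T → ℂ)) :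
    ip (res c.hTK (χ : ↥K → ℂ)) ((θh : ↥T → ℂ) * (β : ↥T → ℂ)) ≠ 0 ↔
      (χ : ↥K → ℂ) = indSub c.hTK ((θh : ↥T → ℂ) * (β : ↥T → ℂ)) := by
  have hirr := cgA_irr_ind K T Q (c.hQD.trans c.hDT) c.hTK c.hyp.hKQ θ θ.2 c.hT θh θh.2 hext
    β β.2 hβk
  rcases cgA_rel K T c.hTK χ χ.2 ((θh : ↥T → ℂ) * (β : ↥T → ℂ)) hirr with ⟨h1, h2⟩ | ⟨h1, h2⟩
  · constructor
    · exact fun _ => h2
    · intro _
      rw [h1]
      exact one_ne_zero
  · constructor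
    · intro h
      exact absurd h1 h
    · intro h
      exact absurd h h2

include hext in
theorem isIrr_res_ext : IsIrrCharacter ↥D (res c.hDT (θh : ↥T → ℂ)) :=
  isIrr_res_of_ext θ c.hQD c.hDT θh (isCharacter_of_isIrrCharacter θh.2) hext

include hext in
/-- The relation `[ξ_D, θh₀ γ] ≠ 0` holds exactly for `ξ = (θh₀ γ)^C`. -/
theorem rel_C_iff (ξ : IrrCharacter ↥C) (γ : IrrCharacter ↥D) (hγk : KerGE Q D (γ : ↥D → ℂ)) :
    ip (res c.hDC (ξ : ↥C → ℂ)) (res c.hDT (θh : ↥T → ℂ) * (γ : ↥D → ℂ)) ≠ 0 ↔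
      (ξ : ↥C → ℂ) = indSub c.hDC (res c.hDT (θh : ↥T → ℂ) * (γ : ↥D → ℂ)) := by
  have hirr := cgA_irr_ind C D Q c.hQD c.hDC (c.hyp.hCK.trans c.hyp.hKQ) θ θ.2 c.hD
    (res c.hDT (θh : ↥T → ℂ)) (isIrr_res_ext c θh hext) hext γ γ.2 hγk
  rcases cgA_rel C D c.hDC ξ ξ.2 (res c.hDT (θh : ↥T → ℂ) * (γ : ↥D → ℂ)) hirr with
    ⟨h1, h2⟩ | ⟨h1, h2⟩
  · constructor
    · exact fun _ => h2
    · intro _
      rw [h1]
      exact one_ne_zero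
  · constructor
    · intro h
      exact absurd h1 h
    · intro h
      exact absurd h h2

include hext in
/-- Parametrization of the characters of `K` over `θ`. -/
theorem param_K (χ : IrrCharacter ↥K)
    (hov : ip (res c.hyp.hQK (χ : ↥K → ℂ)) (θ : ↥Q → ℂ) ≠ 0) :
    ∃ β : IrrCharacter ↥T, KerGE Q T (β : ↥T → ℂ) ∧
      (χ : ↥K → ℂ) = indSub c.hTK ((θh : ↥T → ℂ) * (β : ↥T → ℂ)) := by
  obtain ⟨b, hb, hbk, hχb⟩ := cgA_exists K T Q (c.hQD.trans c.hDT) c.hTK c.hyp.hKQ θ θ.2 c.hT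
    θh θh.2 hext χ χ.2 hov
  exact ⟨⟨b, hb⟩, hbk, hχb⟩

include hext in
/-- Parametrization of the characters of `C` over `θ`. -/
theorem param_C (ξ : IrrCharacter ↥C)
    (hov : ip (res c.hyp.hQC (ξ : ↥C → ℂ)) (θ : ↥Q → ℂ) ≠ 0) :
    ∃ γ : IrrCharacter ↥D, KerGE Q D (γ : ↥D → ℂ) ∧
      (ξ : ↥C → ℂ) = indSub c.hDC (res c.hDT (θh : ↥T → ℂ) * (γ : ↥D → ℂ)) := by
  obtain ⟨g, hg, hgk, hξg⟩ := cgA_exists C D Q c.hQD c.hDC (c.hyp.hCK.trans c.hyp.hKQ) θ θ.2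
    c.hD (res c.hDT (θh : ↥T → ℂ)) (isIrr_res_ext c θh hext) hext ξ ξ.2 hov
  exact ⟨⟨g, hg⟩, hgk, hξg⟩

include hext hθhP in
/-- The Gallagher parameter of a `P`-invariant character of `K` is `P`-invariant. -/
theorem param_K_pinv (χ : IrrCharacter ↥K) (hχ : PInv P K (χ : ↥K → ℂ)) (β : IrrCharacter ↥T)
    (hβk : KerGE Q T (β : ↥T → ℂ))
    (hχβ : (χ : ↥K → ℂ) = indSub c.hTK ((θh : ↥T → ℂ) * (β : ↥T → ℂ))) :
    PInv P T (β : ↥T → ℂ) := by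
  apply pinv_of_unique P K T Q c.hPT c.hyp.hPQ c.hTK θh hθhP χ hχ β hβk
  · intro β' hβ'k hne
    have h1 := (rel_K_iff c θh hext χ β' hβ'k).mp hne
    rw [hχβ] at h1
    have := cgA_ind_inj K T Q (c.hQD.trans c.hDT) c.hTK c.hyp.hKQ θ θ.2 c.hT θh θh.2 hext
      β β' β.2 β'.2 hβk hβ'k h1
    exact (Subtype.ext this).symm
  · exact (rel_K_iff c θh hext χ β hβk).mpr hχβ

include hext hθhP in
/-- The character of `K` with a `P`-invariant Gallagher parameter is `P`-invariant. -/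
theorem pinv_of_param_K (χ : IrrCharacter ↥K) (β : IrrCharacter ↥T)
    (hβk : KerGE Q T (β : ↥T → ℂ)) (hβP : PInv P T (β : ↥T → ℂ))
    (hχβ : (χ : ↥K → ℂ) = indSub c.hTK ((θh : ↥T → ℂ) * (β : ↥T → ℂ))) :
    PInv P K (χ : ↥K → ℂ) := by
  apply pinv_of_inj P K T c.hyp.hPK c.hPT c.hTK θh hθhP β hβP χ
  · exact (rel_K_iff c θh hext χ β hβk).mpr hχβ
  · intro χ' hne
    have h1 := (rel_K_iff c θh hext χ' β hβk).mp hne
    apply Subtype.ext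
    rw [h1, hχβ]

include hext hθhP in
/-- Every irreducible character of `C` over `θ` is `P`-invariant. -/
theorem pinv_of_over_C (ξ : IrrCharacter ↥C)
    (hov : ip (res c.hyp.hQC (ξ : ↥C → ℂ)) (θ : ↥Q → ℂ) ≠ 0) : PInv P C (ξ : ↥C → ℂ) := by
  obtain ⟨γ, hγk, hξγ⟩ := param_C c θh hext ξ hov
  have hγP : PInv P D (γ : ↥D → ℂ) :=
    pinv_of_kerGE P Q D c.hQD _ (isCharacter_of_isIrrCharacter γ.2) hγk
      (fun x hx d hd => ((c.hD' d).mp hd).2 x hx)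
  have hθh₀P : PInv P D (res c.hDT (θh : ↥T → ℂ)) := by
    intro x hx d d' hd
    exact hθhP x hx ⟨d, c.hDT d.2⟩ ⟨d', c.hDT d'.2⟩ hd
  have hPC : P ≤ Subgroup.normalizer (C : Set G) := by
    apply Cfsg.Agent.Lib.Helper8.GS.le_normalizer_of_conj_mem
    intro x hx t ht
    exact (toGS c.hyp).hPC hx ht
  apply pinv_of_inj P C D hPC c.hPD c.hDC (res c.hDT (θh : ↥T → ℂ)) hθh₀P _ hγP ξ
  · exact (rel_C_iff c θh hext ξ γ hγk).mpr hξγ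
  · intro ξ' hne
    have h1 := (rel_C_iff c θh hext ξ' γ hγk).mp hne
    apply Subtype.ext
    rw [h1, hξγ]

end param

end Cfsg.Agent.Lib.Helper8.GSN
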