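import Mathlib
import Cfsg.Agent.Lib.Helper8.GS8

/-!
# S4914, part 9: the three clauses of the local theorem, from the multiplicity formula.
-/

set_option autoImplicit false
set_option linter.style.haveILetI false
set_option linter.unusedSectionVars false
set_option linter.unusedVariables false

namespace Cfsg.Agent.Lib.Helper8.GSN

open Cfsg Cfsg.Agent.Lib.helper3.Irr Cfsg.Agent.Lib.helper3.CharBasic
open Cfsg.Agent.Lib.helper3.GNS Cfsg.Agent.H2.GSec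

variable {G : Type*} [Group G] [Finite G] {p : ℕ} [hp : Fact p.Prime] {P K Q C : Subgroup G}

variable {θ : IrrCharacter ↥Q} {T D : Subgroup G} (c : Ctx p P K Q C θ T D)
  (θh : IrrCharacter ↥T) (hext : res (c.hQD.trans c.hDT) (θh : ↥T → ℂ) = (θ : ↥Q → ℂ))
  (hθhP : PInv P T (θh : ↥T → ℂ))
  (hM : MultHyp K Q C T D c.hTK c.hDT c.hDC c.hyp.hCK (θh : ↥T → ℂ))

include hext hθhP hM in
/-- (Lc) surjectivity. -/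
theorem local_surj (ξ : IrrCharacter ↥C)
    (hξ : ip (res c.hyp.hQC (ξ : ↥C → ℂ)) (θ : ↥Q → ℂ) ≠ 0) :
    ∃ χ : IrrCharacter ↥K, PInv P K (χ : ↥K → ℂ) ∧
      ∃ m : ℕ, ip (res c.hyp.hCK (χ : ↥K → ℂ)) (ξ : ↥C → ℂ) = m ∧ ¬ p ∣ m := by
  obtain ⟨γ, hγk, hξγ⟩ := param_C c θh hext ξ hξ
  obtain ⟨β, hβk, hβP, m, hm, hpm⟩ := (glauberman_section p P T Q D c.hyp.hP c.hPT c.hyp.hPQ
    (c.hTK.trans c.hyp.hKQ) c.hQD c.hDT c.hD' c.hidx).2.2 γ hγk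
  have hirr := cgA_irr_ind K T Q (c.hQD.trans c.hDT) c.hTK c.hyp.hKQ θ θ.2 c.hT θh θh.2 hext
    β β.2 hβk
  refine ⟨⟨_, hirr⟩, pinv_of_param_K c θh hext hθhP ⟨_, hirr⟩ β hβk hβP rfl, m, ?_, hpm⟩
  rw [hM ⟨_, hirr⟩ β ξ γ hβk ((rel_K_iff c θh hext ⟨_, hirr⟩ β hβk).mpr rfl) hγk
    ((rel_C_iff c θh hext ξ γ hγk).mpr hξγ)]
  exact hm

include hext hθhP hM in
/-- (Lb) injectivity. -/
theorem local_inj (χ χ' : IrrCharacter ↥K) (hχ : PInv P K (χ : ↥K → ℂ))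
    (hχ' : PInv P K (χ' : ↥K → ℂ))
    (hov : ip (res c.hyp.hQK (χ : ↥K → ℂ)) (θ : ↥Q → ℂ) ≠ 0)
    (hov' : ip (res c.hyp.hQK (χ' : ↥K → ℂ)) (θ : ↥Q → ℂ) ≠ 0)
    (ξ : IrrCharacter ↥C) (hξ : ip (res c.hyp.hQC (ξ : ↥C → ℂ)) (θ : ↥Q → ℂ) ≠ 0) (m m' : ℕ)
    (hm : ip (res c.hyp.hCK (χ : ↥K → ℂ)) (ξ : ↥C → ℂ) = m) (hpm : ¬ p ∣ m)
    (hm' : ip (res c.hyp.hCK (χ' : ↥K → ℂ)) (ξ : ↥C → ℂ) = m') (hpm' : ¬ p ∣ m') : χ = χ' := by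
  obtain ⟨β, hβk, hχβ⟩ := param_K c θh hext χ hov
  obtain ⟨β', hβ'k, hχβ'⟩ := param_K c θh hext χ' hov'
  obtain ⟨γ, hγk, hξγ⟩ := param_C c θh hext ξ hξ
  have hβP := param_K_pinv c θh hext hθhP χ hχ β hβk hχβ
  have hβ'P := param_K_pinv c θh hext hθhP χ' hχ' β' hβ'k hχβ'
  have h1 := hM χ β ξ γ hβk ((rel_K_iff c θh hext χ β hβk).mpr hχβ) hγk
    ((rel_C_iff c θh hext ξ γ hγk).mpr hξγ)
  have h2 := hM χ' β' ξ γ hβ'k ((rel_K_iff c θh hext χ' β' hβ'k).mpr hχβ') hγk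
    ((rel_C_iff c θh hext ξ γ hγk).mpr hξγ)
  rw [h1] at hm
  rw [h2] at hm'
  have hββ' : β = β' := (glauberman_section p P T Q D c.hyp.hP c.hPT c.hyp.hPQ
    (c.hTK.trans c.hyp.hKQ) c.hQD c.hDT c.hD' c.hidx).2.1 β β' hβk hβP hβ'k hβ'P γ m m'
    hm hpm hm' hpm'
  apply Subtype.ext
  rw [hχβ, hχβ', hββ']

end Cfsg.Agent.Lib.Helper8.GSN
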