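import Mathlib
import Cfsg.Agent.Lib.Helper8.GS9

/-!
# S4914, part 10: the existence clause of the local theorem, from the multiplicity formula.
-/

set_option autoImplicit false
set_option linter.style.haveILetI false
set_option linter.unusedSectionVars false
set_option linter.unusedVariables false

namespace Cfsg.Agent.Lib.Helper8.GSN

open Cfsg Cfsg.Agent.Lib.helper3.Irr Cfsg.Agent.Lib.helper3.CharBasic
open Cfsg.Agent.Lib.helper3.GNS Cfsg.Agent.H2.GSec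

variable {G : Type*} [Group G] [Finite G] {p : ℕ} [hp : Fact p.Prime] {P K Q C : Subgroup G}

variable {θ : IrrCharacter ↥Q} {T D : Subgroup G} (c : Ctx p P K Q C θ T D)
  (θh : IrrCharacter ↥T) (hext : res (c.hQD.trans c.hDT) (θh : ↥T → ℂ) = (θ : ↥Q → ℂ))
  (hθhP : PInv P T (θh : ↥T → ℂ))
  (hM : MultHyp K Q C T D c.hTK c.hDT c.hDC c.hyp.hCK (θh : ↥T → ℂ))
  (hidxc : ((T.relIndex K : ℕ) : ZMod p) = ((D.relIndex C : ℕ) : ZMod p))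

include hext in
/-- `(θh₀ γ)^C` lies over `θ`. -/
theorem over_of_param_C (ξ : IrrCharacter ↥C) (γ : IrrCharacter ↥D)
    (hγk : KerGE Q D (γ : ↥D → ℂ))
    (hξγ : (ξ : ↥C → ℂ) = indSub c.hDC (res c.hDT (θh : ↥T → ℂ) * (γ : ↥D → ℂ))) :
    ip (res c.hyp.hQC (ξ : ↥C → ℂ)) (θ : ↥Q → ℂ) ≠ 0 := by
  classical
  letI : Fintype ↥Q := Fintype.ofFinite _
  have hirrD : IsIrrCharacter ↥D (res c.hDT (θh : ↥T → ℂ) * (γ : ↥D → ℂ)) :=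
    cgA_irr_mul C D Q c.hQD c.hDC (c.hyp.hCK.trans c.hyp.hKQ) θ θ.2 c.hD
      (res c.hDT (θh : ↥T → ℂ)) (isIrr_res_ext c θh hext) hext γ γ.2 hγk
  have h1 : ip (res c.hDC (ξ : ↥C → ℂ))
      ((⟨_, hirrD⟩ : IrrCharacter ↥D) : ↥D → ℂ) ≠ 0 :=
    (rel_C_iff c θh hext ξ γ hγk).mpr hξγ
  apply ip_res_ne_zero_of_constituent c.hQD c.hDC ξ ⟨_, hirrD⟩ h1 θ
  have e : res c.hQD (res c.hDT (θh : ↥T → ℂ) * (γ : ↥D → ℂ))
      = ((γ : ↥D → ℂ) 1) • (θ : ↥Q → ℂ) := by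
    funext q
    show (θh : ↥T → ℂ) ⟨q, _⟩ * (γ : ↥D → ℂ) ⟨q, _⟩ = (γ : ↥D → ℂ) 1 * (θ : ↥Q → ℂ) q
    have h2 : (θh : ↥T → ℂ) ⟨q, (c.hQD.trans c.hDT) q.2⟩ = (θ : ↥Q → ℂ) q := congrFun hext q
    rw [hγk ⟨q, c.hQD q.2⟩ q.2, mul_comm]
    congr 1
  show ip (res c.hQD (res c.hDT (θh : ↥T → ℂ) * (γ : ↥D → ℂ))) (θ : ↥Q → ℂ) ≠ 0
  rw [e, ip_eq_classInner, classInner_smul_left, irr_classInner_self θ.2, mul_one]
  exact apply_one_ne_zero γ.2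

include hext hθhP hM hidxc in
/-- (La) existence, congruences and degrees. -/
theorem local_exists (χ : IrrCharacter ↥K) (hχ : PInv P K (χ : ↥K → ℂ))
    (hov : ip (res c.hyp.hQK (χ : ↥K → ℂ)) (θ : ↥Q → ℂ) ≠ 0) :
    ∃ ξ₀ : IrrCharacter ↥C, PInv P C (ξ₀ : ↥C → ℂ) ∧
      ip (res c.hyp.hQC (ξ₀ : ↥C → ℂ)) (θ : ↥Q → ℂ) ≠ 0 ∧
      (∃ m : ℕ, ip (res c.hyp.hCK (χ : ↥K → ℂ)) (ξ₀ : ↥C → ℂ) = m ∧
        ((m : ZMod p) = 1 ∨ (m : ZMod p) = -1)) ∧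
      (∀ ξ : IrrCharacter ↥C, ip (res c.hyp.hQC (ξ : ↥C → ℂ)) (θ : ↥Q → ℂ) ≠ 0 → ξ ≠ ξ₀ →
        ∃ m : ℕ, ip (res c.hyp.hCK (χ : ↥K → ℂ)) (ξ : ↥C → ℂ) = m ∧ p ∣ m) ∧
      ((Cfsg.charDegree (ξ₀ : ↥C → ℂ) : ZMod p) = (Cfsg.charDegree (χ : ↥K → ℂ) : ZMod p) ∨
        (Cfsg.charDegree (ξ₀ : ↥C → ℂ) : ZMod p)
          = -(Cfsg.charDegree (χ : ↥K → ℂ) : ZMod p)) := by
  obtain ⟨β, hβk, hχβ⟩ := param_K c θh hext χ hov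
  have hβP := param_K_pinv c θh hext hθhP χ hχ β hβk hχβ
  obtain ⟨γ₀, ε, hγ₀k, hε, hall, d, d₀, hd, hd₀, hdd⟩ :=
    (glauberman_section p P T Q D c.hyp.hP c.hPT c.hyp.hPQ
      (c.hTK.trans c.hyp.hKQ) c.hQD c.hDT c.hD' c.hidx).1 β hβk hβP
  have hirrC := cgA_irr_ind C D Q c.hQD c.hDC (c.hyp.hCK.trans c.hyp.hKQ) θ θ.2 c.hD
    (res c.hDT (θh : ↥T → ℂ)) (isIrr_res_ext c θh hext) hext γ₀ γ₀.2 hγ₀k
  have hrelK := (rel_K_iff c θh hext χ β hβk).mpr hχβ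
  have hovξ₀ := over_of_param_C c θh hext ⟨_, hirrC⟩ γ₀ hγ₀k rfl
  refine ⟨⟨_, hirrC⟩, pinv_of_over_C c θh hext hθhP ⟨_, hirrC⟩ hovξ₀, hovξ₀, ?_, ?_, ?_⟩
  · obtain ⟨a, ha, h1, -, -⟩ := hall γ₀
    refine ⟨a, ?_, ?_⟩
    · rw [hM χ β ⟨_, hirrC⟩ γ₀ hβk hrelK hγ₀k
        ((rel_C_iff c θh hext ⟨_, hirrC⟩ γ₀ hγ₀k).mpr rfl)]
      exact ha
    · have h2 : (((a : ℕ) : ℤ) : ZMod p) = ((ε : ℤ) : ZMod p) :=
        (ZMod.intCast_eq_intCast_iff _ _ p).mpr (h1 rfl)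
      rw [Int.cast_natCast] at h2
      rw [h2]
      rcases hε with rfl | rfl
      · left
        simp
      · right
        simp
  · intro ξ hξ hne
    obtain ⟨γ, hγk, hξγ⟩ := param_C c θh hext ξ hξ
    have hγne : γ ≠ γ₀ := by
      intro h
      apply hne
      apply Subtype.ext
      rw [hξγ, h]
    obtain ⟨a, ha, -, h2, -⟩ := hall γ
    refine ⟨a, ?_, h2 hγne⟩
    rw [hM χ β ξ γ hβk hrelK hγk ((rel_C_iff c θh hext ξ γ hγk).mpr hξγ)]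
    exact ha
  · obtain ⟨t, ht⟩ := exists_nat_apply_one (isCharacter_of_isIrrCharacter θ.2)
    have hθh1 : (θh : ↥T → ℂ) 1 = t := by
      rw [← ht, ← hext]
      rfl
    apply degree_congr p (χ : ↥K → ℂ) _ (T.relIndex K) (D.relIndex C) t d d₀ ε hε _ _ hidxc hdd
    · rw [hχβ, indSub_apply_one, Pi.mul_apply, hθh1, hd]
    · show indSub c.hDC (res c.hDT (θh : ↥T → ℂ) * (γ₀ : ↥D → ℂ)) 1 = _
      rw [indSub_apply_one, Pi.mul_apply, hd₀]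
      have : res c.hDT (θh : ↥T → ℂ) 1 = t := by
        rw [← hθh1]
        rfl
      rw [this]

end Cfsg.Agent.Lib.Helper8.GSN
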