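import Mathlib
import Cfsg.Agent.Lib.Helper8.GS10
import Cfsg.Agent.Lib.Helper4.GNSM

/-!
# S4914, part 11: the local theorem over a `P`-fixed character of `Q`, and the final statement.
-/

set_option autoImplicit false
set_option linter.style.haveILetI false
set_option linter.unusedSectionVars false
set_option linter.unusedVariables false

namespace Cfsg.Agent.Lib.Helper8.GSN

open Cfsg Cfsg.Agent.Lib.helper3.Irr Cfsg.Agent.Lib.helper3.CharBasic
open Cfsg.Agent.Lib.helper3.GNS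

variable {G : Type*} [Group G] [Finite G] {p : ℕ} [hp : Fact p.Prime] {P K Q C : Subgroup G}

/-- **The local theorem** over a `P`-fixed irreducible character `θ` of `Q`. -/
theorem local_thm (h : Hyp p P K Q C) (θ : IrrCharacter ↥Q) (hθ : PInv P Q (θ : ↥Q → ℂ)) :
    Local p P K Q C h.hQK h.hQC h.hCK θ := by
  have c := ctx_inertia h θ hθ
  obtain ⟨θh, hext, hθhP⟩ := Cfsg.Agent.H1.GSInv.exists_inv_extension p h θ hθ _ rfl
    (le_inertia_K h θ)
  have hM : MultHyp K Q C (inertia K Q (θ : ↥Q → ℂ)) (inertia C Q (θ : ↥Q → ℂ))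
      c.hTK c.hDT c.hDC c.hyp.hCK (θh : ↥(inertia K Q (θ : ↥Q → ℂ)) → ℂ) := by
    intro χ β ξ γ hβk hχβ hγk hξγ
    exact Cfsg.Agent.Lib.Helper4.GNSM.mult_formula K C _ _ Q h.hCK h.hKQ θ c.hT c.hD c.hQD
      c.hDT c.hTK c.hDC θh hext χ β hβk hχβ ξ γ hγk hξγ
  have hidxc := relIndex_congr' h θ hθ
  exact ⟨local_exists c θh hext hθhP hM hidxc, local_inj c θh hext hθhP hM,
    local_surj c θh hext hθhP hM⟩

end Cfsg.Agent.Lib.Helper8.GSN
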