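import Mathlib
import Cfsg.Agent.Lib.Helper8.GSpFormB
import Cfsg.Agent.S0242

/-!
# Primes dividing the index of the symplectic-type subgroup of `SL_n(q)` (helper8)
-/

set_option autoImplicit false
set_option linter.unusedSectionVars false

namespace Cfsg.Agent.Lib.Helper8.GSpForm

open Matrix Module

section Arith

/-- `∏_{j < N} (q^(j+1) - 1)` for `N = 2m` splits into odd and even exponents -/
theorem prod_split (q m : ℕ) :
    ∏ j ∈ Finset.range (2 * m), (q ^ (j + 1) - 1) =
      (∏ i ∈ Finset.range m, (q ^ (2 * i + 1) - 1)) *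
        ∏ i ∈ Finset.range m, (q ^ (2 * (i + 1)) - 1) := by
  induction m with
  | zero => simp
  | succ m ih =>
    have : 2 * (m + 1) = 2 * m + 1 + 1 := by ring
    rw [this, Finset.prod_range_succ, Finset.prod_range_succ, ih, Finset.prod_range_succ,
      Finset.prod_range_succ]
    have e1 : 2 * m + 1 + 1 = 2 * (m + 1) := by ring
    rw [e1]
    ring

/-- the order formula of `GL_N(q)` rearranged -/
theorem prod_gl (q N : ℕ) :
    ∏ i ∈ Finset.range N, (q ^ N - q ^ i) =
      (∏ i ∈ Finset.range N, q ^ i) * ∏ j ∈ Finset.range N, (q ^ (j + 1) - 1) := by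
  rw [← Finset.prod_range_reflect (fun j => q ^ (j + 1) - 1) N, ← Finset.prod_mul_distrib]
  apply Finset.prod_congr rfl
  intro i hi
  have hi' := Finset.mem_range.1 hi
  have e1 : N - 1 - i + 1 = N - i := by omega
  rw [e1, Nat.mul_sub, mul_one, ← pow_add]
  congr 2
  omega

end Arith

variable {n : ℕ} {F : Type*} [Field F] [Fintype F] {f : (Fin n → F) → (Fin n → F) → F}

/-- a prime dividing the index of the symplectic-type subgroup of `SL_n(q)` divides `q` or some
`q ^ (2 i + 1) - 1` with `2 i + 1 < n` -/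
theorem dvd_of_dvd_index (hf : Cfsg.Geo.IsSymplecticForm f) (m : ℕ) (hn : n = 2 * m) (hm : 1 ≤ m)
    {q : ℕ} (hq : Fintype.card F = q) {r : ℕ} (hr : r.Prime)
    (hdvd : r ∣ ((Cfsg.Geo.similarityGroup f).comap
      (Matrix.SpecialLinearGroup.toGL : Matrix.SpecialLinearGroup (Fin n) F →* GL (Fin n) F)).index) :
    r ∣ q ∨ ∃ i < m, r ∣ q ^ (2 * i + 1) - 1 := by
  classical
  have hq2 : 2 ≤ q := by rw [← hq]; exact Fintype.one_lt_card
  have h1 : r ∣ (isoSub hf).index := dvd_trans hdvd (Subgroup.index_dvd_of_le (isoSub_le hf))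
  have h2 := Subgroup.index_mul_card (isoSub hf)
  rw [card_isoSub hf m hn, Cfsg.Agent.S0245.result hq m] at h2
  have h3 := Cfsg.Agent.S0242.result hq n (by omega)
  rw [← h2, Finset.prod_fin_eq_prod_range] at h3
  have h4 : ∏ i ∈ Finset.range n, (if h : i < n then q ^ n - q ^ ((⟨i, h⟩ : Fin n) : ℕ) else 1) =
      ∏ i ∈ Finset.range n, (q ^ n - q ^ i) := by
    apply Finset.prod_congr rfl
    intro i hi
    rw [dif_pos (Finset.mem_range.1 hi)]
  rw [h4, prod_gl q n] at h3
  generalize (isoSub hf).index = I at h1 h3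
  rw [hn, prod_split] at h3
  set Pe := ∏ i ∈ Finset.range m, (q ^ (2 * (i + 1)) - 1) with hPe
  set Po := ∏ i ∈ Finset.range m, (q ^ (2 * i + 1) - 1) with hPo
  have hPe0 : 0 < Pe := by
    apply Finset.prod_pos
    intro i _
    have : 1 < q ^ (2 * (i + 1)) := Nat.one_lt_pow (by omega) (by omega)
    omega
  have h5 : ((q - 1) * (I * q ^ m ^ 2)) * Pe =
      ((∏ i ∈ Finset.range (2 * m), q ^ i) * Po) * Pe := by
    rw [mul_assoc _ Po Pe, ← h3]
    ring
  have h6 := Nat.eq_of_mul_eq_mul_right hPe0 h5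
  have h7 : r ∣ (∏ i ∈ Finset.range (2 * m), q ^ i) * Po := by
    rw [← h6]
    exact Dvd.dvd.mul_left (Dvd.dvd.mul_right h1 _) _
  rcases (Nat.Prime.dvd_mul hr).1 h7 with h | h
  · left
    obtain ⟨i, -, hi⟩ := (Prime.dvd_finsetProd_iff (Nat.prime_iff.1 hr) _).1 h
    exact hr.dvd_of_dvd_pow hi
  · right
    obtain ⟨i, hi, hi'⟩ := (Prime.dvd_finsetProd_iff (Nat.prime_iff.1 hr) _).1 h
    exact ⟨i, Finset.mem_range.1 hi, hi'⟩

end Cfsg.Agent.Lib.Helper8.GSpForm
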