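import Mathlib
import Cfsg.Agent.Lib.Helper8.GSpFormD

/-!
# Witnesses of "type I" not conjugate into the symplectic-type subgroup; the unipotent witness
(helper8)
-/

set_option autoImplicit false
set_option linter.unusedSectionVars false

namespace Cfsg.Agent.Lib.Helper8.GSpForm

open Matrix Module

variable {n : ℕ} {F : Type*} [Field F] {f : (Fin n → F) → (Fin n → F) → F}

/-- abstract "type I" witness, given on any index type equivalent to `Fin n` -/
theorem exists_of_typeI (hf : Cfsg.Geo.IsSymplecticForm f) {κ : Type*} [Fintype κ] [DecidableEq κ]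
    (e : κ ≃ Fin n) (r : ℕ) (Y : Matrix κ κ F) (hdet : Y.det = 1) (hpow : Y ^ r = 1)
    (hns : ∀ z : F, Y ≠ z • (1 : Matrix κ κ F))
    (h1 : ∀ μ : F, μ ≠ 0 → μ ≠ 1 → (Y - μ • (1 : Matrix κ κ F)).det ≠ 0)
    (h2 : (Y - 1).det = 0)
    (h3 : Odd ((Y - 1) * (Y - 1)).rank) :
    ∃ x : Matrix.SpecialLinearGroup (Fin n) F,
      (∃ z : F, ((x ^ r : Matrix.SpecialLinearGroup (Fin n) F) : Matrix (Fin n) (Fin n) F) =
        z • (1 : Matrix (Fin n) (Fin n) F)) ∧
      (∀ z : F, (x : Matrix (Fin n) (Fin n) F) ≠ z • (1 : Matrix (Fin n) (Fin n) F)) ∧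
      ∀ P : Matrix.SpecialLinearGroup (Fin n) F, P⁻¹ * x * P ∉
        ((Cfsg.Geo.similarityGroup f).comap (Matrix.SpecialLinearGroup.toGL :
          Matrix.SpecialLinearGroup (Fin n) F →* GL (Fin n) F)) := by
  set E := Matrix.reindexAlgEquiv F F e with hE
  have hdetE : ∀ M : Matrix κ κ F, (E M).det = M.det := fun M => Matrix.det_reindexAlgEquiv F F e M
  have hrkE : ∀ M : Matrix κ κ F, (E M).rank = M.rank := fun M => by
    rw [hE, Matrix.coe_reindexAlgEquiv, Matrix.rank_reindex]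
  have hsubE : ∀ μ : F, E Y - μ • (1 : Matrix (Fin n) (Fin n) F) = E (Y - μ • (1 : Matrix κ κ F)) := by
    intro μ
    rw [map_sub, map_smul, map_one]
  have hsub1 : E Y - 1 = E (Y - 1) := by rw [map_sub, map_one]
  let x : Matrix.SpecialLinearGroup (Fin n) F := ⟨E Y, by rw [hdetE, hdet]⟩
  have hx : (x : Matrix (Fin n) (Fin n) F) = E Y := rfl
  refine ⟨x, ⟨1, ?_⟩, ?_, ?_⟩
  · rw [Matrix.SpecialLinearGroup.coe_pow, hx, ← map_pow, hpow, map_one, one_smul]
  · intro z hz
    rw [hx] at hz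
    apply hns z
    apply E.injective
    rw [hz, map_smul, map_one]
  · apply not_conj_typeI hf
    · intro μ hμ0 hμ1
      rw [hx, hsubE, hdetE]
      exact h1 μ hμ0 hμ1
    · rw [hx]
      have hd : (E Y - 1).det = 0 := by rw [hsub1, hdetE, h2]
      obtain ⟨v, hv, hv0⟩ := Matrix.exists_mulVec_eq_zero_iff.2 hd
      refine ⟨v, hv, ?_⟩
      rw [Matrix.sub_mulVec, Matrix.one_mulVec, sub_eq_zero] at hv0
      exact hv0
    · rw [hx, hsub1, ← map_mul, hrkE]
      exact h3

section Unipotent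

variable (n) (F)

/-- the nilpotent matrix `E₀₁ + E₁₂` -/
noncomputable def nilN (i0 i1 i2 : Fin n) : Matrix (Fin n) (Fin n) F :=
  Matrix.single i0 i1 1 + Matrix.single i1 i2 1

variable {n} {F}

theorem nilN_sq (i0 i1 i2 : Fin n) (h01 : i0 ≠ i1) (h12 : i1 ≠ i2) (h02 : i0 ≠ i2) :
    nilN n F i0 i1 i2 * nilN n F i0 i1 i2 = Matrix.single i0 i2 1 := by
  unfold nilN
  rw [Matrix.add_mul, Matrix.mul_add, Matrix.mul_add,
    Matrix.single_mul_single_of_ne _ _ _ _ h01.symm,
    Matrix.single_mul_single_same, Matrix.single_mul_single_of_ne _ _ _ _ h02.symm,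
    Matrix.single_mul_single_of_ne _ _ _ _ h12.symm, mul_one]
  simp

theorem nilN_cube (i0 i1 i2 : Fin n) (h01 : i0 ≠ i1) (h12 : i1 ≠ i2) (h02 : i0 ≠ i2) :
    nilN n F i0 i1 i2 * nilN n F i0 i1 i2 * nilN n F i0 i1 i2 = 0 := by
  rw [nilN_sq i0 i1 i2 h01 h12 h02]
  unfold nilN
  rw [Matrix.mul_add, Matrix.single_mul_single_of_ne _ _ _ _ h02.symm,
    Matrix.single_mul_single_of_ne _ _ _ _ h12.symm, add_zero]

theorem nilN_pow (i0 i1 i2 : Fin n) (h01 : i0 ≠ i1) (h12 : i1 ≠ i2) (h02 : i0 ≠ i2) (k : ℕ)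
    (hk : 3 ≤ k) : nilN n F i0 i1 i2 ^ k = 0 := by
  obtain ⟨j, rfl⟩ : ∃ j, k = 3 + j := ⟨k - 3, by omega⟩
  rw [pow_add, pow_succ, pow_two, nilN_cube i0 i1 i2 h01 h12 h02, zero_mul]

theorem nilN_blockTriangular (i0 i1 i2 : Fin n) (h01 : i0 < i1) (h12 : i1 < i2) :
    (nilN n F i0 i1 i2).BlockTriangular id := by
  intro i j hij
  simp only [id] at hij
  unfold nilN
  rw [Matrix.add_apply, Matrix.single_apply, Matrix.single_apply, if_neg, if_neg, add_zero]
  · rintro ⟨rfl, rfl⟩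
    exact absurd hij (not_lt.2 h12.le)
  · rintro ⟨rfl, rfl⟩
    exact absurd hij (not_lt.2 h01.le)

theorem nilN_diag (i0 i1 i2 : Fin n) (h01 : i0 ≠ i1) (h12 : i1 ≠ i2) (i : Fin n) :
    nilN n F i0 i1 i2 i i = 0 := by
  unfold nilN
  rw [Matrix.add_apply, Matrix.single_apply, Matrix.single_apply, if_neg, if_neg, add_zero]
  · rintro ⟨rfl, h⟩
    exact h12 h.symm
  · rintro ⟨rfl, h⟩
    exact h01 h.symm

/-- the unipotent witness in characteristic `p` odd -/
theorem exists_unipotent (hf : Cfsg.Geo.IsSymplecticForm f) (hn : 3 ≤ n) (p : ℕ) [Fact p.Prime]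
    [CharP F p] (hp2 : p ≠ 2) :
    ∃ x : Matrix.SpecialLinearGroup (Fin n) F,
      (∃ z : F, ((x ^ p : Matrix.SpecialLinearGroup (Fin n) F) : Matrix (Fin n) (Fin n) F) =
        z • (1 : Matrix (Fin n) (Fin n) F)) ∧
      (∀ z : F, (x : Matrix (Fin n) (Fin n) F) ≠ z • (1 : Matrix (Fin n) (Fin n) F)) ∧
      ∀ P : Matrix.SpecialLinearGroup (Fin n) F, P⁻¹ * x * P ∉
        ((Cfsg.Geo.similarityGroup f).comap (Matrix.SpecialLinearGroup.toGL :
          Matrix.SpecialLinearGroup (Fin n) F →* GL (Fin n) F)) := by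
  classical
  have hp : p.Prime := Fact.out
  have hp3 : 3 ≤ p := by
    have := hp.two_le
    omega
  set i0 : Fin n := ⟨0, by omega⟩ with hi0
  set i1 : Fin n := ⟨1, by omega⟩ with hi1
  set i2 : Fin n := ⟨2, by omega⟩ with hi2
  have h01 : i0 < i1 := by rw [hi0, hi1, Fin.mk_lt_mk]; omega
  have h12 : i1 < i2 := by rw [hi1, hi2, Fin.mk_lt_mk]; omega
  have h02 : i0 < i2 := h01.trans h12
  have : Nonempty (Fin n) := ⟨i0⟩
  set N := nilN n F i0 i1 i2 with hN
  have hNN : N * N = Matrix.single i0 i2 1 := nilN_sq i0 i1 i2 h01.ne h12.ne h02.ne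
  have hBT : ∀ μ : F, ((1 + N) - μ • (1 : Matrix (Fin n) (Fin n) F)).BlockTriangular id := by
    intro μ
    exact ((Matrix.blockTriangular_one).add (nilN_blockTriangular i0 i1 i2 h01 h12)).sub
      (by rw [Matrix.smul_one_eq_diagonal]; exact Matrix.blockTriangular_diagonal _)
  have hdetμ : ∀ μ : F, ((1 + N) - μ • (1 : Matrix (Fin n) (Fin n) F)).det = (1 - μ) ^ n := by
    intro μ
    rw [Matrix.det_of_isUpperTriangular (hBT μ)]
    have : ∀ i : Fin n, ((1 + N) - μ • (1 : Matrix (Fin n) (Fin n) F)) i i = 1 - μ := by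
      intro i
      rw [Matrix.sub_apply, Matrix.add_apply, Matrix.smul_apply, Matrix.one_apply_eq, hN,
        nilN_diag i0 i1 i2 h01.ne h12.ne, add_zero, smul_eq_mul, mul_one]
    rw [Finset.prod_congr rfl (fun i _ => this i), Finset.prod_const, Finset.card_univ,
      Fintype.card_fin]
  apply exists_of_typeI hf (Equiv.refl (Fin n)) p (1 + N)
  · have := hdetμ 0
    rwa [zero_smul, sub_zero, sub_zero, one_pow] at this
  · rw [add_pow_char_of_commute p (Commute.one_left N), one_pow,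
      nilN_pow i0 i1 i2 h01.ne h12.ne h02.ne p hp3, add_zero]
  · intro z hz
    have := congrFun (congrFun hz i0) i1
    rw [Matrix.add_apply, Matrix.smul_apply, Matrix.one_apply_ne h01.ne, hN] at this
    unfold nilN at this
    rw [Matrix.add_apply, Matrix.single_apply, Matrix.single_apply, if_pos ⟨rfl, rfl⟩,
      if_neg (fun h => h01.ne' h.1), smul_zero, zero_add, add_zero] at this
    exact one_ne_zero this
  · intro μ _ hμ1
    rw [hdetμ]
    exact pow_ne_zero _ (sub_ne_zero.2 (Ne.symm hμ1))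
  · have := hdetμ 1
    rw [one_smul, sub_self, zero_pow (by omega)] at this
    exact this
  · have e1 : (1 + N) - 1 = N := by abel
    rw [e1, hNN]
    have hle : (Matrix.single i0 i2 (1 : F)).rank ≤ 1 := by
      have : Matrix.single i0 i2 (1 : F) =
          Matrix.vecMulVec (Pi.single i0 1) (Pi.single i2 1) := by
        ext a b
        rw [Matrix.single_apply, Matrix.vecMulVec_apply, Pi.single_apply, Pi.single_apply]
        by_cases ha : a = i0 <;> by_cases hb : b = i2 <;> simp [ha, hb, eq_comm]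
      rw [this]
      exact Matrix.rank_vecMulVec_le _ _
    have hpos : 0 < (Matrix.single i0 i2 (1 : F)).rank := by
      apply rank_pos_of_ne_zero
      intro h0
      have := congrFun (congrFun h0 i0) i2
      rw [Matrix.single_apply_same, Matrix.zero_apply] at this
      exact one_ne_zero this
    have : (Matrix.single i0 i2 (1 : F)).rank = 1 := by omega
    rw [this]
    exact odd_one

end Unipotent

end Cfsg.Agent.Lib.Helper8.GSpForm
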