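import Mathlib
import Cfsg.Agent.Lib.Helper8.PrimeOrdD

/-!
# Degrees, number and self-reciprocity of the irreducible factors of `Φ_r` over a finite field
(helper8)
-/

set_option autoImplicit false
set_option linter.unusedSectionVars false

namespace Cfsg.Agent.Lib.Helper8.PrimeOrd

open Polynomial Cfsg.Agent.Lib.Helper8.SelfRec

universe u

section Cyc

variable {K : Type u} [Field K] [Fintype K] [DecidableEq K] {r : ℕ} [hr : Fact r.Prime]

theorem orderOf_unit_eq {p f : ℕ} (hn : p.Coprime r) :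
    orderOf (ZMod.unitOfCoprime (p ^ f) (hn.pow_left f)) = orderOf (((p ^ f : ℕ) : ZMod r)) := by
  rw [← orderOf_units, ZMod.coe_unitOfCoprime]

theorem natDegree_PP {p f : ℕ} [Fact p.Prime] (hK : Fintype.card K = p ^ f) (hn : p.Coprime r)
    (j : ↥(cycFactors K r)) :
    (PP K r j).natDegree = orderOf (((Fintype.card K : ℕ) : ZMod r)) := by
  rw [natDegree_of_dvd_cyclotomic_of_irreducible hK hn (PP_dvd_cyc j) (PP_irred j),
    orderOf_unit_eq hn, hK]

theorem card_cycFactors {p f : ℕ} [Fact p.Prime] (hK : Fintype.card K = p ^ f)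
    (hn : p.Coprime r) :
    Fintype.card ↥(cycFactors K r) = (r - 1) / orderOf (((Fintype.card K : ℕ) : ZMod r)) := by
  rw [Fintype.card_coe]
  unfold cycFactors
  rw [normalizedFactors_cyclotomic_card hK hn, orderOf_unit_eq hn, hK,
    Nat.totient_prime hr.out]

end Cyc

section Frob

variable {K : Type u} [Field K] [Fintype K]

/-- Frobenius conjugates of a root are roots -/
theorem aeval_pow_card_pow {L : Type*} [CommRing L] [Algebra K L] (h : K[X]) (x : L)
    (hx : aeval x h = 0) (k : ℕ) : aeval (x ^ (Fintype.card K ^ k)) h = 0 := by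
  induction k with
  | zero => simpa using hx
  | succ k ih =>
    have h1 : x ^ (Fintype.card K ^ (k + 1)) =
        FiniteField.frobeniusAlgHom K L (x ^ (Fintype.card K ^ k)) := by
      rw [FiniteField.coe_frobeniusAlgHom]
      change _ = (x ^ (Fintype.card K ^ k)) ^ Fintype.card K
      rw [← pow_mul, pow_succ]
    rw [h1, aeval_algHom_apply, ih, map_zero]

/-- if `Q ^ k ≡ -1 (mod r)`, an irreducible factor of `X ^ r - 1` is self-reciprocal -/
theorem rc_eq_self_of_pow_eq_neg_one {r : ℕ} {h : K[X]} (hm : h.Monic) (hi : Irreducible h)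
    (hd : h ∣ X ^ r - 1) (h0 : h.coeff 0 ≠ 0) (k : ℕ) (hk : r ∣ Fintype.card K ^ k + 1) :
    rc (RingHom.id K) h = h := by
  have : Fact (Irreducible h) := ⟨hi⟩
  set L := AdjoinRoot h
  set ζ : L := AdjoinRoot.root h
  have hζh : aeval ζ h = 0 := by
    rw [AdjoinRoot.aeval_eq, AdjoinRoot.mk_self]
  have hζr : ζ ^ r = 1 := by
    obtain ⟨u, hu⟩ := hd
    have := congrArg (aeval ζ) hu
    rw [map_mul, hζh, zero_mul, map_sub, map_pow, aeval_X, map_one, sub_eq_zero] at this
    exact this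
  have hζ0 : ζ ≠ 0 := by
    intro h0'
    rw [h0', zero_pow] at hζr
    · exact zero_ne_one hζr
    · intro hr0
      rw [hr0, pow_zero] at hζr
      obtain ⟨c, hc⟩ := hk
      rw [hr0, zero_mul] at hc
      omega
  -- `ζ⁻¹` is a Frobenius conjugate of `ζ`
  have hinv : ζ ^ (Fintype.card K ^ k) = ζ⁻¹ := by
    apply eq_inv_of_mul_eq_one_left
    rw [← pow_succ]
    obtain ⟨c, hc⟩ := hk
    rw [hc, pow_mul, hζr, one_pow]
  have h1 : aeval ζ⁻¹ h = 0 := by
    rw [← hinv]
    exact aeval_pow_card_pow h ζ hζh k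
  -- `ζ⁻¹` is a root of the reciprocal
  have h2 : aeval ζ⁻¹ (rc (RingHom.id K) h) = 0 := by
    unfold rc rv
    rw [Polynomial.map_id, map_mul]
    have h3 : aeval ζ⁻¹ h.reverse = 0 := by
      let _ : Invertible ζ := invertibleOfNonzero hζ0
      have := eval₂_reverse_eq_zero_iff (algebraMap K L) ζ h
      rw [invOf_eq_inv] at this
      rw [aeval_def, this, ← aeval_def]
      exact hζh
    rw [h3, mul_zero]
  have e1 := minpoly.eq_of_irreducible_of_monic hi h1 hm
  have e2 := minpoly.eq_of_irreducible_of_monic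
    (rc_irreducible (RingHom.id K) (fun _ => rfl) h0 hi) h2 (rc_monic (RingHom.id K) h0)
  rw [e2, ← e1]

end Frob

section Odd

variable {K : Type u} [Field K]

/-- a self-reciprocal polynomial of odd degree has a root `x` with `x ^ 2 = 1` -/
theorem exists_root_of_odd {h : K[X]} (hh : IsSR (RingHom.id K) h) (hodd : Odd h.natDegree) :
    ∃ x : K, x ^ 2 = 1 ∧ h.eval x = 0 := by
  set N := h.natDegree with hN
  set a0 := h.coeff 0 with ha0
  have hsq : a0 * a0 = 1 := hh.norm_coeff_zero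
  refine ⟨-a0, by rw [neg_sq, sq, hsq], ?_⟩
  have hx2 : (-a0) * (-a0) = 1 := by rw [neg_mul_neg, hsq]
  obtain ⟨u, hu⟩ := hodd
  -- coefficients: `coeff (N - k) = a0 * coeff k`
  have hc : ∀ k ≤ N, h.coeff (N - k) = a0 * h.coeff k := fun k hk => hh.coeff_rev k hk
  rw [eval_eq_sum_range, ← hN]
  have hlen : N + 1 = (u + 1) + (u + 1) := by omega
  rw [hlen, Finset.sum_range_add]
  have hpowN : ∀ k, k ≤ N → (-a0) ^ (N - k) = (-a0) * (-a0) ^ k := by
    intro k hk
    have h1 : (-a0) ^ (N - k) * (-a0) ^ k = (-a0) ^ N := by rw [← pow_add, Nat.sub_add_cancel hk]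
    have h2 : (-a0) ^ N = -a0 := by
      rw [hu, pow_succ, pow_mul, sq, hx2, one_pow, one_mul]
    have h3 : (-a0) ^ k * (-a0) ^ k = 1 := by rw [← mul_pow, hx2, one_pow]
    calc (-a0) ^ (N - k) = (-a0) ^ (N - k) * ((-a0) ^ k * (-a0) ^ k) := by rw [h3, mul_one]
      _ = ((-a0) ^ (N - k) * (-a0) ^ k) * (-a0) ^ k := by ring
      _ = _ := by rw [h1, h2]
  have hrefl : ∑ x ∈ Finset.range (u + 1), h.coeff (u + 1 + x) * (-a0) ^ (u + 1 + x) =
      ∑ x ∈ Finset.range (u + 1), h.coeff (N - x) * (-a0) ^ (N - x) := by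
    rw [← Finset.sum_range_reflect]
    apply Finset.sum_congr rfl
    intro x hx
    have hx' := Finset.mem_range.1 hx
    have : u + 1 + (u + 1 - 1 - x) = N - x := by omega
    rw [this]
  rw [hrefl, ← Finset.sum_add_distrib]
  apply Finset.sum_eq_zero
  intro k hk
  have hk' := Finset.mem_range.1 hk
  rw [hc k (by omega), hpowN k (by omega)]
  have : a0 * h.coeff k * (-a0 * (-a0) ^ k) = -(a0 * a0) * (h.coeff k * (-a0) ^ k) := by ring
  rw [this, hsq]
  ring

/-- an irreducible factor of `X ^ r - 1` (`r` odd) of odd degree not vanishing at `1` is not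
self-reciprocal -/
theorem rc_ne_self_of_odd {r : ℕ} (hr : Odd r) {h : K[X]} (hm : h.Monic)
    (hd : h ∣ X ^ r - 1) (h0 : h.coeff 0 ≠ 0) (h1 : h.eval 1 ≠ 0) (hodd : Odd h.natDegree) :
    rc (RingHom.id K) h ≠ h := by
  intro hrc
  have hsr := isSR_of_rc_eq (RingHom.id K) hm h0 hrc
  obtain ⟨x, hx2, hx⟩ := exists_root_of_odd hsr hodd
  -- `x ^ r = 1` and `x ^ 2 = 1` give `x = 1`
  have hxr : x ^ r = 1 := by
    obtain ⟨u, hu⟩ := hd
    have := congrArg (eval x) hu
    rw [eval_mul, hx, zero_mul, eval_sub, eval_pow, eval_X, eval_one, sub_eq_zero] at this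
    exact this
  obtain ⟨v, hv⟩ := hr
  have : x = 1 := by
    rw [hv, pow_succ, pow_mul, hx2, one_pow, one_mul] at hxr
    exact hxr
  rw [this] at hx
  exact h1 hx

end Odd

end Cfsg.Agent.Lib.Helper8.PrimeOrd
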