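import Mathlib
import Cfsg.Agent.Lib.Helper8.GSpFormE
import Cfsg.Agent.Lib.Helper8.PrimeOrdE
import Cfsg.Agent.H9.SemisimpleExists

/-!
# The semisimple block witness not conjugate into the symplectic-type subgroup (helper8)
-/

set_option autoImplicit false
set_option linter.unusedSectionVars false

namespace Cfsg.Agent.Lib.Helper8.GSpForm

open Matrix Module Polynomial Cfsg.Agent.Lib.Helper8.PrimeOrd

section Block

variable {F : Type*} [Field F]

/-- block-diagonal witness: `C` of odd size `c` without eigenvalues in `F`, of order `r`,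
determinant `1`, next to an identity block of positive size -/
theorem block_props {c m : ℕ} (hm : 0 < m) (hc : 0 < c) (hodd : Odd c) (r : ℕ)
    (C : Matrix (Fin c) (Fin c) F)
    (hCdet : C.det = 1) (hCr : C ^ r = 1)
    (hCev : ∀ μ : F, (C - μ • (1 : Matrix (Fin c) (Fin c) F)).det ≠ 0) :
    let Y : Matrix (Fin c ⊕ Fin m) (Fin c ⊕ Fin m) F := Matrix.fromBlocks C 0 0 1
    Y.det = 1 ∧ Y ^ r = 1 ∧ (∀ z : F, Y ≠ z • (1 : Matrix (Fin c ⊕ Fin m) (Fin c ⊕ Fin m) F)) ∧
    (∀ μ : F, μ ≠ 0 → μ ≠ 1 →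
      (Y - μ • (1 : Matrix (Fin c ⊕ Fin m) (Fin c ⊕ Fin m) F)).det ≠ 0) ∧
    (Y - 1).det = 0 ∧ Odd ((Y - 1) * (Y - 1)).rank := by
  classical
  intro Y
  have hY : Y = Matrix.fromBlocks C 0 0 1 := rfl
  have : Nonempty (Fin m) := ⟨⟨0, hm⟩⟩
  have : Nonempty (Fin c) := ⟨⟨0, hc⟩⟩
  have hsub : ∀ μ : F, Y - μ • (1 : Matrix (Fin c ⊕ Fin m) (Fin c ⊕ Fin m) F) =
      Matrix.fromBlocks (C - μ • (1 : Matrix (Fin c) (Fin c) F)) 0 0
        ((1 - μ) • (1 : Matrix (Fin m) (Fin m) F)) := by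
    intro μ
    rw [hY, ← Matrix.fromBlocks_one, Matrix.fromBlocks_smul, sub_eq_add_neg, Matrix.fromBlocks_neg,
      Matrix.fromBlocks_add, smul_zero, neg_zero, add_zero, sub_smul, one_smul, ← sub_eq_add_neg,
      ← sub_eq_add_neg, smul_zero, sub_zero, ← sub_eq_add_neg]
  have hsub1 : Y - 1 = Matrix.fromBlocks (C - 1) 0 0 0 := by
    have := hsub 1
    rwa [one_smul, one_smul, sub_self, zero_smul] at this
  refine ⟨?_, ?_, ?_, ?_, ?_, ?_⟩
  · rw [hY, Matrix.det_fromBlocks_zero₂₁, hCdet, Matrix.det_one, one_mul]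
  · rw [hY, Matrix.fromBlocks_diagonal_pow, hCr, one_pow, Matrix.fromBlocks_one]
  · intro z hz
    rw [hY, ← Matrix.fromBlocks_one, Matrix.fromBlocks_smul, Matrix.fromBlocks_inj] at hz
    obtain ⟨h1, -, -, h4⟩ := hz
    have hz1 : z = 1 := by
      have := congrFun (congrFun h4 ⟨0, hm⟩) ⟨0, hm⟩
      rw [Matrix.smul_apply, Matrix.one_apply_eq, smul_eq_mul, mul_one] at this
      exact this.symm
    apply hCev 1
    rw [h1, hz1, sub_self, Matrix.det_zero]
  · intro μ _ hμ1
    rw [hsub, Matrix.det_fromBlocks_zero₂₁, Matrix.det_smul, Matrix.det_one, mul_one]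
    exact mul_ne_zero (hCev μ) (pow_ne_zero _ (sub_ne_zero.2 (Ne.symm hμ1)))
  · rw [hsub1, Matrix.det_fromBlocks_zero₂₁, Matrix.det_zero, mul_zero]
  · rw [hsub1, Matrix.fromBlocks_multiply]
    simp only [Matrix.mul_zero, Matrix.zero_mul, add_zero]
    set A := (C - 1) * (C - 1) with hA
    have hAdet : IsUnit A.det := by
      rw [hA, Matrix.det_mul]
      have := hCev 1
      rw [one_smul] at this
      exact (mul_ne_zero this this).isUnit
    have e1 : Matrix.fromBlocks A 0 0 (0 : Matrix (Fin m) (Fin m) F) =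
        Matrix.fromBlocks A 0 0 1 * Matrix.fromBlocks 1 0 0 0 := by
      rw [Matrix.fromBlocks_multiply]
      simp
    have hdet2 : IsUnit (Matrix.fromBlocks A 0 0 (1 : Matrix (Fin m) (Fin m) F)).det := by
      rw [Matrix.det_fromBlocks_zero₂₁, Matrix.det_one, mul_one]
      exact hAdet
    rw [e1, Matrix.rank_mul_eq_right_of_isUnit_det _ _ hdet2]
    have e2 : Matrix.fromBlocks (1 : Matrix (Fin c) (Fin c) F) 0 0 (0 : Matrix (Fin m) (Fin m) F) =
        Matrix.diagonal (Sum.elim (fun _ => (1 : F)) (fun _ => (0 : F))) := by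
      ext (i | i) (j | j) <;> simp [Matrix.diagonal_apply, Matrix.one_apply]
    rw [e2, Matrix.rank_diagonal]
    have e3 : Fintype.card {i : Fin c ⊕ Fin m //
        Sum.elim (fun _ => (1 : F)) (fun _ => (0 : F)) i ≠ 0} = c := by
      rw [Fintype.card_subtype]
      have : (Finset.univ.filter (fun i : Fin c ⊕ Fin m =>
          Sum.elim (fun _ => (1 : F)) (fun _ => (0 : F)) i ≠ 0)) =
          Finset.univ.map ⟨Sum.inl, Sum.inl_injective⟩ := by
        ext i
        rcases i with i | i <;> simp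
      rw [this, Finset.card_map, Finset.card_univ, Fintype.card_fin]
    rw [e3]
    exact hodd

end Block

variable {n : ℕ} {F : Type*} [Field F] [Fintype F] {f : (Fin n → F) → (Fin n → F) → F}

/-- the semisimple witness of order `r` when `q` has odd order `c ≥ 2` modulo `r` and `c < n` -/
theorem exists_semisimple (hf : Cfsg.Geo.IsSymplecticForm f) (p : ℕ) [Fact p.Prime] [CharP F p]
    (r : ℕ) [hr : Fact r.Prime] (hrp : r ≠ p)
    (hc2 : 2 ≤ orderOf (((Fintype.card F : ℕ) : ZMod r)))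
    (hodd : Odd (orderOf (((Fintype.card F : ℕ) : ZMod r))))
    (hcn : orderOf (((Fintype.card F : ℕ) : ZMod r)) < n) :
    ∃ x : Matrix.SpecialLinearGroup (Fin n) F,
      (∃ z : F, ((x ^ r : Matrix.SpecialLinearGroup (Fin n) F) : Matrix (Fin n) (Fin n) F) =
        z • (1 : Matrix (Fin n) (Fin n) F)) ∧
      (∀ z : F, (x : Matrix (Fin n) (Fin n) F) ≠ z • (1 : Matrix (Fin n) (Fin n) F)) ∧
      ∀ P : Matrix.SpecialLinearGroup (Fin n) F, P⁻¹ * x * P ∉
        ((Cfsg.Geo.similarityGroup f).comap (Matrix.SpecialLinearGroup.toGL :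
          Matrix.SpecialLinearGroup (Fin n) F →* GL (Fin n) F)) := by
  classical
  have hp : p.Prime := Fact.out
  obtain ⟨fd, -, hcard⟩ := FiniteField.card F p
  have hcop : p.Coprime r := (Nat.coprime_primes hp hr.out).2 (Ne.symm hrp)
  have hr2 : 2 ≤ r := hr.out.two_le
  set x : ZMod r := ((Fintype.card F : ℕ) : ZMod r) with hx
  set c := orderOf x with hc
  have hx0 : x ≠ 0 := by
    rw [hx, Ne, ZMod.natCast_eq_zero_iff]
    intro hcon
    rw [hcard] at hcon
    have h3 : r ∣ p := hr.out.dvd_of_dvd_pow hcon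
    exact hrp ((Nat.prime_dvd_prime_iff_eq hr.out hp).1 h3)
  have hidvd : c ∣ r - 1 := orderOf_dvd_of_pow_eq_one (ZMod.pow_card_sub_one_eq_one hx0)
  have hcardα : Fintype.card ↥(cycFactors F r) = (r - 1) / c := card_cycFactors hcard hcop
  have hαpos : 0 < Fintype.card ↥(cycFactors F r) := by
    rw [hcardα]
    exact Nat.div_pos (Nat.le_of_dvd (by omega) hidvd) (by omega)
  obtain ⟨j₀⟩ : Nonempty ↥(cycFactors F r) := Fintype.card_pos_iff.1 hαpos
  have hdeg : (PP F r j₀).natDegree = c := natDegree_PP hcard hcop j₀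
  obtain ⟨g, -, hg⟩ := Cfsg.Agent.H9.SemisimpleExists.exists_gl p c (PP F r j₀) (PP_monic j₀) hdeg
    (PP_coeff_zero j₀)
  set C : Matrix (Fin c) (Fin c) F := (g : Matrix (Fin c) (Fin c) F) with hC
  -- `C ^ r = 1`
  have hCr : C ^ r = 1 := by
    obtain ⟨u, hu⟩ := PP_dvd j₀
    have h1 : aeval C (X ^ r - 1 : F[X]) = 0 := by
      rw [hu, ← hg, map_mul, Matrix.aeval_self_charpoly, zero_mul]
    rw [map_sub, map_pow, aeval_X, map_one, sub_eq_zero] at h1
    exact h1
  -- no eigenvalues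
  have hCev : ∀ μ : F, (C - μ • (1 : Matrix (Fin c) (Fin c) F)).det ≠ 0 := by
    intro μ h0
    have h1 : (C.charpoly).eval μ = 0 := by
      rw [Matrix.eval_charpoly]
      have : Matrix.scalar (Fin c) μ - C = -(C - μ • (1 : Matrix (Fin c) (Fin c) F)) := by
        rw [neg_sub, Matrix.smul_one_eq_diagonal]
        rfl
      rw [this, Matrix.det_neg, h0, mul_zero]
    rw [hg] at h1
    have h2 := Polynomial.degree_eq_one_of_irreducible_of_root (PP_irred j₀) h1
    have h3 : (PP F r j₀).natDegree = 1 := Polynomial.natDegree_eq_of_degree_eq_some h2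
    omega
  -- determinant
  have hCdet : C.det = 1 := by
    have h1 : C.det ^ r = 1 := by rw [← Matrix.det_pow, hCr, Matrix.det_one]
    have h0 : C.det ≠ 0 := by
      have := hCev 0
      rwa [zero_smul, sub_zero] at this
    have h2 : C.det ^ (Fintype.card F - 1) = 1 := FiniteField.pow_card_sub_one_eq_one _ h0
    have h3 : orderOf C.det ∣ r := orderOf_dvd_of_pow_eq_one h1
    have h4 : orderOf C.det ∣ Fintype.card F - 1 := orderOf_dvd_of_pow_eq_one h2
    rcases (Nat.dvd_prime hr.out).1 h3 with h5 | h5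
    · exact orderOf_eq_one_iff.1 h5
    · exfalso
      rw [h5] at h4
      have hq1 : 1 ≤ Fintype.card F := Fintype.card_pos
      have h6 : ((Fintype.card F - 1 : ℕ) : ZMod r) = 0 := (ZMod.natCast_eq_zero_iff _ _).2 h4
      rw [Nat.cast_sub hq1, Nat.cast_one, sub_eq_zero, ← hx] at h6
      have : c = 1 := by rw [hc, h6, orderOf_one]
      omega
  have hm : 0 < n - c := by omega
  obtain ⟨hY1, hY2, hY3, hY4, hY5, hY6⟩ := block_props hm (by omega) hodd r C hCdet hCr hCev
  exact exists_of_typeI hf (finSumFinEquiv.trans (finCongr (by omega))) r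
    (Matrix.fromBlocks C 0 0 1) hY1 hY2 hY3 hY4 hY5 hY6

end Cfsg.Agent.Lib.Helper8.GSpForm
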