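import Mathlib
import Cfsg.Agent.Lib.Helper8.GSpFormD

/-!
# The diagonal witness `diag(ζ, ζ, ζ⁻², 1, …, 1)` not conjugate into the symplectic-type
subgroup (helper8)
-/

set_option autoImplicit false
set_option linter.unusedSectionVars false

namespace Cfsg.Agent.Lib.Helper8.GSpForm

open Matrix Module

section Diag

variable {F : Type*} [Field F]

/-- the diagonal `(a, a, b, 1, …, 1)` -/
def dvec (k : ℕ) (a b : F) : Fin (k + 3) → F :=
  Fin.cons a (Fin.cons a (Fin.cons b (fun _ => 1)))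

theorem prod_dvec (k : ℕ) (a b : F) : ∏ i, dvec k a b i = a * a * b := by
  unfold dvec
  rw [Fin.prod_univ_succ, Fin.prod_univ_succ, Fin.prod_univ_succ]
  simp only [Fin.cons_zero, Fin.cons_succ, Finset.prod_const_one, mul_one, mul_assoc]

theorem dvec_pow (k : ℕ) (a b : F) (r : ℕ) (ha : a ^ r = 1) (hb : b ^ r = 1) (i : Fin (k + 3)) :
    dvec k a b i ^ r = 1 := by
  unfold dvec
  refine Fin.cases ?_ (fun i => ?_) i
  · rw [Fin.cons_zero]; exact ha
  rw [Fin.cons_succ]
  refine Fin.cases ?_ (fun i => ?_) i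
  · rw [Fin.cons_zero]; exact ha
  rw [Fin.cons_succ]
  refine Fin.cases ?_ (fun i => ?_) i
  · rw [Fin.cons_zero]; exact hb
  rw [Fin.cons_succ]; exact one_pow r

theorem dvec_zero (k : ℕ) (a b : F) : dvec k a b 0 = a := by
  unfold dvec
  simp

theorem dvec_last (k : ℕ) (a b : F) (j : Fin k) : dvec k a b j.succ.succ.succ = 1 := by
  unfold dvec
  simp

theorem rank_dvec [DecidableEq F] (k : ℕ) (a b μ : F) :
    (Matrix.diagonal (dvec k a b) - μ • (1 : Matrix (Fin (k + 3)) (Fin (k + 3)) F)).rank =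
      (if a = μ then 0 else 2) + (if b = μ then 0 else 1) + (if (1 : F) = μ then 0 else k) := by
  have e1 : Matrix.diagonal (dvec k a b) - μ • (1 : Matrix (Fin (k + 3)) (Fin (k + 3)) F) =
      Matrix.diagonal (fun i => dvec k a b i - μ) := by
    rw [Matrix.smul_one_eq_diagonal, ← Matrix.diagonal_sub]
  rw [e1, Matrix.rank_diagonal, Fintype.card_subtype, Finset.card_filter]
  unfold dvec
  rw [Fin.sum_univ_succ, Fin.sum_univ_succ, Fin.sum_univ_succ]
  simp only [Fin.cons_zero, Fin.cons_succ, Finset.sum_const, Finset.card_univ, Fintype.card_fin,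
    smul_eq_mul, sub_ne_zero]
  by_cases h1 : a = μ <;> by_cases h2 : b = μ <;> by_cases h3 : (1 : F) = μ <;>
    simp [h1, h2, h3] <;> omega

end Diag

variable {F : Type*} [Field F]

/-- the diagonal witness -/
theorem exists_diag {k : ℕ} {f : (Fin (k + 3) → F) → (Fin (k + 3) → F) → F}
    (hf : Cfsg.Geo.IsSymplecticForm f) (hk : Odd k)
    (r : ℕ) [hr : Fact r.Prime] (hr2 : r ≠ 2) (hgap : ¬ (k = 3 ∧ r = 3))
    (ζ : F) (hζr : ζ ^ r = 1) (hζ1 : ζ ≠ 1) :
    ∃ x : Matrix.SpecialLinearGroup (Fin (k + 3)) F,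
      (∃ z : F, ((x ^ r : Matrix.SpecialLinearGroup (Fin (k + 3)) F) :
        Matrix (Fin (k + 3)) (Fin (k + 3)) F) = z • (1 : Matrix (Fin (k + 3)) (Fin (k + 3)) F)) ∧
      (∀ z : F, (x : Matrix (Fin (k + 3)) (Fin (k + 3)) F) ≠
        z • (1 : Matrix (Fin (k + 3)) (Fin (k + 3)) F)) ∧
      ∀ P : Matrix.SpecialLinearGroup (Fin (k + 3)) F, P⁻¹ * x * P ∉
        ((Cfsg.Geo.similarityGroup f).comap (Matrix.SpecialLinearGroup.toGL :
          Matrix.SpecialLinearGroup (Fin (k + 3)) F →* GL (Fin (k + 3)) F)) := by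
  classical
  have hrp : r.Prime := hr.out
  have hk1 : 1 ≤ k := by
    obtain ⟨t, ht⟩ := hk
    omega
  have hζ0 : ζ ≠ 0 := by
    intro h0
    rw [h0, zero_pow hrp.ne_zero] at hζr
    exact zero_ne_one hζr
  have hord : orderOf ζ = r := orderOf_eq_prime hζr hζ1
  have hpow : ∀ j : ℕ, ζ ^ j = 1 → r ∣ j := fun j hj => by
    rw [← hord]
    exact orderOf_dvd_of_pow_eq_one hj
  have hζ2 : ζ ^ 2 ≠ 1 := by
    intro h
    have := Nat.le_of_dvd (by norm_num) (hpow 2 h)
    have := hrp.two_le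
    omega
  have hζ4 : ζ ^ 4 ≠ 1 := by
    intro h
    have h1 : r ∣ 2 ^ 2 := by
      have := hpow 4 h
      norm_num
      exact this
    have := Nat.le_of_dvd (by norm_num) (hrp.dvd_of_dvd_pow h1)
    have := hrp.two_le
    omega
  have hζ3 : ζ ^ 3 = 1 → r = 3 := by
    intro h
    exact (Nat.prime_dvd_prime_iff_eq hrp Nat.prime_three).1 (hpow 3 h)
  set ζ' : F := (ζ ^ 2)⁻¹ with hζ'
  have hζζ' : ζ ^ 2 * ζ' = 1 := mul_inv_cancel₀ (pow_ne_zero 2 hζ0)
  have hζ'0 : ζ' ≠ 0 := inv_ne_zero (pow_ne_zero 2 hζ0)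
  have hζ'1 : ζ' ≠ 1 := by
    intro h
    rw [h, mul_one] at hζζ'
    exact hζ2 hζζ'
  have hζ'r : ζ' ^ r = 1 := by
    rw [hζ', inv_pow, ← pow_mul, mul_comm, pow_mul, hζr, one_pow, inv_one]
  set d := dvec k ζ ζ' with hd
  have hdet : (Matrix.diagonal d).det = 1 := by
    rw [Matrix.det_diagonal, hd, prod_dvec, ← pow_two, hζζ']
  let x : Matrix.SpecialLinearGroup (Fin (k + 3)) F := ⟨Matrix.diagonal d, hdet⟩
  have hx : (x : Matrix (Fin (k + 3)) (Fin (k + 3)) F) = Matrix.diagonal d := rfl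
  refine ⟨x, ⟨1, ?_⟩, ?_, ?_⟩
  · rw [Matrix.SpecialLinearGroup.coe_pow, hx, Matrix.diagonal_pow, one_smul,
      ← Matrix.diagonal_one]
    congr 1
    funext i
    exact dvec_pow k ζ ζ' r hζr hζ'r i
  · intro z hz
    rw [hx, Matrix.smul_one_eq_diagonal, Matrix.diagonal_eq_diagonal_iff] at hz
    have h0 := hz 0
    have h3 := hz (⟨0, hk1⟩ : Fin k).succ.succ.succ
    rw [hd, dvec_zero] at h0
    rw [hd, dvec_last] at h3
    exact hζ1 (h0.trans h3.symm)
  · intro P hP
    obtain ⟨c, hc0, hrk, -⟩ := conj_consequence hf x P hP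
    rw [hx] at hrk
    have key : ∀ μ : F, μ ≠ 0 →
        (if ζ = μ then 0 else 2) + (if ζ' = μ then 0 else 1) + (if (1 : F) = μ then 0 else k) =
        (if ζ = c / μ then 0 else 2) + (if ζ' = c / μ then 0 else 1) +
          (if (1 : F) = c / μ then 0 else k) := by
      intro μ hμ
      have := hrk μ hμ
      rwa [hd, rank_dvec, rank_dvec] at this
    have e1 := key 1 one_ne_zero
    rw [div_one, if_neg hζ1, if_neg hζ'1, if_pos rfl] at e1
    by_cases hc1 : c = 1
    · -- multiplier `1`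
      have e2 := key ζ hζ0
      rw [hc1, if_pos rfl, if_neg (Ne.symm hζ1)] at e2
      have n1 : ζ ≠ 1 / ζ := by
        intro h
        rw [eq_div_iff hζ0, ← pow_two] at h
        exact hζ2 h
      have n2 : ζ' ≠ 1 / ζ := by
        intro h
        rw [eq_div_iff hζ0] at h
        have : ζ = 1 := by
          calc ζ = ζ * (ζ' * ζ) := by rw [h, mul_one]
            _ = ζ ^ 2 * ζ' := by ring
            _ = 1 := hζζ'
        exact hζ1 this
      have n3 : (1 : F) ≠ 1 / ζ := by
        intro h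
        rw [eq_div_iff hζ0, one_mul] at h
        exact hζ1 h
      rw [if_neg n1, if_neg n2, if_neg n3] at e2
      split_ifs at e2 <;> omega
    · rw [if_neg (Ne.symm hc1)] at e1
      by_cases hcζ : ζ = c
      · rw [if_pos hcζ] at e1
        by_cases hζζ : ζ' = ζ
        · rw [if_pos (hζζ.trans hcζ)] at e1
          apply hgap
          refine ⟨by omega, hζ3 ?_⟩
          calc ζ ^ 3 = ζ ^ 2 * ζ := pow_succ ζ 2
            _ = ζ ^ 2 * ζ' := by rw [hζζ]
            _ = 1 := hζζ'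
        · rw [if_neg (fun h => hζζ (h.trans hcζ.symm))] at e1
          obtain ⟨t, ht⟩ := hk
          omega
      · rw [if_neg hcζ] at e1
        have hcζ' : ζ' = c := by
          by_contra h
          rw [if_neg h] at e1
          omega
        rw [if_pos hcζ'] at e1
        have hk1' : k = 1 := by omega
        have e2 := key ζ hζ0
        rw [if_pos rfl, if_neg (Ne.symm hζ1), ← hcζ'] at e2
        have n1 : ζ ≠ ζ' / ζ := by
          intro h
          rw [eq_div_iff hζ0, ← pow_two] at h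
          apply hζ4
          have : ζ ^ 4 = ζ ^ 2 * ζ ^ 2 := by ring
          rw [this]
          nth_rewrite 2 [h]
          exact hζζ'
        have n2 : ζ' ≠ ζ' / ζ := by
          intro h
          rw [eq_div_iff hζ0] at h
          have : ζ' * ζ = ζ' * 1 := by rw [h, mul_one]
          exact hζ1 (mul_left_cancel₀ hζ'0 this)
        rw [if_neg n1, if_neg n2] at e2
        split_ifs at e2 <;> omega

end Cfsg.Agent.Lib.Helper8.GSpForm
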