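import Mathlib
import Cfsg.Agent.Lib.Helper8.GUConjD

/-!
# Hilbert 90 by counting, and the twisted adjoint `Θ` (helper8)
-/

set_option autoImplicit false

namespace Cfsg.Agent.Lib.Helper8.GUSim

open Polynomial Cfsg.Agent.Lib.Helper8.SUReg Cfsg.Agent.Lib.Helper8.GUConj

section abstract

variable {H : Type*} [CommGroup H] [Finite H]

/-- Hilbert 90 for a finite abelian group with an involution, from surjectivity of the norm -/
theorem hilbert90_of_norm_surj (θ : H →* H) (hθ2 : ∀ c, θ (θ c) = c)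
    (hnorm : ∀ c, θ c = c → ∃ t, t * θ t = c) (w : H) (hw : w * θ w = 1) :
    ∃ c : H, c = w * θ c := by
  classical
  set N : H →* H := MonoidHom.id H * θ with hN
  set D : H →* H := MonoidHom.id H / θ with hD
  have hNapp : ∀ c, N c = c * θ c := fun c => rfl
  have hDapp : ∀ c, D c = c / θ c := fun c => rfl
  have hrangeN : N.range = D.ker := by
    ext c
    rw [MonoidHom.mem_range, MonoidHom.mem_ker, hDapp, div_eq_one]
    constructor
    · rintro ⟨t, rfl⟩
      rw [hNapp, map_mul, hθ2, mul_comm]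
    · intro h
      obtain ⟨t, ht⟩ := hnorm c h.symm
      exact ⟨t, ht⟩
  have hle : D.range ≤ N.ker := by
    rintro _ ⟨c, rfl⟩
    rw [MonoidHom.mem_ker, hNapp, hDapp, _root_.map_div, hθ2]
    rw [div_mul_div_cancel, div_self']
  have hcard : Nat.card N.ker ≤ Nat.card D.range := by
    have h1 : Nat.card N.ker * Nat.card N.range = Nat.card H := by
      rw [← Subgroup.index_ker, Subgroup.card_mul_index]
    have h2 : Nat.card D.ker * Nat.card D.range = Nat.card H := by
      rw [← Subgroup.index_ker, Subgroup.card_mul_index]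
    rw [hrangeN] at h1
    have hpos : 0 < Nat.card D.ker := Nat.card_pos
    have h3 : Nat.card N.ker * Nat.card D.ker = Nat.card D.range * Nat.card D.ker := by
      rw [h1, mul_comm, h2]
    exact le_of_eq (Nat.eq_of_mul_eq_mul_right hpos h3)
  have heq : D.range = N.ker := Subgroup.eq_of_le_of_card_ge hle hcard
  have hwk : w ∈ N.ker := by rw [MonoidHom.mem_ker, hNapp]; exact hw
  rw [← heq] at hwk
  obtain ⟨c, hc⟩ := hwk
  refine ⟨c, ?_⟩
  rw [hDapp] at hc
  rw [← hc, div_mul_cancel]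

end abstract

section theta

variable {K : Type*} [Field K] (σ : K →+* K) {n : ℕ}

/-- the twisted adjoint `c ↦ Gi * adj c * G` -/
def Th (G Gi c : Matrix (Fin n) (Fin n) K) : Matrix (Fin n) (Fin n) K := Gi * adj σ c * G

variable (G Gi : Matrix (Fin n) (Fin n) K)

theorem Th_add (c c' : Matrix (Fin n) (Fin n) K) : Th σ G Gi (c + c') = Th σ G Gi c + Th σ G Gi c' := by
  unfold Th
  rw [adj_add, Matrix.mul_add, Matrix.add_mul]

theorem Th_zero : Th σ G Gi 0 = 0 := by
  unfold Th
  rw [adj_zero, Matrix.mul_zero, Matrix.zero_mul]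

theorem Th_smul (a : K) (c : Matrix (Fin n) (Fin n) K) : Th σ G Gi (a • c) = σ a • Th σ G Gi c := by
  unfold Th
  rw [adj_smul, Matrix.mul_smul, Matrix.smul_mul]

theorem Th_mul (hG : G * Gi = 1) (c c' : Matrix (Fin n) (Fin n) K) :
    Th σ G Gi (c * c') = Th σ G Gi c' * Th σ G Gi c := by
  unfold Th
  rw [adj_mul]
  calc Gi * (adj σ c' * adj σ c) * G = Gi * adj σ c' * 1 * adj σ c * G := by
        rw [Matrix.mul_one]; simp only [Matrix.mul_assoc]
    _ = Gi * adj σ c' * G * (Gi * adj σ c * G) := by rw [← hG]; simp only [Matrix.mul_assoc]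

theorem Th_one (hGi : Gi * G = 1) : Th σ G Gi 1 = 1 := by
  unfold Th
  rw [adj_one, Matrix.mul_one, hGi]

theorem Th_pow (hG : G * Gi = 1) (hGi : Gi * G = 1) (c : Matrix (Fin n) (Fin n) K) (k : ℕ) :
    Th σ G Gi (c ^ k) = Th σ G Gi c ^ k := by
  induction k with
  | zero => rw [pow_zero, pow_zero, Th_one σ G Gi hGi]
  | succ k ih => rw [pow_succ, Th_mul σ G Gi hG, ih, pow_succ']

theorem Th_sum {ι : Type*} (s : Finset ι) (f : ι → Matrix (Fin n) (Fin n) K) :
    Th σ G Gi (∑ i ∈ s, f i) = ∑ i ∈ s, Th σ G Gi (f i) := by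
  classical
  induction s using Finset.induction_on with
  | empty => rw [Finset.sum_empty, Finset.sum_empty, Th_zero]
  | insert a s ha ih => rw [Finset.sum_insert ha, Finset.sum_insert ha, Th_add, ih]

theorem Th_aeval (hG : G * Gi = 1) (hGi : Gi * G = 1) (c : Matrix (Fin n) (Fin n) K) (p : K[X]) :
    Th σ G Gi (aeval c p) = aeval (Th σ G Gi c) (p.map σ) := by
  rw [Polynomial.aeval_eq_sum_range, Polynomial.aeval_eq_sum_range, Th_sum,
    Polynomial.natDegree_map]
  refine Finset.sum_congr rfl (fun i _ => ?_)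
  rw [Th_smul, Th_pow σ G Gi hG hGi, Polynomial.coeff_map]

theorem det_Th (hGi : Gi * G = 1) (c : Matrix (Fin n) (Fin n) K) :
    (Th σ G Gi c).det = σ c.det := by
  unfold Th
  have h1 : Gi.det * G.det = 1 := by rw [← Matrix.det_mul, hGi, Matrix.det_one]
  rw [Matrix.det_mul, Matrix.det_mul, det_adj]
  calc Gi.det * σ c.det * G.det = (Gi.det * G.det) * σ c.det := by ring
    _ = σ c.det := by rw [h1, one_mul]

/-- the characteristic polynomial of a `Θ`-fixed matrix is `σ`-stable -/
theorem charpoly_of_Th_fixed (hG : G * Gi = 1) (c : Matrix (Fin n) (Fin n) K)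
    (hc : Th σ G Gi c = c) : c.charpoly.map σ = c.charpoly := by
  have h1 : adj σ c = G * c * Gi := by
    unfold Th at hc
    calc adj σ c = (G * Gi) * adj σ c * (G * Gi) := by rw [hG, Matrix.one_mul, Matrix.mul_one]
      _ = G * (Gi * adj σ c * G) * Gi := by simp only [Matrix.mul_assoc]
      _ = G * c * Gi := by rw [hc]
  rw [← charpoly_adj, h1]
  have hu : IsUnit G := ⟨⟨G, Gi, hG, mul_eq_one_comm.1 hG⟩, rfl⟩
  obtain ⟨u, hu'⟩ := hu
  have hGi' : Gi = ((u⁻¹ : (Matrix (Fin n) (Fin n) K)ˣ) : Matrix (Fin n) (Fin n) K) := by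
    have e1 : (u : Matrix (Fin n) (Fin n) K) * Gi = 1 := by rw [hu', hG]
    calc Gi = ((u⁻¹ : (Matrix (Fin n) (Fin n) K)ˣ) : Matrix (Fin n) (Fin n) K) * (u * Gi) := by
          rw [← Matrix.mul_assoc, ← Units.val_mul, inv_mul_cancel, Units.val_one, Matrix.one_mul]
      _ = _ := by rw [e1, Matrix.mul_one]
  rw [← hu', hGi', Matrix.coe_units_inv]
  exact Matrix.charpoly_units_conj u c

/-- a matrix with `σ`-stable characteristic polynomial is a norm from the algebra it generates -/
theorem exists_poly_norm_of_charpoly_stable [Finite K] (hσ2 : ∀ a : K, σ (σ a) = a)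
    (hσne : σ ≠ RingHom.id K) (htr : ∀ b : K, σ b = b → ∃ y : K, y + σ y = b)
    (s : Matrix (Fin n) (Fin n) K) (hmσ : s.charpoly.map σ = s.charpoly) (hdet : s.det ≠ 0) :
    ∃ p : K[X], aeval s (p.map σ) * aeval s p = s := by
  have hmon : s.charpoly.Monic := Matrix.charpoly_monic s
  have hcop : IsCoprime (X : K[X]) s.charpoly := by
    rw [Polynomial.irreducible_X.coprime_iff_not_dvd, Polynomial.X_dvd_iff]
    intro h0
    apply hdet
    rw [Matrix.det_eq_sign_charpoly_coeff, h0, mul_zero]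
  obtain ⟨p, hp⟩ := isNormMod_of_stable σ hσ2 hσne htr s.charpoly.natDegree s.charpoly rfl hmon hmσ
    X (by rw [Polynomial.map_X, sub_self]; exact dvd_zero _) hcop
  refine ⟨p, ?_⟩
  rw [← map_mul]
  obtain ⟨r, hr⟩ := hp
  have e : p.map σ * p = X + s.charpoly * r := by rw [← hr]; ring
  rw [e, map_add, aeval_X, map_mul, Matrix.aeval_self_charpoly, zero_mul, add_zero]

end theta

end Cfsg.Agent.Lib.Helper8.GUSim
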