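import Mathlib
import Cfsg.Agent.Lib.Helper8.GUSimA

/-!
# Invariant sesquilinear forms can be made Hermitian (helper8)
-/

set_option autoImplicit false

namespace Cfsg.Agent.Lib.Helper8.GUSim

open Polynomial Cfsg.Agent.Lib.Helper8.SUReg Cfsg.Agent.Lib.Helper8.GUConj

variable {K : Type*} [Field K] [Finite K] (σ : K →+* K) {n : ℕ}

/-- the invertible polynomials in `w` -/
def polyUnits (w : Matrix (Fin n) (Fin n) K) : Subgroup (GL (Fin n) K) where
  carrier := {c | ∃ p : K[X], (c : Matrix (Fin n) (Fin n) K) = aeval w p}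
  one_mem' := ⟨1, by rw [Units.val_one, map_one]⟩
  mul_mem' := by
    rintro a b ⟨p, hp⟩ ⟨q, hq⟩
    exact ⟨p * q, by rw [Units.val_mul, hp, hq, map_mul]⟩
  inv_mem' := by
    rintro a ⟨p, hp⟩
    refine ⟨p ^ (orderOf a - 1), ?_⟩
    have h1 : a ^ (orderOf a - 1) = a⁻¹ := eq_inv_of_mul_eq_one_left (by
      rw [← pow_succ, Nat.sub_add_cancel (orderOf_pos a), pow_orderOf_eq_one])
    rw [← h1, Units.val_pow_eq_pow_val, hp, map_pow]

theorem mem_polyUnits (w : Matrix (Fin n) (Fin n) K) (c : GL (Fin n) K) :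
    c ∈ polyUnits w ↔ ∃ p : K[X], (c : Matrix (Fin n) (Fin n) K) = aeval w p := Iff.rfl

theorem polyUnits_comm (w : Matrix (Fin n) (Fin n) K) (a b : GL (Fin n) K) (ha : a ∈ polyUnits w)
    (hb : b ∈ polyUnits w) : a * b = b * a := by
  obtain ⟨p, hp⟩ := ha
  obtain ⟨q, hq⟩ := hb
  apply Units.ext
  rw [Units.val_mul, Units.val_mul, hp, hq, ← map_mul, ← map_mul, mul_comm]

/-- the commutative group structure -/
@[instance_reducible]
noncomputable def polyUnitsCommGroup (w : Matrix (Fin n) (Fin n) K) : CommGroup ↥(polyUnits w) :=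
  { (inferInstance : Group ↥(polyUnits w)) with
    mul_comm := fun a b => Subtype.ext (polyUnits_comm w a b a.2 b.2) }

/-- a matrix with a two-sided inverse as an element of `GL` -/
def mkGL (c ci : Matrix (Fin n) (Fin n) K) (h1 : c * ci = 1) (h2 : ci * c = 1) : GL (Fin n) K :=
  ⟨c, ci, h1, h2⟩

/-- from an invertible invariant sesquilinear form to an invertible invariant Hermitian form -/
theorem exists_hermitian_invariant (hσ2 : ∀ a : K, σ (σ a) = a) (hσne : σ ≠ RingHom.id K)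
    (htr : ∀ b : K, σ b = b → ∃ y : K, y + σ y = b) (A g₀ : Matrix (Fin n) (Fin n) K)
    (hA : A.det ≠ 0) (hg₀ : g₀.det ≠ 0) (hinv : adj σ A * g₀ * A = g₀) :
    ∃ h : Matrix (Fin n) (Fin n) K, adj σ h = h ∧ h.det ≠ 0 ∧ adj σ A * h * A = h := by
  classical
  -- inverses
  set G := adj σ g₀ with hG
  have hGdet : G.det ≠ 0 := by rw [hG, det_adj, Ne, map_eq_zero]; exact hg₀
  set Gi := G⁻¹ with hGi
  have hGGi : G * Gi = 1 := Matrix.mul_nonsing_inv G (IsUnit.mk0 _ hGdet)
  have hGiG : Gi * G = 1 := Matrix.nonsing_inv_mul G (IsUnit.mk0 _ hGdet)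
  set gi := g₀⁻¹ with hgi
  have hggi : g₀ * gi = 1 := Matrix.mul_nonsing_inv g₀ (IsUnit.mk0 _ hg₀)
  have hgig : gi * g₀ = 1 := Matrix.nonsing_inv_mul g₀ (IsUnit.mk0 _ hg₀)
  set Ai := A⁻¹ with hAi
  have hAAi : A * Ai = 1 := Matrix.mul_nonsing_inv A (IsUnit.mk0 _ hA)
  have hadjG : adj σ G = g₀ := adj_adj σ hσ2 g₀
  have hadjGi : adj σ Gi = gi := by
    have e : adj σ Gi * g₀ = 1 := by rw [← hadjG, ← adj_mul, hGGi, adj_one]
    calc adj σ Gi = adj σ Gi * (g₀ * gi) := by rw [hggi, Matrix.mul_one]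
      _ = gi := by rw [← Matrix.mul_assoc, e, Matrix.one_mul]
  have hadjgi : adj σ gi = Gi := by
    have e : adj σ gi * G = 1 := by rw [hG, ← adj_mul, hggi, adj_one]
    calc adj σ gi = adj σ gi * (G * Gi) := by rw [hGGi, Matrix.mul_one]
      _ = Gi := by rw [← Matrix.mul_assoc, e, Matrix.one_mul]
  -- the element w
  set w := gi * G with hw
  set wi := Gi * g₀ with hwi
  have hwwi : w * wi = 1 := by
    calc w * wi = gi * (G * Gi) * g₀ := by rw [hw, hwi]; simp only [Matrix.mul_assoc]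
      _ = 1 := by rw [hGGi, Matrix.mul_one, hgig]
  have hwiw : wi * w = 1 := mul_eq_one_comm.1 hwwi
  have hThw : Th σ G Gi w = wi := by
    unfold Th
    rw [hw, adj_mul, hadjG, hadjgi]
    calc Gi * (g₀ * Gi) * G = Gi * g₀ * (Gi * G) := by simp only [Matrix.mul_assoc]
      _ = wi := by rw [hGiG, Matrix.mul_one]
  -- invariance
  have hinvG : adj σ A * G * A = G := by
    have e := congrArg (adj σ) hinv
    rw [adj_mul, adj_mul, adj_adj σ hσ2, ← Matrix.mul_assoc] at e
    exact e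
  have hadjAi : adj σ Ai * adj σ A = 1 := by rw [← adj_mul, hAAi, adj_one]
  have h1 : g₀ * A = adj σ Ai * g₀ := by
    calc g₀ * A = (adj σ Ai * adj σ A) * (g₀ * A) := by rw [hadjAi, Matrix.one_mul]
      _ = adj σ Ai * (adj σ A * g₀ * A) := by simp only [Matrix.mul_assoc]
      _ = adj σ Ai * g₀ := by rw [hinv]
  have h2 : G * A = adj σ Ai * G := by
    calc G * A = (adj σ Ai * adj σ A) * (G * A) := by rw [hadjAi, Matrix.one_mul]
      _ = adj σ Ai * (adj σ A * G * A) := by simp only [Matrix.mul_assoc]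
      _ = adj σ Ai * G := by rw [hinvG]
  have h3 : A * gi = gi * adj σ Ai := by
    calc A * gi = (gi * g₀) * A * gi := by rw [hgig, Matrix.one_mul]
      _ = gi * (g₀ * A) * gi := by simp only [Matrix.mul_assoc]
      _ = gi * adj σ Ai * (g₀ * gi) := by rw [h1]; simp only [Matrix.mul_assoc]
      _ = gi * adj σ Ai := by rw [hggi, Matrix.mul_one]
  have hwA : w * A = A * w := by
    calc w * A = gi * (G * A) := by rw [hw, Matrix.mul_assoc]
      _ = gi * adj σ Ai * G := by rw [h2, Matrix.mul_assoc]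
      _ = A * w := by rw [← h3, hw, Matrix.mul_assoc]
  -- the group
  let _ : CommGroup ↥(polyUnits w) := polyUnitsCommGroup w
  have hfin : Finite ↥(polyUnits w) := inferInstance
  set wG : GL (Fin n) K := mkGL w wi hwwi hwiw with hwG
  have hwGmem : wG ∈ polyUnits w := ⟨X, by rw [aeval_X]; rfl⟩
  obtain ⟨v, hv⟩ : ∃ v : K[X], wi = aeval w v := by
    have := (polyUnits w).inv_mem hwGmem
    obtain ⟨v, hv⟩ := this
    exact ⟨v, hv⟩
  -- Θ on the group
  have hcommw : ∀ c : GL (Fin n) K, c ∈ polyUnits w →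
      (c : Matrix (Fin n) (Fin n) K) * w = w * (c : Matrix (Fin n) (Fin n) K) := by
    rintro c ⟨p, hp⟩
    rw [hp]
    exact (commute_aeval w w (Commute.refl w) p).eq
  have hThpoly : ∀ p : K[X], Th σ G Gi (aeval w p) = aeval w ((p.map σ).comp v) := by
    intro p
    rw [Th_aeval σ G Gi hGGi hGiG, hThw, hv, Polynomial.aeval_comp]
  have hThTh : ∀ c : GL (Fin n) K, c ∈ polyUnits w →
      Th σ G Gi (Th σ G Gi (c : Matrix (Fin n) (Fin n) K)) = (c : Matrix (Fin n) (Fin n) K) := by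
    intro c hc
    have e : Th σ G Gi (Th σ G Gi (c : Matrix (Fin n) (Fin n) K)) =
        wi * (c : Matrix (Fin n) (Fin n) K) * w := by
      unfold Th
      rw [adj_mul, adj_mul, hadjG, hadjGi, adj_adj σ hσ2, hwi, hw]
      simp only [Matrix.mul_assoc]
    rw [e, Matrix.mul_assoc, hcommw c hc, ← Matrix.mul_assoc, hwiw, Matrix.one_mul]
  let thG : GL (Fin n) K → GL (Fin n) K := fun c =>
    mkGL (Th σ G Gi (c : Matrix (Fin n) (Fin n) K))
      (Th σ G Gi ((c⁻¹ : GL (Fin n) K) : Matrix (Fin n) (Fin n) K))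
      (by rw [← Th_mul σ G Gi hGGi, ← Units.val_mul, inv_mul_cancel, Units.val_one,
        Th_one σ G Gi hGiG])
      (by rw [← Th_mul σ G Gi hGGi, ← Units.val_mul, mul_inv_cancel, Units.val_one,
        Th_one σ G Gi hGiG])
  have hthG_val : ∀ c, ((thG c : GL (Fin n) K) : Matrix (Fin n) (Fin n) K) =
      Th σ G Gi (c : Matrix (Fin n) (Fin n) K) := fun c => rfl
  have hthG_mem : ∀ c : GL (Fin n) K, c ∈ polyUnits w → thG c ∈ polyUnits w := by
    rintro c ⟨p, hp⟩
    refine ⟨(p.map σ).comp v, ?_⟩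
    rw [hthG_val, hp, hThpoly]
  let θ : ↥(polyUnits w) →* ↥(polyUnits w) := MonoidHom.mk'
    (fun c => ⟨thG c, hthG_mem c c.2⟩) (by
      intro a b
      apply Subtype.ext
      apply Units.ext
      change Th σ G Gi ((a * b : GL (Fin n) K) : Matrix (Fin n) (Fin n) K) =
        Th σ G Gi (a : GL (Fin n) K) * Th σ G Gi (b : GL (Fin n) K)
      rw [Units.val_mul, Th_mul σ G Gi hGGi]
      have := polyUnits_comm w _ _ (hthG_mem b b.2) (hthG_mem a a.2)
      exact congrArg Units.val this)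
  have hθ_val : ∀ c : ↥(polyUnits w), (((θ c : ↥(polyUnits w)) : GL (Fin n) K) :
      Matrix (Fin n) (Fin n) K) = Th σ G Gi ((c : GL (Fin n) K) : Matrix (Fin n) (Fin n) K) :=
    fun c => rfl
  have hθ2 : ∀ c, θ (θ c) = c := by
    intro c
    apply Subtype.ext
    apply Units.ext
    rw [hθ_val, hθ_val]
    exact hThTh c c.2
  have hnorm : ∀ c, θ c = c → ∃ t, t * θ t = c := by
    intro c hc
    have hcfix : Th σ G Gi ((c : GL (Fin n) K) : Matrix (Fin n) (Fin n) K) =
        ((c : GL (Fin n) K) : Matrix (Fin n) (Fin n) K) := by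
      rw [← hθ_val, hc]
    have hcdet : ((c : GL (Fin n) K) : Matrix (Fin n) (Fin n) K).det ≠ 0 :=
      (Matrix.isUnits_det_units (c : GL (Fin n) K)).ne_zero
    have hstab := charpoly_of_Th_fixed σ G Gi hGGi _ hcfix
    obtain ⟨p, hp⟩ := exists_poly_norm_of_charpoly_stable σ hσ2 hσne htr _ hstab hcdet
    obtain ⟨pc, hpc⟩ := c.2
    set cm := ((c : GL (Fin n) K) : Matrix (Fin n) (Fin n) K) with hcm
    set t := aeval cm p with ht
    set t' := aeval cm (p.map σ) with ht'
    have htt' : t * t' = cm := by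
      rw [ht, ht', ← map_mul, mul_comm, map_mul]
      exact hp
    have hcmi : cm * (((c : GL (Fin n) K)⁻¹ : GL (Fin n) K) : Matrix (Fin n) (Fin n) K) = 1 := by
      rw [hcm, ← Units.val_mul, mul_inv_cancel, Units.val_one]
    have htinv : t * (t' * (((c : GL (Fin n) K)⁻¹ : GL (Fin n) K) : Matrix (Fin n) (Fin n) K)) = 1 := by
      rw [← Matrix.mul_assoc, htt', hcmi]
    set tG : GL (Fin n) K := mkGL t _ htinv (mul_eq_one_comm.1 htinv) with htG
    have htGmem : tG ∈ polyUnits w := by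
      refine ⟨p.comp pc, ?_⟩
      rw [Polynomial.aeval_comp, ← hpc]
      rfl
    refine ⟨⟨tG, htGmem⟩, ?_⟩
    apply Subtype.ext
    apply Units.ext
    change t * Th σ G Gi t = cm
    rw [ht, Th_aeval σ G Gi hGGi hGiG, hcfix]
    exact htt'
  obtain ⟨c, hc⟩ := hilbert90_of_norm_surj θ hθ2 hnorm ⟨wG, hwGmem⟩ (by
    apply Subtype.ext
    apply Units.ext
    change w * Th σ G Gi w = 1
    rw [hThw, hwwi])
  have hc' : ((c : GL (Fin n) K) : Matrix (Fin n) (Fin n) K) =
      w * Th σ G Gi ((c : GL (Fin n) K) : Matrix (Fin n) (Fin n) K) := by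
    have := congrArg (fun x : ↥(polyUnits w) => ((x : GL (Fin n) K) : Matrix (Fin n) (Fin n) K)) hc
    exact this
  set cm := ((c : GL (Fin n) K) : Matrix (Fin n) (Fin n) K) with hcm
  have hcA : cm * A = A * cm := by
    obtain ⟨p, hp⟩ := c.2
    rw [hcm, hp]
    exact (commute_aeval w A hwA p).eq
  refine ⟨g₀ * cm, ?_, ?_, ?_⟩
  · have e1 : adj σ cm * G = G * Th σ G Gi cm := by
      unfold Th
      calc adj σ cm * G = (G * Gi) * adj σ cm * G := by rw [hGGi, Matrix.one_mul]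
        _ = G * (Gi * adj σ cm * G) := by simp only [Matrix.mul_assoc]
    have e2 : G = g₀ * w := by
      rw [hw, ← Matrix.mul_assoc, hggi, Matrix.one_mul]
    calc adj σ (g₀ * cm) = adj σ cm * G := by rw [adj_mul, ← hG]
      _ = G * Th σ G Gi cm := e1
      _ = g₀ * w * Th σ G Gi cm := by rw [← e2]
      _ = g₀ * (w * Th σ G Gi cm) := by rw [Matrix.mul_assoc]
      _ = g₀ * cm := by rw [← hc']
  · rw [Matrix.det_mul]
    exact mul_ne_zero hg₀ (Matrix.isUnits_det_units (c : GL (Fin n) K)).ne_zero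
  · calc adj σ A * (g₀ * cm) * A = adj σ A * g₀ * (cm * A) := by simp only [Matrix.mul_assoc]
      _ = (adj σ A * g₀ * A) * cm := by rw [hcA]; simp only [Matrix.mul_assoc]
      _ = g₀ * cm := by rw [hinv]

end Cfsg.Agent.Lib.Helper8.GUSim
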