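import Mathlib
import Cfsg.Agent.Lib.Helper8.GUSimB
import Cfsg.Agent.Lib.Helper8.SURegE

/-!
# Invertible Hermitian matrices are of the form `adj P * P` (helper8)
-/

set_option autoImplicit false

namespace Cfsg.Agent.Lib.Helper8.GUSim

open Cfsg Cfsg.Agent.S0277 Matrix Cfsg.Agent.H9.RegUni Cfsg.Agent.Lib.Helper8.SUReg

variable {K : Type*} [Field K] (σ : K →+* K) {n : ℕ}

/-- the sesquilinear form with Gram matrix `h` -/
noncomputable def BH (h : Matrix (Fin n) (Fin n) K) : (Fin n → K) →ₛₗ[σ] (Fin n → K) →ₗ[K] K :=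
  (stdB n σ).compl₂ (Matrix.toLin' h)

theorem BH_apply (h : Matrix (Fin n) (Fin n) K) (x y : Fin n → K) :
    BH σ h x y = stdB n σ x (h *ᵥ y) := by
  unfold BH
  rw [LinearMap.compl₂_apply, Matrix.toLin'_apply]

theorem BH_isSymm (hσ2 : ∀ a : K, σ (σ a) = a) (h : Matrix (Fin n) (Fin n) K) (hh : adj σ h = h) :
    (BH σ h).IsSymm := by
  constructor
  intro x y
  rw [BH_apply, BH_apply, (stdB_isSymm n σ hσ2).eq, stdB_mulVec_left, hh]

theorem BH_sepLeft (h : Matrix (Fin n) (Fin n) K) (hdet : h.det ≠ 0) : (BH σ h).SeparatingLeft := by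
  intro x hx
  apply stdB_sepLeft n σ
  intro y
  have := hx (h⁻¹ *ᵥ y)
  rw [BH_apply, Matrix.mulVec_mulVec, Matrix.mul_nonsing_inv h (IsUnit.mk0 _ hdet),
    Matrix.one_mulVec] at this
  exact this

/-- an invertible Hermitian matrix is `adj P * P` for an invertible `P` -/
theorem exists_adj_mul_self [Finite K] (hσne : σ ≠ RingHom.id K) (hσ2 : ∀ a : K, σ (σ a) = a)
    (h : Matrix (Fin n) (Fin n) K) (hh : adj σ h = h) (hdet : h.det ≠ 0) :
    ∃ P Pi : Matrix (Fin n) (Fin n) K, P * Pi = 1 ∧ Pi * P = 1 ∧ adj σ P * P = h := by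
  obtain ⟨φ, hφ⟩ := Cfsg.Agent.Lib.Helper8.HermSplit.exists_isometry hσne hσ2 n (Fin n → K) (BH σ h)
    (BH_isSymm σ hσ2 h hh) (BH_sepLeft σ h hdet) finrank_fun
  set Pm : Matrix (Fin n) (Fin n) K := LinearMap.toMatrix' φ.toLinearMap with hPm
  set Pi : Matrix (Fin n) (Fin n) K := LinearMap.toMatrix' φ.symm.toLinearMap with hPi
  have hPP : Pm * Pi = 1 := by
    rw [hPm, hPi, ← LinearMap.toMatrix'_comp]
    have : φ.toLinearMap ∘ₗ φ.symm.toLinearMap = LinearMap.id := by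
      ext x : 1
      simp
    rw [this, LinearMap.toMatrix'_id]
  have hPiP : Pi * Pm = 1 := mul_eq_one_comm.1 hPP
  have hφm : ∀ x, φ x = Pm *ᵥ x := by
    intro x
    rw [hPm, LinearMap.toMatrix'_mulVec]
    rfl
  refine ⟨Pm, Pi, hPP, hPiP, ?_⟩
  have h1 : ∀ y, (adj σ Pm * Pm) *ᵥ y = h *ᵥ y := by
    intro y
    apply eq_of_stdB_right σ
    intro x
    rw [← Matrix.mulVec_mulVec, ← stdB_mulVec_left, ← hφm, ← hφm, hφ, BH_apply]
  exact Matrix.ext_iff_mulVec.2 h1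

end Cfsg.Agent.Lib.Helper8.GUSim
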