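import Mathlib
import Cfsg.Agent.Lib.Helper8.GUConjD
import Cfsg.Agent.Lib.Helper8.GUSimC

/-!
# Centralisers of unipotent elements in unitary groups, part A (helper8)

The conjugate transpose on matrices over an arbitrary index type, transfer of the existence results
on `Fin n`, the fixed points of a semilinear involution, and a hands-on orbit-stabiliser count.
-/

set_option autoImplicit false

namespace Cfsg.Agent.Lib.Helper8.GUCent

open Matrix Cfsg.Agent.Lib.Helper8.SUReg

section AdjI

variable {K : Type*} [Field K] (σ : K →+* K) {ι : Type*} [Fintype ι] [DecidableEq ι]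

/-- the `σ`-conjugate transpose, for any index type -/
def adjI (A : Matrix ι ι K) : Matrix ι ι K := (A.map σ)ᵀ

theorem adjI_apply (A : Matrix ι ι K) (i j : ι) : adjI σ A i j = σ (A j i) := rfl

theorem adjI_mul (A B : Matrix ι ι K) : adjI σ (A * B) = adjI σ B * adjI σ A := by
  unfold adjI
  rw [Matrix.map_mul, Matrix.transpose_mul]

theorem adjI_one : adjI σ (1 : Matrix ι ι K) = 1 := by
  unfold adjI
  rw [Matrix.map_one _ (map_zero σ) (map_one σ), Matrix.transpose_one]

theorem adjI_zero : adjI σ (0 : Matrix ι ι K) = 0 := by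
  ext i j
  rw [adjI_apply, Matrix.zero_apply, Matrix.zero_apply, map_zero]

theorem adjI_add (A B : Matrix ι ι K) : adjI σ (A + B) = adjI σ A + adjI σ B := by
  ext i j
  rw [Matrix.add_apply, adjI_apply, adjI_apply, adjI_apply, Matrix.add_apply, map_add]

theorem adjI_sub (A B : Matrix ι ι K) : adjI σ (A - B) = adjI σ A - adjI σ B := by
  ext i j
  rw [Matrix.sub_apply, adjI_apply, adjI_apply, adjI_apply, Matrix.sub_apply, map_sub]

theorem adjI_neg (A : Matrix ι ι K) : adjI σ (-A) = -adjI σ A := by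
  ext i j
  rw [Matrix.neg_apply, adjI_apply, adjI_apply, Matrix.neg_apply, map_neg]

theorem adjI_smul (c : K) (A : Matrix ι ι K) : adjI σ (c • A) = σ c • adjI σ A := by
  ext i j
  rw [Matrix.smul_apply, adjI_apply, adjI_apply, Matrix.smul_apply, smul_eq_mul, smul_eq_mul, map_mul]

theorem adjI_pow (A : Matrix ι ι K) (k : ℕ) : adjI σ (A ^ k) = adjI σ A ^ k := by
  induction k with
  | zero => rw [pow_zero, pow_zero, adjI_one]
  | succ k ih => rw [pow_succ, adjI_mul, ih, pow_succ']

theorem adjI_adjI (hσ2 : ∀ a : K, σ (σ a) = a) (A : Matrix ι ι K) :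
    adjI σ (adjI σ A) = A := by
  ext i j
  rw [adjI_apply, adjI_apply, hσ2]

theorem adj_reindex {n : ℕ} (e : ι ≃ Fin n) (A : Matrix ι ι K) :
    adj σ (Matrix.reindex e e A) = Matrix.reindex e e (adjI σ A) := by
  ext i j
  rfl

theorem adjI_reindex_symm {n : ℕ} (e : ι ≃ Fin n) (A : Matrix (Fin n) (Fin n) K) :
    adjI σ (Matrix.reindex e.symm e.symm A) = Matrix.reindex e.symm e.symm (adj σ A) := by
  ext i j
  rfl

theorem isUnit_adjI (A : Matrix ι ι K) (h : IsUnit A) : IsUnit (adjI σ A) := by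
  obtain ⟨u, rfl⟩ := h
  have h1 : adjI σ ((u⁻¹ : (Matrix ι ι K)ˣ) : Matrix ι ι K) * adjI σ (u : Matrix ι ι K) = 1 := by
    rw [← adjI_mul, Units.mul_inv, adjI_one]
  exact IsUnit.of_mul_eq_one _ (mul_eq_one_comm.1 h1)

end AdjI

section Transfer

variable {K : Type*} [Field K] [Finite K] (σ : K →+* K) {ι : Type*} [Fintype ι] [DecidableEq ι]

omit [Finite K] [Fintype ι] [DecidableEq ι] in
theorem reindex_mul' {α β : Type*} [Fintype α] [Fintype β] (e : α ≃ β) (A B : Matrix α α K) :
    Matrix.reindex e e (A * B) = Matrix.reindex e e A * Matrix.reindex e e B := by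
  rw [Matrix.reindex_apply, Matrix.reindex_apply, Matrix.reindex_apply, Matrix.submatrix_mul_equiv]

omit [Finite K] [Fintype ι] [DecidableEq ι] in
theorem reindex_one' {α β : Type*} [DecidableEq α] [DecidableEq β] (e : α ≃ β) :
    Matrix.reindex e e (1 : Matrix α α K) = 1 := by
  rw [Matrix.reindex_apply, Matrix.submatrix_one_equiv]

/-- an invertible Hermitian matrix is `adjI P * P` for an invertible `P` -/
theorem exists_adjI_mul_self (hσne : σ ≠ RingHom.id K) (hσ2 : ∀ a : K, σ (σ a) = a)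
    (h : Matrix ι ι K) (hh : adjI σ h = h) (hu : IsUnit h) :
    ∃ P Pi : Matrix ι ι K, P * Pi = 1 ∧ Pi * P = 1 ∧ adjI σ P * P = h := by
  set e : ι ≃ Fin (Fintype.card ι) := Fintype.equivFin ι with he
  have h1 : adj σ (Matrix.reindex e e h) = Matrix.reindex e e h := by rw [adj_reindex, hh]
  have h2 : (Matrix.reindex e e h).det ≠ 0 := by
    rw [Matrix.det_reindex_self]
    exact ((Matrix.isUnit_iff_isUnit_det h).1 hu).ne_zero
  obtain ⟨P, Pi, hPPi, hPiP, hP⟩ :=
    Cfsg.Agent.Lib.Helper8.GUSim.exists_adj_mul_self σ hσne hσ2 _ h1 h2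
  refine ⟨Matrix.reindex e.symm e.symm P, Matrix.reindex e.symm e.symm Pi, ?_, ?_, ?_⟩
  · rw [← reindex_mul', hPPi, reindex_one']
  · rw [← reindex_mul', hPiP, reindex_one']
  · rw [adjI_reindex_symm, ← reindex_mul', hP]
    ext i j
    simp

/-- unitary matrices conjugate by an invertible matrix are conjugate by a unitary matrix -/
theorem exists_unitary_conj_I (hσ2 : ∀ a : K, σ (σ a) = a)
    (hσne : σ ≠ RingHom.id K) (htr : ∀ b : K, σ b = b → ∃ y : K, y + σ y = b)
    (A B g : Matrix ι ι K) (hA : adjI σ A * A = 1) (hB : adjI σ B * B = 1)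
    (hg : IsUnit g) (hgAB : g * A = B * g) :
    ∃ w : Matrix ι ι K, adjI σ w * w = 1 ∧ w * A = B * w := by
  set e : ι ≃ Fin (Fintype.card ι) := Fintype.equivFin ι with he
  have hA' : adj σ (Matrix.reindex e e A) * Matrix.reindex e e A = 1 := by
    rw [adj_reindex, ← reindex_mul', hA, reindex_one']
  have hB' : adj σ (Matrix.reindex e e B) * Matrix.reindex e e B = 1 := by
    rw [adj_reindex, ← reindex_mul', hB, reindex_one']
  have hg' : (Matrix.reindex e e g).det ≠ 0 := by
    rw [Matrix.det_reindex_self]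
    exact ((Matrix.isUnit_iff_isUnit_det g).1 hg).ne_zero
  have hgAB' : Matrix.reindex e e g * Matrix.reindex e e A =
      Matrix.reindex e e B * Matrix.reindex e e g := by
    rw [← reindex_mul', ← reindex_mul', hgAB]
  obtain ⟨w, hw1, hw2⟩ := Cfsg.Agent.Lib.Helper8.GUConj.exists_unitary_conj_of_conj σ hσ2 hσne htr
    _ _ _ hA' hB' hg' hgAB'
  have hback : ∀ M : Matrix ι ι K,
      Matrix.reindex e.symm e.symm (Matrix.reindex e e M) = M := by
    intro M
    ext i j
    simp
  refine ⟨Matrix.reindex e.symm e.symm w, ?_, ?_⟩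
  · rw [adjI_reindex_symm, ← reindex_mul', hw1, reindex_one']
  · have := congrArg (Matrix.reindex e.symm e.symm) hw2
    rw [reindex_mul', reindex_mul', hback, hback] at this
    exact this

end Transfer

section Semilinear

variable {K : Type*} [Field K] (σ : K →+* K)

/-- the fixed points of a semilinear involution form "half" of the space -/
theorem card_fixed_sq {V : Type*} [AddCommGroup V] [Module K V] [Finite V]
    (hσ2 : ∀ a : K, σ (σ a) = a) (θ : K) (hθ : σ θ ≠ θ)
    (s : V → V) (hadd : ∀ x y, s (x + y) = s x + s y) (hsmul : ∀ (c : K) x, s (c • x) = σ c • s x)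
    (hinv : ∀ x, s (s x) = x) :
    Nat.card {x : V // s x = x} ^ 2 = Nat.card V := by
  have hsub : ∀ x y, s (x - y) = s x - s y := by
    intro x y
    have h := hadd (x - y) y
    rw [sub_add_cancel] at h
    rw [h, add_sub_cancel_right]
  have hδ : θ - σ θ ≠ 0 := fun h => hθ (sub_eq_zero.1 h).symm
  have hσδ : σ (θ - σ θ) = -(θ - σ θ) := by rw [map_sub, hσ2]; ring
  have hy : ∀ v, s ((θ - σ θ)⁻¹ • (v - s v)) = (θ - σ θ)⁻¹ • (v - s v) := by
    intro v
    rw [hsmul, hsub, hinv, map_inv₀, hσδ, inv_neg, neg_smul, ← smul_neg, neg_sub]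
  have hy2 : ∀ v, θ • ((θ - σ θ)⁻¹ • (v - s v)) - σ θ • ((θ - σ θ)⁻¹ • (v - s v)) = v - s v := by
    intro v
    rw [← sub_smul, smul_inv_smul₀ hδ]
  rw [sq, ← Nat.card_prod]
  apply Nat.card_congr
  refine
    { toFun := fun p => p.1.1 + θ • p.2.1
      invFun := fun v =>
        (⟨v - θ • ((θ - σ θ)⁻¹ • (v - s v)), ?_⟩, ⟨(θ - σ θ)⁻¹ • (v - s v), hy v⟩)
      left_inv := ?_
      right_inv := ?_ }
  · -- s x = x
    rw [hsub, hsmul, hy, sub_eq_sub_iff_add_eq_add]
    have h := hy2 v
    rw [sub_eq_sub_iff_add_eq_add] at h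
    rw [add_comm, h, add_comm]
  · rintro ⟨⟨x, hx⟩, ⟨y, hy'⟩⟩
    have e1 : (x + θ • y) - s (x + θ • y) = (θ - σ θ) • y := by
      rw [hadd, hsmul, hx, hy', sub_smul]; abel
    apply Prod.ext
    · apply Subtype.ext
      show (x + θ • y) - θ • ((θ - σ θ)⁻¹ • ((x + θ • y) - s (x + θ • y))) = x
      rw [e1, inv_smul_smul₀ hδ, add_sub_cancel_right]
    · apply Subtype.ext
      show (θ - σ θ)⁻¹ • ((x + θ • y) - s (x + θ • y)) = y
      rw [e1, inv_smul_smul₀ hδ]
  · intro v
    show v - θ • ((θ - σ θ)⁻¹ • (v - s v)) + θ • ((θ - σ θ)⁻¹ • (v - s v)) = v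
    rw [sub_add_cancel]

end Semilinear

section Orbit

/-- orbit-stabiliser, by hand: a surjection from a group whose fibres are the right cosets of a
subgroup -/
theorem card_eq_card_mul_card {G X : Type*} [Group G] (S : Subgroup G) (Φ : G → X)
    (hsurj : Function.Surjective Φ) (hfib : ∀ g g' : G, Φ g = Φ g' ↔ g' * g⁻¹ ∈ S) :
    Nat.card G = Nat.card S * Nat.card X := by
  choose s hs using hsurj
  rw [← Nat.card_prod]
  apply Nat.card_congr
  have hinv : ∀ (t : S) (g : G), Φ (t.1 * g) = Φ g := by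
    intro t g
    symm
    rw [hfib]
    have : t.1 * g * g⁻¹ = t.1 := by group
    rw [this]
    exact t.2
  exact
    { toFun := fun g => (⟨g * (s (Φ g))⁻¹, (hfib (s (Φ g)) g).1 (hs (Φ g))⟩, Φ g)
      invFun := fun p => p.1.1 * s p.2
      left_inv := fun g => by
        show g * (s (Φ g))⁻¹ * s (Φ g) = g
        group
      right_inv := fun p => by
        obtain ⟨t, x⟩ := p
        have h1 : Φ (t.1 * s x) = x := by rw [hinv, hs]
        apply Prod.ext
        · apply Subtype.ext
          show t.1 * s x * (s (Φ (t.1 * s x)))⁻¹ = t.1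
          rw [h1]
          group
        · exact h1 }

end Orbit

end Cfsg.Agent.Lib.Helper8.GUCent
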