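import Mathlib
import Cfsg.Agent.Lib.Helper8.SURegA
import Cfsg.Agent.H2.NilpType

/-!
# Unipotent matrices are similar to their conjugate-transpose-inverse (helper8)

Over a finite field with a field automorphism `σ`, a unipotent matrix `g` is conjugate to `(adj σ g)⁻¹`.
-/

set_option autoImplicit false

namespace Cfsg.Agent.Lib.Helper8.GUOrdP

open Module Matrix Cfsg.Agent.Lib.Helper8.SUReg Cfsg.Agent.H2.NilpType Cfsg.Agent.H2.NilpKer

variable {K : Type*} [Field K] [Finite K] {n : ℕ} (σ : K →+* K)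

theorem finrank_ker_map (hσ : Function.Bijective σ) (A : Matrix (Fin n) (Fin n) K) :
    finrank K (LinearMap.ker (A.map σ).mulVecLin) = finrank K (LinearMap.ker A.mulVecLin) := by
  have h1 := Module.natCard_eq_pow_finrank (K := K) (V := LinearMap.ker (A.map σ).mulVecLin)
  have h2 := Module.natCard_eq_pow_finrank (K := K) (V := LinearMap.ker A.mulVecLin)
  have hK : 2 ≤ Nat.card K := by
    have := Finite.one_lt_card (α := K)
    omega
  apply Nat.pow_right_injective hK
  simp only
  rw [← h1, ← h2]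
  symm
  let Φ : (Fin n → K) ≃ (Fin n → K) :=
    Equiv.piCongrRight (fun _ => Equiv.ofBijective σ hσ)
  have hΦ : ∀ v : Fin n → K, Φ v = σ ∘ v := fun v => rfl
  apply Nat.card_congr
  refine Equiv.subtypeEquiv Φ ?_
  intro v
  show v ∈ LinearMap.ker A.mulVecLin ↔ Φ v ∈ LinearMap.ker (A.map σ).mulVecLin
  rw [LinearMap.mem_ker, LinearMap.mem_ker, Matrix.mulVecLin_apply, Matrix.mulVecLin_apply, hΦ]
  have h3 : (A.map σ).mulVec (σ ∘ v) = σ ∘ (A.mulVec v) := by
    funext i
    exact (RingHom.map_mulVec σ A v i).symm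
  rw [h3]
  constructor
  · intro h
    rw [h]
    funext i
    exact map_zero σ
  · intro h
    funext i
    have := congrFun h i
    simp only [Function.comp_apply, Pi.zero_apply] at this
    exact (map_eq_zero σ).mp this

theorem rank_eq_sub (A : Matrix (Fin n) (Fin n) K) :
    A.rank = n - finrank K (LinearMap.ker A.mulVecLin) := by
  have h := LinearMap.finrank_range_add_finrank_ker A.mulVecLin
  rw [Module.finrank_fintype_fun_eq_card, Fintype.card_fin] at h
  have h2 : A.rank = finrank K (LinearMap.range A.mulVecLin) := rfl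
  omega

theorem rank_map (hσ : Function.Bijective σ) (A : Matrix (Fin n) (Fin n) K) :
    (A.map σ).rank = A.rank := by
  rw [rank_eq_sub, rank_eq_sub, finrank_ker_map σ hσ]

theorem rank_adj (hσ : Function.Bijective σ) (A : Matrix (Fin n) (Fin n) K) :
    (adj σ A).rank = A.rank := by
  unfold adj
  rw [Matrix.rank_transpose, rank_map σ hσ]

theorem kdm_eq_sub (A : Matrix (Fin n) (Fin n) K) (k : ℕ) : kdm A k = n - (A ^ k).rank := by
  unfold kdm kd
  rw [← Matrix.toLin'_pow, Matrix.toLin'_apply']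
  have h := LinearMap.finrank_range_add_finrank_ker (A ^ k).mulVecLin
  rw [Module.finrank_fintype_fun_eq_card, Fintype.card_fin] at h
  have h2 : (A ^ k).rank = finrank K (LinearMap.range (A ^ k).mulVecLin) := rfl
  omega

/-- a unipotent matrix is conjugate to its `σ`-conjugate-transpose-inverse -/
theorem isConj_adj_inv (hσ : Function.Bijective σ) (g : Matrix (Fin n) (Fin n) K)
    (hg : IsNilpotent (g - 1)) : IsConj g (adj σ g)⁻¹ := by
  have hadj : adj σ g = 1 + adj σ (g - 1) := by
    rw [adj_sub, adj_one]; abel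
  have hnil' : IsNilpotent (adj σ (g - 1)) := by
    obtain ⟨k, hk⟩ := hg
    exact ⟨k, by rw [← adj_pow, hk, adj_zero]⟩
  have hunit : IsUnit (adj σ g) := by
    rw [hadj]; exact IsNilpotent.isUnit_one_add hnil'
  have hdet : IsUnit (adj σ g).det := (Matrix.isUnit_iff_isUnit_det _).mp hunit
  set X := (adj σ g)⁻¹ with hX
  have hX1 : adj σ g * X = 1 := Matrix.mul_nonsing_inv _ hdet
  have hX2 : X * adj σ g = 1 := Matrix.nonsing_inv_mul _ hdet
  have hXdet : IsUnit (-X).det := by
    have h2 : (-X) * (-adj σ g) = 1 := by rw [Matrix.neg_mul, Matrix.mul_neg, neg_neg, hX2]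
    have := congrArg Matrix.det h2
    rw [Matrix.det_mul, Matrix.det_one] at this
    exact IsUnit.of_mul_eq_one _ this
  have h1 : X - 1 = (-X) * adj σ (g - 1) := by
    have : adj σ (g - 1) = adj σ g - 1 := by rw [adj_sub, adj_one]
    rw [this, Matrix.neg_mul, Matrix.mul_sub, hX2, Matrix.mul_one, neg_sub]
  have hcomm : Commute (-X) (adj σ (g - 1)) := by
    have : adj σ (g - 1) = adj σ g - 1 := by rw [adj_sub, adj_one]
    rw [this]
    apply Commute.neg_left
    show X * (adj σ g - 1) = (adj σ g - 1) * X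
    rw [Matrix.mul_sub, Matrix.sub_mul, hX1, hX2, Matrix.mul_one, Matrix.one_mul]
  have hpow : ∀ k : ℕ, (X - 1) ^ k = (-X) ^ k * adj σ ((g - 1) ^ k) := by
    intro k
    rw [h1, hcomm.mul_pow, adj_pow]
  have hXnil : IsNilpotent (X - 1) := by
    obtain ⟨k, hk⟩ := hg
    exact ⟨k, by rw [hpow, hk, adj_zero, Matrix.mul_zero]⟩
  have hkdm : ∀ k, kdm (g - 1) k = kdm (X - 1) k := by
    intro k
    rw [kdm_eq_sub, kdm_eq_sub, hpow, Matrix.rank_mul_eq_right_of_isUnit_det, rank_adj σ hσ]
    rw [Matrix.det_pow]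
    exact hXdet.pow _
  obtain ⟨P, hP⟩ := exists_gl_of_kdm_eq _ _ hg hXnil hkdm
  refine ⟨P, ?_⟩
  show (P : Matrix (Fin n) (Fin n) K) * g = X * (P : Matrix (Fin n) (Fin n) K)
  rw [Matrix.mul_sub, Matrix.sub_mul, Matrix.mul_one, Matrix.one_mul] at hP
  exact sub_left_injective hP

end Cfsg.Agent.Lib.Helper8.GUOrdP
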