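import Mathlib
import Cfsg.Agent.Lib.Helper8.JTypeA

/-!
# Jordan types in classical groups, part B (helper8)

Parity of ranks of powers of `u - 1` for isometries of alternating and symmetric forms.
-/

set_option autoImplicit false

namespace Cfsg.Agent.Lib.Helper8.JType

open Cfsg Module Matrix

section Parity

variable {F : Type*} [Field F] {ι : Type*} [Fintype ι] [DecidableEq ι]

theorem IsAltM.congr {M : Matrix ι ι F} (h : IsAltM M) (P : Matrix ι ι F) : IsAltM (Pᵀ * M * P) := by
  refine ⟨?_, ?_⟩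
  · rw [Matrix.transpose_mul, Matrix.transpose_mul, Matrix.transpose_transpose, h.1]
    rw [Matrix.neg_mul, Matrix.mul_neg, Matrix.mul_assoc]
  · intro i
    have h1 : (Pᵀ * M * P) i i = (fun a => P a i) ⬝ᵥ M.mulVec (fun a => P a i) := by
      rw [Matrix.mul_assoc, Matrix.mul_apply]
      rfl
    rw [h1, h.dot_self]

theorem isAltM_sub_transpose (Y : Matrix ι ι F) : IsAltM (Y - Yᵀ) := by
  refine ⟨?_, ?_⟩
  · rw [Matrix.transpose_sub, Matrix.transpose_transpose, neg_sub]
  · intro i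
    rw [Matrix.sub_apply, Matrix.transpose_apply, sub_self]

/-- the adjoint of `N = u - 1` with respect to an invariant form -/
theorem adjoint_pow (u w M : Matrix ι ι F) (huw : u * w = 1) (hM : uᵀ * M * u = M) (k : ℕ) :
    ((u - 1) ^ k)ᵀ * M = M * (-(w * (u - 1))) ^ k := by
  have hwu : w * u = 1 := (_root_.mul_eq_one_comm).mp huw
  have h1 : uᵀ * M = M * w := by
    calc uᵀ * M = uᵀ * M * (u * w) := by rw [huw, Matrix.mul_one]
      _ = (uᵀ * M * u) * w := by rw [Matrix.mul_assoc, Matrix.mul_assoc, Matrix.mul_assoc]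
      _ = M * w := by rw [hM]
  have h2 : (u - 1)ᵀ * M = M * (-(w * (u - 1))) := by
    rw [Matrix.transpose_sub, Matrix.transpose_one, Matrix.sub_mul, h1, Matrix.one_mul,
      Matrix.mul_sub w, Matrix.mul_one, hwu, neg_sub, Matrix.mul_sub, Matrix.mul_one]
  induction k with
  | zero => rw [pow_zero, pow_zero, Matrix.transpose_one, Matrix.one_mul, Matrix.mul_one]
  | succ k ih =>
    rw [pow_succ, Matrix.transpose_mul, Matrix.mul_assoc, ih, ← Matrix.mul_assoc, h2, Matrix.mul_assoc,
      ← pow_succ']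

theorem commute_w (u w : Matrix ι ι F) (huw : u * w = 1) : Commute w (u - 1) := by
  have hwu : w * u = 1 := (_root_.mul_eq_one_comm).mp huw
  show w * (u - 1) = (u - 1) * w
  rw [Matrix.mul_sub, Matrix.sub_mul, huw, hwu, Matrix.mul_one, Matrix.one_mul]

/-- isometries of alternating forms: `(u - 1) ^ (2 k)` has even rank -/
theorem even_rank_of_alt (u M : Matrix ι ι F) (hMalt : IsAltM M) (hMdet : IsUnit M.det)
    (hM : uᵀ * M * u = M) (k : ℕ) : Even ((u - 1) ^ (2 * k)).rank := by
  have hudet : IsUnit u.det := by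
    have := congrArg Matrix.det hM
    rw [Matrix.det_mul, Matrix.det_mul, Matrix.det_transpose] at this
    have h0 : M.det ≠ 0 := hMdet.ne_zero
    have h1 : u.det * u.det = 1 := by
      have h2 : (u.det * u.det - 1) * M.det = 0 := by linear_combination this
      rcases mul_eq_zero.mp h2 with h3 | h3
      · linear_combination h3
      · exact absurd h3 h0
    exact IsUnit.of_mul_eq_one _ h1
  set w := u⁻¹ with hw
  have huw : u * w = 1 := Matrix.mul_nonsing_inv u hudet
  have hwdet : IsUnit w.det := by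
    have := congrArg Matrix.det huw
    rw [Matrix.det_mul, Matrix.det_one] at this
    exact IsUnit.of_mul_eq_one _ (by rw [mul_comm]; exact this)
  have h1 := adjoint_pow u w M huw hM k
  have h2 : ((u - 1) ^ k)ᵀ * M * (u - 1) ^ k = (M * (-w) ^ k) * (u - 1) ^ (2 * k) := by
    rw [h1, ← neg_mul, ((commute_w u w huw).neg_left).mul_pow, two_mul, pow_add]
    simp only [Matrix.mul_assoc]
  have h3 : IsAltM (((u - 1) ^ k)ᵀ * M * (u - 1) ^ k) := hMalt.congr _
  have h4 := h3.even_rank
  rw [h2, Matrix.rank_mul_eq_right_of_isUnit_det] at h4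
  · exact h4
  · rw [Matrix.det_mul, Matrix.det_pow, Matrix.det_neg]
    exact hMdet.mul ((((isUnit_one.neg).pow _).mul hwdet).pow _)

/-- isometries of symmetric forms in odd characteristic with `u - 1` nilpotent:
`(u - 1) ^ (2 k + 1)` has even rank -/
theorem even_rank_of_symm (h2 : (2 : F) ≠ 0) (u S : Matrix ι ι F) (hSsymm : Sᵀ = S)
    (hSdet : IsUnit S.det) (hS : uᵀ * S * u = S) (hnil : IsNilpotent (u - 1)) (k : ℕ) :
    Even ((u - 1) ^ (2 * k + 1)).rank := by
  have hudet : IsUnit u.det := by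
    have := congrArg Matrix.det hS
    rw [Matrix.det_mul, Matrix.det_mul, Matrix.det_transpose] at this
    have h0 : S.det ≠ 0 := hSdet.ne_zero
    have h1 : u.det * u.det = 1 := by
      have h2 : (u.det * u.det - 1) * S.det = 0 := by linear_combination this
      rcases mul_eq_zero.mp h2 with h3 | h3
      · linear_combination h3
      · exact absurd h3 h0
    exact IsUnit.of_mul_eq_one _ h1
  set w := u⁻¹ with hw
  have huw : u * w = 1 := Matrix.mul_nonsing_inv u hudet
  have hwu : w * u = 1 := (_root_.mul_eq_one_comm).mp huw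
  have hwdet : IsUnit w.det := by
    have := congrArg Matrix.det huw
    rw [Matrix.det_mul, Matrix.det_one] at this
    exact IsUnit.of_mul_eq_one _ (by rw [mul_comm]; exact this)
  have hcomm := commute_w u w huw
  have hk := adjoint_pow u w S huw hS k
  have hk1 := adjoint_pow u w S huw hS (k + 1)
  set Y := ((u - 1) ^ k)ᵀ * S * (u - 1) ^ (k + 1) with hY
  have hYt : Yᵀ = ((u - 1) ^ (k + 1))ᵀ * S * (u - 1) ^ k := by
    rw [hY, Matrix.transpose_mul, Matrix.transpose_mul, Matrix.transpose_transpose, hSsymm,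
      Matrix.mul_assoc]
  have hY1 : Y = S * (-w) ^ k * (u - 1) ^ (2 * k + 1) := by
    have e1 : 2 * k + 1 = k + (k + 1) := by omega
    rw [hY, hk, ← neg_mul, (hcomm.neg_left).mul_pow, e1, pow_add (u - 1) k (k + 1)]
    simp only [Matrix.mul_assoc]
  have hY2 : Yᵀ = S * (-w) ^ (k + 1) * (u - 1) ^ (2 * k + 1) := by
    have e1 : 2 * k + 1 = (k + 1) + k := by omega
    rw [hYt, hk1, ← neg_mul, (hcomm.neg_left).mul_pow, e1, pow_add (u - 1) (k + 1) k]
    simp only [Matrix.mul_assoc]
  have hZ : Y - Yᵀ = (S * (-w) ^ k * (1 + w)) * (u - 1) ^ (2 * k + 1) := by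
    rw [hY2, hY1, pow_succ]
    noncomm_ring
  have h4 := (isAltM_sub_transpose Y).even_rank
  rw [hZ, Matrix.rank_mul_eq_right_of_isUnit_det] at h4
  · exact h4
  · rw [Matrix.det_mul, Matrix.det_mul, Matrix.det_pow, Matrix.det_neg]
    refine (hSdet.mul ((((isUnit_one.neg).pow _).mul hwdet).pow _)).mul ?_
    have h5 : 1 + w = w * (u + 1) := by rw [Matrix.mul_add, hwu, Matrix.mul_one, add_comm]
    rw [h5, Matrix.det_mul]
    refine hwdet.mul ?_
    have h6 : u + 1 = (2 : F) • (1 : Matrix ι ι F) + (u - 1) := by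
      rw [two_smul]; abel
    rw [← Matrix.isUnit_iff_isUnit_det, h6]
    apply IsNilpotent.isUnit_add_left_of_commute hnil
    · rw [Matrix.isUnit_iff_isUnit_det, Matrix.det_smul, Matrix.det_one, mul_one]
      exact (isUnit_iff_ne_zero.mpr h2).pow _
    · exact (Commute.one_right (u - 1)).smul_right _

end Parity

section Transfer

variable {F : Type*} [Field F] {ι ι' : Type*} [Fintype ι] [DecidableEq ι] [Fintype ι'] [DecidableEq ι']

theorem sub_one_pow_of_isConj (R A : Matrix ι ι F) (h : IsConj R A) (m : ℕ) :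
    ∃ c : (Matrix ι ι F)ˣ, (c : Matrix ι ι F) * (R - 1) ^ m = (A - 1) ^ m * (c : Matrix ι ι F) := by
  obtain ⟨c, hc⟩ := h
  refine ⟨c, ?_⟩
  have h1 : SemiconjBy (c : Matrix ι ι F) (R - 1) (A - 1) :=
    hc.sub_right (SemiconjBy.one_right _)
  exact h1.pow_right m

theorem rank_sub_one_pow_of_isConj (R A : Matrix ι ι F) (h : IsConj R A) (m : ℕ) :
    ((A - 1) ^ m).rank = ((R - 1) ^ m).rank := by
  obtain ⟨c, hc⟩ := sub_one_pow_of_isConj R A h m
  have hcdet : IsUnit (c : Matrix ι ι F).det := (Matrix.isUnit_iff_isUnit_det _).mp c.isUnit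
  rw [← Matrix.rank_mul_eq_left_of_isUnit_det (c : Matrix ι ι F) ((A - 1) ^ m) hcdet, ← hc,
    Matrix.rank_mul_eq_right_of_isUnit_det _ _ hcdet]

theorem reindex_sub_one_pow (e : ι ≃ ι') (X : Matrix ι ι F) (m : ℕ) :
    (Matrix.reindex e e X - 1) ^ m = Matrix.reindex e e ((X - 1) ^ m) := by
  have h1 : ∀ Y : Matrix ι ι F, Matrix.reindex e e Y = Matrix.reindexAlgEquiv F F e Y := fun Y => rfl
  rw [h1, h1, map_pow, map_sub, map_one]

variable {t : ℕ} (d : Fin t → ℕ)

theorem rank_of_isConj_jt (e : ((k : Fin t) × Fin (d k)) ≃ ι') (A : Matrix ι' ι' F)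
    (h : IsConj (Matrix.reindex e e (jordanTypeMatrix d F)) A) (m : ℕ) :
    ((A - 1) ^ m).rank = ∑ k, (d k - m) := by
  rw [rank_sub_one_pow_of_isConj _ _ h, reindex_sub_one_pow, Matrix.rank_reindex, rank_jt_sub_one_pow]

theorem jt_sub_one_pow_eq_zero (m : ℕ) (hm : ∀ k, d k ≤ m) : (jordanTypeMatrix d F - 1) ^ m = 0 := by
  ext x y
  rw [jt_sub_one_pow, Matrix.zero_apply, if_neg]
  rintro ⟨_, h2⟩
  have := x.2.2
  have := hm x.1
  omega

theorem isNilpotent_of_isConj_jt (e : ((k : Fin t) × Fin (d k)) ≃ ι') (A : Matrix ι' ι' F)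
    (h : IsConj (Matrix.reindex e e (jordanTypeMatrix d F)) A) : IsNilpotent (A - 1) := by
  refine ⟨∑ k, d k, ?_⟩
  obtain ⟨c, hc⟩ := sub_one_pow_of_isConj _ _ h (∑ k, d k)
  rw [reindex_sub_one_pow, jt_sub_one_pow_eq_zero d _
    (fun k => Finset.single_le_sum (fun _ _ => Nat.zero_le _) (Finset.mem_univ k))] at hc
  have h0 : (Matrix.reindex e e) (0 : Matrix _ _ F) = 0 := by
    ext; rfl
  rw [h0, Matrix.mul_zero] at hc
  have h1 : (A - 1) ^ (∑ k, d k) * (c : Matrix ι' ι' F) * ((c⁻¹ : (Matrix ι' ι' F)ˣ) : Matrix ι' ι' F) = 0 := by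
    rw [← hc, Matrix.zero_mul]
  rwa [Matrix.mul_assoc, Units.mul_inv, Matrix.mul_one] at h1

theorem even_count_odd (h : ∀ k, Even (∑ i, (d i - 2 * k))) (j : ℕ) (hj : Odd j) :
    Even (Finset.univ.filter (fun k : Fin t => d k = j)).card := by
  obtain ⟨k, rfl⟩ := hj
  have h1 := count_add d (2 * k + 1) (by omega)
  have e1 : 2 * k + 1 - 1 = 2 * k := by omega
  have e2 : 2 * k + 1 + 1 = 2 * (k + 1) := by omega
  rw [e1, e2] at h1
  have h2 : Even ((Finset.univ.filter (fun i : Fin t => d i = 2 * k + 1)).card +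
      2 * ∑ i, (d i - (2 * k + 1))) := by
    rw [h1]
    exact (h k).add (h (k + 1))
  rw [Nat.even_add] at h2
  exact h2.mpr (even_two_mul _)

theorem even_count_even (h : ∀ k, Even (∑ i, (d i - (2 * k + 1)))) (j : ℕ) (hj : Even j) (hpos : 0 < j) :
    Even (Finset.univ.filter (fun k : Fin t => d k = j)).card := by
  obtain ⟨k, rfl⟩ := hj
  have h1 := count_add d (k + k) (by omega)
  have e1 : k + k - 1 = 2 * (k - 1) + 1 := by omega
  have e2 : k + k + 1 = 2 * k + 1 := by omega
  rw [e1, e2] at h1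
  have h2 : Even ((Finset.univ.filter (fun i : Fin t => d i = k + k)).card +
      2 * ∑ i, (d i - (k + k))) := by
    rw [h1]
    exact (h (k - 1)).add (h k)
  rw [Nat.even_add] at h2
  exact h2.mpr (even_two_mul _)

end Transfer

end Cfsg.Agent.Lib.Helper8.JType
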