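import Mathlib
import Cfsg.Agent.Lib.Helper8.JTypeB

/-!
# Centralisers of unipotent matrices of given Jordan type, part A (helper8)

Matrices commuting with `jordanTypeMatrix d F` are determined by the images of the cyclic generators, and
such a matrix is invertible iff its "top" matrix is.
-/

set_option autoImplicit false

namespace Cfsg.Agent.Lib.Helper8.JCent

open Cfsg Module Matrix Cfsg.Agent.Lib.Helper8.JType

variable {F : Type*} [Field F] {t : ℕ} (d : Fin t → ℕ)

/-- the nilpotent part -/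
def NJ (F : Type*) [Field F] {t : ℕ} (d : Fin t → ℕ) :
    Matrix ((k : Fin t) × Fin (d k)) ((k : Fin t) × Fin (d k)) F := jordanTypeMatrix d F - 1

theorem NJ_pow_apply (m : ℕ) (x y : (k : Fin t) × Fin (d k)) :
    ((NJ F d) ^ m) x y = if x.1 = y.1 ∧ (x.2 : ℕ) = (y.2 : ℕ) + m then (1 : F) else 0 :=
  jt_sub_one_pow d m x y

theorem NJ_apply (x y : (k : Fin t) × Fin (d k)) :
    (NJ F d) x y = if x.1 = y.1 ∧ (x.2 : ℕ) = (y.2 : ℕ) + 1 then (1 : F) else 0 := by
  have := NJ_pow_apply (F := F) d 1 x y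
  rwa [pow_one] at this

theorem comm_iff (g : Matrix ((k : Fin t) × Fin (d k)) ((k : Fin t) × Fin (d k)) F) :
    g * jordanTypeMatrix d F = jordanTypeMatrix d F * g ↔ g * NJ F d = NJ F d * g := by
  unfold NJ
  rw [Matrix.mul_sub, Matrix.sub_mul, Matrix.mul_one, Matrix.one_mul]
  constructor
  · intro h; rw [h]
  · intro h; exact sub_left_injective h

theorem NJ_pow_mulVec_single (m : ℕ) (y : (k : Fin t) × Fin (d k)) :
    ((NJ F d) ^ m).mulVec (Pi.single y 1) =
      if h : (y.2 : ℕ) + m < d y.1 then Pi.single (⟨y.1, ⟨(y.2 : ℕ) + m, h⟩⟩ : (k : Fin t) × Fin (d k)) 1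
      else 0 := by
  rw [Matrix.mulVec_single_one]
  funext x
  rw [Matrix.col_apply, NJ_pow_apply]
  by_cases h : (y.2 : ℕ) + m < d y.1
  · rw [dif_pos h, Pi.single_apply]
    by_cases hx : x.1 = y.1 ∧ (x.2 : ℕ) = (y.2 : ℕ) + m
    · rw [if_pos hx, if_pos]
      obtain ⟨k, i⟩ := x
      obtain ⟨k', j⟩ := y
      obtain ⟨h1, h2⟩ := hx
      simp only at h1 h2
      subst h1
      simp only [Sigma.mk.injEq, heq_eq_eq, true_and]
      exact Fin.ext h2
    · rw [if_neg hx, if_neg]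
      intro h3
      apply hx
      rw [h3]
      exact ⟨rfl, rfl⟩
  · rw [dif_neg h, Pi.zero_apply, if_neg]
    rintro ⟨h1, h2⟩
    have h3 := x.2.2
    have h4 : d x.1 = d y.1 := congrArg d h1
    omega

theorem NJ_mulVec (b : (k : Fin t) × Fin (d k) → F) (x : (k : Fin t) × Fin (d k)) :
    ((NJ F d).mulVec b) x =
      if h : 1 ≤ (x.2 : ℕ) then b ⟨x.1, ⟨(x.2 : ℕ) - 1, by have := x.2.2; omega⟩⟩ else 0 := by
  rw [Matrix.mulVec, dotProduct]
  by_cases h : 1 ≤ (x.2 : ℕ)
  · rw [dif_pos h, Finset.sum_eq_single (⟨x.1, ⟨(x.2 : ℕ) - 1, by have := x.2.2; omega⟩⟩ :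
      (k : Fin t) × Fin (d k))]
    · rw [NJ_apply, if_pos ⟨rfl, by simp only; omega⟩, one_mul]
    · intro y _ hy
      rw [NJ_apply, if_neg, zero_mul]
      rintro ⟨h1, h2⟩
      apply hy
      obtain ⟨k, i⟩ := x
      obtain ⟨k', j⟩ := y
      simp only at h1 h2
      subst h1
      simp only [Sigma.mk.injEq, heq_eq_eq, true_and]
      apply Fin.ext
      simp only
      omega
    · intro h2; exact absurd (Finset.mem_univ _) h2
  · rw [dif_neg h]
    apply Finset.sum_eq_zero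
    intro y _
    rw [NJ_apply, if_neg, zero_mul]
    rintro ⟨_, h2⟩
    omega

variable (hd : ∀ k, 1 ≤ d k)

/-- the cyclic generator of the `k`-th block -/
def top (hd : ∀ k, 1 ≤ d k) (k : Fin t) : (k : Fin t) × Fin (d k) := ⟨k, ⟨0, hd k⟩⟩

theorem single_eq (k : Fin t) (j : Fin (d k)) :
    (Pi.single (⟨k, j⟩ : (k : Fin t) × Fin (d k)) 1 : (k : Fin t) × Fin (d k) → F) =
      ((NJ F d) ^ (j : ℕ)).mulVec (Pi.single (top d hd k) 1) := by
  rw [NJ_pow_mulVec_single]
  have h : ((top d hd k).2 : ℕ) + (j : ℕ) < d (top d hd k).1 := by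
    show 0 + (j : ℕ) < d k
    have := j.2; omega
  rw [dif_pos h]
  congr 1
  simp only [top]
  congr 1
  apply Fin.ext
  simp

theorem NJ_pow_top (k : Fin t) :
    ((NJ F d) ^ (d k)).mulVec (Pi.single (top d hd k) 1) = 0 := by
  rw [NJ_pow_mulVec_single, dif_neg]
  show ¬ (0 + d k < d k)
  omega

theorem ext_of_top (g g' : Matrix ((k : Fin t) × Fin (d k)) ((k : Fin t) × Fin (d k)) F)
    (hg : g * NJ F d = NJ F d * g) (hg' : g' * NJ F d = NJ F d * g')
    (h : ∀ k, g.mulVec (Pi.single (top d hd k) 1) = g'.mulVec (Pi.single (top d hd k) 1)) : g = g' := by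
  have hcol : ∀ y : (k : Fin t) × Fin (d k), g.mulVec (Pi.single y 1) = g'.mulVec (Pi.single y 1) := by
    rintro ⟨k, j⟩
    have h1 : Commute g (NJ F d ^ (j : ℕ)) := Commute.pow_right hg _
    have h2 : Commute g' (NJ F d ^ (j : ℕ)) := Commute.pow_right hg' _
    rw [single_eq d hd, Matrix.mulVec_mulVec, Matrix.mulVec_mulVec, h1.eq, h2.eq,
      ← Matrix.mulVec_mulVec, ← Matrix.mulVec_mulVec, h k]
  ext x y
  have := congrFun (hcol y) x
  rwa [Matrix.mulVec_single_one, Matrix.mulVec_single_one] at this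

/-- the matrix with prescribed images of the cyclic generators -/
def GC (c : Fin t → (k : Fin t) × Fin (d k) → F) :
    Matrix ((k : Fin t) × Fin (d k)) ((k : Fin t) × Fin (d k)) F :=
  Matrix.of fun x y => (((NJ F d) ^ (y.2 : ℕ)).mulVec (c y.1)) x

theorem GC_mulVec_single (c : Fin t → (k : Fin t) × Fin (d k) → F) (y : (k : Fin t) × Fin (d k)) :
    (GC d c).mulVec (Pi.single y 1) = ((NJ F d) ^ (y.2 : ℕ)).mulVec (c y.1) := by
  rw [Matrix.mulVec_single_one]
  funext x
  rfl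

theorem GC_top (c : Fin t → (k : Fin t) × Fin (d k) → F) (k : Fin t) :
    (GC d c).mulVec (Pi.single (top d hd k) 1) = c k := by
  rw [GC_mulVec_single]
  show ((NJ F d) ^ 0).mulVec (c k) = c k
  rw [pow_zero, Matrix.one_mulVec]

theorem ext_mulVec_single {ι : Type*} [Fintype ι] [DecidableEq ι] (A B : Matrix ι ι F)
    (h : ∀ y, A.mulVec (Pi.single y 1) = B.mulVec (Pi.single y 1)) : A = B := by
  ext x y
  have := congrFun (h y) x
  rwa [Matrix.mulVec_single_one, Matrix.mulVec_single_one] at this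

theorem GC_comm (c : Fin t → (k : Fin t) × Fin (d k) → F)
    (hc : ∀ k, ((NJ F d) ^ (d k)).mulVec (c k) = 0) : GC d c * NJ F d = NJ F d * GC d c := by
  apply ext_mulVec_single
  rintro ⟨k, j⟩
  rw [← Matrix.mulVec_mulVec, ← Matrix.mulVec_mulVec, GC_mulVec_single]
  have h1 := NJ_pow_mulVec_single (F := F) d 1 (⟨k, j⟩ : (k : Fin t) × Fin (d k))
  rw [pow_one] at h1
  rw [h1]
  simp only
  by_cases h : (j : ℕ) + 1 < d k
  · rw [dif_pos h, GC_mulVec_single, Matrix.mulVec_mulVec, ← pow_succ']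
  · rw [dif_neg h, Matrix.mulVec_zero, Matrix.mulVec_mulVec, ← pow_succ']
    have : (j : ℕ) + 1 = d k := by have := j.2; omega
    rw [this, hc]

/-- projection to the top coordinates -/
def RT (F : Type*) [Field F] {t : ℕ} (d : Fin t → ℕ) (hd : ∀ k, 1 ≤ d k) :
    Matrix (Fin t) ((k : Fin t) × Fin (d k)) F :=
  Matrix.of fun l x => if x = top d hd l then 1 else 0

theorem RT_mulVec (v : (k : Fin t) × Fin (d k) → F) (l : Fin t) :
    ((RT F d hd).mulVec v) l = v (top d hd l) := by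
  rw [Matrix.mulVec, dotProduct, Finset.sum_eq_single (top d hd l)]
  · rw [RT, Matrix.of_apply, if_pos rfl, one_mul]
  · intro x _ hx
    rw [RT, Matrix.of_apply, if_neg hx, zero_mul]
  · intro h; exact absurd (Finset.mem_univ _) h

theorem RTt_mulVec (a : Fin t → F) (x : (k : Fin t) × Fin (d k)) :
    ((RT F d hd)ᵀ.mulVec a) x = if (x.2 : ℕ) = 0 then a x.1 else 0 := by
  rw [Matrix.mulVec, dotProduct]
  by_cases h : (x.2 : ℕ) = 0
  · rw [if_pos h, Finset.sum_eq_single x.1]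
    · rw [Matrix.transpose_apply, RT, Matrix.of_apply, if_pos, one_mul]
      obtain ⟨k, i⟩ := x
      simp only [top]
      congr 1
      exact Fin.ext h
    · intro l _ hl
      rw [Matrix.transpose_apply, RT, Matrix.of_apply, if_neg, zero_mul]
      intro h2
      apply hl
      rw [h2]
      rfl
    · intro h2; exact absurd (Finset.mem_univ _) h2
  · rw [if_neg h]
    apply Finset.sum_eq_zero
    intro l _
    rw [Matrix.transpose_apply, RT, Matrix.of_apply, if_neg, zero_mul]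
    intro h2
    apply h
    rw [h2]
    rfl

theorem RT_NJ (b : (k : Fin t) × Fin (d k) → F) :
    (RT F d hd).mulVec ((NJ F d).mulVec b) = 0 := by
  funext l
  rw [RT_mulVec, NJ_mulVec, dif_neg, Pi.zero_apply]
  show ¬ (1 ≤ 0)
  omega

theorem RT_RTt (a : Fin t → F) : (RT F d hd).mulVec ((RT F d hd)ᵀ.mulVec a) = a := by
  funext l
  rw [RT_mulVec, RTt_mulVec]
  show (if (0 : ℕ) = 0 then a l else 0) = a l
  rw [if_pos rfl]

theorem decomp (v : (k : Fin t) × Fin (d k) → F) :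
    ∃ b : (k : Fin t) × Fin (d k) → F,
      v = (RT F d hd)ᵀ.mulVec ((RT F d hd).mulVec v) + (NJ F d).mulVec b := by
  refine ⟨fun x => if h : (x.2 : ℕ) + 1 < d x.1 then v ⟨x.1, ⟨(x.2 : ℕ) + 1, h⟩⟩ else 0, ?_⟩
  funext x
  rw [Pi.add_apply, RTt_mulVec, NJ_mulVec, RT_mulVec]
  obtain ⟨k, i⟩ := x
  by_cases h : (i : ℕ) = 0
  · simp only
    rw [if_pos h, dif_neg (by omega), add_zero]
    simp only [top]
    congr 2
    exact Fin.ext h
  · simp only
    rw [if_neg h, dif_pos (by omega), zero_add]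
    have h1 : (i : ℕ) - 1 + 1 < d k := by have := i.2; omega
    rw [dif_pos h1]
    congr 2
    apply Fin.ext
    simp only
    omega

/-- the induced matrix on the quotient by the image of the nilpotent part -/
def Mbar (g : Matrix ((k : Fin t) × Fin (d k)) ((k : Fin t) × Fin (d k)) F) : Matrix (Fin t) (Fin t) F :=
  RT F d hd * g * (RT F d hd)ᵀ

theorem Mbar_apply (g : Matrix ((k : Fin t) × Fin (d k)) ((k : Fin t) × Fin (d k)) F) (l k : Fin t) :
    Mbar d hd g l k = g (top d hd l) (top d hd k) := by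
  have h1 : Mbar d hd g l k = ((Mbar d hd g).mulVec (Pi.single k 1)) l := by
    rw [Matrix.mulVec_single_one]; rfl
  rw [h1, Mbar, ← Matrix.mulVec_mulVec, ← Matrix.mulVec_mulVec, RT_mulVec]
  have h2 : (RT F d hd)ᵀ.mulVec (Pi.single k 1) = Pi.single (top d hd k) 1 := by
    funext x
    rw [RTt_mulVec, Pi.single_apply (top d hd k)]
    by_cases hx : x = top d hd k
    · subst hx
      rw [if_pos rfl]
      show (if (0 : ℕ) = 0 then (Pi.single k (1 : F) : Fin t → F) k else 0) = 1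
      rw [if_pos rfl, Pi.single_eq_same]
    · rw [if_neg hx]
      by_cases h : (x.2 : ℕ) = 0
      · rw [if_pos h, Pi.single_apply, if_neg]
        intro hk
        apply hx
        obtain ⟨k', i⟩ := x
        simp only at hk
        subst hk
        simp only [top]
        congr 1
        exact Fin.ext h
      · rw [if_neg h]
  rw [h2, Matrix.mulVec_single_one]
  rfl

theorem Mbar_mulVec (g : Matrix ((k : Fin t) × Fin (d k)) ((k : Fin t) × Fin (d k)) F) (b : Fin t → F) :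
    (Mbar d hd g).mulVec b = (RT F d hd).mulVec (g.mulVec ((RT F d hd)ᵀ.mulVec b)) := by
  rw [Mbar, ← Matrix.mulVec_mulVec, ← Matrix.mulVec_mulVec]

theorem isUnit_Mbar_of_isUnit (g : Matrix ((k : Fin t) × Fin (d k)) ((k : Fin t) × Fin (d k)) F)
    (hg : g * NJ F d = NJ F d * g) (hu : IsUnit g) : IsUnit (Mbar d hd g) := by
  rw [← Matrix.mulVec_surjective_iff_isUnit] at hu ⊢
  intro a
  obtain ⟨u, hu'⟩ := hu ((RT F d hd)ᵀ.mulVec a)
  obtain ⟨b', hb'⟩ := decomp d hd u
  refine ⟨(RT F d hd).mulVec u, ?_⟩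
  rw [Mbar_mulVec]
  have h1 : g.mulVec u = g.mulVec ((RT F d hd)ᵀ.mulVec ((RT F d hd).mulVec u)) +
      (NJ F d).mulVec (g.mulVec b') := by
    conv_lhs => rw [hb']
    rw [Matrix.mulVec_add, Matrix.mulVec_mulVec _ g (NJ F d), hg, ← Matrix.mulVec_mulVec]
  have h2 := congrArg (fun w => (RT F d hd).mulVec w) h1
  simp only [Matrix.mulVec_add, RT_NJ, add_zero] at h2
  rw [← h2, hu', RT_RTt]

theorem isUnit_of_isUnit_Mbar (g : Matrix ((k : Fin t) × Fin (d k)) ((k : Fin t) × Fin (d k)) F)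
    (hg : g * NJ F d = NJ F d * g) (hu : IsUnit (Mbar d hd g)) : IsUnit g := by
  rw [← Matrix.mulVec_surjective_iff_isUnit] at hu ⊢
  have hbase : ∀ v : (k : Fin t) × Fin (d k) → F, ∃ a b, v = g.mulVec a + (NJ F d).mulVec b := by
    intro v
    obtain ⟨b₁, hb₁⟩ := decomp d hd v
    obtain ⟨b₀, hb₀⟩ := hu ((RT F d hd).mulVec v)
    obtain ⟨b₂, hb₂⟩ := decomp d hd (g.mulVec ((RT F d hd)ᵀ.mulVec b₀))
    rw [← Mbar_mulVec, hb₀] at hb₂
    refine ⟨(RT F d hd)ᵀ.mulVec b₀, b₁ - b₂, ?_⟩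
    rw [Matrix.mulVec_sub, hb₂]
    conv_lhs => rw [hb₁]
    abel
  have hstep : ∀ m : ℕ, ∀ v : (k : Fin t) × Fin (d k) → F,
      ∃ a b, v = g.mulVec a + ((NJ F d) ^ m).mulVec b := by
    intro m
    induction m with
    | zero =>
      intro v
      exact ⟨0, v, by rw [Matrix.mulVec_zero, zero_add, pow_zero, Matrix.one_mulVec]⟩
    | succ m ih =>
      intro v
      obtain ⟨a, b, hab⟩ := ih v
      obtain ⟨a', b', hab'⟩ := hbase b
      refine ⟨a + ((NJ F d) ^ m).mulVec a', b', ?_⟩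
      have hcomm : Commute g (NJ F d ^ m) := Commute.pow_right hg _
      rw [hab, hab', Matrix.mulVec_add, Matrix.mulVec_add, Matrix.mulVec_mulVec _ g (NJ F d ^ m), hcomm.eq,
        ← Matrix.mulVec_mulVec, Matrix.mulVec_mulVec _ (NJ F d ^ m) (NJ F d), ← pow_succ, add_assoc]
  intro v
  obtain ⟨a, b, hab⟩ := hstep (∑ k, d k) v
  refine ⟨a, ?_⟩
  have hz : (NJ F d) ^ (∑ k, d k) = 0 := jt_sub_one_pow_eq_zero d _
    (fun k => Finset.single_le_sum (fun _ _ => Nat.zero_le _) (Finset.mem_univ k))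
  rw [hab, hz, Matrix.zero_mulVec, add_zero]

end Cfsg.Agent.Lib.Helper8.JCent
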