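import Mathlib
import Cfsg.Agent.Lib.Helper8.JCentA

/-!
# Centralisers of unipotent matrices of given Jordan type, part B (helper8)

Parametrisation of the centraliser by tuples of vectors in kernels, and generic counting lemmas.
-/

set_option autoImplicit false

namespace Cfsg.Agent.Lib.Helper8.JCent

open Cfsg Module Matrix Cfsg.Agent.Lib.Helper8.JType

section Generic

/-- fibres of a surjective additive homomorphism all have the size of the kernel -/
theorem card_fiber_mul {W Y : Type*} [AddCommGroup W] [AddCommGroup Y] [Finite W] [Finite Y]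
    (π : W →+ Y) (hπ : Function.Surjective π) (p : Y → Prop) :
    Nat.card {w : W // p (π w)} * Nat.card Y = Nat.card {y : Y // p y} * Nat.card W := by
  choose s hs using hπ
  have key : ∀ p' : Y → Prop, Nat.card {w : W // p' (π w)} = Nat.card {y : Y // p' y} * Nat.card π.ker := by
    intro p'
    rw [← Nat.card_prod]
    apply Nat.card_congr
    exact
      { toFun := fun w => (⟨π w.1, w.2⟩, ⟨w.1 - s (π w.1), by
          rw [AddMonoidHom.mem_ker, map_sub, hs, sub_self]⟩)
        invFun := fun yk => ⟨s yk.1.1 + yk.2.1, by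
          rw [map_add, hs, (AddMonoidHom.mem_ker).mp yk.2.2, add_zero]; exact yk.1.2⟩
        left_inv := fun w => by
          apply Subtype.ext
          simp
        right_inv := fun yk => by
          obtain ⟨⟨y, hy⟩, ⟨k, hk⟩⟩ := yk
          have hk' : π k = 0 := (AddMonoidHom.mem_ker).mp hk
          apply Prod.ext
          · apply Subtype.ext
            simp only [map_add, hs, hk', add_zero]
          · apply Subtype.ext
            simp only [map_add, hs, hk', add_zero, add_sub_cancel_left] }
  have h1 := key p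
  have h2 := key (fun _ => True)
  have h3 : Nat.card {w : W // (fun _ => True) (π w)} = Nat.card W :=
    Nat.card_congr (Equiv.subtypeUnivEquiv (fun _ => trivial))
  have h4 : Nat.card {y : Y // (fun _ => True) y} = Nat.card Y :=
    Nat.card_congr (Equiv.subtypeUnivEquiv (fun _ => trivial))
  rw [h3, h4] at h2
  rw [h1, h2]
  ring

/-- invertible matrices as a subtype -/
noncomputable def unitsEquivSubtype (M : Type*) [Monoid M] : {x : M // IsUnit x} ≃ Mˣ where
  toFun x := x.2.unit
  invFun u := ⟨u.1, u.isUnit⟩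
  left_inv x := by
    apply Subtype.ext
    simp
  right_inv u := by
    apply Units.ext
    simp

theorem card_isUnit_matrix {F : Type*} [Field F] [Fintype F] {S : Type*} [Fintype S] [DecidableEq S]
    (n : ℕ) (hn : Fintype.card S = n) :
    Nat.card {M : Matrix S S F // IsUnit M} =
      ∏ i : Fin n, (Fintype.card F ^ n - Fintype.card F ^ (i : ℕ)) := by
  rw [← Matrix.card_GL_field (𝔽 := F) n]
  apply Nat.card_congr
  refine (unitsEquivSubtype (Matrix S S F)).trans ?_
  exact (Units.mapEquiv (Matrix.reindexAlgEquiv F F (Fintype.equivFinOfCardEq hn)).toMulEquiv).toEquiv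

end Generic

section Param

variable {F : Type*} [Field F] {t : ℕ} (d : Fin t → ℕ) (hd : ∀ k, 1 ≤ d k)

theorem NJ_pow_mulVec (m : ℕ) (v : (k : Fin t) × Fin (d k) → F) (x : (k : Fin t) × Fin (d k)) :
    (((NJ F d) ^ m).mulVec v) x =
      if h : m ≤ (x.2 : ℕ) then v ⟨x.1, ⟨(x.2 : ℕ) - m, by have := x.2.2; omega⟩⟩ else 0 := by
  rw [Matrix.mulVec, dotProduct]
  by_cases h : m ≤ (x.2 : ℕ)
  · rw [dif_pos h, Finset.sum_eq_single (⟨x.1, ⟨(x.2 : ℕ) - m, by have := x.2.2; omega⟩⟩ :
      (k : Fin t) × Fin (d k))]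
    · rw [NJ_pow_apply, if_pos ⟨rfl, by simp only; omega⟩, one_mul]
    · intro y _ hy
      rw [NJ_pow_apply, if_neg, zero_mul]
      rintro ⟨h1, h2⟩
      apply hy
      obtain ⟨k, i⟩ := x
      obtain ⟨k', j⟩ := y
      simp only at h1 h2
      subst h1
      simp only [Sigma.mk.injEq, heq_eq_eq, true_and]
      apply Fin.ext
      simp only
      omega
    · intro h2; exact absurd (Finset.mem_univ _) h2
  · rw [dif_neg h]
    apply Finset.sum_eq_zero
    intro y _
    rw [NJ_pow_apply, if_neg, zero_mul]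
    rintro ⟨_, h2⟩
    omega

/-- the kernel of `N ^ (d k)` -/
abbrev KK (F : Type*) [Field F] {t : ℕ} (d : Fin t → ℕ) (k : Fin t) :
    Submodule F ((k : Fin t) × Fin (d k) → F) :=
  LinearMap.ker ((NJ F d ^ (d k)).mulVecLin)

theorem mem_KK (k : Fin t) (v : (k : Fin t) × Fin (d k) → F) :
    v ∈ KK F d k ↔ ((NJ F d) ^ (d k)).mulVec v = 0 := by
  rw [LinearMap.mem_ker, Matrix.mulVecLin_apply]

/-- the top matrix of a tuple of vectors -/
def Mc (c : ∀ k, KK F d k) : Matrix (Fin t) (Fin t) F :=
  Matrix.of fun l k => (c k).1 (top d hd l)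

theorem Mc_eq (c : ∀ k, KK F d k) : Mc d hd c = Mbar d hd (GC d (fun k => (c k).1)) := by
  ext l k
  rw [Mbar_apply]
  have h1 := congrFun (GC_top d hd (fun k => (c k).1) k) (top d hd l)
  rw [Matrix.mulVec_single_one] at h1
  exact h1.symm

theorem Mc_blockTriangular (c : ∀ k, KK F d k) : (Mc d hd c).BlockTriangular d := by
  intro l k hlk
  have hlk' : d k < d l := hlk
  have h1 := (mem_KK d k _).mp (c k).2
  have h2 := congrFun h1 (⟨l, ⟨d k, hlk'⟩⟩ : (k : Fin t) × Fin (d k))
  rw [NJ_pow_mulVec, dif_pos (le_refl _), Pi.zero_apply] at h2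
  simp only [Nat.sub_self] at h2
  exact h2

theorem GC_comm' (c : ∀ k, KK F d k) :
    GC d (fun k => (c k).1) * NJ F d = NJ F d * GC d (fun k => (c k).1) :=
  GC_comm d _ (fun k => (mem_KK d k _).mp (c k).2)

/-- the centraliser of the Jordan type matrix, parametrised by tuples of kernel vectors -/
noncomputable def centEquiv :
    {g : GL ((k : Fin t) × Fin (d k)) F //
      (g : Matrix ((k : Fin t) × Fin (d k)) ((k : Fin t) × Fin (d k)) F) * jordanTypeMatrix d F =
        jordanTypeMatrix d F * (g : Matrix ((k : Fin t) × Fin (d k)) ((k : Fin t) × Fin (d k)) F)} ≃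
      {c : ∀ k, KK F d k // IsUnit (Mc d hd c)} where
  toFun g := by
    have hg : (g.1 : Matrix ((k : Fin t) × Fin (d k)) ((k : Fin t) × Fin (d k)) F) * NJ F d =
        NJ F d * (g.1 : Matrix ((k : Fin t) × Fin (d k)) ((k : Fin t) × Fin (d k)) F) :=
      (comm_iff d _).mp g.2
    refine ⟨fun k => ⟨(g.1 : Matrix ((k : Fin t) × Fin (d k)) ((k : Fin t) × Fin (d k)) F).mulVec
      (Pi.single (top d hd k) 1), ?_⟩, ?_⟩
    · rw [mem_KK, Matrix.mulVec_mulVec, ← (Commute.pow_right hg (d k)).eq, ← Matrix.mulVec_mulVec,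
        NJ_pow_top, Matrix.mulVec_zero]
    · rw [Mc_eq]
      have h1 : GC d (fun k => (g.1 : Matrix ((k : Fin t) × Fin (d k)) ((k : Fin t) × Fin (d k)) F).mulVec
          (Pi.single (top d hd k) 1)) =
          (g.1 : Matrix ((k : Fin t) × Fin (d k)) ((k : Fin t) × Fin (d k)) F) := by
        apply ext_of_top d hd _ _ _ hg
        · intro k
          rw [GC_top]
        · apply GC_comm
          intro k
          rw [Matrix.mulVec_mulVec, ← (Commute.pow_right hg (d k)).eq, ← Matrix.mulVec_mulVec,
            NJ_pow_top, Matrix.mulVec_zero]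
      simp only
      rw [h1]
      exact isUnit_Mbar_of_isUnit d hd _ hg g.1.isUnit
  invFun c := by
    have hu : IsUnit (GC d (fun k => (c.1 k).1)) := by
      apply isUnit_of_isUnit_Mbar d hd _ (GC_comm' d c.1)
      rw [← Mc_eq]
      exact c.2
    refine ⟨hu.unit, ?_⟩
    rw [comm_iff, IsUnit.unit_spec]
    exact GC_comm' d c.1
  left_inv g := by
    have hg : (g.1 : Matrix ((k : Fin t) × Fin (d k)) ((k : Fin t) × Fin (d k)) F) * NJ F d =
        NJ F d * (g.1 : Matrix ((k : Fin t) × Fin (d k)) ((k : Fin t) × Fin (d k)) F) :=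
      (comm_iff d _).mp g.2
    apply Subtype.ext
    apply Units.ext
    simp only [IsUnit.unit_spec]
    apply ext_of_top d hd _ _ _ hg
    · intro k
      rw [GC_top]
    · apply GC_comm
      intro k
      rw [Matrix.mulVec_mulVec, ← (Commute.pow_right hg (d k)).eq, ← Matrix.mulVec_mulVec,
        NJ_pow_top, Matrix.mulVec_zero]
  right_inv c := by
    apply Subtype.ext
    funext k
    apply Subtype.ext
    simp only [IsUnit.unit_spec]
    rw [GC_top]

end Param

end Cfsg.Agent.Lib.Helper8.JCent
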