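import Mathlib
import Cfsg.Agent.Lib.Helper8.JCentB

/-!
# Centralisers of unipotent matrices of given Jordan type, part C (helper8)

The projection to the diagonal blocks, its surjectivity, and the invertibility criterion.
-/

set_option autoImplicit false

namespace Cfsg.Agent.Lib.Helper8.JCent

open Cfsg Module Matrix Cfsg.Agent.Lib.Helper8.JType

section Blocks

variable {F : Type*} [Field F] {t : ℕ} (d : Fin t → ℕ) (hd : ∀ k, 1 ≤ d k)

/-- the bound on block sizes used in the statement -/
abbrev BB (d : Fin t → ℕ) : ℕ := Finset.univ.sup d + 1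

theorem lt_BB (k : Fin t) : d k < BB d := Nat.lt_succ_of_le (Finset.le_sup (Finset.mem_univ k))

/-- the blocks of size `a` -/
abbrev SS (d : Fin t → ℕ) (a : ℕ) : Type := {k : Fin t // d k = a}

/-- the projection to the diagonal blocks -/
def piB : (∀ k, KK F d k) →+ (∀ a : Fin (BB d), Matrix (SS d a.val) (SS d a.val) F) where
  toFun c := fun a => (Mc d hd c).toSquareBlock d a.val
  map_zero' := by
    funext a
    ext l k
    rfl
  map_add' c c' := by
    funext a
    ext l k
    rfl

theorem piB_apply (c : ∀ k, KK F d k) (a : Fin (BB d)) (l k : SS d a.val) :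
    piB d hd c a l k = (c k.1).1 (top d hd l.1) := rfl

theorem isUnit_Mc_iff (c : ∀ k, KK F d k) :
    IsUnit (Mc d hd c) ↔ ∀ a : Fin (BB d), IsUnit (piB d hd c a) := by
  classical
  rw [Matrix.isUnit_iff_isUnit_det, (Mc_blockTriangular d hd c).det, isUnit_iff_ne_zero,
    Finset.prod_ne_zero_iff]
  constructor
  · intro h a
    rw [Matrix.isUnit_iff_isUnit_det, isUnit_iff_ne_zero]
    by_cases ha : a.val ∈ Finset.univ.image d
    · exact h a.val ha
    · have hemp : IsEmpty (SS d a.val) := by
        constructor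
        rintro ⟨k, hk⟩
        apply ha
        rw [Finset.mem_image]
        exact ⟨k, Finset.mem_univ _, hk⟩
      rw [Matrix.det_isEmpty]
      exact one_ne_zero
  · intro h a ha
    rw [Finset.mem_image] at ha
    obtain ⟨k, _, hk⟩ := ha
    have hlt : a < BB d := by rw [← hk]; exact lt_BB d k
    have := h ⟨a, hlt⟩
    rw [Matrix.isUnit_iff_isUnit_det, isUnit_iff_ne_zero] at this
    exact this

theorem piB_surjective : Function.Surjective (piB (F := F) d hd) := by
  classical
  intro y
  let v : Fin t → ((k : Fin t) × Fin (d k) → F) := fun k x =>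
    if h : (x.2 : ℕ) = 0 ∧ d x.1 = d k then y ⟨d k, lt_BB d k⟩ ⟨x.1, h.2⟩ ⟨k, rfl⟩ else 0
  have hv : ∀ k, v k ∈ KK F d k := by
    intro k
    rw [mem_KK]
    funext x
    rw [NJ_pow_mulVec, Pi.zero_apply]
    by_cases h : d k ≤ (x.2 : ℕ)
    · rw [dif_pos h]
      simp only [v]
      rw [dif_neg]
      rintro ⟨h1, h2⟩
      have := x.2.2
      omega
    · rw [dif_neg h]
  refine ⟨fun k => ⟨v k, hv k⟩, ?_⟩
  funext a
  ext l k
  rw [piB_apply]
  obtain ⟨a, ha⟩ := a
  obtain ⟨k, hk⟩ := k
  obtain ⟨l, hl⟩ := l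
  simp only at hk hl
  subst hk
  show v k (top d hd l) = _
  simp only [v]
  rw [dif_pos ⟨rfl, hl⟩]
  rfl

end Blocks

end Cfsg.Agent.Lib.Helper8.JCent
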