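import Mathlib
import Cfsg.Agent.Lib.Helper8.JCentC

/-!
# Centralisers of unipotent matrices of given Jordan type, part D (helper8)

The count: `|C_GL(u)| = q ^ γ * ∏ |GL_{a_i}(q)|`.
-/

set_option autoImplicit false

namespace Cfsg.Agent.Lib.Helper8.JCent

open Cfsg Module Matrix Cfsg.Agent.Lib.Helper8.JType

section Arith

theorem sum_comp_eq {t : ℕ} (d : Fin t → ℕ) (B : ℕ) (hB : ∀ k, d k < B) (f : ℕ → ℕ) :
    ∑ k, f (d k) =
      ∑ i ∈ Finset.range B, (Finset.univ.filter (fun k : Fin t => d k = i)).card * f i := by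
  rw [← Finset.sum_fiberwise_of_maps_to (s := Finset.univ) (t := Finset.range B) (g := d)
    (fun k _ => Finset.mem_range.mpr (hB k))]
  apply Finset.sum_congr rfl
  intro i _
  rw [Finset.sum_congr rfl (fun k hk => by rw [(Finset.mem_filter.mp hk).2] :
    ∀ k ∈ Finset.univ.filter (fun k : Fin t => d k = i), f (d k) = f i)]
  rw [Finset.sum_const, smul_eq_mul]

theorem arith (B : ℕ) (a : ℕ → ℕ) (h0 : a 0 = 0) :
    ∑ i ∈ Finset.range B, a i * ∑ j ∈ Finset.range B, a j * min j i =
      (2 * (∑ i ∈ Finset.range B, ∑ j ∈ Finset.range B, if i < j then i * a i * a j else 0) +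
        ∑ i ∈ Finset.range B, (i - 1) * a i ^ 2) + ∑ i ∈ Finset.range B, a i ^ 2 := by
  have h1 : ∀ i j, a i * (a j * min j i) = (if i < j then i * a i * a j else 0) +
      (if j < i then j * a j * a i else 0) + (if i = j then i * a i ^ 2 else 0) := by
    intro i j
    rcases lt_trichotomy i j with h | h | h
    · rw [if_pos h, if_neg (by omega), if_neg (by omega), min_eq_right h.le]; ring
    · subst h; simp; ring
    · rw [if_neg (by omega), if_pos h, if_neg (by omega), min_eq_left h.le]; ring
  have h2 : ∀ i, i * a i ^ 2 = (i - 1) * a i ^ 2 + a i ^ 2 := by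
    intro i
    rcases Nat.eq_zero_or_pos i with h | h
    · subst h; rw [h0]; simp
    · obtain ⟨m, rfl⟩ : ∃ m, i = m + 1 := ⟨i - 1, by omega⟩
      rw [Nat.add_sub_cancel]; ring
  calc ∑ i ∈ Finset.range B, a i * ∑ j ∈ Finset.range B, a j * min j i
      = ∑ i ∈ Finset.range B, ∑ j ∈ Finset.range B, ((if i < j then i * a i * a j else 0) +
          (if j < i then j * a j * a i else 0) + (if i = j then i * a i ^ 2 else 0)) := by
        apply Finset.sum_congr rfl
        intro i _
        rw [Finset.mul_sum]
        apply Finset.sum_congr rfl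
        intro j _
        exact h1 i j
    _ = (∑ i ∈ Finset.range B, ∑ j ∈ Finset.range B, if i < j then i * a i * a j else 0) +
        (∑ i ∈ Finset.range B, ∑ j ∈ Finset.range B, if i < j then i * a i * a j else 0) +
        ∑ i ∈ Finset.range B, i * a i ^ 2 := by
        simp only [Finset.sum_add_distrib]
        congr 1
        · congr 1
          rw [Finset.sum_comm]
        · apply Finset.sum_congr rfl
          intro i hi
          rw [Finset.sum_ite_eq, if_pos hi]
    _ = _ := by
        rw [Finset.sum_congr rfl (fun i _ => h2 i), Finset.sum_add_distrib]; ring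

end Arith

section Count

variable {F : Type*} [Field F] [Fintype F] {t : ℕ} (d : Fin t → ℕ) (hd : ∀ k, 1 ≤ d k)

omit [Fintype F] in
theorem finrank_KK (k : Fin t) : finrank F (KK F d k) = ∑ l, min (d l) (d k) := by
  have h := LinearMap.finrank_range_add_finrank_ker ((NJ F d ^ (d k)).mulVecLin)
  have hr : finrank F (LinearMap.range (NJ F d ^ d k).mulVecLin) = ∑ l, (d l - d k) :=
    rank_jt_sub_one_pow d (d k)
  rw [hr, Module.finrank_fintype_fun_eq_card, Fintype.card_sigma] at h
  simp only [Fintype.card_fin] at h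
  have h3 : ∑ l, d l = ∑ l, (d l - d k) + ∑ l, min (d l) (d k) := by
    rw [← Finset.sum_add_distrib]
    apply Finset.sum_congr rfl
    intro l _
    omega
  rw [h3] at h
  exact Nat.add_left_cancel h

theorem card_KK (k : Fin t) :
    Nat.card (KK F d k) = Fintype.card F ^ (∑ l, min (d l) (d k)) := by
  rw [Module.natCard_eq_pow_finrank (K := F), finrank_KK, Nat.card_eq_fintype_card]

theorem card_W :
    Nat.card (∀ k, KK F d k) = Fintype.card F ^ (∑ k, ∑ l, min (d l) (d k)) := by
  rw [Nat.card_pi, ← Finset.prod_pow_eq_pow_sum]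
  apply Finset.prod_congr rfl
  intro k _
  exact card_KK d k

omit [Field F] in
theorem card_matrix' (S : Type*) [Fintype S] :
    Nat.card (Matrix S S F) = Fintype.card F ^ (Fintype.card S ^ 2) := by
  show Nat.card (S → S → F) = _
  rw [Nat.card_fun, Nat.card_fun, ← pow_mul, Nat.card_eq_fintype_card, Nat.card_eq_fintype_card,
    sq]

omit [Field F] [Fintype F] in
theorem card_SS (i : ℕ) :
    Fintype.card (SS d i) = (Finset.univ.filter (fun k : Fin t => d k = i)).card :=
  Fintype.card_subtype _

omit [Field F] in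
theorem card_Y :
    Nat.card (∀ a : Fin (BB d), Matrix (SS d a.val) (SS d a.val) F) =
      Fintype.card F ^ (∑ a : Fin (BB d),
        (Finset.univ.filter (fun k : Fin t => d k = a.val)).card ^ 2) := by
  rw [Nat.card_pi, ← Finset.prod_pow_eq_pow_sum]
  apply Finset.prod_congr rfl
  intro a _
  rw [card_matrix', card_SS]

theorem card_unitsY :
    Nat.card {y : ∀ a : Fin (BB d), Matrix (SS d a.val) (SS d a.val) F // ∀ a, IsUnit (y a)} =
      ∏ a : Fin (BB d), ∏ j : Fin ((Finset.univ.filter (fun k : Fin t => d k = a.val)).card),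
        (Fintype.card F ^ ((Finset.univ.filter (fun k : Fin t => d k = a.val)).card) -
          Fintype.card F ^ (j : ℕ)) := by
  rw [Nat.card_congr (Equiv.subtypePiEquivPi), Nat.card_pi]
  apply Finset.prod_congr rfl
  intro a _
  exact card_isUnit_matrix _ (card_SS d a.val)

include hd in
theorem card_cent_mul :
    Nat.card {g : GL ((k : Fin t) × Fin (d k)) F //
      (g : Matrix ((k : Fin t) × Fin (d k)) ((k : Fin t) × Fin (d k)) F) * jordanTypeMatrix d F =
        jordanTypeMatrix d F * (g : Matrix ((k : Fin t) × Fin (d k)) ((k : Fin t) × Fin (d k)) F)} *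
      Fintype.card F ^ (∑ a : Fin (BB d),
        (Finset.univ.filter (fun k : Fin t => d k = a.val)).card ^ 2) =
    (∏ a : Fin (BB d), ∏ j : Fin ((Finset.univ.filter (fun k : Fin t => d k = a.val)).card),
        (Fintype.card F ^ ((Finset.univ.filter (fun k : Fin t => d k = a.val)).card) -
          Fintype.card F ^ (j : ℕ))) *
      Fintype.card F ^ (∑ k, ∑ l, min (d l) (d k)) := by
  rw [Nat.card_congr (centEquiv d hd)]
  have h1 : Nat.card {c : ∀ k, KK F d k // IsUnit (Mc d hd c)} =
      Nat.card {c : ∀ k, KK F d k //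
        (fun y : ∀ a : Fin (BB d), Matrix (SS d a.val) (SS d a.val) F => ∀ a, IsUnit (y a))
          (piB d hd c)} :=
    Nat.card_congr (Equiv.subtypeEquivRight (fun c => isUnit_Mc_iff d hd c))
  rw [h1, ← card_Y, ← card_W, ← card_unitsY]
  exact card_fiber_mul (W := ∀ k, KK F d k)
    (Y := ∀ a : Fin (BB d), Matrix (SS d a.val) (SS d a.val) F) (piB d hd) (piB_surjective d hd)
    (fun y => ∀ a, IsUnit (y a))

include hd in
theorem card_centralizer :
    Nat.card {g : GL ((k : Fin t) × Fin (d k)) F //
      (g : Matrix ((k : Fin t) × Fin (d k)) ((k : Fin t) × Fin (d k)) F) * jordanTypeMatrix d F =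
        jordanTypeMatrix d F * (g : Matrix ((k : Fin t) × Fin (d k)) ((k : Fin t) × Fin (d k)) F)} =
    Fintype.card F ^ (2 * (∑ i ∈ Finset.range (Finset.univ.sup d + 1),
        ∑ j ∈ Finset.range (Finset.univ.sup d + 1),
          if i < j then i * (Finset.univ.filter (fun k : Fin t => d k = i)).card *
            (Finset.univ.filter (fun k : Fin t => d k = j)).card else 0) +
        ∑ i ∈ Finset.range (Finset.univ.sup d + 1),
          (i - 1) * (Finset.univ.filter (fun k : Fin t => d k = i)).card ^ 2) *
      ∏ i ∈ Finset.range (Finset.univ.sup d + 1),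
        ∏ j : Fin ((Finset.univ.filter (fun k : Fin t => d k = i)).card),
          (Fintype.card F ^ (Finset.univ.filter (fun k : Fin t => d k = i)).card -
            Fintype.card F ^ (j : ℕ)) := by
  have hmain := card_cent_mul (F := F) d hd
  rw [Fin.sum_univ_eq_sum_range
      (fun i => (Finset.univ.filter (fun k : Fin t => d k = i)).card ^ 2) (BB d),
    Fin.prod_univ_eq_prod_range
      (fun i => ∏ j : Fin ((Finset.univ.filter (fun k : Fin t => d k = i)).card),
          (Fintype.card F ^ (Finset.univ.filter (fun k : Fin t => d k = i)).card -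
            Fintype.card F ^ (j : ℕ))) (BB d)] at hmain
  have hE : ∑ k, ∑ l, min (d l) (d k) =
      (2 * (∑ i ∈ Finset.range (BB d), ∑ j ∈ Finset.range (BB d),
          if i < j then i * (Finset.univ.filter (fun k : Fin t => d k = i)).card *
            (Finset.univ.filter (fun k : Fin t => d k = j)).card else 0) +
        ∑ i ∈ Finset.range (BB d),
          (i - 1) * (Finset.univ.filter (fun k : Fin t => d k = i)).card ^ 2) +
      ∑ i ∈ Finset.range (BB d), (Finset.univ.filter (fun k : Fin t => d k = i)).card ^ 2 := by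
    rw [← arith (BB d) (fun i => (Finset.univ.filter (fun k : Fin t => d k = i)).card)]
    · rw [sum_comp_eq d (BB d) (lt_BB d) (fun i => ∑ l, min (d l) i)]
      apply Finset.sum_congr rfl
      intro i _
      congr 1
      exact sum_comp_eq d (BB d) (lt_BB d) (fun j => min j i)
    · rw [Finset.card_eq_zero, Finset.filter_eq_empty_iff]
      intro k _ hk
      have := hd k
      omega
  rw [hE, pow_add, ← mul_assoc] at hmain
  have hq : 0 < Fintype.card F ^
      (∑ i ∈ Finset.range (BB d), (Finset.univ.filter (fun k : Fin t => d k = i)).card ^ 2) :=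
    pow_pos Fintype.card_pos _
  have := Nat.eq_of_mul_eq_mul_right hq hmain
  rw [this, mul_comm]

end Count

end Cfsg.Agent.Lib.Helper8.JCent
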