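import Mathlib
import Cfsg.Agent.Lib.Helper8.GUCentA
import Cfsg.Agent.Lib.Helper8.GUSimB
import Cfsg.Agent.Lib.Helper8.GUOrdP
import Cfsg.Agent.Lib.Helper8.JCentD

/-!
# Centralisers of unipotent elements in unitary groups, part B (helper8)

A block-diagonal Hermitian form invariant under the Jordan type matrix.
-/

set_option autoImplicit false

namespace Cfsg.Agent.Lib.Helper8.GUCent

open Cfsg Matrix Cfsg.Agent.Lib.Helper8.SUReg Cfsg.Agent.Lib.Helper8.JType
  Cfsg.Agent.Lib.Helper8.JCent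

/-- the hypotheses on the involution `σ` -/
structure IsInv {K : Type*} [Field K] (σ : K →+* K) : Prop where
  inv : ∀ a : K, σ (σ a) = a
  ne : σ ≠ RingHom.id K
  tr : ∀ b : K, σ b = b → ∃ y : K, y + σ y = b

section Forms

variable {K : Type*} [Field K] [Finite K] (σ : K →+* K) (hσ : IsInv σ)

include hσ in
theorem exists_block_form (m : ℕ) :
    ∃ h : Matrix (Fin m) (Fin m) K, adj σ h = h ∧ h.det ≠ 0 ∧
      adj σ (jordanBlock m K) * h * jordanBlock m K = h := by
  have hnil : IsNilpotent (jordanBlock m K - 1) := by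
    refine ⟨m, ?_⟩
    ext i j
    rw [jb_sub_one_pow, Matrix.zero_apply, if_neg]
    have := i.2
    omega
  have hσbij : Function.Bijective σ := Function.Involutive.bijective (f := σ) hσ.inv
  have hjbu : IsUnit (jordanBlock m K) := by
    have : jordanBlock m K = 1 + (jordanBlock m K - 1) := by abel
    rw [this]
    exact IsNilpotent.isUnit_one_add hnil
  have hjbdet : (jordanBlock m K).det ≠ 0 := ((Matrix.isUnit_iff_isUnit_det _).1 hjbu).ne_zero
  have hadjdet : IsUnit (adj σ (jordanBlock m K)).det := by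
    rw [det_adj]
    exact IsUnit.mk0 _ (by rw [Ne, map_eq_zero]; exact hjbdet)
  obtain ⟨c, hc⟩ := Cfsg.Agent.Lib.Helper8.GUOrdP.isConj_adj_inv σ hσbij (jordanBlock m K) hnil
  have hc' : (c : Matrix (Fin m) (Fin m) K) * jordanBlock m K =
      (adj σ (jordanBlock m K))⁻¹ * (c : Matrix (Fin m) (Fin m) K) := hc
  have hcdet : (c : Matrix (Fin m) (Fin m) K).det ≠ 0 :=
    ((Matrix.isUnit_iff_isUnit_det _).1 c.isUnit).ne_zero
  have hinv : adj σ (jordanBlock m K) * (c : Matrix (Fin m) (Fin m) K) * jordanBlock m K =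
      (c : Matrix (Fin m) (Fin m) K) := by
    rw [Matrix.mul_assoc, hc', ← Matrix.mul_assoc, Matrix.mul_nonsing_inv _ hadjdet, Matrix.one_mul]
  exact Cfsg.Agent.Lib.Helper8.GUSim.exists_hermitian_invariant σ hσ.inv hσ.ne hσ.tr _ _ hjbdet hcdet hinv

/-- a Hermitian form invariant under the Jordan block of size `m` -/
noncomputable def hm (m : ℕ) : Matrix (Fin m) (Fin m) K :=
  Classical.choose (exists_block_form σ hσ m)

theorem hm_herm (m : ℕ) : adj σ (hm σ hσ m) = hm σ hσ m :=
  (Classical.choose_spec (exists_block_form σ hσ m)).1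

theorem hm_det (m : ℕ) : (hm σ hσ m).det ≠ 0 :=
  (Classical.choose_spec (exists_block_form σ hσ m)).2.1

theorem hm_inv (m : ℕ) :
    adj σ (jordanBlock m K) * hm σ hσ m * jordanBlock m K = hm σ hσ m :=
  (Classical.choose_spec (exists_block_form σ hσ m)).2.2

omit [Finite K] in
theorem mul_jb_apply (m : ℕ) (M : Matrix (Fin m) (Fin m) K) (r j : Fin m) :
    (M * jordanBlock m K) r j =
      M r j + if h : j.val + 1 < m then M r ⟨j.val + 1, h⟩ else 0 := by
  have hjb : jordanBlock m K = 1 + (jordanBlock m K - 1) := by abel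
  rw [hjb, Matrix.mul_add, Matrix.mul_one, Matrix.add_apply]
  congr 1
  rw [Matrix.mul_apply]
  by_cases h : j.val + 1 < m
  · rw [dif_pos h, Finset.sum_eq_single (⟨j.val + 1, h⟩ : Fin m)]
    · have := jb_sub_one_pow (F := K) m 1 ⟨j.val + 1, h⟩ j
      rw [pow_one] at this
      rw [this, if_pos rfl, mul_one]
    · intro y _ hy
      have := jb_sub_one_pow (F := K) m 1 y j
      rw [pow_one] at this
      rw [this, if_neg, mul_zero]
      intro hy'
      apply hy
      apply Fin.ext
      exact hy'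
    · intro hx
      exact absurd (Finset.mem_univ _) hx
  · rw [dif_neg h]
    apply Finset.sum_eq_zero
    intro y _
    have := jb_sub_one_pow (F := K) m 1 y j
    rw [pow_one] at this
    rw [this, if_neg, mul_zero]
    intro hy'
    have := y.2
    omega

omit [Finite K] in
theorem adj_jb_mul_apply (m : ℕ) (hm0 : 0 < m) (M : Matrix (Fin m) (Fin m) K) (y : Fin m) :
    (adj σ (jordanBlock m K) * M) ⟨m - 1, by omega⟩ y = M ⟨m - 1, by omega⟩ y := by
  rw [Matrix.mul_apply, Finset.sum_eq_single (⟨m - 1, by omega⟩ : Fin m)]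
  · rw [adj_apply, jordanBlock, Matrix.of_apply, if_pos rfl, map_one, one_mul]
  · intro x _ hx
    rw [adj_apply, jordanBlock, Matrix.of_apply, if_neg, if_neg, map_zero, zero_mul]
    · show ¬ (x.val = (m - 1) + 1)
      have := x.2
      omega
    · show ¬ (x.val = m - 1)
      intro h
      apply hx
      apply Fin.ext
      exact h
  · intro hx
    exact absurd (Finset.mem_univ _) hx

/-- the last row of the invariant form vanishes away from the first column -/
theorem hm_bot (m : ℕ) (hm0 : 0 < m) (j : Fin m) (hj : 1 ≤ j.val) :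
    hm σ hσ m ⟨m - 1, by omega⟩ j = 0 := by
  have h1 := congrFun (congrFun (hm_inv σ hσ m) ⟨m - 1, by omega⟩) ⟨j.val - 1, by have := j.2; omega⟩
  rw [mul_jb_apply, adj_jb_mul_apply σ m hm0, dif_pos (by have := j.2; simp only; omega),
    adj_jb_mul_apply σ m hm0] at h1
  have h2 : hm σ hσ m ⟨m - 1, by omega⟩ ⟨(j.val - 1) + 1, by have := j.2; omega⟩ = 0 := by
    have := add_eq_left.1 h1
    exact this
  have h3 : (⟨(j.val - 1) + 1, by have := j.2; omega⟩ : Fin m) = j := by
    apply Fin.ext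
    show j.val - 1 + 1 = j.val
    omega
  rw [h3] at h2
  exact h2

/-- the corner entry of the invariant form -/
noncomputable def bet (m : ℕ) : K :=
  if h : 0 < m then hm σ hσ m ⟨m - 1, by omega⟩ ⟨0, h⟩ else 0

theorem bet_ne_zero (m : ℕ) (hm0 : 0 < m) : bet σ hσ m ≠ 0 := by
  intro h0
  rw [bet, dif_pos hm0] at h0
  apply hm_det σ hσ m
  apply Matrix.det_eq_zero_of_row_eq_zero (⟨m - 1, by omega⟩ : Fin m)
  intro j
  by_cases hj : 1 ≤ j.val
  · exact hm_bot σ hσ m hm0 j hj
  · have : j = ⟨0, hm0⟩ := by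
      apply Fin.ext
      show j.val = 0
      omega
    rw [this]
    exact h0

end Forms

section Global

variable {K : Type*} [Field K] [Finite K] (σ : K →+* K) (hσ : IsInv σ) {t : ℕ} (d : Fin t → ℕ)
  (hd : ∀ k, 1 ≤ d k)

/-- the block-diagonal invariant Hermitian form -/
noncomputable def h0 : Matrix ((k : Fin t) × Fin (d k)) ((k : Fin t) × Fin (d k)) K :=
  Matrix.blockDiagonal' fun k => hm σ hσ (d k)

theorem adjI_blockDiagonal' (M : ∀ k : Fin t, Matrix (Fin (d k)) (Fin (d k)) K) :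
    adjI σ (Matrix.blockDiagonal' M) = Matrix.blockDiagonal' fun k => adj σ (M k) := by
  unfold adjI adj
  rw [Matrix.blockDiagonal'_map _ _ (map_zero σ), Matrix.blockDiagonal'_transpose]

theorem h0_herm : adjI σ (h0 σ hσ d) = h0 σ hσ d := by
  unfold h0
  rw [adjI_blockDiagonal']
  congr 1
  funext k
  exact hm_herm σ hσ (d k)

theorem h0_inv : adjI σ (jordanTypeMatrix d K) * h0 σ hσ d * jordanTypeMatrix d K = h0 σ hσ d := by
  unfold h0 jordanTypeMatrix
  rw [adjI_blockDiagonal', ← Matrix.blockDiagonal'_mul, ← Matrix.blockDiagonal'_mul]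
  congr 1
  funext k
  exact hm_inv σ hσ (d k)

theorem h0_isUnit : IsUnit (h0 σ hσ d) := by
  have h1 : h0 σ hσ d * Matrix.blockDiagonal' (fun k => (hm σ hσ (d k))⁻¹) = 1 := by
    unfold h0
    rw [← Matrix.blockDiagonal'_mul, ← Matrix.blockDiagonal'_one]
    congr 1
    funext k
    exact Matrix.mul_nonsing_inv _ (IsUnit.mk0 _ (hm_det σ hσ (d k)))
  exact IsUnit.of_mul_eq_one _ h1

theorem h0_apply_ne (x y : (k : Fin t) × Fin (d k)) (h : x.1 ≠ y.1) : h0 σ hσ d x y = 0 := by
  obtain ⟨k, i⟩ := x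
  obtain ⟨l, j⟩ := y
  exact Matrix.blockDiagonal'_apply_ne (fun k => hm σ hσ (d k)) i j h

theorem h0_apply_eq (k : Fin t) (i j : Fin (d k)) :
    h0 σ hσ d ⟨k, i⟩ ⟨k, j⟩ = hm σ hσ (d k) i j :=
  Matrix.blockDiagonal'_apply_eq (fun k => hm σ hσ (d k)) k i j

/-- the last vector of the `k`-th block -/
def bot (k : Fin t) : (k : Fin t) × Fin (d k) := ⟨k, ⟨d k - 1, by have := hd k; omega⟩⟩

theorem h0_bot_row (k : Fin t) (x : (k : Fin t) × Fin (d k)) :
    h0 σ hσ d (bot d hd k) x = if x = top d hd k then bet σ hσ (d k) else 0 := by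
  obtain ⟨l, j⟩ := x
  by_cases hkl : k = l
  · subst hkl
    rw [bot, h0_apply_eq]
    by_cases hj : 1 ≤ j.val
    · rw [hm_bot σ hσ (d k) (hd k) j hj, if_neg]
      intro h
      have h1 : j = ⟨0, hd k⟩ := eq_of_heq (Sigma.mk.inj_iff.1 h).2
      rw [h1] at hj
      simp at hj
    · have h1 : j = ⟨0, hd k⟩ := by
        apply Fin.ext
        show j.val = 0
        omega
      rw [h1, if_pos (show (⟨k, ⟨0, hd k⟩⟩ : (k : Fin t) × Fin (d k)) = top d hd k from rfl), bet,
        dif_pos (show 0 < d k from hd k)]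
  · rw [h0_apply_ne σ hσ d _ _ hkl, if_neg]
    intro h
    apply hkl
    have := congrArg Sigma.fst h
    exact this.symm

theorem h0_top_bot (k : Fin t) :
    h0 σ hσ d (top d hd k) (bot d hd k) = σ (bet σ hσ (d k)) := by
  have h1 := congrFun (congrFun (h0_herm σ hσ d) (top d hd k)) (bot d hd k)
  rw [adjI_apply, h0_bot_row, if_pos rfl] at h1
  exact h1.symm

end Global

end Cfsg.Agent.Lib.Helper8.GUCent
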