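import Mathlib
import Cfsg.Agent.Lib.Helper8.GUCentB

/-!
# Centralisers of unipotent elements in unitary groups, part C (helper8)

The involution on the centraliser algebra of the Jordan type matrix and its effect on the
diagonal blocks.
-/

set_option autoImplicit false

namespace Cfsg.Agent.Lib.Helper8.GUCent

open Cfsg Matrix Cfsg.Agent.Lib.Helper8.SUReg Cfsg.Agent.Lib.Helper8.JType
  Cfsg.Agent.Lib.Helper8.JCent

section Key

variable {K : Type*} [Field K] [Finite K] (σ : K →+* K) (hσ : IsInv σ) {t : ℕ} (d : Fin t → ℕ)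
  (hd : ∀ k, 1 ≤ d k)

omit [Finite K] in
/-- the last column of a block is the first column of `a * N ^ (m - 1)` -/
theorem col_bot (a : Matrix ((k : Fin t) × Fin (d k)) ((k : Fin t) × Fin (d k)) K) (l : Fin t)
    (x : (k : Fin t) × Fin (d k)) :
    a x (bot d hd l) = (a * NJ K d ^ (d l - 1)) x (top d hd l) := by
  rw [Matrix.mul_apply, Finset.sum_eq_single (bot d hd l)]
  · rw [NJ_pow_apply, if_pos, mul_one]
    refine ⟨rfl, ?_⟩
    show d l - 1 = 0 + (d l - 1)
    omega
  · intro z _ hz
    rw [NJ_pow_apply, if_neg, mul_zero]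
    rintro ⟨h1, h2⟩
    apply hz
    obtain ⟨z1, z2⟩ := z
    have h1' : z1 = l := h1
    subst h1'
    have h2' : (z2 : ℕ) = 0 + (d z1 - 1) := h2
    unfold bot
    congr 1
    apply Fin.ext
    show (z2 : ℕ) = d z1 - 1
    omega
  · intro hx
    exact absurd (Finset.mem_univ _) hx

/-- the first row of `h0 * N ^ (m - 1)` -/
theorem h0N_top_row (k : Fin t) (x : (k : Fin t) × Fin (d k)) :
    (h0 σ hσ d * NJ K d ^ (d k - 1)) (top d hd k) x =
      if x = top d hd k then σ (bet σ hσ (d k)) else 0 := by
  rw [Matrix.mul_apply]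
  by_cases hx : x = top d hd k
  · rw [if_pos hx, hx, Finset.sum_eq_single (bot d hd k)]
    · rw [h0_top_bot, NJ_pow_apply, if_pos, mul_one]
      refine ⟨rfl, ?_⟩
      show d k - 1 = 0 + (d k - 1)
      omega
    · intro z _ hz
      rw [NJ_pow_apply, if_neg, mul_zero]
      rintro ⟨h1, h2⟩
      apply hz
      obtain ⟨z1, z2⟩ := z
      have h1' : z1 = k := h1
      subst h1'
      have h2' : (z2 : ℕ) = 0 + (d z1 - 1) := h2
      unfold bot
      congr 1
      apply Fin.ext
      show (z2 : ℕ) = d z1 - 1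
      omega
    · intro hx
      exact absurd (Finset.mem_univ _) hx
  · rw [if_neg hx]
    apply Finset.sum_eq_zero
    intro z _
    rw [NJ_pow_apply]
    by_cases hz : z.1 = x.1 ∧ (z.2 : ℕ) = (x.2 : ℕ) + (d k - 1)
    · rw [if_pos hz, mul_one]
      by_cases hk : k = z.1
      · exfalso
        apply hx
        obtain ⟨x1, x2⟩ := x
        obtain ⟨z1, z2⟩ := z
        have hz1 : z1 = x1 := hz.1
        have hz2 : (z2 : ℕ) = (x2 : ℕ) + (d k - 1) := hz.2
        have hk' : k = z1 := hk
        subst hz1
        subst hk'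
        unfold top
        congr 1
        apply Fin.ext
        show (x2 : ℕ) = 0
        have := z2.2
        have := hd k
        omega
      · exact h0_apply_ne σ hσ d _ _ hk
    · rw [if_neg hz, mul_zero]

/-- the key duality between the first-row/first-column entries -/
theorem key_dual (a a' : Matrix ((k : Fin t) × Fin (d k)) ((k : Fin t) × Fin (d k)) K)
    (ha : a * NJ K d = NJ K d * a) (h : h0 σ hσ d * a' = adjI σ a * h0 σ hσ d)
    (k l : Fin t) (hkl : d k = d l) :
    a' (top d hd l) (top d hd k) = σ (a (top d hd k) (top d hd l)) := by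
  have L : (h0 σ hσ d * a') (bot d hd l) (top d hd k) =
      bet σ hσ (d l) * a' (top d hd l) (top d hd k) := by
    rw [Matrix.mul_apply, Finset.sum_eq_single (top d hd l)]
    · rw [h0_bot_row, if_pos rfl]
    · intro z _ hz
      rw [h0_bot_row, if_neg hz, zero_mul]
    · intro hx
      exact absurd (Finset.mem_univ _) hx
  have R : (adjI σ a * h0 σ hσ d) (bot d hd l) (top d hd k) =
      σ ((h0 σ hσ d * a) (top d hd k) (bot d hd l)) := by
    rw [Matrix.mul_apply, Matrix.mul_apply, map_sum]
    apply Finset.sum_congr rfl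
    intro x _
    have hh := congrFun (congrFun (h0_herm σ hσ d) x) (top d hd k)
    rw [adjI_apply] at hh
    rw [adjI_apply, map_mul, hh, mul_comm]
  have R2 : (h0 σ hσ d * a) (top d hd k) (bot d hd l) =
      ((h0 σ hσ d * NJ K d ^ (d l - 1)) * a) (top d hd k) (top d hd l) := by
    have hc : a * NJ K d ^ (d l - 1) = NJ K d ^ (d l - 1) * a :=
      (Commute.pow_right (show Commute a (NJ K d) from ha) (d l - 1)).eq
    rw [Matrix.mul_assoc, ← hc, Matrix.mul_apply, Matrix.mul_apply]
    apply Finset.sum_congr rfl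
    intro x _
    rw [col_bot d hd a l x]
  have R3 : ((h0 σ hσ d * NJ K d ^ (d k - 1)) * a) (top d hd k) (top d hd l) =
      σ (bet σ hσ (d k)) * a (top d hd k) (top d hd l) := by
    rw [Matrix.mul_apply, Finset.sum_eq_single (top d hd k)]
    · rw [h0N_top_row, if_pos rfl]
    · intro z _ hz
      rw [h0N_top_row, if_neg hz, zero_mul]
    · intro hx
      exact absurd (Finset.mem_univ _) hx
  have e := congrFun (congrFun h (bot d hd l)) (top d hd k)
  rw [L, R, R2, ← hkl, R3, map_mul, hσ.inv] at e
  exact mul_left_cancel₀ (bet_ne_zero σ hσ (d k) (hd k)) e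

end Key

end Cfsg.Agent.Lib.Helper8.GUCent
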