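import Mathlib
import Cfsg.Agent.Lib.Helper8.GUCentC

/-!
# Centralisers of unipotent elements in unitary groups, part D (helper8)

The centraliser algebra with its involution, the Hermitian elements, and the projection onto
Hermitian diagonal blocks.
-/

set_option autoImplicit false

namespace Cfsg.Agent.Lib.Helper8.GUCent

open Cfsg Matrix Cfsg.Agent.Lib.Helper8.SUReg Cfsg.Agent.Lib.Helper8.JType
  Cfsg.Agent.Lib.Helper8.JCent

section Algebra

variable {K : Type*} [Field K] [Finite K] (σ : K →+* K) (hσ : IsInv σ) {t : ℕ} (d : Fin t → ℕ)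
  (hd : ∀ k, 1 ≤ d k)

/-- the centraliser of the nilpotent part, as a submodule -/
def Acomm (K : Type*) [Field K] {t : ℕ} (d : Fin t → ℕ) :
    Submodule K (Matrix ((k : Fin t) × Fin (d k)) ((k : Fin t) × Fin (d k)) K) where
  carrier := {a | a * NJ K d = NJ K d * a}
  add_mem' := by
    intro a b ha hb
    show (a + b) * NJ K d = NJ K d * (a + b)
    rw [Matrix.add_mul, Matrix.mul_add, ha, hb]
  zero_mem' := by
    show (0 : Matrix _ _ K) * NJ K d = NJ K d * 0
    rw [Matrix.zero_mul, Matrix.mul_zero]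
  smul_mem' := by
    intro c a ha
    show (c • a) * NJ K d = NJ K d * (c • a)
    rw [Matrix.smul_mul, Matrix.mul_smul, ha]

omit [Finite K] in
theorem mem_Acomm (a : Matrix ((k : Fin t) × Fin (d k)) ((k : Fin t) × Fin (d k)) K) :
    a ∈ Acomm K d ↔ a * NJ K d = NJ K d * a := Iff.rfl

/-- the inverse of the form -/
noncomputable def h0i : Matrix ((k : Fin t) × Fin (d k)) ((k : Fin t) × Fin (d k)) K :=
  (h0 σ hσ d)⁻¹

theorem h0_mul_h0i : h0 σ hσ d * h0i σ hσ d = 1 :=
  Matrix.mul_nonsing_inv _ ((Matrix.isUnit_iff_isUnit_det _).1 (h0_isUnit σ hσ d))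

theorem h0i_mul_h0 : h0i σ hσ d * h0 σ hσ d = 1 :=
  Matrix.nonsing_inv_mul _ ((Matrix.isUnit_iff_isUnit_det _).1 (h0_isUnit σ hσ d))

theorem adjI_h0i : adjI σ (h0i σ hσ d) = h0i σ hσ d := by
  have e : adjI σ (h0i σ hσ d) * h0 σ hσ d = 1 := by
    have := congrArg (adjI σ) (h0_mul_h0i σ hσ d)
    rw [adjI_mul, adjI_one, h0_herm] at this
    exact this
  calc adjI σ (h0i σ hσ d) = adjI σ (h0i σ hσ d) * (h0 σ hσ d * h0i σ hσ d) := by
        rw [h0_mul_h0i, Matrix.mul_one]
    _ = h0i σ hσ d := by rw [← Matrix.mul_assoc, e, Matrix.one_mul]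

/-- the involution on matrices -/
noncomputable def starM (a : Matrix ((k : Fin t) × Fin (d k)) ((k : Fin t) × Fin (d k)) K) :
    Matrix ((k : Fin t) × Fin (d k)) ((k : Fin t) × Fin (d k)) K :=
  h0i σ hσ d * adjI σ a * h0 σ hσ d

theorem starM_add (a b : Matrix ((k : Fin t) × Fin (d k)) ((k : Fin t) × Fin (d k)) K) :
    starM σ hσ d (a + b) = starM σ hσ d a + starM σ hσ d b := by
  unfold starM
  rw [adjI_add, Matrix.mul_add, Matrix.add_mul]

theorem starM_smul (c : K) (a : Matrix ((k : Fin t) × Fin (d k)) ((k : Fin t) × Fin (d k)) K) :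
    starM σ hσ d (c • a) = σ c • starM σ hσ d a := by
  unfold starM
  rw [adjI_smul, Matrix.mul_smul, Matrix.smul_mul]

theorem starM_mul (a b : Matrix ((k : Fin t) × Fin (d k)) ((k : Fin t) × Fin (d k)) K) :
    starM σ hσ d (a * b) = starM σ hσ d b * starM σ hσ d a := by
  unfold starM
  rw [adjI_mul]
  calc h0i σ hσ d * (adjI σ b * adjI σ a) * h0 σ hσ d
      = h0i σ hσ d * adjI σ b * 1 * adjI σ a * h0 σ hσ d := by
        rw [Matrix.mul_one]; simp only [Matrix.mul_assoc]
    _ = h0i σ hσ d * adjI σ b * h0 σ hσ d * (h0i σ hσ d * adjI σ a * h0 σ hσ d) := by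
        rw [← h0_mul_h0i σ hσ d]; simp only [Matrix.mul_assoc]

theorem starM_starM (a : Matrix ((k : Fin t) × Fin (d k)) ((k : Fin t) × Fin (d k)) K) :
    starM σ hσ d (starM σ hσ d a) = a := by
  unfold starM
  rw [adjI_mul, adjI_mul, adjI_adjI σ hσ.inv, h0_herm, adjI_h0i]
  calc h0i σ hσ d * (h0 σ hσ d * (a * h0i σ hσ d)) * h0 σ hσ d
      = (h0i σ hσ d * h0 σ hσ d) * a * (h0i σ hσ d * h0 σ hσ d) := by
        simp only [Matrix.mul_assoc]
    _ = a := by rw [h0i_mul_h0, Matrix.one_mul, Matrix.mul_one]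

theorem h0_mul_starM (a : Matrix ((k : Fin t) × Fin (d k)) ((k : Fin t) × Fin (d k)) K) :
    h0 σ hσ d * starM σ hσ d a = adjI σ a * h0 σ hσ d := by
  unfold starM
  rw [← Matrix.mul_assoc, ← Matrix.mul_assoc, h0_mul_h0i, Matrix.one_mul]

theorem starM_eq_iff (a : Matrix ((k : Fin t) × Fin (d k)) ((k : Fin t) × Fin (d k)) K) :
    starM σ hσ d a = a ↔ h0 σ hσ d * a = adjI σ a * h0 σ hσ d := by
  constructor
  · intro h
    rw [← h0_mul_starM, h]
  · intro h
    unfold starM
    rw [Matrix.mul_assoc, ← h, ← Matrix.mul_assoc, h0i_mul_h0, Matrix.one_mul]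

theorem starM_JT_mul : starM σ hσ d (jordanTypeMatrix d K) * jordanTypeMatrix d K = 1 := by
  unfold starM
  rw [Matrix.mul_assoc, Matrix.mul_assoc, ← Matrix.mul_assoc (adjI σ _), h0_inv, h0i_mul_h0]

theorem starM_comm (a : Matrix ((k : Fin t) × Fin (d k)) ((k : Fin t) × Fin (d k)) K)
    (ha : a * NJ K d = NJ K d * a) : starM σ hσ d a * NJ K d = NJ K d * starM σ hσ d a := by
  have ha' : a * jordanTypeMatrix d K = jordanTypeMatrix d K * a := (comm_iff d a).2 ha
  rw [← comm_iff]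
  set S := starM σ hσ d (jordanTypeMatrix d K) with hS
  have h1 : S * jordanTypeMatrix d K = 1 := starM_JT_mul σ hσ d
  have h2 : jordanTypeMatrix d K * S = 1 := mul_eq_one_comm.1 h1
  have h3 : S * starM σ hσ d a = starM σ hσ d a * S := by
    rw [hS, ← starM_mul, ← starM_mul, ha']
  calc starM σ hσ d a * jordanTypeMatrix d K
      = (jordanTypeMatrix d K * S) * starM σ hσ d a * jordanTypeMatrix d K := by
        rw [h2, Matrix.one_mul]
    _ = jordanTypeMatrix d K * (S * starM σ hσ d a) * jordanTypeMatrix d K := by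
        simp only [Matrix.mul_assoc]
    _ = jordanTypeMatrix d K * starM σ hσ d a * (S * jordanTypeMatrix d K) := by
        rw [h3]; simp only [Matrix.mul_assoc]
    _ = jordanTypeMatrix d K * starM σ hσ d a := by rw [h1, Matrix.mul_one]

/-- the involution on the centraliser algebra -/
noncomputable def starA (a : Acomm K d) : Acomm K d :=
  ⟨starM σ hσ d a.1, starM_comm σ hσ d a.1 a.2⟩

/-- the Hermitian elements of the centraliser algebra -/
def Ah : AddSubgroup (Matrix ((k : Fin t) × Fin (d k)) ((k : Fin t) × Fin (d k)) K) where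
  carrier := {a | a * NJ K d = NJ K d * a ∧ h0 σ hσ d * a = adjI σ a * h0 σ hσ d}
  add_mem' := by
    rintro a b ⟨ha1, ha2⟩ ⟨hb1, hb2⟩
    refine ⟨?_, ?_⟩
    · rw [Matrix.add_mul, Matrix.mul_add, ha1, hb1]
    · rw [Matrix.mul_add, adjI_add, Matrix.add_mul, ha2, hb2]
  zero_mem' := by
    refine ⟨?_, ?_⟩
    · rw [Matrix.zero_mul, Matrix.mul_zero]
    · rw [Matrix.mul_zero, adjI_zero, Matrix.zero_mul]
  neg_mem' := by
    rintro a ⟨ha1, ha2⟩
    refine ⟨?_, ?_⟩
    · rw [Matrix.neg_mul, Matrix.mul_neg, ha1]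
    · rw [Matrix.mul_neg, adjI_neg, Matrix.neg_mul, ha2]

theorem mem_Ah (a : Matrix ((k : Fin t) × Fin (d k)) ((k : Fin t) × Fin (d k)) K) :
    a ∈ Ah σ hσ d ↔ a * NJ K d = NJ K d * a ∧ h0 σ hσ d * a = adjI σ a * h0 σ hσ d := Iff.rfl

/-- the Hermitian elements are the fixed points of the involution -/
noncomputable def AhEquiv : Ah σ hσ d ≃ {x : Acomm K d // starA σ hσ d x = x} where
  toFun a := ⟨⟨a.1, a.2.1⟩, Subtype.ext ((starM_eq_iff σ hσ d a.1).2 a.2.2)⟩
  invFun x := ⟨x.1.1, x.1.2, (starM_eq_iff σ hσ d x.1.1).1 (congrArg Subtype.val x.2)⟩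
  left_inv a := rfl
  right_inv x := rfl

theorem card_Ah_sq : Nat.card (Ah σ hσ d) ^ 2 = Nat.card (Acomm K d) := by
  obtain ⟨θ, hθ⟩ : ∃ θ : K, σ θ ≠ θ := by
    by_contra hcon
    apply hσ.ne
    ext x
    by_contra hx
    exact hcon ⟨x, hx⟩
  have hadd : ∀ x y : Acomm K d, starA σ hσ d (x + y) = starA σ hσ d x + starA σ hσ d y := by
    intro x y
    apply Subtype.ext
    exact starM_add σ hσ d x.1 y.1
  have hsmul : ∀ (c : K) (x : Acomm K d), starA σ hσ d (c • x) = σ c • starA σ hσ d x := by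
    intro c x
    apply Subtype.ext
    exact starM_smul σ hσ d c x.1
  have hinv : ∀ x : Acomm K d, starA σ hσ d (starA σ hσ d x) = x := by
    intro x
    apply Subtype.ext
    exact starM_starM σ hσ d x.1
  have key : Nat.card {x : Acomm K d // starA σ hσ d x = x} ^ 2 = Nat.card (Acomm K d) :=
    card_fixed_sq (V := Acomm K d) σ hσ.inv θ hθ (starA σ hσ d) hadd hsmul hinv
  rw [← key]
  congr 1
  exact Nat.card_congr (AhEquiv σ hσ d)

omit [Finite K] in
theorem col_mem_KK (a : Matrix ((k : Fin t) × Fin (d k)) ((k : Fin t) × Fin (d k)) K)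
    (ha : a * NJ K d = NJ K d * a) (k : Fin t) :
    a.mulVec (Pi.single (top d hd k) 1) ∈ KK K d k := by
  rw [mem_KK, Matrix.mulVec_mulVec, ← (Commute.pow_right ha (d k)).eq, ← Matrix.mulVec_mulVec,
    NJ_pow_top, Matrix.mulVec_zero]

omit [Finite K] in
theorem GC_col (a : Matrix ((k : Fin t) × Fin (d k)) ((k : Fin t) × Fin (d k)) K)
    (ha : a * NJ K d = NJ K d * a) :
    GC d (fun k => a.mulVec (Pi.single (top d hd k) 1)) = a := by
  apply ext_of_top d hd _ _ _ ha
  · intro k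
    rw [GC_top]
  · apply GC_comm
    intro k
    exact (mem_KK d k _).1 (col_mem_KK d hd a ha k)

/-- the centraliser algebra is parametrised by tuples of kernel vectors -/
noncomputable def AcommEquiv : Acomm K d ≃ (∀ k, KK K d k) where
  toFun a := fun k => ⟨a.1.mulVec (Pi.single (top d hd k) 1), col_mem_KK d hd a.1 a.2 k⟩
  invFun c := ⟨GC d (fun k => (c k).1), GC_comm' d c⟩
  left_inv a := by
    apply Subtype.ext
    show GC d (fun k => a.1.mulVec (Pi.single (top d hd k) 1)) = a.1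
    exact GC_col d hd a.1 a.2
  right_inv c := by
    funext k
    apply Subtype.ext
    show (GC d (fun k => (c k).1)).mulVec (Pi.single (top d hd k) 1) = (c k).1
    rw [GC_top]

end Algebra

end Cfsg.Agent.Lib.Helper8.GUCent
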