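import Mathlib
import Cfsg.Agent.Lib.Helper8.GUCentD

/-!
# Centralisers of unipotent elements in unitary groups, part E (helper8)

The projection of the Hermitian elements of the centraliser algebra onto Hermitian diagonal blocks,
and the resulting count of invertible Hermitian elements.
-/

set_option autoImplicit false

namespace Cfsg.Agent.Lib.Helper8.GUCent

open Cfsg Matrix Cfsg.Agent.Lib.Helper8.SUReg Cfsg.Agent.Lib.Helper8.JType
  Cfsg.Agent.Lib.Helper8.JCent

section Proj

variable {K : Type*} [Field K] [Finite K] (σ : K →+* K) (hσ : IsInv σ) {t : ℕ} (d : Fin t → ℕ)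
  (hd : ∀ k, 1 ≤ d k)

/-- tuples of diagonal blocks -/
abbrev YY (K : Type*) [Field K] {t : ℕ} (d : Fin t → ℕ) : Type _ :=
  ∀ b : Fin (BB d), Matrix (SS d b.val) (SS d b.val) K

/-- tuples of Hermitian blocks -/
def Yh : AddSubgroup (YY K d) where
  carrier := {y | ∀ b, adjI σ (y b) = y b}
  add_mem' := by
    intro y z hy hz b
    show adjI σ (y b + z b) = y b + z b
    rw [adjI_add, hy b, hz b]
  zero_mem' := by
    intro b
    show adjI σ (0 : Matrix (SS d b.val) (SS d b.val) K) = 0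
    exact adjI_zero σ
  neg_mem' := by
    intro y hy b
    show adjI σ (-(y b)) = -(y b)
    rw [adjI_neg, hy b]

omit [Finite K] in
theorem mem_Yh (y : YY K d) : y ∈ Yh σ d ↔ ∀ b, adjI σ (y b) = y b := Iff.rfl

include hσ in
theorem card_Yh_sq : Nat.card (Yh σ d) ^ 2 = Nat.card (YY K d) := by
  obtain ⟨θ, hθ⟩ : ∃ θ : K, σ θ ≠ θ := by
    by_contra hcon
    apply hσ.ne
    ext x
    by_contra hx
    exact hcon ⟨x, hx⟩
  have key : Nat.card {y : YY K d // (fun b => adjI σ (y b)) = y} ^ 2 = Nat.card (YY K d) := by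
    apply card_fixed_sq (V := YY K d) σ hσ.inv θ hθ (fun y b => adjI σ (y b))
    · intro x y
      funext b
      exact adjI_add σ (x b) (y b)
    · intro c x
      funext b
      exact adjI_smul σ c (x b)
    · intro x
      funext b
      exact adjI_adjI σ hσ.inv (x b)
  rw [← key]
  congr 1
  apply Nat.card_congr
  exact
    { toFun := fun y => ⟨y.1, funext y.2⟩
      invFun := fun y => ⟨y.1, fun b => congrFun y.2 b⟩
      left_inv := fun y => rfl
      right_inv := fun y => rfl }

/-- the projection to the diagonal blocks -/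
def piM (a : Matrix ((k : Fin t) × Fin (d k)) ((k : Fin t) × Fin (d k)) K) : YY K d :=
  fun b => (Mbar d hd a).toSquareBlock d b.val

omit [Finite K] in
theorem piM_apply (a : Matrix ((k : Fin t) × Fin (d k)) ((k : Fin t) × Fin (d k)) K)
    (b : Fin (BB d)) (l k : SS d b.val) :
    piM d hd a b l k = a (top d hd l.1) (top d hd k.1) :=
  Mbar_apply d hd a l.1 k.1

omit [Finite K] in
theorem piM_add (a a' : Matrix ((k : Fin t) × Fin (d k)) ((k : Fin t) × Fin (d k)) K) :
    piM d hd (a + a') = piM d hd a + piM d hd a' := by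
  funext b
  ext l k
  rw [Pi.add_apply, Matrix.add_apply, piM_apply, piM_apply, piM_apply, Matrix.add_apply]

omit [Finite K] in
theorem piM_zero : piM (K := K) d hd 0 = 0 := by
  funext b
  ext l k
  rw [piM_apply]
  rfl

omit [Finite K] in
theorem piM_smul (c : K) (a : Matrix ((k : Fin t) × Fin (d k)) ((k : Fin t) × Fin (d k)) K) :
    piM d hd (c • a) = c • piM d hd a := by
  funext b
  ext l k
  rw [Pi.smul_apply, Matrix.smul_apply, piM_apply, piM_apply, Matrix.smul_apply]

omit [Finite K] in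
theorem piM_GC (c : ∀ k, KK K d k) : piM d hd (GC d (fun k => (c k).1)) = piB d hd c := by
  funext b
  ext l k
  rw [piM_apply, piB_apply]
  have h1 := congrFun (GC_top d hd (fun k => (c k).1) k.1) (top d hd l.1)
  rw [Matrix.mulVec_single_one] at h1
  exact h1

theorem piM_starM (a : Matrix ((k : Fin t) × Fin (d k)) ((k : Fin t) × Fin (d k)) K)
    (ha : a * NJ K d = NJ K d * a) (b : Fin (BB d)) :
    piM d hd (starM σ hσ d a) b = adjI σ (piM d hd a b) := by
  ext l k
  rw [piM_apply, adjI_apply, piM_apply]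
  exact key_dual σ hσ d hd a (starM σ hσ d a) ha (h0_mul_starM σ hσ d a) k.1 l.1
    (k.2.trans l.2.symm)

theorem piM_mem_Yh (a : Matrix ((k : Fin t) × Fin (d k)) ((k : Fin t) × Fin (d k)) K)
    (ha : a ∈ Ah σ hσ d) : piM d hd a ∈ Yh σ d := by
  intro b
  have h1 := piM_starM σ hσ d hd a ha.1 b
  rw [(starM_eq_iff σ hσ d a).2 ha.2] at h1
  exact h1.symm

/-- the projection from Hermitian elements to Hermitian blocks -/
def piH : Ah σ hσ d →+ Yh σ d where
  toFun a := ⟨piM d hd a.1, piM_mem_Yh σ hσ d hd a.1 a.2⟩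
  map_zero' := by
    apply Subtype.ext
    exact piM_zero d hd
  map_add' a a' := by
    apply Subtype.ext
    exact piM_add d hd a.1 a'.1

theorem piH_surjective : Function.Surjective (piH σ hσ d hd) := by
  rintro ⟨y, hy⟩
  obtain ⟨c, hc⟩ := piB_surjective (F := K) d hd y
  obtain ⟨lam, hlam⟩ := hσ.tr 1 (map_one σ)
  set a0 := GC d (fun k => (c k).1) with ha0
  have ha0c : a0 * NJ K d = NJ K d * a0 := GC_comm' d c
  have hs0c : starM σ hσ d a0 * NJ K d = NJ K d * starM σ hσ d a0 := starM_comm σ hσ d a0 ha0c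
  set a := lam • a0 + σ lam • starM σ hσ d a0 with ha
  have hac : a * NJ K d = NJ K d * a := by
    rw [ha, Matrix.add_mul, Matrix.mul_add, Matrix.smul_mul, Matrix.smul_mul, Matrix.mul_smul,
      Matrix.mul_smul, ha0c, hs0c]
  have hstar : starM σ hσ d a = a := by
    rw [ha, starM_add, starM_smul, starM_smul, starM_starM, hσ.inv, add_comm]
  refine ⟨⟨a, hac, (starM_eq_iff σ hσ d a).1 hstar⟩, ?_⟩
  apply Subtype.ext
  show piM d hd a = y
  rw [ha, piM_add, piM_smul, piM_smul]
  funext b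
  rw [Pi.add_apply, Pi.smul_apply, Pi.smul_apply, piM_starM σ hσ d hd a0 ha0c b, ha0, piM_GC, hc,
    hy b, ← add_smul, hlam, one_smul]

omit [Finite K] in
theorem isUnit_iff_piM (a : Matrix ((k : Fin t) × Fin (d k)) ((k : Fin t) × Fin (d k)) K)
    (ha : a * NJ K d = NJ K d * a) : IsUnit a ↔ ∀ b, IsUnit (piM d hd a b) := by
  set c : ∀ k, KK K d k := fun k => ⟨a.mulVec (Pi.single (top d hd k) 1), col_mem_KK d hd a ha k⟩
    with hc
  have hGC : GC d (fun k => (c k).1) = a := GC_col d hd a ha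
  have h1 : IsUnit a ↔ IsUnit (Mc d hd c) := by
    rw [Mc_eq, hGC]
    exact ⟨isUnit_Mbar_of_isUnit d hd a ha, isUnit_of_isUnit_Mbar d hd a ha⟩
  rw [h1, isUnit_Mc_iff, ← piM_GC, hGC]

include hd in
theorem card_Xh :
    Nat.card {a : Ah σ hσ d // IsUnit a.1} * Nat.card (Yh σ d) =
      Nat.card {y : Yh σ d // ∀ b, IsUnit (y.1 b)} * Nat.card (Ah σ hσ d) := by
  have h1 : Nat.card {a : Ah σ hσ d // IsUnit a.1} =
      Nat.card {a : Ah σ hσ d // (fun y : Yh σ d => ∀ b, IsUnit (y.1 b)) (piH σ hσ d hd a)} :=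
    Nat.card_congr (Equiv.subtypeEquivRight (fun a => isUnit_iff_piM d hd a.1 a.2.1))
  rw [h1]
  exact card_fiber_mul (W := Ah σ hσ d) (Y := Yh σ d) (piH σ hσ d hd) (piH_surjective σ hσ d hd)
    (fun y => ∀ b, IsUnit (y.1 b))

end Proj

end Cfsg.Agent.Lib.Helper8.GUCent
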