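import Mathlib
import Cfsg.Agent.Lib.Helper8.JTypeB

/-!
# Jordan types in classical groups, part C (helper8)

Jordan type matrices over arbitrary finite index types of blocks, their behaviour under reindexing,
and the combinatorial splitting of a family of block sizes into unpaired and paired blocks.
-/

set_option autoImplicit false

namespace Cfsg.Agent.Lib.Helper8.JType

open Cfsg Module Matrix

section Split

/-- split the blocks into those whose size does not satisfy `P` and pairs of blocks of equal size -/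
theorem exists_split {t : ℕ} (d : Fin t → ℕ) (P : ℕ → Prop) [DecidablePred P]
    (h : ∀ j, P j → Even (Finset.univ.filter (fun k : Fin t => d k = j)).card) :
    ∃ (nf na : ℕ) (e : Fin nf ⊕ (Fin na ⊕ Fin na) ≃ Fin t),
      (∀ x, ¬ P (d (e (Sum.inl x)))) ∧
        ∀ y, d (e (Sum.inr (Sum.inl y))) = d (e (Sum.inr (Sum.inr y))) := by
  classical
  set B := Finset.univ.sup d + 1 with hB
  have hlt : ∀ k, d k < B := fun k => Nat.lt_succ_of_le (Finset.le_sup (Finset.mem_univ k))
  set d' : Fin t → Fin B := fun k => ⟨d k, hlt k⟩ with hd'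
  set c : Fin B → ℕ := fun j => Fintype.card {k // d' k = j} with hc
  have hceven : ∀ j : Fin B, P j.val → Even (c j) := by
    intro j hj
    have h1 := h j.val hj
    have h2 : c j = (Finset.univ.filter (fun k : Fin t => d k = j.val)).card := by
      rw [hc]
      simp only
      rw [Fintype.card_subtype]
      congr 1
      ext k
      simp only [Finset.mem_filter, Finset.mem_univ, true_and, hd', Fin.ext_iff]
    rw [h2]
    exact h1
  set f : Fin B → ℕ := fun j => if P j.val then 0 else c j with hf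
  set b : Fin B → ℕ := fun j => if P j.val then c j / 2 else 0 with hb
  have hsum : ∀ j, c j = f j + (b j + b j) := by
    intro j
    by_cases hj : P j.val
    · simp only [hf, hb, if_pos hj]
      obtain ⟨r, hr⟩ := hceven j hj
      omega
    · simp only [hf, hb, if_neg hj]
      omega
  let E : ∀ j, {k // d' k = j} ≃ Fin (f j) ⊕ (Fin (b j) ⊕ Fin (b j)) := fun j =>
    (Fintype.equivFinOfCardEq (hsum j)).trans
      (finSumFinEquiv.symm.trans (Equiv.sumCongr (Equiv.refl _) finSumFinEquiv.symm))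
  let e₀ : (Σ j, Fin (f j) ⊕ (Fin (b j) ⊕ Fin (b j))) ≃ Fin t :=
    (Equiv.sigmaCongrRight E).symm.trans (Equiv.sigmaFiberEquiv d')
  have he₀ : ∀ x, d (e₀ x) = (x.1 : ℕ) := by
    rintro ⟨j, s⟩
    exact congrArg Fin.val ((E j).symm s).2
  let e₁ : (Σ j, Fin (f j) ⊕ (Fin (b j) ⊕ Fin (b j))) ≃
      (Σ j, Fin (f j)) ⊕ ((Σ j, Fin (b j)) ⊕ (Σ j, Fin (b j))) :=
    (Equiv.sigmaSumDistrib _ _).trans (Equiv.sumCongr (Equiv.refl _) (Equiv.sigmaSumDistrib _ _))
  let ef := Fintype.equivFin (Σ j, Fin (f j))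
  let ea := Fintype.equivFin (Σ j, Fin (b j))
  refine ⟨_, _, (Equiv.sumCongr ef (Equiv.sumCongr ea ea)).symm.trans (e₁.symm.trans e₀), ?_, ?_⟩
  · intro x
    obtain ⟨⟨j, i⟩, rfl⟩ := ef.surjective x
    have h1 : ((Equiv.sumCongr ef (Equiv.sumCongr ea ea)).symm.trans (e₁.symm.trans e₀))
        (Sum.inl (ef ⟨j, i⟩)) = e₀ ⟨j, Sum.inl i⟩ := by
      simp only [Equiv.trans_apply, Equiv.sumCongr_symm, Equiv.sumCongr_apply, Sum.map_inl,
        Equiv.symm_apply_apply]
      rfl
    rw [h1, he₀]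
    intro hP
    have h2 : f j = 0 := if_pos hP
    have := i.2
    omega
  · intro y
    obtain ⟨⟨j, i⟩, rfl⟩ := ea.surjective y
    have h1 : ((Equiv.sumCongr ef (Equiv.sumCongr ea ea)).symm.trans (e₁.symm.trans e₀))
        (Sum.inr (Sum.inl (ea ⟨j, i⟩))) = e₀ ⟨j, Sum.inr (Sum.inl i)⟩ := by
      simp only [Equiv.trans_apply, Equiv.sumCongr_symm, Equiv.sumCongr_apply, Sum.map_inl,
        Sum.map_inr, Equiv.symm_apply_apply]
      rfl
    have h2 : ((Equiv.sumCongr ef (Equiv.sumCongr ea ea)).symm.trans (e₁.symm.trans e₀))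
        (Sum.inr (Sum.inr (ea ⟨j, i⟩))) = e₀ ⟨j, Sum.inr (Sum.inr i)⟩ := by
      simp only [Equiv.trans_apply, Equiv.sumCongr_symm, Equiv.sumCongr_apply, Sum.map_inl,
        Sum.map_inr, Equiv.symm_apply_apply]
      rfl
    rw [h1, h2, he₀, he₀]

end Split

section JTg

variable (F : Type*) [Field F]

/-- the Jordan type matrix for an arbitrary family of block sizes -/
def JTg {κ : Type} [DecidableEq κ] (d : κ → ℕ) :
    Matrix ((k : κ) × Fin (d k)) ((k : κ) × Fin (d k)) F :=
  Matrix.blockDiagonal' fun k => jordanBlock (d k) F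

variable {F}

theorem reindex_eq_of {ι ι' : Type*} (E : ι ≃ ι') (X : Matrix ι ι F) (Y : Matrix ι' ι' F)
    (h : ∀ x y, X x y = Y (E x) (E y)) : Matrix.reindex E E X = Y := by
  ext a b
  rw [Matrix.reindex_apply, Matrix.submatrix_apply, h, Equiv.apply_symm_apply, Equiv.apply_symm_apply]

theorem JTg_congrLeft {κ κ' : Type} [DecidableEq κ] [DecidableEq κ'] (ε : κ' ≃ κ) (d : κ → ℕ) :
    Matrix.reindex (Equiv.sigmaCongrLeft (β := fun k => Fin (d k)) ε)
      (Equiv.sigmaCongrLeft (β := fun k => Fin (d k)) ε) (JTg F (fun a => d (ε a))) = JTg F d := by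
  apply reindex_eq_of
  rintro ⟨a, i⟩ ⟨a', i'⟩
  rw [Equiv.sigmaCongrLeft_apply, Equiv.sigmaCongrLeft_apply]
  simp only [JTg]
  rw [Matrix.blockDiagonal'_apply', Matrix.blockDiagonal'_apply']
  by_cases haa : a = a'
  · subst haa
    rw [dif_pos rfl, dif_pos rfl]
  · rw [dif_neg haa, dif_neg (fun h => haa (ε.injective h))]

theorem JTg_sum {κ₁ κ₂ : Type} [DecidableEq κ₁] [DecidableEq κ₂] (d : κ₁ ⊕ κ₂ → ℕ) :
    Matrix.reindex (Equiv.sumSigmaDistrib (fun s => Fin (d s)))
      (Equiv.sumSigmaDistrib (fun s => Fin (d s))) (JTg F d) =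
      Matrix.fromBlocks (JTg F (fun a => d (Sum.inl a))) 0 0 (JTg F (fun b => d (Sum.inr b))) := by
  apply reindex_eq_of
  rintro ⟨a | a, i⟩ ⟨a' | a', i'⟩
  · simp only [Equiv.sumSigmaDistrib_apply, Matrix.fromBlocks_apply₁₁, JTg]
    rw [Matrix.blockDiagonal'_apply', Matrix.blockDiagonal'_apply']
    by_cases haa : a = a'
    · subst haa
      rw [dif_pos rfl, dif_pos rfl]
    · rw [dif_neg haa, dif_neg (fun h => haa (Sum.inl_injective h))]
  · simp only [Equiv.sumSigmaDistrib_apply, Matrix.fromBlocks_apply₁₂, JTg]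
    rw [Matrix.blockDiagonal'_apply', dif_neg (by simp), Matrix.zero_apply]
  · simp only [Equiv.sumSigmaDistrib_apply, Matrix.fromBlocks_apply₂₁, JTg]
    rw [Matrix.blockDiagonal'_apply', dif_neg (by simp), Matrix.zero_apply]
  · simp only [Equiv.sumSigmaDistrib_apply, Matrix.fromBlocks_apply₂₂, JTg]
    rw [Matrix.blockDiagonal'_apply', Matrix.blockDiagonal'_apply']
    by_cases haa : a = a'
    · subst haa
      rw [dif_pos rfl, dif_pos rfl]
    · rw [dif_neg haa, dif_neg (fun h => haa (Sum.inr_injective h))]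

end JTg

end Cfsg.Agent.Lib.Helper8.JType
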