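import Mathlib
import Cfsg.Agent.Lib.Helper8.JTypeC

/-!
# Jordan types in classical groups, part D (helper8)

An abstract notion of "class of forms" and the closure properties of the matrices preserving a form
of the class: reindexing, conjugation, block sums, block diagonal matrices, hyperbolic pairs.
Assembly: a Jordan type matrix preserves a form as soon as the unpaired blocks do.
-/

set_option autoImplicit false

namespace Cfsg.Agent.Lib.Helper8.JType

open Cfsg Module Matrix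

/-- a class of (matrices of) forms, with a class of "null" defects -/
structure FormClass (F : Type*) [Field F] where
  good : ∀ {ι : Type} [Fintype ι] [DecidableEq ι], Matrix ι ι F → Prop
  null : ∀ {ι : Type} [Fintype ι] [DecidableEq ι], Matrix ι ι F → Prop
  eps : F
  good_reindex : ∀ {ι ι' : Type} [Fintype ι] [DecidableEq ι] [Fintype ι'] [DecidableEq ι']
    (e : ι ≃ ι') (T : Matrix ι ι F), good T → good (Matrix.reindex e e T)
  null_reindex : ∀ {ι ι' : Type} [Fintype ι] [DecidableEq ι] [Fintype ι'] [DecidableEq ι']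
    (e : ι ≃ ι') (T : Matrix ι ι F), null T → null (Matrix.reindex e e T)
  good_congr : ∀ {ι : Type} [Fintype ι] [DecidableEq ι] (g T : Matrix ι ι F),
    IsUnit g → good T → good (gᵀ * T * g)
  null_congr : ∀ {ι : Type} [Fintype ι] [DecidableEq ι] (g T : Matrix ι ι F),
    null T → null (gᵀ * T * g)
  good_sum : ∀ {ι₁ ι₂ : Type} [Fintype ι₁] [DecidableEq ι₁] [Fintype ι₂] [DecidableEq ι₂]
    (T₁ : Matrix ι₁ ι₁ F) (T₂ : Matrix ι₂ ι₂ F), good T₁ → good T₂ →
      good (Matrix.fromBlocks T₁ 0 0 T₂)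
  null_sum : ∀ {ι₁ ι₂ : Type} [Fintype ι₁] [DecidableEq ι₁] [Fintype ι₂] [DecidableEq ι₂]
    (T₁ : Matrix ι₁ ι₁ F) (T₂ : Matrix ι₂ ι₂ F), null T₁ → null T₂ →
      null (Matrix.fromBlocks T₁ 0 0 T₂)
  good_bd : ∀ {κ : Type} [Fintype κ] [DecidableEq κ] (n : κ → ℕ)
    (T : ∀ k, Matrix (Fin (n k)) (Fin (n k)) F), (∀ k, good (T k)) → good (Matrix.blockDiagonal' T)
  null_bd : ∀ {κ : Type} [Fintype κ] [DecidableEq κ] (n : κ → ℕ)
    (T : ∀ k, Matrix (Fin (n k)) (Fin (n k)) F), (∀ k, null (T k)) → null (Matrix.blockDiagonal' T)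
  null_zero : ∀ {ι : Type} [Fintype ι] [DecidableEq ι], null (0 : Matrix ι ι F)
  good_hyp : ∀ {ι : Type} [Fintype ι] [DecidableEq ι],
    good (Matrix.fromBlocks 0 1 (eps • 1) 0 : Matrix (ι ⊕ ι) (ι ⊕ ι) F)

variable {F : Type*} [Field F] (C : FormClass F)

/-- `u` preserves some form of the class -/
def Pres {ι : Type} [Fintype ι] [DecidableEq ι] (u : Matrix ι ι F) : Prop :=
  ∃ T : Matrix ι ι F, C.good T ∧ C.null (uᵀ * T * u - T)

section Closure

variable {C}
variable {ι ι' : Type} [Fintype ι] [DecidableEq ι] [Fintype ι'] [DecidableEq ι']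

theorem Pres.reindex {u : Matrix ι ι F} (h : Pres C u) (e : ι ≃ ι') : Pres C (Matrix.reindex e e u) := by
  obtain ⟨T, hT, hn⟩ := h
  refine ⟨Matrix.reindex e e T, C.good_reindex e T hT, ?_⟩
  have := C.null_reindex e _ hn
  have h1 : (Matrix.reindex e e u)ᵀ * Matrix.reindex e e T * Matrix.reindex e e u - Matrix.reindex e e T =
      Matrix.reindex e e (uᵀ * T * u - T) := by
    simp only [Matrix.reindex_apply, Matrix.transpose_submatrix, Matrix.submatrix_mul_equiv,
      Matrix.submatrix_sub]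
    rfl
  rw [h1]
  exact this

theorem Pres.of_reindex {u : Matrix ι ι F} (e : ι ≃ ι') (h : Pres C (Matrix.reindex e e u)) : Pres C u := by
  have := h.reindex e.symm
  have h1 : Matrix.reindex e.symm e.symm (Matrix.reindex e e u) = u := by
    ext a b
    simp [Matrix.reindex_apply, Matrix.submatrix_apply]
  rwa [h1] at this

theorem Pres.conj {u u' : Matrix ι ι F} (h : Pres C u) (g k : Matrix ι ι F) (hgk : g * k = 1)
    (hconj : g * u = u' * g) : Pres C u' := by
  have hkg : k * g = 1 := (_root_.mul_eq_one_comm).mp hgk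
  obtain ⟨T, hT, hn⟩ := h
  have hk : IsUnit k := isUnit_iff_exists.mpr ⟨g, hkg, hgk⟩
  refine ⟨kᵀ * T * k, C.good_congr k T hk hT, ?_⟩
  have hu' : u' = g * u * k := by
    rw [hconj, Matrix.mul_assoc, hgk, Matrix.mul_one]
  have h1 : u'ᵀ * (kᵀ * T * k) * u' - kᵀ * T * k = kᵀ * (uᵀ * T * u - T) * k := by
    rw [hu']
    simp only [Matrix.transpose_mul, Matrix.mul_sub, Matrix.sub_mul, Matrix.mul_assoc]
    rw [← Matrix.mul_assoc k g, hkg, Matrix.one_mul, ← Matrix.mul_assoc gᵀ kᵀ, ← Matrix.transpose_mul, hkg,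
      Matrix.transpose_one, Matrix.one_mul]
  rw [h1]
  exact C.null_congr k _ hn

theorem Pres.sum {ι₁ ι₂ : Type} [Fintype ι₁] [DecidableEq ι₁] [Fintype ι₂] [DecidableEq ι₂]
    {u₁ : Matrix ι₁ ι₁ F} {u₂ : Matrix ι₂ ι₂ F} (h₁ : Pres C u₁) (h₂ : Pres C u₂) :
    Pres C (Matrix.fromBlocks u₁ 0 0 u₂) := by
  obtain ⟨T₁, hT₁, hn₁⟩ := h₁
  obtain ⟨T₂, hT₂, hn₂⟩ := h₂
  refine ⟨Matrix.fromBlocks T₁ 0 0 T₂, C.good_sum T₁ T₂ hT₁ hT₂, ?_⟩
  have h1 : (Matrix.fromBlocks u₁ 0 0 u₂)ᵀ * Matrix.fromBlocks T₁ 0 0 T₂ * Matrix.fromBlocks u₁ 0 0 u₂ -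
      Matrix.fromBlocks T₁ 0 0 T₂ =
      Matrix.fromBlocks (u₁ᵀ * T₁ * u₁ - T₁) 0 0 (u₂ᵀ * T₂ * u₂ - T₂) := by
    rw [Matrix.fromBlocks_transpose, Matrix.fromBlocks_multiply, Matrix.fromBlocks_multiply,
      sub_eq_add_neg, Matrix.fromBlocks_neg, Matrix.fromBlocks_add]
    simp [sub_eq_add_neg]
  rw [h1]
  exact C.null_sum _ _ hn₁ hn₂

theorem Pres.bd {κ : Type} [Fintype κ] [DecidableEq κ] (n : κ → ℕ)
    (u : ∀ k, Matrix (Fin (n k)) (Fin (n k)) F) (h : ∀ k, Pres C (u k)) :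
    Pres C (Matrix.blockDiagonal' u) := by
  choose T hT hn using h
  refine ⟨Matrix.blockDiagonal' T, C.good_bd n T hT, ?_⟩
  have h1 : (Matrix.blockDiagonal' u)ᵀ * Matrix.blockDiagonal' T * Matrix.blockDiagonal' u -
      Matrix.blockDiagonal' T = Matrix.blockDiagonal' (fun k => (u k)ᵀ * T k * u k - T k) := by
    rw [Matrix.blockDiagonal'_transpose, ← Matrix.blockDiagonal'_mul, ← Matrix.blockDiagonal'_mul,
      ← Matrix.blockDiagonal'_sub]
    rfl
  rw [h1]
  exact C.null_bd n _ hn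

theorem Pres.hyp (u w : Matrix ι ι F) (huw : u * w = 1) : Pres C (Matrix.fromBlocks u 0 0 wᵀ) := by
  have hwu : w * u = 1 := (_root_.mul_eq_one_comm).mp huw
  refine ⟨Matrix.fromBlocks 0 1 (C.eps • 1) 0, C.good_hyp, ?_⟩
  have h1 : (Matrix.fromBlocks u 0 0 wᵀ)ᵀ * Matrix.fromBlocks 0 1 (C.eps • 1) 0 *
      Matrix.fromBlocks u 0 0 wᵀ - Matrix.fromBlocks 0 1 (C.eps • 1) 0 = 0 := by
    rw [Matrix.fromBlocks_transpose, Matrix.fromBlocks_multiply, Matrix.fromBlocks_multiply]
    have h2 : uᵀ * wᵀ = 1 := by rw [← Matrix.transpose_mul, hwu, Matrix.transpose_one]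
    simp only [Matrix.transpose_zero, Matrix.transpose_transpose, Matrix.mul_zero, Matrix.zero_mul,
      add_zero, zero_add, Matrix.mul_one, Matrix.mul_smul, Matrix.smul_mul, hwu, h2, smul_zero,
      sub_self]
  rw [h1]
  exact C.null_zero

end Closure

section Blocks

open Cfsg.Agent.H9.RegUni

theorem jb_sub_one (n : ℕ) (hn : 1 ≤ n) :
    jordanBlock n F - 1 = Cfsg.Agent.S2163.NN F n (n - 1) := by
  ext a b
  rw [Matrix.sub_apply, Cfsg.Agent.H9.RegUni.shift_apply hn, jordanBlock, Matrix.of_apply,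
    Matrix.one_apply]
  by_cases hab : a = b
  · subst hab
    rw [if_pos rfl, if_pos rfl, sub_self, if_neg (by omega)]
  · have hab' : ¬ (a : ℕ) = (b : ℕ) := fun h => hab (Fin.ext h)
    rw [if_neg hab', if_neg hab, sub_zero]

theorem isReg_jb (n : ℕ) (hn : 1 ≤ n) : IsReg (jordanBlock n F) := by
  refine ⟨?_, ?_⟩
  · ext i j
    rw [jb_sub_one_pow, Matrix.zero_apply, if_neg]
    have := i.2
    omega
  · rw [jb_sub_one n hn]
    exact Cfsg.Agent.S2163.rank_NN (by omega)

theorem isReg_inv_transpose {n : ℕ} (u w : Matrix (Fin n) (Fin n) F) (hu : IsReg u) (huw : u * w = 1) :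
    IsReg wᵀ := by
  have hwu : w * u = 1 := (_root_.mul_eq_one_comm).mp huw
  have h1 : wᵀ - 1 = ((-w) * (u - 1))ᵀ := by
    rw [Matrix.neg_mul, Matrix.mul_sub, hwu, Matrix.mul_one, neg_sub, Matrix.transpose_sub,
      Matrix.transpose_one]
  have hcomm : Commute (-w) (u - 1) := (commute_w u w huw).neg_left
  have hwdet : IsUnit (-w).det := by
    have h2 : (-w) * (-u) = 1 := by rw [Matrix.neg_mul, Matrix.mul_neg, neg_neg, hwu]
    have := congrArg Matrix.det h2
    rw [Matrix.det_mul, Matrix.det_one] at this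
    exact IsUnit.of_mul_eq_one _ this
  refine ⟨?_, ?_⟩
  · rw [h1, ← Matrix.transpose_pow, hcomm.mul_pow, hu.1, Matrix.mul_zero, Matrix.transpose_zero]
  · rw [h1, Matrix.rank_transpose, Matrix.rank_mul_eq_right_of_isUnit_det _ _ hwdet, hu.2]

/-- a Jordan block is conjugate to its inverse transpose -/
theorem exists_conj_inv_transpose (n : ℕ) :
    ∃ g h w : Matrix (Fin n) (Fin n) F, g * h = 1 ∧ jordanBlock n F * w = 1 ∧
      g * wᵀ = jordanBlock n F * g := by
  rcases Nat.eq_zero_or_pos n with h0 | hpos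
  · subst h0
    exact ⟨1, 1, 1, Subsingleton.elim _ _, Subsingleton.elim _ _, Subsingleton.elim _ _⟩
  · have hn : 1 ≤ n := hpos
    have hJ := isReg_jb (F := F) n hn
    have hdet : IsUnit (jordanBlock n F).det := by
      have h1 : jordanBlock n F = 1 + Cfsg.Agent.S2163.NN F n (n - 1) := by
        rw [← jb_sub_one n hn]; abel
      have hnil : IsNilpotent (Cfsg.Agent.S2163.NN F n (n - 1)) := ⟨n, by rw [← jb_sub_one n hn]; exact hJ.1⟩
      rw [← Matrix.isUnit_iff_isUnit_det, h1]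
      exact IsNilpotent.isUnit_one_add hnil
    set w := (jordanBlock n F)⁻¹ with hw
    have hJw : jordanBlock n F * w = 1 := Matrix.mul_nonsing_inv _ hdet
    obtain ⟨g, hg⟩ := exists_conj hn wᵀ (jordanBlock n F) (isReg_inv_transpose _ w hJ hJw) hJ
    refine ⟨(g : Matrix (Fin n) (Fin n) F), ((g⁻¹ : GL (Fin n) F) : Matrix (Fin n) (Fin n) F), w, ?_, hJw, hg⟩
    rw [← Units.val_mul, mul_inv_cancel, Units.val_one]

end Blocks

section Assembly

variable {C}

/-- the sum of two copies of a Jordan type matrix preserves a hyperbolic form -/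
theorem pres_pair {κ : Type} [Fintype κ] [DecidableEq κ] (d₁ d₂ : κ → ℕ) (h : d₁ = d₂) :
    Pres C (Matrix.fromBlocks (JTg F d₁) 0 0 (JTg F d₂)) := by
  subst h
  choose g h w hgh hJw hconj using fun k : κ => exists_conj_inv_transpose (F := F) (d₁ k)
  have hJW : JTg F d₁ * Matrix.blockDiagonal' w = 1 := by
    rw [JTg, ← Matrix.blockDiagonal'_mul, ← Matrix.blockDiagonal'_one]
    congr 1
    funext k
    exact hJw k
  have h1 : Pres C (Matrix.fromBlocks (JTg F d₁) 0 0 (Matrix.blockDiagonal' w)ᵀ) := Pres.hyp _ _ hJW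
  refine h1.conj (Matrix.fromBlocks 1 0 0 (Matrix.blockDiagonal' g))
    (Matrix.fromBlocks 1 0 0 (Matrix.blockDiagonal' h)) ?_ ?_
  · rw [Matrix.fromBlocks_multiply]
    simp only [Matrix.mul_one, Matrix.mul_zero, Matrix.zero_mul, add_zero, zero_add]
    rw [← Matrix.blockDiagonal'_mul, ← Matrix.fromBlocks_one, ← Matrix.blockDiagonal'_one]
    congr 2
    funext k
    exact hgh k
  · rw [Matrix.fromBlocks_multiply, Matrix.fromBlocks_multiply]
    simp only [Matrix.mul_one, Matrix.one_mul, Matrix.mul_zero, Matrix.zero_mul, add_zero, zero_add]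
    congr 1
    rw [Matrix.blockDiagonal'_transpose, JTg, ← Matrix.blockDiagonal'_mul, ← Matrix.blockDiagonal'_mul]
    congr 1
    funext k
    exact hconj k

/-- a Jordan type matrix preserves a form of the class as soon as the blocks that cannot be paired do -/
theorem pres_jt (P : ℕ → Prop) [DecidablePred P]
    (hsingle : ∀ n, 1 ≤ n → ¬ P n → Pres C (jordanBlock n F)) {t : ℕ} (d : Fin t → ℕ)
    (hd : ∀ k, 1 ≤ d k)
    (h : ∀ j, P j → Even (Finset.univ.filter (fun k : Fin t => d k = j)).card) :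
    Pres C (jordanTypeMatrix d F) := by
  obtain ⟨nf, na, e, hf, ha⟩ := exists_split d P h
  have h0 : jordanTypeMatrix d F = JTg F d := rfl
  rw [h0, ← JTg_congrLeft e d]
  apply Pres.reindex
  apply Pres.of_reindex (Equiv.sumSigmaDistrib (fun s => Fin (d (e s))))
  rw [JTg_sum]
  apply Pres.sum
  · exact Pres.bd _ _ (fun x => hsingle _ (hd _) (hf x))
  · apply Pres.of_reindex (Equiv.sumSigmaDistrib (fun s => Fin (d (e (Sum.inr s)))))
    rw [JTg_sum]
    exact pres_pair _ _ (funext ha)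

end Assembly

end Cfsg.Agent.Lib.Helper8.JType
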