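import Mathlib
import Cfsg.Agent.Lib.Helper8.JTypeD

/-!
# Jordan types in classical groups, part E (helper8)

The three classes of forms: alternating forms, symmetric forms, quadratic forms (via a Gram-type matrix).
-/

set_option autoImplicit false

namespace Cfsg.Agent.Lib.Helper8.JType

open Cfsg Module Matrix

section Helpers

variable {F : Type*} [Field F]

theorem IsAltM.reindex {ι ι' : Type*} [Fintype ι] [DecidableEq ι] [Fintype ι'] [DecidableEq ι']
    {M : Matrix ι ι F} (h : IsAltM M) (e : ι ≃ ι') : IsAltM (Matrix.reindex e e M) := by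
  refine ⟨?_, ?_⟩
  · rw [Matrix.reindex_apply, Matrix.transpose_submatrix, h.1]
    rfl
  · intro i
    rw [Matrix.reindex_apply, Matrix.submatrix_apply, h.2]

theorem IsAltM.fromBlocks {ι₁ ι₂ : Type*} [Fintype ι₁] [DecidableEq ι₁] [Fintype ι₂] [DecidableEq ι₂]
    {M₁ : Matrix ι₁ ι₁ F} {M₂ : Matrix ι₂ ι₂ F} (h₁ : IsAltM M₁) (h₂ : IsAltM M₂) :
    IsAltM (Matrix.fromBlocks M₁ 0 0 M₂) := by
  refine ⟨?_, ?_⟩
  · rw [Matrix.fromBlocks_transpose, h₁.1, h₂.1, Matrix.fromBlocks_neg]
    simp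
  · rintro (i | i)
    · rw [Matrix.fromBlocks_apply₁₁, h₁.2]
    · rw [Matrix.fromBlocks_apply₂₂, h₂.2]

theorem IsAltM.bd {κ : Type*} [Fintype κ] [DecidableEq κ] (n : κ → ℕ)
    (T : ∀ k, Matrix (Fin (n k)) (Fin (n k)) F) (h : ∀ k, IsAltM (T k)) :
    IsAltM (Matrix.blockDiagonal' T) := by
  refine ⟨?_, ?_⟩
  · rw [Matrix.blockDiagonal'_transpose, ← Matrix.blockDiagonal'_neg]
    congr 1
    funext k
    exact (h k).1
  · rintro ⟨k, i⟩
    rw [Matrix.blockDiagonal'_apply_eq, (h k).2]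

theorem isAltM_zero {ι : Type*} [Fintype ι] [DecidableEq ι] : IsAltM (0 : Matrix ι ι F) :=
  ⟨by rw [Matrix.transpose_zero, neg_zero], fun i => rfl⟩

theorem isUnit_reindex {ι ι' : Type*} [Fintype ι] [DecidableEq ι] [Fintype ι'] [DecidableEq ι']
    {M : Matrix ι ι F} (h : IsUnit M) (e : ι ≃ ι') : IsUnit (Matrix.reindex e e M) :=
  h.map (Matrix.reindexAlgEquiv F F e)

theorem isUnit_fromBlocks {ι₁ ι₂ : Type*} [Fintype ι₁] [DecidableEq ι₁] [Fintype ι₂] [DecidableEq ι₂]
    {M₁ : Matrix ι₁ ι₁ F} {M₂ : Matrix ι₂ ι₂ F} (h₁ : IsUnit M₁) (h₂ : IsUnit M₂) :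
    IsUnit (Matrix.fromBlocks M₁ 0 0 M₂) := by
  obtain ⟨K₁, h11, h12⟩ := isUnit_iff_exists.mp h₁
  obtain ⟨K₂, h21, h22⟩ := isUnit_iff_exists.mp h₂
  refine isUnit_iff_exists.mpr ⟨Matrix.fromBlocks K₁ 0 0 K₂, ?_, ?_⟩
  · rw [Matrix.fromBlocks_multiply]
    simp only [Matrix.mul_zero, Matrix.zero_mul, add_zero, zero_add, h11, h21, Matrix.fromBlocks_one]
  · rw [Matrix.fromBlocks_multiply]
    simp only [Matrix.mul_zero, Matrix.zero_mul, add_zero, zero_add, h12, h22, Matrix.fromBlocks_one]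

theorem isUnit_bd {κ : Type*} [Fintype κ] [DecidableEq κ] (n : κ → ℕ)
    (T : ∀ k, Matrix (Fin (n k)) (Fin (n k)) F) (h : ∀ k, IsUnit (T k)) :
    IsUnit (Matrix.blockDiagonal' T) := by
  have h1 : IsUnit T := Pi.isUnit_iff.mpr h
  exact h1.map (Matrix.blockDiagonal'RingHom (fun k => Fin (n k)) F)

theorem isUnit_congr {ι : Type*} [Fintype ι] [DecidableEq ι] {g M : Matrix ι ι F} (hg : IsUnit g)
    (h : IsUnit M) : IsUnit (gᵀ * M * g) := by
  have hgt : IsUnit gᵀ := by
    rw [Matrix.isUnit_iff_isUnit_det, Matrix.det_transpose, ← Matrix.isUnit_iff_isUnit_det]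
    exact hg
  exact (hgt.mul h).mul hg

end Helpers

section Classes

variable (F : Type*) [Field F]

/-- alternating forms -/
def spClass : FormClass F where
  good := fun T => IsAltM T ∧ IsUnit T
  null := fun X => X = 0
  eps := -1
  good_reindex := fun e T h => ⟨h.1.reindex e, isUnit_reindex h.2 e⟩
  null_reindex := fun e T h => by rw [h]; ext; rfl
  good_congr := fun g T hg h => ⟨h.1.congr g, isUnit_congr hg h.2⟩
  null_congr := fun g T h => by rw [h, Matrix.mul_zero, Matrix.zero_mul]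
  good_sum := fun T₁ T₂ h₁ h₂ => ⟨h₁.1.fromBlocks h₂.1, isUnit_fromBlocks h₁.2 h₂.2⟩
  null_sum := fun T₁ T₂ h₁ h₂ => by rw [h₁, h₂, Matrix.fromBlocks_zero]
  good_bd := fun n T h => ⟨IsAltM.bd n T (fun k => (h k).1), isUnit_bd n T (fun k => (h k).2)⟩
  null_bd := fun n T h => by
    have : T = 0 := funext h
    rw [this, Matrix.blockDiagonal'_zero]
  null_zero := rfl
  good_hyp := by
    intro ι _ _
    refine ⟨⟨?_, ?_⟩, ?_⟩
    · rw [Matrix.fromBlocks_transpose, Matrix.fromBlocks_neg]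
      simp
    · rintro (i | i)
      · rw [Matrix.fromBlocks_apply₁₁]; rfl
      · rw [Matrix.fromBlocks_apply₂₂]; rfl
    · refine isUnit_iff_exists.mpr ⟨Matrix.fromBlocks 0 (-1) 1 0, ?_, ?_⟩
      · rw [Matrix.fromBlocks_multiply]
        simp [Matrix.fromBlocks_one]
      · rw [Matrix.fromBlocks_multiply]
        simp [Matrix.fromBlocks_one]

/-- symmetric forms -/
def oClass : FormClass F where
  good := fun T => Tᵀ = T ∧ IsUnit T
  null := fun X => X = 0
  eps := 1
  good_reindex := fun e T h => ⟨by rw [Matrix.reindex_apply, Matrix.transpose_submatrix, h.1],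
    isUnit_reindex h.2 e⟩
  null_reindex := fun e T h => by rw [h]; ext; rfl
  good_congr := fun g T hg h => ⟨by
    rw [Matrix.transpose_mul, Matrix.transpose_mul, Matrix.transpose_transpose, h.1, Matrix.mul_assoc],
    isUnit_congr hg h.2⟩
  null_congr := fun g T h => by rw [h, Matrix.mul_zero, Matrix.zero_mul]
  good_sum := fun T₁ T₂ h₁ h₂ => ⟨by
    rw [Matrix.fromBlocks_transpose, h₁.1, h₂.1, Matrix.transpose_zero, Matrix.transpose_zero],
    isUnit_fromBlocks h₁.2 h₂.2⟩
  null_sum := fun T₁ T₂ h₁ h₂ => by rw [h₁, h₂, Matrix.fromBlocks_zero]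
  good_bd := fun n T h => ⟨by
    rw [Matrix.blockDiagonal'_transpose]
    congr 1
    funext k
    exact (h k).1, isUnit_bd n T (fun k => (h k).2)⟩
  null_bd := fun n T h => by
    have : T = 0 := funext h
    rw [this, Matrix.blockDiagonal'_zero]
  null_zero := rfl
  good_hyp := by
    intro ι _ _
    refine ⟨?_, ?_⟩
    · rw [Matrix.fromBlocks_transpose]
      simp
    · refine isUnit_iff_exists.mpr ⟨Matrix.fromBlocks 0 1 1 0, ?_, ?_⟩
      · rw [Matrix.fromBlocks_multiply]
        simp [Matrix.fromBlocks_one]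
      · rw [Matrix.fromBlocks_multiply]
        simp [Matrix.fromBlocks_one]

/-- quadratic forms `v ↦ v ⬝ᵥ T *ᵥ v`, with nondegenerate polar form `T + Tᵀ` -/
def qClass : FormClass F where
  good := fun T => IsUnit (T + Tᵀ)
  null := fun X => IsAltM X
  eps := 0
  good_reindex := fun e T h => by
    have := isUnit_reindex h e
    rw [Matrix.reindex_apply] at this ⊢
    rw [Matrix.transpose_submatrix]
    exact this
  null_reindex := fun e T h => h.reindex e
  good_congr := fun g T hg h => by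
    have := isUnit_congr hg h
    rw [Matrix.mul_add, Matrix.add_mul] at this
    rw [Matrix.transpose_mul, Matrix.transpose_mul, Matrix.transpose_transpose, ← Matrix.mul_assoc]
    exact this
  null_congr := fun g T h => h.congr g
  good_sum := fun T₁ T₂ h₁ h₂ => by
    have := isUnit_fromBlocks h₁ h₂
    rw [Matrix.fromBlocks_transpose, Matrix.fromBlocks_add]
    simpa using this
  null_sum := fun T₁ T₂ h₁ h₂ => h₁.fromBlocks h₂
  good_bd := fun n T h => by
    have := isUnit_bd n (fun k => T k + (T k)ᵀ) h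
    rw [Matrix.blockDiagonal'_transpose, ← Matrix.blockDiagonal'_add]
    exact this
  null_bd := fun n T h => IsAltM.bd n T h
  null_zero := isAltM_zero
  good_hyp := by
    intro ι _ _
    refine isUnit_iff_exists.mpr ⟨Matrix.fromBlocks 0 1 1 0, ?_, ?_⟩
    · rw [Matrix.fromBlocks_transpose, Matrix.fromBlocks_add, Matrix.fromBlocks_multiply]
      simp [Matrix.fromBlocks_one]
    · rw [Matrix.fromBlocks_transpose, Matrix.fromBlocks_add, Matrix.fromBlocks_multiply]
      simp [Matrix.fromBlocks_one]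

end Classes

end Cfsg.Agent.Lib.Helper8.JType
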