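import Mathlib
import Cfsg.Agent.Lib.Helper8.JTypeE

/-!
# Jordan types in classical groups, part F (helper8)

A regular unipotent matrix preserving the standard alternating form (any characteristic) and, in
characteristic two, a quadratic form with that polar form.
-/

set_option autoImplicit false

namespace Cfsg.Agent.Lib.Helper8.JType

open Cfsg Module Matrix Cfsg.Agent.H9.RegUni

section Shift

variable {F : Type*} [Field F] {r : ℕ}

theorem jb_sub_one_apply (i j : Fin r) :
    (jordanBlock r F - 1) i j = if i.val = j.val + 1 then (1 : F) else 0 := by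
  have := jb_sub_one_pow (F := F) r 1 i j
  rwa [pow_one] at this

theorem L_mulVec (x : Fin r → F) (i : Fin r) :
    ((jordanBlock r F - 1).mulVec x) i =
      if h : 1 ≤ i.val then x ⟨i.val - 1, by have := i.2; omega⟩ else 0 := by
  rw [Matrix.mulVec, dotProduct]
  by_cases h : 1 ≤ i.val
  · rw [dif_pos h, Finset.sum_eq_single ⟨i.val - 1, by have := i.2; omega⟩]
    · rw [jb_sub_one_apply, if_pos (by simp only; omega), one_mul]
    · intro j _ hj
      rw [jb_sub_one_apply, if_neg, zero_mul]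
      intro h2
      apply hj
      apply Fin.ext
      simp only
      omega
    · intro h2; exact absurd (Finset.mem_univ _) h2
  · rw [dif_neg h]
    apply Finset.sum_eq_zero
    intro j _
    rw [jb_sub_one_apply, if_neg (by omega), zero_mul]

theorem Lt_mulVec (y : Fin r → F) (i : Fin r) :
    ((jordanBlock r F - 1)ᵀ.mulVec y) i =
      if h : i.val + 1 < r then y ⟨i.val + 1, h⟩ else 0 := by
  rw [Matrix.mulVec, dotProduct]
  by_cases h : i.val + 1 < r
  · rw [dif_pos h, Finset.sum_eq_single ⟨i.val + 1, h⟩]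
    · rw [Matrix.transpose_apply, jb_sub_one_apply, if_pos rfl, one_mul]
    · intro j _ hj
      rw [Matrix.transpose_apply, jb_sub_one_apply, if_neg, zero_mul]
      intro h2
      apply hj
      exact Fin.ext h2
    · intro h2; exact absurd (Finset.mem_univ _) h2
  · rw [dif_neg h]
    apply Finset.sum_eq_zero
    intro j _
    rw [Matrix.transpose_apply, jb_sub_one_apply, if_neg, zero_mul]
    have := j.2
    omega

end Shift

section Model

variable {F : Type*} [Field F] {r : ℕ}

/-- rank of a nilpotent matrix whose kernel lies on a line -/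
theorem rank_of_ker_le {ι : Type*} [Fintype ι] [DecidableEq ι] [Nonempty ι] (M : Matrix ι ι F)
    (hnil : IsNilpotent M) (v₀ : ι → F) (hker : ∀ v, M.mulVec v = 0 → ∃ c : F, v = c • v₀) :
    M.rank = Fintype.card ι - 1 := by
  have h1 := LinearMap.finrank_range_add_finrank_ker M.mulVecLin
  rw [Module.finrank_fintype_fun_eq_card] at h1
  have h2 : finrank F (LinearMap.ker M.mulVecLin) ≤ 1 := by
    have h3 : LinearMap.ker M.mulVecLin ≤ Submodule.span F {v₀} := by
      intro v hv
      rw [LinearMap.mem_ker, Matrix.mulVecLin_apply] at hv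
      obtain ⟨c, rfl⟩ := hker v hv
      exact Submodule.smul_mem _ _ (Submodule.mem_span_singleton_self v₀)
    calc finrank F (LinearMap.ker M.mulVecLin) ≤ finrank F (Submodule.span F {v₀}) :=
          Submodule.finrank_mono h3
      _ ≤ 1 := by
        have := finrank_span_le_card (R := F) ({v₀} : Set (ι → F))
        simpa using this
  have h4 : 1 ≤ finrank F (LinearMap.ker M.mulVecLin) := by
    have hdet : M.det = 0 := by
      obtain ⟨k, hk⟩ := hnil
      have := congrArg Matrix.det hk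
      rw [Matrix.det_pow, Matrix.det_zero] at this
      exact pow_eq_zero_iff (fun h => by
        subst h
        rw [pow_zero] at hk
        exact one_ne_zero hk) |>.mp this
    obtain ⟨v, hv0, hv⟩ := Matrix.exists_mulVec_eq_zero_iff.mpr hdet
    have hmem : v ∈ LinearMap.ker M.mulVecLin := by
      rw [LinearMap.mem_ker, Matrix.mulVecLin_apply, hv]
    by_contra hlt
    have h5 : finrank F (LinearMap.ker M.mulVecLin) = 0 := by omega
    rw [Submodule.finrank_eq_zero] at h5
    rw [h5, Submodule.mem_bot] at hmem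
    exact hv0 hmem
  have h6 : M.rank = finrank F (LinearMap.range M.mulVecLin) := rfl
  omega

variable (F r)

/-- the elementary matrix `E₀₀` -/
def EX (hr : 1 ≤ r) : Matrix (Fin r) (Fin r) F := Matrix.single (⟨0, hr⟩ : Fin r) (⟨0, hr⟩ : Fin r) 1

/-- the model regular unipotent element -/
noncomputable def gX (hr : 1 ≤ r) : Matrix (Fin r ⊕ Fin r) (Fin r ⊕ Fin r) F :=
  Matrix.fromBlocks (jordanBlock r F) (jordanBlock r F * EX F r hr) 0 ((jordanBlock r F)⁻¹)ᵀ

variable {F r}

theorem jb_mul_inv (hr : 1 ≤ r) : jordanBlock r F * (jordanBlock r F)⁻¹ = 1 := by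
  have hJ := isReg_jb (F := F) r hr
  have hdet : IsUnit (jordanBlock r F).det := by
    have h1 : jordanBlock r F = 1 + Cfsg.Agent.S2163.NN F r (r - 1) := by
      rw [← jb_sub_one r hr]; abel
    have hnil : IsNilpotent (Cfsg.Agent.S2163.NN F r (r - 1)) :=
      ⟨r, by rw [← jb_sub_one r hr]; exact hJ.1⟩
    rw [← Matrix.isUnit_iff_isUnit_det, h1]
    exact IsNilpotent.isUnit_one_add hnil
  exact Matrix.mul_nonsing_inv _ hdet

theorem EX_mul_jb (hr : 1 ≤ r) : EX F r hr * jordanBlock r F = EX F r hr := by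
  ext i j
  rw [Matrix.mul_apply, Finset.sum_eq_single (⟨0, hr⟩ : Fin r)]
  · simp only [EX, Matrix.single_apply, jordanBlock, Matrix.of_apply]
    by_cases hi : (⟨0, hr⟩ : Fin r) = i
    · subst hi
      by_cases hj : (⟨0, hr⟩ : Fin r) = j
      · subst hj; simp
      · have hj' : ¬ (0 : ℕ) = j.val := fun h => hj (Fin.ext h)
        simp [hj, hj']
    · simp [hi]
  · intro k _ hk
    rw [EX, Matrix.single_apply, if_neg, zero_mul]
    rintro ⟨_, h2⟩
    exact hk h2.symm
  · intro h; exact absurd (Finset.mem_univ _) h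

theorem EX_mul_EX (hr : 1 ≤ r) : EX F r hr * EX F r hr = EX F r hr := by
  rw [EX, Matrix.single_mul_single_same, mul_one]

theorem EX_transpose (hr : 1 ≤ r) : (EX F r hr)ᵀ = EX F r hr :=
  Matrix.transpose_single _ _ _

/-- `gX` preserves the standard alternating form -/
theorem gX_sp (hr : 1 ≤ r) :
    (gX F r hr)ᵀ * Matrix.fromBlocks 0 1 ((-1 : F) • 1) 0 * gX F r hr =
      Matrix.fromBlocks 0 1 ((-1 : F) • 1) 0 := by
  have hAA' := jb_mul_inv (F := F) hr
  have hA'A : (jordanBlock r F)⁻¹ * jordanBlock r F = 1 := (_root_.mul_eq_one_comm).mp hAA'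
  have hEA := EX_mul_jb (F := F) hr
  have hEt := EX_transpose (F := F) hr
  have h2 : (jordanBlock r F)ᵀ * ((jordanBlock r F)⁻¹)ᵀ = 1 := by
    rw [← Matrix.transpose_mul, hA'A, Matrix.transpose_one]
  rw [gX, Matrix.fromBlocks_transpose, Matrix.fromBlocks_multiply, Matrix.fromBlocks_multiply]
  simp only [Matrix.transpose_zero, Matrix.transpose_transpose, Matrix.mul_zero, Matrix.zero_mul,
    add_zero, zero_add, Matrix.mul_one, Matrix.mul_smul, Matrix.smul_mul, Matrix.transpose_mul, hEt, h2,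
    hA'A, smul_zero]
  congr 1
  rw [← Matrix.mul_assoc (jordanBlock r F)⁻¹, hA'A, Matrix.one_mul, Matrix.mul_assoc, h2, Matrix.mul_one,
    neg_smul, one_smul, neg_add_cancel]

/-- in characteristic two `gX` preserves a quadratic form whose polar form is the standard alternating
form -/
theorem gX_q [CharP F 2] (hr : 1 ≤ r) :
    IsAltM ((gX F r hr)ᵀ * Matrix.fromBlocks (EX F r hr) 1 0 0 * gX F r hr -
      Matrix.fromBlocks (EX F r hr) 1 0 0) := by
  have hAA' := jb_mul_inv (F := F) hr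
  have hA'A : (jordanBlock r F)⁻¹ * jordanBlock r F = 1 := (_root_.mul_eq_one_comm).mp hAA'
  have hEA := EX_mul_jb (F := F) hr
  have hEt := EX_transpose (F := F) hr
  have hEE := EX_mul_EX (F := F) hr
  have hAtE : (jordanBlock r F)ᵀ * EX F r hr = EX F r hr := by
    have := congrArg Matrix.transpose hEA
    rwa [Matrix.transpose_mul, hEt] at this
  have h2 : (jordanBlock r F)ᵀ * ((jordanBlock r F)⁻¹)ᵀ = 1 := by
    rw [← Matrix.transpose_mul, hA'A, Matrix.transpose_one]
  have h3 : (gX F r hr)ᵀ * Matrix.fromBlocks (EX F r hr) 1 0 0 * gX F r hr -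
      Matrix.fromBlocks (EX F r hr) 1 0 0 = Matrix.fromBlocks 0 (EX F r hr) (EX F r hr) 0 := by
    have hEAt : EX F r hr * (jordanBlock r F)ᵀ * ((jordanBlock r F)⁻¹)ᵀ = EX F r hr := by
      rw [Matrix.mul_assoc, h2, Matrix.mul_one]
    have hEAE : EX F r hr * (jordanBlock r F * EX F r hr) = EX F r hr := by
      rw [← Matrix.mul_assoc, hEA, hEE]
    rw [gX, Matrix.fromBlocks_transpose, Matrix.fromBlocks_multiply, Matrix.fromBlocks_multiply,
      sub_eq_add_neg, Matrix.fromBlocks_neg, Matrix.fromBlocks_add]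
    simp only [Matrix.transpose_zero, Matrix.transpose_transpose, Matrix.mul_zero, Matrix.zero_mul,
      add_zero, zero_add, Matrix.mul_one, Matrix.transpose_mul, hEt, neg_zero]
    congr 1
    · rw [hAtE, hEA, add_neg_cancel]
    · rw [hAtE, hEAE, h2, add_neg_cancel_right]
    · rw [Matrix.mul_assoc (EX F r hr) (jordanBlock r F)ᵀ, hAtE, hEE, hEA]
    · rw [Matrix.mul_assoc (EX F r hr) (jordanBlock r F)ᵀ (EX F r hr), hAtE, hEE, hEAE, hEAt]
      ext i j
      rw [Matrix.add_apply, CharTwo.add_self_eq_zero, Matrix.zero_apply]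
  rw [h3]
  refine ⟨?_, ?_⟩
  · rw [Matrix.fromBlocks_transpose, hEt, Matrix.transpose_zero, Matrix.fromBlocks_neg]
    have hneg : -EX F r hr = EX F r hr := by
      ext i j
      rw [Matrix.neg_apply, CharTwo.neg_eq]
    rw [neg_zero, hneg]
  · rintro (i | i)
    · rw [Matrix.fromBlocks_apply₁₁]; rfl
    · rw [Matrix.fromBlocks_apply₂₂]; rfl

theorem gX_q_good [CharP F 2] (hr : 1 ≤ r) :
    IsUnit (Matrix.fromBlocks (EX F r hr) (1 : Matrix (Fin r) (Fin r) F) 0 0 +
      (Matrix.fromBlocks (EX F r hr) (1 : Matrix (Fin r) (Fin r) F) 0 0)ᵀ) := by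
  have hEt := EX_transpose (F := F) hr
  have hEE2 : EX F r hr + EX F r hr = 0 := by
    ext i j
    rw [Matrix.add_apply, CharTwo.add_self_eq_zero, Matrix.zero_apply]
  rw [Matrix.fromBlocks_transpose, Matrix.fromBlocks_add, hEt, hEE2]
  simp only [Matrix.transpose_zero, Matrix.transpose_one, add_zero, zero_add]
  refine isUnit_iff_exists.mpr ⟨Matrix.fromBlocks 0 1 1 0, ?_, ?_⟩
  · rw [Matrix.fromBlocks_multiply]
    simp [Matrix.fromBlocks_one]
  · rw [Matrix.fromBlocks_multiply]
    simp [Matrix.fromBlocks_one]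

theorem fromBlocks_upper_pow {ι₁ ι₂ : Type*} [Fintype ι₁] [DecidableEq ι₁] [Fintype ι₂] [DecidableEq ι₂]
    (N : Matrix ι₁ ι₁ F) (B : Matrix ι₁ ι₂ F) (N' : Matrix ι₂ ι₂ F) (k : ℕ) :
    ∃ X : Matrix ι₁ ι₂ F, (Matrix.fromBlocks N B 0 N') ^ k = Matrix.fromBlocks (N ^ k) X 0 (N' ^ k) := by
  induction k with
  | zero => exact ⟨0, by rw [pow_zero, pow_zero, pow_zero, Matrix.fromBlocks_one]⟩
  | succ k ih =>
    obtain ⟨X, hX⟩ := ih
    refine ⟨N ^ k * B + X * N', ?_⟩
    rw [pow_succ, hX, Matrix.fromBlocks_multiply, pow_succ, pow_succ]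
    simp only [Matrix.mul_zero, Matrix.zero_mul, add_zero, zero_add]

theorem gX_sub_one (hr : 1 ≤ r) :
    gX F r hr - 1 = Matrix.fromBlocks (jordanBlock r F - 1) (jordanBlock r F * EX F r hr) 0
      (((jordanBlock r F)⁻¹)ᵀ - 1) := by
  rw [gX, ← Matrix.fromBlocks_one, sub_eq_add_neg, Matrix.fromBlocks_neg, Matrix.fromBlocks_add]
  simp only [neg_zero, add_zero, sub_eq_add_neg]

theorem gX_nil (hr : 1 ≤ r) : (gX F r hr - 1) ^ (2 * r) = 0 := by
  have hJ := isReg_jb (F := F) r hr
  have hJ' := isReg_inv_transpose _ _ hJ (jb_mul_inv (F := F) hr)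
  obtain ⟨X, hX⟩ := fromBlocks_upper_pow (jordanBlock r F - 1) (jordanBlock r F * EX F r hr)
    (((jordanBlock r F)⁻¹)ᵀ - 1) r
  rw [mul_comm, pow_mul, gX_sub_one, hX, hJ.1, hJ'.1, pow_two, Matrix.fromBlocks_multiply]
  simp only [Matrix.mul_zero, Matrix.zero_mul, add_zero, Matrix.fromBlocks_zero]

theorem EX_mulVec_zero (hr : 1 ≤ r) (y : Fin r → F) :
    ((EX F r hr).mulVec y) ⟨0, hr⟩ = y ⟨0, hr⟩ := by
  rw [Matrix.mulVec, dotProduct, Finset.sum_eq_single (⟨0, hr⟩ : Fin r)]
  · rw [EX, Matrix.single_apply, if_pos ⟨rfl, rfl⟩, one_mul]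
  · intro j _ hj
    rw [EX, Matrix.single_apply, if_neg, zero_mul]
    rintro ⟨_, h2⟩
    exact hj h2.symm
  · intro h; exact absurd (Finset.mem_univ _) h

theorem gX_ker (hr : 1 ≤ r) (v : Fin r ⊕ Fin r → F) (hv : (gX F r hr - 1).mulVec v = 0) :
    ∃ c : F, v = c • (Pi.single (Sum.inl (⟨r - 1, by omega⟩ : Fin r)) 1 : Fin r ⊕ Fin r → F) := by
  have hAA' := jb_mul_inv (F := F) hr
  have hA'A : (jordanBlock r F)⁻¹ * jordanBlock r F = 1 := (_root_.mul_eq_one_comm).mp hAA'
  have hEA := EX_mul_jb (F := F) hr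
  have hEE := EX_mul_EX (F := F) hr
  have h2 : (jordanBlock r F)ᵀ * ((jordanBlock r F)⁻¹)ᵀ = 1 := by
    rw [← Matrix.transpose_mul, hA'A, Matrix.transpose_one]
  set x : Fin r → F := fun i => v (Sum.inl i) with hx
  set y : Fin r → F := fun i => v (Sum.inr i) with hy
  have hvxy : v = Sum.elim x y := by
    funext s
    cases s <;> rfl
  rw [gX_sub_one, hvxy, Matrix.fromBlocks_mulVec] at hv
  have hv1 : (jordanBlock r F - 1).mulVec x + (jordanBlock r F * EX F r hr).mulVec y = 0 := by
    funext i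
    have := congrFun hv (Sum.inl i)
    simpa using this
  have hv2 : (((jordanBlock r F)⁻¹)ᵀ - 1).mulVec y = 0 := by
    funext i
    have := congrFun hv (Sum.inr i)
    simpa using this
  -- step 1
  have hLt : (jordanBlock r F - 1)ᵀ.mulVec y = 0 := by
    have h3 : (jordanBlock r F - 1)ᵀ = -((jordanBlock r F)ᵀ * (((jordanBlock r F)⁻¹)ᵀ - 1)) := by
      rw [Matrix.mul_sub, h2, Matrix.mul_one, neg_sub, Matrix.transpose_sub, Matrix.transpose_one]
    rw [h3, Matrix.neg_mulVec, ← Matrix.mulVec_mulVec, hv2, Matrix.mulVec_zero, neg_zero]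
  have hy1 : ∀ j : Fin r, 1 ≤ j.val → y j = 0 := by
    intro j hj
    have h3 := congrFun hLt ⟨j.val - 1, by have := j.2; omega⟩
    rw [Lt_mulVec, Pi.zero_apply] at h3
    have h4 : (j.val - 1) + 1 < r := by have := j.2; omega
    simp only at h3
    rw [dif_pos h4] at h3
    have h5 : (⟨j.val - 1 + 1, h4⟩ : Fin r) = j := Fin.ext (by simp only; omega)
    rwa [h5] at h3
  -- step 2
  have hy0 : y ⟨0, hr⟩ = 0 := by
    have h3 := congrArg (fun w => (EX F r hr).mulVec w) hv1
    simp only [Matrix.mulVec_add, Matrix.mulVec_mulVec, Matrix.mulVec_zero] at h3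
    have h4 : EX F r hr * (jordanBlock r F - 1) = 0 := by
      rw [Matrix.mul_sub, hEA, Matrix.mul_one, sub_self]
    have h5 : EX F r hr * (jordanBlock r F * EX F r hr) = EX F r hr := by
      rw [← Matrix.mul_assoc, hEA, hEE]
    rw [h4, h5, Matrix.zero_mulVec, zero_add] at h3
    have := congrFun h3 ⟨0, hr⟩
    rwa [EX_mulVec_zero, Pi.zero_apply] at this
  have hy0' : y = 0 := by
    funext j
    by_cases hj : 1 ≤ j.val
    · exact hy1 j hj
    · have : j = ⟨0, hr⟩ := Fin.ext (by simp only; omega)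
      rw [this]; exact hy0
  -- step 3
  rw [hy0', Matrix.mulVec_zero, add_zero] at hv1
  have hx1 : ∀ j : Fin r, j.val + 1 < r → x j = 0 := by
    intro j hj
    have h3 := congrFun hv1 ⟨j.val + 1, hj⟩
    rw [L_mulVec, Pi.zero_apply] at h3
    simp only at h3
    rw [dif_pos (by omega)] at h3
    have h5 : (⟨j.val + 1 - 1, by omega⟩ : Fin r) = j := Fin.ext (by simp only; omega)
    rwa [h5] at h3
  refine ⟨x ⟨r - 1, by omega⟩, ?_⟩
  rw [hvxy, hy0']
  funext s
  rcases s with j | j
  · simp only [Sum.elim_inl, Pi.smul_apply, smul_eq_mul]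
    by_cases hj : j.val + 1 < r
    · rw [hx1 j hj, Pi.single_apply, if_neg, mul_zero]
      intro h
      have := congrArg (fun s => Sum.elim (fun i : Fin r => i.val) (fun i : Fin r => i.val) s) h
      simp only [Sum.elim_inl] at this
      omega
    · have : j = ⟨r - 1, by omega⟩ := Fin.ext (by have := j.2; simp only; omega)
      rw [this, Pi.single_eq_same, mul_one]
  · simp only [Sum.elim_inr, Pi.zero_apply, Pi.smul_apply, smul_eq_mul]
    rw [Pi.single_apply, if_neg (by simp), mul_zero]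

theorem gX_rank (hr : 1 ≤ r) : (gX F r hr - 1).rank = 2 * r - 1 := by
  haveI : Nonempty (Fin r ⊕ Fin r) := ⟨Sum.inl ⟨0, hr⟩⟩
  rw [rank_of_ker_le (gX F r hr - 1) ⟨2 * r, gX_nil hr⟩ _ (gX_ker hr)]
  simp only [Fintype.card_sum, Fintype.card_fin]
  omega

/-- the index equivalence used to transport `gX` to `Fin (2 * r)` -/
def eX (r : ℕ) : Fin r ⊕ Fin r ≃ Fin (2 * r) := finSumFinEquiv.trans (finCongr (two_mul r).symm)

theorem isReg_gX (hr : 1 ≤ r) : IsReg (Matrix.reindex (eX r) (eX r) (gX F r hr)) := by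
  refine ⟨?_, ?_⟩
  · rw [reindex_sub_one_pow, gX_nil hr]
    ext; rfl
  · have := reindex_sub_one_pow (eX r) (gX F r hr) 1
    rw [pow_one, pow_one] at this
    rw [this, Matrix.rank_reindex, gX_rank hr]

/-- a single even block preserves a form of the class as soon as `gX` does -/
theorem pres_even (C : FormClass F) (hr : 1 ≤ r) (hC : Pres C (gX F r hr)) :
    Pres C (jordanBlock (2 * r) F) := by
  have h1 := hC.reindex (eX r)
  obtain ⟨g, hg⟩ := exists_conj (by omega) _ _ (isReg_gX (F := F) hr) (isReg_jb (F := F) (2 * r) (by omega))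
  refine h1.conj (g : Matrix (Fin (2 * r)) (Fin (2 * r)) F)
    ((g⁻¹ : GL (Fin (2 * r)) F) : Matrix (Fin (2 * r)) (Fin (2 * r)) F) ?_ hg
  rw [← Units.val_mul, mul_inv_cancel, Units.val_one]

theorem pres_sp_even (hr : 1 ≤ r) : Pres (spClass F) (jordanBlock (2 * r) F) := by
  apply pres_even _ hr
  refine ⟨Matrix.fromBlocks 0 1 ((-1 : F) • 1) 0, (spClass F).good_hyp, ?_⟩
  show _ = 0
  rw [gX_sp hr, sub_self]

theorem pres_q_even [CharP F 2] (hr : 1 ≤ r) : Pres (qClass F) (jordanBlock (2 * r) F) := by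
  apply pres_even _ hr
  exact ⟨Matrix.fromBlocks (EX F r hr) 1 0 0, gX_q_good hr, gX_q hr⟩

end Model

end Cfsg.Agent.Lib.Helper8.JType
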