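import Mathlib
import Cfsg.Agent.Lib.Helper8.JTypeF

/-!
# Jordan types in classical groups, part G (helper8)

In odd characteristic a Jordan block of odd size preserves a nondegenerate symmetric form.
-/

set_option autoImplicit false

namespace Cfsg.Agent.Lib.Helper8.JType

open Cfsg Module Matrix Cfsg.Agent.H9.RegUni

section OddBlock

variable {F : Type*} [Field F] {n : ℕ}

/-- a singular invariant form of a unipotent matrix kills a nonzero fixed vector -/
theorem exists_ker_fixed (J H : Matrix (Fin n) (Fin n) F) (hnil : (J - 1) ^ n = 0)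
    (hJ : IsUnit J.det) (hinv : Jᵀ * H * J = H) (hH : H.det = 0) :
    ∃ v : Fin n → F, v ≠ 0 ∧ (J - 1).mulVec v = 0 ∧ H.mulVec v = 0 := by
  obtain ⟨v, hv0, hv⟩ := Matrix.exists_mulVec_eq_zero_iff.mpr hH
  have hJt : Jᵀ.det ≠ 0 := by rw [Matrix.det_transpose]; exact hJ.ne_zero
  have hstab : ∀ w : Fin n → F, H.mulVec w = 0 → H.mulVec ((J - 1).mulVec w) = 0 := by
    intro w hw
    have h1 : Jᵀ.mulVec (H.mulVec (J.mulVec w)) = 0 := by
      rw [Matrix.mulVec_mulVec, Matrix.mulVec_mulVec, hinv, hw]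
    have h2 : H.mulVec (J.mulVec w) = 0 := Matrix.eq_zero_of_mulVec_eq_zero hJt h1
    rw [Matrix.sub_mulVec, Matrix.one_mulVec, Matrix.mulVec_sub, h2, hw, sub_zero]
  have hpow : ∀ k : ℕ, H.mulVec (((J - 1) ^ k).mulVec v) = 0 := by
    intro k
    induction k with
    | zero => rw [pow_zero, Matrix.one_mulVec, hv]
    | succ k ih =>
      rw [pow_succ', ← Matrix.mulVec_mulVec]
      exact hstab _ ih
  have hex : ∃ k : ℕ, ((J - 1) ^ k).mulVec v = 0 := ⟨n, by rw [hnil, Matrix.zero_mulVec]⟩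
  classical
  set k₀ := Nat.find hex with hk₀
  have hk₀spec : ((J - 1) ^ k₀).mulVec v = 0 := Nat.find_spec hex
  have hk₀pos : k₀ ≠ 0 := by
    intro h
    rw [h, pow_zero, Matrix.one_mulVec] at hk₀spec
    exact hv0 hk₀spec
  obtain ⟨k, hk⟩ := Nat.exists_eq_succ_of_ne_zero hk₀pos
  refine ⟨((J - 1) ^ k).mulVec v, ?_, ?_, hpow k⟩
  · intro h
    have := Nat.find_min' hex h
    omega
  · rw [Matrix.mulVec_mulVec, ← pow_succ', ← Nat.succ_eq_add_one, ← hk]
    exact hk₀spec

/-- in odd characteristic, an odd Jordan block preserves a nondegenerate symmetric form -/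
theorem pres_o_odd (h2 : (2 : F) ≠ 0) (hn : Odd n) : Pres (oClass F) (jordanBlock n F) := by
  have hn1 : 1 ≤ n := by obtain ⟨k, rfl⟩ := hn; omega
  obtain ⟨g, h, w, hgh, hJw, hconj⟩ := exists_conj_inv_transpose (F := F) n
  have hhg : h * g = 1 := (_root_.mul_eq_one_comm).mp hgh
  have hwJ : w * jordanBlock n F = 1 := (_root_.mul_eq_one_comm).mp hJw
  have hJreg := isReg_jb (F := F) n hn1
  have hJdet : IsUnit (jordanBlock n F).det := by
    have := congrArg Matrix.det hJw
    rw [Matrix.det_mul, Matrix.det_one] at this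
    exact IsUnit.of_mul_eq_one _ this
  -- the invariant form h
  have h1 : wᵀ * h = h * jordanBlock n F := by
    calc wᵀ * h = (h * g) * wᵀ * h := by rw [hhg, Matrix.one_mul]
      _ = h * (g * wᵀ) * h := by rw [Matrix.mul_assoc h g]
      _ = h * (jordanBlock n F * g) * h := by rw [hconj]
      _ = h * jordanBlock n F * (g * h) := by simp only [Matrix.mul_assoc]
      _ = h * jordanBlock n F := by rw [hgh, Matrix.mul_one]
  have hinv : (jordanBlock n F)ᵀ * h * jordanBlock n F = h := by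
    rw [Matrix.mul_assoc, ← h1, ← Matrix.mul_assoc, ← Matrix.transpose_mul, hwJ, Matrix.transpose_one,
      Matrix.one_mul]
  have hinvt : (jordanBlock n F)ᵀ * hᵀ * jordanBlock n F = hᵀ := by
    have := congrArg Matrix.transpose hinv
    rwa [Matrix.transpose_mul, Matrix.transpose_mul, Matrix.transpose_transpose, ← Matrix.mul_assoc] at this
  have hinvS : (jordanBlock n F)ᵀ * (h + hᵀ) * jordanBlock n F = h + hᵀ := by
    rw [Matrix.mul_add, Matrix.add_mul, hinv, hinvt]
  have hinvK : (jordanBlock n F)ᵀ * (h - hᵀ) * jordanBlock n F = h - hᵀ := by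
    rw [Matrix.mul_sub, Matrix.sub_mul, hinv, hinvt]
  have hKdet : (h - hᵀ).det = 0 := by
    have h3 : (h - hᵀ)ᵀ = -(h - hᵀ) := by
      rw [Matrix.transpose_sub, Matrix.transpose_transpose, neg_sub]
    have h4 := congrArg Matrix.det h3
    rw [Matrix.det_transpose, Matrix.det_neg, Fintype.card_fin, hn.neg_one_pow] at h4
    have h5 : (2 : F) * (h - hᵀ).det = 0 := by linear_combination h4
    rcases mul_eq_zero.mp h5 with h6 | h6
    · exact absurd h6 h2
    · exact h6
  have hhdet : h.det ≠ 0 := by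
    have := congrArg Matrix.det hhg
    rw [Matrix.det_mul, Matrix.det_one] at this
    exact left_ne_zero_of_mul_eq_one this
  have hSdet : (h + hᵀ).det ≠ 0 := by
    intro hS0
    obtain ⟨s, hs0, hsN, hsS⟩ := exists_ker_fixed _ _ hJreg.1 hJdet hinvS hS0
    obtain ⟨k, hk0, hkN, hkK⟩ := exists_ker_fixed _ _ hJreg.1 hJdet hinvK hKdet
    have hfr := hJreg.lin.2
    rw [finrank_le_one_iff] at hfr
    obtain ⟨v₁, hv₁⟩ := hfr
    have hsmem : s ∈ LinearMap.ker (Matrix.toLin' (jordanBlock n F - 1)) := by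
      rw [LinearMap.mem_ker, Matrix.toLin'_apply, hsN]
    have hkmem : k ∈ LinearMap.ker (Matrix.toLin' (jordanBlock n F - 1)) := by
      rw [LinearMap.mem_ker, Matrix.toLin'_apply, hkN]
    obtain ⟨a, ha⟩ := hv₁ ⟨s, hsmem⟩
    obtain ⟨b, hb⟩ := hv₁ ⟨k, hkmem⟩
    have ha' : a • (v₁ : Fin n → F) = s := congrArg Subtype.val ha
    have hb' : b • (v₁ : Fin n → F) = k := congrArg Subtype.val hb
    have ha0 : a ≠ 0 := by
      intro h0; rw [h0, zero_smul] at ha'; exact hs0 ha'.symm
    have hb0 : b ≠ 0 := by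
      intro h0; rw [h0, zero_smul] at hb'; exact hk0 hb'.symm
    have hks : k = (b * a⁻¹) • s := by
      rw [← ha', ← hb', smul_smul, mul_assoc, inv_mul_cancel₀ ha0, mul_one]
    have hkS : (h + hᵀ).mulVec k = 0 := by
      rw [hks, Matrix.mulVec_smul, hsS, smul_zero]
    have h7 : ((2 : F) • h).mulVec k = 0 := by
      have h8 : (2 : F) • h = (h + hᵀ) + (h - hᵀ) := by rw [two_smul]; abel
      rw [h8, Matrix.add_mulVec, hkS, hkK, add_zero]
    rw [Matrix.smul_mulVec] at h7
    have h9 : h.mulVec k = 0 := by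
      rcases smul_eq_zero.mp h7 with h10 | h10
      · exact absurd h10 h2
      · exact h10
    exact hk0 (Matrix.eq_zero_of_mulVec_eq_zero hhdet h9)
  refine ⟨h + hᵀ, ⟨?_, ?_⟩, ?_⟩
  · rw [Matrix.transpose_add, Matrix.transpose_transpose, add_comm]
  · rw [Matrix.isUnit_iff_isUnit_det]
    exact isUnit_iff_ne_zero.mpr hSdet
  · show _ = 0
    rw [hinvS, sub_self]

end OddBlock

end Cfsg.Agent.Lib.Helper8.JType
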