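import Mathlib

/-! # The truncated polynomial ring with the involution `X ↦ -X`: elements of norm one
(helper8) -/

set_option autoImplicit false

namespace Cfsg.Agent.Lib.Helper8.RegUnip

open Polynomial

variable (F : Type*) [Field F] (n : ℕ)

/-- the truncated polynomial ring `F[X]/(X^n)` -/
abbrev TP : Type _ := AdjoinRoot (X ^ n : F[X])

/-- the class of `X` -/
noncomputable def rt : TP F n := AdjoinRoot.root (X ^ n : F[X])

theorem rt_pow : rt F n ^ n = 0 := by
  have h := AdjoinRoot.mk_self (f := (X ^ n : F[X]))
  rw [map_pow, AdjoinRoot.mk_X] at h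
  exact h

/-- evaluation at zero -/
noncomputable def eps (hn : 1 ≤ n) : TP F n →ₐ[F] F :=
  AdjoinRoot.liftAlgHom (X ^ n : F[X]) (Algebra.ofId F F) (0 : F) (by
    rw [eval₂_pow, eval₂_X, zero_pow (by omega)])

/-- the involution `X ↦ -X` -/
noncomputable def sig : TP F n →ₐ[F] TP F n :=
  AdjoinRoot.liftAlgHom (X ^ n : F[X]) (Algebra.ofId F (TP F n)) (- rt F n) (by
    rw [eval₂_pow, eval₂_X, neg_pow, rt_pow, mul_zero])

variable {F n}

theorem eps_rt (hn : 1 ≤ n) : eps F n hn (rt F n) = 0 := by
  exact AdjoinRoot.liftAlgHom_root (X ^ n : F[X]) (Algebra.ofId F F) (0 : F) _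

theorem sig_rt : sig F n (rt F n) = - rt F n := by
  exact AdjoinRoot.liftAlgHom_root (X ^ n : F[X]) (Algebra.ofId F (TP F n)) (- rt F n) _

theorem sig_sig (r : TP F n) : sig F n (sig F n r) = r := by
  have h : (sig F n).comp (sig F n) = AlgHom.id F (TP F n) := by
    apply AdjoinRoot.algHom_ext
    rw [AlgHom.comp_apply]
    show sig F n (sig F n (rt F n)) = rt F n
    rw [sig_rt, map_neg, sig_rt, neg_neg]
  exact AlgHom.congr_fun h r

theorem eps_sig (hn : 1 ≤ n) (r : TP F n) : eps F n hn (sig F n r) = eps F n hn r := by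
  have h : (eps F n hn).comp (sig F n) = eps F n hn := by
    apply AdjoinRoot.algHom_ext
    rw [AlgHom.comp_apply]
    show eps F n hn (sig F n (rt F n)) = eps F n hn (rt F n)
    rw [sig_rt, map_neg, eps_rt, neg_zero]
  exact AlgHom.congr_fun h r

/-- an element vanishing at zero is nilpotent -/
theorem isNilpotent_of_eps (hn : 1 ≤ n) (y : TP F n) (hy : eps F n hn y = 0) : IsNilpotent y := by
  induction y using AdjoinRoot.induction_on with
  | ih p =>
    have h1 : eps F n hn (AdjoinRoot.mk (X ^ n : F[X]) p) = p.eval 0 := by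
      unfold eps
      rw [AdjoinRoot.liftAlgHom_mk]
      rw [← Polynomial.eval₂_id]
      rfl
    rw [h1, ← coeff_zero_eq_eval_zero, ← X_dvd_iff] at hy
    obtain ⟨p', rfl⟩ := hy
    refine ⟨n, ?_⟩
    rw [map_mul, AdjoinRoot.mk_X, mul_pow]
    have := rt_pow F n
    unfold rt at this
    rw [this, zero_mul]

variable (F n)

/-- the basis of powers of `X` -/
noncomputable def bas : Module.Basis (Fin n) F (TP F n) :=
  (AdjoinRoot.powerBasis' (monic_X_pow (R := F) n)).basis.reindex (finCongr (natDegree_X_pow n))

variable {F n}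

theorem bas_apply (i : Fin n) : bas F n i = rt F n ^ (i : ℕ) := by
  unfold bas
  rw [Module.Basis.reindex_apply, PowerBasis.basis_eq_pow]
  rfl

theorem sig_bas (i : Fin n) : sig F n (bas F n i) = ((-1 : F) ^ (i : ℕ)) • bas F n i := by
  rw [bas_apply, map_pow, sig_rt, neg_pow, Algebra.smul_def, map_pow, map_neg, map_one]

theorem repr_sig (r : TP F n) (i : Fin n) :
    (bas F n).repr (sig F n r) i = (-1 : F) ^ (i : ℕ) * (bas F n).repr r i := by
  have h1 : sig F n r = ∑ j : Fin n, ((-1 : F) ^ (j : ℕ) * (bas F n).repr r j) • bas F n j := by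
    conv_lhs => rw [← (bas F n).sum_repr r]
    rw [map_sum]
    apply Finset.sum_congr rfl
    intro j _
    rw [map_smul, sig_bas, smul_smul, mul_comm]
  rw [h1, Module.Basis.repr_sum_self]

/-- the skew elements form a space of half the dimension -/
theorem card_skew [Fintype F] (h2 : (2 : F) ≠ 0) (m : ℕ) :
    Nat.card {r : TP F (2 * m) // sig F (2 * m) r = - r} = Fintype.card F ^ m := by
  classical
  have e1 : {r : TP F (2 * m) // sig F (2 * m) r = - r} ≃
      {a : Fin (2 * m) → F // ∀ i : Fin (2 * m), Even (i : ℕ) → a i = 0} :=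
    Equiv.subtypeEquiv (bas F (2 * m)).equivFun.toEquiv (by
      intro r
      constructor
      · intro hr i hi
        have h1 := repr_sig r i
        rw [hr, map_neg, hi.neg_one_pow, one_mul] at h1
        have h3 : (bas F (2 * m)).equivFun r i = (bas F (2 * m)).repr r i := rfl
        show (bas F (2 * m)).equivFun r i = 0
        rw [h3]
        have h4 : (2 : F) * (bas F (2 * m)).repr r i = 0 := by
          have : (-(bas F (2 * m)).repr r) i = -((bas F (2 * m)).repr r i) := rfl
          rw [this] at h1
          linear_combination -h1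
        exact (mul_eq_zero.1 h4).resolve_left h2
      · intro hr
        apply (bas F (2 * m)).repr.injective
        ext i
        rw [repr_sig, map_neg]
        have h3 : (bas F (2 * m)).equivFun r i = (bas F (2 * m)).repr r i := rfl
        show _ = -((bas F (2 * m)).repr r i)
        rcases Nat.even_or_odd (i : ℕ) with hi | hi
        · have := hr i hi
          change (bas F (2 * m)).equivFun r i = 0 at this
          rw [h3] at this
          rw [this, mul_zero, neg_zero]
        · rw [hi.neg_one_pow, neg_one_mul])
  have e2 : {a : Fin (2 * m) → F // ∀ i : Fin (2 * m), Even (i : ℕ) → a i = 0} ≃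
      ({i : Fin (2 * m) // ¬ Even (i : ℕ)} → F) :=
    { toFun := fun a i => a.1 i.1
      invFun := fun b => ⟨fun i => if h : Even (i : ℕ) then 0 else b ⟨i, h⟩, fun i hi => dif_pos hi⟩
      left_inv := by
        intro a
        apply Subtype.ext
        funext i
        by_cases h : Even (i : ℕ)
        · simp only [dif_pos h]
          exact (a.2 i h).symm
        · simp only [dif_neg h]
      right_inv := by
        intro b
        funext i
        simp only [dif_neg i.2] }
  have e3 : {i : Fin (2 * m) // ¬ Even (i : ℕ)} ≃ Fin m :=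
    { toFun := fun i => ⟨(i : ℕ) / 2, by have := i.1.2; omega⟩
      invFun := fun j => ⟨⟨2 * (j : ℕ) + 1, by have := j.2; omega⟩, by
        simp only [Nat.not_even_iff_odd]
        exact ⟨j, rfl⟩⟩
      left_inv := by
        intro i
        apply Subtype.ext
        apply Fin.ext
        have := Nat.not_even_iff_odd.1 i.2
        obtain ⟨k, hk⟩ := this
        show 2 * ((i : ℕ) / 2) + 1 = (i : ℕ)
        omega
      right_inv := by
        intro j
        apply Fin.ext
        show (2 * (j : ℕ) + 1) / 2 = (j : ℕ)
        omega }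
  rw [Nat.card_congr e1, Nat.card_congr e2, Nat.card_eq_fintype_card, Fintype.card_fun,
    Fintype.card_congr e3, Fintype.card_fin]

theorem eps_of_skew (hn : 1 ≤ n) (h2 : (2 : F) ≠ 0) (y : TP F n) (hy : sig F n y = - y) :
    eps F n hn y = 0 := by
  have h1 := eps_sig hn y
  rw [hy, map_neg] at h1
  have h4 : (2 : F) * eps F n hn y = 0 := by linear_combination -h1
  exact (mul_eq_zero.1 h4).resolve_left h2

theorem isUnit_one_sub_of_skew (hn : 1 ≤ n) (h2 : (2 : F) ≠ 0) (y : TP F n)
    (hy : sig F n y = - y) : IsUnit (1 - y) :=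
  (isNilpotent_of_eps hn y (eps_of_skew hn h2 y hy)).isUnit_one_sub

theorem isUnit_one_add_of_eps (hn : 1 ≤ n) (h2 : (2 : F) ≠ 0) (r : TP F n)
    (hr : eps F n hn r = 1) : IsUnit (1 + r) := by
  have h1 : IsNilpotent (r - 1) := by
    apply isNilpotent_of_eps hn
    rw [map_sub, hr, map_one, sub_self]
  have h3 : IsUnit (algebraMap F (TP F n) 2) := (IsUnit.mk0 (2 : F) h2).map _
  have h4 := h1.isUnit_add_left_of_commute h3 (Commute.all _ _)
  have h5 : algebraMap F (TP F n) 2 + (r - 1) = 1 + r := by
    rw [map_ofNat]
    ring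
  rw [h5] at h4
  exact h4

/-- the elements of norm one: the Cayley transform -/
theorem card_norm_one [Fintype F] (h2 : (2 : F) ≠ 0) (m : ℕ) (hm : 1 ≤ m) :
    Nat.card {r : TP F (2 * m) // sig F (2 * m) r * r = 1} = 2 * Fintype.card F ^ m := by
  classical
  have hn : 1 ≤ 2 * m := by omega
  have hfin : Finite (TP F (2 * m)) := Finite.of_equiv _ (bas F (2 * m)).equivFun.toEquiv.symm
  -- the elements with constant term one
  have hcay : Nat.card {r : TP F (2 * m) // sig F (2 * m) r * r = 1 ∧ eps F (2 * m) hn r = 1} =
      Fintype.card F ^ m := by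
    rw [← card_skew h2 m]
    symm
    apply Nat.card_congr
    have hw : ∀ y : {y : TP F (2 * m) // sig F (2 * m) y = - y},
        ∃ w : TP F (2 * m), (1 - y.1) * w = 1 := fun y =>
      (isUnit_one_sub_of_skew hn h2 y.1 y.2).exists_right_inv
    have hfwd : ∀ y : {y : TP F (2 * m) // sig F (2 * m) y = - y},
        sig F (2 * m) ((1 + y.1) * Classical.choose (hw y)) *
          ((1 + y.1) * Classical.choose (hw y)) = 1 ∧
        eps F (2 * m) hn ((1 + y.1) * Classical.choose (hw y)) = 1 := by
      intro y
      have h1 := Classical.choose_spec (hw y)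
      have h3 : (1 + y.1) * sig F (2 * m) (Classical.choose (hw y)) = 1 := by
        have := congrArg (sig F (2 * m)) h1
        rw [map_mul, map_sub, map_one, y.2, sub_neg_eq_add] at this
        exact this
      have hy0 := eps_of_skew hn h2 y.1 y.2
      constructor
      · rw [map_mul, map_add, map_one, y.2]
        linear_combination (1 + y.1) * sig F (2 * m) (Classical.choose (hw y)) * h1 + h3
      · have := congrArg (eps F (2 * m) hn) h1
        rw [map_mul, map_sub, map_one, hy0, sub_zero, one_mul] at this
        rw [map_mul, map_add, map_one, hy0, add_zero, one_mul, this]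
    refine Equiv.ofBijective (fun y => ⟨(1 + y.1) * Classical.choose (hw y), hfwd y⟩) ⟨?_, ?_⟩
    · intro y y' hyy
      have hr : (1 + y.1) * Classical.choose (hw y) = (1 + y'.1) * Classical.choose (hw y') :=
        congrArg Subtype.val hyy
      have h1 := Classical.choose_spec (hw y)
      have h1' := Classical.choose_spec (hw y')
      obtain ⟨r, hrdef⟩ : ∃ r, r = (1 + y.1) * Classical.choose (hw y) := ⟨_, rfl⟩
      have hr1 : eps F (2 * m) hn r = 1 := by rw [hrdef]; exact (hfwd y).2
      have e1 : y.1 * (1 + r) = r - 1 := by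
        rw [hrdef]
        linear_combination (-(1 + y.1)) * h1
      have e2 : y'.1 * (1 + r) = r - 1 := by
        rw [hrdef, hr]
        linear_combination (-(1 + y'.1)) * h1'
      obtain ⟨w', hw'⟩ := (isUnit_one_add_of_eps hn h2 r hr1).exists_right_inv
      apply Subtype.ext
      have : y.1 = y.1 * ((1 + r) * w') := by rw [hw', mul_one]
      rw [this, ← mul_assoc, e1, ← e2, mul_assoc, hw', mul_one]
    · rintro ⟨r, hr, hr1⟩
      obtain ⟨w', hw'⟩ := (isUnit_one_add_of_eps hn h2 r hr1).exists_right_inv
      have h3 : (1 + sig F (2 * m) r) * sig F (2 * m) w' = 1 := by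
        have := congrArg (sig F (2 * m)) hw'
        rw [map_mul, map_add, map_one] at this
        exact this
      have hU : (1 + sig F (2 * m) r) * (1 + r) * (sig F (2 * m) w' * w') = 1 := by
        linear_combination (1 + sig F (2 * m) r) * sig F (2 * m) w' * hw' + h3
      have hskew : sig F (2 * m) ((r - 1) * w') = - ((r - 1) * w') := by
        have key : (sig F (2 * m) ((r - 1) * w') + (r - 1) * w') *
            ((1 + sig F (2 * m) r) * (1 + r)) = 0 := by
          rw [map_mul, map_sub, map_one]
          linear_combination (sig F (2 * m) r - 1) * (1 + r) * h3 +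
            (r - 1) * (1 + sig F (2 * m) r) * hw' + 2 * hr
        have : sig F (2 * m) ((r - 1) * w') + (r - 1) * w' = 0 := by
          have h5 := congrArg (fun z => z * (sig F (2 * m) w' * w')) key
          simp only [zero_mul] at h5
          rw [mul_assoc, hU, mul_one] at h5
          exact h5
        linear_combination this
      refine ⟨⟨(r - 1) * w', hskew⟩, ?_⟩
      apply Subtype.ext
      have h1 := Classical.choose_spec (hw ⟨(r - 1) * w', hskew⟩)
      obtain ⟨w, hwdef⟩ : ∃ w, w = Classical.choose (hw ⟨(r - 1) * w', hskew⟩) := ⟨_, rfl⟩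
      rw [← hwdef] at h1
      show (1 + (r - 1) * w') * Classical.choose (hw ⟨(r - 1) * w', hskew⟩) = r
      rw [← hwdef]
      have h1' : (1 - (r - 1) * w') * w = 1 := h1
      have e1 : r * (1 - (r - 1) * w') = 1 + (r - 1) * w' := by
        linear_combination (-(r - 1)) * hw'
      calc (1 + (r - 1) * w') * w = r * ((1 - (r - 1) * w') * w) := by rw [← e1]; ring
        _ = r := by rw [h1', mul_one]
  -- the sign
  have hsign : ∀ r : TP F (2 * m), sig F (2 * m) r * r = 1 →
      eps F (2 * m) hn r = 1 ∨ eps F (2 * m) hn r = -1 := by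
    intro r hr
    have := congrArg (eps F (2 * m) hn) hr
    rw [map_mul, eps_sig, map_one] at this
    have h3 : (eps F (2 * m) hn r - 1) * (eps F (2 * m) hn r + 1) = 0 := by
      linear_combination this
    rcases mul_eq_zero.1 h3 with h | h
    · left; linear_combination h
    · right; linear_combination h
  have hne : (1 : F) ≠ -1 := by
    intro h
    apply h2
    linear_combination h
  have e0 : {r : TP F (2 * m) // sig F (2 * m) r * r = 1} ≃
      {r : TP F (2 * m) // sig F (2 * m) r * r = 1 ∧ eps F (2 * m) hn r = 1} ⊕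
      {r : TP F (2 * m) // sig F (2 * m) r * r = 1 ∧ eps F (2 * m) hn r = 1} :=
    { toFun := fun r => if h : eps F (2 * m) hn r.1 = 1 then Sum.inl ⟨r.1, r.2, h⟩ else
        Sum.inr ⟨-r.1, by rw [map_neg]; linear_combination r.2, by
          rw [map_neg]
          rcases hsign r.1 r.2 with h' | h'
          · exact absurd h' h
          · rw [h', neg_neg]⟩
      invFun := fun x => match x with
        | Sum.inl r => ⟨r.1, r.2.1⟩
        | Sum.inr r => ⟨-r.1, by rw [map_neg]; linear_combination r.2.1⟩
      left_inv := by
        intro r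
        by_cases h : eps F (2 * m) hn r.1 = 1
        · simp only [dif_pos h]
        · simp only [dif_neg h]
          apply Subtype.ext
          simp
      right_inv := by
        rintro (r | r)
        · simp only [dif_pos r.2.2]
        · have h : ¬ eps F (2 * m) hn (-r.1) = 1 := by
            rw [map_neg, r.2.2]
            exact fun h => hne h.symm
          simp only [dif_neg h]
          congr 1
          apply Subtype.ext
          simp }
  have : Finite {r : TP F (2 * m) // sig F (2 * m) r * r = 1 ∧ eps F (2 * m) hn r = 1} :=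
    Subtype.finite
  rw [Nat.card_congr e0, Nat.card_sum, hcay]
  ring

end Cfsg.Agent.Lib.Helper8.RegUnip
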