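import Mathlib
import Cfsg.Agent.Lib.Helper8.RegUnipA
import Cfsg.Agent.H9.RegNil2

/-! # Isometries commuting with a regular unipotent isometry, odd characteristic (helper8) -/

set_option autoImplicit false

namespace Cfsg.Agent.Lib.Helper8.RegUnip

open Polynomial Module Cfsg.Agent.H9.RegNil

variable {F V : Type*} [Field F] [AddCommGroup V] [Module F V] [FiniteDimensional F V]

section Nil

variable {n : ℕ} (s : V →ₗ[F] V) (hs : s ^ n = 0)

/-- the algebra map from the truncated polynomial ring -/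
noncomputable def psi : TP F n →ₐ[F] (V →ₗ[F] V) :=
  Ideal.Quotient.liftₐ (Ideal.span {(X ^ n : F[X])}) (Polynomial.aeval s) (by
    intro a ha
    obtain ⟨b, rfl⟩ := Ideal.mem_span_singleton.1 ha
    rw [map_mul, map_pow, aeval_X, hs, zero_mul])

theorem psi_mk (p : F[X]) : psi s hs (AdjoinRoot.mk (X ^ n : F[X]) p) = aeval s p := rfl

theorem psi_rt : psi s hs (rt F n) = s := by
  have h : rt F n = AdjoinRoot.mk (X ^ n : F[X]) X := AdjoinRoot.mk_X.symm
  rw [h, psi_mk, aeval_X]

theorem psi_bas (i : Fin n) : psi s hs (bas F n i) = s ^ (i : ℕ) := by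
  rw [bas_apply, map_pow, psi_rt]

theorem psi_commute (r : TP F n) : Commute (psi s hs r) s := by
  have h : psi s hs r * psi s hs (rt F n) = psi s hs (rt F n) * psi s hs r := by
    rw [← map_mul, ← map_mul, mul_comm]
  rw [psi_rt] at h
  exact h

theorem psi_apply_eq_sum (r : TP F n) (v : V) :
    psi s hs r v = ∑ i : Fin n, (bas F n).repr r i • (s ^ (i : ℕ)) v := by
  conv_lhs => rw [← (bas F n).sum_repr r]
  rw [map_sum, LinearMap.sum_apply]
  apply Finset.sum_congr rfl
  intro i _
  rw [map_smul, psi_bas, LinearMap.smul_apply]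

theorem psi_injective (v : V) (hv : (s ^ (n - 1)) v ≠ 0) : Function.Injective (psi s hs) := by
  rw [injective_iff_map_eq_zero]
  intro r hr
  have h1 := psi_apply_eq_sum s hs r v
  rw [hr, LinearMap.zero_apply] at h1
  have h3 := Fintype.linearIndependent_iff.1 (linInd_pow s hs v hv) _ h1.symm
  apply (bas F n).repr.injective
  ext i
  rw [h3 i, map_zero]
  rfl

theorem psi_surj (hV : finrank F V = n) (v : V) (hv : (s ^ (n - 1)) v ≠ 0) (c : V →ₗ[F] V)
    (hc : Commute c s) : ∃ r : TP F n, psi s hs r = c := by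
  refine ⟨∑ i : Fin n, (cycBasis hV s hs v hv).repr (c v) i • bas F n i, ?_⟩
  apply eq_of_commute_of_apply_cyc hV s hs v hv _ _ (psi_commute s hs _) hc
  rw [map_sum, LinearMap.sum_apply]
  conv_rhs => rw [← (cycBasis hV s hs v hv).sum_repr (c v)]
  apply Finset.sum_congr rfl
  intro i _
  rw [map_smul, psi_bas, LinearMap.smul_apply, cycBasis_apply]

variable (B : LinearMap.BilinForm F V)

theorem psi_adjoint (hskew : ∀ x y, B (s x) y = - B x (s y)) (r : TP F n) :
    ∀ x y, B (psi s hs r x) y = B x (psi s hs (sig F n r) y) := by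
  induction r using AdjoinRoot.induction_on with
  | ih p =>
    induction p using Polynomial.induction_on with
    | C a =>
      intro x y
      have h1 : AdjoinRoot.mk (X ^ n : F[X]) (C a) = algebraMap F (TP F n) a := rfl
      rw [h1]
      simp only [AlgHom.commutes, Module.algebraMap_end_apply, map_smul, LinearMap.smul_apply]
    | add p q hp hq =>
      intro x y
      rw [map_add, map_add, map_add, map_add, LinearMap.add_apply, LinearMap.add_apply, map_add,
        map_add, LinearMap.add_apply, hp, hq]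
    | monomial k a ih =>
      intro x y
      have h1 : AdjoinRoot.mk (X ^ n : F[X]) (C a * X ^ (k + 1)) =
          AdjoinRoot.mk (X ^ n : F[X]) (C a * X ^ k) * rt F n := by
        rw [pow_succ, ← mul_assoc, map_mul, AdjoinRoot.mk_X]
        rfl
      obtain ⟨P, hP⟩ : ∃ P, P = AdjoinRoot.mk (X ^ n : F[X]) (C a * X ^ k) := ⟨_, rfl⟩
      rw [← hP] at ih h1
      rw [h1, map_mul (psi s hs) P, map_mul (sig F n) P, map_mul (psi s hs), sig_rt, psi_rt,
        Module.End.mul_apply, ih, hskew, ← map_neg, map_neg (psi s hs), psi_rt,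
        Module.End.mul_apply, LinearMap.neg_apply, map_neg]
      have := psi_commute s hs (sig F n P)
      have h3 := congrArg (fun φ : V →ₗ[F] V => φ y) this.eq
      simp only [Module.End.mul_apply] at h3
      rw [map_neg, h3, map_neg]

/-- the isometries commuting with a skew-adjoint regular nilpotent map -/
theorem card_commute_isometry [Fintype F] (h2 : (2 : F) ≠ 0) {m : ℕ} (hm : 1 ≤ m)
    (hV : finrank F V = 2 * m) (s : V →ₗ[F] V) (hs : s ^ (2 * m) = 0)
    (hreg : finrank F (LinearMap.ker s) ≤ 1)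
    (B : LinearMap.BilinForm F V) (hB : ∀ w, (∀ x, B x w = 0) → w = 0)
    (hskew : ∀ x y, B (s x) y = - B x (s y)) :
    Nat.card {c : V →ₗ[F] V // Commute c s ∧ ∀ x y, B (c x) (c y) = B x y} =
      2 * Fintype.card F ^ m := by
  obtain ⟨v, hv⟩ := exists_cyc hV s hs hreg (by omega)
  rw [← card_norm_one h2 m hm]
  symm
  apply Nat.card_congr
  have hiso : ∀ r : TP F (2 * m), sig F (2 * m) r * r = 1 → ∀ x y,
      B (psi s hs r x) (psi s hs r y) = B x y := by
    intro r hr x y
    rw [psi_adjoint s hs B hskew r, ← Module.End.mul_apply, ← map_mul, hr, map_one,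
      Module.End.one_apply]
  refine Equiv.ofBijective
    (fun r => ⟨psi s hs r.1, psi_commute s hs r.1, hiso r.1 r.2⟩) ⟨?_, ?_⟩
  · intro r r' h
    apply Subtype.ext
    exact psi_injective s hs v hv (congrArg Subtype.val h)
  · rintro ⟨c, hc1, hc2⟩
    obtain ⟨r, hr⟩ := psi_surj s hs hV v hv c hc1
    have hr1 : sig F (2 * m) r * r = 1 := by
      apply psi_injective s hs v hv
      rw [map_one]
      apply LinearMap.ext
      intro y
      rw [Module.End.one_apply]
      have : psi s hs (sig F (2 * m) r * r) y - y = 0 := by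
        apply hB
        intro x
        rw [map_sub, map_mul, Module.End.mul_apply, ← psi_adjoint s hs B hskew r, hr, hc2,
          sub_self]
      exact sub_eq_zero.1 this
    exact ⟨⟨r, hr1⟩, Subtype.ext hr⟩

end Nil

section Cayley

variable {n : ℕ} (g : V →ₗ[F] V)

theorem isUnit_add_one (h2 : (2 : F) ≠ 0) (hnil : (g - 1) ^ n = 0) : IsUnit (g + 1) := by
  have h1 : IsNilpotent (g - 1) := ⟨n, hnil⟩
  have h3 : IsUnit (algebraMap F (V →ₗ[F] V) 2) := (IsUnit.mk0 (2 : F) h2).map _
  have h4 := h1.isUnit_add_left_of_commute h3 (Algebra.commutes (2 : F) (g - 1)).symm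
  have h5 : algebraMap F (V →ₗ[F] V) 2 + (g - 1) = g + 1 := by
    rw [map_ofNat, ← one_add_one_eq_two]
    abel
  rw [h5] at h4
  exact h4

/-- the Cayley transform `(g - 1)(g + 1)⁻¹` -/
noncomputable def cayS (h : IsUnit (g + 1)) : V →ₗ[F] V := (g - 1) * ((h.unit⁻¹ : (V →ₗ[F] V)ˣ) : V →ₗ[F] V)

variable (h : IsUnit (g + 1))

theorem inv_mul_w : ((h.unit⁻¹ : (V →ₗ[F] V)ˣ) : V →ₗ[F] V) * (g + 1) = 1 := by
  have := h.unit.inv_mul
  rw [IsUnit.unit_spec] at this
  exact this

theorem w_mul_inv : (g + 1) * ((h.unit⁻¹ : (V →ₗ[F] V)ˣ) : V →ₗ[F] V) = 1 := by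
  have := h.unit.mul_inv
  rw [IsUnit.unit_spec] at this
  exact this

theorem cayS_mul_w : cayS g h * (g + 1) = g - 1 := by
  unfold cayS
  rw [mul_assoc, inv_mul_w, mul_one]

theorem commute_inv_g : Commute ((h.unit⁻¹ : (V →ₗ[F] V)ˣ) : V →ₗ[F] V) g := by
  have h1 : Commute g ((h.unit : (V →ₗ[F] V)ˣ) : V →ₗ[F] V) := by
    rw [IsUnit.unit_spec]
    exact (Commute.refl g).add_right (Commute.one_right g)
  exact (h1.units_inv_right).symm

theorem cayS_commute : Commute (cayS g h) g := by
  unfold cayS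
  exact ((Commute.refl g).sub_left (Commute.one_left g)).mul_left (commute_inv_g g h)

theorem cayS_eq : cayS g h = ((h.unit⁻¹ : (V →ₗ[F] V)ˣ) : V →ₗ[F] V) * (g - 1) := by
  unfold cayS
  exact (((commute_inv_g g h).sub_right (Commute.one_right _))).eq.symm

theorem cayS_pow (hnil : (g - 1) ^ n = 0) : cayS g h ^ n = 0 := by
  rw [cayS_eq, (((commute_inv_g g h).sub_right (Commute.one_right _))).mul_pow, hnil, mul_zero]

theorem cayS_ker : LinearMap.ker (cayS g h) = LinearMap.ker (g - 1) := by
  ext x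
  rw [LinearMap.mem_ker, LinearMap.mem_ker, cayS_eq, Module.End.mul_apply]
  constructor
  · intro hx
    have := congrArg (fun z : V => (g + 1 : V →ₗ[F] V) z) hx
    rw [← Module.End.mul_apply, w_mul_inv, Module.End.one_apply, map_zero] at this
    exact this
  · intro hx
    rw [hx, map_zero]

theorem cayS_skew (B : LinearMap.BilinForm F V) (hg : ∀ x y, B (g x) (g y) = B x y) (x y : V) :
    B (cayS g h x) y = - B x (cayS g h y) := by
  obtain ⟨x', hx'⟩ : ∃ x', x = (g + 1) x' :=
    ⟨((h.unit⁻¹ : (V →ₗ[F] V)ˣ) : V →ₗ[F] V) x, by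
      rw [← Module.End.mul_apply, w_mul_inv, Module.End.one_apply]⟩
  obtain ⟨y', hy'⟩ : ∃ y', y = (g + 1) y' :=
    ⟨((h.unit⁻¹ : (V →ₗ[F] V)ˣ) : V →ₗ[F] V) y, by
      rw [← Module.End.mul_apply, w_mul_inv, Module.End.one_apply]⟩
  have e1 : ∀ z, cayS g h ((g + 1) z) = (g - 1) z := by
    intro z
    rw [← Module.End.mul_apply, cayS_mul_w]
  rw [hx', hy', e1, e1]
  simp only [LinearMap.add_apply, LinearMap.sub_apply, Module.End.one_apply, map_add, map_sub]
  rw [hg]
  ring

theorem commute_cayS_iff (h2 : (2 : F) ≠ 0) (c : V →ₗ[F] V) :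
    Commute c g ↔ Commute c (cayS g h) := by
  constructor
  · intro hc
    unfold cayS
    have h1 : Commute c ((h.unit : (V →ₗ[F] V)ˣ) : V →ₗ[F] V) := by
      rw [IsUnit.unit_spec]
      exact hc.add_right (Commute.one_right c)
    exact (hc.sub_right (Commute.one_right c)).mul_right h1.units_inv_right
  · intro hc
    have hz1 : (1 - cayS g h) * ((2 : F)⁻¹ • (g + 1)) = 1 := by
      rw [mul_smul_comm, sub_mul, one_mul, cayS_mul_w]
      have : g + 1 - (g - 1) = (2 : F) • (1 : V →ₗ[F] V) := by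
        rw [two_smul]
        abel
      rw [this, smul_smul, inv_mul_cancel₀ h2, one_smul]
    have hz2 : ((2 : F)⁻¹ • (g + 1)) * (1 - cayS g h) = 1 := by
      have hcm : Commute (g + 1) (cayS g h) :=
        ((cayS_commute g h).add_right (Commute.one_right _)).symm
      rw [smul_mul_assoc, mul_sub, mul_one, hcm.eq, cayS_mul_w]
      have : g + 1 - (g - 1) = (2 : F) • (1 : V →ₗ[F] V) := by
        rw [two_smul]
        abel
      rw [this, smul_smul, inv_mul_cancel₀ h2, one_smul]
    have hcz : Commute c ((⟨1 - cayS g h, (2 : F)⁻¹ • (g + 1), hz1, hz2⟩ : (V →ₗ[F] V)ˣ) :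
        V →ₗ[F] V) := (Commute.one_right c).sub_right hc
    have h3 : Commute c ((2 : F)⁻¹ • (g + 1)) := hcz.units_inv_right
    have h4 : Commute c ((2 : F) • ((2 : F)⁻¹ • (g + 1))) := h3.smul_right _
    rw [smul_smul, mul_inv_cancel₀ h2, one_smul] at h4
    have h5 := h4.sub_right (Commute.one_right c)
    rw [add_sub_cancel_right] at h5
    exact h5

/-- the isometries commuting with a regular unipotent isometry -/
theorem card_centralizer_isometry [Fintype F] (h2 : (2 : F) ≠ 0) {m : ℕ} (hm : 1 ≤ m)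
    (hV : finrank F V = 2 * m) (B : LinearMap.BilinForm F V) (hB : ∀ w, (∀ x, B x w = 0) → w = 0)
    (hg : ∀ x y, B (g x) (g y) = B x y) (hnil : (g - 1) ^ (2 * m) = 0)
    (hreg : finrank F (LinearMap.ker (g - 1)) ≤ 1) :
    Nat.card {c : V →ₗ[F] V // Commute c g ∧ ∀ x y, B (c x) (c y) = B x y} =
      2 * Fintype.card F ^ m := by
  have hu := isUnit_add_one g h2 hnil
  rw [← card_commute_isometry h2 hm hV (cayS g hu) (cayS_pow g hu hnil)
    (by rw [cayS_ker]; exact hreg) B hB (cayS_skew g hu B hg)]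
  apply Nat.card_congr
  exact Equiv.subtypeEquivRight (fun c => and_congr (commute_cayS_iff g hu h2 c) Iff.rfl)

end Cayley

end Cfsg.Agent.Lib.Helper8.RegUnip
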