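import Mathlib
import Cfsg.Agent.Lib.Helper8.RegUnipB

/-! # Conjugacy of regular unipotent isometries, odd characteristic (helper8) -/

set_option autoImplicit false

namespace Cfsg.Agent.Lib.Helper8.RegUnip

open Polynomial Module Cfsg.Agent.H9.RegNil

section Ring

variable {F : Type*} [Field F] {n : ℕ}

theorem exists_rt_mul (hn : 1 ≤ n) (y : TP F n) (hy : eps F n hn y = 0) :
    ∃ y' : TP F n, y = rt F n * y' := by
  induction y using AdjoinRoot.induction_on with
  | ih p =>
    have h1 : eps F n hn (AdjoinRoot.mk (X ^ n : F[X]) p) = p.eval 0 := by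
      unfold eps
      rw [AdjoinRoot.liftAlgHom_mk]
      rw [← Polynomial.eval₂_id]
      rfl
    rw [h1, ← coeff_zero_eq_eval_zero, ← X_dvd_iff] at hy
    obtain ⟨p', rfl⟩ := hy
    refine ⟨AdjoinRoot.mk (X ^ n : F[X]) p', ?_⟩
    rw [map_mul, AdjoinRoot.mk_X]
    rfl

theorem eps_algebraMap (hn : 1 ≤ n) (a : F) : eps F n hn (algebraMap F (TP F n) a) = a := by
  rw [AlgHom.commutes]
  rfl

/-- a symmetric element whose constant term is a nonzero square is a norm -/
theorem exists_norm [Fintype F] (h2 : (2 : F) ≠ 0) (hn : 1 ≤ n) (r : TP F n)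
    (hr : sig F n r = r) (μ : F) (hμ : μ ≠ 0) (hε : eps F n hn r = μ ^ 2) :
    ∃ ρ : TP F n, sig F n ρ * ρ * r = 1 := by
  obtain ⟨p, hp⟩ := CharP.exists F
  haveI := hp
  haveI : Fact p.Prime := ⟨CharP.char_is_prime F p⟩
  have hnt : Nontrivial (TP F n) := by
    refine ⟨⟨1, 0, fun h => ?_⟩⟩
    have := congrArg (eps F n hn) h
    rw [map_one, map_zero] at this
    exact one_ne_zero this
  haveI : CharP (TP F n) p := charP_of_injective_algebraMap (algebraMap F (TP F n)).injective p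
  have hp2 : p ≠ 2 := by
    intro h
    apply h2
    have := CharP.cast_eq_zero F p
    rw [h] at this
    exact_mod_cast this
  have hpodd : Odd p := (Nat.Prime.eq_two_or_odd' (Fact.out : p.Prime)).resolve_left hp2
  -- normalise the constant term
  obtain ⟨r1, hr1def⟩ : ∃ r1, r1 = algebraMap F (TP F n) ((μ⁻¹) ^ 2) * r := ⟨_, rfl⟩
  have hr1s : sig F n r1 = r1 := by
    rw [hr1def, map_mul, AlgHom.commutes, hr]
  have hr1e : eps F n hn r1 = 1 := by
    rw [hr1def, map_mul, eps_algebraMap, hε]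
    field_simp
  have hnil : IsNilpotent (r1 - 1) := by
    apply isNilpotent_of_eps hn
    rw [map_sub, hr1e, map_one, sub_self]
  obtain ⟨k, hk⟩ := hnil
  have hpk : k ≤ p ^ k := (Nat.lt_pow_self (Fact.out : p.Prime).one_lt).le
  have hone : r1 ^ (p ^ k) = 1 := by
    have h1 : r1 = (r1 - 1) + 1 := by ring
    rw [h1, add_pow_char_pow, one_pow, pow_eq_zero_of_le hpk hk, zero_add]
  obtain ⟨e, he⟩ := hpodd.pow (n := k)
  refine ⟨algebraMap F (TP F n) (μ⁻¹) * r1 ^ e, ?_⟩
  rw [map_mul, AlgHom.commutes, map_pow, hr1s]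
  have h3 : r1 ^ (2 * e + 1) = 1 := by rw [← he]; exact hone
  have h4 : algebraMap F (TP F n) μ⁻¹ * r1 ^ e * (algebraMap F (TP F n) μ⁻¹ * r1 ^ e) * r =
      r1 ^ (2 * e + 1) := by
    rw [pow_succ, pow_mul', hr1def, map_pow]
    ring
  rw [h4, h3]

end Ring

section Conj

variable {F V : Type*} [Field F] [AddCommGroup V] [Module F V] [FiniteDimensional F V]

/-- the top power of `g - 1` maps into the radical-like line -/
theorem form_top_zero (B : LinearMap.BilinForm F V) (g : V →ₗ[F] V)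
    (hg : ∀ x y, B (g x) (g y) = B x y) {n : ℕ} (hn : 1 ≤ n) (hnil : (g - 1) ^ n = 0) (x y : V) :
    B ((g - 1) x) (((g - 1) ^ (n - 1)) y) = 0 := by
  obtain ⟨z, hz⟩ : ∃ z, z = ((g - 1) ^ (n - 1)) y := ⟨_, rfl⟩
  rw [← hz]
  have hgz : g z = z := by
    have h1 : (g - 1) z = 0 := by
      rw [hz, ← Module.End.mul_apply, ← pow_succ', Nat.sub_add_cancel hn, hnil,
        LinearMap.zero_apply]
    rw [LinearMap.sub_apply, Module.End.one_apply, sub_eq_zero] at h1
    exact h1
  rw [LinearMap.sub_apply, Module.End.one_apply, map_sub, LinearMap.sub_apply]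
  conv_lhs => rw [← hgz]
  rw [hg, hgz, sub_self]

/-- the value of the form on a cyclic vector and its top image is nonzero -/
theorem form_cyc_ne_zero (B : LinearMap.BilinForm F V) (hB : ∀ w, (∀ x, B x w = 0) → w = 0)
    (g : V →ₗ[F] V) (hg : ∀ x y, B (g x) (g y) = B x y) {n : ℕ} (hn : 1 ≤ n)
    (hV : finrank F V = n) (hnil : (g - 1) ^ n = 0) (v : V)
    (hv : ((g - 1) ^ (n - 1)) v ≠ 0) : B v (((g - 1) ^ (n - 1)) v) ≠ 0 := by
  intro h0
  apply hv
  apply hB
  intro x
  rw [← (cycBasis hV (g - 1) hnil v hv).sum_repr x, LinearMap.BilinForm.sum_left]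
  apply Finset.sum_eq_zero
  intro i _
  rw [LinearMap.BilinForm.smul_left, cycBasis_apply]
  rcases Nat.eq_zero_or_pos (i : ℕ) with hi | hi
  · rw [hi, pow_zero, Module.End.one_apply, h0, mul_zero]
  · obtain ⟨j, hj⟩ : ∃ j, (i : ℕ) = j + 1 := ⟨(i : ℕ) - 1, by omega⟩
    rw [hj, pow_succ', Module.End.mul_apply, form_top_zero B g hg hn hnil, mul_zero]

/-- the invariant does not depend on the cyclic vector, up to squares -/
theorem form_cyc_sq (B : LinearMap.BilinForm F V) (g : V →ₗ[F] V)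
    (hg : ∀ x y, B (g x) (g y) = B x y) {n : ℕ} (hn : 1 ≤ n)
    (hV : finrank F V = n) (hnil : (g - 1) ^ n = 0) (v w : V)
    (hv : ((g - 1) ^ (n - 1)) v ≠ 0) (hw : ((g - 1) ^ (n - 1)) w ≠ 0) :
    ∃ a : F, a ≠ 0 ∧ B w (((g - 1) ^ (n - 1)) w) = a ^ 2 * B v (((g - 1) ^ (n - 1)) v) := by
  obtain ⟨b, hb⟩ : ∃ b, b = cycBasis hV (g - 1) hnil v hv := ⟨_, rfl⟩
  have hbi : ∀ i : Fin n, b i = ((g - 1) ^ (i : ℕ)) v := by
    intro i
    rw [hb, cycBasis_apply]
  have hzero : ∀ i : Fin n, (i : ℕ) ≠ 0 → ((g - 1) ^ (n - 1)) (b i) = 0 := by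
    intro i hi
    rw [hbi, ← Module.End.mul_apply, ← pow_add]
    have : n - 1 + (i : ℕ) = n + ((i : ℕ) - 1) := by omega
    rw [this, pow_add, hnil, zero_mul, LinearMap.zero_apply]
  have htop : ((g - 1) ^ (n - 1)) w = b.repr w ⟨0, hn⟩ • ((g - 1) ^ (n - 1)) v := by
    conv_lhs => rw [← b.sum_repr w]
    rw [map_sum, Finset.sum_eq_single ⟨0, hn⟩]
    · rw [map_smul, hbi]
      simp
    · intro i _ hi
      rw [map_smul, hzero i (fun h => hi (Fin.ext h)), smul_zero]
    · intro h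
      exact absurd (Finset.mem_univ _) h
  have ha0 : b.repr w ⟨0, hn⟩ ≠ 0 := by
    intro h0
    apply hw
    rw [htop, h0, zero_smul]
  refine ⟨b.repr w ⟨0, hn⟩, ha0, ?_⟩
  rw [htop, map_smul, smul_eq_mul]
  have h1 : B w (((g - 1) ^ (n - 1)) v) = b.repr w ⟨0, hn⟩ * B v (((g - 1) ^ (n - 1)) v) := by
    conv_lhs => rw [← b.sum_repr w]
    rw [LinearMap.BilinForm.sum_left, Finset.sum_eq_single ⟨0, hn⟩]
    · rw [LinearMap.BilinForm.smul_left, hbi]
      simp
    · intro i _ hi
      have hi' : (i : ℕ) ≠ 0 := fun h => hi (Fin.ext h)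
      obtain ⟨j, hj⟩ : ∃ j, (i : ℕ) = j + 1 := ⟨(i : ℕ) - 1, by omega⟩
      rw [LinearMap.BilinForm.smul_left, hbi, hj, pow_succ', Module.End.mul_apply,
        form_top_zero B g hg hn hnil, mul_zero]
    · intro h
      exact absurd (Finset.mem_univ _) h
  rw [h1]
  ring

/-- two regular unipotent isometries with the same invariant are conjugate by an isometry -/
theorem exists_isometry_conj [Fintype F] (h2 : (2 : F) ≠ 0) {m : ℕ} (hm : 1 ≤ m)
    (hV : finrank F V = 2 * m) (B : LinearMap.BilinForm F V)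
    (hB : ∀ w, (∀ x, B x w = 0) → w = 0) (hskewB : ∀ x y, B x y = - B y x)
    (g g' : V →ₗ[F] V) (hg : ∀ x y, B (g x) (g y) = B x y)
    (hg' : ∀ x y, B (g' x) (g' y) = B x y)
    (hnil : (g - 1) ^ (2 * m) = 0) (hnil' : (g' - 1) ^ (2 * m) = 0)
    (hreg : finrank F (LinearMap.ker (g - 1)) ≤ 1)
    (v v' : V) (hv : ((g - 1) ^ (2 * m - 1)) v ≠ 0) (hv' : ((g' - 1) ^ (2 * m - 1)) v' ≠ 0)
    (μ : F) (hμ : μ ≠ 0)
    (hβ : B v' (((g' - 1) ^ (2 * m - 1)) v') = μ ^ 2 * B v (((g - 1) ^ (2 * m - 1)) v)) :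
    ∃ h : V →ₗ[F] V, (∀ x y, B (h x) (h y) = B x y) ∧ h * g = g' * h := by
  have hn : 1 ≤ 2 * m := by omega
  -- the intertwiner of the cyclic bases
  obtain ⟨k, hkdef⟩ : ∃ k : V →ₗ[F] V,
      k = (cycBasis hV (g - 1) hnil v hv).constr F (fun i : Fin (2 * m) => ((g' - 1) ^ (i : ℕ)) v') :=
    ⟨_, rfl⟩
  have hk : ∀ i : ℕ, i < 2 * m → k (((g - 1) ^ i) v) = ((g' - 1) ^ i) v' := by
    intro i hi
    have := (cycBasis hV (g - 1) hnil v hv).constr_basis F
      (fun i : Fin (2 * m) => ((g' - 1) ^ (i : ℕ)) v') ⟨i, hi⟩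
    rw [cycBasis_apply] at this
    rw [hkdef]
    exact this
  have hkN : k * (g - 1) = (g' - 1) * k := by
    apply (cycBasis hV (g - 1) hnil v hv).ext
    intro i
    rw [cycBasis_apply, Module.End.mul_apply, Module.End.mul_apply, ← Module.End.mul_apply (g - 1),
      ← pow_succ', hk _ i.2]
    by_cases hi : (i : ℕ) + 1 < 2 * m
    · rw [hk _ hi, pow_succ', Module.End.mul_apply]
    · have hi' : (i : ℕ) + 1 = 2 * m := by have := i.2; omega
      rw [hi', hnil, LinearMap.zero_apply, map_zero, ← Module.End.mul_apply, ← pow_succ', hi', hnil',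
        LinearMap.zero_apply]
  have hkg : k * g = g' * k := by
    have h1 : g = (g - 1) + 1 := by abel
    have h1' : g' = (g' - 1) + 1 := by abel
    rw [h1, h1', mul_add, add_mul, hkN, mul_one, one_mul]
  have hkg' : ∀ x, k (g x) = g' (k x) := by
    intro x
    have := congrArg (fun φ : V →ₗ[F] V => φ x) hkg
    simpa [Module.End.mul_apply] using this
  -- the Gram operator
  have hinj : Function.Injective B.flip := by
    rw [injective_iff_map_eq_zero]
    intro w hw
    apply hB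
    intro x
    have := LinearMap.congr_fun hw x
    simpa using this
  have hsurj : Function.Surjective B.flip :=
    (LinearMap.injective_iff_surjective_of_finrank_eq_finrank
      (Subspace.dual_finrank_eq (K := F) (V := V)).symm).1 hinj
  have hc : ∃ c : V →ₗ[F] V, ∀ x y, B x (c y) = B (k x) (k y) := by
    let e : V ≃ₗ[F] (V →ₗ[F] F) := LinearEquiv.ofBijective B.flip ⟨hinj, hsurj⟩
    refine ⟨e.symm.toLinearMap ∘ₗ ((B.compl₁₂ k k).flip), ?_⟩
    intro x y
    have h1 : B.flip (e.symm ((B.compl₁₂ k k).flip y)) = (B.compl₁₂ k k).flip y :=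
      e.apply_symm_apply _
    have h3 := LinearMap.congr_fun h1 x
    simpa using h3
  obtain ⟨c, hc⟩ := hc
  -- `g` is bijective
  have hgu : IsUnit g := by
    have h1 : IsNilpotent (g - 1) := ⟨2 * m, hnil⟩
    have := h1.isUnit_one_add
    rwa [add_sub_cancel] at this
  obtain ⟨gi, hgi⟩ := hgu.exists_right_inv
  have hcg : Commute c g := by
    apply LinearMap.ext
    intro y
    rw [Module.End.mul_apply, Module.End.mul_apply]
    have h1 : ∀ x, B x (c (g y) - g (c y)) = 0 := by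
      intro x'
      have hx' : x' = g (gi x') := by
        rw [← Module.End.mul_apply, hgi, Module.End.one_apply]
      rw [hx', map_sub, hc, hg, hc, hkg', hkg', hg', sub_self]
    exact sub_eq_zero.1 (hB _ h1)
  -- pass to the truncated polynomial ring
  have hu := isUnit_add_one g h2 hnil
  have hs := cayS_pow g hu hnil
  have hregs : finrank F (LinearMap.ker (cayS g hu)) ≤ 1 := by rw [cayS_ker]; exact hreg
  obtain ⟨vs, hvs⟩ := exists_cyc hV (cayS g hu) hs hregs hn
  have hskew := cayS_skew g hu B hg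
  obtain ⟨r, hr⟩ := psi_surj (cayS g hu) hs hV vs hvs c ((commute_cayS_iff g hu h2 c).1 hcg)
  have hrs : sig F (2 * m) r = r := by
    apply psi_injective (cayS g hu) hs vs hvs
    rw [hr]
    apply LinearMap.ext
    intro y
    have h1 : ∀ x, B x (psi (cayS g hu) hs (sig F (2 * m) r) y - c y) = 0 := by
      intro x
      rw [map_sub, ← psi_adjoint (cayS g hu) hs B hskew r, hr, hc, hskewB, hc, hskewB (k y)]
      ring
    exact sub_eq_zero.1 (hB _ h1)
  -- the constant term
  have hβ0 := form_cyc_ne_zero B hB g hg hn hV hnil v hv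
  have hsz : cayS g hu (((g - 1) ^ (2 * m - 1)) v) = 0 := by
    rw [cayS_eq, Module.End.mul_apply, ← Module.End.mul_apply (g - 1), ← pow_succ',
      Nat.sub_add_cancel hn, hnil, LinearMap.zero_apply, map_zero]
  have hre : eps F (2 * m) hn r = μ ^ 2 := by
    obtain ⟨e, he⟩ : ∃ e, e = eps F (2 * m) hn r := ⟨_, rfl⟩
    rw [← he]
    obtain ⟨r', hr'⟩ := exists_rt_mul hn (r - algebraMap F (TP F (2 * m)) e) (by
      rw [map_sub, eps_algebraMap, he, sub_self])
    have hcz : c (((g - 1) ^ (2 * m - 1)) v) = e • (((g - 1) ^ (2 * m - 1)) v) := by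
      have h1 : r = algebraMap F (TP F (2 * m)) e + r' * rt F (2 * m) := by
        rw [mul_comm r' (rt F (2 * m)), ← hr']; ring
      rw [← hr, h1, map_add, AlgHom.commutes, map_mul, psi_rt, LinearMap.add_apply,
        Module.algebraMap_end_apply, Module.End.mul_apply, hsz, map_zero, add_zero]
    have h3 : B v' (((g' - 1) ^ (2 * m - 1)) v') =
        e * B v (((g - 1) ^ (2 * m - 1)) v) := by
      have e1 := hk 0 (by omega)
      rw [pow_zero, pow_zero, Module.End.one_apply, Module.End.one_apply] at e1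
      rw [← hk (2 * m - 1) (by omega)]
      conv_lhs => rw [← e1]
      rw [← hc, hcz, map_smul, smul_eq_mul]
    rw [hβ] at h3
    exact mul_right_cancel₀ hβ0 h3.symm
  -- the norm
  obtain ⟨ρ, hρ⟩ := exists_norm h2 hn r hrs μ hμ hre
  have hρg : Commute (psi (cayS g hu) hs ρ) g :=
    (commute_cayS_iff g hu h2 _).2 (psi_commute (cayS g hu) hs ρ)
  refine ⟨k * psi (cayS g hu) hs ρ, ?_, ?_⟩
  · intro x y
    rw [Module.End.mul_apply, Module.End.mul_apply, ← hc, ← hr,
      psi_adjoint (cayS g hu) hs B hskew ρ, ← Module.End.mul_apply, ← Module.End.mul_apply,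
      ← map_mul, ← map_mul]
    have : sig F (2 * m) ρ * r * ρ = 1 := by rw [← hρ]; ring
    rw [this, map_one, Module.End.one_apply]
  · rw [mul_assoc, hρg.eq, ← mul_assoc, hkg, mul_assoc]

end Conj

end Cfsg.Agent.Lib.Helper8.RegUnip
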