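import Mathlib
import Cfsg.Agent.Lib.Helper8.RegUnipC
import Cfsg.Agent.Lib.Helper8.SympBasis
import Cfsg.Agent.H9.SympForm

/-! # A regular unipotent element of the symplectic group, odd characteristic (helper8) -/

set_option autoImplicit false

namespace Cfsg.Agent.Lib.Helper8.RegUnip

open Polynomial Module

section Model

variable {F : Type*} [Field F] {n : ℕ}

/-- the top coefficient -/
noncomputable def top (hn : 1 ≤ n) : TP F n →ₗ[F] F := (bas F n).coord ⟨n - 1, by omega⟩

theorem rt_pow_of_le (j : ℕ) (hj : n ≤ j) : rt F n ^ j = 0 := by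
  obtain ⟨k, rfl⟩ := Nat.exists_eq_add_of_le hj
  rw [pow_add, rt_pow, zero_mul]

theorem top_rt_pow (hn : 1 ≤ n) (j : ℕ) : top hn (rt F n ^ j) = if j = n - 1 then (1 : F) else 0 := by
  classical
  by_cases hj : j < n
  · have h1 : rt F n ^ j = bas F n ⟨j, hj⟩ := (bas_apply ⟨j, hj⟩).symm
    rw [h1]
    unfold top
    rw [Module.Basis.coord_apply, Module.Basis.repr_self, Finsupp.single_apply]
    by_cases h : j = n - 1
    · rw [if_pos h, if_pos (Fin.ext h)]
    · rw [if_neg h, if_neg (fun h' => h (congrArg Fin.val h'))]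
  · rw [rt_pow_of_le j (by omega), map_zero, if_neg (by omega)]

theorem top_mul_rt_pow (hn : 1 ≤ n) (x : TP F n) (k : ℕ) (hk : k ≤ n - 1) :
    top hn (x * rt F n ^ k) = (bas F n).repr x ⟨n - 1 - k, by omega⟩ := by
  classical
  conv_lhs => rw [← (bas F n).sum_repr x]
  rw [Finset.sum_mul, map_sum, Finset.sum_eq_single ⟨n - 1 - k, by omega⟩]
  · rw [smul_mul_assoc, map_smul, bas_apply, ← pow_add, top_rt_pow, if_pos (by simp; omega),
      smul_eq_mul, mul_one]
  · intro i _ hi
    rw [smul_mul_assoc, map_smul, bas_apply, ← pow_add, top_rt_pow, if_neg, smul_zero]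
    intro h
    apply hi
    apply Fin.ext
    simp only
    omega
  · intro h
    exact absurd (Finset.mem_univ _) h

/-- the form `(a, b) ↦ top (σ a · b)` -/
noncomputable def modelB (hn : 1 ≤ n) : LinearMap.BilinForm F (TP F n) :=
  LinearMap.mk₂ F (fun a b => top hn (sig F n a * b))
    (fun a a' b => by rw [map_add, add_mul, map_add])
    (fun c a b => by rw [map_smul, smul_mul_assoc, map_smul])
    (fun a b b' => by rw [mul_add, map_add])
    (fun c a b => by rw [mul_smul_comm, map_smul])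

theorem modelB_apply (hn : 1 ≤ n) (a b : TP F n) : modelB hn a b = top hn (sig F n a * b) := rfl

theorem sig_injective : Function.Injective (sig F n) := by
  intro a b h
  have := congrArg (sig F n) h
  rwa [sig_sig, sig_sig] at this

theorem eq_zero_of_top (hn : 1 ≤ n) (w : TP F n) (hw : ∀ k : ℕ, k ≤ n - 1 → top hn (w * rt F n ^ k) = 0) :
    w = 0 := by
  apply (bas F n).repr.injective
  ext i
  rw [map_zero]
  have h1 := hw (n - 1 - (i : ℕ)) (by omega)
  rw [top_mul_rt_pow hn w _ (by omega)] at h1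
  have h3 : (⟨n - 1 - (n - 1 - (i : ℕ)), by omega⟩ : Fin n) = i := by
    apply Fin.ext
    simp only
    have := i.2
    omega
  rw [h3] at h1
  exact h1

theorem modelB_sepRight (hn : 1 ≤ n) (w : TP F n) (hw : ∀ x, modelB hn x w = 0) : w = 0 := by
  apply eq_zero_of_top hn
  intro k _
  have := hw (sig F n (rt F n ^ k))
  rw [modelB_apply, sig_sig] at this
  rw [mul_comm]
  exact this

theorem modelB_sepLeft (hn : 1 ≤ n) (a : TP F n) (ha : ∀ x, modelB hn a x = 0) : a = 0 := by
  apply sig_injective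
  rw [map_zero]
  apply eq_zero_of_top hn
  intro k _
  exact ha (rt F n ^ k)

theorem modelB_alt (h2 : (2 : F) ≠ 0) (m : ℕ) (hm : 1 ≤ m) (a : TP F (2 * m)) :
    modelB (n := 2 * m) (by omega) a a = 0 := by
  have hn : 1 ≤ 2 * m := by omega
  rw [modelB_apply]
  obtain ⟨c, hc⟩ : ∃ c, c = sig F (2 * m) a * a := ⟨_, rfl⟩
  rw [← hc]
  have hcs : sig F (2 * m) c = c := by
    rw [hc, map_mul, sig_sig, mul_comm a (sig F (2 * m) a)]
  have h1 := repr_sig c ⟨2 * m - 1, by omega⟩
  rw [hcs] at h1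
  have hodd : Odd (2 * m - 1) := ⟨m - 1, by omega⟩
  simp only at h1
  rw [hodd.neg_one_pow] at h1
  unfold top
  rw [Module.Basis.coord_apply]
  have h4 : (2 : F) * (bas F (2 * m)).repr c ⟨2 * m - 1, by omega⟩ = 0 := by
    linear_combination h1
  exact (mul_eq_zero.1 h4).resolve_left h2

end Model

section Exists

variable {F : Type*} [Field F]

/-- the model regular unipotent isometry: multiplication by `(1 + X) / (1 - X)` -/
theorem exists_model (h2 : (2 : F) ≠ 0) (m : ℕ) (hm : 1 ≤ m) :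
    ∃ g0 : TP F (2 * m) →ₗ[F] TP F (2 * m),
      (∀ a b, modelB (n := 2 * m) (by omega) (g0 a) (g0 b) = modelB (n := 2 * m) (by omega) a b) ∧
      (g0 - 1) ^ (2 * m) = 0 ∧ finrank F (LinearMap.ker (g0 - 1)) ≤ 1 := by
  have hn : 1 ≤ 2 * m := by omega
  have hnilrt : IsNilpotent (rt F (2 * m)) := ⟨2 * m, rt_pow F (2 * m)⟩
  obtain ⟨δ, hδ⟩ := hnilrt.isUnit_one_sub.exists_right_inv
  have hδ' : (1 + rt F (2 * m)) * sig F (2 * m) δ = 1 := by
    have := congrArg (sig F (2 * m)) hδ
    rw [map_mul, map_sub, map_one, sig_rt, sub_neg_eq_add] at this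
    exact this
  obtain ⟨γ, hγ⟩ : ∃ γ, γ = (1 + rt F (2 * m)) * δ := ⟨_, rfl⟩
  have hγσ : sig F (2 * m) γ * γ = 1 := by
    rw [hγ, map_mul, map_add, map_one, sig_rt]
    linear_combination (1 + rt F (2 * m)) * sig F (2 * m) δ * hδ + hδ'
  have hγ1 : γ - 1 = rt F (2 * m) * (2 * δ) := by
    rw [hγ]
    linear_combination (1 : TP F (2 * m)) * hδ
  refine ⟨Algebra.lmul F (TP F (2 * m)) γ, ?_, ?_, ?_⟩
  · intro a b
    rw [modelB_apply, modelB_apply]
    have h1 : ∀ x, Algebra.lmul F (TP F (2 * m)) γ x = γ * x := fun x => rfl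
    rw [h1, h1, map_mul (sig F (2 * m))]
    have : sig F (2 * m) γ * sig F (2 * m) a * (γ * b) = (sig F (2 * m) γ * γ) * (sig F (2 * m) a * b) := by
      ring
    rw [this, hγσ, one_mul]
  · have h1 : Algebra.lmul F (TP F (2 * m)) γ - 1 = Algebra.lmul F (TP F (2 * m)) (γ - 1) := by
      rw [map_sub, map_one]
    rw [h1, ← map_pow, hγ1, mul_pow, rt_pow, zero_mul, map_zero]
  · have hle : LinearMap.ker (Algebra.lmul F (TP F (2 * m)) γ - 1) ≤
        Submodule.span F {bas F (2 * m) ⟨2 * m - 1, by omega⟩} := by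
      intro a ha
      rw [LinearMap.mem_ker, LinearMap.sub_apply, Module.End.one_apply] at ha
      have h1 : Algebra.lmul F (TP F (2 * m)) γ a = γ * a := rfl
      rw [h1] at ha
      have h3 : rt F (2 * m) * (2 * δ) * a = 0 := by
        rw [← hγ1]
        linear_combination ha
      obtain ⟨c, hc⟩ : ∃ c, c = algebraMap F (TP F (2 * m)) (2⁻¹) := ⟨_, rfl⟩
      have hc2 : c * 2 = 1 := by
        have : (2 : TP F (2 * m)) = algebraMap F (TP F (2 * m)) 2 := by rw [map_ofNat]
        rw [hc, this, ← map_mul, inv_mul_cancel₀ h2, map_one]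
      have h4 : rt F (2 * m) * a = 0 := by
        linear_combination (c * (1 - rt F (2 * m))) * h3 - (rt F (2 * m) * a * (c * 2)) * hδ -
          (rt F (2 * m) * a) * hc2
      have h5 : ∀ i : Fin (2 * m), (i : ℕ) ≠ 2 * m - 1 → (bas F (2 * m)).repr a i = 0 := by
        intro i hi
        have hi2 := i.2
        have h6 := top_mul_rt_pow hn a (2 * m - 1 - (i : ℕ)) (by omega)
        have h7 : (⟨2 * m - 1 - (2 * m - 1 - (i : ℕ)), by omega⟩ : Fin (2 * m)) = i := by
          apply Fin.ext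
          simp only
          omega
        rw [h7] at h6
        rw [← h6]
        obtain ⟨k, hk⟩ : ∃ k, 2 * m - 1 - (i : ℕ) = k + 1 := ⟨2 * m - 1 - (i : ℕ) - 1, by omega⟩
        rw [hk, pow_succ', ← mul_assoc, mul_comm a, h4, zero_mul, map_zero]
      rw [Submodule.mem_span_singleton]
      refine ⟨(bas F (2 * m)).repr a ⟨2 * m - 1, by omega⟩, ?_⟩
      conv_rhs => rw [← (bas F (2 * m)).sum_repr a]
      rw [Finset.sum_eq_single ⟨2 * m - 1, by omega⟩]
      · intro i _ hi
        rw [h5 i (fun h => hi (Fin.ext h)), zero_smul]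
      · intro h
        exact absurd (Finset.mem_univ _) h
    calc finrank F (LinearMap.ker (Algebra.lmul F (TP F (2 * m)) γ - 1))
        ≤ finrank F (Submodule.span F {bas F (2 * m) ⟨2 * m - 1, by omega⟩}) :=
          Submodule.finrank_mono hle
      _ = 1 := finrank_span_singleton ((bas F (2 * m)).ne_zero _)

end Exists

section Transport

open Cfsg.Agent.H9.SympForm

universe u

variable {F : Type u} [Field F]

/-- a regular unipotent isometry of the standard symplectic space, odd characteristic -/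
theorem exists_regular (h2 : (2 : F) ≠ 0) (m : ℕ) (hm : 1 ≤ m) :
    ∃ g : (Fin m ⊕ Fin m → F) →ₗ[F] (Fin m ⊕ Fin m → F),
      (∀ a b, sympB m F (g a) (g b) = sympB m F a b) ∧
      (g - 1) ^ (2 * m) = 0 ∧ finrank F (LinearMap.ker (g - 1)) ≤ 1 := by
  have hn : 1 ≤ 2 * m := by omega
  obtain ⟨g0, hg0, hnil0, hreg0⟩ := exists_model h2 m hm
  have hfr : finrank F (TP F (2 * m)) = 2 * m := by
    rw [Module.finrank_eq_card_basis (bas F (2 * m)), Fintype.card_fin]
  haveI : FiniteDimensional F (TP F (2 * m)) := Module.Basis.finiteDimensional_of_finite (bas F (2 * m))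
  obtain ⟨φ, hφ⟩ := Cfsg.Agent.Lib.Helper8.SympBasis.exists_isometry m (TP F (2 * m))
    (modelB (n := 2 * m) hn) (fun a => modelB_alt h2 m hm a)
    ⟨fun a ha => modelB_sepLeft hn a ha, fun w hw => modelB_sepRight hn w hw⟩ hfr
  refine ⟨φ.conjAlgEquiv F g0, ?_, ?_, ?_⟩
  · intro a b
    rw [sympB_apply, LinearEquiv.conjAlgEquiv_apply]
    simp only [LinearMap.comp_apply, LinearEquiv.coe_coe]
    rw [hφ, hg0, ← hφ, φ.apply_symm_apply, φ.apply_symm_apply, sympB_apply]
  · have h1 : φ.conjAlgEquiv F g0 - 1 = φ.conjAlgEquiv F (g0 - 1) := by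
      rw [map_sub, map_one]
    rw [h1, ← map_pow, hnil0, map_zero]
  · have h1 : φ.conjAlgEquiv F g0 - 1 = φ.conjAlgEquiv F (g0 - 1) := by
      rw [map_sub, map_one]
    have h3 : LinearMap.ker (φ.conjAlgEquiv F (g0 - 1)) =
        (LinearMap.ker (g0 - 1)).map (φ : TP F (2 * m) →ₗ[F] (Fin m ⊕ Fin m → F)) := by
      ext x
      rw [LinearMap.mem_ker, LinearEquiv.conjAlgEquiv_apply, Submodule.mem_map_equiv,
        LinearMap.mem_ker]
      simp only [LinearMap.comp_apply, LinearEquiv.coe_coe]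
      exact φ.map_eq_zero_iff
    rw [h1, h3, LinearEquiv.finrank_map_eq]
    exact hreg0

end Transport

end Cfsg.Agent.Lib.Helper8.RegUnip
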