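import Mathlib
import Cfsg.Agent.Lib.Helper8.RegUnipD

/-! # The two classes of regular unipotent isometries of the standard symplectic space,
odd characteristic (helper8) -/

set_option autoImplicit false

namespace Cfsg.Agent.Lib.Helper8.RegUnip

open Module Cfsg.Agent.H9.SympForm Cfsg.Agent.H9.RegNil Cfsg.Agent.Lib.Helper5.Symp

section Squares

variable {F : Type*} [Field F] [Fintype F]

theorem ringChar_ne_two_of (h2 : (2 : F) ≠ 0) : ringChar F ≠ 2 := by
  intro hc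
  apply h2
  have := ringChar.Nat.cast_ringChar (R := F)
  rw [hc] at this
  exact_mod_cast this

theorem isSquare_mul_of_not (h2 : (2 : F) ≠ 0) (a b : F) (ha : ¬ IsSquare a) (hb : ¬ IsSquare b) :
    IsSquare (a * b) := by
  classical
  have ha0 : a ≠ 0 := fun h => ha (by rw [h]; exact IsSquare.zero)
  have hb0 : b ≠ 0 := fun h => hb (by rw [h]; exact IsSquare.zero)
  rw [← quadraticChar_one_iff_isSquare (mul_ne_zero ha0 hb0), map_mul,
    quadraticChar_neg_one_iff_not_isSquare.2 ha, quadraticChar_neg_one_iff_not_isSquare.2 hb]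
  norm_num

theorem exists_mu (h2 : (2 : F) ≠ 0) (β β' : F) (hβ : β ≠ 0) (hβ' : β' ≠ 0)
    (h : IsSquare β ↔ IsSquare β') : ∃ μ : F, μ ≠ 0 ∧ β' = μ ^ 2 * β := by
  by_cases hs : IsSquare β
  · obtain ⟨a, ha⟩ := hs
    obtain ⟨b, hb⟩ := h.1 ⟨a, ha⟩
    have ha0 : a ≠ 0 := by
      intro h0
      apply hβ
      rw [ha, h0, mul_zero]
    have hb0 : b ≠ 0 := by
      intro h0
      apply hβ'
      rw [hb, h0, mul_zero]
    refine ⟨b / a, div_ne_zero hb0 ha0, ?_⟩
    rw [ha, hb]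
    field_simp
  · have hs' : ¬ IsSquare β' := fun h' => hs (h.2 h')
    obtain ⟨c, hc⟩ := isSquare_mul_of_not h2 β' β hs' hs
    have hc0 : c ≠ 0 := by
      intro h0
      rw [h0, mul_zero] at hc
      exact mul_ne_zero hβ' hβ hc
    refine ⟨c / β, div_ne_zero hc0 hβ, ?_⟩
    field_simp
    rw [pow_two, ← hc]

end Squares

section Classes

universe u

variable {F : Type u} [Field F] (m : ℕ)

theorem sympB_sepRight (w : Fin m ⊕ Fin m → F) (hw : ∀ x, sympB m F x w = 0) : w = 0 := by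
  by_contra hne
  obtain ⟨v, hv⟩ := sympB_nondeg m F w hne
  apply hv
  have h1 := hw v
  have h3 : sympB m F w v = - sympB m F v w := by
    have h4 := sympB_self m F (w + v)
    simp only [map_add, LinearMap.add_apply, sympB_self] at h4
    linear_combination h4
  rw [h3, h1, neg_zero]

theorem sympB_skew (x y : Fin m ⊕ Fin m → F) : sympB m F x y = - sympB m F y x := by
  have h4 := sympB_self m F (x + y)
  simp only [map_add, LinearMap.add_apply, sympB_self] at h4
  linear_combination h4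

theorem finrank_std : finrank F (Fin m ⊕ Fin m → F) = 2 * m := by
  rw [finrank_fintype_fun_eq_card, Fintype.card_sum, Fintype.card_fin, two_mul]

/-- regular unipotent isometries of the standard symplectic space -/
def IsRUI (g : (Fin m ⊕ Fin m → F) →ₗ[F] (Fin m ⊕ Fin m → F)) : Prop :=
  (∀ x y, sympB m F (g x) (g y) = sympB m F x y) ∧ (g - 1) ^ (2 * m) = 0 ∧
    finrank F (LinearMap.ker (g - 1)) ≤ 1

/-- the square class invariant -/
def sqInv (g : (Fin m ⊕ Fin m → F) →ₗ[F] (Fin m ⊕ Fin m → F)) : Prop :=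
  ∃ v, ((g - 1) ^ (2 * m - 1)) v ≠ 0 ∧ IsSquare (sympB m F v (((g - 1) ^ (2 * m - 1)) v))

variable {m}

theorem injective_of_isometry (h : (Fin m ⊕ Fin m → F) →ₗ[F] (Fin m ⊕ Fin m → F))
    (hh : ∀ x y, sympB m F (h x) (h y) = sympB m F x y) : Function.Injective h := by
  rw [injective_iff_map_eq_zero]
  intro w hw
  apply sympB_sepRight
  intro x
  rw [← hh, hw, map_zero]

theorem semiconj_pow (h g g' : (Fin m ⊕ Fin m → F) →ₗ[F] (Fin m ⊕ Fin m → F))
    (hc : h * g = g' * h) (k : ℕ) (v : Fin m ⊕ Fin m → F) :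
    ((g' - 1) ^ k) (h v) = h (((g - 1) ^ k) v) := by
  have h1 : SemiconjBy h (g - 1) (g' - 1) := by
    unfold SemiconjBy
    rw [mul_sub, sub_mul, hc, mul_one, one_mul]
  have h3 := (h1.pow_right k).eq
  have := congrArg (fun φ : (Fin m ⊕ Fin m → F) →ₗ[F] (Fin m ⊕ Fin m → F) => φ v) h3
  simp only [Module.End.mul_apply] at this
  exact this.symm

/-- the invariant is preserved under conjugation by isometries -/
theorem sqInv_conj (g g' h : (Fin m ⊕ Fin m → F) →ₗ[F] (Fin m ⊕ Fin m → F))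
    (hh : ∀ x y, sympB m F (h x) (h y) = sympB m F x y) (hc : h * g = g' * h)
    (hs : sqInv m g) : sqInv m g' := by
  obtain ⟨v, hv, hsq⟩ := hs
  refine ⟨h v, ?_, ?_⟩
  · rw [semiconj_pow h g g' hc]
    intro h0
    apply hv
    apply injective_of_isometry h hh
    rw [h0, map_zero]
  · rw [semiconj_pow h g g' hc, hh]
    exact hsq

/-- the invariant can be read off any cyclic vector -/
theorem isSquare_of_sqInv (hm : 1 ≤ m) (g : (Fin m ⊕ Fin m → F) →ₗ[F] (Fin m ⊕ Fin m → F))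
    (hg : IsRUI m g) (hs : sqInv m g) (w : Fin m ⊕ Fin m → F)
    (hw : ((g - 1) ^ (2 * m - 1)) w ≠ 0) :
    IsSquare (sympB m F w (((g - 1) ^ (2 * m - 1)) w)) := by
  obtain ⟨v, hv, hsq⟩ := hs
  obtain ⟨a, ha0, ha⟩ := form_cyc_sq (sympB m F) g hg.1 (by omega : 1 ≤ 2 * m) (finrank_std m)
    hg.2.1 v w hv hw
  rw [ha]
  obtain ⟨c, hc⟩ := hsq
  exact ⟨a * c, by rw [hc]; ring⟩

/-- regular unipotent isometries with the same invariant are conjugate -/
theorem exists_conj_of_sqInv_iff [Fintype F] (h2 : (2 : F) ≠ 0) (hm : 1 ≤ m)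
    (g g' : (Fin m ⊕ Fin m → F) →ₗ[F] (Fin m ⊕ Fin m → F))
    (hg : IsRUI m g) (hg' : IsRUI m g') (hiff : sqInv m g ↔ sqInv m g') :
    ∃ h : (Fin m ⊕ Fin m → F) →ₗ[F] (Fin m ⊕ Fin m → F),
      (∀ x y, sympB m F (h x) (h y) = sympB m F x y) ∧ h * g = g' * h := by
  have hn : 1 ≤ 2 * m := by omega
  obtain ⟨v, hv⟩ := exists_cyc (finrank_std m) (g - 1) hg.2.1 hg.2.2 hn
  obtain ⟨v', hv'⟩ := exists_cyc (finrank_std m) (g' - 1) hg'.2.1 hg'.2.2 hn
  have hβ0 := form_cyc_ne_zero (sympB m F) (sympB_sepRight m) g hg.1 hn (finrank_std m) hg.2.1 v hv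
  have hβ0' := form_cyc_ne_zero (sympB m F) (sympB_sepRight m) g' hg'.1 hn (finrank_std m)
    hg'.2.1 v' hv'
  have hsq : IsSquare (sympB m F v (((g - 1) ^ (2 * m - 1)) v)) ↔
      IsSquare (sympB m F v' (((g' - 1) ^ (2 * m - 1)) v')) := by
    constructor
    · intro h
      exact isSquare_of_sqInv hm g' hg' (hiff.1 ⟨v, hv, h⟩) v' hv'
    · intro h
      exact isSquare_of_sqInv hm g hg (hiff.2 ⟨v', hv', h⟩) v hv
  obtain ⟨μ, hμ, hβ⟩ := exists_mu h2 _ _ hβ0 hβ0' hsq
  exact exists_isometry_conj h2 hm (finrank_std m) (sympB m F) (sympB_sepRight m) (sympB_skew m)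
    g g' hg.1 hg'.1 hg.2.1 hg'.2.1 hg.2.2 v v' hv hv' μ hμ hβ

end Classes

section Twist

universe u

variable {F : Type u} [Field F] {m : ℕ}

/-- the similitude `diag(c, 1)` -/
def dil (c : F) : (Fin m ⊕ Fin m → F) →ₗ[F] (Fin m ⊕ Fin m → F) where
  toFun := fun x i => Sum.elim (fun _ => c) (fun _ => (1 : F)) i * x i
  map_add' := fun x y => by
    funext i
    simp only [Pi.add_apply]
    ring
  map_smul' := fun a x => by
    funext i
    simp only [Pi.smul_apply, smul_eq_mul, RingHom.id_apply]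
    ring

theorem dil_inl (c : F) (x : Fin m ⊕ Fin m → F) (i : Fin m) : dil c x (Sum.inl i) = c * x (Sum.inl i) :=
  rfl

theorem dil_inr (c : F) (x : Fin m ⊕ Fin m → F) (i : Fin m) : dil c x (Sum.inr i) = x (Sum.inr i) := by
  show (1 : F) * x (Sum.inr i) = _
  rw [one_mul]

theorem sympB_dil (c : F) (x y : Fin m ⊕ Fin m → F) :
    sympB m F (dil c x) (dil c y) = c * sympB m F x y := by
  rw [sympB_apply, sympB_apply, sympForm_eq_sum, sympForm_eq_sum, Finset.mul_sum]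
  apply Finset.sum_congr rfl
  intro i _
  rw [dil_inl, dil_inl, dil_inr, dil_inr]
  ring

theorem dil_dil (c c' : F) (x : Fin m ⊕ Fin m → F) : dil c (dil c' x) = dil (c * c') x := by
  funext i
  rcases i with i | i
  · rw [dil_inl, dil_inl, dil_inl, mul_assoc]
  · rw [dil_inr, dil_inr, dil_inr]

theorem dil_one (x : Fin m ⊕ Fin m → F) : dil (1 : F) x = x := by
  funext i
  rcases i with i | i
  · rw [dil_inl, one_mul]
  · rw [dil_inr]

/-- the similitude as a linear equivalence -/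
def dilEquiv (c : F) (hc : c ≠ 0) : (Fin m ⊕ Fin m → F) ≃ₗ[F] (Fin m ⊕ Fin m → F) :=
  LinearEquiv.ofLinear (dil c) (dil c⁻¹)
    (by
      apply LinearMap.ext
      intro x
      rw [LinearMap.comp_apply, dil_dil, mul_inv_cancel₀ hc, dil_one, LinearMap.id_apply])
    (by
      apply LinearMap.ext
      intro x
      rw [LinearMap.comp_apply, dil_dil, inv_mul_cancel₀ hc, dil_one, LinearMap.id_apply])

theorem dilEquiv_apply (c : F) (hc : c ≠ 0) (x : Fin m ⊕ Fin m → F) : dilEquiv c hc x = dil c x := rfl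

theorem dilEquiv_symm_apply (c : F) (hc : c ≠ 0) (x : Fin m ⊕ Fin m → F) :
    (dilEquiv c hc).symm x = dil c⁻¹ x := rfl

/-- the twisted isometry -/
noncomputable def twist (c : F) (hc : c ≠ 0) (g : (Fin m ⊕ Fin m → F) →ₗ[F] (Fin m ⊕ Fin m → F)) :
    (Fin m ⊕ Fin m → F) →ₗ[F] (Fin m ⊕ Fin m → F) :=
  (dilEquiv c hc).conjAlgEquiv F g

theorem twist_apply (c : F) (hc : c ≠ 0) (g : (Fin m ⊕ Fin m → F) →ₗ[F] (Fin m ⊕ Fin m → F))
    (x : Fin m ⊕ Fin m → F) : twist c hc g x = dil c (g (dil c⁻¹ x)) := rfl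

theorem twist_sub_one_pow (c : F) (hc : c ≠ 0) (g : (Fin m ⊕ Fin m → F) →ₗ[F] (Fin m ⊕ Fin m → F))
    (k : ℕ) : (twist c hc g - 1) ^ k = (dilEquiv c hc).conjAlgEquiv F ((g - 1) ^ k) := by
  unfold twist
  rw [map_pow, map_sub, map_one]

theorem twist_sub_one_pow_apply (c : F) (hc : c ≠ 0)
    (g : (Fin m ⊕ Fin m → F) →ₗ[F] (Fin m ⊕ Fin m → F)) (k : ℕ) (v : Fin m ⊕ Fin m → F) :
    ((twist c hc g - 1) ^ k) (dil c v) = dil c (((g - 1) ^ k) v) := by
  rw [twist_sub_one_pow, LinearEquiv.conjAlgEquiv_apply]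
  simp only [LinearMap.comp_apply, LinearEquiv.coe_coe]
  rw [dilEquiv_symm_apply, dil_dil, inv_mul_cancel₀ hc, dil_one, dilEquiv_apply]

theorem isRUI_twist (c : F) (hc : c ≠ 0) (g : (Fin m ⊕ Fin m → F) →ₗ[F] (Fin m ⊕ Fin m → F))
    (hg : IsRUI m g) : IsRUI m (twist c hc g) := by
  refine ⟨?_, ?_, ?_⟩
  · intro x y
    rw [twist_apply, twist_apply, sympB_dil, hg.1, sympB_dil, ← mul_assoc, mul_inv_cancel₀ hc,
      one_mul]
  · rw [twist_sub_one_pow, hg.2.1, map_zero]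
  · have h1 := twist_sub_one_pow c hc g 1
    rw [pow_one, pow_one] at h1
    have h3 : LinearMap.ker ((dilEquiv c hc).conjAlgEquiv F (g - 1)) =
        (LinearMap.ker (g - 1)).map
          ((dilEquiv c hc : (Fin m ⊕ Fin m → F) ≃ₗ[F] (Fin m ⊕ Fin m → F)) :
            (Fin m ⊕ Fin m → F) →ₗ[F] (Fin m ⊕ Fin m → F)) := by
      ext x
      rw [LinearMap.mem_ker, LinearEquiv.conjAlgEquiv_apply, Submodule.mem_map_equiv,
        LinearMap.mem_ker]
      simp only [LinearMap.comp_apply, LinearEquiv.coe_coe]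
      exact (dilEquiv c hc).map_eq_zero_iff
    rw [h1, h3, LinearEquiv.finrank_map_eq]
    exact hg.2.2

theorem dil_injective (c : F) (hc : c ≠ 0) : Function.Injective (dil (m := m) c) :=
  (dilEquiv c hc).injective

/-- twisting by a nonsquare flips the invariant -/
theorem sqInv_twist [Fintype F] (h2 : (2 : F) ≠ 0) (hm : 1 ≤ m) (c : F) (hc : ¬ IsSquare c)
    (g : (Fin m ⊕ Fin m → F) →ₗ[F] (Fin m ⊕ Fin m → F)) (hg : IsRUI m g) :
    sqInv m (twist c (fun h => hc (by rw [h]; exact IsSquare.zero)) g) ↔ ¬ sqInv m g := by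
  have hc0 : c ≠ 0 := fun h => hc (by rw [h]; exact IsSquare.zero)
  have hn : 1 ≤ 2 * m := by omega
  obtain ⟨v, hv⟩ := exists_cyc (finrank_std m) (g - 1) hg.2.1 hg.2.2 hn
  have hβ0 := form_cyc_ne_zero (sympB m F) (sympB_sepRight m) g hg.1 hn (finrank_std m) hg.2.1 v hv
  have hv1 : ((twist c hc0 g - 1) ^ (2 * m - 1)) (dil c v) ≠ 0 := by
    rw [twist_sub_one_pow_apply]
    intro h0
    apply hv
    apply dil_injective c hc0
    rw [h0, map_zero]
  have hβ1 : sympB m F (dil c v) (((twist c hc0 g - 1) ^ (2 * m - 1)) (dil c v)) =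
      c * sympB m F v (((g - 1) ^ (2 * m - 1)) v) := by
    rw [twist_sub_one_pow_apply, sympB_dil]
  constructor
  · intro h1 h0
    have e1 := isSquare_of_sqInv hm g hg h0 v hv
    have e2 := isSquare_of_sqInv hm _ (isRUI_twist c hc0 g hg) h1 (dil c v) hv1
    rw [hβ1] at e2
    obtain ⟨a, ha⟩ := e1
    obtain ⟨b, hb⟩ := e2
    have ha0 : a ≠ 0 := by
      intro h
      apply hβ0
      rw [ha, h, mul_zero]
    apply hc
    refine ⟨b / a, ?_⟩
    have e3 : c * (a * a) = b * b := by rw [← ha]; exact hb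
    field_simp
    linear_combination e3
  · intro h0
    have e1 : ¬ IsSquare (sympB m F v (((g - 1) ^ (2 * m - 1)) v)) := fun h => h0 ⟨v, hv, h⟩
    refine ⟨dil c v, hv1, ?_⟩
    rw [hβ1]
    exact isSquare_mul_of_not h2 _ _ hc e1

/-- both values of the invariant occur -/
theorem exists_two [Fintype F] (h2 : (2 : F) ≠ 0) (hm : 1 ≤ m) :
    ∃ g g' : (Fin m ⊕ Fin m → F) →ₗ[F] (Fin m ⊕ Fin m → F),
      IsRUI m g ∧ IsRUI m g' ∧ sqInv m g ∧ ¬ sqInv m g' := by
  obtain ⟨g, hg⟩ := exists_regular h2 m hm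
  obtain ⟨c, hc⟩ := FiniteField.exists_nonsquare (ringChar_ne_two_of h2)
  have hc0 : c ≠ 0 := fun h => hc (by rw [h]; exact IsSquare.zero)
  have hg' := isRUI_twist c hc0 g hg
  have key := sqInv_twist h2 hm c hc g hg
  by_cases hs : sqInv m g
  · refine ⟨g, _, hg, hg', hs, ?_⟩
    intro h
    exact key.1 h hs
  · exact ⟨_, g, hg', hg, key.2 hs, hs⟩

end Twist

end Cfsg.Agent.Lib.Helper8.RegUnip
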