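import Mathlib
import Cfsg.Agent.Lib.Helper8.RegUnipE

/-! # Regular unipotent symplectic matrices and regular unipotent isometries (helper8) -/

set_option autoImplicit false

namespace Cfsg.Agent.Lib.Helper8.RegUnip

open Module Matrix Cfsg.Agent.H9.SympForm Cfsg.Agent.H9.RegNil Cfsg.Agent.Lib.Helper5.Symp

section Convert

universe u

variable {F : Type u} [Field F] {m : ℕ}

theorem mulVecLin_sub_one (A : Matrix (Fin m ⊕ Fin m) (Fin m ⊕ Fin m) F) :
    A.mulVecLin - 1 = (A - 1).mulVecLin := by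
  apply LinearMap.ext
  intro v
  rw [LinearMap.sub_apply, Module.End.one_apply, Matrix.mulVecLin_apply, Matrix.mulVecLin_apply,
    Matrix.sub_mulVec, Matrix.one_mulVec]

theorem mulVecLin_sub_one_pow (A : Matrix (Fin m ⊕ Fin m) (Fin m ⊕ Fin m) F) (k : ℕ) :
    (A.mulVecLin - 1) ^ k = ((A - 1) ^ k).mulVecLin := by
  rw [mulVecLin_sub_one]
  exact (Matrix.toLin'_pow (A - 1) k).symm

theorem isRUI_of_matrix (A : Matrix (Fin m ⊕ Fin m) (Fin m ⊕ Fin m) F)
    (hA : A ∈ Matrix.symplecticGroup (Fin m) F) (hnil : (A - 1) ^ (2 * m) = 0)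
    (hreg : (A - 1).rank = 2 * m - 1) : IsRUI m A.mulVecLin := by
  refine ⟨fun x y => sympB_mulVec m F hA x y, ?_, ?_⟩
  · rw [mulVecLin_sub_one_pow, hnil]
    simp
  · rw [mulVecLin_sub_one]
    have h := LinearMap.finrank_range_add_finrank_ker (A - 1).mulVecLin
    rw [finrank_std m] at h
    have h2 : finrank F (LinearMap.range (A - 1).mulVecLin) = 2 * m - 1 := hreg
    omega

theorem mem_symplectic_of_isometry (h : (Fin m ⊕ Fin m → F) →ₗ[F] (Fin m ⊕ Fin m → F))
    (hh : ∀ x y, sympB m F (h x) (h y) = sympB m F x y) :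
    LinearMap.toMatrix' h ∈ Matrix.symplecticGroup (Fin m) F := by
  apply mem_of_sympForm
  intro x y
  rw [← sympB_apply, ← sympB_apply]
  have := hh x y
  rw [← Matrix.toLin'_apply, ← Matrix.toLin'_apply, Matrix.toLin'_toMatrix']
  exact this

theorem mulVecLin_toMatrix' (g : (Fin m ⊕ Fin m → F) →ₗ[F] (Fin m ⊕ Fin m → F)) :
    (LinearMap.toMatrix' g).mulVecLin = g := Matrix.toLin'_toMatrix' g

theorem matrix_of_isRUI (hm : 1 ≤ m) (g : (Fin m ⊕ Fin m → F) →ₗ[F] (Fin m ⊕ Fin m → F))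
    (hg : IsRUI m g) :
    (LinearMap.toMatrix' g - 1) ^ (2 * m) = 0 ∧ (LinearMap.toMatrix' g - 1).rank = 2 * m - 1 := by
  have hL := mulVecLin_toMatrix' g
  constructor
  · have h1 := mulVecLin_sub_one_pow (LinearMap.toMatrix' g) (2 * m)
    rw [hL, hg.2.1] at h1
    have h3 : Matrix.toLin' ((LinearMap.toMatrix' g - 1) ^ (2 * m)) = 0 := h1.symm
    have := congrArg LinearMap.toMatrix' h3
    rw [LinearMap.toMatrix'_toLin', map_zero] at this
    exact this
  · have h1 := mulVecLin_sub_one (LinearMap.toMatrix' g)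
    rw [hL] at h1
    have h := LinearMap.finrank_range_add_finrank_ker (LinearMap.toMatrix' g - 1).mulVecLin
    rw [finrank_std m, ← h1] at h
    have h3 := finrank_ker_pow_eq (finrank_std m) (g - 1) hg.2.1 hg.2.2 1 (by omega)
    rw [pow_one] at h3
    have h4 : (LinearMap.toMatrix' g - 1).rank =
        finrank F (LinearMap.range (LinearMap.toMatrix' g - 1).mulVecLin) := rfl
    rw [h4, ← h1]
    omega

/-- a semiconjugating isometry gives conjugacy in the symplectic group -/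
theorem isConj_of_semiconj (u u' : Matrix.symplecticGroup (Fin m) F)
    (h : (Fin m ⊕ Fin m → F) →ₗ[F] (Fin m ⊕ Fin m → F))
    (hh : ∀ x y, sympB m F (h x) (h y) = sympB m F x y)
    (hc : h * (u : Matrix (Fin m ⊕ Fin m) (Fin m ⊕ Fin m) F).mulVecLin =
      (u' : Matrix (Fin m ⊕ Fin m) (Fin m ⊕ Fin m) F).mulVecLin * h) : IsConj u u' := by
  rw [isConj_iff]
  refine ⟨⟨LinearMap.toMatrix' h, mem_symplectic_of_isometry h hh⟩, ?_⟩
  rw [mul_inv_eq_iff_eq_mul]
  apply Subtype.ext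
  rw [Submonoid.coe_mul, Submonoid.coe_mul]
  show LinearMap.toMatrix' h * (u : Matrix (Fin m ⊕ Fin m) (Fin m ⊕ Fin m) F) =
    (u' : Matrix (Fin m ⊕ Fin m) (Fin m ⊕ Fin m) F) * LinearMap.toMatrix' h
  have h5 := congrArg LinearMap.toMatrix' hc
  rw [LinearMap.toMatrix'_mul, LinearMap.toMatrix'_mul] at h5
  have h6 : ∀ A : Matrix (Fin m ⊕ Fin m) (Fin m ⊕ Fin m) F, LinearMap.toMatrix' A.mulVecLin = A :=
    fun A => LinearMap.toMatrix'_toLin' A
  rw [h6, h6] at h5
  exact h5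

/-- conjugacy in the symplectic group gives a semiconjugating isometry -/
theorem semiconj_of_isConj (u u' : Matrix.symplecticGroup (Fin m) F) (hc : IsConj u u') :
    ∃ h : (Fin m ⊕ Fin m → F) →ₗ[F] (Fin m ⊕ Fin m → F),
      (∀ x y, sympB m F (h x) (h y) = sympB m F x y) ∧
      h * (u : Matrix (Fin m ⊕ Fin m) (Fin m ⊕ Fin m) F).mulVecLin =
        (u' : Matrix (Fin m ⊕ Fin m) (Fin m ⊕ Fin m) F).mulVecLin * h := by
  obtain ⟨c, hc⟩ := isConj_iff.1 hc
  rw [mul_inv_eq_iff_eq_mul] at hc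
  refine ⟨(c : Matrix (Fin m ⊕ Fin m) (Fin m ⊕ Fin m) F).mulVecLin,
    fun x y => sympB_mulVec m F c.2 x y, ?_⟩
  have h3 := congrArg (fun z : ↥(Matrix.symplecticGroup (Fin m) F) =>
    (z : Matrix (Fin m ⊕ Fin m) (Fin m ⊕ Fin m) F)) hc
  simp only [Submonoid.coe_mul] at h3
  apply LinearMap.ext
  intro x
  simp only [Module.End.mul_apply, Matrix.mulVecLin_apply, Matrix.mulVec_mulVec]
  rw [h3]

end Convert

end Cfsg.Agent.Lib.Helper8.RegUnip
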