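import Mathlib
import Cfsg.Prelude.Def_Classical
import Cfsg.Agent.Lib.Helper8.JTypeG
import Cfsg.Agent.Lib.Helper8.RegUnipF

/-!
# Jordan types in classical groups, part H (helper8)

From matrices preserving a form to elements of the symplectic group and of isometry groups of
quadratic forms.
-/

set_option autoImplicit false

namespace Cfsg.Agent.Lib.Helper8.JType

open Cfsg Module Matrix Cfsg.Agent.Lib.Helper5.Symp

section Glue

universe v

variable {F : Type v} [Field F]

theorem dot_mulVec_mulVec {ι : Type*} [Fintype ι] [DecidableEq ι] (R M : Matrix ι ι F) (x y : ι → F) :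
    (R.mulVec x) ⬝ᵥ M.mulVec (R.mulVec y) = x ⬝ᵥ (Rᵀ * M * R).mulVec y := by
  rw [← Matrix.mulVec_mulVec, ← Matrix.mulVec_mulVec, Matrix.dotProduct_mulVec x Rᵀ,
    Matrix.vecMul_transpose]

/-- a matrix preserving a nondegenerate alternating form is conjugate to a symplectic matrix -/
theorem exists_sp_conj {m : ℕ} (R M : Matrix (Fin m ⊕ Fin m) (Fin m ⊕ Fin m) F) (hMalt : IsAltM M)
    (hMunit : IsUnit M) (hinv : Rᵀ * M * R = M) :
    ∃ A : Matrix.symplecticGroup (Fin m) F,
      IsConj R (A : Matrix (Fin m ⊕ Fin m) (Fin m ⊕ Fin m) F) := by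
  set B : LinearMap.BilinForm F (Fin m ⊕ Fin m → F) := Matrix.toLinearMap₂' F M with hB
  have hBapp : ∀ x y, B x y = x ⬝ᵥ M.mulVec y := fun x y => by
    rw [hB, Matrix.toLinearMap₂'_apply']
  have hA : B.IsAlt := fun x => by rw [hBapp]; exact hMalt.dot_self x
  have hMdet : M.det ≠ 0 := ((Matrix.isUnit_iff_isUnit_det _).mp hMunit).ne_zero
  have hBnd : B.Nondegenerate := LinearMap.nondegenerate_toLinearMap₂'_of_det_ne_zero' hMdet
  have hrank : finrank F (Fin m ⊕ Fin m → F) = 2 * m := by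
    rw [Module.finrank_fintype_fun_eq_card, Fintype.card_sum, Fintype.card_fin, two_mul]
  obtain ⟨φ, hφ⟩ := Cfsg.Agent.Lib.Helper8.SympBasis.exists_isometry m (Fin m ⊕ Fin m → F) B hA hBnd hrank
  set f : (Fin m ⊕ Fin m → F) →ₗ[F] (Fin m ⊕ Fin m → F) :=
    φ.toLinearMap ∘ₗ Matrix.toLin' R ∘ₗ φ.symm.toLinearMap with hf
  have hmem : LinearMap.toMatrix' f ∈ Matrix.symplecticGroup (Fin m) F := by
    apply mem_of_sympForm
    intro u v
    rw [← Matrix.toLin'_apply, ← Matrix.toLin'_apply, Matrix.toLin'_toMatrix']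
    simp only [hf, LinearMap.comp_apply, LinearEquiv.coe_coe, Matrix.toLin'_apply]
    rw [hφ, hBapp, dot_mulVec_mulVec, hinv, ← hBapp, ← hφ, φ.apply_symm_apply, φ.apply_symm_apply]
  refine ⟨⟨LinearMap.toMatrix' f, hmem⟩, ?_⟩
  have h1 : LinearMap.toMatrix' φ.toLinearMap * LinearMap.toMatrix' φ.symm.toLinearMap = 1 := by
    rw [← LinearMap.toMatrix'_comp, LinearEquiv.comp_symm, LinearMap.toMatrix'_id]
  have h2 : LinearMap.toMatrix' φ.symm.toLinearMap * LinearMap.toMatrix' φ.toLinearMap = 1 := by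
    rw [← LinearMap.toMatrix'_comp, LinearEquiv.symm_comp, LinearMap.toMatrix'_id]
  refine ⟨⟨LinearMap.toMatrix' φ.toLinearMap, LinearMap.toMatrix' φ.symm.toLinearMap, h1, h2⟩, ?_⟩
  show LinearMap.toMatrix' φ.toLinearMap * R = LinearMap.toMatrix' f * LinearMap.toMatrix' φ.toLinearMap
  have h3 : R = LinearMap.toMatrix' (Matrix.toLin' R) := (LinearMap.toMatrix'_toLin' R).symm
  rw [← LinearMap.toMatrix'_comp, hf]
  conv_lhs => rw [h3]
  rw [← LinearMap.toMatrix'_comp]
  congr 1
  apply LinearMap.ext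
  intro x
  simp only [LinearMap.comp_apply, LinearEquiv.coe_coe, φ.symm_apply_apply]

/-- a matrix preserving a quadratic form `v ↦ v ⬝ᵥ T *ᵥ v` with nondegenerate polar form lies in the
isometry group of a quadratic form with nondegenerate polar form -/
theorem exists_quad {ι : Type} [Fintype ι] [DecidableEq ι] (R T : Matrix ι ι F)
    (hT : IsUnit (T + Tᵀ)) (hR : R.det ≠ 0)
    (hinv : ∀ v, (R.mulVec v) ⬝ᵥ T.mulVec (R.mulVec v) = v ⬝ᵥ T.mulVec v) :
    ∃ Q : QuadraticForm F (ι → F), (QuadraticMap.polarBilin Q).Nondegenerate ∧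
      ∃ A : ↥(Cfsg.isometryGroup F ⇑Q),
        ((A : Matrix.GeneralLinearGroup ι F) : Matrix ι ι F) = R := by
  set B : LinearMap.BilinForm F (ι → F) := Matrix.toLinearMap₂' F T with hB
  have hBapp : ∀ x y, B x y = x ⬝ᵥ T.mulVec y := fun x y => by
    rw [hB, Matrix.toLinearMap₂'_apply']
  refine ⟨LinearMap.BilinMap.toQuadraticMap B, ?_, ?_⟩
  · rw [LinearMap.BilinMap.polarBilin_toQuadraticMap]
    have h1 : B + LinearMap.flip B = Matrix.toLinearMap₂' F (T + Tᵀ) := by
      apply LinearMap.ext₂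
      intro x y
      rw [LinearMap.add_apply, LinearMap.add_apply, LinearMap.flip_apply, hBapp, hBapp,
        Matrix.toLinearMap₂'_apply', Matrix.add_mulVec, dotProduct_add]
      congr 1
      rw [Matrix.dotProduct_mulVec, Matrix.mulVec_transpose, dotProduct_comm]
    rw [h1]
    exact LinearMap.nondegenerate_toLinearMap₂'_of_det_ne_zero'
      ((Matrix.isUnit_iff_isUnit_det _).mp hT).ne_zero
  · refine ⟨⟨Matrix.GeneralLinearGroup.mkOfDetNeZero R hR, ?_⟩, rfl⟩
    intro u v
    show LinearMap.BilinMap.toQuadraticMap B (R.mulVec u) = LinearMap.BilinMap.toQuadraticMap B u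
    rw [LinearMap.BilinMap.toQuadraticMap_apply, LinearMap.BilinMap.toQuadraticMap_apply, hBapp, hBapp,
      hinv]

/-- the Gram matrix of the polar form of a quadratic form, invariant under the isometry group -/
theorem polar_matrix {ι : Type} [Fintype ι] [DecidableEq ι] (Q : QuadraticForm F (ι → F))
    (hQ : (QuadraticMap.polarBilin Q).Nondegenerate) (A : ↥(Cfsg.isometryGroup F ⇑Q)) :
    ∃ S : Matrix ι ι F, Sᵀ = S ∧ IsUnit S.det ∧ (∀ i, S i i = 2 * Q (Pi.single i 1)) ∧
      ((A : Matrix.GeneralLinearGroup ι F) : Matrix ι ι F)ᵀ * S *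
        ((A : Matrix.GeneralLinearGroup ι F) : Matrix ι ι F) = S := by
  set S : Matrix ι ι F := LinearMap.toMatrix₂' F (QuadraticMap.polarBilin Q) with hS
  have hSB : Matrix.toLinearMap₂' F S = QuadraticMap.polarBilin Q := by
    rw [hS]
    exact Matrix.toLinearMap₂'_toMatrix' _
  have hSapp : ∀ x y, x ⬝ᵥ S.mulVec y = QuadraticMap.polar Q x y := by
    intro x y
    rw [← Matrix.toLinearMap₂'_apply', hSB, QuadraticMap.polarBilin_apply_apply]
  have hSij : ∀ i j, S i j = QuadraticMap.polar Q (Pi.single i 1) (Pi.single j 1) := by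
    intro i j
    rw [← hSapp]
    simp
  refine ⟨S, ?_, ?_, ?_, ?_⟩
  · ext i j
    rw [Matrix.transpose_apply, hSij, hSij, QuadraticMap.polar_comm]
  · rw [isUnit_iff_ne_zero, ← LinearMap.nondegenerate_toLinearMap₂'_iff_det_ne_zero, hSB]
    exact hQ
  · intro i
    rw [hSij, QuadraticMap.polar_self, two_smul, two_mul]
  · have hentry : ∀ (M : Matrix ι ι F) (i j : ι),
        M i j = (Pi.single i 1 : ι → F) ⬝ᵥ M.mulVec (Pi.single j 1) := by
      intro M i j
      simp
    ext i j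
    rw [hentry (((A : Matrix.GeneralLinearGroup ι F) : Matrix ι ι F)ᵀ * S *
        ((A : Matrix.GeneralLinearGroup ι F) : Matrix ι ι F)) i j, hentry S i j]
    generalize (Pi.single i 1 : ι → F) = x
    generalize (Pi.single j 1 : ι → F) = y
    rw [← dot_mulVec_mulVec, hSapp, hSapp]
    have hA : ∀ u v : ι → F, Q (((A : Matrix.GeneralLinearGroup ι F) : Matrix ι ι F).mulVec u) = Q u :=
      fun u v => A.2 u v
    rw [QuadraticMap.polar, QuadraticMap.polar, ← Matrix.mulVec_add, hA _ 0, hA _ 0, hA _ 0]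

variable {t : ℕ} (d : Fin t → ℕ)

theorem jt_det_ne_zero : (jordanTypeMatrix d F).det ≠ 0 := by
  have hnil : IsNilpotent (jordanTypeMatrix d F - 1) :=
    ⟨∑ k, d k, jt_sub_one_pow_eq_zero d _
      (fun k => Finset.single_le_sum (fun _ _ => Nat.zero_le _) (Finset.mem_univ k))⟩
  have h1 : IsUnit (jordanTypeMatrix d F) := by
    have := IsNilpotent.isUnit_one_add hnil
    rwa [add_sub_cancel] at this
  exact ((Matrix.isUnit_iff_isUnit_det _).mp h1).ne_zero

end Glue

end Cfsg.Agent.Lib.Helper8.JType
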