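import Mathlib
import Cfsg.Agent.Lib.Helper8.GUCentE
import Cfsg.Agent.Lib.Helper8.JTypeH

/-!
# Centralisers of unipotent elements in unitary groups, part F (helper8)

The centraliser of the Jordan type matrix acts transitively on the invariant Hermitian forms;
orbit-stabiliser.
-/

set_option autoImplicit false

namespace Cfsg.Agent.Lib.Helper8.GUCent

open Cfsg Matrix Cfsg.Agent.Lib.Helper8.SUReg Cfsg.Agent.Lib.Helper8.JType
  Cfsg.Agent.Lib.Helper8.JCent

/-- the index type of the Jordan type matrix -/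
abbrev II {t : ℕ} (d : Fin t → ℕ) : Type := (k : Fin t) × Fin (d k)

/-- matrices on that index type -/
abbrev MI (K : Type*) [Field K] {t : ℕ} (d : Fin t → ℕ) : Type _ := Matrix (II d) (II d) K

section Orbit

variable {K : Type*} [Field K] [Finite K] (σ : K →+* K) (hσ : IsInv σ) {t : ℕ} (d : Fin t → ℕ)
  (hd : ∀ k, 1 ≤ d k)

omit [Finite K] in
theorem gl_inv_mul (a : GL (II d) K) : (a⁻¹).1 * a.1 = (1 : MI K d) := by
  rw [← Units.val_mul, inv_mul_cancel, Units.val_one]

omit [Finite K] in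
theorem gl_mul_inv (a : GL (II d) K) : a.1 * (a⁻¹).1 = (1 : MI K d) := by
  rw [← Units.val_mul, mul_inv_cancel, Units.val_one]

/-- the centraliser of the Jordan type matrix in the general linear group -/
def CJ (K : Type*) [Field K] {t : ℕ} (d : Fin t → ℕ) : Subgroup (GL (II d) K) where
  carrier := {g | g.1 * jordanTypeMatrix d K = jordanTypeMatrix d K * g.1}
  mul_mem' := by
    intro a b ha hb
    have ha' : a.1 * jordanTypeMatrix d K = jordanTypeMatrix d K * a.1 := ha
    have hb' : b.1 * jordanTypeMatrix d K = jordanTypeMatrix d K * b.1 := hb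
    show (a * b).1 * jordanTypeMatrix d K = jordanTypeMatrix d K * (a * b).1
    rw [Units.val_mul, Matrix.mul_assoc, hb', ← Matrix.mul_assoc, ha', Matrix.mul_assoc]
  one_mem' := by
    show (1 : GL (II d) K).1 * jordanTypeMatrix d K = jordanTypeMatrix d K * (1 : GL (II d) K).1
    rw [Units.val_one, Matrix.one_mul, Matrix.mul_one]
  inv_mem' := by
    intro a ha
    have ha' : a.1 * jordanTypeMatrix d K = jordanTypeMatrix d K * a.1 := ha
    show (a⁻¹).1 * jordanTypeMatrix d K = jordanTypeMatrix d K * (a⁻¹).1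
    calc (a⁻¹).1 * jordanTypeMatrix d K
        = (a⁻¹).1 * jordanTypeMatrix d K * (a.1 * (a⁻¹).1) := by
          rw [gl_mul_inv, Matrix.mul_one]
      _ = (a⁻¹).1 * (jordanTypeMatrix d K * a.1) * (a⁻¹).1 := by simp only [Matrix.mul_assoc]
      _ = ((a⁻¹).1 * a.1) * jordanTypeMatrix d K * (a⁻¹).1 := by
          rw [← ha']; simp only [Matrix.mul_assoc]
      _ = jordanTypeMatrix d K * (a⁻¹).1 := by
          rw [gl_inv_mul, Matrix.one_mul]

omit [Finite K] in
theorem mem_CJ (g : GL (II d) K) :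
    g ∈ CJ K d ↔ g.1 * jordanTypeMatrix d K = jordanTypeMatrix d K * g.1 := Iff.rfl

/-- the invariant invertible Hermitian forms -/
def XJ : Type _ :=
  {h : MI K d // adjI σ h = h ∧ IsUnit h ∧
    adjI σ (jordanTypeMatrix d K) * h * jordanTypeMatrix d K = h}

/-- the stabiliser of a form in the centraliser -/
def StabJ (h1 : MI K d) : Subgroup (CJ K d) where
  carrier := {g | adjI σ g.1.1 * h1 * g.1.1 = h1}
  mul_mem' := by
    intro a b ha hb
    have ha' : adjI σ a.1.1 * h1 * a.1.1 = h1 := ha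
    have hb' : adjI σ b.1.1 * h1 * b.1.1 = h1 := hb
    show adjI σ (a * b).1.1 * h1 * (a * b).1.1 = h1
    rw [Subgroup.coe_mul, Units.val_mul, adjI_mul]
    calc adjI σ b.1.1 * adjI σ a.1.1 * h1 * (a.1.1 * b.1.1)
        = adjI σ b.1.1 * (adjI σ a.1.1 * h1 * a.1.1) * b.1.1 := by
          simp only [Matrix.mul_assoc]
      _ = h1 := by rw [ha', hb']
  one_mem' := by
    show adjI σ (1 : CJ K d).1.1 * h1 * (1 : CJ K d).1.1 = h1
    rw [Subgroup.coe_one, Units.val_one, adjI_one, Matrix.one_mul, Matrix.mul_one]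
  inv_mem' := by
    intro a ha
    have ha' : adjI σ a.1.1 * h1 * a.1.1 = h1 := ha
    show adjI σ (a⁻¹).1.1 * h1 * (a⁻¹).1.1 = h1
    rw [Subgroup.coe_inv]
    have h3 : adjI σ (a.1⁻¹).1 * adjI σ a.1.1 = 1 := by
      rw [← adjI_mul, gl_mul_inv, adjI_one]
    calc adjI σ (a.1⁻¹).1 * h1 * (a.1⁻¹).1
        = adjI σ (a.1⁻¹).1 * (adjI σ a.1.1 * h1 * a.1.1) * (a.1⁻¹).1 := by rw [ha']
      _ = (adjI σ (a.1⁻¹).1 * adjI σ a.1.1) * h1 * (a.1.1 * (a.1⁻¹).1) := by
          simp only [Matrix.mul_assoc]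
      _ = h1 := by rw [h3, gl_mul_inv, Matrix.one_mul, Matrix.mul_one]

omit [Finite K] in
theorem mem_StabJ (h1 : MI K d) (g : CJ K d) :
    g ∈ StabJ σ d h1 ↔ adjI σ g.1.1 * h1 * g.1.1 = h1 := Iff.rfl

/-- the orbit map -/
def PhiJ (h1 : XJ σ d) (g : CJ K d) : XJ σ d :=
  ⟨adjI σ g.1.1 * h1.1 * g.1.1, by
    have hg : g.1.1 * jordanTypeMatrix d K = jordanTypeMatrix d K * g.1.1 := g.2
    refine ⟨?_, ?_, ?_⟩
    · rw [adjI_mul, adjI_mul, adjI_adjI σ hσ.inv, h1.2.1, Matrix.mul_assoc]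
    · exact ((isUnit_adjI σ _ g.1.isUnit).mul h1.2.2.1).mul g.1.isUnit
    · calc adjI σ (jordanTypeMatrix d K) * (adjI σ g.1.1 * h1.1 * g.1.1) * jordanTypeMatrix d K
          = adjI σ (g.1.1 * jordanTypeMatrix d K) * h1.1 * (g.1.1 * jordanTypeMatrix d K) := by
            rw [adjI_mul]; simp only [Matrix.mul_assoc]
        _ = adjI σ g.1.1 * (adjI σ (jordanTypeMatrix d K) * h1.1 * jordanTypeMatrix d K) *
            g.1.1 := by
            rw [hg, adjI_mul]; simp only [Matrix.mul_assoc]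
        _ = _ := by rw [h1.2.2.2]⟩

end Orbit

end Cfsg.Agent.Lib.Helper8.GUCent
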