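import Mathlib
import Cfsg.Agent.Lib.Helper8.GUCentF

/-!
# Centralisers of unipotent elements in unitary groups, part G (helper8)

Transitivity on invariant forms, orbit-stabiliser, and the identification of invariant forms with
invertible Hermitian elements of the centraliser algebra.
-/

set_option autoImplicit false

namespace Cfsg.Agent.Lib.Helper8.GUCent

open Cfsg Matrix Cfsg.Agent.Lib.Helper8.SUReg Cfsg.Agent.Lib.Helper8.JType
  Cfsg.Agent.Lib.Helper8.JCent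

section Orbit2

variable {K : Type*} [Field K] [Finite K] (σ : K →+* K) (hσ : IsInv σ) {t : ℕ} (d : Fin t → ℕ)
  (hd : ∀ k, 1 ≤ d k)

theorem PhiJ_fib (h1 : XJ σ d) (g g' : CJ K d) :
    PhiJ σ hσ d h1 g = PhiJ σ hσ d h1 g' ↔ g' * g⁻¹ ∈ StabJ σ d h1.1 := by
  rw [mem_StabJ, Subgroup.coe_mul, Subgroup.coe_inv, Units.val_mul, adjI_mul]
  have h3 : adjI σ (g.1⁻¹).1 * adjI σ g.1.1 = 1 := by
    rw [← adjI_mul, gl_mul_inv, adjI_one]
  have h4 : adjI σ g.1.1 * adjI σ (g.1⁻¹).1 = 1 := by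
    rw [← adjI_mul, gl_inv_mul, adjI_one]
  constructor
  · intro h
    have E : adjI σ g.1.1 * h1.1 * g.1.1 = adjI σ g'.1.1 * h1.1 * g'.1.1 :=
      congrArg Subtype.val h
    calc adjI σ (g.1⁻¹).1 * adjI σ g'.1.1 * h1.1 * (g'.1.1 * (g.1⁻¹).1)
        = adjI σ (g.1⁻¹).1 * (adjI σ g'.1.1 * h1.1 * g'.1.1) * (g.1⁻¹).1 := by
          simp only [Matrix.mul_assoc]
      _ = (adjI σ (g.1⁻¹).1 * adjI σ g.1.1) * h1.1 * (g.1.1 * (g.1⁻¹).1) := by
          rw [← E]; simp only [Matrix.mul_assoc]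
      _ = h1.1 := by rw [h3, gl_mul_inv, Matrix.one_mul, Matrix.mul_one]
  · intro h
    apply Subtype.ext
    show adjI σ g.1.1 * h1.1 * g.1.1 = adjI σ g'.1.1 * h1.1 * g'.1.1
    calc adjI σ g.1.1 * h1.1 * g.1.1
        = adjI σ g.1.1 * (adjI σ (g.1⁻¹).1 * adjI σ g'.1.1 * h1.1 * (g'.1.1 * (g.1⁻¹).1)) *
            g.1.1 := by rw [h]
      _ = (adjI σ g.1.1 * adjI σ (g.1⁻¹).1) * adjI σ g'.1.1 * h1.1 * g'.1.1 *
            ((g.1⁻¹).1 * g.1.1) := by simp only [Matrix.mul_assoc]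
      _ = adjI σ g'.1.1 * h1.1 * g'.1.1 := by
          rw [h4, gl_inv_mul, Matrix.one_mul, Matrix.mul_one]

theorem PhiJ_surj (h1 : XJ σ d) : Function.Surjective (PhiJ σ hσ d h1) := by
  intro h2
  obtain ⟨P1, Q1, hPQ1, hQP1, hP1⟩ :=
    exists_adjI_mul_self σ hσ.ne hσ.inv h1.1 h1.2.1 h1.2.2.1
  obtain ⟨P2, Q2, hPQ2, hQP2, hP2⟩ :=
    exists_adjI_mul_self σ hσ.ne hσ.inv h2.1 h2.2.1 h2.2.2.1
  set JT := jordanTypeMatrix d K with hJT
  have hu : ∀ (P Q h : MI K d), P * Q = 1 → adjI σ P * P = h → adjI σ JT * h * JT = h →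
      adjI σ (P * JT * Q) * (P * JT * Q) = 1 := by
    intro P Q h hPQ hP hinv
    rw [adjI_mul, adjI_mul]
    calc adjI σ Q * (adjI σ JT * adjI σ P) * (P * JT * Q)
        = adjI σ Q * (adjI σ JT * (adjI σ P * P) * JT) * Q := by simp only [Matrix.mul_assoc]
      _ = adjI σ Q * (adjI σ P * P) * Q := by rw [hP, hinv]
      _ = (adjI σ Q * adjI σ P) * (P * Q) := by simp only [Matrix.mul_assoc]
      _ = 1 := by rw [← adjI_mul, hPQ, adjI_one, Matrix.mul_one]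
  have hA1 := hu P1 Q1 h1.1 hPQ1 hP1 h1.2.2.2
  have hA2 := hu P2 Q2 h2.1 hPQ2 hP2 h2.2.2.2
  have hg0u : IsUnit (P1 * Q2) :=
    (IsUnit.of_mul_eq_one _ hPQ1).mul (IsUnit.of_mul_eq_one _ hQP2)
  have hg0 : (P1 * Q2) * (P2 * JT * Q2) = (P1 * JT * Q1) * (P1 * Q2) := by
    calc (P1 * Q2) * (P2 * JT * Q2) = P1 * (Q2 * P2) * JT * Q2 := by simp only [Matrix.mul_assoc]
      _ = P1 * JT * (Q1 * P1) * Q2 := by rw [hQP2, hQP1, Matrix.mul_one, Matrix.mul_one]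
      _ = (P1 * JT * Q1) * (P1 * Q2) := by simp only [Matrix.mul_assoc]
  obtain ⟨w, hw1, hw2⟩ := exists_unitary_conj_I σ hσ.inv hσ.ne hσ.tr _ _ _ hA2 hA1 hg0u hg0
  have hw1' : w * adjI σ w = 1 := mul_eq_one_comm.1 hw1
  -- the element
  have hgg : (Q1 * w * P2) * (Q2 * adjI σ w * P1) = 1 := by
    calc (Q1 * w * P2) * (Q2 * adjI σ w * P1) = Q1 * w * (P2 * Q2) * adjI σ w * P1 := by
          simp only [Matrix.mul_assoc]
      _ = Q1 * (w * adjI σ w) * P1 := by rw [hPQ2, Matrix.mul_one]; simp only [Matrix.mul_assoc]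
      _ = 1 := by rw [hw1', Matrix.mul_one, hQP1]
  have hgg' : (Q2 * adjI σ w * P1) * (Q1 * w * P2) = 1 := mul_eq_one_comm.1 hgg
  set g : GL (II d) K := ⟨Q1 * w * P2, Q2 * adjI σ w * P1, hgg, hgg'⟩ with hg
  have hgc : g ∈ CJ K d := by
    rw [mem_CJ]
    show (Q1 * w * P2) * JT = JT * (Q1 * w * P2)
    calc (Q1 * w * P2) * JT = Q1 * w * (P2 * JT * (Q2 * P2)) := by
          rw [hQP2, Matrix.mul_one]; simp only [Matrix.mul_assoc]
      _ = Q1 * (w * (P2 * JT * Q2)) * P2 := by simp only [Matrix.mul_assoc]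
      _ = Q1 * ((P1 * JT * Q1) * w) * P2 := by rw [hw2]
      _ = (Q1 * P1) * JT * (Q1 * w * P2) := by simp only [Matrix.mul_assoc]
      _ = JT * (Q1 * w * P2) := by rw [hQP1, Matrix.one_mul]
  refine ⟨⟨g, hgc⟩, ?_⟩
  apply Subtype.ext
  show adjI σ (Q1 * w * P2) * h1.1 * (Q1 * w * P2) = h2.1
  have e : adjI σ (Q1 * w * P2) = adjI σ P2 * adjI σ w * adjI σ Q1 := by
    rw [adjI_mul, adjI_mul, Matrix.mul_assoc]
  have e2 : adjI σ Q1 * adjI σ P1 = 1 := by rw [← adjI_mul, hPQ1, adjI_one]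
  rw [e, ← hP1, ← hP2]
  calc adjI σ P2 * adjI σ w * adjI σ Q1 * (adjI σ P1 * P1) * (Q1 * w * P2)
      = adjI σ P2 * adjI σ w * (adjI σ Q1 * adjI σ P1) * (P1 * Q1) * w * P2 := by
        simp only [Matrix.mul_assoc]
    _ = adjI σ P2 * (adjI σ w * w) * P2 := by
        rw [e2, hPQ1, Matrix.mul_one, Matrix.mul_one]
        simp only [Matrix.mul_assoc]
    _ = adjI σ P2 * P2 := by rw [hw1, Matrix.mul_one]

include hσ in
theorem card_CJ (h1 : XJ σ d) :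
    Nat.card (CJ K d) = Nat.card (StabJ σ d h1.1) * Nat.card (XJ σ d) :=
  card_eq_card_mul_card (StabJ σ d h1.1) (PhiJ σ hσ d h1) (PhiJ_surj σ hσ d h1)
    (PhiJ_fib σ hσ d h1)

/-- invariant forms correspond to invertible Hermitian elements of the centraliser algebra -/
noncomputable def XJEquiv : XJ σ d ≃ {a : Ah σ hσ d // IsUnit a.1} where
  toFun h := ⟨⟨h0i σ hσ d * h.1, by
      set JT := jordanTypeMatrix d K with hJT
      have hJTu : IsUnit JT.det := IsUnit.mk0 _ (jt_det_ne_zero d)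
      have hU : adjI σ JT⁻¹ * adjI σ JT = 1 := by
        rw [← adjI_mul, Matrix.mul_nonsing_inv _ hJTu, adjI_one]
      have e1 : ∀ h' : MI K d, adjI σ JT * h' * JT = h' → h' * JT = adjI σ JT⁻¹ * h' := by
        intro h' hh'
        calc h' * JT = (adjI σ JT⁻¹ * adjI σ JT) * h' * JT := by rw [hU, Matrix.one_mul]
          _ = adjI σ JT⁻¹ * (adjI σ JT * h' * JT) := by simp only [Matrix.mul_assoc]
          _ = adjI σ JT⁻¹ * h' := by rw [hh']
      have e2 : JT * h0i σ hσ d = h0i σ hσ d * adjI σ JT⁻¹ := by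
        calc JT * h0i σ hσ d = (h0i σ hσ d * h0 σ hσ d) * JT * h0i σ hσ d := by
              rw [h0i_mul_h0, Matrix.one_mul]
          _ = h0i σ hσ d * (h0 σ hσ d * JT) * h0i σ hσ d := by simp only [Matrix.mul_assoc]
          _ = h0i σ hσ d * adjI σ JT⁻¹ * (h0 σ hσ d * h0i σ hσ d) := by
              rw [e1 _ (h0_inv σ hσ d)]; simp only [Matrix.mul_assoc]
          _ = h0i σ hσ d * adjI σ JT⁻¹ := by rw [h0_mul_h0i, Matrix.mul_one]
      refine ⟨?_, ?_⟩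
      · rw [← comm_iff]
        calc h0i σ hσ d * h.1 * JT = h0i σ hσ d * (h.1 * JT) := by rw [Matrix.mul_assoc]
          _ = (h0i σ hσ d * adjI σ JT⁻¹) * h.1 := by
              rw [e1 _ h.2.2.2, Matrix.mul_assoc]
          _ = JT * (h0i σ hσ d * h.1) := by rw [← e2, Matrix.mul_assoc]
      · rw [adjI_mul, h.2.1, adjI_h0i, ← Matrix.mul_assoc, h0_mul_h0i, Matrix.one_mul,
          Matrix.mul_assoc, h0i_mul_h0, Matrix.mul_one]⟩,
    (IsUnit.of_mul_eq_one _ (h0i_mul_h0 σ hσ d)).mul h.2.2.1⟩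
  invFun a := ⟨h0 σ hσ d * a.1.1, by
    have ha1 : a.1.1 * NJ K d = NJ K d * a.1.1 := a.1.2.1
    have ha2 : h0 σ hσ d * a.1.1 = adjI σ a.1.1 * h0 σ hσ d := a.1.2.2
    have ha1' : a.1.1 * jordanTypeMatrix d K = jordanTypeMatrix d K * a.1.1 :=
      (comm_iff d a.1.1).2 ha1
    refine ⟨?_, ?_, ?_⟩
    · rw [adjI_mul, h0_herm, ← ha2]
    · exact (h0_isUnit σ hσ d).mul a.2
    · calc adjI σ (jordanTypeMatrix d K) * (h0 σ hσ d * a.1.1) * jordanTypeMatrix d K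
          = adjI σ (jordanTypeMatrix d K) * h0 σ hσ d * (a.1.1 * jordanTypeMatrix d K) := by
            simp only [Matrix.mul_assoc]
        _ = (adjI σ (jordanTypeMatrix d K) * h0 σ hσ d * jordanTypeMatrix d K) * a.1.1 := by
            rw [ha1']; simp only [Matrix.mul_assoc]
        _ = h0 σ hσ d * a.1.1 := by rw [h0_inv]⟩
  left_inv h := by
    apply Subtype.ext
    show h0 σ hσ d * (h0i σ hσ d * h.1) = h.1
    rw [← Matrix.mul_assoc, h0_mul_h0i, Matrix.one_mul]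
  right_inv a := by
    apply Subtype.ext
    apply Subtype.ext
    show h0i σ hσ d * (h0 σ hσ d * a.1.1) = a.1.1
    rw [← Matrix.mul_assoc, h0i_mul_h0, Matrix.one_mul]

end Orbit2

end Cfsg.Agent.Lib.Helper8.GUCent
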