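import Mathlib
import Cfsg.Agent.Lib.Helper8.GUCentG
import Cfsg.Agent.Lib.Helper8.SURegE
import Cfsg.Agent.S0277

/-!
# Centralisers of unipotent elements in unitary groups, part H (helper8)

Counting invertible Hermitian matrices, and the order of the stabiliser.
-/

set_option autoImplicit false

namespace Cfsg.Agent.Lib.Helper8.GUCent

open Cfsg Matrix Cfsg.Agent.Lib.Helper8.SUReg Cfsg.Agent.Lib.Helper8.JType
  Cfsg.Agent.Lib.Helper8.JCent

section HermCount

variable {K : Type*} [Field K] [Fintype K] (σ : K →+* K) (hσ : IsInv σ) {q : ℕ}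
  (hσq : ∀ x, σ x = x ^ q)

/-- the invertible Hermitian matrices -/
abbrev HermU (m : ℕ) : Type _ := {h : Matrix (Fin m) (Fin m) K // adj σ h = h ∧ IsUnit h}

include hσ hσq in
theorem card_GL_eq (m : ℕ) :
    Nat.card (GL (Fin m) K) = Nat.card (Cfsg.GU m K q) * Nat.card (HermU σ m) := by
  apply card_eq_card_mul_card (Cfsg.GU m K q)
    (fun g : GL (Fin m) K => (⟨adj σ g.1 * g.1, by
      refine ⟨?_, ?_⟩
      · rw [adj_mul, adj_adj σ hσ.inv]
      · rw [Matrix.isUnit_iff_isUnit_det, Matrix.det_mul, det_adj]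
        have hdet : g.1.det ≠ 0 := (Matrix.isUnits_det_units g).ne_zero
        exact IsUnit.mk0 _ (mul_ne_zero (by rw [Ne, map_eq_zero]; exact hdet) hdet)⟩ : HermU σ m))
  · rintro ⟨h, hh, hu⟩
    obtain ⟨P, Pi, hPPi, hPiP, hP⟩ := Cfsg.Agent.Lib.Helper8.GUSim.exists_adj_mul_self σ hσ.ne hσ.inv
      h hh ((Matrix.isUnit_iff_isUnit_det h).1 hu).ne_zero
    refine ⟨⟨P, Pi, hPPi, hPiP⟩, ?_⟩
    apply Subtype.ext
    exact hP
  · intro g g'
    rw [mem_GU_iff σ hσq, Units.val_mul]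
    have e0 : adj σ (g'.1 * (g⁻¹).1) = adj σ (g⁻¹).1 * adj σ g'.1 := adj_mul σ _ _
    rw [e0]
    have h1 : g.1 * (g⁻¹).1 = 1 := by rw [← Units.val_mul, mul_inv_cancel, Units.val_one]
    have h2 : (g⁻¹).1 * g.1 = 1 := by rw [← Units.val_mul, inv_mul_cancel, Units.val_one]
    have h3 : adj σ (g⁻¹).1 * adj σ g.1 = 1 := by rw [← adj_mul, h1, adj_one]
    have h4 : adj σ g.1 * adj σ (g⁻¹).1 = 1 := by rw [← adj_mul, h2, adj_one]
    constructor
    · intro h
      have E : adj σ g.1 * g.1 = adj σ g'.1 * g'.1 := congrArg Subtype.val h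
      calc adj σ (g⁻¹).1 * adj σ g'.1 * (g'.1 * (g⁻¹).1)
          = adj σ (g⁻¹).1 * (adj σ g'.1 * g'.1) * (g⁻¹).1 := by simp only [Matrix.mul_assoc]
        _ = (adj σ (g⁻¹).1 * adj σ g.1) * (g.1 * (g⁻¹).1) := by
            rw [← E]; simp only [Matrix.mul_assoc]
        _ = 1 := by rw [h3, h1, Matrix.mul_one]
    · intro h
      apply Subtype.ext
      show adj σ g.1 * g.1 = adj σ g'.1 * g'.1
      calc adj σ g.1 * g.1
          = adj σ g.1 * (adj σ (g⁻¹).1 * adj σ g'.1 * (g'.1 * (g⁻¹).1)) * g.1 := by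
            rw [h, Matrix.mul_one]
        _ = (adj σ g.1 * adj σ (g⁻¹).1) * adj σ g'.1 * g'.1 * ((g⁻¹).1 * g.1) := by
            simp only [Matrix.mul_assoc]
        _ = adj σ g'.1 * g'.1 := by rw [h4, h2, Matrix.one_mul, Matrix.mul_one]

omit [Fintype K] in
theorem card_hermU_reindex {S : Type*} [Fintype S] [DecidableEq S] (m : ℕ)
    (hm : Fintype.card S = m) :
    Nat.card {M : Matrix S S K // adjI σ M = M ∧ IsUnit M} = Nat.card (HermU σ m) := by
  set e : S ≃ Fin m := Fintype.equivFinOfCardEq hm with he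
  apply Nat.card_congr
  refine
    { toFun := fun M => ⟨Matrix.reindex e e M.1, ?_, ?_⟩
      invFun := fun h => ⟨Matrix.reindex e.symm e.symm h.1, ?_, ?_⟩
      left_inv := ?_
      right_inv := ?_ }
  · rw [adj_reindex, M.2.1]
  · rw [Matrix.isUnit_iff_isUnit_det, Matrix.det_reindex_self]
    exact (Matrix.isUnit_iff_isUnit_det _).1 M.2.2
  · rw [adjI_reindex_symm, h.2.1]
  · rw [Matrix.isUnit_iff_isUnit_det, Matrix.det_reindex_self]
    exact (Matrix.isUnit_iff_isUnit_det _).1 h.2.2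
  · intro M
    apply Subtype.ext
    ext i j
    simp
  · intro h
    apply Subtype.ext
    ext i j
    simp

end HermCount

section Final

variable {K : Type*} [Field K] [Fintype K] (σ : K →+* K) (hσ : IsInv σ) {q : ℕ}
  (hσq : ∀ x, σ x = x ^ q) (hK : Fintype.card K = q ^ 2) {t : ℕ} (d : Fin t → ℕ)
  (hd : ∀ k, 1 ≤ d k)

/-- multiplicity of the block size `i` -/
abbrev mult (i : ℕ) : ℕ := (Finset.univ.filter (fun k : Fin t => d k = i)).card

theorem card_unitsYh :
    Nat.card {y : Yh σ d // ∀ b, IsUnit (y.1 b)} =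
      ∏ b : Fin (BB d), Nat.card (HermU σ (mult d b.val)) := by
  rw [← Nat.card_pi]
  have h1 : Nat.card {y : Yh σ d // ∀ b, IsUnit (y.1 b)} =
      Nat.card (∀ b : Fin (BB d),
        {M : Matrix (SS d b.val) (SS d b.val) K // adjI σ M = M ∧ IsUnit M}) := by
    apply Nat.card_congr
    exact
      { toFun := fun y b => ⟨y.1.1 b, y.1.2 b, y.2 b⟩
        invFun := fun f => ⟨⟨fun b => (f b).1, fun b => (f b).2.1⟩, fun b => (f b).2.2⟩
        left_inv := fun y => rfl
        right_inv := fun f => rfl }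
  rw [h1, Nat.card_pi, Nat.card_pi]
  apply Finset.prod_congr rfl
  intro b _
  exact card_hermU_reindex σ (mult d b.val) (card_SS d b.val)

include hd in
/-- the exponent identity -/
theorem EW_eq :
    ∑ k, ∑ l, min (d l) (d k) =
      (2 * (∑ i ∈ Finset.range (BB d), ∑ j ∈ Finset.range (BB d),
          if i < j then i * mult d i * mult d j else 0) +
        ∑ i ∈ Finset.range (BB d), (i - 1) * mult d i ^ 2) +
      ∑ b : Fin (BB d), mult d b.val ^ 2 := by
  rw [Fin.sum_univ_eq_sum_range (fun i => mult d i ^ 2) (BB d),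
    ← arith (BB d) (fun i => mult d i)]
  · rw [sum_comp_eq d (BB d) (lt_BB d) (fun i => ∑ l, min (d l) i)]
    apply Finset.sum_congr rfl
    intro i _
    congr 1
    exact sum_comp_eq d (BB d) (lt_BB d) (fun j => min j i)
  · show mult d 0 = 0
    rw [mult, Finset.card_eq_zero, Finset.filter_eq_empty_iff]
    intro k _ hk
    have := hd k
    omega

theorem arith_final (S X C Hp Gp Up q γ EW EY : ℕ) (hq : 0 < q) (hHp : 0 < Hp)
    (h1 : C = S * X) (h2 : X * q ^ EY = Hp * q ^ EW) (h3 : C * (q ^ 2) ^ EY = Gp * (q ^ 2) ^ EW)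
    (h4 : Gp = Up * Hp) (h5 : EW = γ + EY) : S = q ^ γ * Up := by
  subst h1 h4 h5
  have hu : 0 < q ^ EY := pow_pos hq _
  have hv : 0 < q ^ γ := pow_pos hq _
  have hX : X = Hp * q ^ γ := by
    apply Nat.eq_of_mul_eq_mul_right hu
    rw [h2, pow_add]
    ring
  subst hX
  have h6 : S * (Hp * q ^ γ) * ((q ^ EY) ^ 2) = (q ^ γ * Up) * (Hp * q ^ γ) * ((q ^ EY) ^ 2) := by
    have e1 : (q ^ 2) ^ EY = (q ^ EY) ^ 2 := by rw [← pow_mul, ← pow_mul, mul_comm]
    have e2 : (q ^ 2) ^ (γ + EY) = (q ^ γ) ^ 2 * (q ^ EY) ^ 2 := by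
      rw [← pow_mul, ← pow_mul, ← pow_mul, ← pow_add]
      congr 1
      ring
    rw [e1, e2] at h3
    rw [h3]
    ring
  have h7 := Nat.eq_of_mul_eq_mul_right (pow_pos hu 2) h6
  exact Nat.eq_of_mul_eq_mul_right (Nat.mul_pos hHp hv) h7

include hσ hσq hK hd in
theorem card_StabJ (h1 : XJ σ d) :
    Nat.card (StabJ σ d h1.1) =
      q ^ (2 * (∑ i ∈ Finset.range (BB d), ∑ j ∈ Finset.range (BB d),
          if i < j then i * mult d i * mult d j else 0) +
        ∑ i ∈ Finset.range (BB d), (i - 1) * mult d i ^ 2) *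
      ∏ b : Fin (BB d), Nat.card (Cfsg.GU (mult d b.val) K q) := by
  have hq : 0 < q := by
    rcases Nat.eq_zero_or_pos q with h | h
    · exfalso
      rw [h] at hK
      have := Fintype.card_pos (α := K)
      rw [hK] at this
      simp at this
    · exact h
  -- the pieces
  have hC := card_CJ σ hσ d h1
  have hX : Nat.card (XJ σ d) = Nat.card {a : Ah σ hσ d // IsUnit a.1} :=
    Nat.card_congr (XJEquiv σ hσ d)
  have hXh := card_Xh σ hσ d hd
  have hY := card_unitsYh σ d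
  have hAh : Nat.card (Ah σ hσ d) = q ^ (∑ k, ∑ l, min (d l) (d k)) := by
    have h2 := card_Ah_sq σ hσ d
    rw [Nat.card_congr (AcommEquiv d hd), card_W d, hK, ← pow_mul, mul_comm, pow_mul] at h2
    exact Nat.pow_left_injective (n := 2) (by norm_num) h2
  have hYh : Nat.card (Yh σ d) = q ^ (∑ b : Fin (BB d), mult d b.val ^ 2) := by
    have h2 := card_Yh_sq σ hσ d
    rw [card_Y d, hK, ← pow_mul, mul_comm, pow_mul] at h2
    exact Nat.pow_left_injective (n := 2) (by norm_num) h2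
  have hcent := card_cent_mul (F := K) d hd
  have hCJ : Nat.card {g : GL ((k : Fin t) × Fin (d k)) K //
      (g : Matrix ((k : Fin t) × Fin (d k)) ((k : Fin t) × Fin (d k)) K) * jordanTypeMatrix d K =
        jordanTypeMatrix d K *
          (g : Matrix ((k : Fin t) × Fin (d k)) ((k : Fin t) × Fin (d k)) K)} =
      Nat.card (CJ K d) := rfl
  rw [hCJ, hK] at hcent
  have hGL : ∀ b : Fin (BB d), (∏ j : Fin (mult d b.val),
      ((q ^ 2) ^ (mult d b.val) - (q ^ 2) ^ (j : ℕ))) =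
      Nat.card (Cfsg.GU (mult d b.val) K q) * Nat.card (HermU σ (mult d b.val)) := by
    intro b
    rw [← card_GL_eq σ hσ hσq, Matrix.card_GL_field, hK]
  rw [Finset.prod_congr rfl (fun b _ => hGL b), Finset.prod_mul_distrib] at hcent
  have hHp : 0 < ∏ b : Fin (BB d), Nat.card (HermU σ (mult d b.val)) := by
    apply Finset.prod_pos
    intro b _
    apply Nat.card_pos_iff.2
    refine ⟨⟨⟨1, ?_, isUnit_one⟩⟩, inferInstance⟩
    exact adj_one σ
  rw [hX] at hC
  rw [hY, hAh, hYh] at hXh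
  exact arith_final _ _ _ _ _ _ q _ _ _ hq hHp hC hXh hcent rfl (EW_eq d hd)

end Final

end Cfsg.Agent.Lib.Helper8.GUCent
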