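import Mathlib
import Cfsg.Agent.Lib.Helper8.GUCentH

/-!
# Centralisers of unipotent elements in unitary groups, part I (helper8)

From the stabiliser of a form in the centraliser of the Jordan type matrix to the centraliser of a
unipotent element of `GU_n(q)`.
-/

set_option autoImplicit false

namespace Cfsg.Agent.Lib.Helper8.GUCent

open Cfsg Matrix Cfsg.Agent.Lib.Helper8.SUReg Cfsg.Agent.Lib.Helper8.JType
  Cfsg.Agent.Lib.Helper8.JCent

section Frob

variable {K : Type*} [Field K] [Fintype K] {q : ℕ}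

theorem exists_isInv (hK : Fintype.card K = q ^ 2) :
    ∃ σ : K →+* K, (∀ x, σ x = x ^ q) ∧ IsInv σ := by
  obtain ⟨σ, hσ, hσne, hσ2⟩ := Cfsg.Agent.S0277.exists_frob hK
  set σe : K ≃+* K := RingEquiv.ofRingHom σ σ (RingHom.ext hσ2) (RingHom.ext hσ2) with hσe
  have hσe_ne : σe ≠ RingEquiv.refl K := by
    intro h
    apply hσne
    ext x
    have := congrArg (fun f : K ≃+* K => f x) h
    exact this
  have htr : ∀ b : K, σ b = b → ∃ y : K, y + σ y = b := fun b hb =>
    Cfsg.Agent.Lib.Helper8.Unitary.tr_surj (σ := σe) hσe_ne hσ2 b hb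
  exact ⟨σ, hσ, ⟨hσ2, hσne, htr⟩⟩

end Frob

section MatLemmas

variable {K : Type*} [Field K] (σ : K →+* K) {n : ℕ}

theorem conj_comm_iff (cm ci A um J : Matrix (Fin n) (Fin n) K) (h1 : cm * ci = 1)
    (h2 : ci * cm = 1) (hc : cm * J = um * cm) :
    um * A = A * um ↔ (ci * A * cm) * J = J * (ci * A * cm) := by
  have hc' : J * ci = ci * um := by
    calc J * ci = (ci * cm) * J * ci := by rw [h2, Matrix.one_mul]
      _ = ci * (cm * J) * ci := by simp only [Matrix.mul_assoc]
      _ = ci * um * (cm * ci) := by rw [hc]; simp only [Matrix.mul_assoc]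
      _ = ci * um := by rw [h1, Matrix.mul_one]
  constructor
  · intro h
    calc (ci * A * cm) * J = ci * A * (cm * J) := by simp only [Matrix.mul_assoc]
      _ = ci * (A * um) * cm := by rw [hc]; simp only [Matrix.mul_assoc]
      _ = (ci * um) * A * cm := by rw [← h]; simp only [Matrix.mul_assoc]
      _ = J * (ci * A * cm) := by rw [← hc']; simp only [Matrix.mul_assoc]
  · intro h
    have hA : A = cm * (ci * A * cm) * ci := by
      calc A = (cm * ci) * A * (cm * ci) := by rw [h1, Matrix.one_mul, Matrix.mul_one]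
        _ = cm * (ci * A * cm) * ci := by simp only [Matrix.mul_assoc]
    calc um * A = um * (cm * (ci * A * cm) * ci) := by rw [← hA]
      _ = (um * cm) * (ci * A * cm) * ci := by simp only [Matrix.mul_assoc]
      _ = cm * (J * (ci * A * cm)) * ci := by rw [← hc]; simp only [Matrix.mul_assoc]
      _ = cm * (ci * A * cm) * (J * ci) := by rw [← h]; simp only [Matrix.mul_assoc]
      _ = (cm * (ci * A * cm) * ci) * um := by rw [hc']; simp only [Matrix.mul_assoc]
      _ = A * um := by rw [← hA]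

theorem conj_unitary_iff (cm ci A : Matrix (Fin n) (Fin n) K) (h1 : cm * ci = 1)
    (h2 : ci * cm = 1) :
    adj σ A * A = 1 ↔
      adj σ (ci * A * cm) * (adj σ cm * cm) * (ci * A * cm) = adj σ cm * cm := by
  have e1 : adj σ ci * adj σ cm = 1 := by rw [← adj_mul, h1, adj_one]
  have e2 : adj σ cm * adj σ ci = 1 := by rw [← adj_mul, h2, adj_one]
  have e3 : adj σ (ci * A * cm) * (adj σ cm * cm) * (ci * A * cm) =
      adj σ cm * (adj σ A * A) * cm := by
    rw [adj_mul, adj_mul]
    calc adj σ cm * (adj σ A * adj σ ci) * (adj σ cm * cm) * (ci * A * cm)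
        = adj σ cm * adj σ A * (adj σ ci * adj σ cm) * (cm * ci) * A * cm := by
          simp only [Matrix.mul_assoc]
      _ = adj σ cm * (adj σ A * A) * cm := by
          rw [e1, h1, Matrix.mul_one, Matrix.mul_one]; simp only [Matrix.mul_assoc]
  rw [e3]
  constructor
  · intro h
    rw [h, Matrix.mul_one]
  · intro h
    calc adj σ A * A = (adj σ ci * adj σ cm) * (adj σ A * A) * (cm * ci) := by
          rw [e1, h1, Matrix.one_mul, Matrix.mul_one]
      _ = adj σ ci * (adj σ cm * (adj σ A * A) * cm) * ci := by simp only [Matrix.mul_assoc]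
      _ = adj σ ci * (adj σ cm * cm) * ci := by rw [h]
      _ = (adj σ ci * adj σ cm) * (cm * ci) := by simp only [Matrix.mul_assoc]
      _ = 1 := by rw [e1, h1, Matrix.mul_one]

end MatLemmas

section Glue

variable {K : Type*} [Field K] [Fintype K] {q n t : ℕ}

theorem card_centralizer_GU (hK : Fintype.card K = q ^ 2) (d : Fin t → ℕ) (hd : ∀ k, 1 ≤ d k)
    (e : II d ≃ Fin n) (u : ↥(Cfsg.GU n K q))
    (hu : IsConj (Matrix.reindex e e (Cfsg.jordanTypeMatrix d K))
      ((u : GL (Fin n) K) : Matrix (Fin n) (Fin n) K)) :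
    Nat.card ↥(Subgroup.centralizer ({u} : Set ↥(Cfsg.GU n K q))) =
      q ^ (2 * (∑ i ∈ Finset.range (BB d), ∑ j ∈ Finset.range (BB d),
          if i < j then i * mult d i * mult d j else 0) +
        ∑ i ∈ Finset.range (BB d), (i - 1) * mult d i ^ 2) *
      ∏ b : Fin (BB d), Nat.card (Cfsg.GU (mult d b.val) K q) := by
  classical
  obtain ⟨σ, hσq, hσ⟩ := exists_isInv hK
  obtain ⟨c, hc⟩ := hu
  set JTe := Matrix.reindex e e (Cfsg.jordanTypeMatrix d K) with hJTe
  set um : Matrix (Fin n) (Fin n) K := ((u : GL (Fin n) K) : Matrix (Fin n) (Fin n) K) with hum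
  have hc' : c.1 * JTe = um * c.1 := hc
  have hcc : c.1 * (c⁻¹).1 = 1 := by rw [← Units.val_mul, mul_inv_cancel, Units.val_one]
  have hcc' : (c⁻¹).1 * c.1 = 1 := by rw [← Units.val_mul, inv_mul_cancel, Units.val_one]
  have huU : adj σ um * um = 1 := (mem_GU_iff σ hσq (u : GL (Fin n) K)).1 u.2
  -- the transport to the sigma index type
  set R : Matrix (Fin n) (Fin n) K ≃ Matrix (II d) (II d) K := Matrix.reindex e.symm e.symm with hR
  have R_mul : ∀ A B : Matrix (Fin n) (Fin n) K, R (A * B) = R A * R B :=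
    fun A B => reindex_mul' e.symm A B
  have R_adj : ∀ A : Matrix (Fin n) (Fin n) K, adjI σ (R A) = R (adj σ A) :=
    fun A => adjI_reindex_symm σ e A
  have R_JT : R JTe = jordanTypeMatrix d K := by
    ext i j
    simp [hR, hJTe]
  have R_inj : Function.Injective R := (Matrix.reindex e.symm e.symm).injective
  set h1e := adj σ c.1 * c.1 with hh1e
  have hinv_e : adj σ JTe * h1e * JTe = h1e := by
    calc adj σ JTe * (adj σ c.1 * c.1) * JTe = adj σ (c.1 * JTe) * (c.1 * JTe) := by
          rw [adj_mul]; simp only [Matrix.mul_assoc]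
      _ = adj σ c.1 * (adj σ um * um) * c.1 := by
          rw [hc', adj_mul]; simp only [Matrix.mul_assoc]
      _ = adj σ c.1 * c.1 := by rw [huU, Matrix.mul_one]
  have hXJ : adjI σ (R h1e) = R h1e ∧ IsUnit (R h1e) ∧
      adjI σ (jordanTypeMatrix d K) * R h1e * jordanTypeMatrix d K = R h1e := by
    refine ⟨?_, ?_, ?_⟩
    · rw [R_adj, hh1e, adj_mul, adj_adj σ hσ.inv]
    · rw [Matrix.isUnit_iff_isUnit_det, hR, Matrix.det_reindex_self, hh1e, Matrix.det_mul, det_adj]
      have hdet : c.1.det ≠ 0 := (Matrix.isUnits_det_units c).ne_zero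
      exact IsUnit.mk0 _ (mul_ne_zero (by rw [Ne, map_eq_zero]; exact hdet) hdet)
    · rw [← R_JT, R_adj, ← R_mul, ← R_mul, hinv_e]
  rw [← card_StabJ σ hσ hσq hK d hd ⟨R h1e, hXJ⟩]
  -- step A+B
  have stepA : Nat.card ↥(Subgroup.centralizer ({u} : Set ↥(Cfsg.GU n K q))) =
      Nat.card {w : GL (Fin n) K // w ∈ Cfsg.GU n K q ∧ um * w.1 = w.1 * um} := by
    apply Nat.card_congr
    exact
      { toFun := fun x => ⟨x.1.1, x.1.2, by
          have h := Subgroup.mem_centralizer_iff.1 x.2 u (Set.mem_singleton u)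
          have h' := congrArg (fun z : ↥(Cfsg.GU n K q) => ((z : GL (Fin n) K)).1) h
          exact h'⟩
        invFun := fun y => ⟨⟨y.1, y.2.1⟩, by
          rw [Subgroup.mem_centralizer_iff]
          intro h hh
          rw [Set.mem_singleton_iff.1 hh]
          apply Subtype.ext
          apply Units.ext
          exact y.2.2⟩
        left_inv := fun x => rfl
        right_inv := fun y => rfl }
  -- step C1
  have stepC1 : Nat.card {w : GL (Fin n) K // w ∈ Cfsg.GU n K q ∧ um * w.1 = w.1 * um} =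
      Nat.card {g0 : GL (Fin n) K // g0.1 * JTe = JTe * g0.1 ∧
        adj σ g0.1 * h1e * g0.1 = h1e} := by
    apply Nat.card_congr
    apply Equiv.subtypeEquiv (MulAut.conj c⁻¹).toEquiv
    intro w
    have hval : ((MulAut.conj c⁻¹).toEquiv w).1 = (c⁻¹).1 * w.1 * c.1 := by
      show ((MulAut.conj c⁻¹) w).1 = _
      rw [MulAut.conj_apply, inv_inv, Units.val_mul, Units.val_mul]
    rw [hval, mem_GU_iff σ hσq, ← conj_comm_iff c.1 (c⁻¹).1 w.1 um JTe hcc hcc' hc',
      ← conj_unitary_iff σ c.1 (c⁻¹).1 w.1 hcc hcc']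
    exact and_comm
  -- step C2
  have stepC2 : Nat.card {g0 : GL (Fin n) K // g0.1 * JTe = JTe * g0.1 ∧
        adj σ g0.1 * h1e * g0.1 = h1e} =
      Nat.card {g : GL (II d) K // g ∈ CJ K d ∧ adjI σ g.1 * R h1e * g.1 = R h1e} := by
    apply Nat.card_congr
    apply Equiv.subtypeEquiv
      (Units.mapEquiv (Matrix.reindexAlgEquiv K K e.symm).toMulEquiv).toEquiv
    intro g0
    have hval : ((Units.mapEquiv (Matrix.reindexAlgEquiv K K e.symm).toMulEquiv).toEquiv g0).1 =
        R g0.1 := rfl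
    rw [mem_CJ, hval, ← R_JT, R_adj, ← R_mul, ← R_mul, ← R_mul, ← R_mul, R_inj.eq_iff, R_inj.eq_iff]
  -- step D
  have stepD : Nat.card {g : GL (II d) K // g ∈ CJ K d ∧ adjI σ g.1 * R h1e * g.1 = R h1e} =
      Nat.card (StabJ σ d (R h1e)) := by
    apply Nat.card_congr
    exact
      { toFun := fun g => ⟨⟨g.1, g.2.1⟩, g.2.2⟩
        invFun := fun g => ⟨g.1.1, g.1.2, g.2⟩
        left_inv := fun g => rfl
        right_inv := fun g => rfl }
  rw [stepA, stepC1, stepC2, stepD]

end Glue

end Cfsg.Agent.Lib.Helper8.GUCent
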