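import Mathlib
import Cfsg.Prelude.Def_Classical
import Cfsg.Prelude.Def_LieClassical

set_option autoImplicit false

/-!
The unitary group `GU_m(q)` embeds in an orthogonal group of dimension `2m` over the field with
`q` elements: restriction of scalars of the hermitian form.
-/

namespace Cfsg.Agent.Lib.Helper8.GUOrth

open Matrix Cfsg

section Transfer

variable {F K : Type*} [Field F] [Field K] [Algebra F K]

/-- restriction of scalars on endomorphisms as a monoid hom -/
def rsHom (V : Type*) [AddCommGroup V] [Module K V] [Module F V] [IsScalarTower F K V] :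
    Module.End K V →* Module.End F V where
  toFun f := f.restrictScalars F
  map_one' := rfl
  map_mul' _ _ := rfl

theorem rsHom_injective (V : Type*) [AddCommGroup V] [Module K V] [Module F V]
    [IsScalarTower F K V] : Function.Injective (rsHom (F := F) (K := K) V) := by
  intro f g hfg
  ext v
  have := congrArg (fun h : Module.End F V => h v) hfg
  exact this

variable {I : Type} [Fintype I] [DecidableEq I] {m : ℕ}

/-- the embedding on the level of general linear groups -/
noncomputable def Φ (Ψ : (I → F) ≃ₗ[F] (Fin m → K)) : GL (Fin m) K →* GL I F :=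
  (Matrix.GeneralLinearGroup.toLin.symm.toMonoidHom).comp
    ((LinearMap.GeneralLinearGroup.congrLinearEquiv Ψ.symm).toMonoidHom.comp
      ((Units.map (rsHom (F := F) (K := K) (Fin m → K))).comp
        (Matrix.GeneralLinearGroup.toLin.toMonoidHom)))

theorem Φ_mulVec (Ψ : (I → F) ≃ₗ[F] (Fin m → K)) (g : GL (Fin m) K) (w : I → F) :
    (Φ Ψ g).1 *ᵥ w = Ψ.symm (g.1 *ᵥ (Ψ w)) := by
  rw [← Matrix.toLinAlgEquiv'_apply]
  have h0 : Matrix.GeneralLinearGroup.toLin (Φ Ψ g) =
      LinearMap.GeneralLinearGroup.congrLinearEquiv Ψ.symm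
        (Units.map (rsHom (F := F) (K := K) (Fin m → K))
          (Matrix.GeneralLinearGroup.toLin g)) := by
    unfold Φ
    simp only [MonoidHom.coe_comp, MulEquiv.coe_toMonoidHom, Function.comp_apply,
      MulEquiv.apply_symm_apply]
  have h1 : toLinAlgEquiv' (Φ Ψ g).1 = (Matrix.GeneralLinearGroup.toLin (Φ Ψ g)).1 := rfl
  rw [h1, h0]
  show Ψ.symm ((toLinAlgEquiv' g.1) (Ψ.symm.symm w)) = _
  rw [Matrix.toLinAlgEquiv'_apply]
  rfl

theorem Φ_injective (Ψ : (I → F) ≃ₗ[F] (Fin m → K)) : Function.Injective (Φ Ψ) := by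
  unfold Φ
  simp only [MonoidHom.coe_comp, MulEquiv.coe_toMonoidHom]
  refine (MulEquiv.injective _).comp ((MulEquiv.injective _).comp
    ((Units.map_injective (rsHom_injective _)).comp (MulEquiv.injective _)))

theorem transfer (q : ℕ) (Ψ : (I → F) ≃ₗ[F] (Fin m → K)) (Q : (I → F) → F)
    (hQ : ∀ w, algebraMap F K (Q w) = hermForm m K q (Ψ w) (Ψ w)) :
    ∃ φ : ↥(GU m K q) →* ↥(isometryGroup F Q), Function.Injective φ := by
  have hmem : ∀ g : ↥(GU m K q), Φ Ψ g.1 ∈ isometryGroup F Q := by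
    intro g w _
    show Q ((Φ Ψ g.1).1 *ᵥ w) = Q w
    apply (algebraMap F K).injective
    rw [hQ, hQ, Φ_mulVec, LinearEquiv.apply_symm_apply]
    exact g.2 (Ψ w) (Ψ w)
  refine ⟨((Φ Ψ).comp (Subgroup.subtype _)).codRestrict _ hmem, ?_⟩
  intro g h hgh
  have h4 : Φ Ψ g.1 = Φ Ψ h.1 := congrArg Subtype.val hgh
  exact Subtype.ext (Φ_injective Ψ h4)

end Transfer


section Frob

variable {F K : Type*} [Field F] [Fintype F] [Field K] [Algebra F K] {q : ℕ}

variable (F K) in
/-- the `q`-power map as a ring hom of `K` -/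
noncomputable def conj : K →+* K := (FiniteField.frobeniusAlgHom F K).toRingHom

theorem conj_apply (hF : Fintype.card F = q) (x : K) : conj F K x = x ^ q := by
  subst hF; rfl

theorem conj_conj [Fintype K] (hF : Fintype.card F = q) (hK : Fintype.card K = q ^ 2) (x : K) :
    conj F K (conj F K x) = x := by
  rw [conj_apply hF, conj_apply hF, ← pow_mul, ← sq, ← hK, FiniteField.pow_card]

theorem conj_algebraMap (x : F) : conj F K (algebraMap F K x) = algebraMap F K x :=
  AlgHom.commutes _ x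

open Polynomial in
theorem mem_range_of_conj_eq (hF : Fintype.card F = q) (x : K) (hx : conj F K x = x) :
    ∃ y : F, algebraMap F K y = x := by
  classical
  let P : K[X] := X ^ q - X
  have hq : 1 < q := hF ▸ Fintype.one_lt_card
  have hP : P ≠ 0 := FiniteField.X_pow_card_sub_X_ne_zero K hq
  have hdeg : P.natDegree = q := FiniteField.X_pow_card_sub_X_natDegree_eq K hq
  have hsub : Finset.univ.image (algebraMap F K) ⊆ P.roots.toFinset := by
    intro z hz
    obtain ⟨y, -, rfl⟩ := Finset.mem_image.mp hz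
    rw [Multiset.mem_toFinset, mem_roots hP]
    have h1 : y ^ q = y := hF ▸ FiniteField.pow_card y
    simp [P, IsRoot, ← map_pow, h1]
  have hcard : P.roots.toFinset.card ≤ (Finset.univ.image (algebraMap F K)).card := by
    rw [Finset.card_image_of_injective _ (algebraMap F K).injective, Finset.card_univ, hF]
    calc _ ≤ P.roots.card := Multiset.toFinset_card_le _
      _ ≤ P.natDegree := card_roots' P
      _ = q := hdeg
  have heq := Finset.eq_of_subset_of_card_le hsub hcard
  have hmem : x ∈ P.roots.toFinset := by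
    rw [Multiset.mem_toFinset, mem_roots hP]
    rw [conj_apply hF] at hx
    simp [P, IsRoot, hx]
  rw [← heq] at hmem
  obtain ⟨y, -, hy⟩ := Finset.mem_image.mp hmem
  exact ⟨y, hy⟩

theorem exists_conj_ne [Fintype K] (hF : Fintype.card F = q) (hK : Fintype.card K = q ^ 2) :
    ∃ θ : K, conj F K θ ≠ θ := by
  by_contra hcon
  have hall : ∀ θ : K, conj F K θ = θ := by
    intro θ
    by_contra h
    exact hcon ⟨θ, h⟩
  have hsurj : Function.Surjective (algebraMap F K) := fun x =>
    mem_range_of_conj_eq hF x (hall x)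
  have h1 := Fintype.card_le_of_surjective _ hsurj
  rw [hF, hK] at h1
  have hq : 1 < q := hF ▸ Fintype.one_lt_card
  nlinarith

theorem exists_norm_neg_one [Fintype K] (hF : Fintype.card F = q) (hK : Fintype.card K = q ^ 2) :
    ∃ l : K, l * conj F K l = -1 := by
  classical
  by_cases h2 : Fintype.card K % 2 = 0
  · have hchar : ringChar K = 2 := FiniteField.even_card_iff_char_two.mpr h2
    have : CharP K 2 := ringChar.of_eq hchar
    refine ⟨1, ?_⟩
    rw [map_one, mul_one]
    exact (CharTwo.neg_eq (1 : K)).symm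
  · have hqodd : q % 2 = 1 := by
      rw [hK] at h2
      rcases Nat.even_or_odd q with he | ho
      · exfalso; apply h2
        have : Even (q ^ 2) := Nat.even_pow.mpr ⟨he, two_ne_zero⟩
        exact Nat.even_iff.mp this
      · exact Nat.odd_iff.mp ho
    obtain ⟨g, hg⟩ := IsCyclic.exists_generator (α := Kˣ)
    have hord : orderOf g = q ^ 2 - 1 := by
      rw [orderOf_eq_card_of_forall_mem_zpowers hg, Nat.card_eq_fintype_card, Fintype.card_units, hK]
    have hq : 1 < q := hF ▸ Fintype.one_lt_card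
    set e : ℕ := (q - 1) / 2 * (q + 1) with he
    have he2 : e * 2 = q ^ 2 - 1 := by
      have h3 : (q - 1) / 2 * 2 = q - 1 := by omega
      have h4 : (q - 1) * (q + 1) = q ^ 2 - 1 := by
        obtain ⟨r, rfl⟩ : ∃ r, q = r + 1 := ⟨q - 1, by omega⟩
        simp only [Nat.add_sub_cancel]
        have : (r + 1) ^ 2 = r * (r + 1 + 1) + 1 := by ring
        rw [this]; simp
      calc e * 2 = (q - 1) / 2 * 2 * (q + 1) := by rw [he]; ring
        _ = q ^ 2 - 1 := by rw [h3, h4]
    have hqq : 3 ≤ q ^ 2 - 1 := by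
      have : 4 ≤ q ^ 2 := by nlinarith
      omega
    have hne : g ^ e ≠ 1 := by
      apply pow_ne_one_of_lt_orderOf
      · omega
      · rw [hord]; omega
    have hsq : (g ^ e) ^ 2 = 1 := by
      rw [← pow_mul, he2, ← hord, pow_orderOf_eq_one]
    refine ⟨((g ^ ((q - 1) / 2) : Kˣ) : K), ?_⟩
    rw [conj_apply hF, ← pow_succ']
    have h5 : (((g ^ ((q - 1) / 2) : Kˣ) : K)) ^ (q + 1) = ((g ^ e : Kˣ) : K) := by
      rw [he, pow_mul]; push_cast; rfl
    rw [h5]
    have h6 : (((g ^ e : Kˣ) : K)) ^ 2 = 1 := by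
      have := congrArg (fun u : Kˣ => (u : K)) hsq
      simpa using this
    have h7 : (((g ^ e : Kˣ) : K)) ≠ 1 := by
      intro h
      apply hne
      exact Units.ext h
    have h8 : ((((g ^ e : Kˣ) : K)) - 1) * ((((g ^ e : Kˣ) : K)) + 1) = 0 := by
      linear_combination h6
    rcases mul_eq_zero.mp h8 with h | h
    · exact absurd (sub_eq_zero.mp h) h7
    · linear_combination h

end Frob


section Block

variable {F K : Type*} [Field F] [Field K] [Algebra F K] (σ : K →+* K) (θ l : K)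

/-- first coordinate of the image of a hyperbolic block -/
noncomputable def blkU (x₁ x₂ y₁ y₂ : F) : K :=
  algebraMap F K x₁ + algebraMap F K x₂ * θ +
    (1 - θ / (θ - σ θ)) * ((algebraMap F K y₁ * θ - algebraMap F K y₂) / (θ - σ θ))

/-- second coordinate of the image of a hyperbolic block -/
noncomputable def blkV (x₁ x₂ y₁ y₂ : F) : K :=
  l * (algebraMap F K x₁ + algebraMap F K x₂ * θ -
    θ / (θ - σ θ) * ((algebraMap F K y₁ * θ - algebraMap F K y₂) / (θ - σ θ)))

theorem blkU_add (x₁ x₂ y₁ y₂ x₁' x₂' y₁' y₂' : F) :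
    blkU σ θ (x₁ + x₁') (x₂ + x₂') (y₁ + y₁') (y₂ + y₂') =
      blkU σ θ x₁ x₂ y₁ y₂ + blkU σ θ x₁' x₂' y₁' y₂' := by
  simp only [blkU, map_add]; ring

theorem blkV_add (x₁ x₂ y₁ y₂ x₁' x₂' y₁' y₂' : F) :
    blkV σ θ l (x₁ + x₁') (x₂ + x₂') (y₁ + y₁') (y₂ + y₂') =
      blkV σ θ l x₁ x₂ y₁ y₂ + blkV σ θ l x₁' x₂' y₁' y₂' := by
  simp only [blkV, map_add]; ring

theorem blkU_smul (r x₁ x₂ y₁ y₂ : F) :
    blkU σ θ (r * x₁) (r * x₂) (r * y₁) (r * y₂) =
      algebraMap F K r * blkU σ θ x₁ x₂ y₁ y₂ := by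
  simp only [blkU, map_mul]; ring

theorem blkV_smul (r x₁ x₂ y₁ y₂ : F) :
    blkV σ θ l (r * x₁) (r * x₂) (r * y₁) (r * y₂) =
      algebraMap F K r * blkV σ θ l x₁ x₂ y₁ y₂ := by
  simp only [blkV, map_mul]; ring

variable (hσ : ∀ x, σ (σ x) = x) (hfix : ∀ y : F, σ (algebraMap F K y) = algebraMap F K y)

include hσ hfix in
theorem blk_norm (hθ : σ θ ≠ θ) (hl : l * σ l = -1) (x₁ x₂ y₁ y₂ : F) :
    blkU σ θ x₁ x₂ y₁ y₂ * σ (blkU σ θ x₁ x₂ y₁ y₂) +
      blkV σ θ l x₁ x₂ y₁ y₂ * σ (blkV σ θ l x₁ x₂ y₁ y₂) =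
      algebraMap F K (x₁ * y₁ + x₂ * y₂) := by
  have hδ : θ - σ θ ≠ 0 := sub_ne_zero.mpr (Ne.symm hθ)
  have hδ' : σ θ - θ ≠ 0 := sub_ne_zero.mpr hθ
  have hV : blkV σ θ l x₁ x₂ y₁ y₂ * σ (blkV σ θ l x₁ x₂ y₁ y₂) =
      -((blkV σ θ 1 x₁ x₂ y₁ y₂) * σ (blkV σ θ 1 x₁ x₂ y₁ y₂)) := by
    simp only [blkV, map_mul, one_mul]
    linear_combination
      ((algebraMap F K x₁ + algebraMap F K x₂ * θ -
        θ / (θ - σ θ) * ((algebraMap F K y₁ * θ - algebraMap F K y₂) / (θ - σ θ))) *
        σ (algebraMap F K x₁ + algebraMap F K x₂ * θ -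
        θ / (θ - σ θ) * ((algebraMap F K y₁ * θ - algebraMap F K y₂) / (θ - σ θ)))) * hl
  rw [hV]
  simp only [blkU, blkV, map_add, map_sub, map_mul, map_div₀, map_one, one_mul, hσ, hfix]
  field_simp
  ring

include hfix in
theorem coord_zero (hθ : σ θ ≠ θ) (s t : F) (h : algebraMap F K s * θ + algebraMap F K t = 0) :
    s = 0 ∧ t = 0 := by
  have h2 := congrArg σ h
  simp only [map_add, map_mul, map_zero, hfix] at h2
  have h3 : algebraMap F K s * (θ - σ θ) = 0 := by linear_combination h - h2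
  have hδ : θ - σ θ ≠ 0 := sub_ne_zero.mpr (Ne.symm hθ)
  have h4 : algebraMap F K s = 0 := by
    rcases mul_eq_zero.mp h3 with h | h
    · exact h
    · exact absurd h hδ
  have hs : s = 0 := (map_eq_zero _).mp h4
  subst hs
  have h5 : algebraMap F K t = 0 := by simpa using h
  exact ⟨rfl, (map_eq_zero _).mp h5⟩

include hfix in
theorem blk_zero (hθ : σ θ ≠ θ) (hl : l ≠ 0) (x₁ x₂ y₁ y₂ : F)
    (hU : blkU σ θ x₁ x₂ y₁ y₂ = 0) (hV : blkV σ θ l x₁ x₂ y₁ y₂ = 0) :
    x₁ = 0 ∧ x₂ = 0 ∧ y₁ = 0 ∧ y₂ = 0 := by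
  have hδ : θ - σ θ ≠ 0 := sub_ne_zero.mpr (Ne.symm hθ)
  have hV0 : algebraMap F K x₁ + algebraMap F K x₂ * θ -
      θ / (θ - σ θ) * ((algebraMap F K y₁ * θ - algebraMap F K y₂) / (θ - σ θ)) = 0 := by
    rcases mul_eq_zero.mp hV with h | h
    · exact absurd h hl
    · exact h
  have hd : (algebraMap F K y₁ * θ - algebraMap F K y₂) / (θ - σ θ) = 0 := by
    unfold blkU at hU
    linear_combination hU - hV0
  have hd' : algebraMap F K y₁ * θ + algebraMap F K (-y₂) = 0 := by
    rcases div_eq_zero_iff.mp hd with h | h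
    · rw [map_neg]; linear_combination h
    · exact absurd h hδ
  obtain ⟨hy1, hy2⟩ := coord_zero σ θ hfix hθ y₁ (-y₂) hd'
  have hw : algebraMap F K x₂ * θ + algebraMap F K x₁ = 0 := by
    rw [hd] at hV0
    linear_combination hV0
  obtain ⟨hx2, hx1⟩ := coord_zero σ θ hfix hθ x₂ x₁ hw
  exact ⟨hx1, hx2, hy1, neg_eq_zero.mp hy2⟩

end Block


section Psi

variable {F K : Type*} [Field F] [Field K] [Algebra F K] (σ : K →+* K) (θ l : K) (k : ℕ)

/-- the map `F^{4k} → K^{2k}` built from hyperbolic blocks -/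
noncomputable def psiE (w : Fin (k + k) ⊕ Fin (k + k) → F) : Fin (k + k) → K :=
  Fin.addCases
    (fun j => blkU σ θ (w (.inl (Fin.castAdd k j))) (w (.inl (Fin.natAdd k j)))
      (w (.inr (Fin.castAdd k j))) (w (.inr (Fin.natAdd k j))))
    (fun j => blkV σ θ l (w (.inl (Fin.castAdd k j))) (w (.inl (Fin.natAdd k j)))
      (w (.inr (Fin.castAdd k j))) (w (.inr (Fin.natAdd k j))))

theorem psiE_add (w w' : Fin (k + k) ⊕ Fin (k + k) → F) :
    psiE σ θ l k (w + w') = psiE σ θ l k w + psiE σ θ l k w' := by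
  funext i
  refine Fin.addCases (fun j => ?_) (fun j => ?_) i
  · simp only [psiE, Fin.addCases_left, Pi.add_apply, blkU_add]
  · simp only [psiE, Fin.addCases_right, Pi.add_apply, blkV_add]

theorem psiE_smul (r : F) (w : Fin (k + k) ⊕ Fin (k + k) → F) :
    psiE σ θ l k (r • w) = r • psiE σ θ l k w := by
  funext i
  refine Fin.addCases (fun j => ?_) (fun j => ?_) i
  · simp only [psiE, Fin.addCases_left, Pi.smul_apply, smul_eq_mul, blkU_smul, Algebra.smul_def]
  · simp only [psiE, Fin.addCases_right, Pi.smul_apply, smul_eq_mul, blkV_smul, Algebra.smul_def]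

variable (hσ : ∀ x, σ (σ x) = x) (hfix : ∀ y : F, σ (algebraMap F K y) = algebraMap F K y)

include hfix in
theorem psiE_zero (hθ : σ θ ≠ θ) (hl : l ≠ 0) (w : Fin (k + k) ⊕ Fin (k + k) → F)
    (hw : psiE σ θ l k w = 0) : w = 0 := by
  have h : ∀ j : Fin k, w (.inl (Fin.castAdd k j)) = 0 ∧ w (.inl (Fin.natAdd k j)) = 0 ∧
      w (.inr (Fin.castAdd k j)) = 0 ∧ w (.inr (Fin.natAdd k j)) = 0 := by
    intro j
    apply blk_zero σ θ l hfix hθ hl
    · have := congrFun hw (Fin.castAdd k j)
      simpa only [psiE, Fin.addCases_left, Pi.zero_apply] using this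
    · have := congrFun hw (Fin.natAdd k j)
      simpa only [psiE, Fin.addCases_right, Pi.zero_apply] using this
  funext i
  rcases i with i | i
  · refine Fin.addCases (fun j => ?_) (fun j => ?_) i
    · exact (h j).1
    · exact (h j).2.1
  · refine Fin.addCases (fun j => ?_) (fun j => ?_) i
    · exact (h j).2.2.1
    · exact (h j).2.2.2

include hσ hfix in
theorem psiE_form (q : ℕ) (hq : ∀ x, σ x = x ^ q) (hθ : σ θ ≠ θ) (hl : l * σ l = -1)
    (w : Fin (k + k) ⊕ Fin (k + k) → F) :
    algebraMap F K (quadFormPlus (k + k) F w) =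
      hermForm (k + k) K q (psiE σ θ l k w) (psiE σ θ l k w) := by
  unfold quadFormPlus hermForm
  simp only [← hq]
  rw [Fin.sum_univ_add, Fin.sum_univ_add]
  simp only [psiE, Fin.addCases_left, Fin.addCases_right]
  rw [← Finset.sum_add_distrib, ← Finset.sum_add_distrib, map_sum]
  refine Finset.sum_congr rfl (fun j _ => ?_)
  rw [blk_norm σ θ l hσ hfix hθ hl]

/-- the map `F^{4k+2} → K^{2k+1}` -/
noncomputable def psiO (w : (Fin (k + k) ⊕ Fin (k + k)) ⊕ Fin 2 → F) : Fin (k + k + 1) → K :=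
  Fin.snoc (α := fun _ => K) (psiE σ θ l k (fun i => w (.inl i)))
    (algebraMap F K (w (.inr 0)) + algebraMap F K (w (.inr 1)) * θ)

theorem psiO_add (w w' : (Fin (k + k) ⊕ Fin (k + k)) ⊕ Fin 2 → F) :
    psiO σ θ l k (w + w') = psiO σ θ l k w + psiO σ θ l k w' := by
  funext i
  refine Fin.lastCases ?_ (fun j => ?_) i
  · simp only [psiO, Fin.snoc_last, Pi.add_apply, map_add]; ring
  · simp only [psiO, Fin.snoc_castSucc, Pi.add_apply]
    have := congrFun (psiE_add σ θ l k (fun i => w (.inl i)) (fun i => w' (.inl i))) j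
    exact this

theorem psiO_smul (r : F) (w : (Fin (k + k) ⊕ Fin (k + k)) ⊕ Fin 2 → F) :
    psiO σ θ l k (r • w) = r • psiO σ θ l k w := by
  funext i
  refine Fin.lastCases ?_ (fun j => ?_) i
  · simp only [psiO, Fin.snoc_last, Pi.smul_apply, smul_eq_mul, map_mul, Algebra.smul_def]; ring
  · simp only [psiO, Fin.snoc_castSucc, Pi.smul_apply]
    have := congrFun (psiE_smul σ θ l k r (fun i => w (.inl i))) j
    exact this

include hfix in
theorem psiO_zero (hθ : σ θ ≠ θ) (hl : l ≠ 0) (w : (Fin (k + k) ⊕ Fin (k + k)) ⊕ Fin 2 → F)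
    (hw : psiO σ θ l k w = 0) : w = 0 := by
  have h1 : psiE σ θ l k (fun i => w (.inl i)) = 0 := by
    funext j
    have := congrFun hw j.castSucc
    simpa only [psiO, Fin.snoc_castSucc, Pi.zero_apply] using this
  have h2 := psiE_zero σ θ l k hfix hθ hl _ h1
  have h3 : algebraMap F K (w (.inr 1)) * θ + algebraMap F K (w (.inr 0)) = 0 := by
    have := congrFun hw (Fin.last _)
    simp only [psiO, Fin.snoc_last, Pi.zero_apply] at this
    linear_combination this
  obtain ⟨h4, h5⟩ := coord_zero σ θ hfix hθ _ _ h3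
  funext i
  rcases i with i | i
  · exact congrFun h2 i
  · fin_cases i
    · exact h5
    · exact h4

include hσ hfix in
theorem psiO_form (q : ℕ) (hq : ∀ x, σ x = x ^ q) (hθ : σ θ ≠ θ) (hl : l * σ l = -1) (a b : F)
    (ha : θ + σ θ = algebraMap F K a) (hb : θ * σ θ = algebraMap F K b)
    (w : (Fin (k + k) ⊕ Fin (k + k)) ⊕ Fin 2 → F) :
    algebraMap F K (quadFormMinus (k + k) F a b w) =
      hermForm (k + k + 1) K q (psiO σ θ l k w) (psiO σ θ l k w) := by
  have h1 := psiE_form σ θ l k hσ hfix q hq hθ hl (fun i => w (.inl i))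
  unfold quadFormPlus at h1
  unfold quadFormMinus
  unfold hermForm at h1 ⊢
  rw [Fin.sum_univ_castSucc]
  simp only [psiO, Fin.snoc_castSucc, Fin.snoc_last]
  rw [map_add, h1]
  congr 1
  rw [← hq]
  simp only [map_add, map_mul, map_pow, hfix]
  rw [← ha, ← hb]
  ring

end Psi

section Final

variable {F K : Type*} [Field F] [Fintype F] [Field K] [Fintype K] [Algebra F K] {q : ℕ}

theorem even_case (hF : Fintype.card F = q) (hK : Fintype.card K = q ^ 2) (k : ℕ) :
    ∃ φ : ↥(GU (k + k) K q) →* ↥(isometryGroup F (quadFormPlus (k + k) F)),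
      Function.Injective φ := by
  classical
  obtain ⟨θ, hθ⟩ := exists_conj_ne (F := F) hF hK
  obtain ⟨l, hl⟩ := exists_norm_neg_one (F := F) hF hK
  have hl0 : l ≠ 0 := by
    rintro rfl
    simp at hl
  have hσ := conj_conj (F := F) hF hK
  have hfix := conj_algebraMap (F := F) (K := K)
  let L : (Fin (k + k) ⊕ Fin (k + k) → F) →ₗ[F] (Fin (k + k) → K) :=
    { toFun := psiE (conj F K) θ l k
      map_add' := psiE_add (conj F K) θ l k
      map_smul' := psiE_smul (conj F K) θ l k }
  have hinj : Function.Injective L := by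
    rw [← LinearMap.ker_eq_bot, LinearMap.ker_eq_bot']
    exact psiE_zero (conj F K) θ l k hfix hθ hl0
  have hcard : Fintype.card (Fin (k + k) ⊕ Fin (k + k) → F) = Fintype.card (Fin (k + k) → K) := by
    simp only [Fintype.card_fun, Fintype.card_sum, Fintype.card_fin, hF, hK]
    rw [← pow_mul]
    congr 1
    ring
  have hbij : Function.Bijective L :=
    (Fintype.bijective_iff_injective_and_card _).mpr ⟨hinj, hcard⟩
  exact transfer q (LinearEquiv.ofBijective L hbij) _
    (psiE_form (conj F K) θ l k hσ hfix q (conj_apply hF) hθ hl)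

theorem odd_case (hF : Fintype.card F = q) (hK : Fintype.card K = q ^ 2) (k : ℕ) (a b : F)
    (θ : K) (hθ : conj F K θ ≠ θ) (ha : θ + conj F K θ = algebraMap F K a)
    (hb : θ * conj F K θ = algebraMap F K b) :
    ∃ φ : ↥(GU (k + k + 1) K q) →* ↥(isometryGroup F (quadFormMinus (k + k) F a b)),
      Function.Injective φ := by
  classical
  obtain ⟨l, hl⟩ := exists_norm_neg_one (F := F) hF hK
  have hl0 : l ≠ 0 := by
    rintro rfl
    simp at hl
  have hσ := conj_conj (F := F) hF hK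
  have hfix := conj_algebraMap (F := F) (K := K)
  let L : ((Fin (k + k) ⊕ Fin (k + k)) ⊕ Fin 2 → F) →ₗ[F] (Fin (k + k + 1) → K) :=
    { toFun := psiO (conj F K) θ l k
      map_add' := psiO_add (conj F K) θ l k
      map_smul' := psiO_smul (conj F K) θ l k }
  have hinj : Function.Injective L := by
    rw [← LinearMap.ker_eq_bot, LinearMap.ker_eq_bot']
    exact psiO_zero (conj F K) θ l k hfix hθ hl0
  have hcard : Fintype.card ((Fin (k + k) ⊕ Fin (k + k)) ⊕ Fin 2 → F) =
      Fintype.card (Fin (k + k + 1) → K) := by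
    simp only [Fintype.card_fun, Fintype.card_sum, Fintype.card_fin, hF, hK]
    rw [← pow_mul]
    congr 1
    ring
  have hbij : Function.Bijective L :=
    (Fintype.bijective_iff_injective_and_card _).mpr ⟨hinj, hcard⟩
  exact transfer q (LinearEquiv.ofBijective L hbij) _
    (psiO_form (conj F K) θ l k hσ hfix q (conj_apply hF) hθ hl a b ha hb)

end Final

end Cfsg.Agent.Lib.Helper8.GUOrth
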