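import Mathlib
import Cfsg.Agent.Lib.Helper8.SUCountC

/-!
# The number of semisimple classes of `SU_n(q)` is `q ^ (n - 1)`: counting (helper8)
-/

set_option autoImplicit false
set_option linter.unusedSectionVars false

namespace Cfsg.Agent.Lib.Helper8.SUCount

open Module Matrix Polynomial Cfsg Cfsg.Agent.Lib.Helper8.SelfRec Cfsg.Agent.Lib.Helper8.SUReg
  Cfsg.Agent.Lib.Helper8.SUGen Cfsg.Agent.S0781

universe u

section Fixed

variable {K : Type u} [Field K] {σ : K →+* K}

/-- the fixed points of a semilinear involution form a "real form" -/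
theorem card_fixed {V : Type*} [AddCommGroup V] [Module K V] [Finite V]
    (hσ2 : ∀ a, σ (σ a) = a) (ε : K) (hε : σ ε ≠ ε) (ψ : V → V) (hadd : ∀ a b, ψ (a + b) = ψ a + ψ b)
    (hsmul : ∀ (c : K) a, ψ (c • a) = σ c • ψ a) (hinv : ∀ a, ψ (ψ a) = a) :
    Nat.card {a : V // ψ a = a} * Nat.card {a : V // ψ a = a} = Nat.card V := by
  have hd : ε - σ ε ≠ 0 := fun h => hε (sub_eq_zero.1 h).symm
  have hneg : ∀ a, ψ (-a) = -ψ a := by
    intro a
    have h0 : ψ 0 = 0 := by
      have := hadd 0 0
      rw [add_zero] at this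
      exact left_eq_add.1 this
    have := hadd a (-a)
    rw [add_neg_cancel, h0] at this
    exact (neg_eq_of_add_eq_zero_right this.symm).symm
  have hsub : ∀ a b, ψ (a - b) = ψ a - ψ b := by
    intro a b
    rw [sub_eq_add_neg, hadd, hneg, ← sub_eq_add_neg]
  rw [← Nat.card_prod]
  apply Nat.card_eq_of_bijective
    (fun xy : {a : V // ψ a = a} × {a : V // ψ a = a} => (xy.1 : V) + ε • (xy.2 : V))
  constructor
  · rintro ⟨⟨x, hx⟩, ⟨y, hy⟩⟩ ⟨⟨x', hx'⟩, ⟨y', hy'⟩⟩ h
    simp only at h
    have h2 := congrArg ψ h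
    rw [hadd, hadd, hsmul, hsmul, hx, hy, hx', hy'] at h2
    have h3 : (ε - σ ε) • (y - y') = 0 := by
      rw [sub_smul, smul_sub, smul_sub]
      have : ε • y - ε • y' = x' - x := by
        rw [sub_eq_sub_iff_add_eq_add]
        rw [add_comm, h, add_comm]
      have h4 : σ ε • y - σ ε • y' = x' - x := by
        rw [sub_eq_sub_iff_add_eq_add]
        rw [add_comm, h2, add_comm]
      rw [this, h4, sub_self]
    have hyy : y = y' := by
      rcases smul_eq_zero.1 h3 with h5 | h5
      · exact absurd h5 hd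
      · exact sub_eq_zero.1 h5
    subst hyy
    have hxx : x = x' := add_right_cancel h
    subst hxx
    rfl
  · intro v
    set y : V := (ε - σ ε)⁻¹ • (v - ψ v) with hy
    have hdy : (ε - σ ε) • y = v - ψ v := by
      rw [hy, smul_smul, mul_inv_cancel₀ hd, one_smul]
    have hψy : ψ y = y := by
      rw [hy, hsmul, hsub, hinv, map_inv₀, map_sub, hσ2]
      have e1 : (σ ε - ε)⁻¹ = -(ε - σ ε)⁻¹ := by rw [← neg_sub, inv_neg]
      have e2 : ψ v - v = -(v - ψ v) := by rw [neg_sub]
      rw [e1, e2, neg_smul_neg]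
    have hψx : ψ (v - ε • y) = v - ε • y := by
      rw [hsub, hsmul, hψy]
      have : ε • y - σ ε • y = v - ψ v := by rw [← sub_smul, hdy]
      rw [sub_eq_sub_iff_add_eq_add]
      rw [sub_eq_sub_iff_add_eq_add] at this
      rw [add_comm, ← this, add_comm]
    refine ⟨(⟨v - ε • y, hψx⟩, ⟨y, hψy⟩), ?_⟩
    simp only
    rw [sub_add_cancel]

end Fixed

section Param

variable {K : Type u} [Field K] (σ : K →+* K) (n : ℕ)

/-- the semilinear involution whose fixed points parametrise the self-reciprocal polynomials of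
degree `n` with constant term `(-1)^n` -/
def psi (a : Fin (n - 1) → K) : Fin (n - 1) → K := fun j => (-1) ^ n * σ (a (Fin.rev j))

theorem sigma_sign (n : ℕ) : σ ((-1) ^ n) = (-1) ^ n := by
  rw [map_pow, map_neg, map_one]

theorem psi_add (a b : Fin (n - 1) → K) : psi σ n (a + b) = psi σ n a + psi σ n b := by
  funext j
  simp only [psi, Pi.add_apply, map_add, mul_add]

theorem psi_smul (c : K) (a : Fin (n - 1) → K) : psi σ n (c • a) = σ c • psi σ n a := by
  funext j
  simp only [psi, Pi.smul_apply, smul_eq_mul, map_mul]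
  ring

theorem psi_psi (hσ2 : ∀ a, σ (σ a) = a) (a : Fin (n - 1) → K) : psi σ n (psi σ n a) = a := by
  funext j
  simp only [psi, map_mul, sigma_sign, hσ2, Fin.rev_rev]
  rw [← mul_assoc, neg_one_pow_sq, one_mul]

/-- extension by zero -/
def ext1 (a : Fin (n - 1) → K) (i : ℕ) : K := if h : i < n - 1 then a ⟨i, h⟩ else 0

/-- the coefficients of the polynomial attached to `a` -/
def cu (a : Fin (n - 1) → K) (j : ℕ) : K :=
  if j = 0 then (-1) ^ n else if j = n then 1 else ext1 n a (j - 1)

/-- the polynomial attached to `a` -/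
noncomputable def palU (a : Fin (n - 1) → K) : K[X] :=
  ∑ j ∈ Finset.range (n + 1), monomial j (cu n a j)

variable {n}

theorem palU_coeff (a : Fin (n - 1) → K) (j : ℕ) :
    (palU n a).coeff j = if j ≤ n then cu n a j else 0 := by
  unfold palU
  rw [finsetSum_coeff]
  simp only [coeff_monomial]
  rw [Finset.sum_ite_eq' (Finset.range (n + 1)) j]
  simp only [Finset.mem_range, Nat.lt_succ_iff]

theorem palU_natDegree (hn : 1 ≤ n) (a : Fin (n - 1) → K) : (palU n a).natDegree = n := by
  apply le_antisymm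
  · rw [natDegree_le_iff_coeff_eq_zero]
    intro j hj
    rw [palU_coeff, if_neg (by omega)]
  · apply le_natDegree_of_ne_zero
    rw [palU_coeff, if_pos le_rfl]
    unfold cu
    rw [if_neg (by omega), if_pos rfl]
    exact one_ne_zero

theorem palU_monic (hn : 1 ≤ n) (a : Fin (n - 1) → K) : (palU n a).Monic := by
  unfold Monic leadingCoeff
  rw [palU_natDegree hn, palU_coeff, if_pos le_rfl]
  unfold cu
  rw [if_neg (by omega), if_pos rfl]

theorem palU_coeff_zero (a : Fin (n - 1) → K) : (palU n a).coeff 0 = (-1) ^ n := by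
  rw [palU_coeff, if_pos (Nat.zero_le _)]
  unfold cu
  rw [if_pos rfl]

theorem palU_coeff_succ (a : Fin (n - 1) → K) (k : Fin (n - 1)) :
    (palU n a).coeff ((k : ℕ) + 1) = a k := by
  have hk := k.2
  rw [palU_coeff, if_pos (by omega)]
  unfold cu
  rw [if_neg (by omega), if_neg (by omega)]
  unfold ext1
  rw [dif_pos (by omega)]
  rfl

theorem palU_isSR (hn : 1 ≤ n) (a : Fin (n - 1) → K) (ha : psi σ n a = a) :
    IsSR σ (palU n a) := by
  refine ⟨palU_monic hn a, ?_, ?_⟩
  · rw [palU_coeff_zero]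
    exact pow_ne_zero _ (neg_ne_zero.2 one_ne_zero)
  · rw [palU_coeff_zero, sigma_sign]
    ext j
    rw [coeff_reverse, natDegree_map, palU_natDegree hn, coeff_map, coeff_C_mul]
    by_cases hj : j ≤ n
    · rw [revAt_le hj, palU_coeff, palU_coeff, if_pos hj, if_pos (by omega)]
      rcases Nat.eq_zero_or_pos j with hj0 | hjpos
      · subst hj0
        unfold cu
        rw [Nat.sub_zero, if_neg (by omega), if_pos rfl, if_pos rfl, map_one, neg_one_pow_sq]
      by_cases hjn : j = n
      · subst hjn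
        unfold cu
        rw [Nat.sub_self, if_pos rfl, if_neg (by omega), if_pos rfl, sigma_sign, mul_one]
      · have hjlt : j < n := lt_of_le_of_ne hj hjn
        unfold cu
        rw [if_neg (by omega), if_neg (by omega), if_neg (by omega), if_neg hjn]
        unfold ext1
        rw [dif_pos (by omega), dif_pos (by omega)]
        have h1 := congrFun ha ⟨j - 1, by omega⟩
        unfold psi at h1
        rw [← h1, ← mul_assoc, neg_one_pow_sq, one_mul]
        congr 2
        apply Fin.ext
        simp only [Fin.val_rev]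
        omega
    · rw [revAt_eq_self_of_lt (by omega), palU_coeff, if_neg hj, map_zero, mul_zero]

end Param

section Concrete

variable {F : Type u} [Field F] [Fintype F] {q : ℕ}

local notation "Mt" n => Matrix (Fin n) (Fin n) F

theorem su_charpoly_natDegree (n : ℕ) (g : ↥(Cfsg.SU n F q)) :
    ((g : Matrix.SpecialLinearGroup (Fin n) F) : Mt n).charpoly.natDegree = n := by
  rw [Matrix.charpoly_natDegree_eq_dim, Fintype.card_fin]

theorem su_charpoly_eq_of_isConj {n : ℕ} {g h : ↥(Cfsg.SU n F q)} (hc : IsConj g h) :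
    ((g : Matrix.SpecialLinearGroup (Fin n) F) : Mt n).charpoly =
      ((h : Matrix.SpecialLinearGroup (Fin n) F) : Mt n).charpoly := by
  obtain ⟨x, hx⟩ := isConj_iff.1 hc
  rw [← hx, Subgroup.coe_mul, Subgroup.coe_mul, Matrix.SpecialLinearGroup.coe_mul,
    Matrix.SpecialLinearGroup.coe_mul, Matrix.mul_assoc, Matrix.charpoly_mul_comm,
    Matrix.mul_assoc, ← Matrix.SpecialLinearGroup.coe_mul, ← Subgroup.coe_mul, inv_mul_cancel,
    Subgroup.coe_one, Matrix.SpecialLinearGroup.coe_one, Matrix.mul_one]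

theorem su_charpoly_pow_card_pow {n : ℕ} (g : ↥(Cfsg.SU n F q)) (M : ℕ) :
    (((g ^ (Fintype.card F ^ M) : ↥(Cfsg.SU n F q)) : Matrix.SpecialLinearGroup (Fin n) F) :
      Mt n).charpoly = ((g : Matrix.SpecialLinearGroup (Fin n) F) : Mt n).charpoly := by
  induction M with
  | zero => simp
  | succ M ih =>
    rw [pow_succ, pow_mul, Subgroup.coe_pow, Matrix.SpecialLinearGroup.coe_pow,
      FiniteField.Matrix.charpoly_pow_card, ih]

theorem su_exists_coprime_same_charpoly (p : ℕ) [Fact p.Prime] [CharP F p] {n : ℕ}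
    (g : ↥(Cfsg.SU n F q)) :
    ∃ h : ↥(Cfsg.SU n F q), (orderOf h).Coprime p ∧
      ((h : Matrix.SpecialLinearGroup (Fin n) F) : Mt n).charpoly =
        ((g : Matrix.SpecialLinearGroup (Fin n) F) : Mt n).charpoly := by
  have hp : p.Prime := Fact.out
  obtain ⟨e, -, hqe⟩ := FiniteField.card F p
  have hm0 : orderOf g ≠ 0 := (orderOf_pos g).ne'
  obtain ⟨a, m', hpm', hm⟩ := Nat.exists_eq_pow_mul_and_not_dvd hm0 p hp.ne_one
  refine ⟨g ^ (Fintype.card F ^ a), ?_, su_charpoly_pow_card_pow g a⟩
  have h1 : (g ^ (Fintype.card F ^ a)) ^ m' = 1 := by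
    rw [← pow_mul]
    apply orderOf_dvd_iff_pow_eq_one.1
    rw [hm, hqe, ← pow_mul]
    apply Nat.mul_dvd_mul_right
    apply pow_dvd_pow
    have : 1 ≤ (e : ℕ) := e.pos
    nlinarith
  have h2 := orderOf_dvd_of_pow_eq_one h1
  have h3 : m'.Coprime p := ((Nat.Prime.coprime_iff_not_dvd hp).2 hpm').symm
  exact Nat.Coprime.coprime_dvd_left h2 h3

/-- the coefficient vector of the characteristic polynomial of an element of `SU_n(q)` is fixed
by `psi` -/
theorem su_coeff_fixed (hF : Fintype.card F = q ^ 2) (n : ℕ) (g : ↥(Cfsg.SU n F q)) :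
    psi (sg hF) n (fun k : Fin (n - 1) =>
      ((g : Matrix.SpecialLinearGroup (Fin n) F) : Mt n).charpoly.coeff ((k : ℕ) + 1)) =
    (fun k : Fin (n - 1) =>
      ((g : Matrix.SpecialLinearGroup (Fin n) F) : Mt n).charpoly.coeff ((k : ℕ) + 1)) := by
  obtain ⟨hsr, h0⟩ := su_charpoly hF n g
  funext k
  have hk := k.2
  unfold psi
  have h1 := hsr.coeff_rev ((k : ℕ) + 1) (by rw [su_charpoly_natDegree]; omega)
  rw [su_charpoly_natDegree, h0, sigma_sign] at h1
  have h2 : ((Fin.rev k : Fin (n - 1)) : ℕ) + 1 = n - ((k : ℕ) + 1) := by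
    simp only [Fin.val_rev]; omega
  simp only
  rw [h2, h1, ← mul_assoc, neg_one_pow_sq, one_mul]

/-- the characteristic polynomial of an element of `SU_n(q)` is determined by its coefficients
`1, …, n - 1` -/
theorem su_charpoly_eq_of_coeff (hF : Fintype.card F = q ^ 2) (n : ℕ) (g h : ↥(Cfsg.SU n F q))
    (hc : ∀ k : Fin (n - 1),
      ((g : Matrix.SpecialLinearGroup (Fin n) F) : Mt n).charpoly.coeff ((k : ℕ) + 1) =
      ((h : Matrix.SpecialLinearGroup (Fin n) F) : Mt n).charpoly.coeff ((k : ℕ) + 1)) :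
    ((g : Matrix.SpecialLinearGroup (Fin n) F) : Mt n).charpoly =
      ((h : Matrix.SpecialLinearGroup (Fin n) F) : Mt n).charpoly := by
  ext j
  rcases Nat.eq_zero_or_pos j with hj0 | hjpos
  · subst hj0
    rw [(su_charpoly hF n g).2, (su_charpoly hF n h).2]
  by_cases hjn : j < n
  · have := hc ⟨j - 1, by omega⟩
    simp only at this
    rw [Nat.sub_add_cancel hjpos] at this
    exact this
  by_cases hjn' : j = n
  · have hg : ((g : Matrix.SpecialLinearGroup (Fin n) F) : Mt n).charpoly.coeff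
        ((g : Matrix.SpecialLinearGroup (Fin n) F) : Mt n).charpoly.natDegree = 1 :=
      Matrix.charpoly_monic _
    have hh : ((h : Matrix.SpecialLinearGroup (Fin n) F) : Mt n).charpoly.coeff
        ((h : Matrix.SpecialLinearGroup (Fin n) F) : Mt n).charpoly.natDegree = 1 :=
      Matrix.charpoly_monic _
    rw [su_charpoly_natDegree] at hg hh
    rw [hjn', hg, hh]
  · rw [coeff_eq_zero_of_natDegree_lt (by rw [su_charpoly_natDegree]; omega),
      coeff_eq_zero_of_natDegree_lt (by rw [su_charpoly_natDegree]; omega)]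

end Concrete

end Cfsg.Agent.Lib.Helper8.SUCount
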