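import Mathlib
import Cfsg.Agent.Lib.Helper8.SUCountD

/-!
# `GU_n(q)`: unitary matrices, semisimple conjugacy, semisimple parts (helper8)
-/

set_option autoImplicit false
set_option linter.unusedSectionVars false

namespace Cfsg.Agent.Lib.Helper8.GUPrime

open Module Matrix Polynomial Cfsg Cfsg.Agent.Lib.Helper8.Unitary Cfsg.Agent.H9.IrredOp
  Cfsg.Agent.H9.SemisimpleConj Cfsg.Agent.Lib.Helper8.SUReg Cfsg.Agent.Lib.Helper8.SUGen
  Cfsg.Agent.S0781 Cfsg.Agent.S0277 Cfsg.Agent.Lib.Helper8.GUConj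
  Cfsg.Agent.Lib.Helper8.SUCount Cfsg.Agent.Lib.Helper8.SelfRec

universe u

variable {F : Type u} [Field F] [Fintype F] {q n : ℕ}

local notation "Mt" => Matrix (Fin n) (Fin n) F

/-- the matrix of an element of `GU_n(q)` -/
abbrev mat (g : ↥(Cfsg.GU n F q)) : Mt := ((g : GL (Fin n) F) : Mt)

theorem gu_unitary (hF : Fintype.card F = q ^ 2) (g : ↥(Cfsg.GU n F q)) :
    ((mat g).map (sg hF))ᵀ * mat g = 1 :=
  (mem_GU_iff (sg hF) (sg_apply hF) (g : GL (Fin n) F)).1 g.2

theorem exists_gu_of_unitary (hF : Fintype.card F = q ^ 2)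
    (A : Mt) (hA : (A.map (sg hF))ᵀ * A = 1) :
    ∃ g : ↥(Cfsg.GU n F q), mat g = A := by
  have hdet : A.det ≠ 0 := by
    intro h0
    have := congrArg Matrix.det hA
    rw [Matrix.det_mul, h0, mul_zero, Matrix.det_one] at this
    exact zero_ne_one this
  set kG : GL (Fin n) F := Matrix.GeneralLinearGroup.mkOfDetNeZero A hdet with hkG
  have hk : kG ∈ Cfsg.GU n F q := (mem_GU_iff (sg hF) (sg_apply hF) kG).2 hA
  exact ⟨⟨kG, hk⟩, rfl⟩

theorem gu_charpoly (hF : Fintype.card F = q ^ 2) (g : ↥(Cfsg.GU n F q)) :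
    IsSR (sg hF) (mat g).charpoly :=
  (isSR_charpoly _ (gu_unitary hF g)).1

theorem gu_charpoly_natDegree (g : ↥(Cfsg.GU n F q)) : (mat g).charpoly.natDegree = n := by
  rw [Matrix.charpoly_natDegree_eq_dim, Fintype.card_fin]

theorem mat_mul (g h : ↥(Cfsg.GU n F q)) : mat (g * h) = mat g * mat h := rfl

theorem mat_one : mat (1 : ↥(Cfsg.GU n F q)) = 1 := rfl

theorem mat_pow (g : ↥(Cfsg.GU n F q)) (k : ℕ) : mat (g ^ k) = mat g ^ k := by
  induction k with
  | zero => rfl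
  | succ k ih => rw [pow_succ, pow_succ, mat_mul, ih]

theorem mat_injective : Function.Injective (mat : ↥(Cfsg.GU n F q) → Mt) := by
  intro g h hgh
  apply Subtype.ext
  apply Units.ext
  exact hgh

theorem gu_charpoly_eq_of_isConj {g h : ↥(Cfsg.GU n F q)} (hc : IsConj g h) :
    (mat g).charpoly = (mat h).charpoly := by
  obtain ⟨x, hx⟩ := isConj_iff.1 hc
  rw [← hx, mat_mul, mat_mul, Matrix.mul_assoc, Matrix.charpoly_mul_comm, Matrix.mul_assoc,
    ← mat_mul, inv_mul_cancel, mat_one, Matrix.mul_one]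

theorem gu_charpoly_pow_card_pow (g : ↥(Cfsg.GU n F q)) (M : ℕ) :
    (mat (g ^ (Fintype.card F ^ M))).charpoly = (mat g).charpoly := by
  induction M with
  | zero => simp
  | succ M ih =>
    rw [pow_succ, pow_mul, mat_pow, FiniteField.Matrix.charpoly_pow_card, ih]

theorem gu_exists_coprime_same_charpoly (p : ℕ) [Fact p.Prime] [CharP F p]
    (g : ↥(Cfsg.GU n F q)) :
    ∃ h : ↥(Cfsg.GU n F q), (orderOf h).Coprime p ∧ (mat h).charpoly = (mat g).charpoly := by
  have hp : p.Prime := Fact.out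
  obtain ⟨e, -, hqe⟩ := FiniteField.card F p
  have hm0 : orderOf g ≠ 0 := (orderOf_pos g).ne'
  obtain ⟨a, m', hpm', hm⟩ := Nat.exists_eq_pow_mul_and_not_dvd hm0 p hp.ne_one
  refine ⟨g ^ (Fintype.card F ^ a), ?_, gu_charpoly_pow_card_pow g a⟩
  have h1 : (g ^ (Fintype.card F ^ a)) ^ m' = 1 := by
    rw [← pow_mul]
    apply orderOf_dvd_iff_pow_eq_one.1
    rw [hm, hqe, ← pow_mul]
    apply Nat.mul_dvd_mul_right
    apply pow_dvd_pow
    have : 1 ≤ (e : ℕ) := e.pos
    nlinarith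
  have h2 := orderOf_dvd_of_pow_eq_one h1
  have h3 : m'.Coprime p := ((Nat.Prime.coprime_iff_not_dvd hp).2 hpm').symm
  exact Nat.Coprime.coprime_dvd_left h2 h3

theorem gu_isSemisimple_of_orderOf_coprime (p : ℕ) [Fact p.Prime] [CharP F p]
    (g : ↥(Cfsg.GU n F q)) (hg : (orderOf g).Coprime p) :
    Module.End.IsSemisimple (Matrix.toLin' (mat g)) := by
  apply Cfsg.Agent.H9.SemisimpleConj.isSemisimple_of_pow_eq_one _ (orderOf g)
    (Cfsg.Agent.Lib.Helper8.SUSS.natCast_ne_zero_of_coprime p _ hg)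
  rw [← mat_pow, pow_orderOf_eq_one, mat_one]

/-- semisimple elements of `GU_n(q)` with the same characteristic polynomial are conjugate -/
theorem gu_isConj (hF : Fintype.card F = q ^ 2) (g h : ↥(Cfsg.GU n F q))
    (hgss : Module.End.IsSemisimple (Matrix.toLin' (mat g)))
    (hhss : Module.End.IsSemisimple (Matrix.toLin' (mat h)))
    (hc : (mat g).charpoly = (mat h).charpoly) : IsConj g h := by
  have hf := herm_unitary hF n
  have htr : ∀ b : F, sg hF b = b → ∃ y : F, y + sg hF y = b := fun b hb =>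
    tr_surj hf.ne_refl hf.involutive b hb
  have hG := gu_unitary hF g
  have hH := gu_unitary hF h
  obtain ⟨P, hP⟩ := exists_gl_conj (mat g) (mat h) hgss hhss hc
  have hPdet : (P : Mt).det ≠ 0 := (Matrix.isUnits_det_units P).ne_zero
  obtain ⟨u, hu1, hu2⟩ := exists_unitary_conj_of_conj (sg hF) (sg_sg hF) (sg_ne_id hF) htr
    (mat g) (mat h) (P : Mt) hG hH hPdet hP
  obtain ⟨c, hcu⟩ := exists_gu_of_unitary hF u hu1
  rw [isConj_iff]
  refine ⟨c, ?_⟩
  rw [mul_inv_eq_iff_eq_mul]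
  apply mat_injective
  rw [mat_mul, mat_mul, hcu]
  exact hu2

end Cfsg.Agent.Lib.Helper8.GUPrime
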