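import Mathlib
import Cfsg.Agent.Lib.Helper8.GUPrimeA
import Cfsg.Agent.Lib.Helper8.PrimeOrdE

/-!
# The twisted reciprocal of the irreducible factors of `X ^ r - 1` over `F_{q²}` (helper8)
-/

set_option autoImplicit false
set_option linter.unusedSectionVars false

namespace Cfsg.Agent.Lib.Helper8.GUPrime

open Polynomial Cfsg Cfsg.Agent.Lib.Helper8.SUCount Cfsg.Agent.Lib.Helper8.SelfRec
  Cfsg.Agent.Lib.Helper8.PrimeOrd

universe u

variable {K : Type u} [Field K] [Fintype K] {q : ℕ}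

/-- the `q`-power map sends roots of `h` to roots of the twisted polynomial -/
theorem eval₂_map_sg_pow (hK : Fintype.card K = q ^ 2) (p a : ℕ) [Fact p.Prime] [CharP K p]
    (hq : q = p ^ a) {L : Type*} [Field L] [Algebra K L] (h : K[X]) (x : L)
    (hx : aeval x h = 0) : eval₂ (algebraMap K L) (x ^ q) (h.map (sg hK)) = 0 := by
  have : CharP L p := charP_of_injective_algebraMap (algebraMap K L).injective p
  have : ExpChar L p := ExpChar.prime Fact.out
  set φ : L →+* L := iterateFrobenius L p a with hφ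
  have hφx : ∀ y : L, φ y = y ^ q := by
    intro y
    rw [hφ, iterateFrobenius_def, hq]
  have hcomp : φ.comp (algebraMap K L) = (algebraMap K L).comp (sg hK) := by
    ext c
    rw [RingHom.comp_apply, RingHom.comp_apply, hφx, sg_apply, map_pow]
  have h1 := congrArg φ hx
  rw [map_zero, aeval_def, hom_eval₂, hcomp, hφx] at h1
  rw [eval₂_map]
  exact h1

section Root

variable {r : ℕ} {h : K[X]}

theorem root_pow_eq_one (hd : h ∣ X ^ r - 1) : (AdjoinRoot.root h) ^ r = 1 := by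
  obtain ⟨u, hu⟩ := hd
  have h1 : aeval (AdjoinRoot.root h) (X ^ r - 1 : K[X]) = 0 := by
    rw [hu, map_mul, AdjoinRoot.aeval_eq, AdjoinRoot.mk_self, zero_mul]
  rw [map_sub, map_pow, aeval_X, map_one, sub_eq_zero] at h1
  exact h1

theorem root_ne_zero (hi : Irreducible h) (hr : 0 < r) (hd : h ∣ X ^ r - 1) :
    AdjoinRoot.root h ≠ 0 := by
  have : Fact (Irreducible h) := ⟨hi⟩
  intro h0
  have := root_pow_eq_one hd
  rw [h0, zero_pow hr.ne'] at this
  exact zero_ne_one this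

/-- the inverse of the `q`-th power of the root is a root of the twisted reciprocal -/
theorem aeval_rc_inv_pow (hK : Fintype.card K = q ^ 2) (p a : ℕ) [Fact p.Prime] [CharP K p]
    (hq : q = p ^ a) (hi : Irreducible h) (hr : 0 < r) (hd : h ∣ X ^ r - 1) :
    haveI : Fact (Irreducible h) := ⟨hi⟩
    aeval ((AdjoinRoot.root h ^ q)⁻¹) (rc (sg hK) h) = 0 := by
  have : Fact (Irreducible h) := ⟨hi⟩
  set ζ := AdjoinRoot.root h
  have hζ0 : ζ ≠ 0 := root_ne_zero hi hr hd
  have hζh : aeval ζ h = 0 := by rw [AdjoinRoot.aeval_eq, AdjoinRoot.mk_self]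
  have h1 := eval₂_map_sg_pow hK p a hq h ζ hζh
  have hy0 : ζ ^ q ≠ 0 := pow_ne_zero _ hζ0
  unfold rc rv
  rw [map_mul]
  have h3 : aeval (ζ ^ q)⁻¹ (h.map (sg hK)).reverse = 0 := by
    let _ : Invertible (ζ ^ q) := invertibleOfNonzero hy0
    have := eval₂_reverse_eq_zero_iff (algebraMap K (AdjoinRoot h)) (ζ ^ q) (h.map (sg hK))
    rw [invOf_eq_inv] at this
    rw [aeval_def, this]
    exact h1
  rw [h3, mul_zero]

/-- if `q ^ (2k+1) ≡ -1 (mod r)`, the irreducible factors of `X ^ r - 1` are fixed by the twisted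
reciprocal -/
theorem rc_sg_eq_self (hK : Fintype.card K = q ^ 2) (p a : ℕ) [Fact p.Prime] [CharP K p]
    (hq : q = p ^ a) (hm : h.Monic) (hi : Irreducible h) (hr : 0 < r) (hd : h ∣ X ^ r - 1)
    (h0 : h.coeff 0 ≠ 0) (k : ℕ) (hk : r ∣ q ^ (2 * k + 1) + 1) : rc (sg hK) h = h := by
  have : Fact (Irreducible h) := ⟨hi⟩
  set ζ := AdjoinRoot.root h
  have hζ0 : ζ ≠ 0 := root_ne_zero hi hr hd
  have hζh : aeval ζ h = 0 := by rw [AdjoinRoot.aeval_eq, AdjoinRoot.mk_self]
  have hζr : ζ ^ r = 1 := root_pow_eq_one hd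
  have h2 := aeval_rc_inv_pow hK p a hq hi hr hd
  -- the inverse of `ζ ^ q` is a Frobenius conjugate of `ζ`
  have hinv : ζ ^ (Fintype.card K ^ (k + 1)) = (ζ ^ q)⁻¹ := by
    apply eq_inv_of_mul_eq_one_left
    rw [hK, ← pow_mul, ← pow_add]
    obtain ⟨c, hc⟩ := hk
    have e : q ^ (2 * (k + 1)) + q = r * (c * q) := by
      have : q ^ (2 * (k + 1)) = q ^ (2 * k + 1) * q := by
        rw [← pow_succ]
        congr 1
      rw [this, ← add_one_mul, hc, mul_assoc]
    rw [e, pow_mul, hζr, one_pow]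
  have h1 : aeval (ζ ^ q)⁻¹ h = 0 := by
    rw [← hinv]
    exact aeval_pow_card_pow h ζ hζh (k + 1)
  have e1 := minpoly.eq_of_irreducible_of_monic hi h1 hm
  have e2 := minpoly.eq_of_irreducible_of_monic
    (rc_irreducible (sg hK) (sg_sg hK) h0 hi) h2 (rc_monic (sg hK) h0)
  rw [e2, ← e1]

end Root

end Cfsg.Agent.Lib.Helper8.GUPrime
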