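import Mathlib
import Cfsg.Agent.Lib.Helper8.GUPrimeB

/-!
# Which irreducible factors of `X ^ r - 1` over `F_{q²}` are fixed by the twisted reciprocal
(helper8)
-/

set_option autoImplicit false
set_option linter.unusedSectionVars false

namespace Cfsg.Agent.Lib.Helper8.GUPrime

open Polynomial Cfsg Cfsg.Agent.Lib.Helper8.SUCount Cfsg.Agent.Lib.Helper8.SelfRec
  Cfsg.Agent.Lib.Helper8.PrimeOrd

universe u

variable {K : Type u} [Field K] [Fintype K] {q : ℕ}

section Root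

variable {r : ℕ} {h : K[X]}

/-- if an irreducible factor `≠ X - 1` of `X ^ r - 1` is fixed by the twisted reciprocal then
`q ^ (2k+1) ≡ -1 (mod r)` for some `k` -/
theorem exists_odd_pow_of_rc_eq_self (hK : Fintype.card K = q ^ 2) (p a : ℕ) [Fact p.Prime]
    [CharP K p] (hq : q = p ^ a) (hm : h.Monic) (hi : Irreducible h) (hr : r.Prime)
    (hrq : ¬ r ∣ q) (hd : h ∣ X ^ r - 1) (h1 : h.eval 1 ≠ 0) (hrc : rc (sg hK) h = h) :
    ∃ k : ℕ, r ∣ q ^ (2 * k + 1) + 1 := by
  have : Fact (Irreducible h) := ⟨hi⟩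
  have : Module.Finite K (AdjoinRoot h) := hm.finite_adjoinRoot
  have : Finite (AdjoinRoot h) := Module.finite_of_finite K
  set ζ := AdjoinRoot.root h with hζ
  have hζ0 : ζ ≠ 0 := root_ne_zero hi hr.pos hd
  have hζh : aeval ζ h = 0 := by rw [AdjoinRoot.aeval_eq, AdjoinRoot.mk_self]
  have hζr : ζ ^ r = 1 := root_pow_eq_one hd
  have hζ1 : ζ ≠ 1 := by
    intro h1'
    rw [h1'] at hζh
    have h2 : aeval (1 : AdjoinRoot h) h = algebraMap K (AdjoinRoot h) (h.eval 1) := by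
      rw [← map_one (algebraMap K (AdjoinRoot h)), aeval_algebraMap_apply, coe_aeval_eq_eval]
    rw [h2, map_eq_zero] at hζh
    exact h1 hζh
  have hord : orderOf ζ = r := by
    have : Fact r.Prime := ⟨hr⟩
    exact orderOf_eq_prime hζr hζ1
  have h2 := aeval_rc_inv_pow hK p a hq hi hr.pos hd
  rw [hrc] at h2
  let τ : AdjoinRoot h →ₐ[K] AdjoinRoot h :=
    AdjoinRoot.liftAlgHom h (Algebra.ofId K (AdjoinRoot h)) ((ζ ^ q)⁻¹) h2
  have hτ : τ ζ = (ζ ^ q)⁻¹ := AdjoinRoot.liftAlgHom_root _ _ _ _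
  obtain ⟨n, hn⟩ := (FiniteField.bijective_frobeniusAlgHom_pow K (AdjoinRoot h)).2 τ
  have h3 : ζ ^ (Fintype.card K ^ n.1) = (ζ ^ q)⁻¹ := by
    rw [← hτ, ← hn]
    change _ = (FiniteField.frobeniusAlgHom K (AdjoinRoot h) ^ n.1) ζ
    rw [AlgHom.coe_pow, FiniteField.coe_frobeniusAlgHom, pow_iterate]
  have h4 : ζ ^ (q ^ (2 * n.1) + q) = 1 := by
    rw [pow_add, pow_mul, ← hK, h3, inv_mul_cancel₀ (pow_ne_zero _ hζ0)]
  have h5 : r ∣ q ^ (2 * n.1) + q := by
    rw [← hord]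
    exact orderOf_dvd_of_pow_eq_one h4
  rcases Nat.eq_zero_or_pos n.1 with h0 | hpos
  · refine ⟨0, ?_⟩
    rw [h0] at h5
    simpa [add_comm] using h5
  · refine ⟨n.1 - 1, ?_⟩
    have e : q ^ (2 * n.1) + q = q * (q ^ (2 * (n.1 - 1) + 1) + 1) := by
      have : 2 * n.1 = (2 * (n.1 - 1) + 1) + 1 := by omega
      rw [this, pow_succ]
      ring
    rw [e] at h5
    exact (hr.dvd_mul.1 h5).resolve_left hrq

end Root

section NT

/-- for an odd prime `r` not dividing `q`, some odd power of `q` is `-1` mod `r` iff the order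
of `q` mod `r` is `2` mod `4` -/
theorem exists_odd_pow_iff {r q : ℕ} [Fact r.Prime] (hr2 : r ≠ 2) (hrq : ¬ r ∣ q) :
    (∃ k : ℕ, r ∣ q ^ (2 * k + 1) + 1) ↔ orderOf (q : ZMod r) % 4 = 2 := by
  have hr : r.Prime := Fact.out
  set x : ZMod r := (q : ZMod r) with hx
  have hx0 : x ≠ 0 := by
    rw [hx, Ne, ZMod.natCast_eq_zero_iff]
    exact hrq
  have hneg : (-1 : ZMod r) ≠ 1 := by
    intro h
    have h2 : ((2 : ℕ) : ZMod r) = 0 := by
      have : (1 : ZMod r) + 1 = 0 := by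
        nth_rewrite 1 [← h]
        exact neg_add_cancel 1
      rw [Nat.cast_ofNat, ← one_add_one_eq_two]
      exact this
    rw [ZMod.natCast_eq_zero_iff] at h2
    have := (Nat.prime_dvd_prime_iff_eq hr Nat.prime_two).1 h2
    exact hr2 this
  have key : ∀ m : ℕ, r ∣ q ^ m + 1 ↔ x ^ m = -1 := by
    intro m
    rw [← ZMod.natCast_eq_zero_iff, Nat.cast_add, Nat.cast_pow, Nat.cast_one,
      add_eq_zero_iff_eq_neg]
  constructor
  · rintro ⟨k, hk⟩
    rw [key] at hk
    have h1 : x ^ (2 * (2 * k + 1)) = 1 := by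
      rw [mul_comm, pow_mul, hk, neg_one_sq]
    have hd1 : orderOf x ∣ 2 * (2 * k + 1) := orderOf_dvd_of_pow_eq_one h1
    have hd2 : ¬ orderOf x ∣ 2 * k + 1 := by
      intro hd
      have := orderOf_dvd_iff_pow_eq_one.1 hd
      rw [hk] at this
      exact hneg this
    -- `orderOf x` divides `2 * odd` but not `odd`
    obtain ⟨c, hc⟩ := hd1
    have hev : Even (orderOf x) := by
      by_contra hodd
      rw [Nat.not_even_iff_odd] at hodd
      have hcop : Nat.Coprime (orderOf x) 2 := Nat.coprime_two_right.2 hodd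
      exact hd2 (hcop.dvd_of_dvd_mul_left ⟨c, hc⟩)
    obtain ⟨t, ht⟩ := hev
    have ht' : t * c = 2 * k + 1 := by
      rw [ht] at hc
      have : 2 * (2 * k + 1) = 2 * (t * c) := by rw [hc]; ring
      omega
    have htodd : Odd t := by
      have : Odd (t * c) := by rw [ht']; exact ⟨k, rfl⟩
      exact (Nat.odd_mul.1 this).1
    obtain ⟨u, hu⟩ := htodd
    omega
  · intro hmod
    set i := orderOf x with hi
    have hipos : 0 < i := by
      rw [hi, orderOf_pos_iff, isOfFinOrder_iff_pow_eq_one]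
      exact ⟨r - 1, Nat.sub_pos_of_lt hr.one_lt, ZMod.pow_card_sub_one_eq_one hx0⟩
    have hi2 : i = 2 * (i / 2) := by omega
    have hodd : i / 2 = 2 * (i / 4) + 1 := by omega
    refine ⟨i / 4, ?_⟩
    rw [key, ← hodd]
    have h1 : x ^ (i / 2) * x ^ (i / 2) = 1 := by
      rw [← pow_add, ← two_mul, ← hi2, hi, pow_orderOf_eq_one]
    rcases mul_self_eq_one_iff.1 h1 with h2 | h2
    · exfalso
      have : i / 2 < orderOf x := by omega
      exact pow_ne_one_of_lt_orderOf (by omega) this h2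
    · exact h2

/-- the order of `q ^ 2` mod `r` -/
theorem orderOf_sq {r q : ℕ} [Fact r.Prime] :
    orderOf (((q ^ 2 : ℕ) : ZMod r)) =
      if Odd (orderOf (q : ZMod r)) then orderOf (q : ZMod r) else orderOf (q : ZMod r) / 2 := by
  rw [Nat.cast_pow, orderOf_pow' _ (by norm_num : (2 : ℕ) ≠ 0)]
  split_ifs with hodd
  · have : Nat.gcd (orderOf (q : ZMod r)) 2 = 1 := Nat.coprime_two_right.2 hodd
    rw [this, Nat.div_one]
  · rw [Nat.not_odd_iff_even] at hodd
    have : Nat.gcd (orderOf (q : ZMod r)) 2 = 2 := by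
      apply Nat.gcd_eq_right
      exact hodd.two_dvd
    rw [this]

end NT

end Cfsg.Agent.Lib.Helper8.GUPrime
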