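import Mathlib

/-!
# Counting multiplicity functions: stars and bars, with and without an involution (helper8)
-/

set_option autoImplicit false
set_option linter.unusedSectionVars false

namespace Cfsg.Agent.Lib.Helper8.PrimeOrd

universe u

section StarsBars

variable (α : Type u) [Fintype α] [DecidableEq α]

/-- functions with bounded sum correspond to functions on `Option α` with prescribed sum -/
def boundedEquiv (N : ℕ) :
    {e : α → ℕ // ∑ a, e a ≤ N} ≃ {P : Option α → ℕ // ∑ i, P i = N} where
  toFun e := ⟨fun o => Option.elim o (N - ∑ a, e.1 a) e.1, by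
    rw [Fintype.sum_option]
    simp only [Option.elim_none, Option.elim_some]
    have := e.2
    omega⟩
  invFun P := ⟨fun a => P.1 (some a), by
    have := P.2
    rw [Fintype.sum_option] at this
    beta_reduce
    omega⟩
  left_inv e := by
    apply Subtype.ext
    funext a
    rfl
  right_inv P := by
    apply Subtype.ext
    funext o
    cases o with
    | none =>
      have := P.2
      rw [Fintype.sum_option] at this
      simp only [Option.elim_none]
      omega
    | some a => rfl

theorem card_bounded (N : ℕ) :
    Nat.card {e : α → ℕ // ∑ a, e a ≤ N} = (N + Fintype.card α).choose (Fintype.card α) := by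
  classical
  rw [Nat.card_congr (boundedEquiv α N),
    ← Nat.card_congr (Sym.equivNatSumOfFintype (Option α) N), Nat.card_eq_fintype_card,
    Sym.card_sym_eq_choose, Fintype.card_option]
  have : Fintype.card α + 1 + N - 1 = N + Fintype.card α := by omega
  rw [this, Nat.choose_symm_add]

theorem card_bounded_mul (i M : ℕ) (hi : 0 < i) :
    Nat.card {e : α → ℕ // i * ∑ a, e a ≤ M} =
      (M / i + Fintype.card α).choose (Fintype.card α) := by
  rw [← card_bounded α (M / i)]
  apply Nat.card_congr
  apply Equiv.subtypeEquivRight
  intro e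
  rw [Nat.le_div_iff_mul_le hi, mul_comm]

end StarsBars

section Invol

variable {α : Type u} [Fintype α] [DecidableEq α] (s : α → α)

/-- a transversal for a fixed-point-free involution -/
noncomputable def trv : Finset α :=
  Finset.univ.filter (fun a => Fintype.equivFin α a < Fintype.equivFin α (s a))

theorem mem_trv (a : α) : a ∈ trv s ↔ Fintype.equivFin α a < Fintype.equivFin α (s a) := by
  unfold trv
  simp

variable {s}

theorem s_mem_trv_iff (hs : Function.Involutive s) (hfp : ∀ a, s a ≠ a) (a : α) :
    s a ∈ trv s ↔ a ∉ trv s := by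
  rw [mem_trv, mem_trv, hs a, not_lt]
  constructor
  · intro h; exact h.le
  · intro h
    apply lt_of_le_of_ne h
    intro heq
    exact hfp a ((Fintype.equivFin α).injective heq)

theorem sum_eq_two_mul (hs : Function.Involutive s) (hfp : ∀ a, s a ≠ a) (e : α → ℕ)
    (he : e ∘ s = e) : ∑ a, e a = 2 * ∑ a ∈ trv s, e a := by
  rw [← Finset.sum_add_sum_compl (trv s), two_mul]
  congr 1
  apply Finset.sum_nbij' s s
  · intro a ha
    rw [Finset.mem_compl] at ha
    rw [s_mem_trv_iff hs hfp]
    exact ha
  · intro a ha
    rw [Finset.mem_compl, s_mem_trv_iff hs hfp]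
    exact not_not.2 ha
  · intro a _; exact hs a
  · intro a _; exact hs a
  · intro a _
    exact (congrFun he a).symm

theorem card_trv (hs : Function.Involutive s) (hfp : ∀ a, s a ≠ a) :
    Fintype.card α = 2 * (trv s).card := by
  have := sum_eq_two_mul hs hfp (fun _ => 1) rfl
  simpa using this

/-- symmetric functions correspond to functions on the transversal -/
noncomputable def symEquiv (hs : Function.Involutive s) (hfp : ∀ a, s a ≠ a) :
    {e : α → ℕ // e ∘ s = e} ≃ (↥(trv s) → ℕ) where
  toFun e := fun t => e.1 t.1
  invFun e' := ⟨fun a => if h : a ∈ trv s then e' ⟨a, h⟩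
      else e' ⟨s a, (s_mem_trv_iff hs hfp a).2 h⟩, by
    funext a
    simp only [Function.comp_apply]
    by_cases h : a ∈ trv s
    · have h' : s a ∉ trv s := by
        rw [s_mem_trv_iff hs hfp]; exact not_not.2 h
      rw [dif_neg h', dif_pos h]
      congr 1
      apply Subtype.ext
      exact hs a
    · have h' : s a ∈ trv s := (s_mem_trv_iff hs hfp a).2 h
      rw [dif_pos h', dif_neg h]⟩
  left_inv e := by
    apply Subtype.ext
    funext a
    simp only
    by_cases h : a ∈ trv s
    · rw [dif_pos h]
    · rw [dif_neg h]
      exact congrFun e.2 a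
  right_inv e' := by
    funext t
    simp only
    rw [dif_pos t.2]

theorem card_symm_bounded (hs : Function.Involutive s) (hfp : ∀ a, s a ≠ a) (i m : ℕ)
    (hi : 0 < i) :
    Nat.card {e : α → ℕ // e ∘ s = e ∧ i * ∑ a, e a ≤ 2 * m} =
      (m / i + Fintype.card α / 2).choose (Fintype.card α / 2) := by
  have hcard : Fintype.card ↥(trv s) = Fintype.card α / 2 := by
    rw [Fintype.card_coe, card_trv hs hfp]
    omega
  rw [← hcard, ← card_bounded ↥(trv s) (m / i)]
  apply Nat.card_congr
  refine (Equiv.subtypeSubtypeEquivSubtypeInter (fun e : α → ℕ => e ∘ s = e)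
    (fun e => i * ∑ a, e a ≤ 2 * m)).symm.trans ?_
  apply (symEquiv hs hfp).subtypeEquiv
  intro e
  rw [sum_eq_two_mul hs hfp e.1 e.2, Nat.le_div_iff_mul_le hi]
  have : ∑ a ∈ trv s, e.1 a = ∑ t : ↥(trv s), (symEquiv hs hfp e) t := by
    rw [← Finset.sum_coe_sort]
    rfl
  rw [← this]
  constructor
  · intro h; nlinarith
  · intro h; nlinarith

end Invol

end Cfsg.Agent.Lib.Helper8.PrimeOrd
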