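import Mathlib
import Cfsg.Agent.Lib.Helper8.PrimeOrdC
import Cfsg.Agent.Lib.Helper8.PrimeOrdE
import Cfsg.Agent.Lib.Helper8.PrimeOrdF

/-!
# The family `X - 1`, irreducible factors of `Φ_r`; polynomials supported on it (helper8)
-/

set_option autoImplicit false
set_option linter.unusedSectionVars false

namespace Cfsg.Agent.Lib.Helper8.PrimeOrd

open Polynomial Cfsg.Agent.Lib.Helper8.SelfRec

universe u

variable (F : Type u) [Field F] [Fintype F] [DecidableEq F] (r : ℕ)

/-- the family of monic irreducible factors of `X ^ r - 1` -/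
noncomputable def PPo : Option ↥(cycFactors F r) → F[X] :=
  fun o => Option.elim o (X - 1) (PP F r)

variable {F r}

@[simp] theorem PPo_none : PPo F r none = X - 1 := rfl

@[simp] theorem PPo_some (j : ↥(cycFactors F r)) : PPo F r (some j) = PP F r j := rfl

theorem monic_X_sub_one : (X - 1 : F[X]).Monic := by
  have := monic_X_sub_C (1 : F)
  rwa [C_1] at this

theorem irreducible_X_sub_one : Irreducible (X - 1 : F[X]) := by
  have := irreducible_X_sub_C (1 : F)
  rwa [C_1] at this

variable [hr : Fact r.Prime]

theorem isFam_PPo (hrF : (r : F) ≠ 0) : IsFam (PPo F r) := by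
  refine ⟨?_, ?_, ?_⟩
  · intro o
    cases o with
    | none => exact monic_X_sub_one
    | some j => exact PP_monic j
  · intro o
    cases o with
    | none => exact irreducible_X_sub_one
    | some j => exact PP_irred j
  · intro o o' h
    cases o with
    | none =>
      cases o' with
      | none => rfl
      | some j => exact absurd h.symm (PP_ne_X_sub_one hrF j)
    | some j =>
      cases o' with
      | none => exact absurd h (PP_ne_X_sub_one hrF j)
      | some j' =>
        congr 1
        exact Subtype.ext h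

theorem PPo_coeff_zero (o : Option ↥(cycFactors F r)) : (PPo F r o).coeff 0 ≠ 0 := by
  cases o with
  | none =>
    simp
  | some j => exact PP_coeff_zero j

theorem PPo_dvd (o : Option ↥(cycFactors F r)) : PPo F r o ∣ X ^ r - 1 := by
  cases o with
  | none =>
    rw [← cyclotomic_prime_mul_X_sub_one F r]
    exact Dvd.intro_left _ rfl
  | some j => exact PP_dvd j

theorem PPo_rc (θ : F →+* F) (hθ : ∀ a, θ (θ a) = a) (hrF : (r : F) ≠ 0)
    (o : Option ↥(cycFactors F r)) :
    rc θ (PPo F r o) = PPo F r (Option.map (sIdx θ hθ hrF) o) := by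
  cases o with
  | none => exact rc_X_sub_one θ
  | some j => rfl

theorem optionMap_involutive (θ : F →+* F) (hθ : ∀ a, θ (θ a) = a) (hrF : (r : F) ≠ 0) :
    Function.Involutive (Option.map (sIdx θ hθ hrF)) := by
  intro o
  cases o with
  | none => rfl
  | some j =>
    simp only [Option.map_some]
    rw [sIdx_involutive θ hθ hrF j]

theorem fe_PPo (e' : Option ↥(cycFactors F r) → ℕ) :
    fe (PPo F r) e' = (X - 1) ^ e' none * fe (PP F r) (fun j => e' (some j)) := by
  unfold fe
  rw [Fintype.prod_option]
  rfl

theorem exists_PPo {h : F[X]} (hm : h.Monic) (hi : Irreducible h) (hd : h ∣ X ^ r - 1) :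
    ∃ o, h = PPo F r o := by
  rcases cases_of_dvd hm hi hd with h1 | ⟨j, hj⟩
  · exact ⟨none, h1⟩
  · exact ⟨some j, hj⟩

theorem fe_PPo_dvd (e' : Option ↥(cycFactors F r) → ℕ) :
    fe (PPo F r) e' ∣ (X ^ r - 1) ^ (∑ o, e' o) := by
  unfold fe
  rw [← Finset.prod_pow_eq_pow_sum]
  apply Finset.prod_dvd_prod_of_dvd
  intro o _
  exact pow_dvd_pow_of_dvd (PPo_dvd o) _

/-- `fe` of the `X - 1`-only multiplicity -/
theorem fe_PPo_single (N : ℕ) :
    fe (PPo F r) (fun o => Option.elim o N (fun _ => 0)) = (X - 1) ^ N := by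
  rw [fe_PPo]
  simp only [Option.elim_none, Option.elim_some]
  have : fe (PP F r) (fun _ => 0) = 1 := fe_zero
  rw [this, mul_one]

end Cfsg.Agent.Lib.Helper8.PrimeOrd
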