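import Mathlib
import Cfsg.Agent.Lib.Helper8.SelfRecB
import Cfsg.Agent.Lib.Helper8.SympBasis
import Cfsg.Agent.Lib.Helper8.SpCountA

/-!
# Every self-reciprocal monic polynomial of degree `2n` is the characteristic polynomial of a
symplectic matrix (helper8)
-/

set_option autoImplicit false
set_option linter.unusedSectionVars false

namespace Cfsg.Agent.Lib.Helper8.SpCount

open Module Matrix Cfsg Polynomial Cfsg.Agent.Lib.Helper5.Symp Cfsg.Agent.Lib.Helper8.SelfRec

universe u

variable {F : Type u} [Field F]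

theorem isSR_of_reverse {f : F[X]} (hm : f.Monic) (hrev : f.reverse = f) :
    IsSR (RingHom.id F) f ∧ f.coeff 0 = 1 := by
  have h0 : f.coeff 0 = 1 := by
    have := coeff_zero_reverse f
    rw [hrev, hm.leadingCoeff] at this
    exact this
  refine ⟨⟨hm, by rw [h0]; exact one_ne_zero, ?_⟩, h0⟩
  rw [Polynomial.map_id, hrev, h0, RingHom.id_apply, C_1, one_mul]

/-- transfer of an isometry of an abstract symplectic space to a symplectic matrix -/
theorem exists_sp_of_isometry (n : ℕ) (U : Type u) [AddCommGroup U] [Module F U]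
    [FiniteDimensional F U] (B : LinearMap.BilinForm F U) (hA : B.IsAlt) (hB : B.Nondegenerate)
    (hrank : Module.finrank F U = 2 * n) (T : U →ₗ[F] U) (hT : ∀ u v, B (T u) (T v) = B u v) :
    ∃ g : symplecticGroup (Fin n) F,
      (g : Matrix (Fin n ⊕ Fin n) (Fin n ⊕ Fin n) F).charpoly = T.charpoly := by
  obtain ⟨φ, hφ⟩ := Cfsg.Agent.Lib.Helper8.SympBasis.exists_isometry n U B hA hB hrank
  set A : Matrix (Fin n ⊕ Fin n) (Fin n ⊕ Fin n) F := LinearMap.toMatrix' (φ.conj T) with hAdef
  have hAv : ∀ x, A *ᵥ x = φ (T (φ.symm x)) := by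
    intro x
    rw [hAdef, ← Matrix.toLin'_apply, Matrix.toLin'_toMatrix']
    rfl
  have hmem : A ∈ symplecticGroup (Fin n) F := by
    apply mem_of_sympForm
    intro u v
    rw [hAv, hAv, hφ, hT, ← hφ, LinearEquiv.apply_symm_apply, LinearEquiv.apply_symm_apply]
  refine ⟨⟨A, hmem⟩, ?_⟩
  change A.charpoly = _
  rw [hAdef, ← LinearEquiv.charpoly_conj φ T]
  have := LinearMap.charpoly_toMatrix (φ.conj T) (Pi.basisFun F (Fin n ⊕ Fin n))
  rw [← this, LinearMap.toMatrix_eq_toMatrix']

theorem exists_sp_of_pal (n : ℕ) (f : F[X]) (hm : f.Monic) (hdeg : f.natDegree = 2 * n)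
    (hrev : f.reverse = f) :
    ∃ g : symplecticGroup (Fin n) F,
      (g : Matrix (Fin n ⊕ Fin n) (Fin n ⊕ Fin n) F).charpoly = f := by
  rcases Nat.eq_zero_or_pos n with hn0 | hn
  · subst hn0
    have hf1 : f = 1 := eq_one_of_monic_natDegree_zero hm (by rw [hdeg])
    refine ⟨1, ?_⟩
    rw [hf1]
    simp [Matrix.charpoly]
  obtain ⟨hf, h0⟩ := isSR_of_reverse hm hrev
  have hθ : ∀ a : F, (RingHom.id F) ((RingHom.id F) a) = a := fun a => rfl
  have hN : f.natDegree = 2 * (n - 1) + 2 := by omega
  have := hm.finite_adjoinRoot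
  -- the bilinear form
  let B : LinearMap.BilinForm F (AdjoinRoot f) :=
    LinearMap.mk₂ F (B0 hf (n - 1))
      (fun a a' b => B0_add_left hf _ a a' b)
      (fun c a b => by rw [← of_mul_eq_smul, B0_smul_left, smul_eq_mul])
      (fun a b b' => B0_add_right hf _ a b b')
      (fun c a b => by rw [← of_mul_eq_smul, B0_smul_right, smul_eq_mul, RingHom.id_apply])
  have hBapp : ∀ a b, B a b = B0 hf (n - 1) a b := fun a b => rfl
  have hskew : ∀ a b, B b a = -B a b := by
    intro a b
    rw [hBapp, hBapp, B0_swap hθ hf (n - 1) hN, h0, inv_one, RingHom.id_apply, neg_one_mul]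
  have hpow : ∀ j : ℕ, B (AdjoinRoot.root f ^ j) (AdjoinRoot.root f ^ j) = 0 := by
    intro j
    rw [hBapp]
    unfold B0
    rw [map_pow, sig_root, mul_assoc, root_pow_mul_ainv_pow hf.2.1, mul_one,
      tau_root_pow hf.1 _ (by omega), if_neg (by omega)]
  have hAlt : B.IsAlt := by
    let S : Submodule F (AdjoinRoot f) :=
      { carrier := {a | B a a = 0}
        add_mem' := by
          intro a b ha hb
          change B a a = 0 at ha
          change B b b = 0 at hb
          change B (a + b) (a + b) = 0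
          simp only [map_add, LinearMap.add_apply]
          rw [ha, hb, hskew a b]
          ring
        zero_mem' := by simp
        smul_mem' := by
          intro c a ha
          change B a a = 0 at ha
          change B (c • a) (c • a) = 0
          simp only [map_smul, LinearMap.smul_apply]
          rw [ha, smul_zero, smul_zero] }
    have hS : S = ⊤ := by
      rw [eq_top_iff, ← (AdjoinRoot.powerBasis' hm).basis.span_eq, Submodule.span_le]
      rintro _ ⟨i, rfl⟩
      rw [PowerBasis.basis_eq_pow, AdjoinRoot.powerBasis'_gen]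
      exact hpow _
    intro a
    have : a ∈ S := by rw [hS]; trivial
    exact this
  have hleft : B.SeparatingLeft := by
    intro a ha
    exact B0_nondeg hθ hf (n - 1) a ha
  have hnd : B.Nondegenerate := by
    refine ⟨hleft, ?_⟩
    intro b hb
    apply hleft
    intro a
    rw [hskew, hb, neg_zero]
  have hrank : Module.finrank F (AdjoinRoot f) = 2 * n := by
    rw [finrank_adjoinRoot hm, hdeg]
  obtain ⟨g, hg⟩ := exists_sp_of_isometry n (AdjoinRoot f) B hAlt hnd hrank
    (Algebra.lmul F (AdjoinRoot f) (AdjoinRoot.root f)) (by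
      intro u v
      rw [hBapp, hBapp]
      exact B0_root hf _ u v)
  refine ⟨g, ?_⟩
  rw [hg]
  exact charpoly_lmul_root hm

end Cfsg.Agent.Lib.Helper8.SpCount
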