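import Mathlib
import Cfsg.Agent.Lib.Helper8.SpCountB
import Cfsg.Agent.Lib.Helper8.SpSSE

/-!
# The number of semisimple classes of `Sp_{2n}(q)` is `q ^ n` (helper8)
-/

set_option autoImplicit false
set_option linter.unusedSectionVars false

namespace Cfsg.Agent.Lib.Helper8.SpCount

open Module Matrix Cfsg Polynomial Cfsg.Agent.Lib.Helper5.Symp

universe u

variable {F : Type u} [Field F] {n : ℕ}

local notation "Mat" => Matrix (Fin n ⊕ Fin n) (Fin n ⊕ Fin n) F

theorem charpoly_eq_of_isConj {g h : symplecticGroup (Fin n) F} (hc : IsConj g h) :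
    (g : Mat).charpoly = (h : Mat).charpoly := by
  obtain ⟨x, hx⟩ := isConj_iff.1 hc
  rw [← hx, Submonoid.coe_mul, Submonoid.coe_mul, Matrix.mul_assoc, Matrix.charpoly_mul_comm,
    Matrix.mul_assoc, ← Submonoid.coe_mul, inv_mul_cancel, Submonoid.coe_one, Matrix.mul_one]

theorem charpoly_pow_card_pow [Fintype F] (g : symplecticGroup (Fin n) F) (M : ℕ) :
    ((g ^ (Fintype.card F ^ M) : symplecticGroup (Fin n) F) : Mat).charpoly =
      (g : Mat).charpoly := by
  induction M with
  | zero => simp
  | succ M ih =>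
    rw [pow_succ, pow_mul, SubmonoidClass.coe_pow, FiniteField.Matrix.charpoly_pow_card, ih]

/-- the semisimple part: an element of order prime to `p` with the same characteristic
polynomial -/
theorem exists_coprime_same_charpoly [Fintype F] (p : ℕ) [Fact p.Prime] [CharP F p]
    (g : symplecticGroup (Fin n) F) :
    ∃ h : symplecticGroup (Fin n) F, (orderOf h).Coprime p ∧
      (h : Mat).charpoly = (g : Mat).charpoly := by
  have hp : p.Prime := Fact.out
  obtain ⟨e, -, hqe⟩ := FiniteField.card F p
  have hm0 : orderOf g ≠ 0 := (orderOf_pos g).ne'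
  obtain ⟨a, m', hpm', hm⟩ := Nat.exists_eq_pow_mul_and_not_dvd hm0 p hp.ne_one
  refine ⟨g ^ (Fintype.card F ^ a), ?_, charpoly_pow_card_pow g a⟩
  have h1 : (g ^ (Fintype.card F ^ a)) ^ m' = 1 := by
    rw [← pow_mul]
    apply orderOf_dvd_iff_pow_eq_one.1
    rw [hm, hqe, ← pow_mul]
    apply Nat.mul_dvd_mul_right
    apply pow_dvd_pow
    have : 1 ≤ (e : ℕ) := e.pos
    nlinarith
  have h2 := orderOf_dvd_of_pow_eq_one h1
  have h3 : m'.Coprime p := ((Nat.Prime.coprime_iff_not_dvd hp).2 hpm').symm
  exact Nat.Coprime.coprime_dvd_left h2 h3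

/-- extension of a vector by zero -/
def ext0 (v : Fin n → F) (i : ℕ) : F := if h : i < n then v ⟨i, h⟩ else 0

/-- the coefficients of the self-reciprocal polynomial attached to `v` -/
def cf (v : Fin n → F) (j : ℕ) : F :=
  if j = 0 ∨ j = 2 * n then 1 else ext0 v (min j (2 * n - j) - 1)

theorem cf_symm (v : Fin n → F) (j : ℕ) (hj : j ≤ 2 * n) : cf v (2 * n - j) = cf v j := by
  unfold cf
  have h1 : (2 * n - j = 0 ∨ 2 * n - j = 2 * n) ↔ (j = 0 ∨ j = 2 * n) := by omega
  have h2 : min (2 * n - j) (2 * n - (2 * n - j)) = min j (2 * n - j) := by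
    rw [Nat.sub_sub_self hj, min_comm]
  simp only [h1, h2]

/-- the self-reciprocal polynomial attached to `v` -/
noncomputable def pal (v : Fin n → F) : F[X] :=
  ∑ j ∈ Finset.range (2 * n + 1), monomial j (cf v j)

theorem pal_coeff (v : Fin n → F) (j : ℕ) :
    (pal v).coeff j = if j ≤ 2 * n then cf v j else 0 := by
  unfold pal
  rw [finsetSum_coeff]
  simp only [coeff_monomial]
  rw [Finset.sum_ite_eq' (Finset.range (2 * n + 1)) j]
  simp only [Finset.mem_range, Nat.lt_succ_iff]

theorem pal_natDegree (v : Fin n → F) : (pal v).natDegree = 2 * n := by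
  apply le_antisymm
  · rw [natDegree_le_iff_coeff_eq_zero]
    intro j hj
    rw [pal_coeff, if_neg (by omega)]
  · apply le_natDegree_of_ne_zero
    rw [pal_coeff, if_pos le_rfl]
    unfold cf
    rw [if_pos (Or.inr rfl)]
    exact one_ne_zero

theorem pal_monic (v : Fin n → F) : (pal v).Monic := by
  unfold Monic leadingCoeff
  rw [pal_natDegree, pal_coeff, if_pos le_rfl]
  unfold cf
  rw [if_pos (Or.inr rfl)]

theorem pal_reverse (v : Fin n → F) : (pal v).reverse = pal v := by
  ext j
  rw [coeff_reverse, pal_natDegree]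
  by_cases hj : j ≤ 2 * n
  · rw [revAt_le hj, pal_coeff, pal_coeff, if_pos hj, if_pos (by omega), cf_symm v j hj]
  · rw [revAt_eq_self_of_lt (by omega)]

theorem pal_coeff_succ (v : Fin n → F) (k : Fin n) : (pal v).coeff ((k : ℕ) + 1) = v k := by
  have hk := k.2
  rw [pal_coeff, if_pos (by omega)]
  unfold cf
  rw [if_neg (by omega)]
  have : min ((k : ℕ) + 1) (2 * n - ((k : ℕ) + 1)) - 1 = k := by
    rw [min_eq_left (by omega)]; omega
  rw [this]
  unfold ext0
  rw [dif_pos hk]

/-- the charpoly of a symplectic matrix is determined by its coefficients `1, …, n` -/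
theorem charpoly_eq_of_coeff (g h : symplecticGroup (Fin n) F)
    (hc : ∀ k : Fin n, (g : Mat).charpoly.coeff ((k : ℕ) + 1) =
      (h : Mat).charpoly.coeff ((k : ℕ) + 1)) :
    (g : Mat).charpoly = (h : Mat).charpoly := by
  have hlow : ∀ j, j ≤ n → (g : Mat).charpoly.coeff j = (h : Mat).charpoly.coeff j := by
    intro j hj
    rcases Nat.eq_zero_or_pos j with h0 | hpos
    · subst h0
      have hg : (g : Mat).charpoly.coeff (g : Mat).charpoly.natDegree = 1 :=
        (Matrix.charpoly_monic _)
      have hh : (h : Mat).charpoly.coeff (h : Mat).charpoly.natDegree = 1 :=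
        (Matrix.charpoly_monic _)
      rw [charpoly_natDegree] at hg hh
      have e1 := charpoly_coeff_symm g (2 * n) le_rfl
      have e2 := charpoly_coeff_symm h (2 * n) le_rfl
      rw [Nat.sub_self] at e1 e2
      rw [e1, e2, hg, hh]
    · have := hc ⟨j - 1, by omega⟩
      simp only at this
      rw [Nat.sub_add_cancel hpos] at this
      exact this
  ext j
  by_cases hj : j ≤ n
  · exact hlow j hj
  by_cases hj2 : j ≤ 2 * n
  · rw [← charpoly_coeff_symm g j hj2, ← charpoly_coeff_symm h j hj2]
    exact hlow _ (by omega)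
  · rw [coeff_eq_zero_of_natDegree_lt (by rw [charpoly_natDegree]; omega),
      coeff_eq_zero_of_natDegree_lt (by rw [charpoly_natDegree]; omega)]

end Cfsg.Agent.Lib.Helper8.SpCount
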