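import Mathlib
import Cfsg.Agent.Lib.Helper8.PrimeOrdG
import Cfsg.Agent.Lib.Helper8.SpCountC

/-!
# Classes of elements of prime order `r ≠ p` in `Sp_{2m}(q)` and multiplicity functions (helper8)
-/

set_option autoImplicit false
set_option linter.unusedSectionVars false

namespace Cfsg.Agent.Lib.Helper8.PrimeOrd

open Polynomial Matrix Cfsg Cfsg.Agent.Lib.Helper8.SelfRec Cfsg.Agent.Lib.Helper8.SpCount

universe u

section Pal

variable {K : Type u} [Field K]

theorem eval_one_reverse (g : K[X]) : g.reverse.eval 1 = g.eval 1 := by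
  let _ : Invertible (1 : K) := invertibleOne
  have := eval₂_reverse_mul_pow (RingHom.id K) (1 : K) g
  rw [invOf_one, one_pow, mul_one] at this
  exact this

/-- a self-reciprocal polynomial dividing a power of `X ^ r - 1` (`r` odd) and not vanishing at
`1` has even degree -/
theorem even_natDegree_of_isSR {r : ℕ} (hr : Odd r) {h : K[X]} (hh : IsSR (RingHom.id K) h)
    (N : ℕ) (hd : h ∣ (X ^ r - 1) ^ N) (h1 : h.eval 1 ≠ 0) : Even h.natDegree := by
  by_contra hne
  rw [Nat.not_even_iff_odd] at hne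
  obtain ⟨x, hx2, hx⟩ := exists_root_of_odd hh hne
  have hxr : x ^ r = 1 := by
    obtain ⟨u, hu⟩ := hd
    have := congrArg (eval x) hu
    rw [eval_mul, hx, zero_mul, eval_pow, eval_sub, eval_pow, eval_X, eval_one] at this
    by_cases hN : N = 0
    · subst hN
      rw [pow_zero] at this
      exact absurd this one_ne_zero
    · exact sub_eq_zero.1 (pow_eq_zero_iff hN |>.1 this)
  obtain ⟨v, hv⟩ := hr
  have : x = 1 := by
    rw [hv, pow_succ, pow_mul, hx2, one_pow, one_mul] at hxr
    exact hxr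
  rw [this] at hx
  exact h1 hx

end Pal

section Sp

variable {F : Type u} [Field F] [Fintype F] [DecidableEq F] {r : ℕ} [hr : Fact r.Prime] {m : ℕ}

local notation "Mat" => Matrix (Fin m ⊕ Fin m) (Fin m ⊕ Fin m) F

theorem exists_mult (g : symplecticGroup (Fin m) F) (hg : g ^ r = 1) :
    ∃ e' : Option ↥(cycFactors F r) → ℕ, (g : Mat).charpoly = fe (PPo F r) e' := by
  have hM : (g : Mat) ^ r = 1 := by
    rw [← SubmonoidClass.coe_pow, hg]; rfl
  apply exists_fe (PPo F r) _ _ rfl (Matrix.charpoly_monic _)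
  intro h hm hi hd
  exact exists_PPo hm hi (dvd_X_pow_sub_one _ r hM hi hd)

theorem mult_symm (hrF : (r : F) ≠ 0) (g : symplecticGroup (Fin m) F)
    (e' : Option ↥(cycFactors F r) → ℕ) (he : (g : Mat).charpoly = fe (PPo F r) e') :
    e' ∘ Option.map (sIdx (RingHom.id F) (fun _ => rfl) hrF) = e' := by
  apply comp_eq_of_rv_fe (RingHom.id F) (isFam_PPo hrF) PPo_coeff_zero _
    (optionMap_involutive _ _ hrF) (PPo_rc _ _ hrF) e' 1
  rw [← he, C_1, one_mul]
  unfold rv
  rw [Polynomial.map_id, charpoly_reverse]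

theorem natDegree_fe_PPo (hrF : (r : F) ≠ 0) (i : ℕ)
    (hdeg : ∀ j : ↥(cycFactors F r), (PP F r j).natDegree = i)
    (e' : Option ↥(cycFactors F r) → ℕ) :
    (fe (PPo F r) e').natDegree = e' none + i * ∑ j, e' (some j) := by
  rw [natDegree_fe (isFam_PPo hrF), Fintype.sum_option]
  simp only [PPo_none, PPo_some, hdeg]
  have : (X - 1 : F[X]).natDegree = 1 := by
    have := natDegree_X_sub_C (1 : F)
    rwa [C_1] at this
  rw [this, mul_one, Finset.mul_sum]
  congr 1
  apply Finset.sum_congr rfl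
  intro j _
  ring

/-- the `Φ_r`-part of a symmetric multiplicity function gives a palindromic polynomial of even
degree -/
theorem fe_PP_pal (hrF : (r : F) ≠ 0) (hrodd : Odd r) (e : ↥(cycFactors F r) → ℕ)
    (he : e ∘ sIdx (RingHom.id F) (fun _ => rfl) hrF = e) :
    (fe (PP F r) e).reverse = fe (PP F r) e ∧ Even (fe (PP F r) e).natDegree := by
  set g := fe (PP F r) e with hg
  have hgm : g.Monic := fe_monic isFam_PP e
  have h1 := rv_fe (RingHom.id F) PP_coeff_zero _ (sIdx_involutive _ _ hrF)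
    (fun j => (PP_sIdx (RingHom.id F) (fun _ => rfl) hrF j).symm) e
  rw [he] at h1
  unfold rv at h1
  rw [Polynomial.map_id] at h1
  have hg1 : g.eval 1 ≠ 0 := by
    rw [hg]
    unfold fe
    rw [eval_prod]
    apply Finset.prod_ne_zero_iff.2
    intro j _
    rw [eval_pow]
    exact pow_ne_zero _ (PP_eval_one hrF j)
  have hc : (∏ j, (RingHom.id F) ((PP F r j).coeff 0) ^ e j) = 1 := by
    have h2 := congrArg (eval 1) h1
    rw [eval_one_reverse, eval_mul, eval_C] at h2
    have h3 : (1 : F) * g.eval 1 = (∏ j, (RingHom.id F) ((PP F r j).coeff 0) ^ e j) * g.eval 1 := by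
      rw [one_mul]; exact h2
    exact (mul_right_cancel₀ hg1 h3).symm
  rw [hc, C_1, one_mul] at h1
  refine ⟨h1, ?_⟩
  have h0 : g.coeff 0 = 1 := by
    have := coeff_zero_reverse g
    rw [h1, hgm.leadingCoeff] at this
    exact this
  have hsr : IsSR (RingHom.id F) g := by
    refine ⟨hgm, by rw [h0]; exact one_ne_zero, ?_⟩
    rw [Polynomial.map_id, h1, h0, RingHom.id_apply, C_1, one_mul]
  have hdvd : g ∣ (X ^ r - 1) ^ (∑ j, e j) := by
    rw [hg]
    unfold fe
    rw [← Finset.prod_pow_eq_pow_sum]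
    apply Finset.prod_dvd_prod_of_dvd
    intro j _
    exact pow_dvd_pow_of_dvd (PP_dvd j) _
  exact even_natDegree_of_isSR hrodd hsr _ hdvd hg1

theorem reverse_X_sub_one_pow (N : ℕ) (hN : Even N) :
    ((X - 1 : F[X]) ^ N).reverse = (X - 1) ^ N := by
  have h1 : rv (RingHom.id F) ((X - 1 : F[X]) ^ N) = (rv (RingHom.id F) (X - 1)) ^ N := by
    rw [← rvHom_apply, map_pow, rvHom_apply]
  unfold rv at h1
  rw [Polynomial.map_id, Polynomial.map_id] at h1
  have h2 := reverse_X_pow_sub_one (K := F) 1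
  rw [pow_one] at h2
  rw [h1, h2, ← neg_sub, hN.neg_pow]

end Sp

end Cfsg.Agent.Lib.Helper8.PrimeOrd
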