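import Mathlib
import Cfsg.Agent.Lib.Helper8.GUPrimeC
import Cfsg.Agent.Lib.Helper8.PrimeOrdH

/-!
# Classes of elements of prime order `r ≠ p` in `GU_n(q)`: the bijection with symmetric
multiplicity functions (helper8)
-/

set_option autoImplicit false
set_option linter.unusedSectionVars false

namespace Cfsg.Agent.Lib.Helper8.GUPrime

open Polynomial Matrix Cfsg Cfsg.Agent.Lib.Helper8.SUCount Cfsg.Agent.Lib.Helper8.SelfRec
  Cfsg.Agent.Lib.Helper8.PrimeOrd

universe u v

section Gen

variable {K : Type u} [Field K] {ι : Type v} [Fintype ι] [DecidableEq ι]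

theorem coeff_zero_fe (P : ι → K[X]) (e : ι → ℕ) :
    (fe P e).coeff 0 = ∏ j, (P j).coeff 0 ^ e j := by
  unfold fe
  rw [coeff_zero_eq_eval_zero, eval_prod]
  apply Finset.prod_congr rfl
  intro j _
  rw [eval_pow, coeff_zero_eq_eval_zero]

/-- a polynomial supported symmetrically on a family closed under the twisted reciprocal is
twisted self-reciprocal -/
theorem isSR_fe (θ : K →+* K) {P : ι → K[X]} (hP : IsFam P) (h0 : ∀ j, (P j).coeff 0 ≠ 0)
    (s : ι → ι) (hs : Function.Involutive s) (hrc : ∀ j, rc θ (P j) = P (s j)) (e : ι → ℕ)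
    (he : e ∘ s = e) : IsSR θ (fe P e) := by
  refine ⟨fe_monic hP e, ?_, ?_⟩
  · rw [coeff_zero_fe]
    apply Finset.prod_ne_zero_iff.2
    intro j _
    exact pow_ne_zero _ (h0 j)
  · have h1 := rv_fe θ h0 s hs hrc e
    rw [he] at h1
    unfold rv at h1
    rw [h1, coeff_zero_fe]
    congr 2
    rw [map_prod θ]
    apply Finset.prod_congr rfl
    intro j _
    rw [map_pow]

end Gen

section GU

variable {F : Type u} [Field F] [Fintype F] [DecidableEq F] {r : ℕ} [hr : Fact r.Prime]
  {q n : ℕ}

local notation "Mt" => Matrix (Fin n) (Fin n) F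

theorem gu_exists_mult (g : ↥(Cfsg.GU n F q)) (hg : g ^ r = 1) :
    ∃ e' : Option ↥(cycFactors F r) → ℕ, (mat g).charpoly = fe (PPo F r) e' := by
  have hM : (mat g) ^ r = 1 := by
    rw [← mat_pow, hg, mat_one]
  apply exists_fe (PPo F r) _ _ rfl (Matrix.charpoly_monic _)
  intro h hm hi hd
  exact exists_PPo hm hi (dvd_X_pow_sub_one _ r hM hi hd)

theorem gu_mult_symm (hF : Fintype.card F = q ^ 2) (hrF : (r : F) ≠ 0) (g : ↥(Cfsg.GU n F q))
    (e' : Option ↥(cycFactors F r) → ℕ) (he : (mat g).charpoly = fe (PPo F r) e') :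
    e' ∘ Option.map (sIdx (sg hF) (sg_sg hF) hrF) = e' := by
  apply comp_eq_of_rv_fe (sg hF) (isFam_PPo hrF) PPo_coeff_zero _
    (optionMap_involutive _ _ hrF) (PPo_rc _ _ hrF) e' (sg hF ((mat g).charpoly.coeff 0))
  rw [← he]
  exact (gu_charpoly hF g).2.2

/-- existence of an element of order `r` with prescribed multiplicities -/
theorem exists_gu_of_mult (hF : Fintype.card F = q ^ 2) (p : ℕ) [Fact p.Prime] [CharP F p]
    (b : ℕ) (hdeg : ∀ j : ↥(cycFactors F r), (PP F r j).natDegree = b) (hrF : (r : F) ≠ 0)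
    (e : ↥(cycFactors F r) → ℕ)
    (he : e ∘ sIdx (sg hF) (sg_sg hF) hrF = e) (hle : b * ∑ j, e j ≤ n)
    (hne : e ≠ 0) :
    ∃ h : ↥(Cfsg.GU n F q), orderOf h = r ∧
      (mat h).charpoly =
        fe (PPo F r) (fun o => Option.elim o (n - b * ∑ j, e j) e) := by
  set e₀ := n - b * ∑ j, e j with he₀
  set e' : Option ↥(cycFactors F r) → ℕ := fun o => Option.elim o e₀ e with he'
  set f := fe (PPo F r) e' with hf
  have he's : e' ∘ Option.map (sIdx (sg hF) (sg_sg hF) hrF) = e' := by
    funext o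
    cases o with
    | none => rfl
    | some j => exact congrFun he j
  have hsr : IsSR (sg hF) f :=
    isSR_fe (sg hF) (isFam_PPo hrF) PPo_coeff_zero _ (optionMap_involutive _ _ hrF)
      (PPo_rc _ _ hrF) e' he's
  have hfdeg : f.natDegree = n := by
    rw [hf, natDegree_fe_PPo hrF b hdeg]
    simp only [he', Option.elim_none, Option.elim_some]
    omega
  obtain ⟨A, hA, hAf⟩ := real_all (sg_ne_id hF) (sg_sg hF) n f hsr hfdeg
  obtain ⟨g₀, hg₀⟩ := exists_gu_of_unitary hF A hA
  obtain ⟨h, hcop, hch⟩ := gu_exists_coprime_same_charpoly p g₀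
  have hss := gu_isSemisimple_of_orderOf_coprime p h hcop
  have hchf : (mat h).charpoly = f := by rw [hch, hg₀, hAf]
  have hpow : h ^ r = 1 := by
    apply mat_injective
    rw [mat_pow, mat_one]
    apply pow_eq_one_of_semisimple (mat h) hss r (∑ o, e' o)
    rw [hchf]
    exact fe_PPo_dvd e'
  have hne1 : h ≠ 1 := by
    intro h1
    apply hne
    have h2 : (mat h).charpoly = (X - 1) ^ Fintype.card (Fin n) := by
      rw [h1, mat_one]
      exact Matrix.charpoly_one
    rw [hchf, ← fe_PPo_single (F := F) (r := r)] at h2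
    have h3 := fe_injective (isFam_PPo hrF) h2
    funext j
    have := congrFun h3 (some j)
    simpa [he'] using this
  exact ⟨h, orderOf_eq_prime hpow hne1, hchf⟩

/-- the classes of elements of order `r` in `GU_n(q)` correspond to the non-zero symmetric
multiplicity functions -/
theorem gu_classes_card (hF : Fintype.card F = q ^ 2) (p : ℕ) [Fact p.Prime] [CharP F p]
    (hrp : r ≠ p) (b : ℕ)
    (hbpos : 0 < b) (hdeg : ∀ j : ↥(cycFactors F r), (PP F r j).natDegree = b)
    (hrF : (r : F) ≠ 0) :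
    Nat.card {C : ConjClasses ↥(Cfsg.GU n F q) //
      ∃ g : ↥(Cfsg.GU n F q), ConjClasses.mk g = C ∧ orderOf g = r} + 1 =
    Nat.card {e : ↥(cycFactors F r) → ℕ //
      e ∘ sIdx (sg hF) (sg_sg hF) hrF = e ∧ b * ∑ j, e j ≤ n} := by
  classical
  set s := sIdx (sg hF) (sg_sg hF) hrF with hs_def
  have hcop : r.Coprime p := (Nat.coprime_primes hr.out Fact.out).2 hrp
  let 𝒞 := {C : ConjClasses ↥(Cfsg.GU n F q) //
      ∃ g : ↥(Cfsg.GU n F q), ConjClasses.mk g = C ∧ orderOf g = r}
  let D₀ := {e : ↥(cycFactors F r) → ℕ // e ∘ s = e ∧ b * ∑ j, e j ≤ n}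
  let rep : 𝒞 → ↥(Cfsg.GU n F q) := fun c => Classical.choose c.2
  have hrep : ∀ c : 𝒞, ConjClasses.mk (rep c) = c.1 ∧ orderOf (rep c) = r :=
    fun c => Classical.choose_spec c.2
  have hreppow : ∀ c : 𝒞, (rep c) ^ r = 1 := fun c => by
    have := pow_orderOf_eq_one (rep c)
    rwa [(hrep c).2] at this
  have hss : ∀ c : 𝒞, Module.End.IsSemisimple (Matrix.toLin' (mat (rep c))) :=
    fun c => gu_isSemisimple_of_orderOf_coprime p _ (by rw [(hrep c).2]; exact hcop)
  let E' : 𝒞 → (Option ↥(cycFactors F r) → ℕ) :=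
    fun c => Classical.choose (gu_exists_mult (rep c) (hreppow c))
  have hE' : ∀ c : 𝒞, (mat (rep c)).charpoly = fe (PPo F r) (E' c) :=
    fun c => Classical.choose_spec (gu_exists_mult (rep c) (hreppow c))
  have hdegc : ∀ c : 𝒞, E' c none + b * ∑ j, E' c (some j) = n := by
    intro c
    rw [← natDegree_fe_PPo hrF b hdeg, ← hE' c, gu_charpoly_natDegree]
  have hΦmem : ∀ c : 𝒞, (fun j => E' c (some j)) ∘ s = (fun j => E' c (some j)) ∧
      b * ∑ j, E' c (some j) ≤ n := by
    intro c
    constructor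
    · have := gu_mult_symm hF hrF (rep c) (E' c) (hE' c)
      funext j
      exact congrFun this (some j)
    · have := hdegc c
      omega
  let z : D₀ := ⟨0, rfl, by simp⟩
  have hΦne : ∀ c : 𝒞, (⟨fun j => E' c (some j), hΦmem c⟩ : D₀) ≠ z := by
    intro c hz
    have h0 : ∀ j, E' c (some j) = 0 := by
      intro j
      have := congrArg (fun x : D₀ => x.1 j) hz
      exact this
    have h1 : (mat (rep c)).charpoly = (X - 1) ^ (E' c none) := by
      rw [hE' c, fe_PPo]
      have : (fun j => E' c (some j)) = (0 : ↥(cycFactors F r) → ℕ) := funext h0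
      rw [this, fe_zero, mul_one]
    have h2 := eq_one_of_semisimple _ (hss c) (E' c none) (by rw [h1])
    have h3 : rep c = 1 := mat_injective (by rw [h2, mat_one])
    have h4 := (hrep c).2
    rw [h3, orderOf_one] at h4
    exact hr.out.one_lt.ne h4
  let Φ : 𝒞 → {x : D₀ // x ≠ z} := fun c => ⟨⟨fun j => E' c (some j), hΦmem c⟩, hΦne c⟩
  have hinj : Function.Injective Φ := by
    intro c c' hcc
    have h1 : ∀ j, E' c (some j) = E' c' (some j) := by
      intro j
      have := congrArg (fun x : {x : D₀ // x ≠ z} => x.1.1 j) hcc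
      exact this
    have h2 : E' c = E' c' := by
      funext o
      cases o with
      | none =>
        have e1 := hdegc c
        have e2 := hdegc c'
        have : ∑ j, E' c (some j) = ∑ j, E' c' (some j) :=
          Finset.sum_congr rfl (fun j _ => h1 j)
        rw [this] at e1
        omega
      | some j => exact h1 j
    have hc : (mat (rep c)).charpoly = (mat (rep c')).charpoly := by
      rw [hE' c, hE' c', h2]
    have hconj := gu_isConj hF (rep c) (rep c') (hss c) (hss c') hc
    apply Subtype.ext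
    rw [← (hrep c).1, ← (hrep c').1]
    exact ConjClasses.mk_eq_mk_iff_isConj.2 hconj
  have hsurj : Function.Surjective Φ := by
    rintro ⟨⟨e, he, hle⟩, hne⟩
    have hne' : e ≠ 0 := by
      intro h0
      apply hne
      apply Subtype.ext
      exact h0
    obtain ⟨h, hord, hch⟩ := exists_gu_of_mult hF p b hdeg hrF e he hle hne'
    let c : 𝒞 := ⟨ConjClasses.mk h, h, rfl, hord⟩
    refine ⟨c, ?_⟩
    have hconj : IsConj (rep c) h := ConjClasses.mk_eq_mk_iff_isConj.1 (hrep c).1
    have h1 : fe (PPo F r) (E' c) =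
        fe (PPo F r) (fun o => Option.elim o (n - b * ∑ j, e j) e) := by
      rw [← hE' c, gu_charpoly_eq_of_isConj hconj, hch]
    have h2 := fe_injective (isFam_PPo hrF) h1
    apply Subtype.ext
    apply Subtype.ext
    funext j
    exact congrFun h2 (some j)
  have hbij : Function.Bijective Φ := ⟨hinj, hsurj⟩
  have hfin : Finite D₀ := by
    apply Finite.of_injective (fun (x : D₀) (j : ↥(cycFactors F r)) =>
      (⟨x.1 j, by
        have h1 : x.1 j ≤ ∑ k, x.1 k :=
          Finset.single_le_sum (f := x.1) (fun _ _ => Nat.zero_le _) (Finset.mem_univ j)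
        have h2 := x.2.2
        have h3 : ∑ k, x.1 k ≤ b * ∑ k, x.1 k := Nat.le_mul_of_pos_left _ hbpos
        omega⟩ : Fin (n + 1)))
    intro x y hxy
    apply Subtype.ext
    funext j
    have := congrFun hxy j
    exact Fin.mk.inj_iff.1 this
  change Nat.card 𝒞 + 1 = Nat.card D₀
  rw [Nat.card_eq_of_bijective Φ hbij, ← Nat.card_congr (Equiv.optionSubtypeNe z),
    Finite.card_option]

end GU

end Cfsg.Agent.Lib.Helper8.GUPrime
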