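import Mathlib

set_option autoImplicit false

/-!
Gluing lemma (helper8): a group `X = H₁ H₂` and homomorphisms `f₁ : H₁ →* X'`, `f₂ : H₂ →* X'`
that agree on `H₁ ⊓ H₂` and are compatible with the commutators `⁅h₁, h₂⁆ ∈ H₁` glue to a
homomorphism `X →* X'` with `h₁ h₂ ↦ f₁ h₁ * f₂ h₂`.  No finiteness, no centrality needed.
-/

namespace Cfsg.Agent.Lib.Helper8.Glue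

variable {X X' : Type*} [Group X] [Group X']

/-- Gluing lemma.  `hcomm` : the commutators `h₁ h₂ h₁⁻¹ h₂⁻¹` lie in `H₁`;
`hagree` : `f₁ = f₂` on `H₁ ⊓ H₂`; `hf` : `f₁ h₁ * f₂ h₂ * (f₁ h₁)⁻¹ * (f₂ h₂)⁻¹ = f₁ (h₁ h₂ h₁⁻¹ h₂⁻¹)`. -/
theorem glue (H₁ H₂ : Subgroup X)
    (hprod : ∀ x : X, ∃ h₁ ∈ H₁, ∃ h₂ ∈ H₂, x = h₁ * h₂)
    (hcomm : ∀ h₁ ∈ H₁, ∀ h₂ ∈ H₂, h₁ * h₂ * h₁⁻¹ * h₂⁻¹ ∈ H₁)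
    (f₁ : H₁ →* X') (f₂ : H₂ →* X')
    (hagree : ∀ (z : X) (hz₁ : z ∈ H₁) (hz₂ : z ∈ H₂), f₁ ⟨z, hz₁⟩ = f₂ ⟨z, hz₂⟩)
    (hf : ∀ (h₁ : X) (hh₁ : h₁ ∈ H₁) (h₂ : X) (hh₂ : h₂ ∈ H₂),
      f₁ ⟨h₁, hh₁⟩ * f₂ ⟨h₂, hh₂⟩ * (f₁ ⟨h₁, hh₁⟩)⁻¹ * (f₂ ⟨h₂, hh₂⟩)⁻¹
        = f₁ ⟨h₁ * h₂ * h₁⁻¹ * h₂⁻¹, hcomm h₁ hh₁ h₂ hh₂⟩) :
    ∃ F : X →* X', ∀ (h₁ : X) (hh₁ : h₁ ∈ H₁) (h₂ : X) (hh₂ : h₂ ∈ H₂),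
      F (h₁ * h₂) = f₁ ⟨h₁, hh₁⟩ * f₂ ⟨h₂, hh₂⟩ := by
  classical
  -- well defined
  have hwd : ∀ (h₁ : X) (hh₁ : h₁ ∈ H₁) (h₂ : X) (hh₂ : h₂ ∈ H₂) (k₁ : X) (hk₁ : k₁ ∈ H₁)
      (k₂ : X) (hk₂ : k₂ ∈ H₂), h₁ * h₂ = k₁ * k₂ →
      f₁ ⟨h₁, hh₁⟩ * f₂ ⟨h₂, hh₂⟩ = f₁ ⟨k₁, hk₁⟩ * f₂ ⟨k₂, hk₂⟩ := by
    intro h₁ hh₁ h₂ hh₂ k₁ hk₁ k₂ hk₂ heq
    have hz : k₁⁻¹ * h₁ = k₂ * h₂⁻¹ := by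
      have : k₁⁻¹ * (h₁ * h₂) * h₂⁻¹ = k₁⁻¹ * (k₁ * k₂) * h₂⁻¹ := by rw [heq]
      simpa [mul_assoc] using this
    have hz₁ : k₁⁻¹ * h₁ ∈ H₁ := H₁.mul_mem (H₁.inv_mem hk₁) hh₁
    have hz₂ : k₁⁻¹ * h₁ ∈ H₂ := by rw [hz]; exact H₂.mul_mem hk₂ (H₂.inv_mem hh₂)
    have e₁ : (⟨h₁, hh₁⟩ : H₁) = ⟨k₁, hk₁⟩ * ⟨k₁⁻¹ * h₁, hz₁⟩ := by
      apply Subtype.ext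
      simp
    have e₂ : (⟨k₂, hk₂⟩ : H₂) = ⟨k₁⁻¹ * h₁, hz₂⟩ * ⟨h₂, hh₂⟩ := by
      apply Subtype.ext
      simp only [Subgroup.coe_mul]
      rw [hz]
      simp
    rw [e₁, e₂, map_mul, map_mul, hagree _ hz₁ hz₂, mul_assoc]
  choose a ha b hb hab using hprod
  have hval : ∀ (h₁ : X) (hh₁ : h₁ ∈ H₁) (h₂ : X) (hh₂ : h₂ ∈ H₂),
      f₁ ⟨a (h₁ * h₂), ha _⟩ * f₂ ⟨b (h₁ * h₂), hb _⟩ = f₁ ⟨h₁, hh₁⟩ * f₂ ⟨h₂, hh₂⟩ := by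
    intro h₁ hh₁ h₂ hh₂
    exact hwd _ (ha _) _ (hb _) h₁ hh₁ h₂ hh₂ (hab (h₁ * h₂)).symm
  -- the swapping rule
  have hswap : ∀ (h₂ : X) (hh₂ : h₂ ∈ H₂) (k₁ : X) (hk₁ : k₁ ∈ H₁),
      f₂ ⟨h₂, hh₂⟩ * f₁ ⟨k₁, hk₁⟩ =
        f₁ ⟨k₁, hk₁⟩ * f₁ ⟨k₁⁻¹ * h₂ * k₁⁻¹⁻¹ * h₂⁻¹, hcomm _ (H₁.inv_mem hk₁) _ hh₂⟩ *
          f₂ ⟨h₂, hh₂⟩ := by
    intro h₂ hh₂ k₁ hk₁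
    have h := hf k₁⁻¹ (H₁.inv_mem hk₁) h₂ hh₂
    rw [← h]
    have e : (⟨k₁⁻¹, H₁.inv_mem hk₁⟩ : H₁) = (⟨k₁, hk₁⟩ : H₁)⁻¹ := rfl
    rw [e, map_inv]
    group
  refine ⟨MonoidHom.mk' (fun x => f₁ ⟨a x, ha x⟩ * f₂ ⟨b x, hb x⟩) ?_, ?_⟩
  · intro x x'
    -- write x = h₁ h₂, x' = k₁ k₂
    have hx := hab x
    have hx' := hab x'
    set h₁ := a x with hh₁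
    set h₂ := b x with hh₂
    set k₁ := a x' with hk₁
    set k₂ := b x' with hk₂
    have hc : k₁⁻¹ * h₂ * k₁⁻¹⁻¹ * h₂⁻¹ ∈ H₁ := hcomm _ (H₁.inv_mem (ha x')) _ (hb x)
    have hprod' : x * x' = (h₁ * k₁ * (k₁⁻¹ * h₂ * k₁⁻¹⁻¹ * h₂⁻¹)) * (h₂ * k₂) := by
      rw [hx, hx']
      group
    have hm₁ : h₁ * k₁ * (k₁⁻¹ * h₂ * k₁⁻¹⁻¹ * h₂⁻¹) ∈ H₁ :=
      H₁.mul_mem (H₁.mul_mem (ha x) (ha x')) hc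
    have hm₂ : h₂ * k₂ ∈ H₂ := H₂.mul_mem (hb x) (hb x')
    have h1 := hval _ hm₁ _ hm₂
    rw [← hprod'] at h1
    rw [h1]
    have e₁ : (⟨h₁ * k₁ * (k₁⁻¹ * h₂ * k₁⁻¹⁻¹ * h₂⁻¹), hm₁⟩ : H₁) =
        ⟨h₁, ha x⟩ * ⟨k₁, ha x'⟩ * ⟨k₁⁻¹ * h₂ * k₁⁻¹⁻¹ * h₂⁻¹, hc⟩ := rfl
    have e₂ : (⟨h₂ * k₂, hm₂⟩ : H₂) = ⟨h₂, hb x⟩ * ⟨k₂, hb x'⟩ := rfl
    rw [e₁, e₂, map_mul, map_mul, map_mul]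
    have hs := hswap h₂ (hb x) k₁ (ha x')
    calc f₁ ⟨h₁, ha x⟩ * f₁ ⟨k₁, ha x'⟩ * f₁ ⟨k₁⁻¹ * h₂ * k₁⁻¹⁻¹ * h₂⁻¹, hc⟩ *
          (f₂ ⟨h₂, hb x⟩ * f₂ ⟨k₂, hb x'⟩)
        = f₁ ⟨h₁, ha x⟩ * (f₁ ⟨k₁, ha x'⟩ * f₁ ⟨k₁⁻¹ * h₂ * k₁⁻¹⁻¹ * h₂⁻¹, hc⟩ *
          f₂ ⟨h₂, hb x⟩) * f₂ ⟨k₂, hb x'⟩ := by simp only [mul_assoc]
      _ = f₁ ⟨h₁, ha x⟩ * (f₂ ⟨h₂, hb x⟩ * f₁ ⟨k₁, ha x'⟩) * f₂ ⟨k₂, hb x'⟩ := by rw [hs]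
      _ = f₁ ⟨h₁, ha x⟩ * f₂ ⟨h₂, hb x⟩ * (f₁ ⟨k₁, ha x'⟩ * f₂ ⟨k₂, hb x'⟩) := by
          simp only [mul_assoc]
  · intro h₁ hh₁ h₂ hh₂
    rw [MonoidHom.mk'_apply]
    exact hval h₁ hh₁ h₂ hh₂

/-- a surjective homomorphism between finite groups of the same order is an isomorphism -/
theorem equiv_of_surjective [Finite X] [Finite X'] (F : X →* X') (hsurj : Function.Surjective F)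
    (hcard : Nat.card X = Nat.card X') : ∃ E : X ≃* X', ∀ x, E x = F x := by
  have hbij : Function.Bijective F := by
    rw [Nat.bijective_iff_surjective_and_card]
    exact ⟨hsurj, hcard⟩
  exact ⟨MulEquiv.ofBijective F hbij, fun x => rfl⟩

end Cfsg.Agent.Lib.Helper8.Glue
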