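import Cfsg.Agent.Lib.Helper8.J2MultA
import Cfsg.Agent.Lib.Helper8.StemCertF

/-!
# Stem extensions of a group with a class of involutions whose centraliser is perfect

Let `K` be a perfect subgroup of the centraliser of an involution `t` of `G`.  On the cosets of `K` the map
`g K ↦ g t g⁻¹` is an equivariant family of involutions, and the stabiliser of the base coset is `K`; so the family
lifts to every central extension of `G`.  The lifts satisfy every relation "two conjugates coincide" that holds in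
`G / K`, and a chain of checked tables of cosets bounds the order of the group they generate.
-/

set_option autoImplicit false

namespace Cfsg.Agent.Lib.Helper8.StemChain

open Cfsg.Agent.Lib.Helper8.CanonLift Cfsg.Agent.Lib.Helper8.CosetCertF
open scoped commutatorElement

/-! ### free reduction of words in involutions -/

/-- free reduction of a word in involutions, with a stack -/
def redAux : List ℕ → List ℕ → List ℕ
  | st, [] => st.reverse
  | [], x :: w => redAux [x] w
  | s :: st, x :: w => if s = x then redAux st w else redAux (x :: s :: st) w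

/-- free reduction of a word in involutions -/
def red (w : List ℕ) : List ℕ := redAux [] w

theorem prod_redAux {Γ : Type*} [Group Γ] (γ : ℕ → Γ) (hinv : ∀ x, γ x * γ x = 1) :
    ∀ (w st : List ℕ), ((redAux st w).map γ).prod = ((st.reverse ++ w).map γ).prod
  | [], st => by
    rw [redAux, List.append_nil]
  | x :: w, [] => by
    rw [redAux, prod_redAux γ hinv w [x]]
    rfl
  | x :: w, s :: st => by
    rw [redAux]
    split_ifs with h
    · rw [prod_redAux γ hinv w st, h]
      simp only [List.reverse_cons, List.map_append, List.prod_append, List.map_cons, List.map_nil,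
        List.prod_cons, List.prod_nil, mul_one]
      rw [mul_assoc, ← mul_assoc (γ x), hinv, one_mul]
    · rw [prod_redAux γ hinv w (x :: s :: st)]
      simp only [List.reverse_cons, List.map_append, List.prod_append, List.map_cons, List.map_nil,
        List.prod_cons, List.prod_nil, mul_one, mul_assoc]

theorem prod_red {Γ : Type*} [Group Γ] (γ : ℕ → Γ) (hinv : ∀ x, γ x * γ x = 1) (w : List ℕ) :
    ((red w).map γ).prod = (w.map γ).prod := by
  rw [red, prod_redAux γ hinv]
  rfl

/-- the product of two conjugates of generators `u₁ x₁ u₁⁻¹ · u₂ x₂ u₂⁻¹` -/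
def longW (c : List ℕ × ℕ × List ℕ × ℕ) : List ℕ :=
  (c.1 ++ c.2.1 :: c.1.reverse) ++ (c.2.2.1 ++ c.2.2.2 :: c.2.2.1.reverse)

/-! ### perfect subgroups -/

theorem perfect_of_range {S P : Type*} [Group S] [Group P] (ι : S →* P) (hinj : Function.Injective ι)
    (X : Set P) (hr : ι.range = Subgroup.closure X) (hX : ∀ x ∈ X, x ∈ (commutator S).map ι) :
    commutator S = ⊤ := by
  rw [Subgroup.eq_top_iff']
  intro s
  have h1 : ι s ∈ Subgroup.closure X := by rw [← hr]; exact ⟨s, rfl⟩
  have h2 : Subgroup.closure X ≤ (commutator S).map ι := (Subgroup.closure_le _).2 hX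
  obtain ⟨c, hc, hcs⟩ := h2 h1
  rw [← hinj hcs]
  exact hc

theorem prod_comm_mem {S P : Type*} [Group S] [Group P] (ι : S →* P) :
    ∀ l : List (P × P), (∀ pq ∈ l, pq.1 ∈ ι.range ∧ pq.2 ∈ ι.range) →
      (l.map fun pq => ⁅pq.1, pq.2⁆).prod ∈ (commutator S).map ι
  | [], _ => by
    rw [List.map_nil, List.prod_nil]
    exact Subgroup.one_mem _
  | pq :: l, h => by
    rw [List.map_cons, List.prod_cons]
    refine Subgroup.mul_mem _ ?_
      (prod_comm_mem ι l fun pq' h' => h pq' (List.mem_cons_of_mem _ h'))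
    obtain ⟨⟨s1, h1⟩, ⟨s2, h2⟩⟩ := h pq List.mem_cons_self
    refine ⟨⁅s1, s2⁆, ?_, ?_⟩
    · rw [SetLike.mem_coe, commutator_def]
      exact Subgroup.commutator_mem_commutator (Subgroup.mem_top _) (Subgroup.mem_top _)
    · rw [map_commutatorElement, h1, h2]

/-- a subgroup generated by products of commutators of its elements is perfect -/
theorem perfect_closure {G : Type*} [Group G] (S : Set G)
    (h : ∀ s ∈ S, ∃ l : List (G × G), (∀ pq ∈ l, pq.1 ∈ Subgroup.closure S ∧ pq.2 ∈ Subgroup.closure S) ∧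
      s = (l.map fun pq => ⁅pq.1, pq.2⁆).prod) :
    commutator ↥(Subgroup.closure S) = ⊤ := by
  apply perfect_of_range (Subgroup.closure S).subtype Subtype.val_injective S
  · exact Subgroup.range_subtype _
  · intro s hs
    obtain ⟨l, hl, rfl⟩ := h s hs
    apply prod_comm_mem
    intro pq hpq
    rw [Subgroup.range_subtype]
    exact hl pq hpq

theorem comm_of_mem_closure {G : Type*} [Group G] (S : Set G) (t : G) (h : ∀ s ∈ S, s * t = t * s) :
    ∀ k ∈ Subgroup.closure S, k * t = t * k := by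
  intro k hk
  induction hk using Subgroup.closure_induction with
  | mem s hs => exact h s hs
  | one => rw [one_mul, mul_one]
  | mul a b _ _ ha hb => rw [mul_assoc, hb, ← mul_assoc, ha, mul_assoc]
  | inv a _ ha =>
    calc a⁻¹ * t = a⁻¹ * (t * a) * a⁻¹ := by group
      _ = a⁻¹ * (a * t) * a⁻¹ := by rw [ha]
      _ = t * a⁻¹ := by group

/-! ### the family of involutions on the cosets -/

section family

variable {G : Type*} [Group G] (K : Subgroup G) (t : G) (hK : ∀ k ∈ K, k * t = t * k)

/-- the conjugate of `t` that belongs to a coset of a subgroup of its centraliser -/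
def TQ : G ⧸ K → G := fun q => Quotient.liftOn' q (fun g => g * t * g⁻¹) (by
  intro a b hab
  rw [QuotientGroup.leftRel_apply] at hab
  have h := hK _ hab
  show a * t * a⁻¹ = b * t * b⁻¹
  calc a * t * a⁻¹ = a * (t * (a⁻¹ * b)) * b⁻¹ := by group
    _ = a * ((a⁻¹ * b) * t) * b⁻¹ := by rw [h]
    _ = b * t * b⁻¹ := by group)

theorem TQ_mk (g : G) : TQ K t hK (g : G ⧸ K) = g * t * g⁻¹ := rfl

theorem TQ_conj (g : G) (x : G ⧸ K) : g * TQ K t hK x * g⁻¹ = TQ K t hK (g • x) := by
  induction x using QuotientGroup.induction_on with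
  | H h =>
    rw [MulAction.Quotient.smul_mk, smul_eq_mul, TQ_mk, TQ_mk]
    group

theorem TQ_sq (ht : t * t = 1) (x : G ⧸ K) : TQ K t hK x * TQ K t hK x = 1 := by
  induction x using QuotientGroup.induction_on with
  | H h =>
    rw [TQ_mk]
    calc h * t * h⁻¹ * (h * t * h⁻¹) = h * (t * t) * h⁻¹ := by group
      _ = 1 := by rw [ht]; group

theorem stab_perfect (hperf : commutator ↥K = ⊤) :
    commutator ↥(MulAction.stabilizer G ((1 : G) : G ⧸ K)) = ⊤ := by
  have key : ∀ A B : Subgroup G, A = B → commutator ↥B = ⊤ → commutator ↥A = ⊤ := by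
    intro A B hAB
    subst hAB
    exact id
  exact key _ _ (MulAction.stabilizer_quotient K) hperf

end family

/-! ### the lifts of the generating involutions -/

section lifts

variable {G Γ : Type*} [Group G] [Group Γ] {K : Subgroup G} {t : G} {hK : ∀ k ∈ K, k * t = t * k}
  {σ : Γ →* G} (Λ : Lifts σ (TQ K t hK)) (cj : ℕ → G)

/-- the generating involutions -/
def Tg (t : G) (cj : ℕ → G) (x : ℕ) : G := cj x * t * (cj x)⁻¹

/-- their lifts -/
def γ (x : ℕ) : Γ := Λ.L ((cj x : G) : G ⧸ K)

theorem γ_sq (x : ℕ) : γ Λ cj x * γ Λ cj x = 1 := Λ.sq _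

theorem map_γ (x : ℕ) : σ (γ Λ cj x) = Tg t cj x := Λ.map _

theorem prod_γ (w : List ℕ) :
    (w.map (γ Λ cj)).prod = Λ.ev (w.map fun x => ((cj x : G) : G ⧸ K)) := by
  unfold Lifts.ev
  rw [List.map_map]
  rfl

theorem conj_word (u : List ℕ) (x : ℕ) :
    ((u ++ x :: u.reverse).map (γ Λ cj)).prod =
      Λ.L ((((u.map (Tg t cj)).prod * cj x : G)) : G ⧸ K) := by
  rw [prod_γ, List.map_append, List.map_cons, List.map_reverse, Λ.ev_conj, List.map_map,
    MulAction.Quotient.smul_mk, smul_eq_mul]
  rfl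

/-- a word that is, up to free reduction, the product of two conjugates of generators that coincide -/
theorem word_of_conj {c : List ℕ × ℕ × List ℕ × ℕ} {w : List ℕ} (hred : red (longW c) = red w)
    (hmem : ((c.2.2.1.map (Tg t cj)).prod * cj c.2.2.2)⁻¹ * ((c.1.map (Tg t cj)).prod * cj c.2.1) ∈ K) :
    (w.map (γ Λ cj)).prod = 1 := by
  have e : ((((c.1.map (Tg t cj)).prod * cj c.2.1 : G)) : G ⧸ K) =
      (((c.2.2.1.map (Tg t cj)).prod * cj c.2.2.2 : G)) := (QuotientGroup.eq.2 hmem).symm
  rw [← prod_red (γ Λ cj) (γ_sq Λ cj) w, ← hred, prod_red (γ Λ cj) (γ_sq Λ cj), longW, List.map_append,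
    List.prod_append, conj_word, conj_word, e, Λ.sq]

/-- the word of the normalising relation -/
theorem word_of_r3 {xa : ℕ} {wc : List ℕ} {xc : ℕ} {wu : List ℕ} {xu : ℕ}
    (hacu : Λ.L ((cj xa : G) : G ⧸ K) * Λ.L ((((wc.map (Tg t cj)).prod * cj xc : G)) : G ⧸ K) =
      Λ.L ((((wu.map (Tg t cj)).prod * cj xu : G)) : G ⧸ K))
    {w : List ℕ}
    (hred : red (xa :: ((wc ++ xc :: wc.reverse) ++ (wu ++ xu :: wu.reverse))) = red w) :
    (w.map (γ Λ cj)).prod = 1 := by
  rw [← prod_red (γ Λ cj) (γ_sq Λ cj) w, ← hred, prod_red (γ Λ cj) (γ_sq Λ cj), List.map_cons,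
    List.prod_cons, List.map_append, List.prod_append, conj_word, conj_word, ← mul_assoc]
  show Λ.L ((cj xa : G) : G ⧸ K) * _ * _ = 1
  rw [hacu, Λ.sq]

end lifts

/-! ### chains of tables -/

section chain

variable {Γ : Type*} [Group Γ]

/-- the number of generators at the top of a chain -/
def chainTop : ℕ → List Cert → ℕ
  | g, [] => g
  | _, C :: Cs => chainTop C.g Cs

/-- the check of a chain of tables -/
def chainOK : ℕ → List Cert → Bool
  | _, [] => true
  | g, C :: Cs => (C.nsub == g) && decide (C.nsub ≤ C.g) && C.lettersOK && decide (0 < C.n) && C.allOK &&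
      chainOK C.g Cs

theorem card_chain (γ : ℕ → Γ) (hinv : ∀ x, γ x * γ x = 1) :
    ∀ (Cs : List Cert) (g₀ : ℕ), chainOK g₀ Cs = true →
      (∀ C ∈ Cs, ∀ w ∈ C.W, (w.map γ).prod = 1) →
      Nat.card ↥(Subgroup.closure (γ '' Set.Iio (chainTop g₀ Cs))) ≤
        (Cs.map fun C => C.n).prod * Nat.card ↥(Subgroup.closure (γ '' Set.Iio g₀))
  | [], g₀, _, _ => by
    rw [chainTop, List.map_nil, List.prod_nil, one_mul]
  | C :: Cs, g₀, hOK, hW => by
    rw [chainOK, Bool.and_eq_true, Bool.and_eq_true, Bool.and_eq_true, Bool.and_eq_true,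
      Bool.and_eq_true, beq_iff_eq, decide_eq_true_eq, decide_eq_true_eq] at hOK
    obtain ⟨⟨⟨⟨⟨h1, h2⟩, h3⟩, h4⟩, h5⟩, h6⟩ := hOK
    have ih := card_chain γ hinv Cs C.g h6 fun C' hC' => hW C' (List.mem_cons_of_mem _ hC')
    have hstep := C.card_closure_le γ hinv h2 (hW C List.mem_cons_self) h3 h4 h5
    rw [h1] at hstep
    rw [chainTop, List.map_cons, List.prod_cons]
    calc Nat.card ↥(Subgroup.closure (γ '' Set.Iio (chainTop C.g Cs)))
        ≤ (Cs.map fun C => C.n).prod * Nat.card ↥(Subgroup.closure (γ '' Set.Iio C.g)) := ih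
      _ ≤ (Cs.map fun C => C.n).prod * (C.n * Nat.card ↥(Subgroup.closure (γ '' Set.Iio g₀))) :=
        Nat.mul_le_mul_left _ hstep
      _ = C.n * (Cs.map fun C => C.n).prod * Nat.card ↥(Subgroup.closure (γ '' Set.Iio g₀)) := by ring

end chain

/-! ### the conclusion -/

theorem ker_eq_bot_of_card {G Γ : Type*} [Group G] [Group Γ] [Finite Γ] (σ : Γ →* G)
    (hsurj : Function.Surjective σ) (h : Nat.card Γ ≤ Nat.card G) : σ.ker = ⊥ := by
  have : Finite G := Finite.of_surjective σ hsurj
  have h1 := Subgroup.card_mul_index σ.ker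
  have h2 : σ.ker.index = Nat.card G := by
    rw [Subgroup.index_ker, MonoidHom.range_eq_top.2 hsurj, Subgroup.card_top]
  rw [h2] at h1
  have hG : 0 < Nat.card G := Nat.card_pos
  have h3 : Nat.card ↥σ.ker ≤ 1 := by
    by_contra hcon
    have hcon' : 2 ≤ Nat.card ↥σ.ker := by omega
    have : 2 * Nat.card G ≤ Nat.card ↥σ.ker * Nat.card G := Nat.mul_le_mul_right _ hcon'
    omega
  exact (Subgroup.card_le_one_iff_eq_bot _).1 h3

/-- **the main step**: the kernel of a stem extension is trivial when the lifts of the generating involutions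
generate a group that is not larger than `G` -/
theorem ker_eq_bot_of_chain {G Γ : Type*} [Group G] [Group Γ] [Finite Γ] (σ : Γ →* G)
    (hsurj : Function.Surjective σ) (hcen : σ.ker ≤ Subgroup.center Γ) (hder : σ.ker ≤ commutator Γ)
    (K : Subgroup G) (t : G) (ht : t * t = 1) (hK : ∀ k ∈ K, k * t = t * k)
    (hperf : commutator ↥K = ⊤) (cj : ℕ → G)
    (xa : ℕ) (wc : List ℕ) (xc : ℕ) (wu : List ℕ) (xu : ℕ)
    (hac : Tg t cj xa * (((wc.map (Tg t cj)).prod * cj xc) * t * ((wc.map (Tg t cj)).prod * cj xc)⁻¹) =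
      ((wu.map (Tg t cj)).prod * cj xu) * t * ((wu.map (Tg t cj)).prod * cj xu)⁻¹)
    (hca : (cj xa)⁻¹ * ((((wc.map (Tg t cj)).prod * cj xc) * t * ((wc.map (Tg t cj)).prod * cj xc)⁻¹) *
      cj xa) ∈ K)
    (Cs : List Cert) (hOK : chainOK 1 Cs = true)
    (hgen : Subgroup.closure (Tg t cj '' Set.Iio (chainTop 1 Cs)) = ⊤)
    (hW : ∀ (Λ : Lifts σ (TQ K t hK)),
      Λ.L ((cj xa : G) : G ⧸ K) * Λ.L ((((wc.map (Tg t cj)).prod * cj xc : G)) : G ⧸ K) =
        Λ.L ((((wu.map (Tg t cj)).prod * cj xu : G)) : G ⧸ K) →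
      ∀ C ∈ Cs, ∀ w ∈ C.W, (w.map (γ Λ cj)).prod = 1)
    (hcard : 2 * (Cs.map fun C => C.n).prod ≤ Nat.card G) : σ.ker = ⊥ := by
  obtain ⟨Λ, hacu⟩ := exists_lifts (T := TQ K t hK) hsurj hcen (TQ_conj K t hK) (TQ_sq K t hK ht)
    ((1 : G) : G ⧸ K) (stab_perfect K hperf) ((cj xa : G) : G ⧸ K)
    ((((wc.map (Tg t cj)).prod * cj xc : G)) : G ⧸ K) ((((wu.map (Tg t cj)).prod * cj xu : G)) : G ⧸ K)
    hac (by
      rw [TQ_mk, MulAction.Quotient.smul_mk, smul_eq_mul]
      exact (QuotientGroup.eq.2 hca).symm)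
  apply ker_eq_bot_of_card σ hsurj
  have hchain := card_chain (γ Λ cj) (γ_sq Λ cj) Cs 1 hOK (hW Λ hacu)
  have hbase := card_closure_one_le (γ Λ cj) (γ_sq Λ cj)
  have htop : Subgroup.closure (γ Λ cj '' Set.Iio (chainTop 1 Cs)) = ⊤ := by
    have := Λ.closure_eq_top hcen hder ((fun x => ((cj x : G) : G ⧸ K)) '' Set.Iio (chainTop 1 Cs))
      ⟨_, 0, (by
        show 0 < chainTop 1 Cs
        by_contra h0
        have h0' : chainTop 1 Cs = 0 := by omega
        rw [h0'] at hgen
        have h1 : Tg t cj '' Set.Iio 0 = ∅ := by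
          ext z; simp
        rw [h1, Subgroup.closure_empty] at hgen
        have hG : Nat.card G ≤ 1 := by
          rw [← Subgroup.card_top (G := G), ← hgen, Subgroup.card_bot]
        have hp : 0 < (Cs.map fun C => C.n).prod ∨ (Cs.map fun C => C.n).prod = 0 := by omega
        -- the chain starts with one generator, so its top cannot be zero
        exact absurd h0' (by
          clear hgen hchain hbase hG hp h1 h0 hcard hW
          have : ∀ (Cs : List Cert) (g : ℕ), 0 < g → chainOK g Cs = true → 0 < chainTop g Cs := by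
            intro Cs
            induction Cs with
            | nil => intro g hg _; exact hg
            | cons C Cs ih =>
              intro g hg hO
              rw [chainOK, Bool.and_eq_true, Bool.and_eq_true, Bool.and_eq_true, Bool.and_eq_true,
                Bool.and_eq_true, beq_iff_eq, decide_eq_true_eq, decide_eq_true_eq] at hO
              obtain ⟨⟨⟨⟨⟨h1, h2⟩, _⟩, _⟩, _⟩, h6⟩ := hO
              rw [chainTop]
              exact ih C.g (by omega) h6
          exact (this Cs 1 one_pos hOK).ne')), rfl⟩ (by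
        rw [Set.image_image]
        exact hgen)
    rw [Set.image_image] at this
    exact this
  have h1 : Nat.card Γ = Nat.card ↥(Subgroup.closure (γ Λ cj '' Set.Iio (chainTop 1 Cs))) := by
    rw [htop, Subgroup.card_top]
  rw [h1]
  calc Nat.card ↥(Subgroup.closure (γ Λ cj '' Set.Iio (chainTop 1 Cs)))
      ≤ (Cs.map fun C => C.n).prod * Nat.card ↥(Subgroup.closure (γ Λ cj '' Set.Iio 1)) := hchain
    _ ≤ (Cs.map fun C => C.n).prod * 2 := Nat.mul_le_mul_left _ hbase
    _ = 2 * (Cs.map fun C => C.n).prod := Nat.mul_comm _ _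
    _ ≤ Nat.card G := hcard

end Cfsg.Agent.Lib.Helper8.StemChain
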