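import Mathlib
import Cfsg.Agent.Lib.Helper8.QTypeC
import Cfsg.Agent.S2562

/-!
# Quadratic spaces of the same dimension and type over a finite field are isometric (helper8)
-/

set_option autoImplicit false
set_option linter.unusedSectionVars false

namespace Cfsg.Agent.Lib.Helper8.QType

open QuadraticMap Module Cfsg.Agent.H9.QuadFin Cfsg.Agent.S0287 Cfsg.Agent.S0288

universe u v w

variable {F : Type v} [Field F] [Fintype F]

section Std

variable {V : Type u} [AddCommGroup V] [Module F V] [FiniteDimensional F V]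

theorem HasType.equiv_QP {Q : QuadraticForm F V} {l : ℕ} (h : HasType Q l 1) :
    Nonempty (Q.IsometryEquiv (QP (F := F) (l + 1))) := by
  rcases Cfsg.Agent.H9.QuadStd.classify_even Q h.2.1 l h.1 with ⟨g, hg⟩ | ⟨ζ, hζ, g, hg⟩
  · exact ⟨⟨g, fun v => by rw [QP_apply]; exact hg v⟩⟩
  · exfalso
    have e : Q.IsometryEquiv (QM (F := F) l 1 ζ) :=
      ⟨g, fun v => by rw [QM_apply]; exact hg v⟩
    have h1 := HasType.congr e.symm (hasType_QM l 1 ζ (Cfsg.Agent.S2617.aniso_of_rootless hζ))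
    have := h.unique h1
    norm_num at this

theorem HasType.equiv_QM {Q : QuadraticForm F V} {l : ℕ} (h : HasType Q l (-1)) :
    ∃ ζ : F, (∀ t : F, t ^ 2 + t + ζ ≠ 0) ∧ Nonempty (Q.IsometryEquiv (QM (F := F) l 1 ζ)) := by
  rcases Cfsg.Agent.H9.QuadStd.classify_even Q h.2.1 l h.1 with ⟨g, hg⟩ | ⟨ζ, hζ, g, hg⟩
  · exfalso
    have e : Q.IsometryEquiv (QP (F := F) (l + 1)) :=
      ⟨g, fun v => by rw [QP_apply]; exact hg v⟩
    have h1 := HasType.congr e.symm (hasType_QP l)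
    have := h.unique h1
    norm_num at this
  · exact ⟨ζ, hζ, ⟨⟨g, fun v => by rw [QM_apply]; exact hg v⟩⟩⟩

end Std

section Graph

variable {V₁ : Type u} [AddCommGroup V₁] [Module F V₁] [FiniteDimensional F V₁]
  {V₂ : Type w} [AddCommGroup V₂] [Module F V₂] [FiniteDimensional F V₂]

/-- a totally singular subspace of half dimension in the orthogonal sum of two anisotropic spaces
is the graph of an anti-isometry -/
theorem exists_neg_isometry (Q₁ : QuadraticForm F V₁) (Q₂ : QuadraticForm F V₂)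
    (h₁ : ∀ v, Q₁ v = 0 → v = 0) (h₂ : ∀ v, Q₂ v = 0 → v = 0) (d : ℕ)
    (hd₁ : finrank F V₁ = d) (hd₂ : finrank F V₂ = d)
    (U : Submodule F (V₁ × V₂)) (hU : finrank F U = d) (hts : ∀ u ∈ U, (Q₁.prod Q₂) u = 0) :
    ∃ T : V₁ ≃ₗ[F] V₂, ∀ x, Q₂ (T x) = - Q₁ x := by
  let π₁ : U →ₗ[F] V₁ := (LinearMap.fst F V₁ V₂).comp U.subtype
  let π₂ : U →ₗ[F] V₂ := (LinearMap.snd F V₁ V₂).comp U.subtype
  have hrel : ∀ u : U, Q₁ (π₁ u) + Q₂ (π₂ u) = 0 := by
    intro u
    have := hts u.1 u.2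
    rw [QuadraticMap.prod_apply] at this
    exact this
  have hinj₁ : Function.Injective π₁ := by
    rw [injective_iff_map_eq_zero]
    intro u hu
    have h := hrel u
    rw [hu, QuadraticMap.map_zero, zero_add] at h
    have h2 := h₂ _ h
    apply Subtype.ext
    exact Prod.ext hu h2
  have hinj₂ : Function.Injective π₂ := by
    rw [injective_iff_map_eq_zero]
    intro u hu
    have h := hrel u
    rw [hu, QuadraticMap.map_zero, add_zero] at h
    have h1 := h₁ _ h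
    apply Subtype.ext
    exact Prod.ext h1 hu
  have hbij₁ : Function.Bijective π₁ :=
    ⟨hinj₁, (LinearMap.injective_iff_surjective_of_finrank_eq_finrank (by rw [hU, hd₁])).1 hinj₁⟩
  have hbij₂ : Function.Bijective π₂ :=
    ⟨hinj₂, (LinearMap.injective_iff_surjective_of_finrank_eq_finrank (by rw [hU, hd₂])).1 hinj₂⟩
  let E₁ : U ≃ₗ[F] V₁ := LinearEquiv.ofBijective π₁ hbij₁
  let E₂ : U ≃ₗ[F] V₂ := LinearEquiv.ofBijective π₂ hbij₂
  refine ⟨E₁.symm.trans E₂, fun x => ?_⟩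
  have h := hrel (E₁.symm x)
  have e1 : π₁ (E₁.symm x) = x := E₁.apply_symm_apply x
  rw [e1] at h
  change Q₂ (π₂ (E₁.symm x)) = - Q₁ x
  linear_combination h

end Graph

section TS

/-- the standard totally singular subspace of the hyperbolic space -/
theorem exists_ts_QP (k : ℕ) :
    ∃ U : Submodule F (Fin k ⊕ Fin k → F), finrank F U = k ∧ ∀ u ∈ U, QP (F := F) k u = 0 := by
  refine ⟨LinearMap.ker (LinearMap.funLeft F F (Sum.inr : Fin k → Fin k ⊕ Fin k)), ?_, ?_⟩
  · have := Cfsg.Agent.S2562.finrank_ker_funLeft (F := F) (Sum.inr : Fin k → Fin k ⊕ Fin k)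
      Sum.inr_injective
    rw [Fintype.card_sum, Fintype.card_fin] at this
    omega
  · intro u hu
    rw [LinearMap.mem_ker] at hu
    rw [QP_apply]
    unfold Cfsg.quadFormPlus
    apply Finset.sum_eq_zero
    intro i _
    have := congrFun hu i
    simp only [LinearMap.funLeft_apply, Pi.zero_apply] at this
    rw [this, mul_zero]

end TS

section Binary

theorem aniso_QM_zero (a c : F)
    (hac : ∀ z₁ z₂ : F, z₁ ^ 2 + a * z₁ * z₂ + c * z₂ ^ 2 = 0 → z₁ = 0 ∧ z₂ = 0)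
    (v : (Fin 0 ⊕ Fin 0) ⊕ Fin 2 → F) (hv : QM (F := F) 0 a c v = 0) : v = 0 := by
  rw [QM_apply] at hv
  unfold Cfsg.quadFormMinus at hv
  simp only [Finset.univ_eq_empty, Finset.sum_empty, zero_add] at hv
  obtain ⟨h0, h1⟩ := hac _ _ hv
  funext k
  rcases k with (i | i) | k
  · exact i.elim0
  · exact i.elim0
  · fin_cases k
    · exact h0
    · exact h1

theorem finrank_QM_zero :
    finrank F ((Fin 0 ⊕ Fin 0) ⊕ Fin 2 → F) = 2 := by
  rw [Module.finrank_pi]
  simp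

/-- two anisotropic binary forms are anti-isometric -/
theorem binary_neg_equiv (a c a' c' : F)
    (hac : ∀ z₁ z₂ : F, z₁ ^ 2 + a * z₁ * z₂ + c * z₂ ^ 2 = 0 → z₁ = 0 ∧ z₂ = 0)
    (hac' : ∀ z₁ z₂ : F, z₁ ^ 2 + a' * z₁ * z₂ + c' * z₂ ^ 2 = 0 → z₁ = 0 ∧ z₂ = 0) :
    ∃ T : ((Fin 0 ⊕ Fin 0) ⊕ Fin 2 → F) ≃ₗ[F] ((Fin 0 ⊕ Fin 0) ⊕ Fin 2 → F),
      ∀ x, QM (F := F) 0 a' c' (T x) = - QM (F := F) 0 a c x := by
  have ht := (hasType_QM (F := F) 0 a c hac).prod (hasType_QM (F := F) 0 a' c' hac')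
  have ht' : HasType ((QM (F := F) 0 a c).prod (QM (F := F) 0 a' c')) 1 1 := by
    simpa using ht
  obtain ⟨e⟩ := ht'.equiv_QP
  obtain ⟨U₀, hU₀, hts₀⟩ := exists_ts_QP (F := F) (1 + 1)
  let U := U₀.map (e.symm.toLinearEquiv.toLinearMap)
  have hU : finrank F U = 2 :=
    (LinearEquiv.finrank_map_eq e.symm.toLinearEquiv U₀).trans hU₀
  have hts : ∀ u ∈ U, ((QM (F := F) 0 a c).prod (QM (F := F) 0 a' c')) u = 0 := by
    rintro u ⟨w, hw, rfl⟩
    have := e.symm.map_app w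
    change ((QM (F := F) 0 a c).prod (QM (F := F) 0 a' c')) (e.symm w) = 0
    rw [this]
    exact hts₀ w hw
  exact exists_neg_isometry _ _ (aniso_QM_zero a c hac) (aniso_QM_zero a' c' hac') 2
    finrank_QM_zero finrank_QM_zero U hU hts

/-- two anisotropic binary forms are isometric -/
theorem binary_equiv (a c a' c' : F)
    (hac : ∀ z₁ z₂ : F, z₁ ^ 2 + a * z₁ * z₂ + c * z₂ ^ 2 = 0 → z₁ = 0 ∧ z₂ = 0)
    (hac' : ∀ z₁ z₂ : F, z₁ ^ 2 + a' * z₁ * z₂ + c' * z₂ ^ 2 = 0 → z₁ = 0 ∧ z₂ = 0) :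
    Nonempty ((QM (F := F) 0 a c).IsometryEquiv (QM (F := F) 0 a' c')) := by
  obtain ⟨T₁, hT₁⟩ := binary_neg_equiv a c a c hac hac
  obtain ⟨T₂, hT₂⟩ := binary_neg_equiv a c a' c' hac hac'
  refine ⟨⟨T₁.symm.trans T₂, fun x => ?_⟩⟩
  have h1 := hT₁ (T₁.symm x)
  rw [LinearEquiv.apply_symm_apply] at h1
  change QM (F := F) 0 a' c' (T₂ (T₁.symm x)) = _
  rw [hT₂, h1]

end Binary

section Split

/-- the elliptic form is the orthogonal sum of a hyperbolic form and a binary form -/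
noncomputable def splitQM (l : ℕ) (a c : F) :
    (QM (F := F) l a c).IsometryEquiv ((QP (F := F) l).prod (QM (F := F) 0 a c)) where
  toLinearEquiv :=
    { toFun := fun v => (fun k => v (Sum.inl k),
        fun k => Sum.elim (fun _ => 0) (fun j => v (Sum.inr j)) k)
      invFun := fun w => Sum.elim w.1 (fun j => w.2 (Sum.inr j))
      map_add' := by
        intro v v'
        apply Prod.ext
        · funext k; rfl
        · funext k
          rcases k with k | k
          · simp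
          · rfl
      map_smul' := by
        intro t v
        apply Prod.ext
        · funext k; rfl
        · funext k
          rcases k with k | k
          · simp
          · rfl
      left_inv := by
        intro v
        funext k
        rcases k with k | k <;> rfl
      right_inv := by
        intro w
        apply Prod.ext
        · funext k; rfl
        · funext k
          rcases k with (k | k) | k
          · exact k.elim0
          · exact k.elim0
          · rfl }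
  map_app' := by
    intro v
    rw [QuadraticMap.prod_apply, QP_apply, QM_apply, QM_apply]
    unfold Cfsg.quadFormPlus Cfsg.quadFormMinus
    simp

theorem QM_equiv (l : ℕ) (a c a' c' : F)
    (hac : ∀ z₁ z₂ : F, z₁ ^ 2 + a * z₁ * z₂ + c * z₂ ^ 2 = 0 → z₁ = 0 ∧ z₂ = 0)
    (hac' : ∀ z₁ z₂ : F, z₁ ^ 2 + a' * z₁ * z₂ + c' * z₂ ^ 2 = 0 → z₁ = 0 ∧ z₂ = 0) :
    Nonempty ((QM (F := F) l a c).IsometryEquiv (QM (F := F) l a' c')) := by
  obtain ⟨T⟩ := binary_equiv a c a' c' hac hac'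
  exact ⟨((splitQM l a c).trans
    (QuadraticMap.IsometryEquiv.prod (QuadraticMap.IsometryEquiv.refl _) T)).trans
    (splitQM l a' c').symm⟩

end Split

section Main

variable {V₁ : Type u} [AddCommGroup V₁] [Module F V₁] [FiniteDimensional F V₁]
  {V₂ : Type w} [AddCommGroup V₂] [Module F V₂] [FiniteDimensional F V₂]

/-- quadratic spaces of the same dimension and type are isometric -/
theorem equiv_of_hasType {Q₁ : QuadraticForm F V₁} {Q₂ : QuadraticForm F V₂} {l : ℕ} {ε : ℤ}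
    (h₁ : HasType Q₁ l ε) (h₂ : HasType Q₂ l ε) : Nonempty (Q₁.IsometryEquiv Q₂) := by
  rcases h₁.2.2.1 with rfl | rfl
  · obtain ⟨e₁⟩ := h₁.equiv_QP
    obtain ⟨e₂⟩ := h₂.equiv_QP
    exact ⟨e₁.trans e₂.symm⟩
  · obtain ⟨ζ₁, hζ₁, ⟨e₁⟩⟩ := h₁.equiv_QM
    obtain ⟨ζ₂, hζ₂, ⟨e₂⟩⟩ := h₂.equiv_QM
    obtain ⟨T⟩ := QM_equiv l 1 ζ₁ 1 ζ₂ (Cfsg.Agent.S2617.aniso_of_rootless hζ₁)
      (Cfsg.Agent.S2617.aniso_of_rootless hζ₂)
    exact ⟨(e₁.trans T).trans e₂.symm⟩

end Main

end Cfsg.Agent.Lib.Helper8.QType
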