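import Mathlib
import Cfsg.Agent.Lib.Helper8.QTypeD
import Cfsg.Agent.H9.SemisimpleConj

/-!
# Extending isometries from a nondegenerate quadratic space to a larger one (helper8)
-/

set_option autoImplicit false
set_option linter.unusedSectionVars false

namespace Cfsg.Agent.Lib.Helper8.QType

open QuadraticMap Module Polynomial Cfsg.Agent.H9.QuadFin Cfsg.Agent.S0287 Cfsg.Agent.S0288

universe u v w x

variable {F : Type v} [Field F] [Fintype F]

theorem exists_rootless : ∃ ζ : F, ∀ t : F, t ^ 2 + t + ζ ≠ 0 := by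
  classical
  let f : F → F := fun t => t ^ 2 + t
  have hni : ¬ Function.Injective f := by
    intro hinj
    have h1 : f 0 = f (-1) := by
      simp only [f]
      ring
    have := hinj h1
    have h2 : (1 : F) = 0 := by
      have h3 : (-1 : F) = 0 := this.symm
      rw [neg_eq_zero] at h3
      exact h3
    exact one_ne_zero h2
  have hns : ¬ Function.Surjective f := fun hs => hni (Finite.injective_iff_surjective.2 hs)
  have hns' : ∃ b, ∀ t, f t ≠ b := by
    by_contra hcon
    apply hns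
    intro b
    by_contra hb
    exact hcon ⟨b, fun t ht => hb ⟨t, ht⟩⟩
  obtain ⟨b, hb⟩ := hns'
  refine ⟨-b, fun t ht => hb t ?_⟩
  simp only [f]
  linear_combination ht

section Ext

variable {V₁ : Type u} [AddCommGroup V₁] [Module F V₁] [FiniteDimensional F V₁]
  {W : Type w} [AddCommGroup W] [Module F W] [FiniteDimensional F W]
  {V : Type x} [AddCommGroup V] [Module F V] [FiniteDimensional F V]

/-- extending an isometry by the identity on an orthogonal summand -/
theorem prod_extend {Q₁ : QuadraticForm F V₁} {QW : QuadraticForm F W} {Q : QuadraticForm F V}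
    (e : (Q₁.prod QW).IsometryEquiv Q) (g₁ : V₁ ≃ₗ[F] V₁) (hg₁ : ∀ v, Q₁ (g₁ v) = Q₁ v) :
    ∃ g : V ≃ₗ[F] V, (∀ v, Q (g v) = Q v) ∧
      (g : V →ₗ[F] V).charpoly = (g₁ : V₁ →ₗ[F] V₁).charpoly * (X - 1) ^ finrank F W := by
  let G : (V₁ × W) ≃ₗ[F] (V₁ × W) := g₁.prodCongr (LinearEquiv.refl F W)
  refine ⟨(e.toLinearEquiv.symm.trans G).trans e.toLinearEquiv, fun v => ?_, ?_⟩
  · change Q (e (G (e.symm v))) = Q v
    rw [e.map_app, ← e.symm.map_app v]
    set w := e.symm v
    change Q₁ (g₁ w.1) + QW w.2 = Q₁ w.1 + QW w.2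
    rw [hg₁]
  · have h1 := Cfsg.Agent.H9.SemisimpleConj.charpoly_eq_of_equiv
      ((g₁ : V₁ →ₗ[F] V₁).prodMap (LinearMap.id : W →ₗ[F] W))
      (((e.toLinearEquiv.symm.trans G).trans e.toLinearEquiv : V ≃ₗ[F] V) : V →ₗ[F] V)
      e.toLinearEquiv (fun v => by
        change e (G (e.symm (e v))) = e _
        rw [e.symm_apply_apply]
        rfl)
    rw [h1, LinearMap.charpoly_prodMap]
    congr 1
    exact LinearMap.charpoly_one

end Ext

section Main

variable {V' : Type u} [AddCommGroup V'] [Module F V'] [FiniteDimensional F V']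
  {V : Type x} [AddCommGroup V] [Module F V] [FiniteDimensional F V]

/-- an isometry of a nondegenerate even-dimensional space extends to any larger nondegenerate
even-dimensional space -/
theorem extend_of_lt {Q' : QuadraticForm F V'} {Q : QuadraticForm F V} {l' l : ℕ} {ε' ε : ℤ}
    (h' : HasType Q' l' ε') (h : HasType Q l ε) (hl : l' < l) (g' : V' ≃ₗ[F] V')
    (hg' : ∀ v, Q' (g' v) = Q' v) :
    ∃ g : V ≃ₗ[F] V, (∀ v, Q (g v) = Q v) ∧
      (g : V →ₗ[F] V).charpoly = (g' : V' →ₗ[F] V').charpoly * (X - 1) ^ (2 * (l - l')) := by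
  have hidx : l' + (l - l' - 1) + 1 = l := by omega
  by_cases hε : ε = ε'
  · subst hε
    have hW := hasType_QP (F := F) (l - l' - 1)
    have hp := h'.prod hW
    rw [hidx] at hp
    have hεε : ε * 1 = ε := mul_one ε
    rw [hεε] at hp
    obtain ⟨e⟩ := equiv_of_hasType hp h
    obtain ⟨g, hg1, hg2⟩ := prod_extend e g' hg'
    refine ⟨g, hg1, ?_⟩
    rw [hg2, hW.1]
    congr 2
    omega
  · obtain ⟨ζ, hζ⟩ := exists_rootless (F := F)
    have hW := hasType_QM (F := F) (l - l' - 1) 1 ζ (Cfsg.Agent.S2617.aniso_of_rootless hζ)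
    have hp := h'.prod hW
    rw [hidx] at hp
    have hεε : ε' * (-1) = ε := by
      rcases h'.2.2.1 with rfl | rfl <;> rcases h.2.2.1 with rfl | rfl <;> simp at hε ⊢
    rw [hεε] at hp
    obtain ⟨e⟩ := equiv_of_hasType hp h
    obtain ⟨g, hg1, hg2⟩ := prod_extend e g' hg'
    refine ⟨g, hg1, ?_⟩
    rw [hg2, hW.1]
    congr 2
    omega

theorem extend_of_eq {Q' : QuadraticForm F V'} {Q : QuadraticForm F V} {l : ℕ} {ε : ℤ}
    (h' : HasType Q' l ε) (h : HasType Q l ε) (g' : V' ≃ₗ[F] V')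
    (hg' : ∀ v, Q' (g' v) = Q' v) :
    ∃ g : V ≃ₗ[F] V, (∀ v, Q (g v) = Q v) ∧
      (g : V →ₗ[F] V).charpoly = (g' : V' →ₗ[F] V').charpoly := by
  obtain ⟨e⟩ := equiv_of_hasType h' h
  refine ⟨(e.toLinearEquiv.symm.trans g').trans e.toLinearEquiv, fun v => ?_, ?_⟩
  · change Q (e (g' (e.symm v))) = Q v
    rw [e.map_app, hg', e.symm.map_app]
  · exact Cfsg.Agent.H9.SemisimpleConj.charpoly_eq_of_equiv (g' : V' →ₗ[F] V')
      (((e.toLinearEquiv.symm.trans g').trans e.toLinearEquiv : V ≃ₗ[F] V) : V →ₗ[F] V)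
      e.toLinearEquiv (fun v => by
        change e (g' (e.symm (e v))) = e _
        rw [e.symm_apply_apply]
        rfl)

end Main

end Cfsg.Agent.Lib.Helper8.QType
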