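import Cfsg.Agent.Lib.Helper5.ONOut.Bridge
import Cfsg.Agent.Lib.Lead.HNP.HNTC
import Cfsg.Agent.Lib.Helper5.HNA12.Main
import Cfsg.Agent.Lib.Helper6.OutGeneric

/-!
# The outer automorphism group of the Harada–Norton group: the permutation group on the rows of the coset table

The presented group `HN` acts faithfully on the 1539000 rows of the coset table `HNTC.tab`; the image `P` is a
permutation group of the order of `HN`, the columns of the table are the maps of the eight letters
`x, x⁻¹, y, y⁻¹, z, z⁻¹, t, t⁻¹`, and the outer automorphism groups of `HN` and of `P` have the same order.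
-/

set_option autoImplicit false
set_option maxRecDepth 100000

namespace Cfsg.Agent.Lib.Helper8.HNBase

open Cfsg.Agent.PF Cfsg.Agent.Lib.Helper6 Cfsg.Agent.Lib.Helper6.TC Cfsg.Agent.Lib.Helper6.NatArr Cfsg.Agent.Lib.Helper5
open Cfsg.Agent.PL (Acts evalF)
open Cfsg Cfsg.Spor Cfsg.Agent.Lib.Lead.HNP

/-- the map of the letter `i` -/
noncomputable def fgen (i : ℕ) : ℕ → ℕ := fun a => HNTC.tab.nxt a i

/-- the permutation group on the 1539000 rows of the coset table -/
noncomputable abbrev P : Subgroup (Equiv.Perm (Fin 1539000)) := GenBridge.Prange HNTC.data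

theorem rep_fgen {i : ℕ} (hi : i < 8) : Rep P (fgen i) := GenBridge.rep_gen HNTC.data (x := i) hi

/-- the permutation of the letter `i` -/
noncomputable def gP (i : ℕ) : Equiv.Perm (Fin 1539000) := HNTC.data.P i

theorem acts_fgen {i : ℕ} (hi : i < 8) : Acts (gP i) (fgen i) := GenBridge.acts_P HNTC.data (x := i) hi

theorem gP_mem {i : ℕ} (hi : i < 8) : gP i ∈ P := GenBridge.P_mem HNTC.data (x := i) hi

/-- the action on the rows is faithful -/
theorem rho_inj : Function.Injective HNTC.data.ρ := HNA12.chain.2.1

theorem card_HN : Nat.card HN = 273030912000000 := HNA12.chain.1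

theorem card_P : Nat.card ↥P = 273030912000000 := GenBridge.card_Prange HNTC.data rho_inj card_HN

instance finite_HN : Finite HN := Nat.finite_of_card_ne_zero (by rw [card_HN]; norm_num)

instance isSimpleGroup_HN : IsSimpleGroup HN := HNCert.main.1

instance finite_P : Finite ↥P := Nat.finite_of_card_ne_zero (by rw [card_P]; norm_num)

/-- the presented group and the permutation group -/
noncomputable def isoP : HN ≃* ↥P := GenBridge.iso HNTC.data rho_inj

theorem isoP_val (z : HN) : ((isoP z : ↥P) : Equiv.Perm (Fin 1539000)) = HNTC.data.ρ z := rfl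

instance isSimpleGroup_P : IsSimpleGroup ↥P := isoP.symm.isSimpleGroup

/-- the outer automorphism groups of the presented group and of the permutation group have the same order -/
theorem card_out_of_P (h : Nat.card (Cfsg.Out ↥P) = 2) : Nat.card (Cfsg.Out HN) = 2 := by
  rw [OutGeneric.card_out_congr isoP]
  exact h

end Cfsg.Agent.Lib.Helper8.HNBase
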