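import Cfsg.Agent.Lib.Helper8.HeMultData

/-! Kernel check of the tables of cosets for the Schur multiplier of the Held group -/

set_option autoImplicit false
set_option maxRecDepth 1000000

namespace Cfsg.Agent.Lib.Helper8.HeMult

open Cfsg.Agent.Lib.Helper8.WordStem

theorem chk_6 : data.chk6 = true := by decide +kernel

end Cfsg.Agent.Lib.Helper8.HeMult
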