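import Cfsg.Agent.Lib.Helper8.HeMultChk
import Cfsg.Agent.Lib.Helper8.HeMultTab

/-!
# The Schur multiplier of the Held group is trivial

Every finite stem extension of the presented Held group is an isomorphism: the generator `d` is an involution with 42
fixed points on the 2058 cosets, whose centraliser `2^{1+6}.L₃(2)` is perfect, so its conjugates lift to an equivariant
family of involutions, and the chain `2 < D₃₄ < L₂(16) < S₄(4) < He` of subgroups generated by such involutions has
checked tables of cosets with `17, 120, 240, 4116` rows.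
-/

set_option autoImplicit false

namespace Cfsg.Agent.Lib.Helper8.HeMult

open Cfsg Cfsg.Spor Cfsg.Agent.Lib.Helper6 Cfsg.Agent.Lib.Helper8.WordStem Cfsg.Agent.Lib.Helper8.StemChain

theorem top_eq : chainTop 1 data.Cs = 5 := rfl

theorem hgen (S : Subgroup He) (h : ∀ x, x < 5 → atom heModel atoms (data.tI x) ∈ S) : S = ⊤ := by
  have hT : ∀ i, 1 ≤ i → i ≤ 5 → atom heModel atoms i ∈ S := by
    intro i h1 h5
    have e : data.tI (i - 1) = i := by
      interval_cases i <;> rfl
    rw [← e]
    exact h (i - 1) (by omega)
  apply eq_top_of_gens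
  intro x hx
  have h1 := List.all_eq_true.1 chk_gen x (List.mem_range.2 hx)
  have e : heModel.wG [x] = ev heModel atoms (genWords.getD x []) := by
    rw [ev_eq_wG]
    exact heModel.eq_sound _ _ h1
  show heModel.wG [x] ∈ S
  rw [e]
  apply ev_mem
  intro i hi
  have hxl : x < genWords.length := by
    show x < 7
    exact hx
  have hw : genWords.getD x [] ∈ genWords := by
    rw [List.getD_eq_getElem _ _ hxl]
    exact List.getElem_mem hxl
  have h2 := List.all_eq_true.1 (List.all_eq_true.1 chk_genw _ hw) i hi
  rw [Bool.and_eq_true, decide_eq_true_eq, decide_eq_true_eq] at h2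
  exact hT i h2.1 h2.2

/-- **every finite stem extension of the Held group is an isomorphism** -/
theorem ker_eq_bot_He {Γ : Type*} [Group Γ] [Finite Γ] (σ : Γ →* He)
    (hsurj : Function.Surjective σ) (hcen : σ.ker ≤ Subgroup.center Γ) (hder : σ.ker ≤ commutator Γ) :
    σ.ker = ⊥ :=
  ker_eq_bot_of_data heModel data heEq (fun _ _ => rfl) chk_1 chk_2 chk_3 chk_4 chk_5 chk_6
    (by rw [HeSimple.main.2]; exact le_refl _)
    (fun S hS => hgen S fun x hx => hS x (by rw [top_eq]; exact hx)) σ hsurj hcen hder

end Cfsg.Agent.Lib.Helper8.HeMult
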