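import Cfsg.Agent.Lib.Helper8.StemChain

/-!
# Stem extensions of a group whose elements are given by words with a checkable equality

A group `H` with a map `wG` from words (lists of numbers) to `H`, multiplicative for concatenation, and a sound test
`eq` for the equality of the elements of two words.  Some elements ("atoms") are given by words; an involution `t`,
conjugators `cj x`, generators of a perfect subgroup `K` of the centraliser of `t`, and a chain of checked tables.  All
the facts in `H` are equalities of products of atoms, decided by the test.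
-/

set_option autoImplicit false

namespace Cfsg.Agent.Lib.Helper8.WordStem

open Cfsg Cfsg.Agent.Lib.Helper8.StemChain
open Cfsg.Agent.Lib.Helper8.CosetCertF Cfsg.Agent.Lib.Helper8.CanonLift
open scoped commutatorElement

/-- a group with words and a sound test of equality -/
structure Model (H : Type*) [Group H] where
  wG : List ℕ → H
  wG_nil : wG [] = 1
  wG_append : ∀ u v, wG (u ++ v) = wG u * wG v
  eq : List ℕ → List ℕ → Bool
  eq_sound : ∀ u v, eq u v = true → wG u = wG v

section atoms

variable {H : Type*} [Group H] (M : Model H) (A : List (List ℕ))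

/-- the word of a word in the atoms -/
def ex (w : List ℕ) : List ℕ := w.flatMap fun i => A.getD i []

/-- the atom -/
def atom (i : ℕ) : H := M.wG (A.getD i [])

/-- the element of a word in the atoms -/
def ev (w : List ℕ) : H := (w.map (atom M A)).prod

theorem ev_eq_wG (w : List ℕ) : ev M A w = M.wG (ex A w) := by
  induction w with
  | nil => exact M.wG_nil.symm
  | cons i w ih =>
    show (atom M A i :: w.map (atom M A)).prod = M.wG ((i :: w).flatMap fun i => A.getD i [])
    rw [List.prod_cons, List.flatMap_cons, M.wG_append]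
    congr 1

theorem ev_eq_of {eq : List ℕ → List ℕ → Bool} (heq : ∀ u v, eq u v = M.eq u v) {w₁ w₂ : List ℕ}
    (h : eq (ex A w₁) (ex A w₂) = true) : ev M A w₁ = ev M A w₂ := by
  rw [ev_eq_wG, ev_eq_wG]
  apply M.eq_sound
  rw [← heq]
  exact h

theorem ev_eq_one {eq : List ℕ → List ℕ → Bool} (heq : ∀ u v, eq u v = M.eq u v) {w : List ℕ}
    (h : eq (ex A w) [] = true) : ev M A w = 1 :=
  ev_eq_of M A heq (w₂ := []) h

theorem ev_append (w₁ w₂ : List ℕ) : ev M A (w₁ ++ w₂) = ev M A w₁ * ev M A w₂ := by
  unfold ev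
  rw [List.map_append, List.prod_append]

theorem ev_cons (i : ℕ) (w : List ℕ) : ev M A (i :: w) = atom M A i * ev M A w := by
  unfold ev
  rw [List.map_cons, List.prod_cons]

theorem ev_singleton (i : ℕ) : ev M A [i] = atom M A i := by
  rw [ev_cons]
  exact mul_one _

theorem ev_mem (S : Subgroup H) {w : List ℕ} (h : ∀ i ∈ w, atom M A i ∈ S) : ev M A w ∈ S := by
  apply Subgroup.list_prod_mem
  intro x hx
  rw [List.mem_map] at hx
  obtain ⟨i, hi, rfl⟩ := hx
  exact h i hi

theorem ev_flatMap {α : Type*} (f : α → List ℕ) :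
    ∀ L : List α, ev M A (L.flatMap f) = (L.map fun q => ev M A (f q)).prod
  | [] => rfl
  | q :: L => by
    rw [List.flatMap_cons, ev_append, ev_flatMap f L, List.map_cons, List.prod_cons]

end atoms

/-! ### the data and its check -/

/-- a justification of a word of a table: `(u₁, x₁, u₂, x₂, kw)`, meaning that
`T_{u₁} · c_{x₁} · k_{kw} = T_{u₂} · c_{x₂}` -/
abbrev Just := List ℕ × ℕ × List ℕ × ℕ × List ℕ

/-- the data: the atoms (atom `0` is the identity and atom `1` the involution `t`), the atoms of the generating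
involutions, of the conjugators, of the generators of the subgroup `K` (with their inverses), these generators as
products of commutators `(a, b, a⁻¹, b⁻¹)`, the commuting pair, the tables with the justifications of their words,
and the order of the group -/
structure Data where
  A : List (List ℕ)
  tA : List ℕ
  cA : List ℕ
  kA : List ℕ
  chains : List (ℕ × List (List ℕ × List ℕ × List ℕ × List ℕ))
  wc : List ℕ
  xc : ℕ
  kc : List ℕ
  wu : List ℕ
  xu : ℕ
  CJ : List (Cert × List Just)
  N : ℕ

namespace Data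

variable (D : Data) (eq : List ℕ → List ℕ → Bool)

/-- the test on words in the atoms -/
def eqA (w₁ w₂ : List ℕ) : Bool := eq (ex D.A w₁) (ex D.A w₂)

/-- the atom of a generating involution -/
def tI (x : ℕ) : ℕ := D.tA.getD x 1

/-- the atom of a conjugator -/
def cI (x : ℕ) : ℕ := D.cA.getD x 0

/-- a word in the generating involutions as a word in the atoms -/
def tw (w : List ℕ) : List ℕ := w.map D.tI

/-- the conjugate of `t` by a word in the involutions times a conjugator, as a word in the atoms -/
def cjw (w : List ℕ) (x : ℕ) : List ℕ := D.tw w ++ D.tI x :: D.tw w.reverse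

/-- the tables -/
def Cs : List Cert := D.CJ.map Prod.fst

/-- the word of the normalising relation -/
def r3w : List ℕ := 0 :: ((D.wc ++ D.xc :: D.wc.reverse) ++ (D.wu ++ D.xu :: D.wu.reverse))

/-- the check of a generator of `K` as a product of commutators -/
def chainOKK (ch : ℕ × List (List ℕ × List ℕ × List ℕ × List ℕ)) : Bool :=
  D.eqA eq [ch.1] (ch.2.flatMap fun q => q.1 ++ (q.2.1 ++ (q.2.2.1 ++ q.2.2.2))) &&
  ch.2.all fun q => D.eqA eq (q.1 ++ q.2.2.1) [] && D.eqA eq (q.2.1 ++ q.2.2.2) [] &&
    q.1.all (fun i => D.kA.contains i) && q.2.1.all (fun i => D.kA.contains i)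

/-- the check of a word of a table -/
def relOK (j : Just) (w : List ℕ) : Bool :=
  (red D.r3w == red w) ||
  ((red (longW (j.1, j.2.1, j.2.2.1, j.2.2.2.1)) == red w) &&
    D.eqA eq (D.tw j.1 ++ D.cI j.2.1 :: j.2.2.2.2) (D.tw j.2.2.1 ++ [D.cI j.2.2.2.1]) &&
    j.2.2.2.2.all (fun i => D.kA.contains i))

/-- the check of the identity and of the involution -/
def chk1 : Bool := D.eqA eq [0] [] && D.eqA eq [1, 1] []

/-- the check of the conjugators -/
def chk2 : Bool :=
  (List.range (max D.tA.length D.cA.length)).all fun x =>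
    D.eqA eq [D.cI x, 1] [D.tI x, D.cI x]

/-- the check of the subgroup `K` -/
def chk3 : Bool :=
  D.kA.all fun i => D.eqA eq [i, 1] [1, i] &&
    D.chains.any fun ch => (ch.1 == i) && D.chainOKK eq ch

/-- the check of the commuting pair -/
def chk4 : Bool :=
  D.eqA eq (D.tI 0 :: D.cjw D.wc D.xc) (D.cjw D.wu D.xu) &&
  D.eqA eq (D.cjw D.wc D.xc) D.kc && D.kc.all (fun i => D.kA.contains i) &&
  D.eqA eq [D.cI 0] []

/-- the check of the words of the tables -/
def chk5 : Bool :=
  D.CJ.all fun cj => (List.range cj.1.W.length).all fun k =>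
    D.relOK eq (cj.2.getD k ([], 0, [], 0, [])) (cj.1.W.getD k [])

/-- the check of the tables -/
def chk6 : Bool := chainOK 1 D.Cs && decide (2 * (D.Cs.map fun C => C.n).prod ≤ D.N)

end Data

/-! ### the theorem -/

section main

variable {H : Type*} [Group H] (M : Model H) (D : Data) (eq : List ℕ → List ℕ → Bool)
  (heq : ∀ u v, eq u v = M.eq u v)

theorem mem_of_contains {l : List ℕ} {i : ℕ} (h : l.contains i = true) : i ∈ l := by
  simpa using h

include heq in
/-- **every finite stem extension of `H` is an isomorphism**, given the checked data -/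
theorem ker_eq_bot_of_data (h1 : D.chk1 eq = true) (h2 : D.chk2 eq = true) (h3 : D.chk3 eq = true)
    (h4 : D.chk4 eq = true) (h5 : D.chk5 eq = true) (h6 : D.chk6 = true) (hcard : D.N ≤ Nat.card H)
    (hgen : ∀ S : Subgroup H, (∀ x, x < chainTop 1 D.Cs → atom M D.A (D.tI x) ∈ S) → S = ⊤)
    {Γ : Type*} [Group Γ] [Finite Γ] (σ : Γ →* H) (hsurj : Function.Surjective σ)
    (hcen : σ.ker ≤ Subgroup.center Γ) (hder : σ.ker ≤ commutator Γ) : σ.ker = ⊥ := by
  have eqof : ∀ {w₁ w₂ : List ℕ}, D.eqA eq w₁ w₂ = true → ev M D.A w₁ = ev M D.A w₂ :=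
    fun h => ev_eq_of M D.A heq h
  have eqone : ∀ {w : List ℕ}, D.eqA eq w [] = true → ev M D.A w = 1 :=
    fun h => ev_eq_one M D.A heq h
  -- the elements
  set t : H := atom M D.A 1 with ht_def
  set cj : ℕ → H := fun x => atom M D.A (D.cI x) with hcj_def
  set S : Set H := (atom M D.A) '' {i | i ∈ D.kA} with hS_def
  set K := Subgroup.closure S with hK_def
  have hmemK : ∀ i ∈ D.kA, atom M D.A i ∈ K := fun i hi => Subgroup.subset_closure ⟨i, hi, rfl⟩
  have hwordK : ∀ w : List ℕ, w.all (fun i => D.kA.contains i) = true → ev M D.A w ∈ K := by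
    intro w hw
    apply ev_mem
    intro i hi
    rw [List.all_eq_true] at hw
    exact hmemK i (mem_of_contains (hw i hi))
  -- the identity and the involution
  rw [Data.chk1, Bool.and_eq_true] at h1
  have hat0 : atom M D.A 0 = 1 := by
    rw [← ev_singleton]
    exact eqone h1.1
  have ht : t * t = 1 := by
    have := eqone h1.2
    rw [ev_cons, ev_singleton] at this
    exact this
  -- the conjugators
  have hcT : ∀ x, cj x * t = atom M D.A (D.tI x) * cj x := by
    intro x
    by_cases hx : x < max D.tA.length D.cA.length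
    · rw [Data.chk2, List.all_eq_true] at h2
      have := h2 x (List.mem_range.2 hx)
      have h' := eqof this
      rw [ev_cons, ev_singleton, ev_cons, ev_singleton] at h'
      exact h'
    · have e1 : D.cI x = 0 := by
        unfold Data.cI
        rw [List.getD_eq_default]
        have := le_max_right D.tA.length D.cA.length
        omega
      have e2 : D.tI x = 1 := by
        unfold Data.tI
        rw [List.getD_eq_default]
        have := le_max_left D.tA.length D.cA.length
        omega
      show atom M D.A (D.cI x) * t = atom M D.A (D.tI x) * atom M D.A (D.cI x)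
      rw [e1, e2, hat0, one_mul, mul_one]
  have hT : ∀ x, Tg t cj x = atom M D.A (D.tI x) := by
    intro x
    unfold Tg
    rw [hcT x, mul_assoc, mul_inv_cancel, mul_one]
  have hTw : ∀ w : List ℕ, (w.map (Tg t cj)).prod = ev M D.A (D.tw w) := by
    intro w
    unfold ev Data.tw
    rw [List.map_map]
    congr 1
    apply List.map_congr_left
    intro x _
    exact hT x
  have hinvT : ∀ x, Tg t cj x * Tg t cj x = 1 := by
    intro x
    unfold Tg
    calc cj x * t * (cj x)⁻¹ * (cj x * t * (cj x)⁻¹) = cj x * (t * t) * (cj x)⁻¹ := by group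
      _ = 1 := by rw [ht]; group
  have hconjT : ∀ (w : List ℕ) (x : ℕ), ((w.map (Tg t cj)).prod * cj x) * t *
      ((w.map (Tg t cj)).prod * cj x)⁻¹ = ev M D.A (D.cjw w x) := by
    intro w x
    have e1 : ((w.map (Tg t cj)).prod)⁻¹ = ev M D.A (D.tw w.reverse) := by
      rw [← hTw, Cert.prod_reverse_inv hinvT]
    unfold Data.cjw
    rw [ev_append, ev_cons, ← hTw, ← e1, ← hT]
    unfold Tg
    group
  -- the subgroup
  rw [Data.chk3, List.all_eq_true] at h3
  have hK : ∀ k ∈ K, k * t = t * k := by
    apply comm_of_mem_closure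
    rintro _ ⟨i, hi, rfl⟩
    have := Bool.and_eq_true_iff.1 (h3 i hi)
    have h' := eqof this.1
    rw [ev_cons, ev_singleton, ev_cons, ev_singleton] at h'
    exact h'
  have hperf : commutator ↥K = ⊤ := by
    apply perfect_closure
    rintro _ ⟨i, hi, rfl⟩
    have := Bool.and_eq_true_iff.1 (h3 i hi)
    obtain ⟨ch, _, hch⟩ := List.any_eq_true.1 this.2
    rw [Bool.and_eq_true, beq_iff_eq] at hch
    obtain ⟨hi', hch⟩ := hch
    rw [Data.chainOKK, Bool.and_eq_true, List.all_eq_true] at hch
    obtain ⟨hprod, hall⟩ := hch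
    refine ⟨ch.2.map fun q => (ev M D.A q.1, ev M D.A q.2.1), ?_, ?_⟩
    · intro pq hpq
      rw [List.mem_map] at hpq
      obtain ⟨q, hq, rfl⟩ := hpq
      have hq' := hall q hq
      rw [Bool.and_eq_true, Bool.and_eq_true, Bool.and_eq_true] at hq'
      exact ⟨hwordK _ hq'.1.2, hwordK _ hq'.2⟩
    · have e := eqof hprod
      rw [ev_singleton, hi', ev_flatMap] at e
      rw [e, List.map_map]
      congr 1
      apply List.map_congr_left
      intro q hq
      have hq' := hall q hq
      rw [Bool.and_eq_true, Bool.and_eq_true, Bool.and_eq_true] at hq'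
      have ea := eqone hq'.1.1.1
      have eb := eqone hq'.1.1.2
      rw [ev_append] at ea eb
      show ev M D.A (q.1 ++ (q.2.1 ++ (q.2.2.1 ++ q.2.2.2))) = ⁅ev M D.A q.1, ev M D.A q.2.1⁆
      rw [ev_append, ev_append, ev_append, eq_inv_of_mul_eq_one_right ea,
        eq_inv_of_mul_eq_one_right eb, commutatorElement_def]
      group
  -- the commuting pair
  rw [Data.chk4, Bool.and_eq_true, Bool.and_eq_true, Bool.and_eq_true] at h4
  obtain ⟨⟨⟨h4a, h4b⟩, h4c⟩, h4d⟩ := h4
  have hcj0 : cj 0 = 1 := by
    show atom M D.A (D.cI 0) = 1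
    rw [← ev_singleton]
    exact eqone h4d
  have hac : Tg t cj 0 * (((D.wc.map (Tg t cj)).prod * cj D.xc) * t *
      ((D.wc.map (Tg t cj)).prod * cj D.xc)⁻¹) =
      ((D.wu.map (Tg t cj)).prod * cj D.xu) * t * ((D.wu.map (Tg t cj)).prod * cj D.xu)⁻¹ := by
    rw [hconjT, hconjT, hT, ← ev_cons]
    exact eqof h4a
  have hca : (cj 0)⁻¹ * ((((D.wc.map (Tg t cj)).prod * cj D.xc) * t *
      ((D.wc.map (Tg t cj)).prod * cj D.xc)⁻¹) * cj 0) ∈ K := by
    rw [hcj0, inv_one, one_mul, mul_one, hconjT, eqof h4b]
    exact hwordK _ h4c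
  -- the tables
  rw [Data.chk6, Bool.and_eq_true, decide_eq_true_eq] at h6
  have hgen' : Subgroup.closure (Tg t cj '' Set.Iio (chainTop 1 D.Cs)) = ⊤ := by
    apply hgen
    intro x hx
    rw [← hT]
    exact Subgroup.subset_closure ⟨x, hx, rfl⟩
  apply ker_eq_bot_of_chain σ hsurj hcen hder K t ht hK hperf cj 0 D.wc D.xc D.wu D.xu hac hca D.Cs
    h6.1 hgen' ?_ (le_trans h6.2 hcard)
  -- the words
  intro Λ hacu C hC w hw
  rw [Data.Cs, List.mem_map] at hC
  obtain ⟨cjp, hcjp, rfl⟩ := hC
  rw [Data.chk5, List.all_eq_true] at h5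
  have h5' := h5 cjp hcjp
  rw [List.all_eq_true] at h5'
  obtain ⟨k, hk, rfl⟩ := List.getElem_of_mem hw
  have h5'' := h5' k (List.mem_range.2 hk)
  rw [List.getD_eq_getElem _ _ hk, Data.relOK, Bool.or_eq_true, beq_iff_eq] at h5''
  rcases h5'' with hr | hr
  · exact word_of_r3 Λ cj (xa := 0) hacu hr
  · rw [Bool.and_eq_true, Bool.and_eq_true, beq_iff_eq] at hr
    obtain ⟨⟨hr1, hr2⟩, hr3⟩ := hr
    set j := cjp.2.getD k ([], 0, [], 0, []) with hj
    refine word_of_conj Λ cj (c := (j.1, j.2.1, j.2.2.1, j.2.2.2.1)) hr1 ?_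
    have e := eqof hr2
    rw [ev_append, ev_cons, ev_append, ev_singleton, ← hTw, ← hTw] at e
    have hk' := hwordK _ hr3
    show ((j.2.2.1.map (Tg t cj)).prod * cj j.2.2.2.1)⁻¹ * ((j.1.map (Tg t cj)).prod * cj j.2.1) ∈ K
    have e' : (j.2.2.1.map (Tg t cj)).prod * cj j.2.2.2.1 =
        (j.1.map (Tg t cj)).prod * (cj j.2.1 * ev M D.A j.2.2.2.2) := e.symm
    rw [e']
    have : ((j.1.map (Tg t cj)).prod * (cj j.2.1 * ev M D.A j.2.2.2.2))⁻¹ *
        ((j.1.map (Tg t cj)).prod * cj j.2.1) = (ev M D.A j.2.2.2.2)⁻¹ := by group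
    rw [this]
    exact K.inv_mem hk'

end main

end Cfsg.Agent.Lib.Helper8.WordStem
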