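import Cfsg.Agent.Lib.Helper6.HeSimple
import Cfsg.Agent.Lib.Helper6.SimpWPC
import Cfsg.Agent.Lib.Helper6.T3Gen
import Cfsg.Agent.Lib.Helper8.WordStem

/-!
# The presented Held group as a group of words with a checkable equality

The word problem of the presented Held group is decided on four base points of its action on 2058 points
(helper6's enumeration and chain of stabilisers).
-/

set_option autoImplicit false
set_option linter.constructorNameAsVariable false
set_option maxRecDepth 100000

noncomputable section

namespace Cfsg.Agent.Lib.Helper8.HeMult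

open Cfsg.Spor Cfsg.Agent.Lib.Helper6 Cfsg.Agent.Lib.Helper6.TC Cfsg.Agent.Lib.Helper6.Simp
  Cfsg.Agent.Lib.Helper6.SimpWP Cfsg.Agent.Lib.Helper6.SimpWPC Cfsg.Agent.Lib.Helper6.NatArr

theorem finiteHe : Finite He := HeSimple.ub.1

local notation "ρ" => HeTC.data.cert.ρ

local notation "wH" => Simp.wordG HeTC.data

theorem ρ_ne_one : ρ (wH [3, 0]) ≠ 1 := by
  intro h1
  have h2 := ρ_wordG_apply HeTC.data (w := [3, 0]) (by show ∀ x ∈ [3, 0], x < 7; decide) 2
    (by show 2 < 2058; norm_num)
  rw [h1] at h2
  have h3 : HeTC.tab.trace 2 [0, 3] ≠ 2 := by decide +kernel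
  exact h3 h2.symm

/-- the action on the 2058 rows is faithful -/
theorem ρ_inj : Function.Injective ρ := by
  have : IsSimpleGroup He := HeSimple.main.1
  exact T3Gen.injective_of_simple _ ρ_ne_one

/-- the base points -/
def base : List ℕ := [34, 15, 1, 0]

theorem base_eq : allFixed HeSimp.levels [] = base := by decide +kernel

/-- **the word problem** of the presented Held group -/
theorem wp (w : List ℕ) (h : SimpWPC.fixOK HeTC.tab base w = true) : wH w = 1 := by
  have := finiteHe
  refine wordG_eq_one_of_fixOK HeTC.data HeSimple.main.2 ρ_inj HeSimp.levels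
    HeSimp.chain_ok HeSimp.chain_prod (by norm_num) w ?_
  rw [base_eq]
  exact h

theorem wG_eq {u v : List ℕ} (h : SimpWPC.fixOK HeTC.tab base (u ++ v.reverse) = true) :
    wH u = wH v := by
  have h1 := wp _ h
  rw [wordG_append, wordG_reverse] at h1
  exact mul_inv_eq_one.1 h1

/-- the test of the equality of two words -/
def heEq (u v : List ℕ) : Bool := SimpWPC.fixOK HeTC.tab base (u ++ v.reverse)

/-- the presented Held group with its words -/
def heModel : WordStem.Model He where
  wG := wH
  wG_nil := rfl
  wG_append := wordG_append HeTC.data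
  eq := heEq
  eq_sound := fun _ _ h => wG_eq h

theorem wG_singleton (x : ℕ) : wH [x] = PresentedGroup.of (HeTC.gen x) := by
  show ([x].map fun y => (PresentedGroup.of (HeTC.data.gen y) : He)).prod = _
  rw [List.map_cons, List.map_nil, List.prod_cons, List.prod_nil, mul_one]
  rfl

/-- a subgroup that contains the seven generators is the whole group -/
theorem eq_top_of_gens (S : Subgroup He) (h : ∀ x, x < 7 → wH [x] ∈ S) : S = ⊤ := by
  rw [eq_top_iff, ← PresentedGroup.closure_range_of, Subgroup.closure_le]
  rintro _ ⟨a, rfl⟩
  have h1 := h (HeTC.code a) (by cases a <;> decide)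
  rw [wG_singleton] at h1
  have e : HeTC.gen (HeTC.code a) = a := by cases a <;> rfl
  rw [e] at h1
  exact h1

end Cfsg.Agent.Lib.Helper8.HeMult
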