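import Cfsg.Agent.Lib.Helper8.HeMultData
import Cfsg.Agent.Lib.Helper8.HeMultModel

/-! Kernel checks for the Schur multiplier of the Held group: the atoms, the subgroup of the centraliser, the words -/

set_option autoImplicit false
set_option maxRecDepth 1000000

namespace Cfsg.Agent.Lib.Helper8.HeMult

open Cfsg.Agent.Lib.Helper8.WordStem

theorem chk_gen : (List.range 7).all (fun x => heEq [x] (ex atoms (genWords.getD x []))) = true := by
  decide +kernel

theorem chk_genw : genWords.all (fun w => w.all fun i => decide (1 ≤ i) && decide (i ≤ 5)) = true := by
  decide +kernel

theorem chk_1 : data.chk1 heEq = true := by decide +kernel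
theorem chk_2 : data.chk2 heEq = true := by decide +kernel
theorem chk_3 : data.chk3 heEq = true := by decide +kernel
theorem chk_4 : data.chk4 heEq = true := by decide +kernel
theorem chk_5 : data.chk5 heEq = true := by decide +kernel

end Cfsg.Agent.Lib.Helper8.HeMult
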