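import Mathlib
import Cfsg.Agent.S4914
import Cfsg.Agent.Lib.Helper8.GS4
import Cfsg.Agent.Lib.Helper8.GS5

/-!
# Isaacs–Navarro Theorem A (S4865), part 6: the correspondence of S4914 commutes with conjugation
by elements normalizing the configuration and with complex conjugation.
-/

set_option autoImplicit false
set_option linter.style.haveILetI false
set_option linter.unusedSectionVars false
set_option linter.unusedVariables false

namespace Cfsg.Agent.Lib.Helper8.IN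

open Cfsg Cfsg.Agent.Lib.helper3.Irr Cfsg.Agent.Lib.helper3.CharBasic
open Cfsg.Agent.Lib.helper3.GNS (ip res ip_eq_classInner)
open Cfsg.Agent.Lib.Helper8.GS (ConjBy PInv exists_conjBy)
open Cfsg.Agent.Lib.Helper8.GSN
open scoped ComplexConjugate

variable {G : Type*} [Group G] [Finite G]

/-- A conjugate, by an element normalizing `P` and `A`, of a `P`-invariant function on `A` is
`P`-invariant. -/
theorem pinv_of_conjBy (P A : Subgroup G) (n : G) (hnP : n ∈ Subgroup.normalizer (P : Set G))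
    (hnA : n ∈ Subgroup.normalizer (A : Set G)) (θ θ' : ↥A → ℂ) (hθ : PInv P A θ)
    (h : ConjBy A n θ θ') : PInv P A θ' := by
  intro x hx k k' hk
  -- `k = n q n⁻¹`, `k' = n q' n⁻¹`
  have hninv : n⁻¹ ∈ Subgroup.normalizer (A : Set G) := Subgroup.inv_mem _ hnA
  have hq : n⁻¹ * (k : G) * n ∈ A := by
    have := (Subgroup.mem_normalizer_iff.mp hninv (k : G)).mp k.2
    simpa using this
  have hq' : n⁻¹ * (k' : G) * n ∈ A := by
    have := (Subgroup.mem_normalizer_iff.mp hninv (k' : G)).mp k'.2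
    simpa using this
  have hy : n⁻¹ * x * n ∈ P := by
    have := (Subgroup.mem_normalizer_iff.mp (Subgroup.inv_mem _ hnP) x).mp hx
    simpa using this
  have e1 : θ' k = θ ⟨_, hq⟩ := by
    apply h ⟨_, hq⟩ k
    simp only
    group
  have e2 : θ' k' = θ ⟨_, hq'⟩ := by
    apply h ⟨_, hq'⟩ k'
    simp only
    group
  rw [e1, e2]
  apply hθ _ hy ⟨_, hq⟩ ⟨_, hq'⟩
  simp only
  rw [hk]
  group

/-- The correspondence of S4914, with the characterization of the correspondent by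
`p ∤ [χ_C, ξ]`. -/
theorem exists_corr (p : ℕ) [Fact p.Prime] (P K Q C : Subgroup G) (hP : IsPGroup p ↥P)
    (hPK : P ≤ Subgroup.normalizer (K : Set G)) (hQK : Q ≤ K)
    (hQn : ∀ k ∈ K, ∀ q ∈ Q, k * q * k⁻¹ ∈ Q) (hQp : ∃ a : ℕ, Nat.card ↥Q = p ^ a)
    (hQsyl : ¬ p ∣ Q.relIndex K) (hCK : C ≤ K)
    (hC : ∀ k : G, k ∈ C ↔ (k ∈ K ∧ ∀ x ∈ P, x * k * x⁻¹ * k⁻¹ ∈ Q)) :
    ∃ f : {χ : IrrCharacter ↥K // PInv P K (χ : ↥K → ℂ)} →
        {ξ : IrrCharacter ↥C // PInv P C (ξ : ↥C → ℂ)},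
      Function.Bijective f ∧
      (∀ χ ξ, ξ = f χ ↔ ∀ m : ℕ, ip (res hCK (χ.1 : ↥K → ℂ)) (ξ.1 : ↥C → ℂ) = m → ¬ p ∣ m) ∧
      ∀ χ, ((charDegree ((f χ).1 : ↥C → ℂ) : ZMod p) = (charDegree (χ.1 : ↥K → ℂ) : ZMod p) ∨
        (charDegree ((f χ).1 : ↥C → ℂ) : ZMod p) = -(charDegree (χ.1 : ↥K → ℂ) : ZMod p)) := by
  obtain ⟨f, hbij, hf⟩ := Cfsg.Agent.S4914.result p P K Q C hP hPK hQK hQn hQp hQsyl hCK hC
  have hp : p.Prime := Fact.out
  have hpm : ∀ m : ℕ, ((m : ZMod p) = 1 ∨ (m : ZMod p) = -1) → ¬ p ∣ m := by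
    intro m hm hdvd
    have h0 : (m : ZMod p) = 0 := (ZMod.natCast_eq_zero_iff m p).mpr hdvd
    haveI : Fact (1 < p) := ⟨hp.one_lt⟩
    rcases hm with hm | hm
    · rw [h0] at hm
      exact zero_ne_one hm
    · rw [h0] at hm
      have : (1 : ZMod p) = 0 := by
        have := congrArg Neg.neg hm
        simpa using this.symm
      exact one_ne_zero this
  refine ⟨f, hbij, ?_, fun χ => (hf χ).2⟩
  intro χ ξ
  obtain ⟨m₀, hm₀, h1, h2⟩ := (hf χ).1 ξ
  have hm₀' : ip (res hCK (χ.1 : ↥K → ℂ)) (ξ.1 : ↥C → ℂ) = m₀ := hm₀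
  constructor
  · intro hξ m hm
    have : (m : ℂ) = m₀ := by rw [← hm, hm₀']
    have hmm : m = m₀ := by exact_mod_cast this
    rw [hmm]
    exact hpm m₀ (h1 hξ)
  · intro hall
    by_contra hne
    exact hall m₀ hm₀' (h2 hne)

section equivariance

variable (p : ℕ) [Fact p.Prime] (P K C : Subgroup G) (hCK : C ≤ K)
  (f : {χ : IrrCharacter ↥K // PInv P K (χ : ↥K → ℂ)} →
    {ξ : IrrCharacter ↥C // PInv P C (ξ : ↥C → ℂ)})
  (hchar : ∀ χ ξ, ξ = f χ ↔
    ∀ m : ℕ, ip (res hCK (χ.1 : ↥K → ℂ)) (ξ.1 : ↥C → ℂ) = m → ¬ p ∣ m)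

include hchar in
/-- The correspondence commutes with conjugation by an element normalizing `P`, `K` and `C`. -/
theorem corr_conjBy (n : G) (hnP : n ∈ Subgroup.normalizer (P : Set G))
    (hnK : n ∈ Subgroup.normalizer (K : Set G)) (hnC : n ∈ Subgroup.normalizer (C : Set G))
    (χ χ' : {χ : IrrCharacter ↥K // PInv P K (χ : ↥K → ℂ)})
    (hχ : ConjBy K n (χ.1 : ↥K → ℂ) (χ'.1 : ↥K → ℂ)) :
    ConjBy C n ((f χ).1 : ↥C → ℂ) ((f χ').1 : ↥C → ℂ) := by
  obtain ⟨ξ', hξ'⟩ := exists_conjBy C n hnC (f χ).1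
  have hξ'inv : PInv P C (ξ' : ↥C → ℂ) := pinv_of_conjBy P C n hnP hnC _ _ (f χ).2 hξ'
  have heq : (⟨ξ', hξ'inv⟩ : {ξ : IrrCharacter ↥C // PInv P C (ξ : ↥C → ℂ)}) = f χ' := by
    rw [hchar]
    intro m hm
    have h1 : ip (res hCK (χ'.1 : ↥K → ℂ)) (ξ' : ↥C → ℂ)
        = ip (res hCK (χ.1 : ↥K → ℂ)) ((f χ).1 : ↥C → ℂ) :=
      ip_conjBy2 C n hnC _ _ _ _ (conjBy_res hCK n _ _ hχ) hξ'
    rw [h1] at hm
    exact (hchar χ (f χ)).mp rfl m hm
  rw [← heq]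
  exact hξ'

/-- The complex conjugate of a `P`-invariant irreducible character. -/
noncomputable def cbar (A : Subgroup G) (θ : {χ : IrrCharacter ↥A // PInv P A (χ : ↥A → ℂ)}) :
    {χ : IrrCharacter ↥A // PInv P A (χ : ↥A → ℂ)} :=
  ⟨⟨fun a => conj ((θ.1 : ↥A → ℂ) a), isIrrCharacter_conj θ.1.2⟩, by
    intro x hx k k' hk
    show conj ((θ.1 : ↥A → ℂ) k') = conj ((θ.1 : ↥A → ℂ) k)
    rw [θ.2 x hx k k' hk]⟩

theorem cbar_apply (A : Subgroup G) (θ : {χ : IrrCharacter ↥A // PInv P A (χ : ↥A → ℂ)}) (a : ↥A) :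
    ((cbar P A θ).1 : ↥A → ℂ) a = conj ((θ.1 : ↥A → ℂ) a) := rfl

theorem cbar_eq_self_iff (A : Subgroup G) (θ : {χ : IrrCharacter ↥A // PInv P A (χ : ↥A → ℂ)}) :
    cbar P A θ = θ ↔ ∀ a : ↥A, ((θ.1 : ↥A → ℂ) a).im = 0 := by
  constructor
  · intro h a
    have := congrArg (fun z : {χ : IrrCharacter ↥A // PInv P A (χ : ↥A → ℂ)} =>
      (z.1 : ↥A → ℂ) a) h
    simp only [cbar_apply] at this
    exact Complex.conj_eq_iff_im.mp this
  · intro h
    apply Subtype.ext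
    apply Subtype.ext
    funext a
    exact Complex.conj_eq_iff_im.mpr (h a)

include hchar in
/-- The correspondence commutes with complex conjugation. -/
theorem corr_cbar (χ : {χ : IrrCharacter ↥K // PInv P K (χ : ↥K → ℂ)}) :
    f (cbar P K χ) = cbar P C (f χ) := by
  symm
  rw [hchar]
  intro m hm
  classical
  letI : Fintype ↥C := Fintype.ofFinite _
  have h1 : ip (res hCK ((cbar P K χ).1 : ↥K → ℂ)) ((cbar P C (f χ)).1 : ↥C → ℂ)
      = conj (ip (res hCK (χ.1 : ↥K → ℂ)) ((f χ).1 : ↥C → ℂ)) := by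
    rw [ip_eq_classInner, ip_eq_classInner]
    exact classInner_conj_conj _ _
  obtain ⟨m₀, hm₀⟩ := exists_nat_ip_res hCK χ.1 (f χ).1
  rw [h1, hm₀, Complex.conj_natCast] at hm
  have hmm : m₀ = m := by exact_mod_cast hm
  rw [← hmm]
  exact (hchar χ (f χ)).mp rfl m₀ hm₀

include hchar in
/-- The correspondence preserves reality (in both directions). -/
theorem corr_real_iff (hinj : Function.Injective f)
    (χ : {χ : IrrCharacter ↥K // PInv P K (χ : ↥K → ℂ)}) :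
    (∀ k : ↥K, ((χ.1 : ↥K → ℂ) k).im = 0) ↔ ∀ c : ↥C, (((f χ).1 : ↥C → ℂ) c).im = 0 := by
  rw [← cbar_eq_self_iff P K χ, ← cbar_eq_self_iff P C (f χ), ← corr_cbar p P K C hCK f hchar χ]
  constructor
  · intro h
    rw [h]
  · intro h
    exact hinj h

end equivariance

end Cfsg.Agent.Lib.Helper8.IN
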