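import Mathlib
import Cfsg.Agent.Lib.Helper8.IN6
import Cfsg.Agent.Lib.Helper8.IN5

/-!
# Isaacs–Navarro Theorem A (S4865), part 8: the correspondence of S4914 for `P ∈ Syl_p(G)`
acting on a normal subgroup `K` with a normal Sylow `p`-subgroup, in absolute form:
`Irr_P(K) → Irr_P(K ∩ N_G(P))`, where the target is read inside `N_G(P)`.
-/

set_option autoImplicit false
set_option linter.style.haveILetI false
set_option linter.unusedSectionVars false
set_option linter.unusedVariables false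

namespace Cfsg.Agent.Lib.Helper8.IN

open Cfsg Cfsg.Agent.Lib.helper3 Cfsg.Agent.Lib.helper3.Irr Cfsg.Agent.Lib.helper3.CharBasic
open Cfsg.Agent.Lib.helper3.IndFun
open Cfsg.Agent.Lib.helper3.GNS (ip res ip_eq_classInner)
open Cfsg.Agent.Lib.Helper8.GS (ConjBy PInv)
open scoped ComplexConjugate

variable {G : Type*} [Group G]

/-- `K.subgroupOf N ≃* K ⊓ N`. -/
def subInfEquiv (K N : Subgroup G) : ↥(K.subgroupOf N) ≃* ↥(K ⊓ N) where
  toFun c := ⟨((c : ↥N) : G), ⟨Subgroup.mem_subgroupOf.mp c.2, (c : ↥N).2⟩⟩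
  invFun c := ⟨⟨(c : G), c.2.2⟩, Subgroup.mem_subgroupOf.mpr c.2.1⟩
  left_inv c := rfl
  right_inv c := rfl
  map_mul' a b := rfl

theorem subInfEquiv_coe (K N : Subgroup G) (c : ↥(K.subgroupOf N)) :
    ((subInfEquiv K N c : ↥(K ⊓ N)) : G) = ((c : ↥N) : G) := rfl

theorem subInfEquiv_symm_coe (K N : Subgroup G) (c : ↥(K ⊓ N)) :
    ((((subInfEquiv K N).symm c : ↥(K.subgroupOf N)) : ↥N) : G) = (c : G) := rfl

section transport

variable (K N : Subgroup G) [hK : K.Normal]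

theorem pinv_iff_conjFun (P : Subgroup G) (θ : ↥K → ℂ) :
    PInv P K θ ↔ ∀ x ∈ P, Irr.conjFun K θ x = θ := by
  constructor
  · intro h x hx
    funext k
    exact h x hx k ⟨x * k * x⁻¹, hK.conj_mem k k.2 x⟩ rfl
  · intro h x hx k k' hk
    have := congrFun (h x hx) k
    rw [← this]
    unfold Irr.conjFun
    congr 1
    exact Subtype.ext hk

theorem conjBy_iff_conjFun (n : G) (θ θ' : ↥K → ℂ) :
    ConjBy K n θ θ' ↔ θ = Irr.conjFun K θ' n := by
  constructor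
  · intro h
    funext k
    exact (h k ⟨n * k * n⁻¹, hK.conj_mem k k.2 n⟩ rfl).symm
  · intro h q q' hq
    rw [h]
    unfold Irr.conjFun
    congr 1
    exact Subtype.ext hq

/-- Transport of a function on `K ⊓ N` to `K.subgroupOf N`. -/
def tr (φ : ↥(K ⊓ N) → ℂ) : ↥(K.subgroupOf N) → ℂ := fun c => φ (subInfEquiv K N c)

theorem tr_injective : Function.Injective (tr K N) := by
  intro φ φ' h
  funext c
  have := congrFun h ((subInfEquiv K N).symm c)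
  simpa [tr] using this

theorem pinv_iff_tr (P : Subgroup G) (hPN : P ≤ N) (φ : ↥(K ⊓ N) → ℂ) :
    PInv P (K ⊓ N) φ ↔ ∀ x : ↥N, (x : G) ∈ P → Irr.conjFun (K.subgroupOf N) (tr K N φ) x = tr K N φ := by
  constructor
  · intro h x hx
    funext c
    unfold Irr.conjFun tr
    apply h (x : G) hx
    rfl
  · intro h x hx k k' hk
    have := congrFun (h ⟨x, hPN hx⟩ hx) ((subInfEquiv K N).symm k)
    unfold Irr.conjFun tr at this
    rw [MulEquiv.apply_symm_apply] at this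
    rw [← this]
    congr 1
    apply Subtype.ext
    rw [hk]
    rfl

theorem conjBy_iff_tr (n : ↥N) (φ φ' : ↥(K ⊓ N) → ℂ) :
    ConjBy (K ⊓ N) (n : G) φ φ' ↔ tr K N φ = Irr.conjFun (K.subgroupOf N) (tr K N φ') n := by
  constructor
  · intro h
    funext c
    unfold Irr.conjFun tr
    symm
    apply h
    rfl
  · intro h q q' hq
    have := congrFun h ((subInfEquiv K N).symm q)
    unfold Irr.conjFun tr at this
    rw [MulEquiv.apply_symm_apply] at this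
    rw [this]
    congr 1
    apply Subtype.ext
    rw [hq]
    rfl

end transport

/-- The correspondence of S4914 for a Sylow `p`-subgroup `P` of `G` acting on a normal subgroup
`K` all of whose Sylow `p`-subgroups are normal, read inside `N = N_G(P)`. -/
theorem exists_corr_abs [Finite G] (p : ℕ) [hp : Fact p.Prime] (P : Sylow p G) (K : Subgroup G)
    [hK : K.Normal] (hKsyl : ∀ Q₀ : Sylow p ↥K, (Q₀ : Subgroup ↥K).Normal) :
    ∃ f : {θ : IrrCharacter ↥K // ∀ x ∈ (P : Subgroup G), Irr.conjFun K (θ : ↥K → ℂ) x = θ} →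
        {φ : IrrCharacter ↥(K.subgroupOf (Subgroup.normalizer ((P : Subgroup G) : Set G))) //
          ∀ x : ↥(Subgroup.normalizer ((P : Subgroup G) : Set G)), (x : G) ∈ (P : Subgroup G) →
            Irr.conjFun (K.subgroupOf (Subgroup.normalizer ((P : Subgroup G) : Set G)))
              (φ : ↥(K.subgroupOf (Subgroup.normalizer ((P : Subgroup G) : Set G))) → ℂ) x = φ},
      Function.Bijective f ∧
      (∀ θ θ₂ (n : ↥(Subgroup.normalizer ((P : Subgroup G) : Set G))),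
        (θ₂.1 : ↥K → ℂ) = Irr.conjFun K (θ.1 : ↥K → ℂ) (n : G) →
        ((f θ₂).1 : ↥(K.subgroupOf (Subgroup.normalizer ((P : Subgroup G) : Set G))) → ℂ)
          = Irr.conjFun (K.subgroupOf (Subgroup.normalizer ((P : Subgroup G) : Set G)))
              ((f θ).1 : ↥(K.subgroupOf (Subgroup.normalizer ((P : Subgroup G) : Set G))) → ℂ) n) ∧
      (∀ θ, (∀ k : ↥K, ((θ.1 : ↥K → ℂ) k).im = 0) ↔
        ∀ c, (((f θ).1 : ↥(K.subgroupOf (Subgroup.normalizer ((P : Subgroup G) : Set G))) → ℂ)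
          c).im = 0) ∧
      ∀ θ, ((charDegree ((f θ).1 :
            ↥(K.subgroupOf (Subgroup.normalizer ((P : Subgroup G) : Set G))) → ℂ) : ZMod p)
          = (charDegree (θ.1 : ↥K → ℂ) : ZMod p) ∨
        (charDegree ((f θ).1 :
            ↥(K.subgroupOf (Subgroup.normalizer ((P : Subgroup G) : Set G))) → ℂ) : ZMod p)
          = -(charDegree (θ.1 : ↥K → ℂ) : ZMod p)) := by
  classical
  set N := Subgroup.normalizer ((P : Subgroup G) : Set G) with hNdef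
  set Pₛ : Subgroup G := (P : Subgroup G) with hPs
  have hPN : Pₛ ≤ N := Subgroup.le_normalizer
  obtain ⟨Q₀⟩ : Nonempty (Sylow p ↥K) := inferInstance
  haveI hQ₀n : (Q₀ : Subgroup ↥K).Normal := hKsyl Q₀
  haveI hQ₀c : (Q₀ : Subgroup ↥K).Characteristic := Sylow.characteristic_of_normal Q₀ hQ₀n
  set Q : Subgroup G := (Q₀ : Subgroup ↥K).map K.subtype with hQdef
  haveI hQn : Q.Normal := ConjAct.normal_of_characteristic_of_normal
  have hQK : Q ≤ K := Subgroup.map_subtype_le _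
  have hQp : IsPGroup p ↥Q := Q₀.2.map _
  have hQP : Q ≤ Pₛ := le_sylow_of_normal P Q hQp
  have hPKQ : Pₛ ⊓ K ≤ Q := by
    intro y hy
    obtain ⟨hyP, hyK⟩ := Subgroup.mem_inf.mp hy
    have h1 : IsPGroup p ↥(Pₛ.subgroupOf K) := P.2.comap_subtype
    obtain ⟨S, hS⟩ := h1.exists_le_sylow
    haveI := Sylow.unique_of_normal Q₀ hQ₀n
    have hSQ : S = Q₀ := Subsingleton.elim _ _
    rw [hSQ] at hS
    exact ⟨⟨y, hyK⟩, hS (Subgroup.mem_subgroupOf.mpr hyP), rfl⟩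
  -- hypotheses of S4914
  have hPK' : Pₛ ≤ Subgroup.normalizer (K : Set G) := by
    rw [Subgroup.normalizer_eq_top_iff.mpr hK]
    exact le_top
  have hQn' : ∀ k ∈ K, ∀ q ∈ Q, k * q * k⁻¹ ∈ Q := fun k _ q hq => hQn.conj_mem q hq k
  have hQcard : ∃ a : ℕ, Nat.card ↥Q = p ^ a := IsPGroup.iff_card.mp hQp
  have hQsyl : ¬ p ∣ Q.relIndex K := by
    have h1 : Q.subgroupOf K = (Q₀ : Subgroup ↥K) := by
      rw [hQdef]
      exact Subgroup.comap_map_eq_self_of_injective K.subtype_injective _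
    unfold Subgroup.relIndex
    rw [h1]
    exact Q₀.not_dvd_index
  have hCK : K ⊓ N ≤ K := inf_le_left
  have hC : ∀ k : G, k ∈ K ⊓ N ↔ (k ∈ K ∧ ∀ x ∈ Pₛ, x * k * x⁻¹ * k⁻¹ ∈ Q) := by
    intro k
    constructor
    · intro hk
      obtain ⟨hkK, hkN⟩ := Subgroup.mem_inf.mp hk
      refine ⟨hkK, fun x hx => hPKQ (Subgroup.mem_inf.mpr ⟨?_, ?_⟩)⟩
      · have h1 : k * x⁻¹ * k⁻¹ ∈ Pₛ :=
          (Subgroup.mem_normalizer_iff.mp hkN x⁻¹).mp (Subgroup.inv_mem _ hx)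
        have e : x * k * x⁻¹ * k⁻¹ = x * (k * x⁻¹ * k⁻¹) := by group
        rw [e]
        exact Subgroup.mul_mem _ hx h1
      · exact K.mul_mem (hK.conj_mem k hkK x) (K.inv_mem hkK)
    · rintro ⟨hkK, hcomm⟩
      refine Subgroup.mem_inf.mpr ⟨hkK, ?_⟩
      have ha : ∀ h ∈ Pₛ, k * h * k⁻¹ ∈ Pₛ := by
        intro h hh
        have h1 := hQP (hcomm h⁻¹ (Subgroup.inv_mem _ hh))
        have e : k * h * k⁻¹ = h * (h⁻¹ * k * h⁻¹⁻¹ * k⁻¹) := by group
        rw [e]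
        exact Subgroup.mul_mem _ hh h1
      have hb : ∀ h ∈ Pₛ, k⁻¹ * h * k ∈ Pₛ := by
        intro h hh
        have h1 : h⁻¹ * k * h⁻¹⁻¹ * k⁻¹ ∈ Q := hcomm h⁻¹ (Subgroup.inv_mem _ hh)
        have h2 : k⁻¹ * (h⁻¹ * k * h⁻¹⁻¹ * k⁻¹)⁻¹ * k⁻¹⁻¹ ∈ Q :=
          hQn.conj_mem _ (Q.inv_mem h1) k⁻¹
        have e : k⁻¹ * h * k = h * (k⁻¹ * (h⁻¹ * k * h⁻¹⁻¹ * k⁻¹)⁻¹ * k⁻¹⁻¹) := by group
        rw [e]
        exact Subgroup.mul_mem _ hh (hQP h2)
      rw [hNdef, Subgroup.mem_normalizer_iff]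
      intro h
      constructor
      · exact ha h
      · intro hh
        have := hb _ hh
        have e : k⁻¹ * (k * h * k⁻¹) * k = h := by group
        rwa [e] at this
  obtain ⟨f₀, hbij, hchar, hdeg⟩ :=
    exists_corr p Pₛ K Q (K ⊓ N) P.2 hPK' hQK hQn' hQcard hQsyl hCK hC
  -- `N` normalizes everything
  have hNK : ∀ n : ↥N, (n : G) ∈ Subgroup.normalizer (K : Set G) := by
    intro n
    rw [Subgroup.normalizer_eq_top_iff.mpr hK]
    exact Subgroup.mem_top _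
  have hNC : ∀ n : ↥N, (n : G) ∈ Subgroup.normalizer ((K ⊓ N : Subgroup G) : Set G) := by
    intro n
    have h1 : ∀ m : ↥N, ∀ c ∈ K ⊓ N, (m : G) * c * (m : G)⁻¹ ∈ K ⊓ N := by
      intro m c hc
      obtain ⟨hcK, hcN⟩ := Subgroup.mem_inf.mp hc
      exact Subgroup.mem_inf.mpr ⟨hK.conj_mem c hcK m, N.mul_mem (N.mul_mem m.2 hcN) (N.inv_mem m.2)⟩
    rw [Subgroup.mem_normalizer_iff]
    intro c
    constructor
    · exact h1 n c
    · intro hc
      have := h1 n⁻¹ _ hc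
      have e : ((n⁻¹ : ↥N) : G) * ((n : G) * c * (n : G)⁻¹) * ((n⁻¹ : ↥N) : G)⁻¹ = c := by
        push_cast
        group
      rwa [e] at this
  -- the transported map
  let f : {θ : IrrCharacter ↥K // ∀ x ∈ Pₛ, Irr.conjFun K (θ : ↥K → ℂ) x = θ} →
      {φ : IrrCharacter ↥(K.subgroupOf N) // ∀ x : ↥N, (x : G) ∈ Pₛ →
        Irr.conjFun (K.subgroupOf N) (φ : ↥(K.subgroupOf N) → ℂ) x = φ} :=
    fun θ => ⟨⟨tr K N ((f₀ ⟨θ.1, (pinv_iff_conjFun K Pₛ _).mpr θ.2⟩).1 : ↥(K ⊓ N) → ℂ),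
      isIrrCharacter_comp_mulEquiv (subInfEquiv K N) (f₀ ⟨θ.1, _⟩).1.2⟩,
      (pinv_iff_tr K N Pₛ hPN _).mp (f₀ ⟨θ.1, _⟩).2⟩
  have hfval : ∀ θ, ((f θ).1 : ↥(K.subgroupOf N) → ℂ)
      = tr K N ((f₀ ⟨θ.1, (pinv_iff_conjFun K Pₛ _).mpr θ.2⟩).1 : ↥(K ⊓ N) → ℂ) := fun θ => rfl
  refine ⟨f, ⟨?_, ?_⟩, ?_, ?_, ?_⟩
  · -- injective
    intro θ θ' h
    have h1 : ((f θ).1 : ↥(K.subgroupOf N) → ℂ) = ((f θ').1 : ↥(K.subgroupOf N) → ℂ) := by rw [h]
    rw [hfval, hfval] at h1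
    have h2 := tr_injective K N h1
    have h3 : f₀ ⟨θ.1, (pinv_iff_conjFun K Pₛ _).mpr θ.2⟩
        = f₀ ⟨θ'.1, (pinv_iff_conjFun K Pₛ _).mpr θ'.2⟩ :=
      Subtype.ext (Subtype.ext h2)
    have h4 := hbij.1 h3
    have h5 : θ.1 = θ'.1 :=
      congrArg (fun z : {χ : IrrCharacter ↥K // PInv Pₛ K (χ : ↥K → ℂ)} => z.1) h4
    exact Subtype.ext h5
  · -- surjective
    intro φ'
    have hφirr : IsIrrCharacter ↥(K ⊓ N)
        (fun c => (φ'.1 : ↥(K.subgroupOf N) → ℂ) ((subInfEquiv K N).symm c)) :=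
      isIrrCharacter_comp_mulEquiv (subInfEquiv K N).symm φ'.1.2
    have htr : tr K N (fun c => (φ'.1 : ↥(K.subgroupOf N) → ℂ) ((subInfEquiv K N).symm c))
        = (φ'.1 : ↥(K.subgroupOf N) → ℂ) := by
      funext c
      simp [tr]
    have hφinv : PInv Pₛ (K ⊓ N)
        (fun c => (φ'.1 : ↥(K.subgroupOf N) → ℂ) ((subInfEquiv K N).symm c)) := by
      rw [pinv_iff_tr K N Pₛ hPN, htr]
      exact φ'.2
    obtain ⟨θ₀, hθ₀⟩ := hbij.2 ⟨⟨_, hφirr⟩, hφinv⟩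
    refine ⟨⟨θ₀.1, (pinv_iff_conjFun K Pₛ _).mp θ₀.2⟩, ?_⟩
    apply Subtype.ext
    apply Subtype.ext
    rw [hfval]
    have : (⟨θ₀.1, (pinv_iff_conjFun K Pₛ _).mpr ((pinv_iff_conjFun K Pₛ _).mp θ₀.2)⟩ :
        {χ : IrrCharacter ↥K // PInv Pₛ K (χ : ↥K → ℂ)}) = θ₀ := rfl
    rw [this, hθ₀]
    exact htr
  · -- equivariance
    intro θ θ₂ n hθ
    rw [hfval, hfval, ← conjBy_iff_tr K N n]
    apply corr_conjBy p Pₛ K (K ⊓ N) hCK f₀ hchar (n : G) n.2 (hNK n) (hNC n)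
    exact (conjBy_iff_conjFun K (n : G) _ _).mpr hθ
  · -- reality
    intro θ
    rw [corr_real_iff p Pₛ K (K ⊓ N) hCK f₀ hchar hbij.1 ⟨θ.1, (pinv_iff_conjFun K Pₛ _).mpr θ.2⟩,
      hfval]
    constructor
    · intro h c
      exact h _
    · intro h c
      have := h ((subInfEquiv K N).symm c)
      simpa [tr] using this
  · -- degrees
    intro θ
    have h1 := hdeg ⟨θ.1, (pinv_iff_conjFun K Pₛ _).mpr θ.2⟩
    have h2 : charDegree ((f θ).1 : ↥(K.subgroupOf N) → ℂ)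
        = charDegree ((f₀ ⟨θ.1, (pinv_iff_conjFun K Pₛ _).mpr θ.2⟩).1 : ↥(K ⊓ N) → ℂ) := by
      unfold charDegree
      rw [hfval]
      unfold tr
      rw [map_one]
    rw [h2]
    exact h1

end Cfsg.Agent.Lib.Helper8.IN
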