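import Mathlib
import Cfsg.Agent.Lib.Helper8.IN7
import Cfsg.Agent.Lib.Helper8.IN8
import Cfsg.Agent.Lib.helper3.RealOdd4

/-!
# Isaacs–Navarro Theorem A (S4865), part 9: the assembly.
-/

set_option autoImplicit false
set_option linter.style.haveILetI false
set_option linter.unusedSectionVars false
set_option linter.unusedVariables false

namespace Cfsg.Agent.Lib.Helper8.IN

open Cfsg Cfsg.Agent.Lib.helper3 Cfsg.Agent.Lib.helper3.Irr Cfsg.Agent.Lib.helper3.CharBasic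
open Cfsg.Agent.Lib.helper3.IndFun Cfsg.Agent.Lib.helper3.RealOdd
open Cfsg.Agent.Lib.Helper8.GS Cfsg.Agent.Lib.Helper8.GSN
open scoped ComplexConjugate

universe u

section generic

/-- Two families with the same fibres have images of the same size. -/
theorem card_image_eq_of_iff {ι α β : Type*} [Fintype ι] [DecidableEq α] [DecidableEq β]
    (a : ι → α) (b : ι → β) (h : ∀ i j, a i = a j ↔ b i = b j) :
    (Finset.univ.image a).card = (Finset.univ.image b).card := by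
  classical
  have h1 : (Finset.univ.image (fun i => (a i, b i))).card = (Finset.univ.image a).card := by
    have : Finset.univ.image a = (Finset.univ.image (fun i => (a i, b i))).image Prod.fst := by
      rw [Finset.image_image]
      rfl
    rw [this]
    symm
    apply Finset.card_image_of_injOn
    intro x hx y hy hxy
    obtain ⟨i, -, rfl⟩ := Finset.mem_image.mp (Finset.mem_coe.mp hx)
    obtain ⟨j, -, rfl⟩ := Finset.mem_image.mp (Finset.mem_coe.mp hy)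
    simp only at hxy
    exact Prod.ext hxy ((h i j).mp hxy)
  have h2 : (Finset.univ.image (fun i => (a i, b i))).card = (Finset.univ.image b).card := by
    have : Finset.univ.image b = (Finset.univ.image (fun i => (a i, b i))).image Prod.snd := by
      rw [Finset.image_image]
      rfl
    rw [this]
    symm
    apply Finset.card_image_of_injOn
    intro x hx y hy hxy
    obtain ⟨i, -, rfl⟩ := Finset.mem_image.mp (Finset.mem_coe.mp hx)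
    obtain ⟨j, -, rfl⟩ := Finset.mem_image.mp (Finset.mem_coe.mp hy)
    simp only at hxy
    exact Prod.ext ((h i j).mpr hxy) hxy
  rw [← h1, h2]

variable {H : Type*} [Group H]

/-- The size of the Clifford orbit divides the degree. -/
theorem card_orbit_dvd_degree [Fintype H] (M : Subgroup H) [hM : M.Normal] [Fintype ↥M]
    [DecidableEq (↥M → ℂ)] (χ : IrrCharacter H) (θ₀ : IrrCharacter ↥M)
    (hθ₀ : classInner (fun n : ↥M => (χ : H → ℂ) n) (θ₀ : ↥M → ℂ) ≠ 0) :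
    (Finset.univ.image (Irr.conjFun M (θ₀ : ↥M → ℂ))).card ∣ charDegree (χ : H → ℂ) := by
  have hχc := isCharacter_of_isIrrCharacter χ.2
  obtain ⟨e, he0, he', hcl, -, -⟩ := clifford_finset M (χ : H → ℂ) χ.2 (θ₀ : ↥M → ℂ) θ₀.2 hθ₀
  set O := Finset.univ.image (Irr.conjFun M (θ₀ : ↥M → ℂ)) with hO
  obtain ⟨dχ, hdχ⟩ := exists_nat_apply_one hχc
  obtain ⟨dθ, hdθ⟩ := exists_nat_apply_one (isCharacter_of_isIrrCharacter θ₀.2)
  have h1 := congrFun hcl 1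
  rw [Pi.smul_apply, Finset.sum_apply] at h1
  have h2 : ∀ ψ ∈ O, ψ 1 = (dθ : ℂ) := by
    intro ψ hψ
    obtain ⟨g, -, rfl⟩ := Finset.mem_image.mp hψ
    rw [← hdθ]
    exact conjFun_apply_one' M _ g
  rw [Finset.sum_congr rfl h2, Finset.sum_const, smul_eq_mul, nsmul_eq_mul] at h1
  have h3 : (χ : H → ℂ) ((1 : ↥M) : H) = (dχ : ℂ) := hdχ
  rw [h3] at h1
  have h4 : dχ = e * (O.card * dθ) := by exact_mod_cast h1
  rw [charDegree_eq_of_apply_one hdχ, h4]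
  exact ⟨e * dθ, by ring⟩

/-- Some conjugate of a constituent of a character of degree prime to `p` is invariant under a
given `p`-subgroup. -/
theorem exists_pinv_conj [Fintype H] (p : ℕ) [hp : Fact p.Prime] (M : Subgroup H) [hM : M.Normal]
    [Fintype ↥M] (P : Subgroup H) (hP : IsPGroup p ↥P) (χ : IrrCharacter H)
    (hχ : ¬ p ∣ charDegree (χ : H → ℂ)) (θ₀ : IrrCharacter ↥M)
    (hθ₀ : classInner (fun n : ↥M => (χ : H → ℂ) n) (θ₀ : ↥M → ℂ) ≠ 0) :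
    ∃ g : H, ∀ x ∈ P, Irr.conjFun M (Irr.conjFun M (θ₀ : ↥M → ℂ) g) x
      = Irr.conjFun M (θ₀ : ↥M → ℂ) g := by
  classical
  set O := Finset.univ.image (Irr.conjFun M (θ₀ : ↥M → ℂ)) with hO
  have hpO : ¬ p ∣ O.card := fun h => hχ (dvd_trans h (card_orbit_dvd_degree M χ θ₀ hθ₀))
  letI := conjAct M
  have hstab : ∀ x ∈ P, ∀ a ∈ (O : Set (↥M → ℂ)), x • a ∈ (O : Set (↥M → ℂ)) := by
    intro x _ a ha
    obtain ⟨g, -, rfl⟩ := Finset.mem_image.mp (Finset.mem_coe.mp ha)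
    show Irr.conjFun M (Irr.conjFun M (θ₀ : ↥M → ℂ) g) x⁻¹ ∈ (O : Set (↥M → ℂ))
    rw [conjFun_mul]
    exact Finset.mem_coe.mpr (Finset.mem_image.mpr ⟨_, Finset.mem_univ _, rfl⟩)
  obtain ⟨ψ, hψO, hψfix⟩ := exists_fixed_of_not_dvd p P hP (O : Set (↥M → ℂ))
    (Finset.finite_toSet O) hstab (by rw [Set.ncard_coe_finset]; exact hpO)
  obtain ⟨g₀, -, hg₀⟩ := Finset.mem_image.mp (Finset.mem_coe.mp hψO)
  refine ⟨g₀, fun x hx => ?_⟩
  rw [hg₀]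
  have := hψfix x⁻¹ (P.inv_mem hx)
  have h2 : (x⁻¹ : H) • ψ = Irr.conjFun M ψ x := by
    show Irr.conjFun M ψ (x⁻¹)⁻¹ = Irr.conjFun M ψ x
    rw [inv_inv]
  rw [h2] at this
  exact this

/-- Conjugating a `P`-invariant function by an element normalizing `P`. -/
theorem conjFun_pinv (M : Subgroup H) [hM : M.Normal] (P : Subgroup H) (θ : ↥M → ℂ)
    (hθ : ∀ x ∈ P, Irr.conjFun M θ x = θ) (n : H)
    (hn : n ∈ Subgroup.normalizer (P : Set H)) :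
    ∀ x ∈ P, Irr.conjFun M (Irr.conjFun M θ n) x = Irr.conjFun M θ n := by
  intro x hx
  have hy : n * x * n⁻¹ ∈ P := (Subgroup.mem_normalizer_iff.mp hn x).mp hx
  rw [conjFun_mul]
  have e : n * x = (n * x * n⁻¹) * n := by group
  rw [e, ← conjFun_mul, hθ _ hy]

theorem conjFun_real (M : Subgroup H) [hM : M.Normal] (θ : ↥M → ℂ)
    (hθ : ∀ k, (θ k).im = 0) (g : H) : ∀ k, (Irr.conjFun M θ g k).im = 0 := fun k => hθ _

end generic

section main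

variable {G : Type u} [Group G] [Finite G]

theorem ncard_orbit_modEq' {α : Type*} [MulAction G α] {p : ℕ} [Fact p.Prime] (P : Sylow p G)
    (N : Subgroup G) (hN : N = Subgroup.normalizer ((P : Subgroup G) : Set G)) (a : α)
    (ha : ∀ x ∈ (P : Subgroup G), x • a = a) :
    (Set.range (fun g : G => g • a)).ncard ≡
      (Set.range (fun n : ↥N => (n : G) • a)).ncard [MOD p] := by
  subst hN
  exact ncard_orbit_modEq P a ha

/-- The assembly, for an abstract correspondence `f` with the properties of `exists_corr_abs`. -/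
theorem exists_bijection_aux (p : ℕ) [hp : Fact p.Prime] (P : Sylow p G) (K : Subgroup G)
    [hK : K.Normal] (hKodd : Odd K.index) (hreal : RealHyp p G)
    (N : Subgroup G) (hN : N = Subgroup.normalizer ((P : Subgroup G) : Set G))
    (f : {θ : IrrCharacter ↥K // ∀ x ∈ (P : Subgroup G), Irr.conjFun K (θ : ↥K → ℂ) x = θ} →
      {φ : IrrCharacter ↥(K.subgroupOf N) // ∀ x : ↥N, (x : G) ∈ (P : Subgroup G) →
        Irr.conjFun (K.subgroupOf N) (φ : ↥(K.subgroupOf N) → ℂ) x = φ})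
    (hbij : Function.Bijective f)
    (hE1 : ∀ θ θ₂ (n : ↥N), (θ₂.1 : ↥K → ℂ) = Irr.conjFun K (θ.1 : ↥K → ℂ) (n : G) →
      ((f θ₂).1 : ↥(K.subgroupOf N) → ℂ)
        = Irr.conjFun (K.subgroupOf N) ((f θ).1 : ↥(K.subgroupOf N) → ℂ) n)
    (hE2 : ∀ θ, (∀ k : ↥K, ((θ.1 : ↥K → ℂ) k).im = 0) ↔
      ∀ c, (((f θ).1 : ↥(K.subgroupOf N) → ℂ) c).im = 0)
    (hE3 : ∀ θ, ((charDegree ((f θ).1 : ↥(K.subgroupOf N) → ℂ) : ZMod p)
        = (charDegree (θ.1 : ↥K → ℂ) : ZMod p) ∨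
      (charDegree ((f θ).1 : ↥(K.subgroupOf N) → ℂ) : ZMod p)
        = -(charDegree (θ.1 : ↥K → ℂ) : ZMod p))) :
    ∃ F : {χ : IrrCharacter G // ∀ g : G, ((χ : G → ℂ) g).im = 0} →
        {ξ : IrrCharacter ↥N // (∀ n, ((ξ : ↥N → ℂ) n).im = 0) ∧
          ¬ p ∣ charDegree (ξ : ↥N → ℂ)},
      Function.Bijective F ∧ ∀ χ,
        ((charDegree ((F χ).1 : ↥N → ℂ) : ZMod p) = (charDegree (χ.1 : G → ℂ) : ZMod p) ∨
          (charDegree ((F χ).1 : ↥N → ℂ) : ZMod p) = -(charDegree (χ.1 : G → ℂ) : ZMod p)) := by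
  classical
  letI : Fintype G := Fintype.ofFinite G
  letI : Fintype ↥K := Fintype.ofFinite _
  letI : Fintype ↥N := Fintype.ofFinite _
  letI : Fintype ↥(K.subgroupOf N) := Fintype.ofFinite _
  have hNmem : ∀ n : ↥N, (n : G) ∈ Subgroup.normalizer ((P : Subgroup G) : Set G) := by
    intro n
    rw [← hN]
    exact n.2
  have hCodd : Odd (K.subgroupOf N).index := by
    have h1 : (K.subgroupOf N).index ∣ K.index := Subgroup.relIndex_dvd_index_of_normal K N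
    exact hKodd.of_dvd_nat h1
  -- conjugates inside the domain of `f`
  have hconjA : ∀ (θ : {θ : IrrCharacter ↥K // ∀ x ∈ (P : Subgroup G),
      Irr.conjFun K (θ : ↥K → ℂ) x = θ}) (n : ↥N),
      ∃ θn : {θ : IrrCharacter ↥K // ∀ x ∈ (P : Subgroup G), Irr.conjFun K (θ : ↥K → ℂ) x = θ},
        (θn.1 : ↥K → ℂ) = Irr.conjFun K (θ.1 : ↥K → ℂ) (n : G) ∧
        ((f θn).1 : ↥(K.subgroupOf N) → ℂ) = Irr.conjFun (K.subgroupOf N) ((f θ).1 : ↥(K.subgroupOf N) → ℂ) n := by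
    intro θ n
    refine ⟨⟨⟨Irr.conjFun K (θ.1 : ↥K → ℂ) (n : G), isIrrCharacter_conjFun K θ.1.2 _⟩,
      conjFun_pinv K (P : Subgroup G) _ θ.2 (n : G) (hNmem n)⟩, rfl, ?_⟩
    exact hE1 θ _ n rfl
  let Rel : IrrCharacter G → IrrCharacter ↥N → Prop := fun χ ξ =>
    ∃ θ : {θ : IrrCharacter ↥K // ∀ x ∈ (P : Subgroup G), Irr.conjFun K (θ : ↥K → ℂ) x = θ},
      (∀ k : ↥K, ((θ.1 : ↥K → ℂ) k).im = 0) ∧
      classInner (fun k : ↥K => (χ : G → ℂ) k) (θ.1 : ↥K → ℂ) ≠ 0 ∧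
      classInner (fun c : ↥(K.subgroupOf N) => (ξ : ↥N → ℂ) c) ((f θ).1 : ↥(K.subgroupOf N) → ℂ) ≠ 0
  have hcfG : ∀ χ : IrrCharacter G, IsClassFunction G (χ : G → ℂ) := fun χ =>
    isClassFunction_of_isCharacter (isCharacter_of_isIrrCharacter χ.2)
  have hcfN : ∀ ξ : IrrCharacter ↥N, IsClassFunction ↥N (ξ : ↥N → ℂ) := fun ξ =>
    isClassFunction_of_isCharacter (isCharacter_of_isIrrCharacter ξ.2)
  -- L1: existence
  have L1 : ∀ χ : IrrCharacter G, (∀ g : G, ((χ : G → ℂ) g).im = 0) →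
      ∃ ξ : IrrCharacter ↥N, (∀ n : ↥N, ((ξ : ↥N → ℂ) n).im = 0) ∧ Rel χ ξ := by
    intro χ hχ
    obtain ⟨θ₀, hθ₀r, hθ₀⟩ := RealOdd.exists_real_under K hKodd χ hχ
    obtain ⟨g, hg⟩ := exists_pinv_conj p K (P : Subgroup G) P.2 χ (hreal χ hχ) θ₀ hθ₀
    obtain ⟨θ, hθdef⟩ : ∃ θ : {θ : IrrCharacter ↥K // ∀ x ∈ (P : Subgroup G),
        Irr.conjFun K (θ : ↥K → ℂ) x = θ}, (θ.1 : ↥K → ℂ) = Irr.conjFun K (θ₀ : ↥K → ℂ) g :=
      ⟨⟨⟨Irr.conjFun K (θ₀ : ↥K → ℂ) g, isIrrCharacter_conjFun K θ₀.2 g⟩, hg⟩, rfl⟩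
    have hθr : ∀ k : ↥K, ((θ.1 : ↥K → ℂ) k).im = 0 := by
      rw [hθdef]
      exact conjFun_real K _ hθ₀r g
    have hθχ : classInner (fun k : ↥K => (χ : G → ℂ) k) (θ.1 : ↥K → ℂ) ≠ 0 := by
      rw [hθdef, classInner_restrict_conjFun K _ (hcfG χ)]
      exact hθ₀
    have hφr := (hE2 θ).mp hθr
    obtain ⟨ξ, hξr, hξ⟩ := Cfsg.Agent.Lib.Helper8.IN.exists_real_over (K.subgroupOf N) hCodd (f θ).1 hφr
    exact ⟨ξ, hξr, θ, hθr, hθχ, hξ⟩
  -- L2: degrees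
  have L2 : ∀ (χ : IrrCharacter G) (ξ : IrrCharacter ↥N),
      (∀ g : G, ((χ : G → ℂ) g).im = 0) → (∀ n : ↥N, ((ξ : ↥N → ℂ) n).im = 0) → Rel χ ξ →
      ((charDegree (ξ : ↥N → ℂ) : ZMod p) = (charDegree (χ : G → ℂ) : ZMod p) ∨
        (charDegree (ξ : ↥N → ℂ) : ZMod p) = -(charDegree (χ : G → ℂ) : ZMod p)) := by
    rintro χ ξ hχ hξ ⟨θ, hθr, hθχ, hξφ⟩
    have hφr := (hE2 θ).mp hθr
    have d1 := RealOdd.real_over_apply_one K hKodd χ hχ θ.1 hθr hθχ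
    have d2 := RealOdd.real_over_apply_one (K.subgroupOf N) hCodd ξ hξ (f θ).1 hφr hξφ
    obtain ⟨dθ, hdθ⟩ := exists_nat_apply_one (isCharacter_of_isIrrCharacter θ.1.2)
    obtain ⟨dφ, hdφ⟩ := exists_nat_apply_one (isCharacter_of_isIrrCharacter (f θ).1.2)
    set OG := (Finset.univ.image (Irr.conjFun K (θ.1 : ↥K → ℂ))).card with hOG
    set ON := (Finset.univ.image (Irr.conjFun (K.subgroupOf N) ((f θ).1 : ↥(K.subgroupOf N) → ℂ))).card with hON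
    have c1 : charDegree (χ : G → ℂ) = OG * dθ := by
      apply charDegree_eq_of_apply_one
      rw [d1, hdθ]
      push_cast
      rfl
    have c2 : charDegree (ξ : ↥N → ℂ) = ON * dφ := by
      apply charDegree_eq_of_apply_one
      rw [d2, hdφ]
      push_cast
      rfl
    have c3 : charDegree (θ.1 : ↥K → ℂ) = dθ := charDegree_eq_of_apply_one hdθ
    have c4 : charDegree ((f θ).1 : ↥(K.subgroupOf N) → ℂ) = dφ := charDegree_eq_of_apply_one hdφ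
    -- the orbit congruence
    have hmod : (OG : ZMod p) = (ON : ZMod p) := by
      letI := conjAct K
      have hfix : ∀ x ∈ (P : Subgroup G), x • (θ.1 : ↥K → ℂ) = (θ.1 : ↥K → ℂ) := by
        intro x hx
        show Irr.conjFun K (θ.1 : ↥K → ℂ) x⁻¹ = (θ.1 : ↥K → ℂ)
        exact θ.2 x⁻¹ (Subgroup.inv_mem _ hx)
      have h1 := ncard_orbit_modEq' P N hN (θ.1 : ↥K → ℂ) hfix
      have h2 : Set.range (fun g : G => g • (θ.1 : ↥K → ℂ))
          = ↑(Finset.univ.image (Irr.conjFun K (θ.1 : ↥K → ℂ))) := by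
        ext ψ
        simp only [Set.mem_range, Finset.coe_image, Finset.coe_univ, Set.image_univ]
        constructor
        · rintro ⟨g, rfl⟩
          exact ⟨g⁻¹, rfl⟩
        · rintro ⟨g, rfl⟩
          refine ⟨g⁻¹, ?_⟩
          show Irr.conjFun K (θ.1 : ↥K → ℂ) (g⁻¹)⁻¹ = _
          rw [inv_inv]
      have h3 : Set.range (fun n : ↥N => (n : G) • (θ.1 : ↥K → ℂ))
          = ↑(Finset.univ.image (fun n : ↥N => Irr.conjFun K (θ.1 : ↥K → ℂ) (n : G))) := by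
        ext ψ
        simp only [Set.mem_range, Finset.coe_image, Finset.coe_univ, Set.image_univ]
        constructor
        · rintro ⟨n, rfl⟩
          exact ⟨n⁻¹, rfl⟩
        · rintro ⟨n, rfl⟩
          refine ⟨n⁻¹, ?_⟩
          show Irr.conjFun K (θ.1 : ↥K → ℂ) (((n⁻¹ : ↥N) : G))⁻¹ = _
          rw [Subgroup.coe_inv, inv_inv]
      have h4 : (Finset.univ.image (fun n : ↥N => Irr.conjFun K (θ.1 : ↥K → ℂ) (n : G))).card
          = ON := by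
        apply card_image_eq_of_iff
        intro n m
        obtain ⟨θn, hθn, hfn⟩ := hconjA θ n
        obtain ⟨θm, hθm, hfm⟩ := hconjA θ m
        rw [← hθn, ← hθm, ← hfn, ← hfm]
        constructor
        · intro h
          have : θn = θm := Subtype.ext (Subtype.ext h)
          rw [this]
        · intro h
          have h5 : f θn = f θm := Subtype.ext (Subtype.ext h)
          rw [hbij.1 h5]
      rw [h2, h3, Set.ncard_coe_finset, Set.ncard_coe_finset, h4] at h1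
      exact (ZMod.natCast_eq_natCast_iff _ _ p).mpr h1
    rw [c1, c2]
    push_cast
    rw [hmod]
    rcases hE3 θ with h | h
    · left
      rw [c3, c4] at h
      rw [h]
    · right
      rw [c3, c4] at h
      rw [h]
      ring
  have hpdeg : ∀ (χ : IrrCharacter G) (ξ : IrrCharacter ↥N),
      (∀ g : G, ((χ : G → ℂ) g).im = 0) → (∀ n : ↥N, ((ξ : ↥N → ℂ) n).im = 0) → Rel χ ξ →
      ¬ p ∣ charDegree (ξ : ↥N → ℂ) := by
    intro χ ξ hχ hξ hrel hdvd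
    apply hreal χ hχ
    have h0 : (charDegree (ξ : ↥N → ℂ) : ZMod p) = 0 := (ZMod.natCast_eq_zero_iff _ p).mpr hdvd
    rw [← ZMod.natCast_eq_zero_iff]
    rcases L2 χ ξ hχ hξ hrel with h | h
    · rw [← h, h0]
    · rw [h0] at h
      have := congrArg Neg.neg h
      simpa using this.symm
  -- L3: functional
  have L3 : ∀ (χ : IrrCharacter G) (ξ₁ ξ₂ : IrrCharacter ↥N),
      (∀ n : ↥N, ((ξ₁ : ↥N → ℂ) n).im = 0) → (∀ n : ↥N, ((ξ₂ : ↥N → ℂ) n).im = 0) →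
      Rel χ ξ₁ → Rel χ ξ₂ → ξ₁ = ξ₂ := by
    rintro χ ξ₁ ξ₂ hξ₁ hξ₂ ⟨θ₁, hθ₁r, hθ₁χ, hξ₁φ⟩ ⟨θ₂, hθ₂r, hθ₂χ, hξ₂φ⟩
    obtain ⟨g, hg⟩ := exists_conj_of_constituents K χ θ₁.1 θ₂.1 hθ₁χ hθ₂χ
    letI := conjAct K
    have hfix1 : ∀ x ∈ (P : Subgroup G), x • (θ₁.1 : ↥K → ℂ) = (θ₁.1 : ↥K → ℂ) := by
      intro x hx
      show Irr.conjFun K (θ₁.1 : ↥K → ℂ) x⁻¹ = (θ₁.1 : ↥K → ℂ)
      exact θ₁.2 x⁻¹ (Subgroup.inv_mem _ hx)
    have hg' : g⁻¹ • (θ₁.1 : ↥K → ℂ) = (θ₂.1 : ↥K → ℂ) := by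
      show Irr.conjFun K (θ₁.1 : ↥K → ℂ) (g⁻¹)⁻¹ = _
      rw [inv_inv, hg]
    have hfix2 : ∀ x ∈ (P : Subgroup G), x • (g⁻¹ • (θ₁.1 : ↥K → ℂ)) = g⁻¹ • (θ₁.1 : ↥K → ℂ) := by
      intro x hx
      rw [hg']
      show Irr.conjFun K (θ₂.1 : ↥K → ℂ) x⁻¹ = (θ₂.1 : ↥K → ℂ)
      exact θ₂.2 x⁻¹ (Subgroup.inv_mem _ hx)
    obtain ⟨n, hn, hna⟩ := exists_normalizer_smul_eq P (θ₁.1 : ↥K → ℂ) g⁻¹ hfix1 hfix2
    rw [← hN] at hn
    rw [hg'] at hna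
    -- `θ₂ = conjFun θ₁ n⁻¹`
    have hna' : (θ₂.1 : ↥K → ℂ) = Irr.conjFun K (θ₁.1 : ↥K → ℂ) (((⟨n, hn⟩ : ↥N)⁻¹ : ↥N) : G) := by
      rw [← hna]
      rfl
    obtain ⟨θm, hθm, hfm⟩ := hconjA θ₁ (⟨n, hn⟩ : ↥N)⁻¹
    have hθ2m : θ₂ = θm := Subtype.ext (Subtype.ext (hna'.trans hθm.symm))
    have hover : classInner (fun c : ↥(K.subgroupOf N) => (ξ₁ : ↥N → ℂ) c) ((f θ₂).1 : ↥(K.subgroupOf N) → ℂ) ≠ 0 := by
      rw [hθ2m, hfm, classInner_restrict_conjFun (K.subgroupOf N) _ (hcfN ξ₁)]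
      exact hξ₁φ
    exact RealOdd.real_over_unique (K.subgroupOf N) hCodd (f θ₂).1 ((hE2 θ₂).mp hθ₂r) ξ₁ ξ₂ hξ₁ hξ₂ hover hξ₂φ
  -- L4: injective
  have L4 : ∀ (χ₁ χ₂ : IrrCharacter G) (ξ : IrrCharacter ↥N),
      (∀ g : G, ((χ₁ : G → ℂ) g).im = 0) → (∀ g : G, ((χ₂ : G → ℂ) g).im = 0) →
      Rel χ₁ ξ → Rel χ₂ ξ → χ₁ = χ₂ := by
    rintro χ₁ χ₂ ξ hχ₁ hχ₂ ⟨θ₁, hθ₁r, hθ₁χ, hξφ₁⟩ ⟨θ₂, hθ₂r, hθ₂χ, hξφ₂⟩
    obtain ⟨m, hm⟩ := exists_conj_of_constituents (K.subgroupOf N) ξ (f θ₁).1 (f θ₂).1 hξφ₁ hξφ₂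
    obtain ⟨θm, hθm, hfm⟩ := hconjA θ₁ m
    have h1 : f θm = f θ₂ := Subtype.ext (Subtype.ext (hfm.trans hm.symm))
    have h2 : θm = θ₂ := hbij.1 h1
    have hover : classInner (fun k : ↥K => (χ₁ : G → ℂ) k) (θ₂.1 : ↥K → ℂ) ≠ 0 := by
      rw [← h2, hθm, classInner_restrict_conjFun K _ (hcfG χ₁)]
      exact hθ₁χ
    exact RealOdd.real_over_unique K hKodd θ₂.1 hθ₂r χ₁ χ₂ hχ₁ hχ₂ hover hθ₂χ
  -- L5: surjective
  have L5 : ∀ ξ : IrrCharacter ↥N, (∀ n : ↥N, ((ξ : ↥N → ℂ) n).im = 0) →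
      ¬ p ∣ charDegree (ξ : ↥N → ℂ) →
      ∃ χ : IrrCharacter G, (∀ g : G, ((χ : G → ℂ) g).im = 0) ∧ Rel χ ξ := by
    intro ξ hξ hξp
    obtain ⟨φ₀, hφ₀r, hφ₀⟩ := RealOdd.exists_real_under (K.subgroupOf N) hCodd ξ hξ
    have hP' : IsPGroup p ↥((P : Subgroup G).subgroupOf N) := P.2.comap_subtype
    obtain ⟨m, hm⟩ := exists_pinv_conj p (K.subgroupOf N) ((P : Subgroup G).subgroupOf N) hP' ξ hξp φ₀ hφ₀
    obtain ⟨φ, hφdef⟩ : ∃ φ : {φ : IrrCharacter ↥(K.subgroupOf N) // ∀ x : ↥N, (x : G) ∈ (P : Subgroup G) →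
        Irr.conjFun (K.subgroupOf N) (φ : ↥(K.subgroupOf N) → ℂ) x = φ},
        (φ.1 : ↥(K.subgroupOf N) → ℂ) = Irr.conjFun (K.subgroupOf N) (φ₀ : ↥(K.subgroupOf N) → ℂ) m :=
      ⟨⟨⟨Irr.conjFun (K.subgroupOf N) (φ₀ : ↥(K.subgroupOf N) → ℂ) m, isIrrCharacter_conjFun (K.subgroupOf N) φ₀.2 m⟩,
        fun x hx => hm x (Subgroup.mem_subgroupOf.mpr hx)⟩, rfl⟩
    have hφr : ∀ c : ↥(K.subgroupOf N), ((φ.1 : ↥(K.subgroupOf N) → ℂ) c).im = 0 := by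
      rw [hφdef]
      exact conjFun_real (K.subgroupOf N) _ hφ₀r m
    have hφξ : classInner (fun c : ↥(K.subgroupOf N) => (ξ : ↥N → ℂ) c) (φ.1 : ↥(K.subgroupOf N) → ℂ) ≠ 0 := by
      rw [hφdef, classInner_restrict_conjFun (K.subgroupOf N) _ (hcfN ξ)]
      exact hφ₀
    obtain ⟨θ, hθ⟩ := hbij.2 φ
    have hθr : ∀ k : ↥K, ((θ.1 : ↥K → ℂ) k).im = 0 := by
      rw [hE2 θ, hθ]
      exact hφr
    obtain ⟨χ, hχr, hχ⟩ := Cfsg.Agent.Lib.Helper8.IN.exists_real_over K hKodd θ.1 hθr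
    refine ⟨χ, hχr, θ, hθr, hχ, ?_⟩
    rw [hθ]
    exact hφξ
  -- the map
  choose F₀ hF₀r hF₀rel using fun χ : {χ : IrrCharacter G // ∀ g : G, ((χ : G → ℂ) g).im = 0} =>
    L1 χ.1 χ.2
  refine ⟨fun χ => ⟨F₀ χ, hF₀r χ, hpdeg χ.1 (F₀ χ) χ.2 (hF₀r χ) (hF₀rel χ)⟩, ⟨?_, ?_⟩, ?_⟩
  · intro χ₁ χ₂ h
    have h1 : F₀ χ₁ = F₀ χ₂ := congrArg (fun z => z.1) h
    have h2 := hF₀rel χ₂
    rw [← h1] at h2
    exact Subtype.ext (L4 χ₁.1 χ₂.1 (F₀ χ₁) χ₁.2 χ₂.2 (hF₀rel χ₁) h2)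
  · rintro ⟨ξ, hξr, hξp⟩
    obtain ⟨χ, hχr, hrel⟩ := L5 ξ hξr hξp
    refine ⟨⟨χ, hχr⟩, ?_⟩
    apply Subtype.ext
    exact L3 χ (F₀ ⟨χ, hχr⟩) ξ (hF₀r ⟨χ, hχr⟩) hξr (hF₀rel ⟨χ, hχr⟩) hrel
  · intro χ
    exact L2 χ.1 (F₀ χ) χ.2 (hF₀r χ) (hF₀rel χ)

/-- **Isaacs–Navarro, Theorem A**, for a normal subgroup `K` of odd index all of whose Sylow
`p`-subgroups are normal. -/
theorem exists_bijection (p : ℕ) [hp : Fact p.Prime] (P : Sylow p G) (K : Subgroup G)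
    [hK : K.Normal] (hKodd : Odd K.index)
    (hKsyl : ∀ Q₀ : Sylow p ↥K, (Q₀ : Subgroup ↥K).Normal) (hreal : RealHyp p G) :
    ∃ F : {χ : IrrCharacter G // ∀ g : G, ((χ : G → ℂ) g).im = 0} →
        {ξ : IrrCharacter ↥(Subgroup.normalizer ((P : Subgroup G) : Set G)) //
          (∀ n, ((ξ : ↥(Subgroup.normalizer ((P : Subgroup G) : Set G)) → ℂ) n).im = 0) ∧
          ¬ p ∣ charDegree (ξ : ↥(Subgroup.normalizer ((P : Subgroup G) : Set G)) → ℂ)},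
      Function.Bijective F ∧ ∀ χ,
        ((charDegree ((F χ).1 : ↥(Subgroup.normalizer ((P : Subgroup G) : Set G)) → ℂ) : ZMod p)
            = (charDegree (χ.1 : G → ℂ) : ZMod p) ∨
          (charDegree ((F χ).1 : ↥(Subgroup.normalizer ((P : Subgroup G) : Set G)) → ℂ) : ZMod p)
            = -(charDegree (χ.1 : G → ℂ) : ZMod p)) := by
  obtain ⟨f, hbij, hE1, hE2, hE3⟩ := exists_corr_abs p P K hKsyl
  exact exists_bijection_aux p P K hKodd hreal _ rfl f hbij hE1 hE2 hE3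

end main

end Cfsg.Agent.Lib.Helper8.IN
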