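import Mathlib
import Cfsg.Agent.Lib.Helper8.InvSubG

/-!
# Counting subspaces: the symmetric form, subspaces above a given one, and flags (helper8)
-/

set_option autoImplicit false
set_option linter.unusedSectionVars false

namespace Cfsg.Agent.Lib.Helper8.InvSub

open Module

section Reindex

theorem prod_fin_sub (g : ℕ → ℕ) (a k : ℕ) (hk : k ≤ a) :
    ∏ j : Fin k, g (a - (j : ℕ)) = ∏ t ∈ Finset.Ioc (a - k) a, g t := by
  rw [Fin.prod_univ_eq_prod_range (fun j => g (a - j)) k]
  apply Finset.prod_nbij' (fun j => a - j) (fun t => a - t)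
  · intro j hj
    rw [Finset.mem_range] at hj
    rw [Finset.mem_Ioc]
    omega
  · intro t ht
    rw [Finset.mem_Ioc] at ht
    rw [Finset.mem_range]
    omega
  · intro j hj
    rw [Finset.mem_range] at hj
    omega
  · intro t ht
    rw [Finset.mem_Ioc] at ht
    omega
  · intro j _
    rfl

theorem prod_Ioc_pos (q : ℕ) (hq : 2 ≤ q) (a b : ℕ) :
    0 < ∏ t ∈ Finset.Ioc a b, (q ^ t - 1) := by
  apply Finset.prod_pos
  intro t ht
  rw [Finset.mem_Ioc] at ht
  have h1 : 2 ^ 1 ≤ q ^ t := by
    calc 2 ^ 1 ≤ q ^ 1 := by simpa using hq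
      _ ≤ q ^ t := Nat.pow_le_pow_right (by omega) (by omega)
  omega

end Reindex

section Count

variable {K V : Type*} [Field K] [Fintype K] [AddCommGroup V] [Module K V] [Finite V]

/-- the count of `k`-subspaces, with products over intervals -/
theorem card_subspaces_mul_Ioc (k : ℕ) (hk : k ≤ finrank K V) :
    Nat.card {W : Submodule K V // finrank K W = k} *
        ∏ t ∈ Finset.Ioc 0 k, (Fintype.card K ^ t - 1) =
      ∏ t ∈ Finset.Ioc (finrank K V - k) (finrank K V), (Fintype.card K ^ t - 1) := by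
  have h := card_subspaces_mul' (K := K) (V := V) k hk
  rw [prod_fin_sub (fun t => Fintype.card K ^ t - 1) k k le_rfl,
    prod_fin_sub (fun t => Fintype.card K ^ t - 1) (finrank K V) k hk, Nat.sub_self] at h
  exact h

/-- the symmetric form of the count of `k`-subspaces -/
theorem card_subspaces_mul_symm (k : ℕ) (hk : k ≤ finrank K V) :
    Nat.card {W : Submodule K V // finrank K W = k} *
        ∏ t ∈ Finset.Ioc 0 (finrank K V - k), (Fintype.card K ^ t - 1) =
      ∏ t ∈ Finset.Ioc k (finrank K V), (Fintype.card K ^ t - 1) := by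
  have hq2 : 2 ≤ Fintype.card K := Fintype.one_lt_card
  have h := card_subspaces_mul_Ioc (K := K) (V := V) k hk
  set f : ℕ → ℕ := fun t => Fintype.card K ^ t - 1 with hf
  set n := finrank K V with hn
  have h1 := Finset.prod_Ioc_consecutive f (Nat.zero_le k) hk
  have h2 := Finset.prod_Ioc_consecutive f (Nat.zero_le (n - k)) (Nat.sub_le n k)
  have hpos : 0 < ∏ t ∈ Finset.Ioc 0 k, f t := prod_Ioc_pos _ hq2 0 k
  apply Nat.eq_of_mul_eq_mul_left hpos
  calc (∏ t ∈ Finset.Ioc 0 k, f t) *
        (Nat.card {W : Submodule K V // finrank K W = k} * ∏ t ∈ Finset.Ioc 0 (n - k), f t)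
      = (Nat.card {W : Submodule K V // finrank K W = k} * ∏ t ∈ Finset.Ioc 0 k, f t) *
          ∏ t ∈ Finset.Ioc 0 (n - k), f t := by ring
    _ = (∏ t ∈ Finset.Ioc (n - k) n, f t) * ∏ t ∈ Finset.Ioc 0 (n - k), f t := by rw [h]
    _ = ∏ t ∈ Finset.Ioc 0 n, f t := by rw [mul_comm, h2]
    _ = (∏ t ∈ Finset.Ioc 0 k, f t) * ∏ t ∈ Finset.Ioc k n, f t := h1.symm

end Count

section Above

variable {K V : Type*} [Field K] [AddCommGroup V] [Module K V] [FiniteDimensional K V]

theorem finrank_map_mkQ (U W : Submodule K V) (hUW : U ≤ W) :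
    finrank K W = finrank K ↥(W.map U.mkQ) + finrank K U := by
  have h := LinearMap.finrank_range_add_finrank_ker (U.mkQ ∘ₗ W.subtype)
  rw [LinearMap.range_comp, Submodule.range_subtype, LinearMap.ker_comp, Submodule.ker_mkQ,
    (Submodule.comapSubtypeEquivOfLe hUW).finrank_eq] at h
  exact h.symm

/-- subspaces above `U` correspond to subspaces of the quotient -/
noncomputable def aboveEquiv (U : Submodule K V) (k : ℕ) :
    {W : Submodule K V // U ≤ W ∧ finrank K W = finrank K U + k} ≃
      {W' : Submodule K (V ⧸ U) // finrank K W' = k} where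
  toFun W := ⟨W.1.map U.mkQ, by
    have := finrank_map_mkQ U W.1 W.2.1
    rw [W.2.2] at this
    omega⟩
  invFun W' := ⟨W'.1.comap U.mkQ, Submodule.le_comap_mkQ U W'.1, by
    have := finrank_map_mkQ U (W'.1.comap U.mkQ) (Submodule.le_comap_mkQ U W'.1)
    rw [Submodule.map_comap_eq_of_surjective (Submodule.mkQ_surjective U), W'.2] at this
    omega⟩
  left_inv W := by
    apply Subtype.ext
    show (W.1.map U.mkQ).comap U.mkQ = W.1
    rw [Submodule.comap_map_mkQ, sup_eq_right.2 W.2.1]
  right_inv W' := by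
    apply Subtype.ext
    show (W'.1.comap U.mkQ).map U.mkQ = W'.1
    exact Submodule.map_comap_eq_of_surjective (Submodule.mkQ_surjective U) _

end Above

section Flags

variable {K V : Type*} [Field K] [Fintype K] [AddCommGroup V] [Module K V] [Finite V]

/-- flags `U ≤ W` with prescribed dimensions, fibred over `U` -/
def flagEquiv (m d : ℕ) :
    {P : Submodule K V × Submodule K V // P.1 ≤ P.2 ∧ finrank K P.1 = m ∧ finrank K P.2 = d} ≃
      Σ U : {U : Submodule K V // finrank K U = m},
        {W : Submodule K V // U.1 ≤ W ∧ finrank K W = d} where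
  toFun P := ⟨⟨P.1.1, P.2.2.1⟩, ⟨P.1.2, P.2.1, P.2.2.2⟩⟩
  invFun Q := ⟨(Q.1.1, Q.2.1), Q.2.2.1, Q.1.2, Q.2.2.2⟩
  left_inv _ := rfl
  right_inv _ := rfl

/-- the number of flags `U ≤ W`, `dim U = m`, `dim W = n - m` -/
theorem card_flags_mul (m : ℕ) (hm : 2 * m ≤ finrank K V) :
    Nat.card {P : Submodule K V × Submodule K V // P.1 ≤ P.2 ∧ finrank K P.1 = m ∧
        finrank K P.2 = finrank K V - m} *
        ∏ t ∈ Finset.Ioc 0 m, (Fintype.card K ^ t - 1) =
      Nat.card {U : Submodule K V // finrank K U = m} *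
        ∏ t ∈ Finset.Ioc (finrank K V - 2 * m) (finrank K V - m), (Fintype.card K ^ t - 1) := by
  classical
  haveI : FiniteDimensional K V := Module.Finite.of_finite
  haveI : Fintype {U : Submodule K V // finrank K U = m} := Fintype.ofFinite _
  set n := finrank K V with hn
  rw [Nat.card_congr (flagEquiv (K := K) (V := V) m (n - m)), Nat.card_sigma, Finset.sum_mul]
  have h2 : ∀ U : {U : Submodule K V // finrank K U = m},
      Nat.card {W : Submodule K V // U.1 ≤ W ∧ finrank K W = n - m} *
        ∏ t ∈ Finset.Ioc 0 m, (Fintype.card K ^ t - 1) =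
      ∏ t ∈ Finset.Ioc (n - 2 * m) (n - m), (Fintype.card K ^ t - 1) := by
    intro U
    haveI : Finite (V ⧸ U.1) := Finite.of_surjective U.1.mkQ (Submodule.mkQ_surjective _)
    have hUq : finrank K (V ⧸ U.1) = n - m := by
      have := Submodule.finrank_quotient_add_finrank U.1
      rw [U.2] at this
      omega
    have e1 : {W : Submodule K V // U.1 ≤ W ∧ finrank K W = n - m} ≃
        {W : Submodule K V // U.1 ≤ W ∧ finrank K W = finrank K U.1 + (n - 2 * m)} :=
      Equiv.subtypeEquivRight (fun W => by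
        rw [U.2]
        have : n - m = m + (n - 2 * m) := by omega
        rw [this])
    rw [Nat.card_congr (e1.trans (aboveEquiv U.1 (n - 2 * m)))]
    have h3 := card_subspaces_mul_symm (K := K) (V := V ⧸ U.1) (n - 2 * m) (by rw [hUq]; omega)
    rw [hUq] at h3
    have h4 : n - m - (n - 2 * m) = m := by omega
    rw [h4] at h3
    exact h3
  rw [Finset.sum_congr rfl (fun U _ => h2 U), Finset.sum_const, Finset.card_univ, smul_eq_mul,
    Nat.card_eq_fintype_card]

/-- the characteristic does not divide the number of flags -/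
theorem not_char_dvd_card_flags (p : ℕ) [Fact p.Prime] [CharP K p] (m : ℕ)
    (hm : 2 * m ≤ finrank K V) :
    ¬ p ∣ Nat.card {P : Submodule K V × Submodule K V // P.1 ≤ P.2 ∧ finrank K P.1 = m ∧
        finrank K P.2 = finrank K V - m} := by
  intro hdvd
  have h := card_flags_mul (K := K) (V := V) m hm
  have hp : p.Prime := Fact.out
  have h1 : p ∣ Nat.card {U : Submodule K V // finrank K U = m} *
      ∏ t ∈ Finset.Ioc (finrank K V - 2 * m) (finrank K V - m), (Fintype.card K ^ t - 1) := by
    rw [← h]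
    exact dvd_mul_of_dvd_left hdvd _
  rcases (Nat.Prime.dvd_mul hp).1 h1 with h2 | h2
  · exact not_char_dvd_card_subspaces (K := K) (V := V) p m (by omega) h2
  · obtain ⟨t, ht, hpt⟩ := (Prime.dvd_finsetProd_iff hp.prime _).1 h2
    rw [Finset.mem_Ioc] at ht
    obtain ⟨f, _, hf⟩ := FiniteField.card K p
    have hpq : p ∣ Fintype.card K := by
      rw [hf]
      exact dvd_pow_self p f.ne_zero
    have h3 : p ∣ Fintype.card K ^ t := dvd_pow hpq (by omega)
    have h4 : 1 ≤ Fintype.card K ^ t := Nat.one_le_pow _ _ Fintype.card_pos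
    have h5 : p ∣ 1 := by
      have := (Nat.dvd_sub h3 hpt)
      rwa [Nat.sub_sub_self h4] at this
    exact hp.one_lt.ne' (Nat.dvd_one.1 h5)

/-- a prime dividing the number of flags divides some `q^t - 1` with `n - 2m < t ≤ n` -/
theorem exists_dvd_of_dvd_card_flags {r : ℕ} (hr : r.Prime) (m : ℕ)
    (hm : 2 * m ≤ finrank K V)
    (hdvd : r ∣ Nat.card {P : Submodule K V × Submodule K V // P.1 ≤ P.2 ∧ finrank K P.1 = m ∧
        finrank K P.2 = finrank K V - m}) :
    ∃ t : ℕ, finrank K V - 2 * m < t ∧ t ≤ finrank K V ∧ r ∣ Fintype.card K ^ t - 1 := by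
  have h := card_flags_mul (K := K) (V := V) m hm
  have h1 : r ∣ Nat.card {U : Submodule K V // finrank K U = m} *
      ∏ t ∈ Finset.Ioc (finrank K V - 2 * m) (finrank K V - m), (Fintype.card K ^ t - 1) := by
    rw [← h]
    exact dvd_mul_of_dvd_left hdvd _
  rcases (Nat.Prime.dvd_mul hr).1 h1 with h2 | h2
  · obtain ⟨j, hjm, hj⟩ := exists_dvd_of_dvd_card_subspaces (K := K) (V := V) hr m (by omega) h2
    exact ⟨finrank K V - j, by omega, by omega, hj⟩
  · obtain ⟨t, ht, hpt⟩ := (Prime.dvd_finsetProd_iff hr.prime _).1 h2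
    rw [Finset.mem_Ioc] at ht
    exact ⟨t, ht.1, by omega, hpt⟩

end Flags

end Cfsg.Agent.Lib.Helper8.InvSub
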