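import Mathlib
import Cfsg.Agent.Lib.Helper8.InvSubI
import Cfsg.Agent.Lib.Helper8.InvSubJ
import Cfsg.Agent.Lib.Helper8.InvSubK

/-!
# Elements of prime order of `SL_n(q)` and invariant flags `U ≤ W` (helper8)
-/

set_option autoImplicit false
set_option linter.unusedSectionVars false

open scoped MatrixGroups

namespace Cfsg.Agent.Lib.Helper8.InvSub

open Matrix Module Polynomial Cfsg.Agent.Lib.Helper8.SingerN

section Arith

theorem flag_arith (i n m u w a b t : ℕ) (hi : 2 ≤ i) (hm : m = u + i * a)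
    (hnm : n - m = w + i * b) (h2m : 2 * m < n) (huw : u ≤ w) (hw : w ≤ n % i)
    (ht1 : n - 2 * m < t) (ht2 : t ≤ n) (hit : i ∣ t) : i ≤ m ∧ 2 * (m % i) ≤ n % i := by
  have hipos : 0 < i := by omega
  have hc₀ : n % i < i := Nat.mod_lt _ hipos
  have hn : n = (u + w) + i * (a + b) := by
    rw [Nat.mul_add]
    omega
  have huw_mod : (u + w) % i = n % i := by
    conv_rhs => rw [hn, Nat.add_mul_mod_self_left]
  have hlt : u + w < i := by
    by_contra hge
    push Not at hge
    have h1 : (u + w) % i = u + w - i := by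
      rw [Nat.mod_eq_sub_mod hge]
      exact Nat.mod_eq_of_lt (by omega)
    omega
  have hsum : u + w = n % i := by
    rw [← huw_mod]
    exact (Nat.mod_eq_of_lt hlt).symm
  have hmu : m % i = u := by
    rw [hm, Nat.add_mul_mod_self_left]
    exact Nat.mod_eq_of_lt (by omega)
  refine ⟨?_, by omega⟩
  rcases Nat.eq_zero_or_pos a with h0 | hpos
  · exfalso
    rw [h0, mul_zero, add_zero] at hm
    obtain ⟨t', rfl⟩ := hit
    have h1 := Nat.div_add_mod n i
    have h2 : i * (n / i) < i * t' := by omega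
    have h3 : n / i < t' := Nat.lt_of_mul_lt_mul_left h2
    have h4 : i * (n / i + 1) ≤ i * t' := Nat.mul_le_mul_left i h3
    rw [Nat.mul_add, mul_one] at h4
    omega
  · have : i ≤ i * a := Nat.le_mul_of_pos_right i hpos
    omega

end Arith

section Main

variable {F : Type*} [Field F] [Fintype F]

/-- the existence direction for flags -/
theorem exists_flag_of_cond (p : ℕ) [Fact p.Prime] [CharP F p] {q : ℕ}
    (hq : Fintype.card F = q) (n m : ℕ) (hn : 2 ≤ n) (hmn : 2 * m < n) (r : ℕ) (hr : r.Prime)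
    (hrp : r ≠ p)
    (hcond : (orderOf (q : ZMod r) = 1 ∧ (r ∣ m ∨ (padicValNat r n ≤ padicValNat r (q - 1) ∧
        (r = 2 → Even n → q % 4 = 1)))) ∨
      (2 ≤ orderOf (q : ZMod r) ∧ orderOf (q : ZMod r) ≤ m ∧
        2 * (m % orderOf (q : ZMod r)) ≤ n % orderOf (q : ZMod r)))
    (x : Matrix.SpecialLinearGroup (Fin n) F) (c : F)
    (hx : ((x ^ r : Matrix.SpecialLinearGroup (Fin n) F) : Matrix (Fin n) (Fin n) F) =
      c • (1 : Matrix (Fin n) (Fin n) F)) :
    ∃ U W : Submodule F (Fin n → F), U ≤ W ∧ Module.finrank F ↥U = m ∧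
      Module.finrank F ↥W = n - m ∧
      U.map (Matrix.toLin' (x : Matrix (Fin n) (Fin n) F)) ≤ U ∧
      W.map (Matrix.toLin' (x : Matrix (Fin n) (Fin n) F)) ≤ W := by
  classical
  have hq2 : 2 ≤ q := by rw [← hq]; exact Fintype.one_lt_card
  set M := (x : Matrix (Fin n) (Fin n) F) with hM
  have hMr : M ^ r = c • (1 : Matrix (Fin n) (Fin n) F) := by
    rw [← hx, Matrix.SpecialLinearGroup.coe_pow]
  have hXr := toLin'_pow_eq_smul M c hMr
  have hfr : finrank F (Fin n → F) = n := Module.finrank_fin_fun F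
  have hr0 : (r : F) ≠ 0 := natCast_ne_zero_of' p hr hrp
  suffices h : ∃ U W : Submodule F (Fin n → F), U ≤ W ∧ finrank F U = m ∧
      finrank F W = finrank F (Fin n → F) - m ∧
      U ∈ Module.End.invtSubmodule (Matrix.toLin' M) ∧
      W ∈ Module.End.invtSubmodule (Matrix.toLin' M) by
    obtain ⟨U, W, hUW, hUm, hWm, hU, hW⟩ := h
    rw [hfr] at hWm
    exact ⟨U, W, hUW, hUm, hWm, (Module.End.mem_invtSubmodule_iff_map_le _).1 hU,
      (Module.End.mem_invtSubmodule_iff_map_le _).1 hW⟩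
  by_cases hroot : ∃ d : F, d ^ r = c
  · obtain ⟨d, hd⟩ := hroot
    have hc0 : c ≠ 0 := by
      intro h0
      have h1 := congrArg Matrix.det hMr
      haveI : Nonempty (Fin n) := ⟨⟨0, by omega⟩⟩
      rw [Matrix.det_pow, x.2, one_pow, h0, zero_smul, Matrix.det_zero] at h1
      exact one_ne_zero h1
    have hd0 : d ≠ 0 := by
      intro h0
      rw [h0, zero_pow hr.ne_zero] at hd
      exact hc0 hd.symm
    rw [← hd] at hXr
    apply exists_flag_of_pow_eq_pow p hq hr hrp _ d hd0 hXr m (by rw [hfr]; omega)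
    rw [hfr]
    rcases hcond with h | h
    · rw [h.1, Nat.mod_one, Nat.mod_one]
    · exact h.2.2
  · push Not at hroot
    have hdvd : r ∣ q - 1 := by
      by_contra hnq
      obtain ⟨d, hd⟩ := exists_root hq hr hnq c
      exact hroot d hd
    have hi1 : orderOf (q : ZMod r) = 1 := orderOf_eq_one_of_dvd (by omega) hdvd
    rcases hcond with h | h
    · rcases h.2 with h1 | h1
      · exact exists_flag_of_not_pow hr hr0 _ c hroot hXr m (by rw [hfr]; omega) h1
      · exfalso
        obtain ⟨k, hk, hdet⟩ := det_of_not_pow hr M c hroot hMr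
        rw [x.2] at hdet
        obtain ⟨d, hd⟩ := exists_root_of_det hq hr hdvd c k n hk (by omega) hdet.symm h1.1 h1.2
        exact hroot d hd
    · rw [hi1] at h
      omega

/-- the necessity direction for flags -/
theorem cond_of_forall_flag (p : ℕ) [Fact p.Prime] [CharP F p] {q : ℕ}
    (hq : Fintype.card F = q) (n m : ℕ) (hn : 2 ≤ n) (hm : 1 ≤ m) (hmn : 2 * m < n) (r : ℕ)
    (hr : r.Prime)
    (hrΩ : r ∣ Nat.card {P : Submodule F (Fin n → F) × Submodule F (Fin n → F) //
        P.1 ≤ P.2 ∧ Module.finrank F ↥P.1 = m ∧ Module.finrank F ↥P.2 = n - m})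
    (H : ∀ x : Matrix.SpecialLinearGroup (Fin n) F,
      (∃ c : F, ((x ^ r : Matrix.SpecialLinearGroup (Fin n) F) : Matrix (Fin n) (Fin n) F) =
        c • (1 : Matrix (Fin n) (Fin n) F)) →
      (∀ c : F, (x : Matrix (Fin n) (Fin n) F) ≠ c • (1 : Matrix (Fin n) (Fin n) F)) →
      ∃ U W : Submodule F (Fin n → F), U ≤ W ∧ Module.finrank F ↥U = m ∧
        Module.finrank F ↥W = n - m ∧
        U.map (Matrix.toLin' (x : Matrix (Fin n) (Fin n) F)) ≤ U ∧
        W.map (Matrix.toLin' (x : Matrix (Fin n) (Fin n) F)) ≤ W) :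
    r ≠ p ∧
      ((orderOf (q : ZMod r) = 1 ∧ (r ∣ m ∨ (padicValNat r n ≤ padicValNat r (q - 1) ∧
        (r = 2 → Even n → q % 4 = 1)))) ∨
      (2 ≤ orderOf (q : ZMod r) ∧ orderOf (q : ZMod r) ≤ m ∧
        2 * (m % orderOf (q : ZMod r)) ≤ n % orderOf (q : ZMod r))) := by
  classical
  haveI : Fact r.Prime := ⟨hr⟩
  have hq2 : 2 ≤ q := by rw [← hq]; exact Fintype.one_lt_card
  have hfr : finrank F (Fin n → F) = n := Module.finrank_fin_fun F
  have hne : Nonempty (Fin n) := ⟨⟨0, by omega⟩⟩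
  have hrp : r ≠ p := by
    intro h
    subst h
    have := not_char_dvd_card_flags (K := F) (V := Fin n → F) r m (by rw [hfr]; omega)
    rw [hfr] at this
    exact this hrΩ
  refine ⟨hrp, ?_⟩
  have hr0 : (r : F) ≠ 0 := natCast_ne_zero_of' p hr hrp
  have hex := exists_dvd_of_dvd_card_flags (K := F) (V := Fin n → F) hr m (by rw [hfr]; omega)
  rw [hfr] at hex
  obtain ⟨t, ht1, ht2, ht⟩ := hex hrΩ
  rw [hq] at ht
  have hit : orderOf (q : ZMod r) ∣ t := orderOf_dvd_of_dvd_pow_sub_one (by omega) ht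
  set i := orderOf (q : ZMod r) with hi
  have hipos : 0 < i := by
    rcases Nat.eq_zero_or_pos i with h | h
    · rw [h, zero_dvd_iff] at hit
      omega
    · exact h
  by_cases hdvd : r ∣ q - 1
  · left
    refine ⟨orderOf_eq_one_of_dvd (by omega) hdvd, ?_⟩
    by_contra hcon
    push Not at hcon
    obtain ⟨hrm, hfail⟩ := hcon
    obtain ⟨c, k, hk, hc, hdet⟩ := exists_bad_scalar (F := F) hq hr hdvd n (by omega)
      (by
        intro h
        obtain ⟨h2, hev, h4⟩ := hfail h.1
        exact h4 (h.2 h2 hev))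
    obtain ⟨x, hxr, hxdet⟩ := exists_kummer r hr.one_le c k n hk
    rw [hdet] at hxdet
    obtain ⟨Xs, hX⟩ : ∃ Xs : Matrix.SpecialLinearGroup (Fin n) F,
        (Xs : Matrix (Fin n) (Fin n) F) = x := ⟨⟨x, hxdet⟩, rfl⟩
    have h1 : ∃ c : F, ((Xs ^ r : Matrix.SpecialLinearGroup (Fin n) F) :
        Matrix (Fin n) (Fin n) F) = c • (1 : Matrix (Fin n) (Fin n) F) :=
      ⟨c, by rw [Matrix.SpecialLinearGroup.coe_pow, hX, hxr]⟩
    have h2 : ∀ z : F, (Xs : Matrix (Fin n) (Fin n) F) ≠ z • (1 : Matrix (Fin n) (Fin n) F) := by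
      intro z hz
      rw [hX] at hz
      rw [hz, _root_.smul_pow, one_pow] at hxr
      have := congrFun (congrFun hxr ⟨0, by omega⟩) ⟨0, by omega⟩
      rw [Matrix.smul_apply, Matrix.smul_apply, Matrix.one_apply_eq, smul_eq_mul, smul_eq_mul,
        mul_one, mul_one] at this
      exact hc z this
    obtain ⟨U, W, _, hUm, _, hU, _⟩ := H Xs h1 h2
    rw [hX] at hU
    have hU' : U ∈ Module.End.invtSubmodule (Matrix.toLin' x) :=
      (Module.End.mem_invtSubmodule_iff_map_le _).2 hU
    have := dvd_finrank_of_not_pow hr hr0 _ c hc (toLin'_pow_eq_smul x c hxr) U hU'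
    rw [hUm] at this
    exact hrm this
  · right
    have hi1 : i ≠ 1 := by
      intro h1
      apply hdvd
      have h2 : (q : ZMod r) ^ i = 1 := pow_orderOf_eq_one _
      rw [h1, pow_one] at h2
      have h3 : q ≡ 1 [MOD r] := by
        apply (ZMod.natCast_eq_natCast_iff _ _ _).1
        rw [h2, Nat.cast_one]
      exact (Nat.modEq_iff_dvd' (by omega)).1 h3.symm
    have hi2 : 2 ≤ i := by omega
    refine ⟨hi2, ?_⟩
    -- the bad element
    have hin : i ≤ n := by
      have := Nat.le_of_dvd (by omega) hit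
      omega
    set l := n / i * i with hl
    have hl1 : 1 ≤ l := by
      have : 1 ≤ n / i := Nat.div_pos hin hipos
      calc 1 ≤ i := hipos
        _ = 1 * i := (one_mul i).symm
        _ ≤ n / i * i := Nat.mul_le_mul_right i this
    have hln : l ≤ n := Nat.div_mul_le_self n i
    have hnl : n - l = n % i := by
      have := Nat.div_add_mod' n i
      omega
    have hrl : r ∣ Fintype.card F ^ l - 1 := by
      rw [hq]
      have h1 : (q : ZMod r) ^ l = 1 := by
        rw [hl, mul_comm, pow_mul, pow_orderOf_eq_one, one_pow]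
      have h2 : q ^ l ≡ 1 [MOD r] := by
        apply (ZMod.natCast_eq_natCast_iff _ _ _).1
        rw [Nat.cast_pow, h1, Nat.cast_one]
      exact (Nat.modEq_iff_dvd' (Nat.one_le_pow _ _ (by omega))).1 h2.symm
    obtain ⟨B, hBr, hB1⟩ := exists_free_block (F := F) l hl1 r hr hrl
    obtain ⟨x, hxr, hxdet, hxrank⟩ := exists_embed hln B r hBr hB1
    have hBdet : B.det = 1 := by
      apply eq_one_of_pow hq hr hdvd
      rw [← Matrix.det_pow, hBr, Matrix.det_one]
    rw [hBdet] at hxdet
    obtain ⟨Xs, hX⟩ : ∃ Xs : Matrix.SpecialLinearGroup (Fin n) F,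
        (Xs : Matrix (Fin n) (Fin n) F) = x := ⟨⟨x, hxdet⟩, rfl⟩
    have h1 : ∃ c : F, ((Xs ^ r : Matrix.SpecialLinearGroup (Fin n) F) :
        Matrix (Fin n) (Fin n) F) = c • (1 : Matrix (Fin n) (Fin n) F) :=
      ⟨1, by rw [Matrix.SpecialLinearGroup.coe_pow, hX, hxr, one_smul]⟩
    have h2 : ∀ z : F, (Xs : Matrix (Fin n) (Fin n) F) ≠ z • (1 : Matrix (Fin n) (Fin n) F) := by
      intro z hz
      rw [hX] at hz
      have hz' := hxr
      rw [hz, _root_.smul_pow, one_pow] at hz'
      have := congrFun (congrFun hz' ⟨0, by omega⟩) ⟨0, by omega⟩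
      rw [Matrix.smul_apply, Matrix.one_apply_eq, smul_eq_mul, mul_one] at this
      have hz1 : z = 1 := eq_one_of_pow hq hr hdvd z this
      rw [hz, hz1, one_smul, sub_self, Matrix.rank_zero] at hxrank
      omega
    obtain ⟨U, W, hUW, hUm, hWm, hU, hW⟩ := H Xs h1 h2
    rw [hX] at hU hW
    have hU' : U ∈ Module.End.invtSubmodule (Matrix.toLin' x) :=
      (Module.End.mem_invtSubmodule_iff_map_le _).2 hU
    have hW' : W ∈ Module.End.invtSubmodule (Matrix.toLin' x) :=
      (Module.End.mem_invtSubmodule_iff_map_le _).2 hW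
    have hXr : (Matrix.toLin' x) ^ r = 1 := by
      rw [← Matrix.toLin'_pow, hxr, Matrix.toLin'_one]
      rfl
    obtain ⟨a, ha⟩ := finrank_invt_of_pow_eq_one (Matrix.toLin' x) r hr0 hXr i
      (allDeg_geomPoly p hq hr hrp) U hU'
    obtain ⟨b, hb⟩ := finrank_invt_of_pow_eq_one (Matrix.toLin' x) r hr0 hXr i
      (allDeg_geomPoly p hq hr hrp) W hW'
    -- the fixed space is small
    have hker : finrank F (LinearMap.ker (aeval (Matrix.toLin' x) (X - C (1 : F)))) ≤ n % i := by
      have e1 : aeval (Matrix.toLin' x) (X - C (1 : F)) = (x - 1).mulVecLin := by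
        rw [map_sub, aeval_X, aeval_C, map_one]
        apply LinearMap.ext
        intro v
        rw [LinearMap.sub_apply, Matrix.toLin'_apply, Module.End.one_apply, Matrix.mulVecLin_apply,
          Matrix.sub_mulVec, Matrix.one_mulVec]
      rw [e1]
      have h3 := LinearMap.finrank_range_add_finrank_ker (x - 1).mulVecLin
      rw [hfr] at h3
      have h4 : (x - 1).rank = finrank F (LinearMap.range (x - 1).mulVecLin) := rfl
      omega
    have hw' : finrank F ↥(W ⊓ LinearMap.ker (aeval (Matrix.toLin' x) (X - C (1 : F)))) ≤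
        n % i := le_trans (Submodule.finrank_mono inf_le_right) hker
    have huw : finrank F ↥(U ⊓ LinearMap.ker (aeval (Matrix.toLin' x) (X - C (1 : F)))) ≤
        finrank F ↥(W ⊓ LinearMap.ker (aeval (Matrix.toLin' x) (X - C (1 : F)))) :=
      Submodule.finrank_mono (inf_le_inf_right _ hUW)
    rw [hUm] at ha
    rw [hWm] at hb
    exact flag_arith i n m _ _ a b t hi2 ha hb hmn huw hw' ht1 ht2 hit

end Main

end Cfsg.Agent.Lib.Helper8.InvSub
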