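import Mathlib
import Cfsg.Agent.Lib.Helper8.InvSubG

/-!
# The number of complements of a subspace and the number of decompositions `V = U ⊕ W` (helper8)
-/

set_option autoImplicit false
set_option linter.unusedSectionVars false

namespace Cfsg.Agent.Lib.Helper8.InvSub

open Module

section Compl

variable {K V : Type*} [Field K] [AddCommGroup V] [Module K V]

/-- projections onto `U` correspond to linear maps from a fixed complement into `U` -/
noncomputable def projEquivHom (U W₀ : Submodule K V) (h : IsCompl U W₀) :
    {f : V →ₗ[K] U // ∀ x : U, f x = x} ≃ (W₀ →ₗ[K] U) where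
  toFun f := f.1 ∘ₗ W₀.subtype
  invFun g := ⟨LinearMap.ofIsCompl h LinearMap.id g, fun x => by
    rw [LinearMap.ofIsCompl_apply_left]
    rfl⟩
  left_inv f := by
    apply Subtype.ext
    apply LinearMap.ofIsCompl_eq
    · intro u
      exact (f.2 u).symm
    · intro w
      rfl
  right_inv g := by
    apply LinearMap.ext
    intro w
    show LinearMap.ofIsCompl h LinearMap.id g (w : V) = g w
    rw [LinearMap.ofIsCompl_apply_right]

/-- complements of `U` correspond to linear maps from a fixed complement into `U` -/
noncomputable def complEquivHom (U W₀ : Submodule K V) (h : IsCompl U W₀) :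
    {W : Submodule K V // IsCompl U W} ≃ (W₀ →ₗ[K] U) :=
  (Submodule.isComplEquivProj U).trans (projEquivHom U W₀ h)

/-- decompositions with `dim U = m`, fibred over `U` -/
def pairEquiv (m : ℕ) :
    {P : Submodule K V × Submodule K V // IsCompl P.1 P.2 ∧ finrank K P.1 = m} ≃
      Σ U : {U : Submodule K V // finrank K U = m}, {W : Submodule K V // IsCompl U.1 W} where
  toFun P := ⟨⟨P.1.1, P.2.2⟩, ⟨P.1.2, P.2.1⟩⟩
  invFun Q := ⟨(Q.1.1, Q.2.1), Q.2.2, Q.1.2⟩
  left_inv _ := rfl
  right_inv _ := rfl

end Compl

section Count

variable {K V : Type*} [Field K] [Fintype K] [AddCommGroup V] [Module K V] [Finite V]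

theorem card_compl (U : Submodule K V) :
    Nat.card {W : Submodule K V // IsCompl U W} =
      Fintype.card K ^ ((finrank K V - finrank K U) * finrank K U) := by
  classical
  haveI : FiniteDimensional K V := Module.Finite.of_finite
  obtain ⟨W₀, h⟩ := Submodule.exists_isCompl U
  rw [Nat.card_congr (complEquivHom U W₀ h)]
  haveI : Finite (W₀ →ₗ[K] U) :=
    Finite.of_injective (fun f : W₀ →ₗ[K] U => (f : W₀ → U)) DFunLike.coe_injective
  haveI : Fintype (W₀ →ₗ[K] U) := Fintype.ofFinite _
  rw [Nat.card_eq_fintype_card, Module.card_eq_pow_finrank (K := K) (V := W₀ →ₗ[K] U),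
    Module.finrank_linearMap]
  have := Submodule.finrank_add_eq_of_isCompl h
  congr 2
  omega

/-- the number of decompositions `V = U ⊕ W` with `dim U = m` -/
theorem card_pairs (m : ℕ) :
    Nat.card {P : Submodule K V × Submodule K V // IsCompl P.1 P.2 ∧ finrank K P.1 = m} =
      Nat.card {U : Submodule K V // finrank K U = m} *
        Fintype.card K ^ ((finrank K V - m) * m) := by
  classical
  haveI : Fintype {U : Submodule K V // finrank K U = m} := Fintype.ofFinite _
  rw [Nat.card_congr (pairEquiv (K := K) (V := V) m), Nat.card_sigma]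
  have h2 : ∀ U : {U : Submodule K V // finrank K U = m},
      Nat.card {W : Submodule K V // IsCompl U.1 W} =
        Fintype.card K ^ ((finrank K V - m) * m) := by
    intro U
    rw [card_compl, U.2]
  rw [Finset.sum_congr rfl (fun U _ => h2 U), Finset.sum_const, Finset.card_univ, smul_eq_mul,
    Nat.card_eq_fintype_card]

/-- a prime different from the characteristic dividing the number of decompositions divides the
number of `m`-subspaces -/
theorem dvd_card_subspaces_of_dvd_card_pairs (p : ℕ) [Fact p.Prime] [CharP K p] {r : ℕ}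
    (hr : r.Prime) (hrp : r ≠ p) (m : ℕ)
    (hdvd : r ∣ Nat.card {P : Submodule K V × Submodule K V //
      IsCompl P.1 P.2 ∧ finrank K P.1 = m}) :
    r ∣ Nat.card {U : Submodule K V // finrank K U = m} := by
  rw [card_pairs] at hdvd
  rcases (Nat.Prime.dvd_mul hr).1 hdvd with h | h
  · exact h
  · exfalso
    have h1 := hr.dvd_of_dvd_pow h
    obtain ⟨f, _, hf⟩ := FiniteField.card K p
    rw [hf] at h1
    have h2 := hr.dvd_of_dvd_pow h1
    have hp : p.Prime := Fact.out
    exact hrp ((Nat.prime_dvd_prime_iff_eq hr hp).1 h2)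

end Count

end Cfsg.Agent.Lib.Helper8.InvSub
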