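import Mathlib
import Cfsg.Agent.Lib.Helper8.InvSubI
import Cfsg.Agent.Lib.Helper8.InvSubM

/-!
# Elements of prime order `r ≠ p` of `SL_n(q)` and invariant decompositions `U ⊕ W` (helper8)
-/

set_option autoImplicit false
set_option linter.unusedSectionVars false
set_option linter.style.haveILetI false

open scoped MatrixGroups

namespace Cfsg.Agent.Lib.Helper8.InvSub

open Matrix Module Polynomial Cfsg.Agent.Lib.Helper8.SingerN

section Main

variable {F : Type*} [Field F] [Fintype F]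

/-- the existence direction, `r ≠ p` -/
theorem exists_pair_of_cond (p : ℕ) [Fact p.Prime] [CharP F p] {q : ℕ}
    (hq : Fintype.card F = q) (n m : ℕ) (hn : 2 ≤ n) (hmn : 2 * m ≤ n) (r : ℕ) (hr : r.Prime)
    (hrp : r ≠ p)
    (hcond : (orderOf (q : ZMod r) = 1 ∧ (r ∣ m ∨ (padicValNat r n ≤ padicValNat r (q - 1) ∧
        (r = 2 → Even n → q % 4 = 1)))) ∨
      (2 ≤ orderOf (q : ZMod r) ∧ orderOf (q : ZMod r) ≤ m ∧
        m % orderOf (q : ZMod r) ≤ n % orderOf (q : ZMod r)))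
    (x : Matrix.SpecialLinearGroup (Fin n) F) (c : F)
    (hx : ((x ^ r : Matrix.SpecialLinearGroup (Fin n) F) : Matrix (Fin n) (Fin n) F) =
      c • (1 : Matrix (Fin n) (Fin n) F)) :
    ∃ U W : Submodule F (Fin n → F), IsCompl U W ∧ Module.finrank F ↥U = m ∧
      U.map (Matrix.toLin' (x : Matrix (Fin n) (Fin n) F)) ≤ U ∧
      W.map (Matrix.toLin' (x : Matrix (Fin n) (Fin n) F)) ≤ W := by
  classical
  obtain ⟨U, hUm, hU⟩ := exists_invt_of_cond p hq n m hn hmn r hr hrp hcond x c hx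
  set M := (x : Matrix (Fin n) (Fin n) F) with hM
  have hMr : M ^ r = c • (1 : Matrix (Fin n) (Fin n) F) := by
    rw [← hx, Matrix.SpecialLinearGroup.coe_pow]
  have hXr := toLin'_pow_eq_smul M c hMr
  have hr0 : (r : F) ≠ 0 := natCast_ne_zero_of' p hr hrp
  have hc0 : c ≠ 0 := by
    intro h0
    have h1 := congrArg Matrix.det hMr
    haveI : Nonempty (Fin n) := ⟨⟨0, by omega⟩⟩
    rw [Matrix.det_pow, x.2, one_pow, h0, zero_smul, Matrix.det_zero] at h1
    exact one_ne_zero h1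
  have hss := isSemisimple_of_pow_eq_smul (Matrix.toLin' M) r hr0 c hc0 hXr
  have hU' : U ∈ Module.End.invtSubmodule (Matrix.toLin' M) :=
    (Module.End.mem_invtSubmodule_iff_map_le _).2 hU
  obtain ⟨W, hW, hUW⟩ := Module.End.isSemisimple_iff.1 hss U hU'
  exact ⟨U, W, hUW, hUm, hU, (Module.End.mem_invtSubmodule_iff_map_le _).1 hW⟩

/-- the necessity direction, `r ≠ p` -/
theorem cond_of_forall_pair (p : ℕ) [Fact p.Prime] [CharP F p] {q : ℕ}
    (hq : Fintype.card F = q) (n m : ℕ) (hn : 2 ≤ n) (hm : 1 ≤ m) (hmn : 2 * m ≤ n) (r : ℕ)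
    (hr : r.Prime) (hrp : r ≠ p)
    (hrΩ : r ∣ Nat.card {P : Submodule F (Fin n → F) × Submodule F (Fin n → F) //
      IsCompl P.1 P.2 ∧ Module.finrank F ↥P.1 = m})
    (H : ∀ x : Matrix.SpecialLinearGroup (Fin n) F,
      (∃ c : F, ((x ^ r : Matrix.SpecialLinearGroup (Fin n) F) : Matrix (Fin n) (Fin n) F) =
        c • (1 : Matrix (Fin n) (Fin n) F)) →
      (∀ c : F, (x : Matrix (Fin n) (Fin n) F) ≠ c • (1 : Matrix (Fin n) (Fin n) F)) →
      ∃ U W : Submodule F (Fin n → F), IsCompl U W ∧ Module.finrank F ↥U = m ∧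
        U.map (Matrix.toLin' (x : Matrix (Fin n) (Fin n) F)) ≤ U ∧
        W.map (Matrix.toLin' (x : Matrix (Fin n) (Fin n) F)) ≤ W) :
    (orderOf (q : ZMod r) = 1 ∧ (r ∣ m ∨ (padicValNat r n ≤ padicValNat r (q - 1) ∧
        (r = 2 → Even n → q % 4 = 1)))) ∨
      (2 ≤ orderOf (q : ZMod r) ∧ orderOf (q : ZMod r) ≤ m ∧
        m % orderOf (q : ZMod r) ≤ n % orderOf (q : ZMod r)) := by
  have h1 := dvd_card_subspaces_of_dvd_card_pairs (K := F) (V := Fin n → F) p hr hrp m hrΩ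
  refine (cond_of_forall_invt p hq n m hn hm hmn r hr h1 ?_).2
  intro x hx1 hx2
  obtain ⟨U, W, -, hUm, hU, -⟩ := H x hx1 hx2
  exact ⟨U, hUm, hU⟩

end Main

end Cfsg.Agent.Lib.Helper8.InvSub
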