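import Mathlib
import Cfsg.Agent.Lib.Helper8.JTypeB

/-!
# A unipotent matrix of order `p` with a prescribed multiset of Jordan block sizes (helper8)
-/

set_option autoImplicit false
set_option linter.unusedSectionVars false

namespace Cfsg.Agent.Lib.Helper8.NilSeq

open Cfsg Matrix Cfsg.Agent.Lib.Helper8.JType

variable {F : Type*} [Field F]

theorem exists_of_multiset {p : ℕ} [hp : Fact p.Prime] [CharP F p] (n : ℕ) (μ : Multiset ℕ)
    (hμ : ∀ b ∈ μ, 0 < b ∧ b ≤ p) (hsum : μ.sum = n) (hne : ∃ b ∈ μ, b ≠ 1) :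
    ∃ X : Matrix (Fin n) (Fin n) F, X.det = 1 ∧ X ^ p = 1 ∧
      (∀ z : F, X ≠ z • (1 : Matrix (Fin n) (Fin n) F)) ∧ (X - 1) ^ p = 0 ∧
      ∀ s, μ.count (s + 1) + 2 * ((X - 1) ^ (s + 1)).rank =
        ((X - 1) ^ s).rank + ((X - 1) ^ (s + 2)).rank := by
  classical
  have hpp : p.Prime := hp.out
  set L := μ.toList with hL
  have hLμ : (L : Multiset ℕ) = μ := Multiset.coe_toList μ
  set t := L.length with ht
  set d : Fin t → ℕ := L.get with hd
  have hmap : Multiset.map d Finset.univ.val = μ := by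
    rw [Fin.univ_val_map, hd, List.ofFn_get, hLμ]
  have hdk : ∀ k, 0 < d k ∧ d k ≤ p := by
    intro k
    apply hμ
    rw [← hLμ, Multiset.mem_coe]
    exact List.get_mem L k
  have hsumd : ∑ k, d k = n := by
    rw [Finset.sum_eq_multiset_sum, hmap, hsum]
  have hcard : Fintype.card ((k : Fin t) × Fin (d k)) = n := by
    rw [Fintype.card_sigma]
    simp only [Fintype.card_fin]
    exact hsumd
  obtain ⟨b, hb, hb1⟩ := hne
  have hn1 : 1 ≤ n := by
    rw [← hsum]
    exact le_trans (hμ b hb).1 (Multiset.single_le_sum (fun _ _ => Nat.zero_le _) b hb)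
  have : Nonempty (Fin n) := ⟨⟨0, hn1⟩⟩
  set e : ((k : Fin t) × Fin (d k)) ≃ Fin n := Fintype.equivFinOfCardEq hcard with he
  set J := jordanTypeMatrix d F with hJ
  set X := Matrix.reindex e e J with hX
  have hrk : ∀ m, ((X - 1) ^ m).rank = ∑ k, (d k - m) := by
    intro m
    rw [hX, reindex_sub_one_pow, Matrix.rank_reindex, hJ, rank_jt_sub_one_pow]
  have hnil : (X - 1) ^ p = 0 := by
    rw [hX, reindex_sub_one_pow, hJ, jt_sub_one_pow_eq_zero d p (fun k => (hdk k).2)]
    ext i j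
    rfl
  have hXp : X ^ p = 1 := by
    have h1 : X = (X - 1) + 1 := by abel
    rw [h1, add_pow_char_of_commute p (Commute.one_right _), hnil, one_pow, zero_add]
  have hdet : X.det = 1 := by
    have h1 : X.det ^ p = 1 := by rw [← Matrix.det_pow, hXp, Matrix.det_one]
    have h2 : (X.det - 1) ^ p = 0 := by rw [sub_pow_char, h1, one_pow, sub_self]
    exact sub_eq_zero.1 (pow_eq_zero_iff hpp.ne_zero |>.1 h2)
  refine ⟨X, hdet, hXp, ?_, hnil, ?_⟩
  · intro z hz
    have h1 : X - 1 = (z - 1) • (1 : Matrix (Fin n) (Fin n) F) := by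
      rw [hz, sub_smul, one_smul]
    have h2 : ((z - 1) • (1 : Matrix (Fin n) (Fin n) F)) ^ p = 0 := by rw [← h1, hnil]
    rw [smul_pow, one_pow] at h2
    have h3 := congrFun (congrFun h2 ⟨0, hn1⟩) ⟨0, hn1⟩
    rw [Matrix.smul_apply, Matrix.one_apply_eq, Matrix.zero_apply, smul_eq_mul, mul_one] at h3
    have hz1 : z - 1 = 0 := pow_eq_zero_iff hpp.ne_zero |>.1 h3
    have h4 : (X - 1) ^ 1 = 0 := by rw [pow_one, h1, hz1, zero_smul]
    have h5 := hrk 1
    rw [h4, Matrix.rank_zero] at h5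
    have h6 : ∀ k, d k - 1 = 0 := by
      intro k
      have := Finset.sum_eq_zero_iff.1 h5.symm k (Finset.mem_univ k)
      exact this
    rw [← hmap, Multiset.mem_map] at hb
    obtain ⟨k, -, rfl⟩ := hb
    have := h6 k
    have := (hdk k).1
    omega
  · intro s
    rw [hrk, hrk, hrk, ← hmap, Multiset.count_map, ← Finset.filter_val, Finset.card_val]
    have := count_add d (s + 1) (by omega)
    rw [Nat.add_sub_cancel] at this
    rw [← this]
    congr 2
    apply Finset.filter_congr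
    intro k _
    exact eq_comm

end Cfsg.Agent.Lib.Helper8.NilSeq
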