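import Mathlib
import Cfsg.Agent.Lib.Helper8.NilSeqD

/-!
# An element of order `p` with Jordan type `μ` stabilizing a decomposition into `a`-spaces:
`μ` contains a partition of `a` (helper8)
-/

set_option autoImplicit false
set_option linter.unusedSectionVars false

namespace Cfsg.Agent.Lib.Helper8.NilSeq

open Module

variable {F : Type*} [Field F] {n : ℕ} {p : ℕ} [hp : Fact p.Prime] [CharP F p]

theorem toLin'_pow' (A : Matrix (Fin n) (Fin n) F) (s : ℕ) :
    (Matrix.toLin' A) ^ s = Matrix.toLin' (A ^ s) := by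
  induction s with
  | zero => rw [pow_zero, pow_zero, Matrix.toLin'_one]; rfl
  | succ s ih => rw [pow_succ, pow_succ, Matrix.toLin'_mul, ih]; rfl

theorem exists_sub_of_decomp {a t : ℕ} (μ : Multiset ℕ) (A : Matrix (Fin n) (Fin n) F)
    (hA : A ^ p = 1) (hnil : (A - 1) ^ p = 0)
    (hcnt : ∀ s, μ.count (s + 1) + 2 * ((A - 1) ^ (s + 1)).rank =
      ((A - 1) ^ s).rank + ((A - 1) ^ (s + 2)).rank)
    (hμp : μ.count p < a)
    (D : Fin t → Submodule F (Fin n → F)) (hD : Cfsg.Geo.IsMDecomposition a D)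
    (σ : Equiv.Perm (Fin t)) (hσ : ∀ j, (D j).map (Matrix.toLin' A) = D (σ j)) :
    ∃ ν : Multiset ℕ, ν ≤ μ ∧ ν.sum = a := by
  have hpp : p.Prime := hp.out
  by_cases hfix : ∃ j₀, σ j₀ = j₀
  · obtain ⟨j₀, hj₀⟩ := hfix
    set N := Matrix.toLin' (A - 1) with hN
    have hNv : ∀ v, N v = Matrix.toLin' A v - v := by
      intro v
      rw [hN, map_sub, Matrix.toLin'_one, LinearMap.sub_apply, LinearMap.id_apply]
    set M := D j₀ with hMdef
    set M' := ⨆ (j) (_ : j ≠ j₀), D j with hM'def
    have hMf : M.map (Matrix.toLin' A) = M := by rw [hMdef, hσ, hj₀]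
    have hM : M.map N ≤ M := by
      rintro _ ⟨v, hv, rfl⟩
      rw [hNv]
      refine Submodule.sub_mem _ ?_ hv
      rw [← hMf]
      exact Submodule.mem_map_of_mem hv
    have hM'f : M'.map (Matrix.toLin' A) ≤ M' := by
      rw [hM'def, Submodule.map_iSup]
      apply iSup_le
      intro j
      rw [Submodule.map_iSup]
      apply iSup_le
      intro hj
      rw [hσ]
      have h1 : σ j ≠ j₀ := by
        intro h
        apply hj
        apply σ.injective
        rw [h, hj₀]
      exact le_iSup₂_of_le (σ j) h1 le_rfl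
    have hM' : M'.map N ≤ M' := by
      rintro _ ⟨v, hv, rfl⟩
      rw [hNv]
      refine Submodule.sub_mem _ ?_ hv
      exact hM'f (Submodule.mem_map_of_mem hv)
    have hc : IsCompl M M' := by
      refine ⟨hD.indep j₀, codisjoint_iff.2 ?_⟩
      rw [hMdef, hM'def, ← iSup_split_single, hD.iSup_eq_top]
    have hNs : ∀ s, N ^ s = Matrix.toLin' ((A - 1) ^ s) := fun s => toLin'_pow' _ s
    have hrk : ∀ s, ((A - 1) ^ s).rank = eS N M s + eS N M' s := by
      intro s
      rw [← finrank_range_toLin', ← hNs]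
      exact eS_add hM hM' hc s
    apply exists_sub μ p a (eS N M) (eS N M') (eS_convex hM) (eS_convex hM')
    · intro s hs
      unfold eS
      have : N ^ s = 0 := by
        rw [hNs]
        obtain ⟨k, rfl⟩ : ∃ k, s = p + k := ⟨s - p, by omega⟩
        rw [pow_add, hnil, zero_mul, map_zero]
      rw [this, Submodule.map_zero, finrank_bot]
    · rw [eS_zero, hMdef, hD.finrank_eq]
    · intro s _
      have := hcnt s
      rw [hrk, hrk, hrk] at this
      omega
  · push Not at hfix
    exfalso
    have h1 := le_rank_of_no_fixed A hA D hD σ hσ hfix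
    obtain ⟨p', hp'⟩ : ∃ p', p = p' + 1 := ⟨p - 1, by have := hpp.pos; omega⟩
    have h2 := hcnt p'
    rw [← hp', hnil, Matrix.rank_zero] at h2
    have h3 : p - 1 = p' := by omega
    rw [h3] at h1
    omega

end Cfsg.Agent.Lib.Helper8.NilSeq
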