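import Mathlib
import Cfsg.Agent.Lib.Helper8.NilSeqC
import Cfsg.Agent.Lib.Helper8.NilSeqE

/-!
# Elements of order `p` of `SL_n(q)` fixing a decomposition `U ⊕ W`: necessity (helper8)
-/

set_option autoImplicit false
set_option linter.unusedSectionVars false
set_option linter.style.haveILetI false

open scoped MatrixGroups

namespace Cfsg.Agent.Lib.Helper8.InvSub

open Matrix Module Cfsg.Agent.Lib.Helper8.NilSeq

section Main

variable {F : Type*} [Field F] {n : ℕ}

/-- the Jordan type of the restriction to an invariant summand is a sub-multiset -/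
theorem exists_sub_of_compl (μ : Multiset ℕ) (A : Matrix (Fin n) (Fin n) F) (P : ℕ)
    (hnil : (A - 1) ^ P = 0)
    (hcnt : ∀ s, μ.count (s + 1) + 2 * ((A - 1) ^ (s + 1)).rank =
      ((A - 1) ^ s).rank + ((A - 1) ^ (s + 2)).rank)
    (U W : Submodule F (Fin n → F)) (hc : IsCompl U W)
    (hU : U.map (Matrix.toLin' A) ≤ U) (hW : W.map (Matrix.toLin' A) ≤ W) :
    ∃ ν : Multiset ℕ, ν ≤ μ ∧ ν.sum = finrank F U := by
  set N := Matrix.toLin' (A - 1) with hN
  have hNv : ∀ v, N v = Matrix.toLin' A v - v := by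
    intro v
    rw [hN, map_sub, Matrix.toLin'_one, LinearMap.sub_apply, LinearMap.id_apply]
  have hM : U.map N ≤ U := by
    rintro _ ⟨v, hv, rfl⟩
    rw [hNv]
    exact Submodule.sub_mem _ (hU (Submodule.mem_map_of_mem hv)) hv
  have hM' : W.map N ≤ W := by
    rintro _ ⟨v, hv, rfl⟩
    rw [hNv]
    exact Submodule.sub_mem _ (hW (Submodule.mem_map_of_mem hv)) hv
  have hNs : ∀ s, N ^ s = Matrix.toLin' ((A - 1) ^ s) := fun s => toLin'_pow' _ s
  have hrk : ∀ s, ((A - 1) ^ s).rank = eS N U s + eS N W s := by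
    intro s
    rw [← finrank_range_toLin', ← hNs]
    exact eS_add hM hM' hc s
  apply exists_sub μ P (finrank F U) (eS N U) (eS N W) (eS_convex hM) (eS_convex hM')
  · intro s hs
    unfold eS
    have : N ^ s = 0 := by
      rw [hNs]
      obtain ⟨k, rfl⟩ : ∃ k, s = P + k := ⟨s - P, by omega⟩
      rw [pow_add, hnil, zero_mul, map_zero]
    rw [this, Submodule.map_zero, finrank_bot]
  · rw [eS_zero]
  · intro s _
    have := hcnt s
    rw [hrk, hrk, hrk] at this
    omega

/-- the necessity direction, `r = p` -/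
theorem cond_of_forall_pair_char (p : ℕ) [hp : Fact p.Prime] [CharP F p] (n m : ℕ)
    (hmn : m ≤ n)
    (H : ∀ x : Matrix.SpecialLinearGroup (Fin n) F,
      (∃ c : F, ((x ^ p : Matrix.SpecialLinearGroup (Fin n) F) : Matrix (Fin n) (Fin n) F) =
        c • (1 : Matrix (Fin n) (Fin n) F)) →
      (∀ c : F, (x : Matrix (Fin n) (Fin n) F) ≠ c • (1 : Matrix (Fin n) (Fin n) F)) →
      ∃ U W : Submodule F (Fin n → F), IsCompl U W ∧ Module.finrank F ↥U = m ∧
        U.map (Matrix.toLin' (x : Matrix (Fin n) (Fin n) F)) ≤ U ∧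
        W.map (Matrix.toLin' (x : Matrix (Fin n) (Fin n) F)) ≤ W) :
    (2 < p ∧ (∀ μ : Multiset ℕ, (∀ a ∈ μ, 0 < a ∧ a ≤ p) → μ.sum = n →
        ∃ ν : Multiset ℕ, ν ≤ μ ∧ ν.sum = m)) ∨
      (p = 2 ∧ (Odd n ∨ Even m)) := by
  classical
  have hpp : p.Prime := hp.out
  have key : ∀ μ : Multiset ℕ, (∀ a ∈ μ, 0 < a ∧ a ≤ p) → μ.sum = n →
      ∃ ν : Multiset ℕ, ν ≤ μ ∧ ν.sum = m := by
    intro μ hμ hsum
    by_cases hne : ∃ b ∈ μ, b ≠ 1
    · obtain ⟨X, hdet, hXp, hns, hnil, hcnt⟩ := exists_of_multiset (F := F) n μ hμ hsum hne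
      obtain ⟨Xs, hXs⟩ : ∃ Xs : Matrix.SpecialLinearGroup (Fin n) F,
          (Xs : Matrix (Fin n) (Fin n) F) = X := ⟨⟨X, hdet⟩, rfl⟩
      obtain ⟨U, W, hc, hUm, hU, hW⟩ := H Xs
        ⟨1, by rw [Matrix.SpecialLinearGroup.coe_pow, hXs, hXp, one_smul]⟩
        (by rw [hXs]; exact hns)
      rw [hXs] at hU hW
      obtain ⟨ν, hν, hνs⟩ := exists_sub_of_compl μ X p hnil hcnt U W hc hU hW
      exact ⟨ν, hν, by rw [hνs, hUm]⟩
    · push Not at hne
      have h1 : μ = Multiset.replicate (Multiset.card μ) 1 :=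
        Multiset.eq_replicate_of_mem hne
      have h2 : Multiset.card μ = n := by
        rw [← hsum]
        conv_rhs => rw [h1]
        rw [Multiset.sum_replicate, smul_eq_mul, mul_one]
      refine ⟨Multiset.replicate m 1, ?_, ?_⟩
      · rw [h1, h2, Multiset.replicate_le_replicate]
        exact hmn
      · rw [Multiset.sum_replicate, smul_eq_mul, mul_one]
  rcases Nat.lt_or_ge 2 p with h2 | h2
  · exact Or.inl ⟨h2, key⟩
  · right
    have hp2 : p = 2 := le_antisymm h2 hpp.two_le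
    refine ⟨hp2, ?_⟩
    by_contra hcon
    push Not at hcon
    obtain ⟨hn', hm'⟩ := hcon
    rw [Nat.not_odd_iff_even] at hn'
    rw [Nat.not_even_iff_odd] at hm'
    obtain ⟨k, hk⟩ := hn'
    obtain ⟨ν, hν, hνs⟩ := key (Multiset.replicate k 2)
      (by
        intro a ha
        rw [Multiset.eq_of_mem_replicate ha, hp2]
        omega)
      (by rw [Multiset.sum_replicate, smul_eq_mul, hk]; ring)
    have h3 : ν = Multiset.replicate (Multiset.card ν) 2 := by
      apply Multiset.eq_replicate_of_mem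
      intro b hb
      exact Multiset.eq_of_mem_replicate (Multiset.mem_of_le hν hb)
    rw [h3, Multiset.sum_replicate, smul_eq_mul] at hνs
    obtain ⟨j, hj⟩ := hm'
    omega

end Main

end Cfsg.Agent.Lib.Helper8.InvSub
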