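import Mathlib
import Cfsg.Agent.H2.NilpType

/-!
# Invariant decompositions of a nilpotent operator from sub-multisets of its Jordan type (helper8)
-/

set_option autoImplicit false
set_option linter.unusedSectionVars false
set_option linter.style.haveILetI false

namespace Cfsg.Agent.Lib.Helper8.InvSub

open Module Cfsg.Agent.H2.NilpKer Cfsg.Agent.H2.NilpModel Cfsg.Agent.H2.NilpSeq
  Cfsg.Agent.H2.NilpType

section Prod

variable {F : Type*} [Field F] {V₁ V₂ : Type*} [AddCommGroup V₁] [Module F V₁]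
  [AddCommGroup V₂] [Module F V₂]

/-- the product of two submodules as a product module -/
def prodEquivProd (p : Submodule F V₁) (q : Submodule F V₂) : (p.prod q) ≃ₗ[F] p × q where
  toFun x := (⟨x.1.1, x.2.1⟩, ⟨x.1.2, x.2.2⟩)
  invFun y := ⟨(y.1.1, y.2.1), ⟨y.1.2, y.2.2⟩⟩
  map_add' _ _ := rfl
  map_smul' _ _ := rfl
  left_inv _ := rfl
  right_inv _ := rfl

theorem prodMap_pow (f : End F V₁) (g : End F V₂) (k : ℕ) :
    (f.prodMap g) ^ k = (f ^ k).prodMap (g ^ k) := by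
  induction k with
  | zero => rw [pow_zero, pow_zero, pow_zero, LinearMap.prodMap_one]
  | succ k ih => rw [pow_succ, pow_succ, pow_succ, ih, LinearMap.prodMap_mul]

theorem kd_prodMap [FiniteDimensional F V₁] [FiniteDimensional F V₂] (f : End F V₁)
    (g : End F V₂) (k : ℕ) : kd (f.prodMap g) k = kd f k + kd g k := by
  unfold kd
  rw [prodMap_pow, LinearMap.ker_prodMap, LinearEquiv.finrank_eq (prodEquivProd _ _),
    Module.finrank_prod]

theorem isKdSeq_kd {V : Type*} [AddCommGroup V] [Module F V] [FiniteDimensional F V]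
    (N : End F V) (n : ℕ) (hn : finrank F V = n) (hN : N ^ n = 0) : IsKdSeq (kd N) n where
  zero := kd_zero N
  mono := kd_mono N
  concave := kd_concave N ⟨n, hN⟩
  top := by
    intro k hk
    obtain ⟨j, rfl⟩ := Nat.exists_eq_add_of_le hk
    rw [kd_of_pow_eq_zero N _ (by rw [pow_add, hN, zero_mul]), hn]

end Prod

section Model

variable {F : Type*} [Field F]

theorem card_sum_elim_lt {a b : ℕ} (e₁ : Fin a → ℕ) (e₂ : Fin b → ℕ) (k : ℕ) :
    Nat.card {i : Fin a ⊕ Fin b // k < Sum.elim e₁ e₂ i} =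
      Nat.card {i : Fin a // k < e₁ i} + Nat.card {j : Fin b // k < e₂ j} := by
  rw [Nat.card_congr (Equiv.subtypeSum (p := fun i : Fin a ⊕ Fin b => k < Sum.elim e₁ e₂ i)),
    Nat.card_sum]
  rfl

theorem map_get_univ (L : List ℕ) :
    (Finset.univ : Finset (Fin L.length)).val.map L.get = (L : Multiset ℕ) := by
  rw [Fin.univ_val_map, List.ofFn_get]

theorem finrank_sigma_fun {a : ℕ} (e : Fin a → ℕ) :
    finrank F ((Σ i : Fin a, Fin (e i)) → F) = ∑ i, e i := by
  rw [Module.finrank_fintype_fun_eq_card, Fintype.card_sigma]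
  simp only [Fintype.card_fin]

/-- invariant complementary subspaces from a sub-multiset of the Jordan type -/
theorem exists_compl_of_sub {n : ℕ} (A : Matrix (Fin n) (Fin n) F) (hA : IsNilpotent A)
    (ν : Multiset ℕ) (hν : ν ≤ jparts (kdm A) n) :
    ∃ U W : Submodule F (Fin n → F), IsCompl U W ∧ finrank F U = ν.sum ∧
      U.map (Matrix.toLin' A) ≤ U ∧ W.map (Matrix.toLin' A) ≤ W := by
  classical
  have hseq := isKdSeq_kdm A hA
  set μ := jparts (kdm A) n with hμ
  set κ := μ - ν with hκ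
  have hνκ : ν + κ = μ := add_tsub_cancel_of_le hν
  have hμsum : μ.sum = n := jparts_sum hseq
  have hμmem : ∀ c ∈ μ, 1 ≤ c ∧ c ≤ n := fun c hc => Finset.mem_Icc.1 (mem_jparts hc).1
  obtain ⟨L₁, hL₁⟩ : ∃ L₁ : List ℕ, (L₁ : Multiset ℕ) = ν := ⟨ν.toList, Multiset.coe_toList ν⟩
  obtain ⟨L₂, hL₂⟩ : ∃ L₂ : List ℕ, (L₂ : Multiset ℕ) = κ := ⟨κ.toList, Multiset.coe_toList κ⟩
  have h1 : (Finset.univ : Finset (Fin L₁.length)).val.map L₁.get = ν := by
    rw [map_get_univ, hL₁]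
  have h2 : (Finset.univ : Finset (Fin L₂.length)).val.map L₂.get = κ := by
    rw [map_get_univ, hL₂]
  have hs1 : ∑ i, L₁.get i = ν.sum := by rw [Finset.sum_eq_multiset_sum, h1]
  have hs2 : ∑ i, L₂.get i = κ.sum := by rw [Finset.sum_eq_multiset_sum, h2]
  have hsum : ν.sum + κ.sum = n := by rw [← Multiset.sum_add, hνκ, hμsum]
  have hm1 : ∀ i, 1 ≤ L₁.get i ∧ L₁.get i ≤ n := by
    intro i
    apply hμmem
    rw [← hνκ, ← hL₁]
    exact Multiset.mem_add.2 (Or.inl (Multiset.mem_coe.2 (List.get_mem L₁ i)))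
  have hm2 : ∀ i, 1 ≤ L₂.get i ∧ L₂.get i ≤ n := by
    intro i
    apply hμmem
    rw [← hνκ, ← hL₂]
    exact Multiset.mem_add.2 (Or.inr (Multiset.mem_coe.2 (List.get_mem L₂ i)))
  set N₁ : End F ((Σ i : Fin L₁.length, Fin (L₁.get i)) → F) := shift L₁.get with hN₁
  set N₂ : End F ((Σ i : Fin L₂.length, Fin (L₂.get i)) → F) := shift L₂.get with hN₂
  set N' := N₁.prodMap N₂ with hN'
  have hfr : finrank F (((Σ i : Fin L₁.length, Fin (L₁.get i)) → F) ×
      ((Σ i : Fin L₂.length, Fin (L₂.get i)) → F)) = n := by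
    rw [Module.finrank_prod, finrank_sigma_fun, finrank_sigma_fun, hs1, hs2, hsum]
  have hN'n : N' ^ n = 0 := by
    rw [hN', prodMap_pow, hN₁, hN₂, shift_pow_eq_zero _ n (fun i => (hm1 i).2),
      shift_pow_eq_zero _ n (fun i => (hm2 i).2), LinearMap.prodMap_zero]
  have hseq' := isKdSeq_kd N' n hfr hN'n
  have hkd' : ∀ k, kd N' (k + 1) = kd N' k +
      Nat.card {i : Fin L₁.length ⊕ Fin L₂.length // k < Sum.elim L₁.get L₂.get i} := by
    intro k
    rw [hN', kd_prodMap, kd_prodMap, hN₁, hN₂, kd_shift_succ, kd_shift_succ, card_sum_elim_lt]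
    ring
  have hj' : jparts (kd N') n = μ := by
    rw [jparts_eq_map (Sum.elim L₁.get L₂.get) hkd' ?_ ?_]
    · rw [← hνκ, ← h1, ← h2, ← Finset.univ_disjSum_univ, Finset.val_disjSum]
      simp only [Multiset.disjSum, Multiset.map_add, Multiset.map_map]
      rfl
    · rintro (i | i)
      · exact (hm1 i).1
      · exact (hm2 i).1
    · rw [Fintype.sum_sum_type]
      simp only [Sum.elim_inl, Sum.elim_inr]
      rw [hs1, hs2, hsum]
  have hkd : ∀ k, kd (Matrix.toLin' A) k = kd N' k :=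
    eq_of_jparts_eq hseq hseq' hj'.symm
  obtain ⟨φ, hφ⟩ := exists_equiv (Matrix.toLin' A) N' (isNilpotent_toLin' hA) ⟨n, hN'n⟩ hkd
  have hφs : ∀ y, Matrix.toLin' A (φ.symm y) = φ.symm (N' y) := by
    intro y
    apply φ.injective
    rw [hφ, LinearEquiv.apply_symm_apply, LinearEquiv.apply_symm_apply]
  refine ⟨(LinearMap.range (LinearMap.inl F _ _)).map φ.symm.toLinearMap,
    (LinearMap.range (LinearMap.inr F _ _)).map φ.symm.toLinearMap, ?_, ?_, ?_, ?_⟩
  · exact (Submodule.orderIsoMapComap φ.symm).isCompl LinearMap.isCompl_range_inl_inr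
  · rw [LinearEquiv.finrank_map_eq φ.symm, LinearMap.finrank_range_of_inj LinearMap.inl_injective,
      finrank_sigma_fun, hs1]
  · rintro _ ⟨_, ⟨_, ⟨v, rfl⟩, rfl⟩, rfl⟩
    refine ⟨N' (LinearMap.inl F _ _ v), ⟨N₁ v, ?_⟩, ?_⟩
    · rw [hN']
      simp
    · exact (hφs _).symm
  · rintro _ ⟨_, ⟨_, ⟨v, rfl⟩, rfl⟩, rfl⟩
    refine ⟨N' (LinearMap.inr F _ _ v), ⟨N₂ v, ?_⟩, ?_⟩
    · rw [hN']
      simp
    · exact (hφs _).symm

end Model

end Cfsg.Agent.Lib.Helper8.InvSub
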