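import Mathlib
import Cfsg.Agent.Lib.Helper8.InvSubP
import Cfsg.Agent.Lib.Helper8.SingerNB

/-!
# Elements of order `p` of `SL_n(q)` fixing a decomposition `U ⊕ W`: existence (helper8)
-/

set_option autoImplicit false
set_option linter.unusedSectionVars false
set_option linter.style.haveILetI false

open scoped MatrixGroups

namespace Cfsg.Agent.Lib.Helper8.InvSub

open Matrix Module Cfsg.Agent.H2.NilpKer Cfsg.Agent.H2.NilpSeq Cfsg.Agent.H2.NilpType
  Cfsg.Agent.Lib.Helper8.SingerN

/-- partitions with parts `1, 2` -/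
theorem exists_sub_two (μ : Multiset ℕ) (hμ : ∀ a ∈ μ, 0 < a ∧ a ≤ 2) (n m : ℕ)
    (hsum : μ.sum = n) (hmn : m ≤ n) (h : Odd n ∨ Even m) :
    ∃ ν : Multiset ℕ, ν ≤ μ ∧ ν.sum = m := by
  classical
  have hsub : μ.toFinset ⊆ ({1, 2} : Finset ℕ) := by
    intro a ha
    rw [Multiset.mem_toFinset] at ha
    have := hμ a ha
    rw [Finset.mem_insert, Finset.mem_singleton]
    omega
  have hs := Finset.sum_multiset_count_of_subset μ _ hsub
  rw [Finset.sum_pair (by norm_num), smul_eq_mul, smul_eq_mul, mul_one, hsum] at hs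
  set a := μ.count 1 with ha
  set b := μ.count 2 with hb
  set j := min b (m / 2) with hj
  set k := m - 2 * j with hk
  have hjb : j ≤ b := min_le_left _ _
  have hjm : 2 * j ≤ m := by
    have : j ≤ m / 2 := min_le_right _ _
    omega
  have hka : k ≤ a := by
    rcases le_total b (m / 2) with h1 | h1
    · have : j = b := min_eq_left h1
      omega
    · have : j = m / 2 := min_eq_right h1
      rcases h with h | h
      · obtain ⟨t, ht⟩ := h
        omega
      · obtain ⟨t, ht⟩ := h
        omega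
  refine ⟨Multiset.replicate k 1 + Multiset.replicate j 2, ?_, ?_⟩
  · rw [Multiset.le_iff_count]
    intro c
    rw [Multiset.count_add, Multiset.count_replicate, Multiset.count_replicate]
    by_cases h1 : c = 1
    · subst h1
      rw [if_pos rfl, if_neg (by norm_num)]
      omega
    · by_cases h2 : c = 2
      · subst h2
        rw [if_neg (by norm_num), if_pos rfl]
        omega
      · rw [if_neg (Ne.symm h1), if_neg (Ne.symm h2)]
        exact Nat.zero_le _
  · rw [Multiset.sum_add, Multiset.sum_replicate, Multiset.sum_replicate, smul_eq_mul, smul_eq_mul]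
    omega

section Main

variable {F : Type*} [Field F] [Fintype F]

/-- the existence direction, `r = p` -/
theorem exists_pair_of_cond_char (p : ℕ) [hp : Fact p.Prime] [CharP F p] (n m : ℕ)
    (hn : 1 ≤ n)
    (hcond : ∀ μ : Multiset ℕ, (∀ a ∈ μ, 0 < a ∧ a ≤ p) → μ.sum = n →
      ∃ ν : Multiset ℕ, ν ≤ μ ∧ ν.sum = m)
    (x : Matrix.SpecialLinearGroup (Fin n) F) (c : F)
    (hx : ((x ^ p : Matrix.SpecialLinearGroup (Fin n) F) : Matrix (Fin n) (Fin n) F) =
      c • (1 : Matrix (Fin n) (Fin n) F)) :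
    ∃ U W : Submodule F (Fin n → F), IsCompl U W ∧ Module.finrank F ↥U = m ∧
      U.map (Matrix.toLin' (x : Matrix (Fin n) (Fin n) F)) ≤ U ∧
      W.map (Matrix.toLin' (x : Matrix (Fin n) (Fin n) F)) ≤ W := by
  classical
  have hpp : p.Prime := hp.out
  haveI : Nonempty (Fin n) := ⟨⟨0, by omega⟩⟩
  set M := (x : Matrix (Fin n) (Fin n) F) with hM
  have hMr : M ^ p = c • (1 : Matrix (Fin n) (Fin n) F) := by
    rw [← hx, Matrix.SpecialLinearGroup.coe_pow]
  have hc0 : c ≠ 0 := by
    intro h0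
    have h1 := congrArg Matrix.det hMr
    rw [Matrix.det_pow, x.2, one_pow, h0, zero_smul, Matrix.det_zero] at h1
    exact one_ne_zero h1
  -- a `p`-th root of `c`
  obtain ⟨f, _, hf⟩ := FiniteField.card F p
  have hnq : ¬ p ∣ Fintype.card F - 1 := by
    intro h
    have h1 : p ∣ Fintype.card F := by
      rw [hf]
      exact dvd_pow_self p f.ne_zero
    have h2 : 1 ≤ Fintype.card F := Fintype.card_pos
    have h3 : p ∣ 1 := by
      have := Nat.dvd_sub h1 h
      rwa [Nat.sub_sub_self h2] at this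
    exact hpp.one_lt.ne' (Nat.dvd_one.1 h3)
  obtain ⟨d, hd⟩ := exists_root (F := F) rfl hpp hnq c
  have hd0 : d ≠ 0 := by
    intro h0
    rw [h0, zero_pow hpp.ne_zero] at hd
    exact hc0 hd.symm
  set A := d⁻¹ • M with hA
  have hMA : M = d • A := by rw [hA, smul_smul, mul_inv_cancel₀ hd0, one_smul]
  have hAp : A ^ p = 1 := by
    rw [hA, _root_.smul_pow, hMr, smul_smul, inv_pow, hd, inv_mul_cancel₀ hc0, one_smul]
  have hnil : (A - 1) ^ p = 0 := by
    rw [sub_pow_char_of_commute p (Commute.one_right A), hAp, one_pow, sub_self]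
  have hnil' : IsNilpotent (A - 1) := ⟨p, hnil⟩
  have hseq := isKdSeq_kdm (A - 1) hnil'
  obtain ⟨ν, hν, hνs⟩ := hcond (jparts (kdm (A - 1)) n)
    (by
      intro a ha
      refine ⟨?_, le_of_mem_jparts hseq (kdm_of_pow_eq_zero (A - 1) p hnil) ha⟩
      have := Finset.mem_Icc.1 (mem_jparts ha).1
      omega)
    (jparts_sum hseq)
  obtain ⟨U, W, hc, hUm, hU, hW⟩ := exists_compl_of_sub (A - 1) hnil' ν hν
  have hMv : ∀ v, Matrix.toLin' M v = d • (Matrix.toLin' (A - 1) v + v) := by
    intro v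
    have : M = d • ((A - 1) + 1) := by rw [sub_add_cancel]; exact hMA
    conv_lhs => rw [this]
    rw [map_smul, map_add, Matrix.toLin'_one, LinearMap.smul_apply, LinearMap.add_apply,
      LinearMap.id_apply]
  refine ⟨U, W, hc, by rw [hUm, hνs], ?_, ?_⟩
  · rintro _ ⟨v, hv, rfl⟩
    rw [hMv]
    exact U.smul_mem d (U.add_mem (hU (Submodule.mem_map_of_mem hv)) hv)
  · rintro _ ⟨v, hv, rfl⟩
    rw [hMv]
    exact W.smul_mem d (W.add_mem (hW (Submodule.mem_map_of_mem hv)) hv)

end Main

end Cfsg.Agent.Lib.Helper8.InvSub
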