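import Mathlib
import Cfsg.Prelude.Def_IsolatedElements
import Cfsg.Prelude.Def_CaseTheorems
import Cfsg.Prelude.Def_Transfer
import Cfsg.Agent.Lib.Lead.NormalPComplement

/-! S3049 pieces (Q4) and (Q6) of helper2's split (helper8). Duplicates of helper2's `H2/Iso2B` (messages crossed), kept in my own
namespace so that the names do not clash. -/

set_option autoImplicit false

namespace Cfsg.Agent.Lib.Helper8.Iso2Q46

universe u
variable {G : Type u} [Group G] [Finite G] {p : ℕ} [Fact p.Prime]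

omit [Finite G] in
/-- (Q4) elements `x^i u^j ∈ K` are isolated in `K` when `u` centralizes `K`. -/
theorem isolated_in (K : Subgroup G) (x u : G) (hx : orderOf x = p) (hiso : Cfsg.IsIsolated x)
    (hxu : x * u = u * x) (huK : ∀ k ∈ K, u * k = k * u) (i j : ℕ) :
    ∀ k ∈ K, Commute (x ^ i * u ^ j) (k * (x ^ i * u ^ j) * k⁻¹) →
      k * (x ^ i * u ^ j) * k⁻¹ = x ^ i * u ^ j := by
  intro k hk hc
  have hpp : p.Prime := Fact.out
  have huk : Commute u k := huK k hk
  have hux : Commute u x := hxu.symm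
  obtain ⟨w, hw⟩ : ∃ w : G, w = k * x * k⁻¹ := ⟨_, rfl⟩
  have huw : Commute u w := by
    rw [hw]
    exact (huk.mul_right hux).mul_right huk.inv_right
  have hwpow : ∀ n : ℕ, k * x ^ n * k⁻¹ = w ^ n := by
    intro n
    rw [hw, conj_pow]
  have hconj : k * (x ^ i * u ^ j) * k⁻¹ = w ^ i * u ^ j := by
    have h1 : k * (x ^ i * u ^ j) * k⁻¹ = (k * x ^ i * k⁻¹) * (k * u ^ j * k⁻¹) := by group
    have h3 : k * u ^ j * k⁻¹ = u ^ j := by
      have h4 : Commute (u ^ j) k := huk.pow_left j
      rw [← h4.eq]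
      group
    rw [h1, hwpow, h3]
  rw [hconj] at hc ⊢
  have hxw : Commute (x ^ i) (w ^ i) := by
    have hca : Commute (u ^ j) (x ^ i) := hux.pow_pow j i
    have hcb : Commute (u ^ j) (w ^ i) := huw.pow_pow j i
    have e := hc.eq
    have e1 : x ^ i * u ^ j * (w ^ i * u ^ j) = x ^ i * w ^ i * (u ^ j * u ^ j) := by
      calc x ^ i * u ^ j * (w ^ i * u ^ j) = x ^ i * (u ^ j * w ^ i) * u ^ j := by
            simp only [mul_assoc]
        _ = x ^ i * (w ^ i * u ^ j) * u ^ j := by rw [hcb.eq]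
        _ = x ^ i * w ^ i * (u ^ j * u ^ j) := by simp only [mul_assoc]
    have e2 : w ^ i * u ^ j * (x ^ i * u ^ j) = w ^ i * x ^ i * (u ^ j * u ^ j) := by
      calc w ^ i * u ^ j * (x ^ i * u ^ j) = w ^ i * (u ^ j * x ^ i) * u ^ j := by
            simp only [mul_assoc]
        _ = w ^ i * (x ^ i * u ^ j) * u ^ j := by rw [hca.eq]
        _ = w ^ i * x ^ i * (u ^ j * u ^ j) := by simp only [mul_assoc]
    rw [e1, e2] at e
    exact mul_right_cancel e
  by_cases hpi : p ∣ i
  · have h1 : x ^ i = 1 := by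
      rw [← orderOf_dvd_iff_pow_eq_one, hx]
      exact hpi
    have h2 : w ^ i = 1 := by
      rw [← hwpow, h1]
      group
    rw [h1, h2]
  · have hcop : Nat.Coprime i p := ((Nat.Prime.coprime_iff_not_dvd hpp).mpr hpi).symm
    obtain ⟨m, -, hm⟩ := Nat.exists_mul_mod_eq_one_of_coprime hcop hpp.one_lt
    have h1 : x ^ (i * m) = x := by
      rw [← pow_mod_orderOf, hx, hm, pow_one]
    have h2 : w ^ (i * m) = w := by
      rw [← hwpow, h1, hw]
    have h3 : Commute x w := by
      have h4 := hxw.pow_pow m m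
      rw [← pow_mul, ← pow_mul, h1, h2] at h4
      exact h4
    have h5 : w = x := by
      rw [hw]
      apply hiso k
      rw [← hw]
      exact h3
    rw [h5]

/-- (Q6) a quasisimple group of order divisible by `p` has no normal `p`-complement. -/
theorem not_hasNormalPComplement_of_quasisimple {X : Type u} [Group X] [Finite X]
    (hX : Cfsg.IsQuasisimple X) (hdiv : p ∣ Nat.card X) : ¬ Cfsg.HasNormalPComplement p X := by
  intro hN
  obtain ⟨hperf, -⟩ := hX
  obtain ⟨N, hNn, hNc, k, hk⟩ :=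
    Cfsg.Agent.Lib.Lead.NormalPComplement.exists_normal_of_hasNormalPComplement hN
  have := hNn
  have := hperf
  have hq : IsPGroup p (X ⧸ N) := by
    apply IsPGroup.of_card (n := k)
    rw [← Subgroup.index_eq_card, hk]
  have : Group.IsNilpotent (X ⧸ N) := hq.isNilpotent
  have hsub : Subsingleton (X ⧸ N) := by
    by_contra hns
    rw [not_subsingleton_iff_nontrivial] at hns
    have := hns
    exact Group.IsPerfect.not_isNilpotent (G := X ⧸ N) inferInstance
  have hidx : N.index = 1 := by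
    rw [Subgroup.index_eq_card]
    exact Nat.card_eq_one_iff_unique.2 ⟨hsub, ⟨1⟩⟩
  have hNtop : N = ⊤ := Subgroup.index_eq_one.1 hidx
  have hcard : Nat.card ↥N = Nat.card X := by rw [hNtop]; exact Subgroup.card_top
  rw [hcard] at hNc
  have h4 : p ∣ Nat.gcd (Nat.card X) p := Nat.dvd_gcd hdiv dvd_rfl
  rw [hNc] at h4
  exact (Fact.out : p.Prime).one_lt.ne' (Nat.dvd_one.1 h4)

end Cfsg.Agent.Lib.Helper8.Iso2Q46
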