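import Cfsg.Agent.Lib.Helper8.J2Stab

/-!
# The stabilizers of the lines in the group of the 315 lines have the structure `2^{1+4}.A5`
(given the order of the group)
-/

set_option autoImplicit false

namespace Cfsg.Agent.Lib.Helper8.J2Stab

open Cfsg.Agent.J2 Cfsg.Agent.Lib.Helper6.SS Cfsg.Agent.Lib.Helper8.J2Simp

theorem D42_lt : ∀ p ∈ D42, p < 315 := by
  have := chk_D42.2.2
  rw [List.all_eq_true] at this
  intro p hp
  simpa using this p hp

theorem H'_maps : ∀ g ∈ H', Set.MapsTo g (lset 315 D42) (lset 315 D42) :=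
  mapsTo_of_closedOK (fun s hs => (hL_spec s hs).1) chk_D42c

/-- the restriction of the stabilizer to the 42 points -/
noncomputable def ρ : ↥H' →* Equiv.Perm (Fin 42) :=
  resHom D42 chk_D42.1 D42_lt H' H'_maps chk_D42.2.1

theorem hL_mem_H' {s : List ℕ} (hs : s ∈ [hL1, hL2, hL3]) : toPerm 315 s ∈ H' :=
  toPerm_mem_lgrp hs

theorem ρ_gen {s r : List ℕ} (hs : s ∈ [hL1, hL2, hL3]) (hr : r ∈ six)
    (h : (List.range 42).all (fun i => s.getD (D42.getD i 0) 0 == D42.getD (r.getD i 0) 0) = true) :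
    ρ ⟨toPerm 315 s, hL_mem_H' hs⟩ = toPerm 42 r := by
  apply resHom_toPerm D42 chk_D42.1 D42_lt H' H'_maps chk_D42.2.1 (hL_spec s hs).1 _
    (six_valid r hr)
  intro i hi
  rw [List.all_eq_true] at h
  have := h i (List.mem_range.2 hi)
  rwa [beq_iff_eq] at this

theorem M0_le_range : M0 ≤ ρ.range := by
  rw [M0, lgrp, Subgroup.closure_le]
  rintro g ⟨r, hr, rfl⟩
  simp only [List.mem_cons, List.not_mem_nil, or_false] at hr
  rcases hr with rfl | rfl | rfl
  · exact ⟨_, ρ_gen (s := hL1) (by simp) (by simp [six]) chk_res1⟩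
  · exact ⟨_, ρ_gen (s := hL2) (by simp) (by simp [six]) chk_res2⟩
  · exact ⟨_, ρ_gen (s := hL3) (by simp) (by simp [six]) chk_res3⟩

theorem card_M0 : Nat.card ↥M0 = 1920 := by rw [← M_eq]; exact main42.2.2

theorem card_H'_ge : 1920 ≤ Nat.card ↥H' := by
  have h1 : Nat.card ↥M0 ≤ Nat.card ↥ρ.range := Subgroup.card_le_of_le M0_le_range
  have h2 : Nat.card ↥ρ.range ≤ Nat.card ↥H' :=
    Nat.card_le_card_of_surjective ρ.rangeRestrict ρ.rangeRestrict_surjective
  rw [card_M0] at h1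
  exact h1.trans h2

instance : MulAction.IsPretransitive ↥PJ2 (Fin 315) := by
  refine ⟨fun x y => ?_⟩
  obtain ⟨g, hg, hgx⟩ := trans_PJ2 x
  obtain ⟨h, hh, hhy⟩ := trans_PJ2 y
  refine ⟨⟨h * g⁻¹, PJ2.mul_mem hh (PJ2.inv_mem hg)⟩, ?_⟩
  show (h * g⁻¹) x = y
  rw [Equiv.Perm.mul_apply, ← hgx, ← Equiv.Perm.mul_apply g⁻¹ g, inv_mul_cancel,
    Equiv.Perm.one_apply, hhy]

theorem card_stab (hcard : Nat.card ↥PJ2 = 604800) (a : Fin 315) :
    Nat.card ↥(MulAction.stabilizer ↥PJ2 a) = 1920 := by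
  have h1 := Subgroup.card_mul_index (MulAction.stabilizer ↥PJ2 a)
  rw [MulAction.index_stabilizer_of_transitive, Nat.card_fin, hcard] at h1
  omega

theorem H'_sub_le : H'.subgroupOf PJ2 ≤ MulAction.stabilizer ↥PJ2 o := by
  intro h hh
  rw [Subgroup.mem_subgroupOf] at hh
  rw [MulAction.mem_stabilizer_iff]
  exact H'_fix _ hh

theorem stab_eq (hcard : Nat.card ↥PJ2 = 604800) :
    H'.subgroupOf PJ2 = MulAction.stabilizer ↥PJ2 o := by
  apply Subgroup.eq_of_le_of_card_ge H'_sub_le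
  rw [card_stab hcard o]
  have : Nat.card ↥(H'.subgroupOf PJ2) = Nat.card ↥H' :=
    Nat.card_congr (Subgroup.subgroupOfEquivOfLe H'_le).toEquiv
  rw [this]
  exact card_H'_ge

theorem card_H' (hcard : Nat.card ↥PJ2 = 604800) : Nat.card ↥H' = 1920 := by
  have : Nat.card ↥(H'.subgroupOf PJ2) = Nat.card ↥H' :=
    Nat.card_congr (Subgroup.subgroupOfEquivOfLe H'_le).toEquiv
  rw [← this, stab_eq hcard, card_stab hcard o]

theorem ρ_injective (hcard : Nat.card ↥PJ2 = 604800) : Function.Injective ρ := by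
  have hsurj : Function.Surjective ρ.rangeRestrict := ρ.rangeRestrict_surjective
  have h1 : Nat.card ↥M0 ≤ Nat.card ↥ρ.range := Subgroup.card_le_of_le M0_le_range
  rw [card_M0] at h1
  have hb : Function.Bijective ρ.rangeRestrict :=
    hsurj.bijective_of_nat_card_le (by rw [card_H' hcard]; exact h1)
  intro x y hxy
  apply hb.1
  exact Subtype.ext hxy

theorem range_ρ (hcard : Nat.card ↥PJ2 = 604800) : ρ.range = M := by
  rw [M_eq]
  symm
  apply Subgroup.eq_of_le_of_card_ge M0_le_range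
  rw [card_M0, ← card_H' hcard]
  exact Nat.card_le_card_of_surjective ρ.rangeRestrict ρ.rangeRestrict_surjective

/-- **the stabilizer of the line `0`** -/
theorem isTwoA5_stab_o (hcard : Nat.card ↥PJ2 = 604800) :
    IsTwoA5 ↥(MulAction.stabilizer ↥PJ2 o) := by
  have e1 : ↥(MulAction.stabilizer ↥PJ2 o) ≃* ↥(H'.subgroupOf PJ2) :=
    MulEquiv.subgroupCongr (stab_eq hcard).symm
  have e2 : ↥(H'.subgroupOf PJ2) ≃* ↥H' := Subgroup.subgroupOfEquivOfLe H'_le
  have e3 : ↥H' ≃* ↥ρ.range := MonoidHom.ofInjective (ρ_injective hcard)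
  have e4 : ↥ρ.range ≃* ↥M := MulEquiv.subgroupCongr (range_ρ hcard)
  exact isTwoA5_M.of_equiv (((e1.trans e2).trans e3).trans e4).symm

/-- **the stabilizer of every line has the structure `2^{1+4}.A5`** -/
theorem isTwoA5_stab (hcard : Nat.card ↥PJ2 = 604800) (a : Fin 315) :
    IsTwoA5 ↥(MulAction.stabilizer ↥PJ2 a) := by
  obtain ⟨g, hg⟩ := MulAction.exists_smul_eq ↥PJ2 o a
  exact (isTwoA5_stab_o hcard).of_equiv (MulAction.stabilizerEquivStabilizer hg.symm)

end Cfsg.Agent.Lib.Helper8.J2Stab
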