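import Cfsg.Agent.Lib.Lead.J2.Trans
import Cfsg.Agent.Lib.Helper5.J2Iso
import Cfsg.Agent.Lib.Helper8.J2StabMain

/-!
# The centralizer of a reflection in the Hall–Janko group (given the order of the group of
the 315 lines)
-/

set_option autoImplicit false
set_option maxRecDepth 100000

namespace Cfsg.Agent.Lib.Helper8.J2Cent

open Cfsg.Spor Cfsg.Agent.J2 Cfsg.Agent.Lib.Helper6.SS Cfsg.Agent.Lib.Helper8.J2Simp
  Cfsg.Agent.Lib.Helper8.J2Stab Cfsg.Agent.Lib.Helper5.J2Iso

/-- the permutation of the lines induced by the reflection in the line `k` -/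
noncomputable def T (k : Fin 315) : Equiv.Perm (Fin 315) := phi (lineReflG k)

theorem lineReflG_injective : Function.Injective lineReflG := by
  intro a b h
  exact lineRefl_injective (congrArg Subtype.val h)

theorem conj_T (g : twoJ2) (k : Fin 315) : phi g * T k * (phi g)⁻¹ = T (phi g k) := by
  rw [T, T, ← map_inv, ← map_mul, ← map_mul, conj_lineReflG]

theorem T_fix (k : Fin 315) : T k k = k := by
  have h := conj_lineReflG (lineReflG k) k
  rw [mul_inv_cancel_right] at h
  exact (lineReflG_injective h).symm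

theorem T24 : T 24 = toPerm 315 g24 := phi24

/-! ### words in the generators, evaluated at points -/

/-- the four generators -/
def gl : List (List ℕ) := [g24, g77, g165, g202]

/-- the image of a point under a word -/
def appW (w : List ℕ) (p : ℕ) : ℕ := w.foldr (fun a q => (gl.getD a []).getD q 0) p

theorem gl_spec (a : ℕ) (ha : a < 4) : Valid 315 (gl.getD a []) ∧ toPerm 315 (gl.getD a []) ∈ PJ2 := by
  have hmem : gl.getD a [] ∈ [g24, g77, g165, g202] := by
    rw [List.getD_eq_getElem _ _ (by simpa [gl] using ha)]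
    exact List.getElem_mem _
  exact gens_spec _ hmem

theorem exists_word (w : List ℕ) (hw : ∀ a ∈ w, a < 4) :
    ∃ τ ∈ PJ2, ∀ p : Fin 315, ((τ p : Fin 315) : ℕ) = appW w p.val := by
  induction w with
  | nil => exact ⟨1, PJ2.one_mem, fun p => rfl⟩
  | cons a w ih =>
    obtain ⟨τ, hτ, hp⟩ := ih (fun b hb => hw b (List.mem_cons_of_mem _ hb))
    obtain ⟨hv, hm⟩ := gl_spec a (hw a List.mem_cons_self)
    refine ⟨toPerm 315 (gl.getD a []) * τ, PJ2.mul_mem hm hτ, fun p => ?_⟩
    rw [Equiv.Perm.mul_apply, toPerm_apply hv, hp p]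
    rfl

/-- the fixed points of the first generator -/
def fixL : List ℕ := [23, 24, 88, 100, 119, 194, 215, 238, 243, 275, 309]

/-- for each fixed point other than `24`: a word taking `24` to it, and a fixed point that the
word takes to a point that is not fixed -/
def tab : List (ℕ × List ℕ × ℕ) :=
  [(23, [2, 0, 1, 3, 1, 0, 3, 0, 1, 2], 23), (88, [3, 2], 23), (100, [1], 23),
   (119, [2, 1, 3, 0, 1, 0, 3, 1, 2], 23), (194, [3, 1, 0, 1, 3], 23), (215, [1, 0, 1, 3, 2], 23),
   (238, [3, 1, 3, 2, 1, 3], 23), (243, [3, 1, 2, 1, 0, 3, 2, 1, 3], 23), (275, [1, 3, 1], 23),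
   (309, [1, 0, 3, 1], 23)]

theorem chk_fix : (List.range 315).all (fun p => g24.getD p 0 != p || fixL.contains p) = true := by
  decide +kernel

theorem chk_fixed : fixL.all (fun p => g24.getD p 0 == p) = true := by decide +kernel

theorem chk_tab : tab.all (fun e => appW e.2.1 24 == e.1 && fixL.contains e.2.2 &&
    (g24.getD (appW e.2.1 e.2.2) 0 != appW e.2.1 e.2.2) && e.2.1.all (fun a => decide (a < 4))) =
    true := by decide +kernel

theorem chk_tabcover : fixL.all (fun k => k == 24 || tab.any (fun e => e.1 == k)) = true := by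
  decide +kernel

/-- **different lines have different reflections, on the lines** -/
theorem T_injective : Function.Injective T := by
  intro k i h
  obtain ⟨g, hg⟩ := exists_phi_eq i 24
  have h24 : T (phi g k) = T 24 := by rw [← conj_T, h, conj_T, hg]
  by_cases hk : phi g k = 24
  · exact (phi g).injective (hk.trans hg.symm)
  exfalso
  set k' := phi g k with hk'
  -- `k'` is a fixed point of the first generator
  have hfix : g24.getD k'.val 0 = k'.val := by
    have := T_fix k'
    rw [h24, T24] at this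
    have h2 := congrArg Fin.val this
    rwa [toPerm_apply valid_g24] at h2
  have hmem : k'.val ∈ fixL := by
    have := chk_fix
    rw [List.all_eq_true] at this
    have h2 := this k'.val (List.mem_range.2 k'.isLt)
    rw [Bool.or_eq_true, bne_iff_ne, List.contains_iff_mem] at h2
    rcases h2 with h2 | h2
    · exact absurd hfix h2
    · exact h2
  have hne : k'.val ≠ 24 := fun h => hk (Fin.ext h)
  have hcov := chk_tabcover
  rw [List.all_eq_true] at hcov
  have h3 := hcov k'.val hmem
  rw [Bool.or_eq_true, beq_iff_eq, List.any_eq_true] at h3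
  rcases h3 with h3 | ⟨e, he, hek⟩
  · exact hne h3
  rw [beq_iff_eq] at hek
  have htab := chk_tab
  rw [List.all_eq_true] at htab
  have h4 := htab e he
  rw [Bool.and_eq_true, Bool.and_eq_true, Bool.and_eq_true, beq_iff_eq, List.contains_iff_mem,
    bne_iff_ne, List.all_eq_true] at h4
  obtain ⟨⟨⟨h41, h42⟩, h43⟩, h44⟩ := h4
  obtain ⟨τ, hτ, hτp⟩ := exists_word e.2.1 (fun a ha => by simpa using h44 a ha)
  -- `τ` is the permutation of an element of the reflection group
  have hτr : τ ∈ phi.range := by rw [phi_range]; exact hτ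
  obtain ⟨g', rfl⟩ := hτr
  have hg'24 : phi g' 24 = k' := by
    apply Fin.ext
    rw [hτp 24, ← hek]
    exact h41
  -- so it commutes with the first generator
  have hcomm : phi g' * T 24 * (phi g')⁻¹ = T 24 := by rw [conj_T, hg'24, h24]
  have hcomm' : phi g' * T 24 = T 24 * phi g' := by
    rw [← hcomm, inv_mul_cancel_right, hcomm]
  -- evaluate at the witness
  have hp : e.2.2 < 315 := by
    have := chk_fixed
    have hall : fixL.all (fun p => decide (p < 315)) = true := by decide
    rw [List.all_eq_true] at hall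
    simpa using hall _ h42
  have hpf : g24.getD e.2.2 0 = e.2.2 := by
    have := chk_fixed
    rw [List.all_eq_true] at this
    have := this _ h42
    rwa [beq_iff_eq] at this
  have h5 := congrArg (fun σ : Equiv.Perm (Fin 315) => ((σ ⟨e.2.2, hp⟩ : Fin 315) : ℕ)) hcomm'
  simp only [Equiv.Perm.mul_apply, T24] at h5
  rw [toPerm_apply valid_g24, hτp] at h5
  have h6 : toPerm 315 g24 ⟨e.2.2, hp⟩ = ⟨e.2.2, hp⟩ := by
    apply Fin.ext
    rw [toPerm_apply valid_g24]
    exact hpf
  rw [h6, hτp] at h5
  exact h43 h5.symm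

/-! ### the centralizer of a reflection -/

theorem mk_comm_iff (i : Fin 315) (g : twoJ2) :
    (QuotientGroup.mk g : J2) * QuotientGroup.mk (lineReflG i) =
      QuotientGroup.mk (lineReflG i) * QuotientGroup.mk g ↔ phi g i = i := by
  constructor
  · intro h
    have h1 : phi (g * lineReflG i) = phi (lineReflG i * g) := by
      have := congrArg (fun x : J2 => ((isoPJ2 x : ↥PJ2) : Equiv.Perm (Fin 315))) h
      simpa only [← QuotientGroup.mk_mul, isoPJ2_mk] using this
    rw [map_mul, map_mul] at h1
    have h2 : phi g * T i * (phi g)⁻¹ = T i := by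
      show phi g * phi (lineReflG i) * (phi g)⁻¹ = phi (lineReflG i)
      rw [h1, mul_inv_cancel_right]
    rw [conj_T] at h2
    exact T_injective h2
  · intro h
    have h1 := conj_lineReflG g i
    rw [h] at h1
    have h2 : g * lineReflG i = lineReflG i * g := by
      rw [← h1, inv_mul_cancel_right, h1]
    rw [← QuotientGroup.mk_mul, ← QuotientGroup.mk_mul, h2]

theorem centralizer_eq (i : Fin 315) :
    Subgroup.centralizer {(QuotientGroup.mk (lineReflG i) : J2)} =
      (MulAction.stabilizer ↥PJ2 i).map isoPJ2.symm.toMonoidHom := by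
  ext x
  rw [Subgroup.mem_map_equiv, MulEquiv.symm_symm, Subgroup.mem_centralizer_singleton_iff,
    MulAction.mem_stabilizer_iff]
  obtain ⟨g, rfl⟩ := QuotientGroup.mk_surjective x
  rw [mk_comm_iff]
  constructor
  · intro h
    show ((isoPJ2 (QuotientGroup.mk g) : ↥PJ2) : Equiv.Perm (Fin 315)) i = i
    rw [isoPJ2_mk]; exact h
  · intro h
    have : ((isoPJ2 (QuotientGroup.mk g) : ↥PJ2) : Equiv.Perm (Fin 315)) i = i := h
    rwa [isoPJ2_mk] at this

/-- **S1623, given the order of the group of the lines** -/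
theorem S1623_of (hcard : Nat.card ↥PJ2 = 604800) (f : Equiv.Perm ↥Cfsg.Spor.icoLeech)
    (hf : Cfsg.Spor.IsIcoReflection f) (hfm : f ∈ Cfsg.Spor.twoJ2) :
    ∃ (Q : Subgroup ↥(Subgroup.centralizer {(QuotientGroup.mk ⟨f, hfm⟩ : Cfsg.Spor.J2)}))
      (_ : Q.Normal), Nat.card Q = 32 ∧ Cfsg.IsExtraspecial 2 Q ∧
      Nonempty (↥(Subgroup.centralizer {(QuotientGroup.mk ⟨f, hfm⟩ : Cfsg.Spor.J2)}) ⧸ Q ≃*
        alternatingGroup (Fin 5)) := by
  obtain ⟨i, rfl⟩ := (isIcoReflection_iff_lineRefl f).1 hf
  have hC := centralizer_eq i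
  have e : ↥(MulAction.stabilizer ↥PJ2 i) ≃*
      ↥(Subgroup.centralizer {(QuotientGroup.mk (lineReflG i) : J2)}) :=
    (isoPJ2.symm.subgroupMap (MulAction.stabilizer ↥PJ2 i)).trans
      (MulEquiv.subgroupCongr hC.symm)
  exact (isTwoA5_stab hcard i).of_equiv e

end Cfsg.Agent.Lib.Helper8.J2Cent
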