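import Cfsg.Agent.Lib.Helper8.J2MultCert

/-! Kernel check of the coset certificate -/

set_option autoImplicit false
set_option maxRecDepth 1000000

namespace Cfsg.Agent.Lib.Helper8.J2Mult

theorem cert_ok : cert.allOK = true := by decide +kernel

end Cfsg.Agent.Lib.Helper8.J2Mult
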