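import Cfsg.Agent.Lib.Helper8.J2MultDefs
import Cfsg.Agent.Lib.Lead.J2.OutChk
import Cfsg.Agent.Lib.Lead.J2.PermData
import Cfsg.Agent.Lib.Helper6.U33PTC

/-! Kernel checks on the 315 lines for the Schur multiplier -/

set_option autoImplicit false
set_option maxRecDepth 1000000

namespace Cfsg.Agent.Lib.Helper8.J2Mult

open Cfsg.Agent.J2 Cfsg.Agent.J2.Card Cfsg.Agent.Lib.Helper6.SS Cfsg.Agent.Lib.Helper8.J2U33
open Cfsg.Agent.Lib.Helper8.J2Simp Cfsg.Agent.Lib.Helper6.TC Cfsg.Agent.Lib.Helper6.U33Sub Cfsg.Spor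

/-- the five lists are the reflections in their lines -/
theorem chk_tk : ∀ i < 5, Cfsg.Agent.J2.Card.unpack (tk (glN i)) = genL i := by decide +kernel

/-- the product of the commuting reflections in the lines `245` and `17` is the reflection in the line `14` -/
theorem chk_ac : Cfsg.Agent.Lib.Helper6.SS.cmp aL cL = Cfsg.Agent.J2.Card.unpack (tk 14) ∧ cL.getD 245 0 = 245 := by decide +kernel

/-- the relation of the presentation that uses the line `14` -/
theorem chk_x1 : dL.getD ((Cfsg.Agent.Lib.Helper6.SS.cmp aL cL).getD 139 0) 0 = 14 := by decide +kernel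

/-- the words of the certificate -/
theorem chk_cert : certOK = true ∧ certW.length = 51 ∧ certW.getD 6 [] = extra1 := by decide +kernel

/-- the label of the presentation -/
def labelN (i j : ℕ) : ℕ :=
  coxLabel P4.edges (Cfsg.Agent.Lib.Helper6.U33PTC.gen i) (Cfsg.Agent.Lib.Helper6.U33PTC.gen j)

/-- the words of the presentation -/
theorem chk_cox : ((List.range 4).all fun i => (List.range 4).all fun j =>
    conjOK (coxConj i j (labelN i j)) (rep2 i j (labelN i j))) = true := by decide +kernel

theorem chk_x23 : conjOK ([0, 3, 0], 1, [1, 0], 3) [0, 3, 0, 1, 0, 3, 0, 1, 0, 3, 0, 1] = true ∧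
    conjOK ([1, 3, 1], 2, [2, 1], 3) [1, 3, 1, 2, 1, 3, 1, 2, 1, 3, 1, 2] = true := by decide +kernel

/-- the generators of the group of the lines as words in the five reflections -/
theorem chk_gw : prodL 315 (gw24.map genL) = g24 ∧ prodL 315 (gw77.map genL) = g77 ∧
    prodL 315 (gw165.map genL) = g165 ∧ prodL 315 (gw202.map genL) = g202 := by decide +kernel

/-- the inverses of the generators of the stabiliser -/
theorem chk_inv : (valid 315 hL1i && valid 315 hL2i && valid 315 hL3i) = true ∧
    Cfsg.Agent.Lib.Helper6.SS.cmp hL1 hL1i = idL 315 ∧ Cfsg.Agent.Lib.Helper6.SS.cmp hL2 hL2i = idL 315 ∧ Cfsg.Agent.Lib.Helper6.SS.cmp hL3 hL3i = idL 315 := by decide +kernel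

/-- the generators of the stabiliser are products of commutators -/
theorem chk_chain : prodL 315 (chain1.map commL) = hL1 ∧ prodL 315 (chain2.map commL) = hL2 ∧
    prodL 315 (chain3.map commL) = hL3 := by decide +kernel

end Cfsg.Agent.Lib.Helper8.J2Mult
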