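import Mathlib

/-!
# A static certificate for an enumeration of cosets without coincidences

A group is generated by involutions `γ 0, …, γ (g - 1)`, the first `nsub` of which lie in a subgroup `H`, and some
words in the generators are trivial.  A table of `n` rows, in which every entry carries the time at which it was
found and the reason for it (the definition of a row, the entry in the other direction, a generator of the subgroup,
or a trivial word traced from some row with one gap, through entries found before), shows that `H` has index at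
most `n`.
-/

set_option autoImplicit false

namespace Cfsg.Agent.Lib.Helper8.CosetCert

/-! ### right cosets -/

section coset

variable {Γ : Type*} [Group Γ] (H : Subgroup Γ)

/-- two elements in the same right coset -/
def R (p q : Γ) : Prop := p * q⁻¹ ∈ H

variable {H}

theorem R.refl (p : Γ) : R H p p := by simp [R, H.one_mem]

theorem R.symm {p q : Γ} (h : R H p q) : R H q p := by
  have := H.inv_mem h
  simpa [R, mul_inv_rev] using this

theorem R.trans {p q r : Γ} (h1 : R H p q) (h2 : R H q r) : R H p r := by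
  have := H.mul_mem h1 h2
  simpa [R, mul_assoc] using this

theorem R.mul_right {p q : Γ} (h : R H p q) (z : Γ) : R H (p * z) (q * z) := by
  simpa [R, mul_assoc] using h

/-- the rows of a table that is closed under the generators cover the group -/
theorem index_le_of_closed {γ : ℕ → Γ} {g n : ℕ}
    (τ : ℕ → Γ) (hτ : τ 0 = 1) (hn : 0 < n)
    (hcl : ∀ a, a < n → ∀ x, x < g → ∃ b, b < n ∧ R H (τ a * γ x) (τ b))
    (hgen : ∀ z : Γ, ∃ u : List ℕ, (∀ x ∈ u, x < g) ∧ z = (u.map γ).prod) :
    H.index ≤ n ∧ H.index ≠ 0 := by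
  have key : ∀ (u : List ℕ), (∀ x ∈ u, x < g) → ∀ a, a < n →
      ∃ b, b < n ∧ R H (τ a * (u.map γ).prod) (τ b) := by
    intro u
    induction u with
    | nil =>
      intro _ a ha
      exact ⟨a, ha, by simpa using R.refl (H := H) (τ a)⟩
    | cons x u ih =>
      intro hu a ha
      obtain ⟨b, hb, hRb⟩ := hcl a ha x (hu x (List.mem_cons_self ..))
      obtain ⟨b', hb', hRb'⟩ := ih (fun y hy => hu y (List.mem_cons_of_mem _ hy)) b hb
      refine ⟨b', hb', ?_⟩
      rw [List.map_cons, List.prod_cons, ← mul_assoc]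
      exact (hRb.mul_right _).trans hRb'
  let φ : Fin n → Γ ⧸ H := fun b => QuotientGroup.mk ((τ b.val)⁻¹)
  have hsurj : Function.Surjective φ := by
    intro q
    induction q using QuotientGroup.induction_on with
    | H z =>
      obtain ⟨u, hu, hz⟩ := hgen z⁻¹
      obtain ⟨b, hb, hRb⟩ := key u hu 0 hn
      refine ⟨⟨b, hb⟩, ?_⟩
      show (QuotientGroup.mk ((τ b)⁻¹) : Γ ⧸ H) = QuotientGroup.mk z
      rw [QuotientGroup.eq]
      rw [hτ, one_mul, ← hz] at hRb
      have := H.inv_mem hRb
      simpa [R, mul_inv_rev] using this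
  have hfin : Finite (Γ ⧸ H) := Finite.of_surjective φ hsurj
  have hle : Nat.card (Γ ⧸ H) ≤ Nat.card (Fin n) := Nat.card_le_card_of_surjective φ hsurj
  rw [Nat.card_fin] at hle
  refine ⟨hle, ?_⟩
  show Nat.card (Γ ⧸ H) ≠ 0
  exact Nat.card_pos.ne'

end coset

/-! ### the certificate -/

/-- the data: the number of rows, of generators, of generators of the subgroup; the table; the times of its
entries; the reasons `(kind, row, word, place)`; the definitions of the rows `(row, generator)`; the words -/
structure Cert where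
  n : ℕ
  g : ℕ
  nsub : ℕ
  T : List (List ℕ)
  tm : List (List ℕ)
  rs : List (List (ℕ × ℕ × ℕ × ℕ))
  par : List (ℕ × ℕ)
  W : List (List ℕ)

namespace Cert

variable (C : Cert)

/-- the entry of the table -/
def Tg (a x : ℕ) : ℕ := (C.T.getD a []).getD x 0

/-- the time of an entry -/
def tg (a x : ℕ) : ℕ := (C.tm.getD a []).getD x 0

/-- the reason for an entry -/
def rg (a x : ℕ) : ℕ × ℕ × ℕ × ℕ := (C.rs.getD a []).getD x (0, 0, 0, 0)

/-- the definition of a row -/
def pg (b : ℕ) : ℕ × ℕ := C.par.getD b (0, 0)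

/-- follow the letters of a word from a row, through entries found before the time `t` -/
def scan (t : ℕ) : List ℕ → ℕ → Option ℕ
  | [], cur => some cur
  | x :: w, cur =>
    if C.tg cur x < t ∧ cur < C.n ∧ x < C.g then scan t w (C.Tg cur x) else none

/-- the check of one entry -/
def slotOK (a x : ℕ) : Bool :=
  decide (C.Tg a x < C.n) &&
  (match (C.rg a x).1 with
  | 0 => decide (C.pg (C.Tg a x) = (a, x) ∧ a < C.Tg a x)
  | 1 => decide (C.Tg (C.Tg a x) x = a ∧ C.tg (C.Tg a x) x < C.tg a x)
  | 2 => decide (a = 0 ∧ C.Tg a x = 0 ∧ x < C.nsub)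
  | _ =>
    decide ((C.W.getD (C.rg a x).2.2.1 [])[(C.rg a x).2.2.2]? = some x) &&
    (C.scan (C.tg a x) ((C.W.getD (C.rg a x).2.2.1 []).take (C.rg a x).2.2.2) (C.rg a x).2.1 == some a) &&
    (C.scan (C.tg a x) (((C.W.getD (C.rg a x).2.2.1 []).drop ((C.rg a x).2.2.2 + 1)).reverse)
      (C.rg a x).2.1 == some (C.Tg a x)))

/-- the check of the whole table -/
def allOK : Bool :=
  (List.range C.n).all fun a => (List.range C.g).all fun x => C.slotOK a x

/-! ### soundness -/

section sound

variable {Γ : Type*} [Group Γ] (γ : ℕ → Γ) (H : Subgroup Γ)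

/-- the element of the group that belongs to a row -/
noncomputable def τ (r : ℕ) : Γ :=
  if _h : (C.pg r).1 < r then τ (C.pg r).1 * γ (C.pg r).2 else 1
termination_by r
decreasing_by assumption

theorem τ_zero : C.τ γ 0 = 1 := by
  rw [τ]
  simp

theorem τ_def {a x r : ℕ} (har : a < r) (hP : C.pg r = (a, x)) : C.τ γ r = C.τ γ a * γ x := by
  rw [τ, dif_pos (by rw [hP]; exact har), hP]

/-- all that the table says with entries found before the time `t` is true -/
def Good (t : ℕ) : Prop :=
  ∀ a x, a < C.n → x < C.g → C.tg a x < t → R H (C.τ γ a * γ x) (C.τ γ (C.Tg a x))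

variable {γ H}

theorem scan_spec {t : ℕ} (hG : C.Good γ H t) : ∀ (w : List ℕ) (cur e : ℕ),
    C.scan t w cur = some e → R H (C.τ γ cur * (w.map γ).prod) (C.τ γ e)
  | [], cur, e, h => by
    simp only [scan, Option.some.injEq] at h
    subst h
    simpa using R.refl (H := H) (C.τ γ cur)
  | x :: w, cur, e, h => by
    rw [scan] at h
    split_ifs at h with hc
    obtain ⟨h1, h2, h3⟩ := hc
    have ih := scan_spec hG w _ e h
    have h4 := hG cur x h2 h3 h1
    rw [List.map_cons, List.prod_cons, ← mul_assoc]
    exact (h4.mul_right _).trans ih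

theorem prod_reverse_inv (hinv : ∀ x, γ x * γ x = 1) : ∀ l : List ℕ,
    ((l.reverse).map γ).prod = ((l.map γ).prod)⁻¹
  | [] => by simp
  | x :: l => by
    have hx : (γ x)⁻¹ = γ x := inv_eq_of_mul_eq_one_left (hinv x)
    simp only [List.reverse_cons, List.map_append, List.prod_append, prod_reverse_inv hinv l,
      List.map_cons, List.map_nil, List.prod_cons, List.prod_nil, mul_one, mul_inv_rev, hx]

theorem good_succ (hinv : ∀ x, γ x * γ x = 1) (hsub : ∀ x, x < C.nsub → γ x ∈ H)
    (hW : ∀ w ∈ C.W, (w.map γ).prod = 1)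
    (hall : ∀ a, a < C.n → ∀ x, x < C.g → C.slotOK a x = true) {t : ℕ} (hG : C.Good γ H t) :
    C.Good γ H (t + 1) := by
  intro a x ha hx ht
  rcases Nat.lt_or_ge (C.tg a x) t with h | h
  · exact hG a x ha hx h
  have ht' : C.tg a x = t := by omega
  have hs := hall a ha x hx
  rw [slotOK, Bool.and_eq_true, decide_eq_true_eq] at hs
  obtain ⟨hb, hs⟩ := hs
  have hxi : (γ x)⁻¹ = γ x := inv_eq_of_mul_eq_one_left (hinv x)
  split at hs
  · -- the definition of a row
    rw [decide_eq_true_eq] at hs
    rw [C.τ_def γ hs.2 hs.1]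
    exact R.refl _
  · -- the entry in the other direction
    rw [decide_eq_true_eq] at hs
    obtain ⟨h1, h2⟩ := hs
    have h3 := hG (C.Tg a x) x hb hx (by rw [ht'] at h2; exact h2)
    rw [h1] at h3
    have h4 := (h3.mul_right (γ x)).symm
    rw [mul_assoc, hinv, mul_one] at h4
    exact h4
  · -- a generator of the subgroup
    rw [decide_eq_true_eq] at hs
    obtain ⟨h1, h2, h3⟩ := hs
    rw [h2, h1, τ_zero, one_mul]
    show γ x * 1⁻¹ ∈ H
    rw [inv_one, mul_one]
    exact hsub x h3
  · -- a word with a gap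
    rw [Bool.and_eq_true, Bool.and_eq_true, decide_eq_true_eq, beq_iff_eq, beq_iff_eq] at hs
    obtain ⟨⟨h1, h2⟩, h3⟩ := hs
    set w := C.W.getD (C.rg a x).2.2.1 [] with hw
    set p := (C.rg a x).2.2.2 with hp
    set a0 := (C.rg a x).2.1 with ha0
    have hwm : (w.map γ).prod = 1 := by
      by_cases hk : (C.rg a x).2.2.1 < C.W.length
      · apply hW
        rw [hw, List.getD_eq_getElem _ _ hk]
        exact List.getElem_mem _
      · rw [hw, List.getD_eq_default _ _ (by omega)]
        simp
    rw [ht'] at h2 h3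
    have hF := C.scan_spec hG _ _ _ h2
    have hB := C.scan_spec hG _ _ _ h3
    rw [prod_reverse_inv hinv] at hB
    have hpl : p < w.length := by
      by_contra hcon
      rw [List.getElem?_eq_none (by omega)] at h1
      exact absurd h1 (by simp)
    have hsplit : w = w.take p ++ x :: w.drop (p + 1) := by
      have hx' : w[p] = x := by
        rw [List.getElem?_eq_getElem hpl] at h1
        exact Option.some.inj h1
      rw [← hx', ← List.drop_eq_getElem_cons hpl, List.take_append_drop]
    have hprod : ((w.take p).map γ).prod * γ x = (((w.drop (p + 1)).map γ).prod)⁻¹ := by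
      have h5 := hwm
      rw [hsplit, List.map_append, List.prod_append, List.map_cons, List.prod_cons, ← mul_assoc] at h5
      exact eq_inv_of_mul_eq_one_left h5
    have h6 := hF.mul_right (γ x)
    rw [mul_assoc, hprod] at h6
    exact h6.symm.trans hB

theorem good_all (hinv : ∀ x, γ x * γ x = 1) (hsub : ∀ x, x < C.nsub → γ x ∈ H)
    (hW : ∀ w ∈ C.W, (w.map γ).prod = 1)
    (hall : ∀ a, a < C.n → ∀ x, x < C.g → C.slotOK a x = true) : ∀ t, C.Good γ H t
  | 0 => fun _ _ _ _ h0 => absurd h0 (Nat.not_lt_zero _)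
  | t + 1 => C.good_succ hinv hsub hW hall (good_all hinv hsub hW hall t)

/-- **the checked table bounds the index** -/
theorem index_le (hinv : ∀ x, γ x * γ x = 1) (hsub : ∀ x, x < C.nsub → γ x ∈ H)
    (hW : ∀ w ∈ C.W, (w.map γ).prod = 1)
    (hgen : ∀ z : Γ, ∃ u : List ℕ, (∀ x ∈ u, x < C.g) ∧ z = (u.map γ).prod)
    (hn : 0 < C.n) (hOK : C.allOK = true) : H.index ≤ C.n ∧ H.index ≠ 0 := by
  have hall : ∀ a, a < C.n → ∀ x, x < C.g → C.slotOK a x = true := by
    intro a ha x hx
    rw [allOK, List.all_eq_true] at hOK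
    have h1 := hOK a (List.mem_range.2 ha)
    rw [List.all_eq_true] at h1
    exact h1 x (List.mem_range.2 hx)
  refine index_le_of_closed (C.τ γ) (C.τ_zero γ) hn (fun a ha x hx => ?_) hgen
  have hs := hall a ha x hx
  rw [slotOK, Bool.and_eq_true, decide_eq_true_eq] at hs
  exact ⟨C.Tg a x, hs.1, C.good_all hinv hsub hW hall (C.tg a x + 1) a x ha hx (Nat.lt_succ_self _)⟩

end sound

end Cert

end Cfsg.Agent.Lib.Helper8.CosetCert
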