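import Cfsg.Agent.Lib.Helper8.J2MultA
import Cfsg.Agent.Lib.Helper8.J2MultTC
import Cfsg.Agent.Lib.Helper8.J2MultCertChk
import Cfsg.Agent.Lib.Helper8.J2MultChk
import Cfsg.Agent.Lib.Helper8.J2StabMain
import Cfsg.Agent.Lib.Lead.J2.Stem
import Cfsg.Agent.Lib.Helper6.CoxLift
import Cfsg.Agent.Lib.Helper6.U33Simple

/-!
# The kernel of a stem extension of the group of the 315 lines has at most two elements

The reflections lift to an equivariant family of involutions (the stabiliser of a line is perfect), normalised by one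
commuting pair.  Five of the lifts generate the extension; four of them satisfy a presentation of `U₃(3)`, and a
checked table shows that the subgroup they generate has index at most `200`.
-/

set_option autoImplicit false

namespace Cfsg.Agent.Lib.Helper8.J2Mult

open Cfsg.Agent.J2 Cfsg.Agent.J2.Card Cfsg.Agent.Lib.Helper6.SS Cfsg.Agent.Lib.Helper8.J2U33
open Cfsg.Agent.Lib.Helper8.J2Simp Cfsg.Agent.Lib.Helper8.J2Stab Cfsg.Agent.Lib.Helper6.TC
open Cfsg.Agent.Lib.Helper6.U33Sub Cfsg.Spor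
open Cfsg.Agent.Lib.Helper8.CanonLift Cfsg.Agent.Lib.Helper8.CosetCert
open scoped commutatorElement

/-! ### general lemmas -/

theorem perfect_of_range {S P : Type*} [Group S] [Group P] (ι : S →* P) (hinj : Function.Injective ι)
    (X : Set P) (hr : ι.range = Subgroup.closure X) (hX : ∀ x ∈ X, x ∈ (commutator S).map ι) :
    commutator S = ⊤ := by
  rw [Subgroup.eq_top_iff']
  intro s
  have h1 : ι s ∈ Subgroup.closure X := by rw [← hr]; exact ⟨s, rfl⟩
  have h2 : Subgroup.closure X ≤ (commutator S).map ι := (Subgroup.closure_le _).2 hX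
  obtain ⟨c, hc, hcs⟩ := h2 h1
  rw [← hinj hcs]
  exact hc

theorem prod_comm_mem {S P : Type*} [Group S] [Group P] (ι : S →* P) :
    ∀ l : List (P × P), (∀ pq ∈ l, pq.1 ∈ ι.range ∧ pq.2 ∈ ι.range) →
      (l.map fun pq => ⁅pq.1, pq.2⁆).prod ∈ (commutator S).map ι
  | [], _ => by
    rw [List.map_nil, List.prod_nil]
    exact Subgroup.one_mem _
  | pq :: l, h => by
    rw [List.map_cons, List.prod_cons]
    refine Subgroup.mul_mem _ ?_
      (prod_comm_mem ι l fun pq' h' => h pq' (List.mem_cons_of_mem _ h'))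
    obtain ⟨⟨s1, h1⟩, ⟨s2, h2⟩⟩ := h pq List.mem_cons_self
    refine ⟨⁅s1, s2⁆, ?_, ?_⟩
    · rw [SetLike.mem_coe, commutator_def]
      exact Subgroup.commutator_mem_commutator (Subgroup.mem_top _) (Subgroup.mem_top _)
    · rw [map_commutatorElement, h1, h2]

theorem exists_word {Γ : Type*} [Group Γ] (γ : ℕ → Γ) (g : ℕ) (hinv : ∀ x, γ x * γ x = 1)
    (h : Subgroup.closure (γ '' Set.Iio g) = ⊤) (z : Γ) :
    ∃ u : List ℕ, (∀ x ∈ u, x < g) ∧ z = (u.map γ).prod := by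
  have hz : z ∈ Subgroup.closure (γ '' Set.Iio g) := by rw [h]; exact Subgroup.mem_top _
  induction hz using Subgroup.closure_induction with
  | mem z hz =>
    obtain ⟨x, hx, rfl⟩ := hz
    exact ⟨[x], by simpa using hx, by simp⟩
  | one => exact ⟨[], by simp, by simp⟩
  | mul a b _ _ ha hb =>
    obtain ⟨u, hu, rfl⟩ := ha
    obtain ⟨v, hv, rfl⟩ := hb
    refine ⟨u ++ v, ?_, by rw [List.map_append, List.prod_append]⟩
    intro x hx
    rcases List.mem_append.1 hx with h' | h'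
    · exact hu x h'
    · exact hv x h'
  | inv a _ ha =>
    obtain ⟨u, hu, rfl⟩ := ha
    exact ⟨u.reverse, fun x hx => hu x (List.mem_reverse.1 hx), (Cert.prod_reverse_inv hinv u).symm⟩

/-! ### the five lines and their reflections -/

theorem getD_ge5 {α : Type*} (a b c d e f : α) {i : ℕ} (h : 5 ≤ i) : [a, b, c, d, e].getD i f = f := by
  rw [List.getD_eq_default]
  simpa using h

theorem glN_lt (i : ℕ) : glN i < 315 := by
  unfold glN
  rcases Nat.lt_or_ge i 5 with h | h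
  · interval_cases i <;> decide
  · rw [getD_ge5 _ _ _ _ _ _ h]
    norm_num

/-- the lines of the five reflections -/
def pt (i : ℕ) : Fin 315 := ⟨glN i, glN_lt i⟩

theorem pt_ge5 {i : ℕ} (h : 5 ≤ i) : pt i = pt 0 := by
  apply Fin.ext
  show glN i = glN 0
  unfold glN
  rw [getD_ge5 _ _ _ _ _ _ h]
  rfl

theorem tk_glN (i : ℕ) : Cfsg.Agent.J2.Card.unpack (tk (glN i)) = genL i := by
  rcases Nat.lt_or_ge i 5 with h | h
  · exact chk_tk i h
  · have h0 := chk_tk 0 (by norm_num)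
    have e1 : glN i = glN 0 := congrArg Fin.val (pt_ge5 h)
    have e2 : genL i = genL 0 := by
      unfold genL
      rw [getD_ge5 _ _ _ _ _ _ h]
      rfl
    rw [e1, e2]
    exact h0

theorem genL_valid (i : ℕ) : Valid 315 (genL i) := by
  rw [← tk_glN]
  exact tk_valid (glN_lt i)

theorem Tp_pt (i : ℕ) : (Tp (pt i) : Equiv.Perm (Fin 315)) = toPerm 315 (genL i) := by
  rw [Tp_val, T_eq_tk]
  show toPerm 315 (Cfsg.Agent.J2.Card.unpack (tk (glN i))) = _
  rw [tk_glN]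

theorem Tp_pt_smul (i : ℕ) (q : Fin 315) :
    ((Tp (pt i) • q : Fin 315) : ℕ) = (genL i).getD q 0 := by
  rw [Subgroup.smul_def, Equiv.Perm.smul_def, Tp_pt, toPerm_apply (genL_valid i)]

theorem actW_spec (u : List ℕ) (q : Fin 315) :
    ((((u.map fun i => Tp (pt i)).prod) • q : Fin 315) : ℕ) = actW u q := by
  induction u with
  | nil => simp [actW]
  | cons i u ih =>
    rw [List.map_cons, List.prod_cons, mul_smul, Tp_pt_smul, ih]
    rfl

theorem Tp_conj' (g : ↥PJ2) (x : Fin 315) : g * Tp x * g⁻¹ = Tp (g • x) := Tp_conj g x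

theorem Tp_sq (x : Fin 315) : Tp x * Tp x = 1 := by
  apply Subtype.ext
  show Cfsg.Agent.Lib.Helper8.J2Cent.T x * Cfsg.Agent.Lib.Helper8.J2Cent.T x = 1
  rw [Cfsg.Agent.Lib.Helper8.J2Cent.T, ← map_mul, lineReflG_mul_self, map_one]

/-- the line `14` -/
def u14 : Fin 315 := ⟨14, by norm_num⟩

theorem Tp_ac : Tp (pt 0) * Tp (pt 2) = Tp u14 := by
  apply Subtype.ext
  rw [Subgroup.coe_mul, Tp_pt, Tp_pt, ← toPerm_cmp (genL_valid 0) (genL_valid 2), Tp_val, T_eq_tk]
  show toPerm 315 (Cfsg.Agent.Lib.Helper6.SS.cmp aL cL) = toPerm 315 (Cfsg.Agent.J2.Card.unpack (tk 14))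
  rw [chk_ac.1]

theorem Tp_ca_fix : Tp (pt 2) • pt 0 = pt 0 := by
  apply Fin.ext
  rw [Tp_pt_smul]
  exact chk_ac.2

theorem chk_d : actW [3, 0, 2] 139 = 14 := by decide +kernel

theorem Tp_d_fix : Tp (pt 3) • (Tp u14 • pt 3) = u14 := by
  rw [← Tp_ac, mul_smul]
  apply Fin.ext
  have := actW_spec [3, 0, 2] (pt 3)
  simp only [List.map_cons, List.map_nil, List.prod_cons, List.prod_nil, mul_one, mul_smul] at this
  rw [this]
  exact chk_d

/-! ### the group of the lines is generated by the five reflections -/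

theorem closure_Tp : Subgroup.closure (Tp '' (pt '' Set.Iio 5)) = ⊤ := by
  set K := Subgroup.closure (Tp '' (pt '' Set.Iio 5)) with hK
  have hmem : ∀ i, Tp (pt i) ∈ K := by
    intro i
    rcases Nat.lt_or_ge i 5 with h | h
    · exact Subgroup.subset_closure ⟨pt i, ⟨i, h, rfl⟩, rfl⟩
    · rw [pt_ge5 h]
      exact Subgroup.subset_closure ⟨pt 0, ⟨0, by norm_num, rfl⟩, rfl⟩
  have hword : ∀ w : List ℕ, ∃ k ∈ K,
      (k : Equiv.Perm (Fin 315)) = toPerm 315 (prodL 315 (w.map genL)) := by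
    intro w
    refine ⟨(w.map fun i => Tp (pt i)).prod, Subgroup.list_prod_mem _ ?_, ?_⟩
    · intro x hx
      rw [List.mem_map] at hx
      obtain ⟨i, _, rfl⟩ := hx
      exact hmem i
    · rw [toPerm_prodL (by
        intro u hu
        rw [List.mem_map] at hu
        obtain ⟨i, _, rfl⟩ := hu
        exact genL_valid i), SubmonoidClass.coe_list_prod, List.map_map, List.map_map]
      congr 1
      apply List.map_congr_left
      intro i _
      exact Tp_pt i
  have h4 : ∀ p ∈ ({toPerm 315 g24, toPerm 315 g77, toPerm 315 g165, toPerm 315 g202} :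
      Set (Equiv.Perm (Fin 315))), ∃ k ∈ K, (k : Equiv.Perm (Fin 315)) = p := by
    intro p hp
    simp only [Set.mem_insert_iff, Set.mem_singleton_iff] at hp
    rcases hp with rfl | rfl | rfl | rfl
    · rw [← chk_gw.1]; exact hword gw24
    · rw [← chk_gw.2.1]; exact hword gw77
    · rw [← chk_gw.2.2.1]; exact hword gw165
    · rw [← chk_gw.2.2.2]; exact hword gw202
  have hall : ∀ p ∈ Subgroup.closure ({toPerm 315 g24, toPerm 315 g77, toPerm 315 g165,
      toPerm 315 g202} : Set (Equiv.Perm (Fin 315))), ∃ k ∈ K, (k : Equiv.Perm (Fin 315)) = p := by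
    intro p hp
    induction hp using Subgroup.closure_induction with
    | mem p hp => exact h4 p hp
    | one => exact ⟨1, K.one_mem, rfl⟩
    | mul a b _ _ ha hb =>
      obtain ⟨k1, hk1, rfl⟩ := ha
      obtain ⟨k2, hk2, rfl⟩ := hb
      exact ⟨k1 * k2, K.mul_mem hk1 hk2, rfl⟩
    | inv a _ ha =>
      obtain ⟨k1, hk1, rfl⟩ := ha
      exact ⟨k1⁻¹, K.inv_mem hk1, rfl⟩
  rw [Subgroup.eq_top_iff']
  intro g
  obtain ⟨k, hk, hkg⟩ := hall g.1 g.2
  rw [← Subtype.ext hkg]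
  exact hk

/-! ### the stabiliser of a line is perfect -/

theorem B6_cases (P : List ℕ → Prop) (h1 : P hL1) (h2 : P hL2) (h3 : P hL3) (h4 : P hL1i)
    (h5 : P hL2i) (h6 : P hL3i) (i : ℕ) : P (B6 i) := by
  unfold B6
  rcases i with _ | _ | _ | _ | _ | _ | i
  · exact h1
  · exact h2
  · exact h3
  · exact h4
  · exact h5
  · exact h6
  · exact h1

theorem hLi_valid : Valid 315 hL1i ∧ Valid 315 hL2i ∧ Valid 315 hL3i := by
  have h := chk_inv.1
  rw [Bool.and_eq_true, Bool.and_eq_true] at h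
  exact ⟨valid_iff.1 h.1.1, valid_iff.1 h.1.2, valid_iff.1 h.2⟩

theorem hL_valid : Valid 315 hL1 ∧ Valid 315 hL2 ∧ Valid 315 hL3 :=
  ⟨hL1_spec.1, hL2_spec.1, hL3_spec.1⟩

theorem B6_valid (i : ℕ) : Valid 315 (B6 i) :=
  B6_cases (Valid 315) hL_valid.1 hL_valid.2.1 hL_valid.2.2 hLi_valid.1 hLi_valid.2.1 hLi_valid.2.2 i

theorem hL_inv : toPerm 315 hL1 * toPerm 315 hL1i = 1 ∧ toPerm 315 hL2 * toPerm 315 hL2i = 1 ∧
    toPerm 315 hL3 * toPerm 315 hL3i = 1 := by
  refine ⟨?_, ?_, ?_⟩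
  · rw [← toPerm_cmp hL_valid.1 hLi_valid.1, chk_inv.2.1, toPerm_idL]
  · rw [← toPerm_cmp hL_valid.2.1 hLi_valid.2.1, chk_inv.2.2.1, toPerm_idL]
  · rw [← toPerm_cmp hL_valid.2.2 hLi_valid.2.2, chk_inv.2.2.2, toPerm_idL]

theorem B6_mem (i : ℕ) : toPerm 315 (B6 i) ∈ H' := by
  have m1 : toPerm 315 hL1 ∈ H' := toPerm_mem_lgrp (by simp)
  have m2 : toPerm 315 hL2 ∈ H' := toPerm_mem_lgrp (by simp)
  have m3 : toPerm 315 hL3 ∈ H' := toPerm_mem_lgrp (by simp)
  refine B6_cases (fun l => toPerm 315 l ∈ H') m1 m2 m3 ?_ ?_ ?_ i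
  · rw [eq_inv_of_mul_eq_one_right hL_inv.1]; exact H'.inv_mem m1
  · rw [eq_inv_of_mul_eq_one_right hL_inv.2.1]; exact H'.inv_mem m2
  · rw [eq_inv_of_mul_eq_one_right hL_inv.2.2]; exact H'.inv_mem m3

theorem B6_inv {i : ℕ} (hi : i < 6) : toPerm 315 (B6 ((i + 3) % 6)) = (toPerm 315 (B6 i))⁻¹ := by
  interval_cases i
  · exact eq_inv_of_mul_eq_one_right hL_inv.1
  · exact eq_inv_of_mul_eq_one_right hL_inv.2.1
  · exact eq_inv_of_mul_eq_one_right hL_inv.2.2
  · exact eq_inv_of_mul_eq_one_left hL_inv.1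
  · exact eq_inv_of_mul_eq_one_left hL_inv.2.1
  · exact eq_inv_of_mul_eq_one_left hL_inv.2.2

theorem toPerm_commL {p : ℕ × ℕ} (h1 : p.1 < 6) (h2 : p.2 < 6) :
    toPerm 315 (commL p) = ⁅toPerm 315 (B6 p.1), toPerm 315 (B6 p.2)⁆ := by
  unfold commL
  rw [toPerm_cmp ((B6_valid _).cmp (B6_valid _)) ((B6_valid _).cmp (B6_valid _)),
    toPerm_cmp (B6_valid _) (B6_valid _), toPerm_cmp (B6_valid _) (B6_valid _), B6_inv h1, B6_inv h2,
    commutatorElement_def]
  group

theorem chain_lt : ∀ p ∈ chain1 ++ chain2 ++ chain3, p.1 < 6 ∧ p.2 < 6 := by decide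

theorem toPerm_chain (ch : List (ℕ × ℕ)) (hch : ∀ p ∈ ch, p.1 < 6 ∧ p.2 < 6) :
    toPerm 315 (prodL 315 (ch.map commL)) =
      (ch.map fun p => ⁅toPerm 315 (B6 p.1), toPerm 315 (B6 p.2)⁆).prod := by
  rw [toPerm_prodL (by
    intro u hu
    rw [List.mem_map] at hu
    obtain ⟨p, _, rfl⟩ := hu
    exact ((B6_valid _).cmp (B6_valid _)).cmp ((B6_valid _).cmp (B6_valid _))), List.map_map]
  congr 1
  apply List.map_congr_left
  intro p hp
  exact toPerm_commL (hch p hp).1 (hch p hp).2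

/-- the embedding of the stabiliser in the symmetric group -/
noncomputable def ιS : ↥(MulAction.stabilizer ↥PJ2 o) →* Equiv.Perm (Fin 315) :=
  PJ2.subtype.comp (MulAction.stabilizer ↥PJ2 o).subtype

theorem ιS_injective : Function.Injective ιS := fun _ _ h => Subtype.ext (Subtype.ext h)

theorem ιS_range : ιS.range = H' := by
  ext x
  constructor
  · rintro ⟨s, rfl⟩
    have h : s.1 ∈ H'.subgroupOf PJ2 := by
      rw [stab_eq card_PJ2]
      exact s.2
    exact Subgroup.mem_subgroupOf.1 h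
  · intro hx
    have h1 : (⟨x, H'_le hx⟩ : ↥PJ2) ∈ MulAction.stabilizer ↥PJ2 o := by
      rw [← stab_eq card_PJ2, Subgroup.mem_subgroupOf]
      exact hx
    exact ⟨⟨⟨x, H'_le hx⟩, h1⟩, rfl⟩

theorem chain_mem (ch : List (ℕ × ℕ)) (hch : ∀ p ∈ ch, p.1 < 6 ∧ p.2 < 6) :
    toPerm 315 (prodL 315 (ch.map commL)) ∈
      (commutator ↥(MulAction.stabilizer ↥PJ2 o)).map ιS := by
  rw [toPerm_chain ch hch]
  have := prod_comm_mem ιS (ch.map fun p => (toPerm 315 (B6 p.1), toPerm 315 (B6 p.2))) (by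
    intro pq hpq
    rw [List.mem_map] at hpq
    obtain ⟨p, _, rfl⟩ := hpq
    rw [ιS_range]
    exact ⟨B6_mem _, B6_mem _⟩)
  rw [List.map_map] at this
  exact this

theorem stab_perfect : commutator ↥(MulAction.stabilizer ↥PJ2 o) = ⊤ := by
  apply perfect_of_range ιS ιS_injective {g | ∃ s ∈ [hL1, hL2, hL3], g = toPerm 315 s}
  · rw [ιS_range]
    rfl
  · rintro x ⟨s, hs, rfl⟩
    simp only [List.mem_cons, List.not_mem_nil, or_false] at hs
    have hl := chain_lt
    rcases hs with rfl | rfl | rfl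
    · rw [← chk_chain.1]
      exact chain_mem _ fun p hp => hl p (by simp [hp])
    · rw [← chk_chain.2.1]
      exact chain_mem _ fun p hp => hl p (by simp [hp])
    · rw [← chk_chain.2.2]
      exact chain_mem _ fun p hp => hl p (by simp [hp])

/-! ### the lifts of the five reflections -/

section lifts

variable {Γ : Type} [Group Γ] {σ : Γ →* ↥PJ2} (Λ : Lifts σ Tp)

/-- the five lifted reflections -/
def γ (x : ℕ) : Γ := Λ.L (pt x)

theorem γ_sq (x : ℕ) : γ Λ x * γ Λ x = 1 := Λ.sq _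

theorem prod_γ (w : List ℕ) : (w.map (γ Λ)).prod = Λ.ev (w.map pt) := by
  unfold Lifts.ev
  rw [List.map_map]
  rfl

theorem conj_word (u : List ℕ) (x : ℕ) :
    ((u ++ x :: u.reverse).map (γ Λ)).prod =
      Λ.L (((u.map fun i => Tp (pt i)).prod) • pt x) := by
  rw [prod_γ, List.map_append, List.map_cons, List.map_reverse, Λ.ev_conj, List.map_map]
  rfl

theorem word_of_conjOK {c : List ℕ × ℕ × List ℕ × ℕ} {w : List ℕ} (h : conjOK c w = true) :
    (w.map (γ Λ)).prod = 1 := by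
  unfold conjOK at h
  rw [Bool.and_eq_true, beq_iff_eq, beq_iff_eq] at h
  obtain ⟨h1, h2⟩ := h
  have e : ((c.1.map fun i => Tp (pt i)).prod) • pt c.2.1 =
      ((c.2.2.1.map fun i => Tp (pt i)).prod) • pt c.2.2.2 := by
    apply Fin.ext
    rw [actW_spec, actW_spec]
    exact h2
  rw [← prod_red (γ Λ) (γ_sq Λ) w, ← h1, prod_red (γ Λ) (γ_sq Λ), longW, List.map_append,
    List.prod_append, conj_word, conj_word, e, Λ.sq]

theorem extra1_eq_one (hacu : Λ.L (pt 0) * Λ.L (pt 2) = Λ.L u14) :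
    (extra1.map (γ Λ)).prod = 1 := by
  have hca : γ Λ 2 * γ Λ 0 = γ Λ 0 * γ Λ 2 := (Λ.comm_of_fix (x := pt 0) (y := pt 2) Tp_ca_fix).symm
  have h3 : (γ Λ 3 * Λ.L u14) ^ 3 = 1 := Λ.dih3 (x := pt 3) (y := u14) Tp_d_fix
  have hacu' : γ Λ 0 * γ Λ 2 = Λ.L u14 := hacu
  simp only [extra1, List.map_cons, List.map_nil, List.prod_cons, List.prod_nil, mul_one]
  calc γ Λ 3 * (γ Λ 0 * (γ Λ 2 * (γ Λ 3 * (γ Λ 2 * (γ Λ 0 * (γ Λ 3 * (γ Λ 2 * γ Λ 0)))))))
      = γ Λ 3 * (γ Λ 0 * γ Λ 2) * (γ Λ 3 * (γ Λ 2 * γ Λ 0)) * (γ Λ 3 * (γ Λ 2 * γ Λ 0)) := by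
        simp only [mul_assoc]
    _ = (γ Λ 3 * Λ.L u14) ^ 3 := by
        rw [hca, hacu', pow_succ, pow_two]
    _ = 1 := h3

/-- the words of the certificate are trivial -/
theorem certW_eq_one (hacu : Λ.L (pt 0) * Λ.L (pt 2) = Λ.L u14) :
    ∀ w ∈ certW, (w.map (γ Λ)).prod = 1 := by
  intro w hw
  obtain ⟨k, hk, rfl⟩ := List.getElem_of_mem hw
  have hk' : k < 51 := by rw [← chk_cert.2.1]; exact hk
  have h := chk_cert.1
  rw [certOK, List.all_eq_true] at h
  have h1 := h k (List.mem_range.2 hk')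
  rw [List.getD_eq_getElem _ _ hk, Bool.or_eq_true, beq_iff_eq] at h1
  rcases h1 with h1 | h1
  · rw [h1]
    exact extra1_eq_one Λ hacu
  · exact word_of_conjOK Λ h1

/-! ### the subgroup generated by four of the lifts -/

/-- the coincidences behind the words of the presentation -/
def p4C : List (List ℕ × ℕ × List ℕ × ℕ) :=
  ((List.range 4).flatMap fun i => (List.range 4).map fun j => coxConj i j (labelN i j)) ++
    [([0, 3, 0], 1, [1, 0], 3), ([1, 3, 1], 2, [2, 1], 3)]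

theorem chk_p4 : (coxWordsL P4.edges Cfsg.Agent.Lib.Helper6.U33PTC.gen 4 ++
    Cfsg.Agent.Lib.Helper6.U33PTC.extraWords).all (fun w =>
      w.all (fun x => decide (x < 4)) && ((w == extra1) || p4C.any (fun c => conjOK c w))) = true := by
  decide +kernel

/-- the images of the generators of the presentation -/
def fgen (s : P4.Gen) : Γ := γ Λ (Cfsg.Agent.Lib.Helper6.U33PTC.code s)

theorem fgen_gen {x : ℕ} (hx : x < 4) : fgen Λ (Cfsg.Agent.Lib.Helper6.U33PTC.gen x) = γ Λ x := by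
  interval_cases x <;> rfl

theorem p4_word_eq_one (hacu : Λ.L (pt 0) * Λ.L (pt 2) = Λ.L u14) {w : List ℕ}
    (hw : w ∈ coxWordsL P4.edges Cfsg.Agent.Lib.Helper6.U33PTC.gen 4 ++
      Cfsg.Agent.Lib.Helper6.U33PTC.extraWords) :
    (w.map fun x => fgen Λ (Cfsg.Agent.Lib.Helper6.U33PTC.gen x)).prod = 1 := by
  have h0 := List.all_eq_true.1 chk_p4 w hw
  rw [Bool.and_eq_true, List.all_eq_true, Bool.or_eq_true, beq_iff_eq, List.any_eq_true] at h0
  obtain ⟨h1, h2⟩ := h0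
  have hlt : ∀ x ∈ w, x < 4 := fun x hx => by simpa using h1 x hx
  have h3 : w.map (fun x => fgen Λ (Cfsg.Agent.Lib.Helper6.U33PTC.gen x)) = w.map (γ Λ) :=
    List.map_congr_left fun x hx => fgen_gen Λ (hlt x hx)
  rw [h3]
  rcases h2 with h2 | ⟨c, _, h2⟩
  · rw [h2]
    exact extra1_eq_one Λ hacu
  · exact word_of_conjOK Λ h2

theorem lift_rel (hacu : Λ.L (pt 0) * Λ.L (pt 2) = Λ.L u14) :
    ∀ r ∈ coxRelators P4.edges ∪ {r | r ∈ P4.extra}, FreeGroup.lift (fgen Λ) r = 1 :=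
  Cfsg.Agent.Lib.Helper6.CoxLift.lift_eq_one_of_words Cfsg.Agent.Lib.Helper6.U33PTC.gen
    Cfsg.Agent.Lib.Helper6.U33PTC.code 4 Cfsg.Agent.Lib.Helper6.U33PTC.extraWords
    (by intro s; cases s <;> exact ⟨by decide, rfl⟩) (fgen Λ)
    (Cfsg.Agent.Lib.Helper6.U33PTC.extra_iff (fgen Λ) fun _ => γ_sq Λ _)
    fun _ hw => p4_word_eq_one Λ hacu hw

end lifts

/-! ### the bound -/

section main

variable {Γ : Type} [Group Γ] (σ : Γ →* ↥PJ2)

/-- **the kernel of a stem extension of the group of the lines has at most two elements** -/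
theorem card_ker_le (hsurj : Function.Surjective σ) (hcen : σ.ker ≤ Subgroup.center Γ)
    (hder : σ.ker ≤ commutator Γ) : Nat.card σ.ker ≤ 2 := by
  obtain ⟨Λ, hacu⟩ := exists_lifts hsurj hcen Tp_conj' Tp_sq o stab_perfect (pt 0) (pt 2) u14
    Tp_ac Tp_ca_fix
  -- the homomorphism from the presented group
  let ψ : P4 →* Γ := PresentedGroup.toGroup (lift_rel Λ hacu)
  have hψ : ∀ s, ψ (PresentedGroup.of s) = fgen Λ s := fun s => PresentedGroup.toGroup.of _
  set H := ψ.range with hH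
  -- the order of the subgroup
  have hP4 : Nat.card P4 = 6048 := Cfsg.Agent.Lib.Helper6.U33Simple.main.2
  have : Finite P4 := Nat.finite_of_card_ne_zero (by rw [hP4]; norm_num)
  have hcardH : Nat.card ↥H ≤ 6048 := by
    rw [← hP4]
    exact Nat.card_le_card_of_surjective ψ.rangeRestrict ψ.rangeRestrict_surjective
  -- the generators
  have hsub : ∀ x, x < cert.nsub → γ Λ x ∈ H := by
    intro x hx
    have hx4 : x < 4 := hx
    rw [← fgen_gen Λ hx4, ← hψ]
    exact ⟨_, rfl⟩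
  have hgen : ∀ z : Γ, ∃ u : List ℕ, (∀ x ∈ u, x < cert.g) ∧ z = (u.map (γ Λ)).prod := by
    apply exists_word (γ Λ) 5 (γ_sq Λ)
    have := Λ.closure_eq_top hcen hder (pt '' Set.Iio 5) ⟨pt 0, 0, by norm_num, rfl⟩ closure_Tp
    rw [Set.image_image] at this
    exact this
  have hidx := cert.index_le (γ := γ Λ) (H := H) (γ_sq Λ) hsub (certW_eq_one Λ hacu) hgen
    (by decide) cert_ok
  have hidx' : H.index ≤ 200 := hidx.1
  -- the orders
  have h1 : Nat.card ↥H * H.index = Nat.card Γ := Subgroup.card_mul_index H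
  have h2 : Nat.card ↥σ.ker * σ.ker.index = Nat.card Γ := Subgroup.card_mul_index σ.ker
  have h3 : σ.ker.index = 604800 := by
    rw [Subgroup.index_ker, MonoidHom.range_eq_top.2 hsurj, Subgroup.card_top, card_PJ2]
  have h4 : Nat.card Γ ≤ 6048 * 200 := by
    rw [← h1]
    exact Nat.mul_le_mul hcardH hidx'
  rw [h3] at h2
  omega

end main

/-- **the kernel of a finite stem extension of `J₂` has at most two elements** -/
theorem card_ker_le_J2 {Γ : Type} [Group Γ] [Finite Γ] (σ : Γ →* Cfsg.Spor.J2)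
    (h : Cfsg.IsStemExtension σ) : Nat.card σ.ker ≤ 2 := by
  obtain ⟨hsurj, hcen, hder⟩ := h
  set σ' : Γ →* ↥PJ2 :=
    (Cfsg.Agent.Lib.Helper5.J2Iso.isoPJ2 : Cfsg.Spor.J2 →* ↥PJ2).comp σ with hσ'
  have hk : σ'.ker = σ.ker := by
    ext x
    rw [MonoidHom.mem_ker, MonoidHom.mem_ker, hσ', MonoidHom.comp_apply]
    exact Cfsg.Agent.Lib.Helper5.J2Iso.isoPJ2.map_eq_one_iff
  rw [← hk]
  apply card_ker_le σ'
  · exact Cfsg.Agent.Lib.Helper5.J2Iso.isoPJ2.surjective.comp hsurj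
  · rw [hk]; exact hcen
  · rw [hk]; exact hder

end Cfsg.Agent.Lib.Helper8.J2Mult
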