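import Cfsg.Agent.Lib.Helper8.J2SimpData
import Cfsg.Agent.Lib.Helper8.J2MultData
import Cfsg.Agent.Lib.Helper8.J2MultCert
import Cfsg.Agent.Lib.Helper6.SSPerm

/-!
# The checks on the 315 lines for the Schur multiplier: definitions

Words in five reflections; the relations of the certificate are of the form "two conjugates of reflections coincide",
which is a statement about lines.
-/

set_option autoImplicit false

namespace Cfsg.Agent.Lib.Helper8.J2Mult

open Cfsg.Agent.Lib.Helper6.SS Cfsg.Agent.Lib.Helper8.J2U33

/-- the five reflections, as lists -/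
def genL (i : ℕ) : List ℕ := [aL, bL, cL, dL, eL].getD i aL

/-- their lines -/
def glN (i : ℕ) : ℕ := [245, 97, 17, 139, 12].getD i 245

/-- the image of a line under a word in the five reflections -/
def actW (u : List ℕ) (p : ℕ) : ℕ := u.foldr (fun i q => (genL i).getD q 0) p

/-- free reduction of a word in involutions, with a stack -/
def redAux : List ℕ → List ℕ → List ℕ
  | st, [] => st.reverse
  | [], x :: w => redAux [x] w
  | s :: st, x :: w => if s = x then redAux st w else redAux (x :: s :: st) w

/-- free reduction of a word in involutions -/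
def red (w : List ℕ) : List ℕ := redAux [] w

theorem prod_redAux {Γ : Type*} [Group Γ] (γ : ℕ → Γ) (hinv : ∀ x, γ x * γ x = 1) :
    ∀ (w st : List ℕ), ((redAux st w).map γ).prod = ((st.reverse ++ w).map γ).prod
  | [], st => by
    rw [redAux, List.append_nil]
  | x :: w, [] => by
    rw [redAux, prod_redAux γ hinv w [x]]
    rfl
  | x :: w, s :: st => by
    rw [redAux]
    split_ifs with h
    · rw [prod_redAux γ hinv w st, h]
      simp only [List.reverse_cons, List.map_append, List.prod_append, List.map_cons, List.map_nil,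
        List.prod_cons, List.prod_nil, mul_one]
      rw [mul_assoc, ← mul_assoc (γ x), hinv, one_mul]
    · rw [prod_redAux γ hinv w (x :: s :: st)]
      simp only [List.reverse_cons, List.map_append, List.prod_append, List.map_cons, List.map_nil,
        List.prod_cons, List.prod_nil, mul_one, mul_assoc]

theorem prod_red {Γ : Type*} [Group Γ] (γ : ℕ → Γ) (hinv : ∀ x, γ x * γ x = 1) (w : List ℕ) :
    ((red w).map γ).prod = (w.map γ).prod := by
  rw [red, prod_redAux γ hinv]
  rfl

/-- the product of two conjugates of generators `u₁ x₁ u₁⁻¹ · u₂ x₂ u₂⁻¹` -/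
def longW (c : List ℕ × ℕ × List ℕ × ℕ) : List ℕ :=
  (c.1 ++ c.2.1 :: c.1.reverse) ++ (c.2.2.1 ++ c.2.2.2 :: c.2.2.1.reverse)

/-- a word is, up to free reduction, a product of two conjugates of generators that are the reflection
in the same line -/
def conjOK (c : List ℕ × ℕ × List ℕ × ℕ) (w : List ℕ) : Bool :=
  (red (longW c) == red w) && (actW c.1 (glN c.2.1) == actW c.2.2.1 (glN c.2.2.2))

/-- the relation `(i j)^m` as a coincidence of two conjugates -/
def coxConj (i j m : ℕ) : List ℕ × ℕ × List ℕ × ℕ :=
  match m with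
  | 1 => ([], i, [], j)
  | 2 => ([i], j, [], j)
  | 3 => ([i], j, [j], i)
  | _ => ([i, j, i], j, [], j)

/-- the relation of the presentation that uses the product of two commuting reflections -/
def extra1 : List ℕ := [3, 0, 2, 3, 2, 0, 3, 2, 0]

/-- the coincidences behind the words of the certificate -/
def allC : List (List ℕ × ℕ × List ℕ × ℕ) :=
  [coxConj 0 1 4, coxConj 0 2 2, coxConj 0 3 3, coxConj 1 2 3, coxConj 1 3 3, coxConj 2 3 4,
    ([], 0, [], 0), ([0, 3, 0], 1, [1, 0], 3), ([1, 3, 1], 2, [2, 1], 3)] ++ conjL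

/-- all the words of the certificate are accounted for -/
def certOK : Bool :=
  (List.range 51).all fun k =>
    (certW.getD k [] == extra1) || conjOK (allC.getD k ([], 0, [], 0)) (certW.getD k [])

/-- the six lists of the generators of the stabiliser and their inverses -/
def B6 (i : ℕ) : List ℕ :=
  [Cfsg.Agent.Lib.Helper8.J2Simp.hL1, Cfsg.Agent.Lib.Helper8.J2Simp.hL2, Cfsg.Agent.Lib.Helper8.J2Simp.hL3,
    hL1i, hL2i, hL3i].getD i Cfsg.Agent.Lib.Helper8.J2Simp.hL1

/-- the commutator of two of the six -/
def commL (p : ℕ × ℕ) : List ℕ :=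
  cmp (cmp (B6 p.1) (B6 p.2)) (cmp (B6 ((p.1 + 3) % 6)) (B6 ((p.2 + 3) % 6)))

end Cfsg.Agent.Lib.Helper8.J2Mult
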