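import Cfsg.Agent.Lib.Helper8.J2OuterData
import Cfsg.Agent.Lib.Helper8.J2SimpA
import Cfsg.Agent.Lib.Helper8.J2SimpData
import Cfsg.Agent.Lib.Lead.J2.PermData

/-! Kernel checks for a non-inner automorphism of the group of the 315 lines (generated by a script) -/

set_option autoImplicit false
set_option maxRecDepth 1000000

namespace Cfsg.Agent.Lib.Helper8.J2Outer

open Cfsg.Agent.J2 Cfsg.Agent.Lib.Helper6.SS Cfsg.Agent.Lib.Helper8.J2Simp

theorem chk_tau : valid 315 tauL = true ∧ Cfsg.Agent.Lib.Helper6.SS.cmp tauL tauL = idL 315 ∧ tauL.getD 0 0 = 0 := by decide +kernel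

theorem chk_img0 : prodL 315 (ow0.map (fun j => [g24, g77, g165, g202].getD j g24)) = Cfsg.Agent.Lib.Helper6.SS.cmp (Cfsg.Agent.Lib.Helper6.SS.cmp tauL g24) tauL := by decide +kernel

theorem chk_img1 : prodL 315 (ow1.map (fun j => [g24, g77, g165, g202].getD j g24)) = Cfsg.Agent.Lib.Helper6.SS.cmp (Cfsg.Agent.Lib.Helper6.SS.cmp tauL g77) tauL := by decide +kernel

theorem chk_img2 : prodL 315 (ow2.map (fun j => [g24, g77, g165, g202].getD j g24)) = Cfsg.Agent.Lib.Helper6.SS.cmp (Cfsg.Agent.Lib.Helper6.SS.cmp tauL g165) tauL := by decide +kernel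

theorem chk_img3 : prodL 315 (ow3.map (fun j => [g24, g77, g165, g202].getD j g24)) = Cfsg.Agent.Lib.Helper6.SS.cmp (Cfsg.Agent.Lib.Helper6.SS.cmp tauL g202) tauL := by decide +kernel

theorem chk_o32 : closedOK [hL1, hL2, hL3] o32 = true ∧ o32.contains p32 = true ∧ o32.contains (tauL.getD p32 0) = false ∧ p32 < 315 := by decide +kernel

theorem chk_fixpts : (List.range 315).all (fun p => !(hL1.getD p 0 == p && hL2.getD p 0 == p && hL3.getD p 0 == p) || p == 0) = true := by decide +kernel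

end Cfsg.Agent.Lib.Helper8.J2Outer
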