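import Cfsg.Agent.Lib.Helper8.J2StabMain
import Cfsg.Agent.Lib.Helper8.J2OuterChk
import Cfsg.Agent.Lib.Helper7.J2Perm

/-!
# A non-inner automorphism of the group of the 315 lines
-/

set_option autoImplicit false

namespace Cfsg.Agent.Lib.Helper8.J2Outer

open Cfsg.Agent.J2 Cfsg.Agent.Lib.Helper6.SS Cfsg.Agent.Lib.Helper8.J2Simp

theorem tau_valid : Valid 315 tauL := valid_iff.1 chk_tau.1

/-- the involution of the lines -/
noncomputable def τ : Equiv.Perm (Fin 315) := toPerm 315 tauL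

theorem τ_mul_self : τ * τ = 1 := by
  rw [τ, ← toPerm_cmp tau_valid tau_valid, chk_tau.2.1, toPerm_idL]

theorem τ_inv : τ⁻¹ = τ := inv_eq_of_mul_eq_one_right τ_mul_self

theorem τ_o : τ o = o := by
  apply Fin.ext
  rw [τ, toPerm_apply tau_valid]
  exact chk_tau.2.2

theorem conj_gen {g w : List ℕ} (hg : Valid 315 g)
    (h : prodL 315 (w.map (fun j => [g24, g77, g165, g202].getD j g24)) =
      Cfsg.Agent.Lib.Helper6.SS.cmp (Cfsg.Agent.Lib.Helper6.SS.cmp tauL g) tauL) :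
    τ * toPerm 315 g * τ⁻¹ ∈ PJ2 := by
  have h1 := word_spec (sub_gens w)
  rw [h] at h1
  rw [τ_inv, τ, ← toPerm_cmp tau_valid hg, ← toPerm_cmp (tau_valid.cmp hg) tau_valid]
  exact h1.2

theorem conj_mem_aux : ∀ x ∈ Subgroup.closure ({toPerm 315 g24, toPerm 315 g77, toPerm 315 g165,
    toPerm 315 g202} : Set (Equiv.Perm (Fin 315))), τ * x * τ⁻¹ ∈ PJ2 := by
  intro x hx
  induction hx using Subgroup.closure_induction with
  | mem x hx =>
    rcases hx with rfl | rfl | rfl | rfl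
    · exact conj_gen valid_g24 chk_img0
    · exact conj_gen valid_g77 chk_img1
    · exact conj_gen valid_g165 chk_img2
    · exact conj_gen valid_g202 chk_img3
  | one => rw [mul_one, mul_inv_cancel]; exact PJ2.one_mem
  | mul x y _ _ hx hy =>
    have : τ * (x * y) * τ⁻¹ = (τ * x * τ⁻¹) * (τ * y * τ⁻¹) := by group
    rw [this]
    exact PJ2.mul_mem hx hy
  | inv x _ hx =>
    have : τ * x⁻¹ * τ⁻¹ = (τ * x * τ⁻¹)⁻¹ := by group
    rw [this]
    exact PJ2.inv_mem hx

theorem conj_mem {x : Equiv.Perm (Fin 315)} (hx : x ∈ PJ2) : τ * x * τ⁻¹ ∈ PJ2 :=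
  conj_mem_aux x hx

theorem conj_conj (x : Equiv.Perm (Fin 315)) : τ * (τ * x * τ⁻¹) * τ⁻¹ = x := by
  rw [τ_inv]
  have : τ * (τ * x * τ) * τ = (τ * τ) * x * (τ * τ) := by group
  rw [this, τ_mul_self, one_mul, mul_one]

/-- **the automorphism**: conjugation by the involution of the lines -/
noncomputable def α : MulAut ↥PJ2 where
  toFun x := ⟨τ * x.1 * τ⁻¹, conj_mem x.2⟩
  invFun x := ⟨τ * x.1 * τ⁻¹, conj_mem x.2⟩
  left_inv x := Subtype.ext (conj_conj x.1)
  right_inv x := Subtype.ext (conj_conj x.1)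
  map_mul' x y := by
    apply Subtype.ext
    show τ * (x.1 * y.1) * τ⁻¹ = (τ * x.1 * τ⁻¹) * (τ * y.1 * τ⁻¹)
    group

theorem α_coe (x : ↥PJ2) : ((α x : ↥PJ2) : Equiv.Perm (Fin 315)) = τ * x.1 * τ⁻¹ := rfl

/-- a permutation commuting with the group of the lines is trivial -/
theorem eq_one_of_comm {c : Equiv.Perm (Fin 315)} (hc : ∀ x ∈ PJ2, c * x = x * c) : c = 1 := by
  -- the point `c o` is fixed by the three generators of the stabiliser
  have hfix : ∀ s ∈ [hL1, hL2, hL3], s.getD (c o).val 0 = (c o).val := by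
    intro s hs
    have hs' := hL_spec s hs
    have h1 := hc _ hs'.2
    have h2 : toPerm 315 s o = o := H'_fix _ (toPerm_mem_lgrp hs)
    have h3 : toPerm 315 s (c o) = c o := by
      have := congrArg (fun f : Equiv.Perm (Fin 315) => f o) h1
      simp only [Equiv.Perm.mul_apply] at this
      rw [h2] at this
      exact this.symm
    have h4 := congrArg (fun a : Fin 315 => (a : ℕ)) h3
    simp only [toPerm_apply hs'.1] at h4
    exact h4
  have hco : c o = o := by
    have h := List.all_eq_true.1 chk_fixpts (c o).val (List.mem_range.2 (c o).isLt)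
    rw [hfix hL1 (by simp), hfix hL2 (by simp), hfix hL3 (by simp)] at h
    simp only [beq_self_eq_true, Bool.and_self, Bool.not_true, Bool.false_or, beq_iff_eq] at h
    exact Fin.ext h
  ext a
  obtain ⟨z, hz, rfl⟩ := trans_PJ2 a
  have h1 := congrArg (fun f : Equiv.Perm (Fin 315) => f o) (hc z hz)
  simp only [Equiv.Perm.mul_apply] at h1
  rw [h1, hco, Equiv.Perm.one_apply]

/-- the involution of the lines is not in the group -/
theorem τ_not_mem : τ ∉ PJ2 := by
  intro hτ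
  have h1 : (⟨τ, hτ⟩ : ↥PJ2) ∈ MulAction.stabilizer ↥PJ2 o := by
    rw [MulAction.mem_stabilizer_iff]
    exact τ_o
  rw [← Cfsg.Agent.Lib.Helper8.J2Stab.stab_eq Cfsg.Agent.Lib.Helper7.J2Perm.card_PJ2,
    Subgroup.mem_subgroupOf] at h1
  have h2 : τ ∈ H' := h1
  have hmaps := mapsTo_of_closedOK (n := 315) (fun s hs => (hL_spec s hs).1) chk_o32.1 τ h2
  have hp : (⟨p32, chk_o32.2.2.2⟩ : Fin 315) ∈ lset 315 o32 := by
    show p32 ∈ o32
    exact List.contains_iff_mem.1 chk_o32.2.1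
  have h3 : ((τ ⟨p32, chk_o32.2.2.2⟩ : Fin 315) : ℕ) ∈ o32 := hmaps hp
  rw [τ, toPerm_apply tau_valid] at h3
  have h4 := chk_o32.2.2.1
  rw [← List.contains_iff_mem, h4] at h3
  exact Bool.false_ne_true h3

/-- **the group of the 315 lines has an automorphism that is not inner** -/
theorem exists_outer : ∃ α : MulAut ↥PJ2, ∀ g : ↥PJ2, α ≠ MulAut.conj g := by
  refine ⟨α, fun g hg => ?_⟩
  have hconj : ∀ x : ↥PJ2, τ * x.1 * τ⁻¹ = g.1 * x.1 * g.1⁻¹ := by
    intro x
    have h := congrArg (fun f : MulAut ↥PJ2 => ((f x : ↥PJ2) : Equiv.Perm (Fin 315))) hg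
    exact h
  have hc : ∀ x ∈ PJ2, (g.1⁻¹ * τ) * x = x * (g.1⁻¹ * τ) := by
    intro x hx
    have h1 := hconj ⟨x, hx⟩
    calc g.1⁻¹ * τ * x = g.1⁻¹ * (τ * x * τ⁻¹) * τ := by group
      _ = g.1⁻¹ * (g.1 * x * g.1⁻¹) * τ := by rw [h1]
      _ = x * (g.1⁻¹ * τ) := by group
  have h1 := eq_one_of_comm hc
  have h2 : τ = g.1 := by
    have := congrArg (fun f => g.1 * f) h1
    simpa using this
  exact τ_not_mem (h2 ▸ g.2)

end Cfsg.Agent.Lib.Helper8.J2Outer
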