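import Cfsg.Agent.Lib.Lead.J2.PermData

/-! Data for a non-inner automorphism of the group of the 315 lines (generated by a script) -/

namespace Cfsg.Agent.Lib.Helper8.J2Outer

/-- an involution of the 315 lines, fixing the line `0`, normalising the group of the lines -/
def tauL : List ℕ := [0, 173, 175, 176, 170, 174, 171, 172, 177, 250, 17, 12, 11, 14, 13, 15, 16, 10, 53, 54, 57, 50, 55, 51, 52, 56, 58, 65, 62, 61, 64, 60, 59, 63, 38, 35, 36, 41, 34, 40, 39, 37, 47, 43, 44, 48, 49, 42, 45, 46, 21, 23, 24, 18, 19, 22, 25, 20, 26, 32, 31, 29, 28, 33, 30, 27, 72, 68, 67, 71, 70, 69, 66, 73, 221, 220, 194, 195, 181, 180, 240, 241, 187, 186, 229, 228, 210, 211, 206, 207, 205, 204, 217, 216, 230, 231, 192, 193, 235, 234, 182, 183, 201, 200, 222, 223, 227, 226, 213, 212, 196, 197, 178, 179, 188, 189, 208, 209, 218, 219, 238, 239, 237, 236, 225, 224, 203, 202, 191, 190, 185, 184, 199, 198, 214, 215, 232, 233, 294, 293, 286, 285, 292, 291, 284, 283, 289,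 290, 297, 298, 287, 288, 295, 296, 253, 254, 252, 251, 260, 259, 263, 264, 262, 261, 265, 266, 257, 258, 256, 255, 4, 6, 7, 1, 5, 2, 3, 8, 112, 113, 79, 78, 100, 101, 131, 130, 83, 82, 114, 115, 129, 128, 96, 97, 76, 77, 110, 111, 133, 132, 103, 102, 127, 126, 91, 90, 88, 89, 116, 117, 86, 87, 109, 108, 134, 135, 93, 92, 118, 119, 75, 74, 104, 105, 125, 124, 107, 106, 85, 84, 94, 95, 136, 137, 99, 98, 123, 122, 120, 121, 80, 81, 242, 247, 248, 245, 246, 243, 244, 249, 9, 157, 156, 154, 155, 169, 168, 166, 167, 159, 158, 163, 162, 160, 161, 164, 165, 275, 276, 270, 269, 271, 272, 282, 281, 267, 268, 278, 277, 279, 280, 274, 273, 145, 144, 141, 140, 150, 151, 146, 147, 143, 142, 139, 138, 152, 153, 148, 149, 302, 301, 300, 299, 304, 303, 306, 305, 307, 308, 309, 310, 313, 314, 311, 312]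

/-- words in the four generators for the conjugates of the four generators -/
def ow0 : List ℕ := [1, 0, 3, 1, 3, 2, 0, 2, 3, 1, 3, 0, 1]

def ow1 : List ℕ := [0, 1, 3, 2, 0, 1, 3, 0, 3, 1, 0, 2, 3, 1, 0]

def ow2 : List ℕ := [1, 0, 3, 1, 3, 1, 2, 1, 0, 1, 2, 1, 3, 1, 3, 0, 1]

def ow3 : List ℕ := [1, 3, 1, 3, 1, 2, 1, 0, 1, 2, 1, 3, 1, 3, 1]

/-- an orbit of length 32 of the stabiliser of the line `0` -/
def o32 : List ℕ := [138, 139, 140, 141, 142, 143, 144, 145, 146, 147, 148, 149, 150, 151, 152, 153, 251, 252, 253, 254, 255, 256, 257, 258, 259, 260, 261, 262, 263, 264, 265, 266]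

/-- a point of that orbit -/
def p32 : ℕ := 138

end Cfsg.Agent.Lib.Helper8.J2Outer
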