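import Cfsg.Agent.Lib.Helper8.J2SimpData
import Cfsg.Agent.Lib.Helper8.J2SimpA
import Cfsg.Agent.Lib.Lead.J2.PermGrp

/-! Kernel checks for the simplicity of the group of the 315 lines (generated by a script): the stabilizer and its orbits -/

set_option autoImplicit false
set_option maxRecDepth 1000000

namespace Cfsg.Agent.Lib.Helper8.J2Simp

open Cfsg.Agent.J2 Cfsg.Agent.Lib.Helper6.SS

theorem chk_h1 : prodL 315 [g77, g24, g202, g77, g202, g165, g24] = hL1 := by decide +kernel

theorem chk_h2 : prodL 315 [g165, g24, g202, g77, g202, g24, g165] = hL2 := by decide +kernel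

theorem chk_h3 : prodL 315 [g165, g77, g202, g77, g202, g24, g77, g202] = hL3 := by decide +kernel

theorem chk_ttree : ptreeOK [g24, g77, g165, g202] tpts ttree = true := by decide +kernel

theorem chk_tcover : (List.range 315).all (fun b => tpts.contains b) = true := by decide +kernel

theorem chk_tlen : tpts.length = 315 ∧ tpts.getD 0 1 = 0 ∧ tpts.all (fun p => decide (p < 315)) = true := by decide +kernel

theorem chk_fix0 : closedOK [hL1, hL2, hL3] [0] = true := by decide +kernel

theorem chk_dT1 : ptreeOK [hL1, hL2, hL3] dL1 dT1 = true := by decide +kernel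

theorem chk_dC1 : closedOK [hL1, hL2, hL3] dL1 = true := by decide +kernel

theorem chk_dN1 : dL1.length = 10 ∧ dL1.Nodup ∧ dL1.all (fun p => decide (p < 315)) = true ∧ dL1.contains 0 = false := by decide +kernel

theorem chk_dT2 : ptreeOK [hL1, hL2, hL3] dL2 dT2 = true := by decide +kernel

theorem chk_dC2 : closedOK [hL1, hL2, hL3] dL2 = true := by decide +kernel

theorem chk_dN2 : dL2.length = 32 ∧ dL2.Nodup ∧ dL2.all (fun p => decide (p < 315)) = true ∧ dL2.contains 0 = false := by decide +kernel

theorem chk_dT3 : ptreeOK [hL1, hL2, hL3] dL3 dT3 = true := by decide +kernel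

theorem chk_dC3 : closedOK [hL1, hL2, hL3] dL3 = true := by decide +kernel

theorem chk_dN3 : dL3.length = 32 ∧ dL3.Nodup ∧ dL3.all (fun p => decide (p < 315)) = true ∧ dL3.contains 0 = false := by decide +kernel

theorem chk_dT4 : ptreeOK [hL1, hL2, hL3] dL4 dT4 = true := by decide +kernel

theorem chk_dC4 : closedOK [hL1, hL2, hL3] dL4 = true := by decide +kernel

theorem chk_dN4 : dL4.length = 80 ∧ dL4.Nodup ∧ dL4.all (fun p => decide (p < 315)) = true ∧ dL4.contains 0 = false := by decide +kernel

theorem chk_dT5 : ptreeOK [hL1, hL2, hL3] dL5 dT5 = true := by decide +kernel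

theorem chk_dC5 : closedOK [hL1, hL2, hL3] dL5 = true := by decide +kernel

theorem chk_dN5 : dL5.length = 160 ∧ dL5.Nodup ∧ dL5.all (fun p => decide (p < 315)) = true ∧ dL5.contains 0 = false := by decide +kernel

/-- the suborbits -/
def dLs : Fin 5 → List ℕ := ![dL1, dL2, dL3, dL4, dL5]

/-- the trees of the suborbits -/
def dTs : Fin 5 → List (ℕ × ℕ) := ![dT1, dT2, dT3, dT4, dT5]

theorem chk_disj : ∀ i j : Fin 5, i ≠ j → (dLs i).all (fun b => !(dLs j).contains b) = true := by decide +kernel

theorem chk_cover : (List.range 315).all (fun b => b == 0 || (List.finRange 5).any (fun i => (dLs i).contains b)) = true := by decide +kernel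

end Cfsg.Agent.Lib.Helper8.J2Simp
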