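import Cfsg.Agent.Lib.Helper8.J2SimpA
import Cfsg.Agent.Lib.Lead.Extraspecial2Model
import Cfsg.Agent.Lib.Helper7.Qd2

/-!
# Tools for the structure of a point stabilizer: the structure `2^{1+4}.A5`, restriction of a
group of permutations to an invariant list of points, action on five pairs
-/

set_option autoImplicit false

namespace Cfsg.Agent.Lib.Helper8.J2Stab

open Cfsg.Agent.Lib.Helper6.SS Cfsg.Agent.Lib.Helper8.J2Simp

/-- a group with a normal extraspecial subgroup of order 32 and quotient the alternating group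
of degree five -/
def IsTwoA5 (X : Type) [Group X] : Prop :=
  ∃ (Q : Subgroup X) (_ : Q.Normal), Nat.card Q = 32 ∧ Cfsg.IsExtraspecial 2 Q ∧
    Nonempty (X ⧸ Q ≃* alternatingGroup (Fin 5))

theorem IsTwoA5.of_equiv {X Y : Type} [Group X] [Group Y] (e : X ≃* Y) (h : IsTwoA5 X) :
    IsTwoA5 Y := by
  obtain ⟨Q, hQ, hcard, hes, ⟨f⟩⟩ := h
  have hQ' : (Q.map e.toMonoidHom).Normal := hQ.map _ e.surjective
  refine ⟨Q.map e.toMonoidHom, hQ', ?_, ?_, ?_⟩
  · rw [Subgroup.card_map_of_injective e.injective, hcard]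
  · exact Cfsg.Agent.Lib.Helper7.isExtraspecial_of_mulEquiv (e.subgroupMap Q) hes
  · exact ⟨(QuotientGroup.congr Q (Q.map e.toMonoidHom) e rfl).symm.trans f⟩

/-! ### restriction to an invariant list of points -/

section res

variable {n m : ℕ} (L : List ℕ) (hlen : L.length = m) (hlt : ∀ p ∈ L, p < n)

/-- the points of the list -/
def emb (i : Fin m) : Fin n :=
  ⟨L[i.val]'(by rw [hlen]; exact i.isLt), hlt _ (List.getElem_mem _)⟩

theorem emb_val (i : Fin m) : (emb L hlen hlt i : ℕ) = L.getD i.val 0 := by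
  rw [emb, List.getD_eq_getElem _ _ (by rw [hlen]; exact i.isLt)]

theorem emb_injective (hnd : L.Nodup) : Function.Injective (emb L hlen hlt) := by
  intro i j hij
  have := congrArg Fin.val hij
  simp only [emb] at this
  exact Fin.ext ((List.Nodup.getElem_inj_iff hnd).1 this)

theorem emb_mem (i : Fin m) : emb L hlen hlt i ∈ lset n L := by
  show (emb L hlen hlt i : ℕ) ∈ L
  exact List.getElem_mem _

/-- the restricted function -/
def resFun (g : Equiv.Perm (Fin n)) (i : Fin m) : Fin m :=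
  if h : L.idxOf (g (emb L hlen hlt i)).val < m then ⟨L.idxOf (g (emb L hlen hlt i)).val, h⟩ else i

theorem emb_resFun {g : Equiv.Perm (Fin n)} (hg : Set.MapsTo g (lset n L) (lset n L))
    (i : Fin m) : emb L hlen hlt (resFun L hlen hlt g i) = g (emb L hlen hlt i) := by
  have hmem : (g (emb L hlen hlt i)).val ∈ L := hg (emb_mem L hlen hlt i)
  have hidx : L.idxOf (g (emb L hlen hlt i)).val < m :=
    lt_of_lt_of_eq (List.idxOf_lt_length_of_mem hmem) hlen
  apply Fin.ext
  rw [resFun, dif_pos hidx]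
  simp only [emb]
  exact List.getElem_idxOf _

/-- the restriction, as a homomorphism to the monoid of functions -/
def resEnd (K : Subgroup (Equiv.Perm (Fin n)))
    (hK : ∀ g ∈ K, Set.MapsTo g (lset n L) (lset n L)) (hnd : L.Nodup) :
    ↥K →* Function.End (Fin m) where
  toFun g := resFun L hlen hlt g.1
  map_one' := by
    funext i
    apply emb_injective L hlen hlt hnd
    show emb L hlen hlt (resFun L hlen hlt (1 : Equiv.Perm (Fin n)) i) = emb L hlen hlt i
    rw [emb_resFun L hlen hlt (hK _ K.one_mem)]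
    rfl
  map_mul' := by
    intro g h
    funext i
    apply emb_injective L hlen hlt hnd
    show emb L hlen hlt (resFun L hlen hlt (g.1 * h.1) i) =
      emb L hlen hlt (resFun L hlen hlt g.1 (resFun L hlen hlt h.1 i))
    rw [emb_resFun L hlen hlt (hK _ (K.mul_mem g.2 h.2)), emb_resFun L hlen hlt (hK _ g.2),
      emb_resFun L hlen hlt (hK _ h.2)]
    rfl

variable (K : Subgroup (Equiv.Perm (Fin n)))
  (hK : ∀ g ∈ K, Set.MapsTo g (lset n L) (lset n L)) (hnd : L.Nodup)

/-- **the restriction homomorphism** -/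
def resHom : ↥K →* Equiv.Perm (Fin m) := (resEnd L hlen hlt K hK hnd).toHomPerm

theorem resHom_apply (g : ↥K) (i : Fin m) :
    resHom L hlen hlt K hK hnd g i = resFun L hlen hlt g.1 i := rfl

theorem emb_resHom (g : ↥K) (i : Fin m) :
    emb L hlen hlt (resHom L hlen hlt K hK hnd g i) = g.1 (emb L hlen hlt i) := by
  rw [resHom_apply, emb_resFun L hlen hlt (hK _ g.2)]

/-- the restriction of a list permutation is the list permutation of the restricted list -/
theorem resHom_toPerm {s r : List ℕ} (hs : Valid n s) (hsK : toPerm n s ∈ K) (hr : Valid m r)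
    (hchk : ∀ i, i < m → s.getD (L.getD i 0) 0 = L.getD (r.getD i 0) 0) :
    resHom L hlen hlt K hK hnd ⟨toPerm n s, hsK⟩ = toPerm m r := by
  ext i
  congr 1
  apply emb_injective L hlen hlt hnd
  rw [emb_resHom]
  apply Fin.ext
  rw [toPerm_apply hs, emb_val, emb_val, toPerm_apply hr]
  exact hchk i.val i.isLt

end res

/-! ### the action on five pairs -/

/-- the permutation maps the first ten points to themselves and preserves the five pairs -/
def BP (σ : Equiv.Perm (Fin 42)) : Prop :=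
  (∀ i : Fin 42, i.val < 10 → (σ i).val < 10) ∧
  ∀ i j : Fin 42, i.val < 10 → j.val < 10 → i.val / 2 = j.val / 2 → (σ i).val / 2 = (σ j).val / 2

theorem BP.one : BP 1 := ⟨fun _ h => h, fun _ _ _ _ h => h⟩

theorem BP.mul {σ τ : Equiv.Perm (Fin 42)} (hσ : BP σ) (hτ : BP τ) : BP (σ * τ) :=
  ⟨fun i hi => hσ.1 _ (hτ.1 i hi),
    fun i j hi hj hij => hσ.2 _ _ (hτ.1 i hi) (hτ.1 j hj) (hτ.2 i j hi hj hij)⟩

/-- the induced function on the five pairs -/
def bf (σ : Equiv.Perm (Fin 42)) (b : Fin 5) : Fin 5 :=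
  ⟨((σ ⟨2 * b.val, by omega⟩).val / 2) % 5, Nat.mod_lt _ (by norm_num)⟩

theorem bf_one : bf 1 = id := by
  funext b
  apply Fin.ext
  simp only [bf, Equiv.Perm.one_apply, id_eq]
  omega

theorem bf_val (σ : Equiv.Perm (Fin 42)) (b : Fin 5) :
    (bf σ b).val = ((σ ⟨2 * b.val, by omega⟩).val / 2) % 5 := rfl

theorem bf_mul {σ τ : Equiv.Perm (Fin 42)} (hσ : BP σ) (hτ : BP τ) :
    bf (σ * τ) = bf σ ∘ bf τ := by
  funext b
  apply Fin.ext
  have hb := b.isLt
  have hp10 : (τ ⟨2 * b.val, by omega⟩).val < 10 := hτ.1 _ (by simp only; omega)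
  have e1 : (bf τ b).val = (τ ⟨2 * b.val, by omega⟩).val / 2 := by rw [bf_val]; omega
  have h1 := hσ.2 (τ ⟨2 * b.val, by omega⟩) ⟨2 * (bf τ b).val, by omega⟩ hp10
    (by simp only; omega) (by simp only; omega)
  rw [Function.comp_apply, bf_val, bf_val, Equiv.Perm.mul_apply, h1]

/-- the test of a list for the preservation of the five pairs -/
def bpOK (x : List ℕ) : Bool :=
  (List.range 10).all (fun i => decide (x.getD i 0 < 10)) &&
    (List.range 5).all (fun b => x.getD (2 * b) 0 / 2 == x.getD (2 * b + 1) 0 / 2)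

theorem BP_of_bpOK {x : List ℕ} (hx : Valid 42 x) (h : bpOK x = true) : BP (toPerm 42 x) := by
  rw [bpOK, Bool.and_eq_true, List.all_eq_true, List.all_eq_true] at h
  obtain ⟨h1, h2⟩ := h
  have h1' : ∀ i, i < 10 → x.getD i 0 < 10 := fun i hi => by
    simpa using h1 i (List.mem_range.2 hi)
  have h2' : ∀ b, b < 5 → x.getD (2 * b) 0 / 2 = x.getD (2 * b + 1) 0 / 2 := fun b hb => by
    simpa using h2 b (List.mem_range.2 hb)
  have key : ∀ i : Fin 42, i.val < 10 →
      ((toPerm 42 x i : Fin 42) : ℕ) / 2 = x.getD (2 * (i.val / 2)) 0 / 2 := by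
    intro i hi
    rw [toPerm_apply hx]
    rcases Nat.even_or_odd' i.val with ⟨c, hc | hc⟩
    · rw [hc]
      congr 2
      omega
    · have e : 2 * (i.val / 2) = 2 * c := by omega
      rw [e, hc, h2' c (by omega)]
  refine ⟨fun i hi => ?_, fun i j hi hj hij => ?_⟩
  · rw [toPerm_apply hx]; exact h1' _ hi
  · rw [key i hi, key j hj, hij]

/-- the list of the images of the five pairs -/
def blkL (x : List ℕ) : List ℕ :=
  [x.getD 0 0 / 2 % 5, x.getD 2 0 / 2 % 5, x.getD 4 0 / 2 % 5, x.getD 6 0 / 2 % 5,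
    x.getD 8 0 / 2 % 5]

theorem bf_toPerm {x : List ℕ} (hx : Valid 42 x) (b : Fin 5) :
    (bf (toPerm 42 x) b : ℕ) = (blkL x).getD b.val 0 := by
  simp only [bf]
  rw [toPerm_apply hx]
  fin_cases b <;> rfl

end Cfsg.Agent.Lib.Helper8.J2Stab
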