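import Cfsg.Agent.Lib.Helper8.J2StabData
import Cfsg.Agent.Lib.Helper8.J2StabA
import Cfsg.Agent.Lib.Helper8.J2SimpData

/-! Kernel checks for the structure of the stabilizer of a line (generated by a script) -/

set_option autoImplicit false
set_option maxRecDepth 1000000

namespace Cfsg.Agent.Lib.Helper8.J2Stab

open Cfsg.Agent.Lib.Helper6.SS Cfsg.Agent.Lib.Helper8.J2Simp

theorem chk_D42 : D42.length = 42 ∧ D42.Nodup ∧ D42.all (fun p => decide (p < 315)) = true := by decide +kernel

theorem chk_D42c : closedOK [hL1, hL2, hL3] D42 = true := by decide +kernel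

theorem chk_res1 : (List.range 42).all (fun i => hL1.getD (D42.getD i 0) 0 == D42.getD (mL1.getD i 0) 0) = true := by decide +kernel

theorem chk_res2 : (List.range 42).all (fun i => hL2.getD (D42.getD i 0) 0 == D42.getD (mL2.getD i 0) 0) = true := by decide +kernel

theorem chk_res3 : (List.range 42).all (fun i => hL3.getD (D42.getD i 0) 0 == D42.getD (mL3.getD i 0) 0) = true := by decide +kernel

theorem chk_six : six.all (fun s => valid 42 s) = true := by decide +kernel

theorem chk_inv1 : Cfsg.Agent.Lib.Helper6.SS.cmp mL1 mI1 = idL 42 := by decide +kernel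

theorem chk_inv2 : Cfsg.Agent.Lib.Helper6.SS.cmp mL2 mI2 = idL 42 := by decide +kernel

theorem chk_inv3 : Cfsg.Agent.Lib.Helper6.SS.cmp mL3 mI3 = idL 42 := by decide +kernel

theorem chk_sW1 : prodL 42 (sW1.map (fun i => six.getD i [])) = sL1 ∧ sW1.all (fun i => decide (i < 6)) = true := by decide +kernel

theorem chk_sW2 : prodL 42 (sW2.map (fun i => six.getD i [])) = sL2 ∧ sW2.all (fun i => decide (i < 6)) = true := by decide +kernel

theorem chk_sW3 : prodL 42 (sW3.map (fun i => six.getD i [])) = sL3 ∧ sW3.all (fun i => decide (i < 6)) = true := by decide +kernel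

theorem chk_sW4 : prodL 42 (sW4.map (fun i => six.getD i [])) = sL4 ∧ sW4.all (fun i => decide (i < 6)) = true := by decide +kernel

theorem chk_sW5 : prodL 42 (sW5.map (fun i => six.getD i [])) = sL5 ∧ sW5.all (fun i => decide (i < 6)) = true := by decide +kernel

theorem chk_sW6 : prodL 42 (sW6.map (fun i => six.getD i [])) = sL6 ∧ sW6.all (fun i => decide (i < 6)) = true := by decide +kernel

theorem chk_levels : checkLevels 42 sgs [] levels = true := by decide +kernel

theorem chk_card : (levels.map (fun l => l.U.length)).prod = 1920 := by decide +kernel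

theorem chk_bpU : levels.all (fun l => l.U.all bpOK) = true := by decide +kernel

theorem chk_AL : AL.length = 60 ∧ (AL.map blkL).Nodup ∧ AL.all (fun x => inT 42 levels x) = true := by decide +kernel

theorem chk_QL : QL.length = 32 ∧ QL.Nodup ∧ QL.all (fun x => inT 42 levels x && (blkL x == [0, 1, 2, 3, 4])) = true := by decide +kernel

theorem chk_z : QL.contains zL = true ∧ (zL != idL 42) = true ∧ Cfsg.Agent.Lib.Helper6.SS.cmp zL zL = idL 42 := by decide +kernel

theorem chk_cen : QL.all (fun x => Cfsg.Agent.Lib.Helper6.SS.cmp x zL == Cfsg.Agent.Lib.Helper6.SS.cmp zL x) = true := by decide +kernel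

theorem chk_comm : QL.all (fun x => QL.all (fun y => Cfsg.Agent.Lib.Helper6.SS.cmp x y == Cfsg.Agent.Lib.Helper6.SS.cmp y x || Cfsg.Agent.Lib.Helper6.SS.cmp x y == Cfsg.Agent.Lib.Helper6.SS.cmp zL (Cfsg.Agent.Lib.Helper6.SS.cmp y x))) = true := by decide +kernel

theorem chk_sqr : QL.all (fun x => Cfsg.Agent.Lib.Helper6.SS.cmp x x == idL 42 || Cfsg.Agent.Lib.Helper6.SS.cmp x x == zL) = true := by decide +kernel

theorem chk_cent : QL.all (fun x => x == idL 42 || x == zL || QL.any (fun y => Cfsg.Agent.Lib.Helper6.SS.cmp x y != Cfsg.Agent.Lib.Helper6.SS.cmp y x)) = true := by decide +kernel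

end Cfsg.Agent.Lib.Helper8.J2Stab
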