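import Cfsg.Agent.Lib.Helper8.J2Simp
import Cfsg.Agent.Lib.Helper8.J2StabChk

/-!
# The stabilizer of a line in the group of the 315 lines has the structure `2^{1+4}.A5`
-/

set_option autoImplicit false

namespace Cfsg.Agent.Lib.Helper8.J2Stab

open Cfsg.Agent.J2 Cfsg.Agent.Lib.Helper6.SS Cfsg.Agent.Lib.Helper8.J2Simp
open Cfsg.Agent.Lead.ES2
open scoped commutatorElement

/-! ### the group of degree 42 -/

theorem six_valid : ∀ s ∈ six, Valid 42 s := by
  intro s hs
  have := chk_six
  rw [List.all_eq_true] at this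
  exact valid_iff.1 (this s hs)

/-- the group generated by the three restricted generators -/
noncomputable def M0 : Subgroup (Equiv.Perm (Fin 42)) := lgrp 42 [mL1, mL2, mL3]

theorem toPerm_inv_of_cmp {a b : List ℕ} (ha : Valid 42 a) (hb : Valid 42 b)
    (h : Cfsg.Agent.Lib.Helper6.SS.cmp a b = idL 42) : toPerm 42 b = (toPerm 42 a)⁻¹ := by
  apply eq_inv_of_mul_eq_one_right
  rw [← toPerm_cmp ha hb, h, toPerm_idL]

theorem six_mem : ∀ s ∈ six, toPerm 42 s ∈ M0 := by
  have v := six_valid
  have h1 : toPerm 42 mL1 ∈ M0 := toPerm_mem_lgrp (by simp)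
  have h2 : toPerm 42 mL2 ∈ M0 := toPerm_mem_lgrp (by simp)
  have h3 : toPerm 42 mL3 ∈ M0 := toPerm_mem_lgrp (by simp)
  intro s hs
  simp only [six, List.mem_cons, List.not_mem_nil, or_false] at hs
  rcases hs with rfl | rfl | rfl | rfl | rfl | rfl
  · exact h1
  · exact h2
  · exact h3
  · rw [toPerm_inv_of_cmp (v mL1 (by simp [six])) (v mI1 (by simp [six])) chk_inv1]
    exact M0.inv_mem h1
  · rw [toPerm_inv_of_cmp (v mL2 (by simp [six])) (v mI2 (by simp [six])) chk_inv2]
    exact M0.inv_mem h2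
  · rw [toPerm_inv_of_cmp (v mL3 (by simp [six])) (v mI3 (by simp [six])) chk_inv3]
    exact M0.inv_mem h3

theorem getD_six_mem (i : ℕ) (hi : i < 6) : six.getD i [] ∈ six := by
  rw [List.getD_eq_getElem _ _ (by simpa [six] using hi)]
  exact List.getElem_mem _

theorem word6_spec {w : List ℕ} {s : List ℕ}
    (h : prodL 42 (w.map (fun i => six.getD i [])) = s ∧ w.all (fun i => decide (i < 6)) = true) :
    Valid 42 s ∧ toPerm 42 s ∈ M0 := by
  obtain ⟨h1, h2⟩ := h
  rw [List.all_eq_true] at h2
  have hmem : ∀ u ∈ w.map (fun i => six.getD i []), u ∈ six := by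
    intro u hu
    rw [List.mem_map] at hu
    obtain ⟨i, hi, rfl⟩ := hu
    exact getD_six_mem i (by simpa using h2 i hi)
  have hv : ∀ u ∈ w.map (fun i => six.getD i []), Valid 42 u := fun u hu => six_valid u (hmem u hu)
  rw [← h1]
  refine ⟨valid_prodL hv, ?_⟩
  rw [toPerm_prodL hv]
  apply Subgroup.list_prod_mem
  intro σ hσ
  rw [List.mem_map] at hσ
  obtain ⟨u, hu, rfl⟩ := hσ
  exact six_mem u (hmem u hu)

theorem sgs_spec : ∀ s ∈ sgs, Valid 42 s ∧ toPerm 42 s ∈ M0 := by
  intro s hs
  simp only [sgs, List.mem_cons, List.not_mem_nil, or_false] at hs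
  rcases hs with rfl | rfl | rfl | rfl | rfl | rfl | rfl | rfl | rfl
  · exact ⟨six_valid _ (by simp [six]), six_mem _ (by simp [six])⟩
  · exact ⟨six_valid _ (by simp [six]), six_mem _ (by simp [six])⟩
  · exact ⟨six_valid _ (by simp [six]), six_mem _ (by simp [six])⟩
  · exact word6_spec chk_sW1
  · exact word6_spec chk_sW2
  · exact word6_spec chk_sW3
  · exact word6_spec chk_sW4
  · exact word6_spec chk_sW5
  · exact word6_spec chk_sW6

theorem sgs_valid : ∀ s ∈ sgs, Valid 42 s := fun s hs => (sgs_spec s hs).1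

/-- the group of degree 42 -/
noncomputable def M : Subgroup (Equiv.Perm (Fin 42)) := Hgrp 42 sgs []

theorem main42 : (M : Set (Equiv.Perm (Fin 42))) = Tset 42 levels ∧
    (∀ l ∈ levels, ∀ u ∈ l.U, Valid 42 u) ∧ Nat.card M = 1920 := by
  obtain ⟨h1, h2, h3⟩ := main sgs sgs_valid levels [] chk_levels
  exact ⟨h1, h2, by rw [M, h3, chk_card]⟩

theorem M_eq : M = M0 := by
  rw [M, Hgrp_nil]
  apply le_antisymm
  · rw [Subgroup.closure_le]
    rintro g ⟨s, hs, rfl⟩
    exact (sgs_spec s hs).2
  · rw [M0, lgrp]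
    apply Subgroup.closure_mono
    rintro g ⟨s, hs, rfl⟩
    refine ⟨s, ?_, rfl⟩
    simp only [List.mem_cons, List.not_mem_nil, or_false] at hs
    rcases hs with rfl | rfl | rfl <;> simp [sgs]

instance : Finite ↥M := inferInstance

theorem mem_M_of_inT {x : List ℕ} (h : inT 42 levels x = true) :
    Valid 42 x ∧ toPerm 42 x ∈ M := by
  refine ⟨inT_valid h main42.2.1, ?_⟩
  have := inT_sound h main42.2.1
  rw [← main42.1] at this
  exact this

/-! ### the action on the five pairs -/

theorem BP_Tset : ∀ (lvls : List Lvl),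
    (∀ l ∈ lvls, ∀ u ∈ l.U, Valid 42 u ∧ bpOK u = true) → ∀ g ∈ Tset 42 lvls, BP g := by
  intro lvls
  induction lvls with
  | nil =>
    intro _ g hg
    have : g = 1 := hg
    rw [this]; exact BP.one
  | cons lv rest ih =>
    intro h g hg
    obtain ⟨u, hu, t, ht, rfl⟩ := hg
    have hu' := h lv List.mem_cons_self u hu
    exact (BP_of_bpOK hu'.1 hu'.2).mul
      (ih (fun l hl => h l (List.mem_cons_of_mem _ hl)) t ht)

theorem BP_M {g : Equiv.Perm (Fin 42)} (hg : g ∈ M) : BP g := by
  have hg' : g ∈ Tset 42 levels := by rw [← main42.1]; exact hg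
  refine BP_Tset levels ?_ g hg'
  intro l hl u hu
  refine ⟨main42.2.1 l hl u hu, ?_⟩
  have := chk_bpU
  rw [List.all_eq_true] at this
  have h1 := this l hl
  rw [List.all_eq_true] at h1
  exact h1 u hu

/-- the action on the five pairs, as functions -/
noncomputable def blockEnd : ↥M →* Function.End (Fin 5) where
  toFun g := bf g.1
  map_one' := bf_one
  map_mul' g h := bf_mul (BP_M g.2) (BP_M h.2)

/-- the action on the five pairs -/
noncomputable def blockHom : ↥M →* Equiv.Perm (Fin 5) := blockEnd.toHomPerm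

theorem blockHom_apply (g : ↥M) (b : Fin 5) : blockHom g b = bf g.1 b := rfl

theorem blkL_length (x : List ℕ) : (blkL x).length = 5 := rfl

theorem blockHom_eq_iff {x y : List ℕ} (hx : Valid 42 x) (hy : Valid 42 y)
    (hxM : toPerm 42 x ∈ M) (hyM : toPerm 42 y ∈ M) :
    blockHom ⟨toPerm 42 x, hxM⟩ = blockHom ⟨toPerm 42 y, hyM⟩ ↔ blkL x = blkL y := by
  constructor
  · intro h
    apply List.ext_getElem (by rw [blkL_length, blkL_length])
    intro i h1 h2
    rw [blkL_length] at h1
    have := congrArg (fun σ : Equiv.Perm (Fin 5) => ((σ ⟨i, h1⟩ : Fin 5) : ℕ)) h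
    simp only [blockHom_apply, bf_toPerm hx, bf_toPerm hy] at this
    rwa [List.getD_eq_getElem _ _ (by rw [blkL_length]; exact h1),
      List.getD_eq_getElem _ _ (by rw [blkL_length]; exact h1)] at this
  · intro h
    ext b
    rw [blockHom_apply, blockHom_apply, bf_toPerm hx, bf_toPerm hy, h]

theorem blockHom_eq_one {x : List ℕ} (hx : Valid 42 x) (hxM : toPerm 42 x ∈ M)
    (h : blkL x = [0, 1, 2, 3, 4]) : blockHom ⟨toPerm 42 x, hxM⟩ = 1 := by
  ext b
  rw [blockHom_apply, bf_toPerm hx, h]
  fin_cases b <;> rfl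

/-! ### the orders of the kernel and of the range -/

theorem AL_spec : ∀ x ∈ AL, Valid 42 x ∧ toPerm 42 x ∈ M := by
  intro x hx
  have := chk_AL.2.2
  rw [List.all_eq_true] at this
  exact mem_M_of_inT (this x hx)

theorem QL_spec : ∀ x ∈ QL, (Valid 42 x ∧ toPerm 42 x ∈ M) ∧ blkL x = [0, 1, 2, 3, 4] := by
  intro x hx
  have := chk_QL.2.2
  rw [List.all_eq_true] at this
  have h := this x hx
  rw [Bool.and_eq_true, beq_iff_eq] at h
  exact ⟨mem_M_of_inT h.1, h.2⟩

theorem card_range_ge : 60 ≤ Nat.card blockHom.range := by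
  have hlen : AL.length = 60 := chk_AL.1
  let f : Fin 60 → blockHom.range := fun k =>
    ⟨blockHom ⟨toPerm 42 (AL[k.val]'(by rw [hlen]; exact k.isLt)),
      (AL_spec _ (List.getElem_mem _)).2⟩, ⟨_, rfl⟩⟩
  have hf : Function.Injective f := by
    intro k l hkl
    have h1 := congrArg Subtype.val hkl
    simp only [f] at h1
    rw [blockHom_eq_iff (AL_spec _ (List.getElem_mem _)).1 (AL_spec _ (List.getElem_mem _)).1] at h1
    have hnd := chk_AL.2.1
    have h2 : (AL.map blkL)[k.val]'(by rw [List.length_map, hlen]; exact k.isLt) =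
        (AL.map blkL)[l.val]'(by rw [List.length_map, hlen]; exact l.isLt) := by
      rw [List.getElem_map, List.getElem_map]; exact h1
    exact Fin.ext ((List.Nodup.getElem_inj_iff hnd).1 h2)
  have := Nat.card_le_card_of_injective f hf
  rwa [Nat.card_fin] at this

/-- the elements of the kernel given by the list -/
noncomputable def qelt (x : List ℕ) (hx : x ∈ QL) : ↥blockHom.ker :=
  ⟨⟨toPerm 42 x, (QL_spec x hx).1.2⟩, by
    rw [MonoidHom.mem_ker]
    exact blockHom_eq_one (QL_spec x hx).1.1 _ (QL_spec x hx).2⟩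

theorem qelt_val (x : List ℕ) (hx : x ∈ QL) : (qelt x hx).1.1 = toPerm 42 x := rfl

theorem card_ker_ge : 32 ≤ Nat.card blockHom.ker := by
  have hlen : QL.length = 32 := chk_QL.1
  let f : Fin 32 → blockHom.ker := fun k =>
    qelt (QL[k.val]'(by rw [hlen]; exact k.isLt)) (List.getElem_mem _)
  have hf : Function.Injective f := by
    intro k l hkl
    have h1 : toPerm 42 (QL[k.val]'(by rw [hlen]; exact k.isLt)) =
        toPerm 42 (QL[l.val]'(by rw [hlen]; exact l.isLt)) :=
      congrArg (fun q : ↥blockHom.ker => q.1.1) hkl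
    have h2 := toPerm_inj (QL_spec _ (List.getElem_mem _)).1.1
      (QL_spec _ (List.getElem_mem _)).1.1 h1
    exact Fin.ext ((List.Nodup.getElem_inj_iff chk_QL.2.1).1 h2)
  have := Nat.card_le_card_of_injective f hf
  rwa [Nat.card_fin] at this

theorem card_ker_range : Nat.card blockHom.ker = 32 ∧ Nat.card blockHom.range = 60 := by
  have h1 := Subgroup.card_mul_index blockHom.ker
  rw [Subgroup.index_ker, main42.2.2] at h1
  have h2 := card_ker_ge
  have h3 := card_range_ge
  constructor <;> nlinarith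

theorem range_eq : blockHom.range = alternatingGroup (Fin 5) := by
  apply Equiv.Perm.eq_alternatingGroup_of_index_eq_two
  have h1 := Subgroup.card_mul_index blockHom.range
  rw [card_ker_range.2, Nat.card_perm, Nat.card_fin] at h1
  have : (5 : ℕ).factorial = 120 := by decide
  rw [this] at h1
  omega

/-! ### the kernel is extraspecial -/

theorem qelt_surj (q : ↥blockHom.ker) : ∃ x, ∃ hx : x ∈ QL, q = qelt x hx := by
  have hlen : QL.length = 32 := chk_QL.1
  let f : Fin 32 → blockHom.ker := fun k =>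
    qelt (QL[k.val]'(by rw [hlen]; exact k.isLt)) (List.getElem_mem _)
  have hf : Function.Injective f := by
    intro k l hkl
    have h1 : toPerm 42 (QL[k.val]'(by rw [hlen]; exact k.isLt)) =
        toPerm 42 (QL[l.val]'(by rw [hlen]; exact l.isLt)) :=
      congrArg (fun q : ↥blockHom.ker => q.1.1) hkl
    have h2 := toPerm_inj (QL_spec _ (List.getElem_mem _)).1.1
      (QL_spec _ (List.getElem_mem _)).1.1 h1
    exact Fin.ext ((List.Nodup.getElem_inj_iff chk_QL.2.1).1 h2)
  have hb : Function.Bijective f :=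
    hf.bijective_of_nat_card_le (by rw [card_ker_range.1, Nat.card_fin])
  obtain ⟨k, rfl⟩ := hb.2 q
  exact ⟨_, List.getElem_mem _, rfl⟩

theorem ker_ext {p q : ↥blockHom.ker} (h : p.1.1 = q.1.1) : p = q :=
  Subtype.ext (Subtype.ext h)

theorem QL_valid {x : List ℕ} (hx : x ∈ QL) : Valid 42 x := (QL_spec x hx).1.1

theorem zL_mem : zL ∈ QL := by
  have := chk_z.1
  rwa [List.contains_iff_mem] at this

/-- the central involution -/
noncomputable def zq : ↥blockHom.ker := qelt zL zL_mem

theorem qelt_mul_eq {x y w : List ℕ} (hx : x ∈ QL) (hy : y ∈ QL) (hw : w ∈ QL)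
    (h : Cfsg.Agent.Lib.Helper6.SS.cmp x y = w) : qelt x hx * qelt y hy = qelt w hw := by
  apply ker_ext
  show toPerm 42 x * toPerm 42 y = toPerm 42 w
  rw [← toPerm_cmp (QL_valid hx) (QL_valid hy), h]

theorem qelt_mul_val {x y : List ℕ} (hx : x ∈ QL) (hy : y ∈ QL) :
    (qelt x hx * qelt y hy).1.1 = toPerm 42 (Cfsg.Agent.Lib.Helper6.SS.cmp x y) := by
  show toPerm 42 x * toPerm 42 y = _
  rw [← toPerm_cmp (QL_valid hx) (QL_valid hy)]

theorem ctx_zq : Cfsg.Agent.S2880.Ctx zq := by
  have hz := zL_mem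
  refine ⟨?_, ?_, ?_, ?_, ?_⟩
  · intro h
    have h1 : toPerm 42 zL = toPerm 42 (idL 42) := by
      rw [toPerm_idL]
      exact congrArg (fun q : ↥blockHom.ker => q.1.1) h
    have h2 := toPerm_inj (QL_valid hz) (valid_idL 42) h1
    have h3 := chk_z.2.1
    rw [h2] at h3
    simp at h3
  · apply ker_ext
    rw [zq, qelt_mul_val hz hz, chk_z.2.2, toPerm_idL]
    rfl
  · intro q
    obtain ⟨x, hx, rfl⟩ := qelt_surj q
    apply ker_ext
    rw [zq, qelt_mul_val hx hz, qelt_mul_val hz hx]
    have := chk_cen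
    rw [List.all_eq_true] at this
    have h := this x hx
    rw [beq_iff_eq] at h
    rw [h]
  · intro p q
    obtain ⟨x, hx, rfl⟩ := qelt_surj p
    obtain ⟨y, hy, rfl⟩ := qelt_surj q
    have := chk_comm
    rw [List.all_eq_true] at this
    have h := this x hx
    rw [List.all_eq_true] at h
    have h' := h y hy
    rw [Bool.or_eq_true, beq_iff_eq, beq_iff_eq] at h'
    rcases h' with h' | h'
    · left
      rw [commutatorElement_eq_one_iff_mul_comm]
      apply ker_ext
      rw [qelt_mul_val hx hy, qelt_mul_val hy hx, h']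
    · right
      have e : qelt x hx * qelt y hy = zq * (qelt y hy * qelt x hx) := by
        apply ker_ext
        rw [qelt_mul_val hx hy, h']
        show _ = toPerm 42 zL * (toPerm 42 y * toPerm 42 x)
        rw [← toPerm_cmp (QL_valid hy) (QL_valid hx),
          ← toPerm_cmp (QL_valid hz) ((QL_valid hy).cmp (QL_valid hx))]
      rw [commutatorElement_def, e]
      group
  · intro q
    obtain ⟨x, hx, rfl⟩ := qelt_surj q
    have := chk_sqr
    rw [List.all_eq_true] at this
    have h := this x hx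
    rw [Bool.or_eq_true, beq_iff_eq, beq_iff_eq] at h
    rcases h with h | h
    · left
      apply ker_ext
      rw [qelt_mul_val hx hx, h, toPerm_idL]
      rfl
    · right
      apply ker_ext
      rw [qelt_mul_val hx hx, h]
      rfl

theorem es_zq : ES zq := by
  refine ⟨ctx_zq, ?_⟩
  intro w hw
  obtain ⟨x, hx, rfl⟩ := qelt_surj w
  have := chk_cent
  rw [List.all_eq_true] at this
  have h := this x hx
  rw [Bool.or_eq_true, Bool.or_eq_true, beq_iff_eq, beq_iff_eq, List.any_eq_true] at h
  rcases h with (h | h) | ⟨y, hy, h⟩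
  · left
    apply ker_ext
    rw [qelt_val, h, toPerm_idL]
    rfl
  · right
    apply ker_ext
    rw [qelt_val, h]
    rfl
  · exfalso
    have h1 := hw (qelt y hy)
    have h2 := congrArg (fun q : ↥blockHom.ker => q.1.1) h1
    simp only [qelt_mul_val hy hx, qelt_mul_val hx hy] at h2
    have h3 := toPerm_inj ((QL_valid hy).cmp (QL_valid hx)) ((QL_valid hx).cmp (QL_valid hy)) h2
    rw [h3] at h
    simp at h

theorem not_abelian : ¬ ∀ x y : ↥blockHom.ker, ⁅x, y⁆ = 1 := by
  intro hab
  -- then every element is central, but the kernel has 32 elements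
  have hall : ∀ w : ↥blockHom.ker, w = 1 ∨ w = zq := by
    intro w
    apply es_zq.cent w
    intro x
    have := hab x w
    rwa [commutatorElement_eq_one_iff_mul_comm] at this
  have hle : Nat.card ↥blockHom.ker ≤ 2 := by
    have hfin : Finite ↥blockHom.ker := inferInstance
    have hsub : (Set.univ : Set ↥blockHom.ker) ⊆ {1, zq} := by
      intro w _
      rcases hall w with h | h
      · exact Or.inl h
      · exact Or.inr h
    have h1 := Set.ncard_le_ncard hsub (Set.toFinite _)
    rw [Set.ncard_univ] at h1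
    exact h1.trans (Set.ncard_insert_le _ _ |>.trans (by rw [Set.ncard_singleton]))
  rw [card_ker_range.1] at hle
  omega

theorem isTwoA5_M : IsTwoA5 ↥M := by
  refine ⟨blockHom.ker, inferInstance, card_ker_range.1, extraspecial_of_ES es_zq not_abelian, ?_⟩
  exact ⟨(QuotientGroup.quotientKerEquivRange blockHom).trans (MulEquiv.subgroupCongr range_eq)⟩

end Cfsg.Agent.Lib.Helper8.J2Stab
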