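import Cfsg.Agent.Lib.Helper8.J2SimpA

/-!
# Tools: the action of a group on a finite invariant family, images of lists of points
-/

set_option autoImplicit false

namespace Cfsg.Agent.Lib.Helper8.J2U33

open Cfsg.Agent.Lib.Helper6.SS Cfsg.Agent.Lib.Helper8.J2Simp

/-! ### the permutation representation on an invariant family -/

section fam

variable {K X : Type*} [Group K] [MulAction K X] {m : ℕ} (e : Fin m → X)
  (hinv : ∀ k : K, ∀ i, ∃ j, k • e i = e j)

/-- the index of the image -/
noncomputable def famFun (k : K) (i : Fin m) : Fin m := Classical.choose (hinv k i)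

theorem e_famFun (k : K) (i : Fin m) : e (famFun e hinv k i) = k • e i :=
  (Classical.choose_spec (hinv k i)).symm

/-- the action on the indices, as functions -/
noncomputable def famEnd (he : Function.Injective e) : K →* Function.End (Fin m) where
  toFun k := famFun e hinv k
  map_one' := by
    funext i
    apply he
    show e (famFun e hinv 1 i) = e i
    rw [e_famFun e hinv, one_smul]
  map_mul' := by
    intro k l
    funext i
    apply he
    show e (famFun e hinv (k * l) i) = e (famFun e hinv k (famFun e hinv l i))
    rw [e_famFun e hinv, e_famFun e hinv, e_famFun e hinv, mul_smul]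

/-- **the permutation representation on the indices of an invariant family** -/
noncomputable def famHom (he : Function.Injective e) : K →* Equiv.Perm (Fin m) :=
  (famEnd e hinv he).toHomPerm

theorem e_famHom (he : Function.Injective e) (k : K) (i : Fin m) :
    e (famHom e hinv he k i) = k • e i := e_famFun e hinv k i

theorem famHom_eq (he : Function.Injective e) (k : K) (σ : Equiv.Perm (Fin m))
    (h : ∀ i, k • e i = e (σ i)) : famHom e hinv he k = σ := by
  ext i
  congr 1
  apply he
  rw [e_famHom e hinv he, h]

end fam

/-! ### images of lists of points -/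

variable {n : ℕ}

theorem image_lset {g : List ℕ} (hg : Valid n g) {S : List ℕ} (hS : ∀ p ∈ S, p < n) :
    (toPerm n g) '' (lset n S) = lset n (S.map (fun p => g.getD p 0)) := by
  ext b
  constructor
  · rintro ⟨a, ha, rfl⟩
    show ((toPerm n g a : Fin n) : ℕ) ∈ S.map (fun p => g.getD p 0)
    rw [toPerm_apply hg]
    exact List.mem_map.2 ⟨a.val, ha, rfl⟩
  · intro hb
    have hb' : b.val ∈ S.map (fun p => g.getD p 0) := hb
    obtain ⟨p, hp, hpb⟩ := List.mem_map.1 hb'
    refine ⟨⟨p, hS p hp⟩, hp, Fin.ext ?_⟩
    rw [toPerm_apply hg]
    exact hpb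

/-- the test that two lists have the same members -/
def setEqL (X Y : List ℕ) : Bool := X.all (fun x => Y.contains x) && Y.all (fun y => X.contains y)

theorem lset_eq_of_setEqL {X Y : List ℕ} (h : setEqL X Y = true) : lset n X = lset n Y := by
  rw [setEqL, Bool.and_eq_true, List.all_eq_true, List.all_eq_true] at h
  ext b
  constructor
  · intro hb
    have := h.1 b.val hb
    rwa [List.contains_iff_mem] at this
  · intro hb
    have := h.2 b.val hb
    rwa [List.contains_iff_mem] at this

/-- strictly increasing lists with the same points are equal -/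
theorem eq_of_lset_eq {X Y : List ℕ} (hX : X.Pairwise (· < ·)) (hY : Y.Pairwise (· < ·))
    (hXn : ∀ p ∈ X, p < n) (hYn : ∀ p ∈ Y, p < n) (h : lset n X = lset n Y) : X = Y := by
  have hmem : ∀ a, a ∈ X ↔ a ∈ Y := by
    intro a
    constructor
    · intro ha
      have : (⟨a, hXn a ha⟩ : Fin n) ∈ lset n X := ha
      rw [h] at this
      exact this
    · intro ha
      have : (⟨a, hYn a ha⟩ : Fin n) ∈ lset n Y := ha
      rw [← h] at this
      exact this
  have hXd : X.Nodup := hX.imp (fun h => ne_of_lt h)
  have hYd : Y.Nodup := hY.imp (fun h => ne_of_lt h)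
  have hp : X.Perm Y := (List.perm_ext_iff_of_nodup hXd hYd).2 hmem
  exact hp.eq_of_pairwise' (r := (· ≤ ·)) (hX.imp le_of_lt) (hY.imp le_of_lt)

end Cfsg.Agent.Lib.Helper8.J2U33
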