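import Cfsg.Agent.Lib.Helper8.J2U33Data
import Cfsg.Agent.Lib.Helper8.J2U33A
import Cfsg.Agent.Lib.Lead.J2.PermData
import Cfsg.Agent.Lib.Helper6.U33PTC
/-! Kernel checks for the subgroup U3(3) of index 100 (generated by a script): the four reflections as words, and the relations -/

set_option autoImplicit false
set_option maxRecDepth 1000000

namespace Cfsg.Agent.Lib.Helper8.J2U33

open Cfsg.Agent.J2 Cfsg.Agent.Lib.Helper6.SS Cfsg.Agent.Lib.Helper8.J2Simp

/-- the four generators -/
def gl4 : List (List ℕ) := [g24, g77, g165, g202]

/-- the four reflections of the subgroup -/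
def ul4 : List (List ℕ) := [aL, bL, cL, dL]

theorem chk_wa : prodL 315 (aW.map (fun i => gl4.getD i [])) = aL ∧ aW.all (fun i => decide (i < 4)) = true := by decide +kernel

theorem chk_wb : prodL 315 (bW.map (fun i => gl4.getD i [])) = bL ∧ bW.all (fun i => decide (i < 4)) = true := by decide +kernel

theorem chk_wc : prodL 315 (cW.map (fun i => gl4.getD i [])) = cL ∧ cW.all (fun i => decide (i < 4)) = true := by decide +kernel

theorem chk_wd : prodL 315 (dW.map (fun i => gl4.getD i [])) = dL ∧ dW.all (fun i => decide (i < 4)) = true := by decide +kernel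

theorem chk_ne : (aL != idL 315) = true := by decide +kernel

end Cfsg.Agent.Lib.Helper8.J2U33
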