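import Cfsg.Agent.Lib.Helper8.J2U33Data
import Cfsg.Agent.Lib.Helper8.J2U33A
import Cfsg.Agent.Lib.Lead.J2.PermData
import Cfsg.Agent.Lib.Helper8.J2U33Chk1
/-! Kernel checks for the subgroup U3(3) of index 100 (generated by a script): the relations -/

set_option autoImplicit false
set_option maxRecDepth 1000000

namespace Cfsg.Agent.Lib.Helper8.J2U33

open Cfsg.Agent.J2 Cfsg.Agent.Lib.Helper6.SS Cfsg.Agent.Lib.Helper8.J2Simp

theorem chk_sq : ul4.all (fun u => Cfsg.Agent.Lib.Helper6.SS.cmp u u == idL 315) = true := by decide +kernel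

open Cfsg.Agent.Lib.Helper6.TC Cfsg.Agent.Lib.Helper6.U33Sub in
theorem chk_rels : (coxWordsL P4.edges Cfsg.Agent.Lib.Helper6.U33PTC.gen 4 ++ Cfsg.Agent.Lib.Helper6.U33PTC.extraWords).all (fun w => (prodL 315 (w.map (fun x => ul4.getD x [])) == idL 315) && w.all (fun x => decide (x < 4))) = true := by decide +kernel

end Cfsg.Agent.Lib.Helper8.J2U33
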