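import Cfsg.Agent.Lib.Helper8.J2U33Data
import Cfsg.Agent.Lib.Helper8.J2U33A
import Cfsg.Agent.Lib.Lead.J2.PermData

/-! Kernel checks for the subgroup U3(3) of index 100 (generated by a script): the action on the hundred sets -/

set_option autoImplicit false
set_option maxRecDepth 1000000

namespace Cfsg.Agent.Lib.Helper8.J2U33

open Cfsg.Agent.J2 Cfsg.Agent.Lib.Helper6.SS Cfsg.Agent.Lib.Helper8.J2Simp

theorem chk_om : omL.length = 100 ∧ omL.Nodup ∧ omL.all (fun S => S.all (fun p => decide (p < 315)) && decide (S.Pairwise (· < ·))) = true := by decide +kernel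

/-- the test that a list permutation acts on the hundred sets as the given list of indices -/
def actOK (g p : List ℕ) : Bool := (List.range 100).all (fun i => setEqL ((omL.getD i []).map (fun q => g.getD q 0)) (omL.getD (p.getD i 0) []))

theorem chk_act_pG0 : actOK g24 pG0 = true ∧ valid 100 pG0 = true := by decide +kernel

theorem chk_act_pG1 : actOK g77 pG1 = true ∧ valid 100 pG1 = true := by decide +kernel

theorem chk_act_pG2 : actOK g165 pG2 = true ∧ valid 100 pG2 = true := by decide +kernel

theorem chk_act_pG3 : actOK g202 pG3 = true ∧ valid 100 pG3 = true := by decide +kernel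

theorem chk_act_pA : actOK aL pA = true ∧ valid 100 pA = true := by decide +kernel

theorem chk_act_pB : actOK bL pB = true ∧ valid 100 pB = true := by decide +kernel

theorem chk_act_pC : actOK cL pC = true ∧ valid 100 pC = true := by decide +kernel

theorem chk_act_pD : actOK dL pD = true ∧ valid 100 pD = true := by decide +kernel

theorem chk_otree : ptreeOK [pG0, pG1, pG2, pG3] (List.range 100) otree = true := by decide +kernel

theorem chk_fix0 : closedOK [pA, pB, pC, pD] [0] = true := by decide +kernel

theorem chk_o36 : ptreeOK [pA, pB, pC, pD] o36 t36 = true ∧ closedOK [pA, pB, pC, pD] o36 = true ∧ o36.length = 36 ∧ o36.Nodup ∧ o36.all (fun p => decide (p < 100)) = true := by decide +kernel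

theorem chk_o63 : ptreeOK [pA, pB, pC, pD] o63 t63 = true ∧ closedOK [pA, pB, pC, pD] o63 = true ∧ o63.length = 63 ∧ o63.Nodup ∧ o63.all (fun p => decide (p < 100)) = true := by decide +kernel

end Cfsg.Agent.Lib.Helper8.J2U33
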