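import Cfsg.Agent.Lib.Helper8.J2Simp
import Cfsg.Agent.Lib.Helper8.J2U33Chk2
import Cfsg.Agent.Lib.Helper8.J2U33Chk3
import Cfsg.Agent.Lib.Helper6.U33SU
import Cfsg.Agent.Lib.Helper6.CoxLift

/-!
# A subgroup `U₃(3)` of index 100 in the group of the 315 lines, and its action on its cosets
-/

set_option autoImplicit false

namespace Cfsg.Agent.Lib.Helper8.J2U33

open Cfsg.Agent.J2 Cfsg.Agent.Lib.Helper6.SS Cfsg.Agent.Lib.Helper8.J2Simp
open Cfsg.Agent.Lib.Helper6.TC Cfsg.Agent.Lib.Helper6.U33Sub Cfsg.Spor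
open scoped Pointwise

/-! ### the four reflections -/

theorem gl4_mem (i : ℕ) (hi : i < 4) : gl4.getD i [] ∈ [g24, g77, g165, g202] := by
  rw [List.getD_eq_getElem _ _ (by simpa [gl4] using hi)]
  exact List.getElem_mem _

theorem wordU_spec {w u : List ℕ}
    (h : prodL 315 (w.map (fun i => gl4.getD i [])) = u ∧ w.all (fun i => decide (i < 4)) = true) :
    Valid 315 u ∧ toPerm 315 u ∈ PJ2 := by
  obtain ⟨h1, h2⟩ := h
  rw [List.all_eq_true] at h2
  rw [← h1]
  apply word_spec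
  intro v hv
  rw [List.mem_map] at hv
  obtain ⟨i, hi, rfl⟩ := hv
  exact gl4_mem i (by simpa using h2 i hi)

theorem ul4_spec : ∀ u ∈ ul4, Valid 315 u ∧ toPerm 315 u ∈ PJ2 := by
  intro u hu
  simp only [ul4, List.mem_cons, List.not_mem_nil, or_false] at hu
  rcases hu with rfl | rfl | rfl | rfl
  · exact wordU_spec chk_wa
  · exact wordU_spec chk_wb
  · exact wordU_spec chk_wc
  · exact wordU_spec chk_wd

theorem ul4_getD_mem (x : ℕ) (hx : x < 4) : ul4.getD x [] ∈ ul4 := by
  rw [List.getD_eq_getElem _ _ (by simpa [ul4] using hx)]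
  exact List.getElem_mem _

/-- the four reflections, as elements of the group -/
noncomputable def uG (x : ℕ) : ↥PJ2 :=
  if h : x < 4 then ⟨toPerm 315 (ul4.getD x []), (ul4_spec _ (ul4_getD_mem x h)).2⟩ else 1

theorem uG_coe {x : ℕ} (hx : x < 4) :
    ((uG x : ↥PJ2) : Equiv.Perm (Fin 315)) = toPerm 315 (ul4.getD x []) := by
  rw [uG, dif_pos hx]

theorem coe_prod_uG (w : List ℕ) (hw : ∀ x ∈ w, x < 4) :
    (((w.map uG).prod : ↥PJ2) : Equiv.Perm (Fin 315)) =
      toPerm 315 (prodL 315 (w.map (fun x => ul4.getD x []))) := by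
  have hv : ∀ u ∈ w.map (fun x => ul4.getD x []), Valid 315 u := by
    intro u hu
    rw [List.mem_map] at hu
    obtain ⟨x, hx, rfl⟩ := hu
    exact (ul4_spec _ (ul4_getD_mem x (hw x hx))).1
  rw [toPerm_prodL hv, SubmonoidClass.coe_list_prod, List.map_map, List.map_map]
  congr 1
  apply List.map_congr_left
  intro x hx
  exact uG_coe (hw x hx)

theorem prod_uG_eq_one {w : List ℕ} (hw : ∀ x ∈ w, x < 4)
    (h : prodL 315 (w.map (fun x => ul4.getD x [])) = idL 315) : (w.map uG).prod = 1 := by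
  apply Subtype.ext
  rw [coe_prod_uG w hw, h, toPerm_idL]
  rfl

theorem uG_mul_self (x : ℕ) : uG x * uG x = 1 := by
  by_cases hx : x < 4
  · have hsq := chk_sq
    rw [List.all_eq_true] at hsq
    have h1 := hsq _ (ul4_getD_mem x hx)
    rw [beq_iff_eq] at h1
    have h2 := prod_uG_eq_one (w := [x, x]) (by simp [hx]) (by
      simp only [List.map_cons, List.map_nil, prodL_cons, prodL_nil]
      have hv := (ul4_spec _ (ul4_getD_mem x hx)).1
      have : Cfsg.Agent.Lib.Helper6.SS.cmp (ul4.getD x []) (idL 315) = ul4.getD x [] := by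
        apply toPerm_inj (hv.cmp (valid_idL 315)) hv
        rw [toPerm_cmp hv (valid_idL 315), toPerm_idL, mul_one]
      rw [this, h1])
    simpa using h2
  · rw [uG, dif_neg hx, mul_one]

/-! ### the homomorphism from the presented group -/

/-- the images of the generators -/
noncomputable def fgen (a : P4.Gen) : ↥PJ2 := uG (Cfsg.Agent.Lib.Helper6.U33PTC.code a)

theorem fgen_gen {x : ℕ} (hx : x < 4) : fgen (Cfsg.Agent.Lib.Helper6.U33PTC.gen x) = uG x := by
  interval_cases x <;> rfl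

theorem word_eq_one {w : List ℕ}
    (hw : w ∈ coxWordsL P4.edges Cfsg.Agent.Lib.Helper6.U33PTC.gen 4 ++
      Cfsg.Agent.Lib.Helper6.U33PTC.extraWords) :
    (w.map fun x => fgen (Cfsg.Agent.Lib.Helper6.U33PTC.gen x)).prod = 1 := by
  have h0 := List.all_eq_true.1 chk_rels w hw
  rw [Bool.and_eq_true, beq_iff_eq, List.all_eq_true] at h0
  obtain ⟨h1, h2⟩ := h0
  have hlt : ∀ x ∈ w, x < 4 := fun x hx => by simpa using h2 x hx
  have h3 : w.map (fun x => fgen (Cfsg.Agent.Lib.Helper6.U33PTC.gen x)) = w.map uG :=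
    List.map_congr_left fun x hx => fgen_gen (hlt x hx)
  rw [h3]
  exact prod_uG_eq_one hlt h1

theorem lift_rel : ∀ r ∈ coxRelators P4.edges ∪ {r | r ∈ P4.extra}, FreeGroup.lift fgen r = 1 :=
  Cfsg.Agent.Lib.Helper6.CoxLift.lift_eq_one_of_words Cfsg.Agent.Lib.Helper6.U33PTC.gen
    Cfsg.Agent.Lib.Helper6.U33PTC.code 4 Cfsg.Agent.Lib.Helper6.U33PTC.extraWords
    (by intro a; cases a <;> exact ⟨by decide, rfl⟩) fgen
    (Cfsg.Agent.Lib.Helper6.U33PTC.extra_iff fgen fun a => uG_mul_self _)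
    fun _ hw => word_eq_one hw

/-- the homomorphism from the presented group -/
noncomputable def ψ : P4 →* ↥PJ2 := PresentedGroup.toGroup lift_rel

theorem ψ_of (a : P4.Gen) : ψ (PresentedGroup.of a) = fgen a := PresentedGroup.toGroup.of _

theorem uG0_ne_one : uG 0 ≠ 1 := by
  intro h
  have h1 := congrArg (fun z : ↥PJ2 => (z : Equiv.Perm (Fin 315))) h
  simp only [uG_coe (by norm_num : 0 < 4)] at h1
  have h2 : toPerm 315 aL = toPerm 315 (idL 315) := by
    rw [toPerm_idL]; exact h1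
  have h3 := toPerm_inj (ul4_spec aL (by simp [ul4])).1 (valid_idL 315) h2
  have h4 := chk_ne
  rw [h3] at h4
  simp at h4

theorem ψ_injective : Function.Injective ψ := by
  have hs := Cfsg.Agent.Lib.Helper6.U33Simple.main.1
  rcases (MonoidHom.normal_ker ψ).eq_bot_or_eq_top with h | h
  · exact (MonoidHom.ker_eq_bot_iff ψ).1 h
  · exfalso
    have h1 : ψ (PresentedGroup.of P4.Gen.a) = 1 := by
      have : PresentedGroup.of P4.Gen.a ∈ ψ.ker := by
        rw [h]
        trivial
      exact this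
    rw [ψ_of] at h1
    exact uG0_ne_one h1

/-- **the subgroup** -/
noncomputable def U : Subgroup ↥PJ2 := ψ.range

theorem card_U : Nat.card ↥U = 6048 := by
  rw [← Cfsg.Agent.Lib.Helper6.U33Simple.main.2]
  exact (Nat.card_congr (MonoidHom.ofInjective ψ_injective).toEquiv).symm

/-- the subgroup is the unitary group -/
noncomputable def isoU : ↥U ≃* PSU 3 Cfsg.Agent.Lib.Helper8.F9 3 :=
  (MonoidHom.ofInjective ψ_injective).symm.trans Cfsg.Agent.Lib.Helper6.U33SU.isoP

theorem U_eq_closure : U = Subgroup.closure (Set.range fgen) := by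
  rw [U, MonoidHom.range_eq_map, ← PresentedGroup.closure_range_of, MonoidHom.map_closure]
  congr 1
  ext z
  constructor
  · rintro ⟨_, ⟨a, rfl⟩, rfl⟩
    exact ⟨a, (ψ_of a).symm⟩
  · rintro ⟨a, rfl⟩
    exact ⟨_, ⟨a, rfl⟩, ψ_of a⟩

theorem index_U (hcard : Nat.card ↥PJ2 = 604800) : U.index = 100 := by
  have h := Subgroup.card_mul_index U
  rw [card_U, hcard] at h
  omega

end Cfsg.Agent.Lib.Helper8.J2U33
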