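import Cfsg.Agent.Lib.Helper8.J2U33
import Cfsg.Agent.Lib.Helper5.J2Iso

/-!
# The action of the group of the 315 lines on the hundred conjugates of the subgroup `U₃(3)`,
and S1624 (given the order of the group)
-/

set_option autoImplicit false

namespace Cfsg.Agent.Lib.Helper8.J2U33

open Cfsg.Agent.J2 Cfsg.Agent.Lib.Helper6.SS Cfsg.Agent.Lib.Helper8.J2Simp
open Cfsg.Agent.Lib.Helper6.TC Cfsg.Agent.Lib.Helper6.U33Sub Cfsg.Spor
open scoped Pointwise

/-! ### the hundred sets -/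

theorem omL_len : omL.length = 100 := chk_om.1

theorem omL_getD_mem (i : ℕ) (hi : i < 100) : omL.getD i [] ∈ omL := by
  rw [List.getD_eq_getElem _ _ (by rw [omL_len]; exact hi)]
  exact List.getElem_mem _

theorem omL_spec (i : ℕ) (hi : i < 100) :
    (∀ p ∈ omL.getD i [], p < 315) ∧ (omL.getD i []).Pairwise (· < ·) := by
  have := chk_om.2.2
  rw [List.all_eq_true] at this
  have h := this _ (omL_getD_mem i hi)
  rw [Bool.and_eq_true, List.all_eq_true, decide_eq_true_eq] at h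
  exact ⟨fun p hp => by simpa using h.1 p hp, h.2⟩

/-- the hundred sets of 63 lines -/
def Sset (i : Fin 100) : Set (Fin 315) := lset 315 (omL.getD i.val [])

theorem Sset_injective : Function.Injective Sset := by
  intro i j h
  have hi := omL_spec i.val i.isLt
  have hj := omL_spec j.val j.isLt
  have h1 := eq_of_lset_eq hi.2 hj.2 hi.1 hj.1 h
  rw [List.getD_eq_getElem _ _ (by rw [omL_len]; exact i.isLt),
    List.getD_eq_getElem _ _ (by rw [omL_len]; exact j.isLt)] at h1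
  exact Fin.ext ((List.Nodup.getElem_inj_iff chk_om.2.1).1 h1)

theorem smul_set_eq (k : ↥PJ2) (s : Set (Fin 315)) : k • s = k.1 '' s := by
  ext x
  rw [Set.mem_smul_set, Set.mem_image]
  rfl

/-- the images of the hundred sets under a list permutation -/
theorem image_Sset {g p : List ℕ} (hg : Valid 315 g) (h : actOK g p = true ∧ valid 100 p = true)
    (i : Fin 100) : toPerm 315 g '' Sset i = Sset (toPerm 100 p i) := by
  obtain ⟨h1, h2⟩ := h
  have hp : Valid 100 p := valid_iff.1 h2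
  rw [actOK, List.all_eq_true] at h1
  have h3 := h1 i.val (List.mem_range.2 i.isLt)
  rw [Sset, image_lset hg (omL_spec i.val i.isLt).1, lset_eq_of_setEqL h3, Sset, toPerm_apply hp]

/-- the property of mapping the hundred sets to one another -/
def Q (σ : Equiv.Perm (Fin 315)) : Prop := ∀ i : Fin 100, ∃ j : Fin 100, σ '' Sset i = Sset j

theorem Q_one : Q 1 := fun i => ⟨i, by simp⟩

theorem Q_mul {σ τ : Equiv.Perm (Fin 315)} (hσ : Q σ) (hτ : Q τ) : Q (σ * τ) := by
  intro i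
  obtain ⟨j, hj⟩ := hτ i
  obtain ⟨l, hl⟩ := hσ j
  refine ⟨l, ?_⟩
  rw [Equiv.Perm.coe_mul, Set.image_comp, hj, hl]

theorem Q_inv {σ : Equiv.Perm (Fin 315)} (hσ : Q σ) : Q σ⁻¹ := by
  choose f hf using hσ
  have hinj : Function.Injective f := by
    intro i j hij
    have h1 : σ '' Sset i = σ '' Sset j := by rw [hf i, hf j, hij]
    exact Sset_injective ((Set.image_injective.2 σ.injective) h1)
  have hsurj : Function.Surjective f := Finite.injective_iff_surjective.1 hinj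
  intro i
  obtain ⟨j, rfl⟩ := hsurj i
  refine ⟨j, ?_⟩
  rw [← hf j, ← Set.image_comp]
  have : (⇑σ⁻¹ ∘ ⇑σ) = id := by
    funext x
    simp
  rw [this, Set.image_id]

theorem Q_gen {g p : List ℕ} (hg : Valid 315 g) (h : actOK g p = true ∧ valid 100 p = true) :
    Q (toPerm 315 g) := fun i => ⟨_, image_Sset hg h i⟩

theorem Q_PJ2 {σ : Equiv.Perm (Fin 315)} (hσ : σ ∈ PJ2) : Q σ := by
  rw [PJ2] at hσ
  induction hσ using Subgroup.closure_induction with
  | mem x hx =>
    rcases hx with rfl | rfl | rfl | rfl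
    · exact Q_gen valid_g24 chk_act_pG0
    · exact Q_gen valid_g77 chk_act_pG1
    · exact Q_gen valid_g165 chk_act_pG2
    · exact Q_gen valid_g202 chk_act_pG3
  | one => exact Q_one
  | mul x y _ _ hx hy => exact Q_mul hx hy
  | inv x _ hx => exact Q_inv hx

theorem hinv100 : ∀ k : ↥PJ2, ∀ i : Fin 100, ∃ j, k • Sset i = Sset j := by
  intro k i
  obtain ⟨j, hj⟩ := Q_PJ2 k.2 i
  exact ⟨j, by rw [smul_set_eq, hj]⟩

/-- **the action on the hundred sets** -/
noncomputable def ρ100 : ↥PJ2 →* Equiv.Perm (Fin 100) := famHom Sset hinv100 Sset_injective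

theorem ρ100_list {g p : List ℕ} (hg : Valid 315 g) (hgm : toPerm 315 g ∈ PJ2)
    (h : actOK g p = true ∧ valid 100 p = true) :
    ρ100 ⟨toPerm 315 g, hgm⟩ = toPerm 100 p := by
  apply famHom_eq
  intro i
  rw [smul_set_eq]
  exact image_Sset hg h i

/-! ### transitivity -/

/-- the base point -/
def o100 : Fin 100 := ⟨0, by norm_num⟩

theorem pG_spec : ∀ s ∈ [pG0, pG1, pG2, pG3], Valid 100 s ∧ toPerm 100 s ∈ ρ100.range := by
  intro s hs
  simp only [List.mem_cons, List.not_mem_nil, or_false] at hs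
  rcases hs with rfl | rfl | rfl | rfl
  · exact ⟨valid_iff.1 chk_act_pG0.2, ⟨_, ρ100_list valid_g24 (gens_spec g24 (by simp)).2 chk_act_pG0⟩⟩
  · exact ⟨valid_iff.1 chk_act_pG1.2, ⟨_, ρ100_list valid_g77 (gens_spec g77 (by simp)).2 chk_act_pG1⟩⟩
  · exact ⟨valid_iff.1 chk_act_pG2.2, ⟨_, ρ100_list valid_g165 (gens_spec g165 (by simp)).2 chk_act_pG2⟩⟩
  · exact ⟨valid_iff.1 chk_act_pG3.2, ⟨_, ρ100_list valid_g202 (gens_spec g202 (by simp)).2 chk_act_pG3⟩⟩

theorem trans100 (a : Fin 100) : ∃ z : ↥PJ2, ρ100 z o100 = a := by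
  have hlt : ∀ p ∈ List.range 100, p < 100 := fun p hp => List.mem_range.1 hp
  have h0 : 0 < (List.range 100).length := by simp
  have hk : a.val < (List.range 100).length := by simp
  obtain ⟨h, ⟨z, rfl⟩, hh⟩ := ptree_mem ρ100.range pG_spec hlt chk_otree h0 a.val hk
  refine ⟨z, ?_⟩
  have e0 : (⟨(List.range 100)[0], hlt _ (List.getElem_mem h0)⟩ : Fin 100) = o100 :=
    Fin.ext (by simp [o100])
  rw [e0] at hh
  apply Fin.ext
  rw [hh, List.getElem_range]

/-! ### the subgroup on the hundred sets -/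

/-- the group generated by the four reflections on the hundred sets -/
noncomputable def R : Subgroup (Equiv.Perm (Fin 100)) := lgrp 100 [pA, pB, pC, pD]

theorem pU_valid : ∀ s ∈ [pA, pB, pC, pD], Valid 100 s := by
  intro s hs
  simp only [List.mem_cons, List.not_mem_nil, or_false] at hs
  rcases hs with rfl | rfl | rfl | rfl
  · exact valid_iff.1 chk_act_pA.2
  · exact valid_iff.1 chk_act_pB.2
  · exact valid_iff.1 chk_act_pC.2
  · exact valid_iff.1 chk_act_pD.2

theorem fgen_eq (a : P4.Gen) : ∃ u p, u ∈ ul4 ∧ p ∈ [pA, pB, pC, pD] ∧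
    (actOK u p = true ∧ valid 100 p = true) ∧
    ∃ hm : toPerm 315 u ∈ PJ2, fgen a = ⟨toPerm 315 u, hm⟩ := by
  cases a
  · exact ⟨aL, pA, by simp [ul4], by simp, chk_act_pA, (ul4_spec aL (by simp [ul4])).2,
      Subtype.ext (uG_coe (x := 0) (by norm_num))⟩
  · exact ⟨bL, pB, by simp [ul4], by simp, chk_act_pB, (ul4_spec bL (by simp [ul4])).2,
      Subtype.ext (uG_coe (x := 1) (by norm_num))⟩
  · exact ⟨cL, pC, by simp [ul4], by simp, chk_act_pC, (ul4_spec cL (by simp [ul4])).2,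
      Subtype.ext (uG_coe (x := 2) (by norm_num))⟩
  · exact ⟨dL, pD, by simp [ul4], by simp, chk_act_pD, (ul4_spec dL (by simp [ul4])).2,
      Subtype.ext (uG_coe (x := 3) (by norm_num))⟩

theorem ρ100_fgen (a : P4.Gen) : ∃ p ∈ [pA, pB, pC, pD], ρ100 (fgen a) = toPerm 100 p := by
  obtain ⟨u, p, hu, hp, hact, hm, he⟩ := fgen_eq a
  exact ⟨p, hp, by rw [he]; exact ρ100_list (ul4_spec u hu).1 hm hact⟩

theorem map_U {u : ↥PJ2} (hu : u ∈ U) : ρ100 u ∈ R := by
  rw [U_eq_closure] at hu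
  induction hu using Subgroup.closure_induction with
  | mem x hx =>
    obtain ⟨a, rfl⟩ := hx
    obtain ⟨p, hp, he⟩ := ρ100_fgen a
    rw [he]
    exact toPerm_mem_lgrp hp
  | one => rw [map_one]; exact R.one_mem
  | mul x y _ _ hx hy => rw [map_mul]; exact R.mul_mem hx hy
  | inv x _ hx => rw [map_inv]; exact R.inv_mem hx

theorem lift_R {r : Equiv.Perm (Fin 100)} (hr : r ∈ R) : ∃ u ∈ U, ρ100 u = r := by
  rw [R, lgrp] at hr
  induction hr using Subgroup.closure_induction with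
  | mem x hx =>
    obtain ⟨p, hp, rfl⟩ := hx
    have hall : ∀ a : P4.Gen, fgen a ∈ U := fun a => by
      rw [U_eq_closure]; exact Subgroup.subset_closure ⟨a, rfl⟩
    simp only [List.mem_cons, List.not_mem_nil, or_false] at hp
    rcases hp with rfl | rfl | rfl | rfl
    · refine ⟨fgen P4.Gen.a, hall _, ?_⟩
      have : fgen P4.Gen.a = ⟨toPerm 315 aL, (ul4_spec aL (by simp [ul4])).2⟩ :=
        Subtype.ext (uG_coe (x := 0) (by norm_num))
      rw [this]
      exact ρ100_list (ul4_spec aL (by simp [ul4])).1 _ chk_act_pA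
    · refine ⟨fgen P4.Gen.b, hall _, ?_⟩
      have : fgen P4.Gen.b = ⟨toPerm 315 bL, (ul4_spec bL (by simp [ul4])).2⟩ :=
        Subtype.ext (uG_coe (x := 1) (by norm_num))
      rw [this]
      exact ρ100_list (ul4_spec bL (by simp [ul4])).1 _ chk_act_pB
    · refine ⟨fgen P4.Gen.c, hall _, ?_⟩
      have : fgen P4.Gen.c = ⟨toPerm 315 cL, (ul4_spec cL (by simp [ul4])).2⟩ :=
        Subtype.ext (uG_coe (x := 2) (by norm_num))
      rw [this]
      exact ρ100_list (ul4_spec cL (by simp [ul4])).1 _ chk_act_pC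
    · refine ⟨fgen P4.Gen.d, hall _, ?_⟩
      have : fgen P4.Gen.d = ⟨toPerm 315 dL, (ul4_spec dL (by simp [ul4])).2⟩ :=
        Subtype.ext (uG_coe (x := 3) (by norm_num))
      rw [this]
      exact ρ100_list (ul4_spec dL (by simp [ul4])).1 _ chk_act_pD
  | one => exact ⟨1, U.one_mem, map_one _⟩
  | mul x y _ _ hx hy =>
    obtain ⟨u, hu, rfl⟩ := hx
    obtain ⟨v, hv, rfl⟩ := hy
    exact ⟨u * v, U.mul_mem hu hv, map_mul _ _ _⟩
  | inv x _ hx =>
    obtain ⟨u, hu, rfl⟩ := hx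
    exact ⟨u⁻¹, U.inv_mem hu, map_inv _ _⟩

theorem fix_U {u : ↥PJ2} (hu : u ∈ U) : ρ100 u o100 = o100 := by
  have h := mapsTo_of_closedOK (n := 100) pU_valid chk_fix0 _ (map_U hu)
  have h1 : o100 ∈ lset 100 [0] := by
    show (0 : ℕ) ∈ [0]
    exact List.mem_cons_self
  have h2 : ((ρ100 u o100 : Fin 100) : ℕ) ∈ [0] := h h1
  rw [List.mem_singleton] at h2
  exact Fin.ext h2

/-- the orbits of the subgroup on the hundred sets -/
theorem orbit_U {L : List ℕ} {tree : List (ℕ × ℕ)} {len : ℕ}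
    (h : ptreeOK [pA, pB, pC, pD] L tree = true ∧ closedOK [pA, pB, pC, pD] L = true ∧
      L.length = len ∧ L.Nodup ∧ L.all (fun p => decide (p < 100)) = true) (hpos : 0 < len) :
    ∃ a : Fin 100, (imgOrbit ρ100 U a).ncard = len := by
  obtain ⟨h1, h2, h3, h4, h5⟩ := h
  have hlt : ∀ p ∈ L, p < 100 := by
    rw [List.all_eq_true] at h5
    intro p hp
    simpa using h5 p hp
  have h0 : 0 < L.length := by rw [h3]; exact hpos
  refine ⟨⟨L[0], hlt _ (List.getElem_mem h0)⟩, ?_⟩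
  have hset : imgOrbit ρ100 U ⟨L[0], hlt _ (List.getElem_mem h0)⟩ = lset 100 L := by
    rw [lset_eq_orbit pU_valid hlt h0 h1 h2]
    ext b
    constructor
    · rintro ⟨u, hu, rfl⟩
      exact ⟨ρ100 u, map_U hu, rfl⟩
    · rintro ⟨r, hr, rfl⟩
      obtain ⟨u, hu, rfl⟩ := lift_R hr
      exact ⟨u, hu, rfl⟩
  rw [hset, ncard_lset hlt h4, h3]

/-! ### the statement for the Hall–Janko group -/

open Cfsg.Agent.Lib.Helper5.J2Iso in
/-- **S1624, given the order of the group of the lines** -/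
theorem S1624_of (hcard : Nat.card ↥PJ2 = 604800) :
    ∃ H : Subgroup Cfsg.Spor.J2, H.index = 100 ∧
      (∃ (F : Type) (_ : Field F) (_ : Fintype F), Fintype.card F = 9 ∧
        Nonempty (↥H ≃* Cfsg.PSU 3 F 3)) ∧
      ∃ c₁ c₂ : Cfsg.Spor.J2 ⧸ H, (MulAction.orbit ↥H c₁).ncard = 36 ∧
        (MulAction.orbit ↥H c₂).ncard = 63 := by
  set H : Subgroup J2 := U.map isoPJ2.symm.toMonoidHom with hH
  have hmem : ∀ x : J2, x ∈ H ↔ isoPJ2 x ∈ U := by
    intro x
    rw [hH, Subgroup.mem_map_equiv, MulEquiv.symm_symm]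
  have hidx : H.index = 100 := by
    rw [hH]
    exact (Subgroup.index_map_equiv U isoPJ2.symm).trans (index_U hcard)
  refine ⟨H, hidx, ⟨Cfsg.Agent.Lib.Helper8.F9, inferInstance, inferInstance,
    Cfsg.Agent.Lib.Helper8.F9.card, ⟨(isoPJ2.symm.subgroupMap U).symm.trans isoU⟩⟩, ?_⟩
  -- the action of the Hall–Janko group on the hundred sets
  set ρ : J2 →* Equiv.Perm (Fin 100) := ρ100.comp isoPJ2.toMonoidHom with hρ
  have htrans : ∀ a : Fin 100, ∃ z : J2, ρ z o100 = a := by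
    intro a
    obtain ⟨z, hz⟩ := trans100 a
    refine ⟨isoPJ2.symm z, ?_⟩
    rw [hρ, MonoidHom.comp_apply]
    show ρ100 (isoPJ2 (isoPJ2.symm z)) o100 = a
    rw [MulEquiv.apply_symm_apply]
    exact hz
  have hfix : ∀ h ∈ H, ρ h o100 = o100 := by
    intro h hh
    exact fix_U ((hmem h).1 hh)
  obtain ⟨Φ, hΦ, horb⟩ := exists_orbit_map (ρ := ρ) (o := o100) (H := H) htrans hfix hidx
    (by norm_num)
  have himg : ∀ a : Fin 100, imgOrbit ρ H a = imgOrbit ρ100 U a := by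
    intro a
    ext b
    constructor
    · rintro ⟨h, hh, rfl⟩
      exact ⟨isoPJ2 h, (hmem h).1 hh, rfl⟩
    · rintro ⟨u, hu, rfl⟩
      refine ⟨isoPJ2.symm u, (hmem _).2 (by rw [MulEquiv.apply_symm_apply]; exact hu), ?_⟩
      show ρ100 (isoPJ2 (isoPJ2.symm u)) a = ρ100 u a
      rw [MulEquiv.apply_symm_apply]
  obtain ⟨a1, ha1⟩ := orbit_U chk_o36 (by norm_num)
  obtain ⟨a2, ha2⟩ := orbit_U chk_o63 (by norm_num)
  obtain ⟨q1, hq1⟩ := horb a1
  obtain ⟨q2, hq2⟩ := horb a2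
  refine ⟨q1, q2, ?_, ?_⟩
  · rw [← Set.ncard_image_of_injective _ hΦ, hq1, himg, ha1]
  · rw [← Set.ncard_image_of_injective _ hΦ, hq2, himg, ha2]

end Cfsg.Agent.Lib.Helper8.J2U33
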