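import Mathlib

set_option autoImplicit false

namespace Cfsg.Agent.Lib.Helper8.JordanSet

open MulAction
open scoped Pointwise

variable {G Ω : Type*} [Group G] [MulAction G Ω]

/-- A quasiprimitive group containing a subgroup `J = fixingSubgroup G Γᶜ` that is primitive on `Γ`
(with `1 < |Γ|`) is primitive. -/
theorem isPreprimitive_of_quasi [Finite Ω]
    (hqp : ∀ N : Subgroup G, N.Normal → N ≠ ⊥ → IsPretransitive ↥N Ω)
    (Γ : Set Ω) (hΓ1 : 1 < Γ.ncard)
    (hJp : IsPreprimitive ↥(fixingSubgroup G Γᶜ) ↥(SubMulAction.ofFixingSubgroup G Γᶜ)) :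
    IsPreprimitive G Ω := by
  classical
  -- two distinct points of Γ
  obtain ⟨x, hx, y, hy, hxy⟩ := (Set.one_lt_ncard (Set.toFinite Γ)).mp hΓ1
  have hxC : x ∈ SubMulAction.ofFixingSubgroup G Γᶜ := by
    rw [SubMulAction.mem_ofFixingSubgroup_iff]; simpa using hx
  have hyC : y ∈ SubMulAction.ofFixingSubgroup G Γᶜ := by
    rw [SubMulAction.mem_ofFixingSubgroup_iff]; simpa using hy
  -- J ≠ ⊥
  have hJt : IsPretransitive ↥(fixingSubgroup G Γᶜ) ↥(SubMulAction.ofFixingSubgroup G Γᶜ) :=
    hJp.toIsPretransitive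
  obtain ⟨j₀, hj₀⟩ := hJt.exists_smul_eq ⟨x, hxC⟩ ⟨y, hyC⟩
  have hj₀' : (j₀ : G) • x = y := congrArg Subtype.val hj₀
  have hJne : ∃ j ∈ fixingSubgroup G Γᶜ, j ≠ 1 := by
    refine ⟨j₀, j₀.2, ?_⟩
    intro h
    rw [h, one_smul] at hj₀'
    exact hxy hj₀'
  -- G is transitive
  have hGt : IsPretransitive G Ω := by
    have htop : (⊤ : Subgroup G) ≠ ⊥ := by
      intro h
      obtain ⟨j, _, hj1⟩ := hJne
      have : j ∈ (⊤ : Subgroup G) := Subgroup.mem_top j
      rw [h, Subgroup.mem_bot] at this
      exact hj1 this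
    have := hqp ⊤ inferInstance htop
    constructor
    intro a b
    obtain ⟨g, hg⟩ := this.exists_smul_eq a b
    exact ⟨g, hg⟩
  refine @IsPreprimitive.mk G Ω _ hGt ?_
  intro B hB
  by_contra hnt
  unfold IsTrivialBlock at hnt
  push Not at hnt
  obtain ⟨hns, hnu⟩ := hnt
  -- every translate of B is stabilized by J
  have key : ∀ g : G, ∀ j ∈ fixingSubgroup G Γᶜ, j • (g • B) = g • B := by
    intro g j hj
    have hB' : IsBlock G (g • B) := hB.translate g
    have hns' : (g • B).Nontrivial := hns.image (MulAction.injective g)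
    rw [isBlock_iff_smul_eq_of_nonempty] at hB'
    apply hB'
    by_cases hsub : g • B ⊆ Γ
    · -- preimage in Γ is a block for J, nontrivial, so everything
      have hblk : IsBlock (fixingSubgroup G Γᶜ)
          (Subtype.val ⁻¹' (g • B) : Set (SubMulAction.ofFixingSubgroup G Γᶜ)) :=
        ((hB.translate g).subgroup (H := fixingSubgroup G Γᶜ)).subtype_val_preimage
      rcases hJp.isTrivialBlock_of_isBlock hblk with h1 | h1
      · exfalso
        obtain ⟨a, ha, b, hb, hab⟩ := hns'
        have haC : a ∈ SubMulAction.ofFixingSubgroup G Γᶜ := by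
          rw [SubMulAction.mem_ofFixingSubgroup_iff]; simpa using hsub ha
        have hbC : b ∈ SubMulAction.ofFixingSubgroup G Γᶜ := by
          rw [SubMulAction.mem_ofFixingSubgroup_iff]; simpa using hsub hb
        have hpa : (⟨a, haC⟩ : SubMulAction.ofFixingSubgroup G Γᶜ) ∈
            (Subtype.val ⁻¹' (g • B) : Set (SubMulAction.ofFixingSubgroup G Γᶜ)) := ha
        have hpb : (⟨b, hbC⟩ : SubMulAction.ofFixingSubgroup G Γᶜ) ∈
            (Subtype.val ⁻¹' (g • B) : Set (SubMulAction.ofFixingSubgroup G Γᶜ)) := hb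
        have := h1 hpa hpb
        exact hab (congrArg Subtype.val this)
      · -- Γ ⊆ g • B
        obtain ⟨a, ha⟩ : (g • B).Nonempty := hns'.nonempty
        have haΓ : a ∈ Γ := hsub ha
        have hjaΓ : j • a ∈ Γ := by
          by_contra hnot
          have hfix : j • (j • a) = j • a := (mem_fixingSubgroup_iff G).mp hj (j • a) hnot
          have : j • a = a := by
            have := congrArg (fun z => j⁻¹ • z) hfix
            simpa using this
          rw [this] at hnot
          exact hnot haΓ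
        have hjaC : j • a ∈ SubMulAction.ofFixingSubgroup G Γᶜ := by
          rw [SubMulAction.mem_ofFixingSubgroup_iff]; simpa using hjaΓ
        have hmem : (⟨j • a, hjaC⟩ : SubMulAction.ofFixingSubgroup G Γᶜ) ∈
            (Subtype.val ⁻¹' (g • B) : Set (SubMulAction.ofFixingSubgroup G Γᶜ)) := by
          rw [h1]; trivial
        exact ⟨j • a, Set.smul_mem_smul_set ha, hmem⟩
    · -- a point outside Γ
      obtain ⟨b, hb, hbΓ⟩ := Set.not_subset.mp hsub
      have hfix : j • b = b := (mem_fixingSubgroup_iff G).mp hj b hbΓ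
      exact ⟨b, by rw [← hfix]; exact Set.smul_mem_smul_set hb, hb⟩
  -- normal core of the stabilizer of B
  set N := (stabilizer G B).normalCore with hN
  have hJN : fixingSubgroup G Γᶜ ≤ N := by
    intro j hj b
    rw [mem_stabilizer_iff]
    have := key b⁻¹ j hj
    rw [mul_smul, mul_smul, this, smul_inv_smul]
  have hNne : N ≠ ⊥ := by
    intro h
    obtain ⟨j, hj, hj1⟩ := hJne
    have := hJN hj
    rw [h, Subgroup.mem_bot] at this
    exact hj1 this
  have hNt := hqp N inferInstance hNne
  apply hnu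
  obtain ⟨a, ha⟩ : B.Nonempty := hns.nonempty
  rw [Set.eq_univ_iff_forall]
  intro b
  obtain ⟨n, hn⟩ := hNt.exists_smul_eq a b
  have hnB : (n : G) ∈ stabilizer G B := Subgroup.normalCore_le _ n.2
  rw [mem_stabilizer_iff] at hnB
  rw [← hnB]
  have : b = (n : G) • a := hn.symm
  rw [this]
  exact Set.smul_mem_smul_set ha

end Cfsg.Agent.Lib.Helper8.JordanSet
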