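import Mathlib
import Cfsg.Agent.Lib.Lead.K64Def

/-!
S1903 (author: helper8), part 1: groups of order 64 with an automorphism of order 5 acting
fixed-point-freely modulo the centre: invariant subgroups, the commutator pairing, the orbit of
an element outside the centre.
-/

set_option autoImplicit false

namespace Cfsg.Agent.Lib.Helper8.K64A

open Cfsg.Agent.Lib.Lead.K64Def

/-- a fifth root of the identity map has (number of fixed points) ≡ (number of points) mod 5 -/
theorem card_modEq_fixed {α : Type*} [Finite α] (f : α → α)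
    (hf : ∀ a, f (f (f (f (f a)))) = a) :
    Nat.card α ≡ Nat.card {a : α // f a = a} [MOD 5] := by
  classical
  have : Fintype α := Fintype.ofFinite α
  have : Fact (Nat.Prime 5) := ⟨by norm_num⟩
  let g : Function.End α := f
  have h5 : g ^ 5 ^ 1 = 1 := by
    have e : g ^ 5 ^ 1 = g * (g * (g * (g * g))) := by
      rw [pow_one]
      simp only [pow_succ, pow_zero, one_mul, mul_assoc]
    rw [e]
    funext a
    exact hf a
  have := Equiv.Perm.card_fixedPoints_modEq (f := g) (p := 5) (n := 1) h5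
  rw [Nat.card_eq_fintype_card, Nat.card_eq_fintype_card]
  convert this using 2
  rfl

/-- the hypotheses of `K64` that do not mention squares and commutators -/
structure Base (T : Type*) [Group T] (η : T ≃* T) : Prop where
  card : Nat.card T = 64
  card_center : Nat.card (Subgroup.center T) = 4
  center_sq : ∀ x ∈ Subgroup.center T, x * x = 1
  pow_five : ∀ x : T, η (η (η (η (η x)))) = x
  fix_center : ∀ x ∈ Subgroup.center T, η x = x
  fpf : ∀ x : T, x⁻¹ * η x ∈ Subgroup.center T → x ∈ Subgroup.center T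

section base

variable {T : Type*} [Group T] {η : T ≃* T}

theorem Base.finite (h : Base T η) : Finite T :=
  Nat.finite_of_card_ne_zero (by rw [h.card]; norm_num)

/-- an `η`-invariant subgroup containing the centre properly is everything -/
theorem Base.eq_top (h : Base T η) (H : Subgroup T) (hV : Subgroup.center T ≤ H)
    (hη : ∀ x ∈ H, η x ∈ H) (x : T) (hx : x ∈ H) (hxV : x ∉ Subgroup.center T) : H = ⊤ := by
  have := h.finite
  -- count fixed points
  have hmod := card_modEq_fixed (α := H) (fun a => ⟨η a.1, hη a.1 a.2⟩)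
    (fun a => Subtype.ext (h.pow_five a.1))
  have hfix : Nat.card {a : H // (⟨η a.1, hη a.1 a.2⟩ : H) = a} = 4 := by
    rw [← h.card_center]
    refine Nat.card_congr
      { toFun := fun a => ⟨a.1.1, ?_⟩
        invFun := fun v => ⟨⟨v.1, hV v.2⟩, Subtype.ext (h.fix_center v.1 v.2)⟩
        left_inv := fun a => rfl
        right_inv := fun v => rfl }
    apply h.fpf
    have e : η a.1.1 = a.1.1 := congrArg Subtype.val a.2
    rw [e, inv_mul_cancel]
    exact Subgroup.one_mem _
  rw [hfix] at hmod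
  -- the order of `H`
  have hdvd : Nat.card H ∣ 64 := h.card ▸ Subgroup.card_subgroup_dvd_card H
  have h4 : 4 < Nat.card H := by
    by_contra hle
    push Not at hle
    have hVH : Subgroup.center T = H := by
      apply Subgroup.eq_of_le_of_card_ge hV
      rw [h.card_center]
      exact hle
    exact hxV (hVH ▸ hx)
  have hle : Nat.card H ≤ 64 := Nat.le_of_dvd (by norm_num) hdvd
  have h64 : Nat.card H = 64 := by
    have hm : Nat.card H % 5 = 4 := hmod
    generalize Nat.card H = n at *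
    interval_cases n <;> omega
  exact Subgroup.eq_top_of_card_eq H (by rw [h64, h.card])

end base

/-- `Base` plus: squares and commutators are central -/
structure Pre (T : Type*) [Group T] (η : T ≃* T) : Prop where
  base : Base T η
  sq_mem : ∀ x : T, x * x ∈ Subgroup.center T
  comm_mem : ∀ x y : T, x * y * x⁻¹ * y⁻¹ ∈ Subgroup.center T

/-- the commutator -/
def kap {T : Type*} [Group T] (x y : T) : T := x * y * x⁻¹ * y⁻¹

/-- the orbit of an element -/
structure Orb {T : Type*} [Group T] (η : T ≃* T) (u0 u1 u2 u3 u4 : T) : Prop where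
  h1 : η u0 = u1
  h2 : η u1 = u2
  h3 : η u2 = u3
  h4 : η u3 = u4
  h5 : η u4 = u0

section pre

variable {T : Type*} [Group T] {η : T ≃* T}

theorem comm_of_mem_center {c : T} (hc : c ∈ Subgroup.center T) (g : T) : g * c = c * g :=
  Subgroup.mem_center_iff.1 hc g

theorem conj_of_mem_center {c : T} (hc : c ∈ Subgroup.center T) (g : T) : g * c * g⁻¹ = c := by
  rw [comm_of_mem_center hc g, mul_assoc, mul_inv_cancel, mul_one]

theorem Pre.kap_mem (h : Pre T η) (x y : T) : kap x y ∈ Subgroup.center T := h.comm_mem x y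

theorem Pre.kap_sq (h : Pre T η) (x y : T) : kap x y * kap x y = 1 :=
  h.base.center_sq _ (h.kap_mem x y)

theorem kap_inv (x y : T) : kap y x = (kap x y)⁻¹ := by unfold kap; group

theorem Pre.kap_symm (h : Pre T η) (x y : T) : kap y x = kap x y := by
  rw [kap_inv, inv_eq_iff_mul_eq_one]
  exact h.kap_sq x y

theorem Pre.kap_mul_left (h : Pre T η) (x x' y : T) : kap (x * x') y = kap x y * kap x' y := by
  have e : kap (x * x') y = x * kap x' y * x⁻¹ * kap x y := by unfold kap; group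
  rw [e, conj_of_mem_center (h.kap_mem x' y), comm_of_mem_center (h.kap_mem x y)]

theorem Pre.kap_mul_right (h : Pre T η) (x y y' : T) : kap x (y * y') = kap x y * kap x y' := by
  rw [h.kap_symm (y * y') x, h.kap_mul_left, h.kap_symm x y, h.kap_symm x y']

theorem Pre.sq_mul (h : Pre T η) (x y : T) :
    (x * y) * (x * y) = (x * x) * (y * y) * kap y x := by
  have e : (x * y) * (x * y) = x * kap y x * x⁻¹ * ((x * x) * (y * y)) := by unfold kap; group
  rw [e, conj_of_mem_center (h.kap_mem y x), comm_of_mem_center (h.kap_mem y x)]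

theorem Pre.kap_map (h : Pre T η) (x y : T) : kap (η x) (η y) = kap x y := by
  have e : η (kap x y) = kap (η x) (η y) := by
    unfold kap
    rw [map_mul, map_mul, map_mul, map_inv, map_inv]
  rw [← e]
  exact h.base.fix_center _ (h.kap_mem x y)

theorem Pre.sq_map (h : Pre T η) (x : T) : η x * η x = x * x := by
  rw [← map_mul]
  exact h.base.fix_center _ (h.sq_mem x)

theorem Pre.inv_eq_of_mem (h : Pre T η) {c : T} (hc : c ∈ Subgroup.center T) : c⁻¹ = c := by
  rw [inv_eq_iff_mul_eq_one]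
  exact h.base.center_sq c hc

variable {u0 u1 u2 u3 u4 : T}

theorem Pre.orb_prod_mem (h : Pre T η) (o : Orb η u0 u1 u2 u3 u4) :
    u0 * u1 * u2 * u3 * u4 ∈ Subgroup.center T := by
  apply h.base.fpf
  have e : η (u0 * u1 * u2 * u3 * u4) = u1 * u2 * u3 * u4 * u0 := by
    rw [map_mul, map_mul, map_mul, map_mul, o.h1, o.h2, o.h3, o.h4, o.h5]
  rw [e]
  have e2 : (u0 * u1 * u2 * u3 * u4)⁻¹ * (u1 * u2 * u3 * u4 * u0)
      = (u0 * u1 * u2 * u3 * u4)⁻¹ * u0⁻¹ * (u0 * u1 * u2 * u3 * u4)⁻¹⁻¹ * u0⁻¹⁻¹ := by group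
  rw [e2]
  exact h.comm_mem _ _

/-- a computation in a commutative group of exponent two -/
theorem comm_calc {A : Type*} [CommGroup A] (z c1 c2 : A) (hz : z * z = 1) (h1 : c1 * c1 = 1)
    (h2 : c2 * c2 = 1) :
    ((z * z * c1) * z * (c2 * c1)) * z * ((c2 * c2) * c1) = c1 * c2 := by
  calc ((z * z * c1) * z * (c2 * c1)) * z * ((c2 * c2) * c1)
      = (z * z) * (z * z) * (c2 * c2) * (c1 * c1) * (c1 * c2) := by ac_rfl
    _ = c1 * c2 := by rw [hz, h1, h2]; simp

/-- the centre as a commutative group -/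
@[reducible] def ctrComm (T : Type*) [Group T] : CommGroup (Subgroup.center T) :=
  { (inferInstance : Group (Subgroup.center T)) with
    mul_comm := fun a b => Subtype.ext (comm_of_mem_center b.2 a.1) }

theorem central_calc (z c1 c2 : T) (hz : z ∈ Subgroup.center T) (h1 : c1 ∈ Subgroup.center T)
    (h2 : c2 ∈ Subgroup.center T) (hzz : z * z = 1) (h11 : c1 * c1 = 1) (h22 : c2 * c2 = 1) :
    ((z * z * c1) * z * (c2 * c1)) * z * ((c2 * c2) * c1) = c1 * c2 := by
  letI := ctrComm T
  have := comm_calc (⟨z, hz⟩ : Subgroup.center T) ⟨c1, h1⟩ ⟨c2, h2⟩ (Subtype.ext hzz)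
    (Subtype.ext h11) (Subtype.ext h22)
  exact congrArg Subtype.val this

theorem Pre.orb_sq1 (h : Pre T η) (o : Orb η u0 u1 u2 u3 u4) : u1 * u1 = u0 * u0 := by
  rw [← o.h1]; exact h.sq_map u0

theorem Pre.orb_sq2 (h : Pre T η) (o : Orb η u0 u1 u2 u3 u4) : u2 * u2 = u0 * u0 := by
  rw [← o.h2, h.sq_map]; exact h.orb_sq1 o

theorem Pre.orb_sq3 (h : Pre T η) (o : Orb η u0 u1 u2 u3 u4) : u3 * u3 = u0 * u0 := by
  rw [← o.h3, h.sq_map]; exact h.orb_sq2 o

theorem Pre.orb_sq4 (h : Pre T η) (o : Orb η u0 u1 u2 u3 u4) : u4 * u4 = u0 * u0 := by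
  rw [← o.h4, h.sq_map]; exact h.orb_sq3 o

theorem Pre.orb_k21 (h : Pre T η) (o : Orb η u0 u1 u2 u3 u4) : kap u2 u1 = kap u1 u0 := by
  have e := h.kap_map u1 u0
  rw [o.h2, o.h1] at e
  exact e

theorem Pre.orb_k32 (h : Pre T η) (o : Orb η u0 u1 u2 u3 u4) : kap u3 u2 = kap u1 u0 := by
  have e := h.kap_map u2 u1
  rw [o.h3, o.h2] at e
  exact e.trans (h.orb_k21 o)

theorem Pre.orb_k43 (h : Pre T η) (o : Orb η u0 u1 u2 u3 u4) : kap u4 u3 = kap u1 u0 := by
  have e := h.kap_map u3 u2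
  rw [o.h4, o.h3] at e
  exact e.trans (h.orb_k32 o)

theorem Pre.orb_k31 (h : Pre T η) (o : Orb η u0 u1 u2 u3 u4) : kap u3 u1 = kap u2 u0 := by
  have e := h.kap_map u2 u0
  rw [o.h3, o.h1] at e
  exact e

theorem Pre.orb_k42 (h : Pre T η) (o : Orb η u0 u1 u2 u3 u4) : kap u4 u2 = kap u2 u0 := by
  have e := h.kap_map u3 u1
  rw [o.h4, o.h2] at e
  exact e.trans (h.orb_k31 o)

theorem Pre.orb_k30 (h : Pre T η) (o : Orb η u0 u1 u2 u3 u4) : kap u3 u0 = kap u2 u0 := by
  have e := h.kap_map u4 u2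
  rw [o.h5, o.h3] at e
  rw [h.kap_symm u0 u3, e]
  exact h.orb_k42 o

/-- the square of `u0 u1 u2 u3` -/
theorem Pre.orb_sq_four (h : Pre T η) (o : Orb η u0 u1 u2 u3 u4) :
    (u0 * u1 * u2 * u3) * (u0 * u1 * u2 * u3) = kap u1 u0 * kap u2 u0 := by
  rw [h.sq_mul (u0 * u1 * u2) u3, h.sq_mul (u0 * u1) u2, h.sq_mul u0 u1,
    h.kap_mul_right u3 (u0 * u1) u2, h.kap_mul_right u3 u0 u1, h.kap_mul_right u2 u0 u1,
    h.orb_sq1 o, h.orb_sq2 o, h.orb_sq3 o, h.orb_k21 o, h.orb_k32 o, h.orb_k31 o, h.orb_k30 o]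
  exact central_calc _ _ _ (h.sq_mem u0) (h.kap_mem _ _) (h.kap_mem _ _)
    (h.base.center_sq _ (h.sq_mem u0)) (h.kap_sq _ _) (h.kap_sq _ _)

/-- the basic relation `z = c₁ c₂` -/
theorem Pre.orb_z_eq (h : Pre T η) (o : Orb η u0 u1 u2 u3 u4) :
    u0 * u0 = kap u1 u0 * kap u2 u0 := by
  have hp := h.orb_prod_mem o
  set w := u0 * u1 * u2 * u3 with hw
  have h4 : u4 = w⁻¹ * (w * u4) := by group
  have hsq : u4 * u4 = (w * w)⁻¹ := by
    have hpp := h.base.center_sq _ hp
    calc u4 * u4 = w⁻¹ * (w * u4) * (w⁻¹ * (w * u4)) := by rw [← h4]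
      _ = w⁻¹ * ((w * u4) * w⁻¹) * (w * u4) := by group
      _ = w⁻¹ * (w⁻¹ * (w * u4)) * (w * u4) := by rw [← comm_of_mem_center hp w⁻¹]
      _ = w⁻¹ * w⁻¹ * ((w * u4) * (w * u4)) := by group
      _ = (w * w)⁻¹ := by rw [hpp]; group
  rw [h.orb_sq4 o, h.orb_sq_four o] at hsq
  rw [hsq]
  have hc : kap u1 u0 * kap u2 u0 ∈ Subgroup.center T :=
    Subgroup.mul_mem _ (h.kap_mem _ _) (h.kap_mem _ _)
  exact h.inv_eq_of_mem hc

/-- the orbit together with the centre generates -/
theorem Pre.orb_span (h : Pre T η) (o : Orb η u0 u1 u2 u3 u4) (hu : u0 ∉ Subgroup.center T) :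
    Subgroup.center T ⊔ Subgroup.closure {u0, u1, u2, u3} = ⊤ := by
  set H : Subgroup T := Subgroup.center T ⊔ Subgroup.closure {u0, u1, u2, u3} with hH
  have hm : ∀ x ∈ ({u0, u1, u2, u3} : Set T), x ∈ H := fun x hx =>
    (le_sup_right : Subgroup.closure {u0, u1, u2, u3} ≤ H) (Subgroup.subset_closure hx)
  have h0 : u0 ∈ H := hm u0 (by simp)
  have h1 : u1 ∈ H := hm u1 (by simp)
  have h2 : u2 ∈ H := hm u2 (by simp)
  have h3 : u3 ∈ H := hm u3 (by simp)
  have hV : Subgroup.center T ≤ H := le_sup_left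
  have h4 : u4 ∈ H := by
    have e : u4 = (u0 * u1 * u2 * u3)⁻¹ * (u0 * u1 * u2 * u3 * u4) := by group
    rw [e]
    exact H.mul_mem (H.inv_mem (H.mul_mem (H.mul_mem (H.mul_mem h0 h1) h2) h3))
      (hV (h.orb_prod_mem o))
  have hinv : H ≤ H.comap η.toMonoidHom := by
    rw [hH]
    apply sup_le
    · intro x hx
      show η x ∈ H
      rw [h.base.fix_center x hx]
      exact hV hx
    · rw [Subgroup.closure_le]
      intro x hx
      show η x ∈ H
      simp only [Set.mem_insert_iff, Set.mem_singleton_iff] at hx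
      rcases hx with rfl | rfl | rfl | rfl
      · rw [o.h1]; exact h1
      · rw [o.h2]; exact h2
      · rw [o.h3]; exact h3
      · rw [o.h4]; exact h4
  exact h.base.eq_top H hV (fun x hx => hinv hx) u0 h0 hu

end pre

end Cfsg.Agent.Lib.Helper8.K64A
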