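import Mathlib
import Cfsg.Agent.Lib.Helper8.K64A
import Cfsg.Agent.Lib.Helper5.R2.H64D

/-!
S1903 (author: helper8), part 2: two `K64` pairs are equivariantly isomorphic (graph of the
correspondence of a normalised orbit).
-/

set_option autoImplicit false

namespace Cfsg.Agent.Lib.Helper8.K64B

open Cfsg.Agent.Lib.Lead.K64Def Cfsg.Agent.Lib.Helper8.K64A

section

variable {T : Type*} [Group T] {η : T ≃* T}

theorem pre_of_k64 (h : K64 T η) : Pre T η :=
  ⟨⟨h.card, h.card_center, fun x hx => by rw [← sq]; exact h.center_sq x hx, h.pow_five,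
    h.fix_center, h.fpf⟩, fun x => by rw [← sq]; exact h.sq_mem x, h.comm_mem⟩

theorem sq_one_mem (h : K64 T η) {x : T} (hx : x * x = 1) : x ∈ Subgroup.center T :=
  h.sq_eq_one x (by rw [sq]; exact hx)

/-- a normalised orbit -/
structure Frame (η : T ≃* T) (u0 u1 u2 u3 u4 : T) : Prop where
  orb : Orb η u0 u1 u2 u3 u4
  not_mem : u0 ∉ Subgroup.center T
  prod : u0 * u1 * u2 * u3 * u4 = 1

theorem mul_mul_central (a b c d : T) (hc : c ∈ Subgroup.center T) :
    (a * c) * (b * d) = (a * b) * (c * d) := by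
  calc (a * c) * (b * d) = a * (c * b) * d := by group
    _ = a * (b * c) * d := by rw [comm_of_mem_center hc b]
    _ = (a * b) * (c * d) := by group

theorem exists_frame (h : Pre T η) : ∃ u0 u1 u2 u3 u4 : T, Frame η u0 u1 u2 u3 u4 := by
  have := h.base.finite
  obtain ⟨x, hx⟩ : ∃ x : T, x ∉ Subgroup.center T := by
    by_contra hall
    push Not at hall
    have htop : Subgroup.center T = ⊤ := by
      rw [eq_top_iff]; intro x _; exact hall x
    have hc := h.base.card_center
    rw [htop, Subgroup.card_top, h.base.card] at hc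
    omega
  have o : Orb η x (η x) (η (η x)) (η (η (η x))) (η (η (η (η x)))) :=
    ⟨rfl, rfl, rfl, rfl, h.base.pow_five x⟩
  have hp := h.orb_prod_mem o
  set p := x * η x * η (η x) * η (η (η x)) * η (η (η (η x))) with hpdef
  have hfix : η p = p := h.base.fix_center p hp
  have hpp : p * p = 1 := h.base.center_sq p hp
  have e1 : η (x * p) = η x * p := by rw [map_mul, hfix]
  have e2 : η (η x * p) = η (η x) * p := by rw [map_mul, hfix]
  have e3 : η (η (η x) * p) = η (η (η x)) * p := by rw [map_mul, hfix]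
  have e4 : η (η (η (η x)) * p) = η (η (η (η x))) * p := by rw [map_mul, hfix]
  have e5 : η (η (η (η (η x))) * p) = x * p := by rw [map_mul, hfix, h.base.pow_five]
  refine ⟨x * p, η x * p, η (η x) * p, η (η (η x)) * p, η (η (η (η x))) * p,
    ⟨e1, e2, e3, e4, e5⟩, ?_, ?_⟩
  · intro hm
    apply hx
    have : x = (x * p) * p⁻¹ := by group
    rw [this]
    exact Subgroup.mul_mem _ hm (Subgroup.inv_mem _ hp)
  · have hp2 : p * p ∈ Subgroup.center T := Subgroup.mul_mem _ hp hp
    have hp3 : p * p * p ∈ Subgroup.center T := Subgroup.mul_mem _ hp2 hp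
    have hp4 : p * p * p * p ∈ Subgroup.center T := Subgroup.mul_mem _ hp3 hp
    rw [mul_mul_central x (η x) p p hp, mul_mul_central (x * η x) (η (η x)) (p * p) p hp2,
      mul_mul_central (x * η x * η (η x)) (η (η (η x))) (p * p * p) p hp3,
      mul_mul_central (x * η x * η (η x) * η (η (η x))) (η (η (η (η x)))) (p * p * p * p) p hp4,
      ← hpdef, hpp, one_mul, hpp, one_mul, hpp]

end

section nondeg

variable {T : Type*} [Group T] {η : T ≃* T} {u0 u1 u2 u3 u4 : T}

theorem z_ne_one (h : K64 T η) (hu : u0 ∉ Subgroup.center T) : u0 * u0 ≠ 1 :=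
  fun e => hu (sq_one_mem h e)

theorem c1_ne_one (h : K64 T η) (o : Orb η u0 u1 u2 u3 u4) (hu : u0 ∉ Subgroup.center T) :
    kap u1 u0 ≠ 1 := by
  have hp := pre_of_k64 h
  intro e
  have hsq : (u0 * u1) * (u0 * u1) = 1 := by
    rw [hp.sq_mul, hp.orb_sq1 o, e, mul_one]
    exact hp.base.center_sq _ (hp.sq_mem u0)
  have hm := sq_one_mem h hsq
  apply hu
  apply h.fpf
  rw [o.h1]
  have : u0⁻¹ * u1 = (u0 * u0)⁻¹ * (u0 * u1) := by group
  rw [this]
  exact Subgroup.mul_mem _ (Subgroup.inv_mem _ (hp.sq_mem u0)) hm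

theorem c2_ne_one (h : K64 T η) (o : Orb η u0 u1 u2 u3 u4) (hu : u0 ∉ Subgroup.center T) :
    kap u2 u0 ≠ 1 := by
  have hp := pre_of_k64 h
  intro e
  have hsq : (u0 * u2) * (u0 * u2) = 1 := by
    rw [hp.sq_mul, hp.orb_sq2 o, e, mul_one]
    exact hp.base.center_sq _ (hp.sq_mem u0)
  have hm := sq_one_mem h hsq
  -- `u4 = u0`
  have h2 : u2 = u0⁻¹ * (u0 * u2) := by group
  have h4 : u4 = u0 := by
    have e4 : u4 = η (η u2) := by rw [o.h3, o.h4]
    rw [e4, h2, map_mul, map_mul, map_inv, map_inv, o.h1, o.h2,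
      h.fix_center _ hm, h.fix_center _ hm]
    calc u2⁻¹ * (u0 * u2) = u2⁻¹ * (u0 * u2) * u2 * u2⁻¹ := by group
      _ = u2⁻¹ * (u2 * (u0 * u2)) * u2⁻¹ := by rw [comm_of_mem_center hm u2]; group
      _ = u0 := by group
  apply hu
  apply h.fpf
  have : η u0 = u0 := by
    have e5 := o.h5
    rw [h4] at e5
    exact e5
  rw [this, inv_mul_cancel]
  exact Subgroup.one_mem _

theorem c1_ne_c2 (h : K64 T η) (o : Orb η u0 u1 u2 u3 u4) (hu : u0 ∉ Subgroup.center T) :
    kap u1 u0 ≠ kap u2 u0 := by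
  have hp := pre_of_k64 h
  intro e
  apply z_ne_one h hu
  rw [hp.orb_z_eq o, e]
  exact hp.kap_sq _ _

/-- the centre consists of `1, c₁, c₂, c₁ c₂` -/
theorem center_enum (h : K64 T η) (o : Orb η u0 u1 u2 u3 u4) (hu : u0 ∉ Subgroup.center T)
    (v : T) (hv : v ∈ Subgroup.center T) :
    v = 1 ∨ v = kap u1 u0 ∨ v = kap u2 u0 ∨ v = kap u1 u0 * kap u2 u0 := by
  classical
  have hp := pre_of_k64 h
  have := hp.base.finite
  set c1 := kap u1 u0 with hc1
  set c2 := kap u2 u0 with hc2
  have n1 : c1 ≠ 1 := c1_ne_one h o hu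
  have n2 : c2 ≠ 1 := c2_ne_one h o hu
  have n12 : c1 ≠ c2 := c1_ne_c2 h o hu
  have nz : c1 * c2 ≠ 1 := by
    rw [← hp.orb_z_eq o]; exact z_ne_one h hu
  have n3 : c1 ≠ c1 * c2 := fun e => n2 (by simpa using e.symm)
  have n4 : c2 ≠ c1 * c2 := fun e => n1 (by simpa using e.symm)
  let S : Finset T := {1, c1, c2, c1 * c2}
  have hcard : S.card = 4 := by
    simp only [S]
    rw [Finset.card_insert_of_notMem, Finset.card_insert_of_notMem,
      Finset.card_insert_of_notMem, Finset.card_singleton]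
    · simp only [Finset.mem_singleton]; exact n4
    · simp only [Finset.mem_insert, Finset.mem_singleton, not_or]; exact ⟨n12, n3⟩
    · simp only [Finset.mem_insert, Finset.mem_singleton, not_or]
      exact ⟨n1.symm, n2.symm, nz.symm⟩
  have hsub : (S : Set T) ⊆ (Subgroup.center T : Set T) := by
    intro x hx
    simp only [S, Finset.coe_insert, Finset.coe_singleton, Set.mem_insert_iff,
      Set.mem_singleton_iff] at hx
    rcases hx with rfl | rfl | rfl | rfl
    · exact Subgroup.one_mem _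
    · exact hp.kap_mem _ _
    · exact hp.kap_mem _ _
    · exact Subgroup.mul_mem _ (hp.kap_mem _ _) (hp.kap_mem _ _)
  have heq : (S : Set T) = (Subgroup.center T : Set T) := by
    apply Set.eq_of_subset_of_ncard_le hsub _ (Set.toFinite _)
    rw [Set.ncard_coe_finset, hcard, ← Nat.card_coe_set_eq]
    exact le_of_eq h.card_center
  have hv' : v ∈ (S : Set T) := by rw [heq]; exact hv
  simpa [S] using hv'

/-- the orbit of a non-central element generates -/
theorem orb_closure (h : K64 T η) (o : Orb η u0 u1 u2 u3 u4) (hu : u0 ∉ Subgroup.center T) :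
    Subgroup.closure {u0, u1, u2, u3} = ⊤ := by
  have hp := pre_of_k64 h
  have hspan := hp.orb_span o hu
  rw [← hspan]
  symm
  apply sup_eq_right.2
  set K : Subgroup T := Subgroup.closure {u0, u1, u2, u3} with hK
  have h0 : u0 ∈ K := Subgroup.subset_closure (by simp)
  have h1 : u1 ∈ K := Subgroup.subset_closure (by simp)
  have h2 : u2 ∈ K := Subgroup.subset_closure (by simp)
  have k1 : kap u1 u0 ∈ K :=
    K.mul_mem (K.mul_mem (K.mul_mem h1 h0) (K.inv_mem h1)) (K.inv_mem h0)
  have k2 : kap u2 u0 ∈ K :=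
    K.mul_mem (K.mul_mem (K.mul_mem h2 h0) (K.inv_mem h2)) (K.inv_mem h0)
  intro v hv
  rcases center_enum h o hu v hv with rfl | rfl | rfl | rfl
  · exact K.one_mem
  · exact k1
  · exact k2
  · exact K.mul_mem k1 k2

end nondeg

section equiv

variable {T : Type*} [Group T] {η : T ≃* T} {T' : Type*} [Group T'] {η' : T' ≃* T'}

theorem inv_comm_eq_kap (hp : Pre T η) (x y : T) : x⁻¹ * y⁻¹ * x * y = kap x y := by
  have e : x⁻¹ * y⁻¹ * x * y = (y * x)⁻¹ * kap x y * (y * x) := by unfold kap; group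
  rw [e, comm_of_mem_center (hp.kap_mem x y) (y * x)⁻¹, inv_mul_cancel_right]

theorem equiv_of_frames (h : K64 T η) (h' : K64 T' η') {u0 u1 u2 u3 u4 : T}
    {a0 a1 a2 a3 a4 : T'} (f : Frame η u0 u1 u2 u3 u4) (f' : Frame η' a0 a1 a2 a3 a4) :
    ∃ F : T ≃* T', ∀ x, F (η x) = η' (F x) := by
  have hp := pre_of_k64 h
  have hp' := pre_of_k64 h'
  have hfinT := hp.base.finite
  have hfinT' := hp'.base.finite
  have o := f.orb
  have o' := f'.orb
  set c1 := kap u1 u0 with hc1
  set c2 := kap u2 u0 with hc2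
  set d1 := kap a1 a0 with hd1
  set d2 := kap a2 a0 with hd2
  have hcen : ∀ (c : T) (d : T'), c ∈ Subgroup.center T → d ∈ Subgroup.center T' →
      ((c, d) : T × T') ∈ Subgroup.center (T × T') := by
    intro c d hc hd
    rw [Subgroup.mem_center_iff]
    rintro ⟨g, g'⟩
    exact Prod.ext (Subgroup.mem_center_iff.1 hc g) (Subgroup.mem_center_iff.1 hd g')
  have hc1m : c1 ∈ Subgroup.center T := hp.kap_mem _ _
  have hc2m : c2 ∈ Subgroup.center T := hp.kap_mem _ _
  have hd1m : d1 ∈ Subgroup.center T' := hp'.kap_mem _ _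
  have hd2m : d2 ∈ Subgroup.center T' := hp'.kap_mem _ _
  have hk1c := hcen c1 d1 hc1m hd1m
  have hk2c := hcen c2 d2 hc2m hd2m
  obtain ⟨hDfin, hDcard⟩ := Cfsg.Agent.Lib.Helper5.R2.card_closure_list_le
    (⊥ : Subgroup (T × T')) bot_le [((c1, d1) : T × T'), (c2, d2)]
    (by
      intro x hx
      simp only [List.mem_cons, List.not_mem_nil, or_false] at hx
      rw [Subgroup.mem_bot]
      rcases hx with rfl | rfl
      · exact Prod.ext (hp.kap_sq _ _) (hp'.kap_sq _ _)
      · exact Prod.ext (hp.kap_sq _ _) (hp'.kap_sq _ _))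
    (by
      simp only [List.pairwise_cons, List.mem_cons, List.not_mem_nil, or_false, forall_eq,
        IsEmpty.forall_iff, implies_true, List.Pairwise.nil, and_true]
      rw [Subgroup.mem_bot]
      have hc := Subgroup.mem_center_iff.1 hk2c ((c1, d1) : T × T')
      calc ((c1, d1) : T × T')⁻¹ * (c2, d2)⁻¹ * (c1, d1) * (c2, d2)
          = ((c1, d1) : T × T')⁻¹ * (c2, d2)⁻¹ * ((c1, d1) * (c2, d2)) := by group
        _ = ((c1, d1) : T × T')⁻¹ * (c2, d2)⁻¹ * ((c2, d2) * (c1, d1)) := by rw [hc]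
        _ = 1 := by group)
  set D : Subgroup (T × T') :=
    ⊥ ⊔ Subgroup.closure {x | x ∈ [((c1, d1) : T × T'), (c2, d2)]} with hDdef
  have hDcard4 : Nat.card D ≤ 4 := by
    have : Nat.card (⊥ : Subgroup (T × T')) = 1 := Subgroup.card_bot
    rw [this] at hDcard
    simpa using hDcard
  have hk1D : ((c1, d1) : T × T') ∈ D :=
    (le_sup_right : _ ≤ D) (Subgroup.subset_closure (by simp))
  have hk2D : ((c2, d2) : T × T') ∈ D :=
    (le_sup_right : _ ≤ D) (Subgroup.subset_closure (by simp))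
  have hzD : ((u0 * u0, a0 * a0) : T × T') ∈ D := by
    have : ((u0 * u0, a0 * a0) : T × T') = (c1, d1) * (c2, d2) :=
      Prod.ext (hp.orb_z_eq o) (hp'.orb_z_eq o')
    rw [this]
    exact D.mul_mem hk1D hk2D
  have hDc : D ≤ Subgroup.center (T × T') := by
    rw [hDdef]
    apply sup_le bot_le
    rw [Subgroup.closure_le]
    intro x hx
    simp only [List.mem_cons, List.not_mem_nil, or_false, Set.mem_ofPred_eq] at hx
    rcases hx with rfl | rfl
    · exact hk1c
    · exact hk2c
  have key : ∀ (x y : T) (x' y' : T') (c : T) (d : T'), kap y x = c → kap y' x' = d →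
      ((c, d) : T × T') ∈ D →
      ((x, x') : T × T')⁻¹ * (y, y')⁻¹ * (x, x') * (y, y') ∈ D := by
    intro x y x' y' c d e e' hm
    have : ((x, x') : T × T')⁻¹ * (y, y')⁻¹ * (x, x') * (y, y') = (c, d) := by
      refine Prod.ext ?_ ?_
      · show x⁻¹ * y⁻¹ * x * y = c
        rw [inv_comm_eq_kap hp, ← hp.kap_symm x y]
        exact e
      · show x'⁻¹ * y'⁻¹ * x' * y' = d
        rw [inv_comm_eq_kap hp', ← hp'.kap_symm x' y']
        exact e'
    rw [this]
    exact hm
  have sqkey : ∀ (x : T) (x' : T'), x * x = u0 * u0 → x' * x' = a0 * a0 →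
      ((x, x') : T × T') * (x, x') ∈ D := by
    intro x x' e e'
    have : ((x, x') : T × T') * (x, x') = (u0 * u0, a0 * a0) := Prod.ext e e'
    rw [this]
    exact hzD
  obtain ⟨hPfin, hPcard⟩ := Cfsg.Agent.Lib.Helper5.R2.card_closure_list_le D hDc
    [((u0, a0) : T × T'), (u1, a1), (u2, a2), (u3, a3)]
    (by
      intro x hx
      simp only [List.mem_cons, List.not_mem_nil, or_false] at hx
      rcases hx with rfl | rfl | rfl | rfl
      · exact sqkey _ _ rfl rfl
      · exact sqkey _ _ (hp.orb_sq1 o) (hp'.orb_sq1 o')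
      · exact sqkey _ _ (hp.orb_sq2 o) (hp'.orb_sq2 o')
      · exact sqkey _ _ (hp.orb_sq3 o) (hp'.orb_sq3 o'))
    (by
      simp only [List.pairwise_cons, List.mem_cons, List.not_mem_nil, or_false, forall_eq_or_imp,
        forall_eq, IsEmpty.forall_iff, implies_true, List.Pairwise.nil, and_true]
      refine ⟨⟨?_, ?_, ?_⟩, ⟨?_, ?_⟩, ?_⟩
      · exact key _ _ _ _ c1 d1 rfl rfl hk1D
      · exact key _ _ _ _ c2 d2 rfl rfl hk2D
      · exact key _ _ _ _ c2 d2 (hp.orb_k30 o) (hp'.orb_k30 o') hk2D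
      · exact key _ _ _ _ c1 d1 (hp.orb_k21 o) (hp'.orb_k21 o') hk1D
      · exact key _ _ _ _ c2 d2 (hp.orb_k31 o) (hp'.orb_k31 o') hk2D
      · exact key _ _ _ _ c1 d1 (hp.orb_k32 o) (hp'.orb_k32 o') hk1D)
  set S : Set (T × T') := {((u0, a0) : T × T'), (u1, a1), (u2, a2), (u3, a3)} with hS
  have hSl : {x | x ∈ [((u0, a0) : T × T'), (u1, a1), (u2, a2), (u3, a3)]} = S := by
    ext x
    simp [hS]
  rw [hSl] at hPfin hPcard
  set P : Subgroup (T × T') := Subgroup.closure S with hP
  have hPle : Nat.card P ≤ 64 := by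
    have h1 : Nat.card P ≤ Nat.card ↥(D ⊔ P) := Subgroup.card_le_of_le le_sup_right
    have h2 : 2 ^ [((u0, a0) : T × T'), (u1, a1), (u2, a2), (u3, a3)].length * Nat.card D
        ≤ 64 := by
      simp only [List.length_cons, List.length_nil]
      omega
    exact h1.trans (hPcard.trans h2)
  have hfinP : Finite P := inferInstance
  -- the projections
  let π₁ : P →* T := (MonoidHom.fst T T').comp P.subtype
  let π₂ : P →* T' := (MonoidHom.snd T T').comp P.subtype
  have hπ₁ : Function.Surjective π₁ := by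
    rw [← MonoidHom.range_eq_top, MonoidHom.range_comp, Subgroup.range_subtype, hP,
      MonoidHom.map_closure, ← orb_closure h o f.not_mem]
    congr 1
    simp [hS, Set.image_insert_eq]
  have hπ₂ : Function.Surjective π₂ := by
    rw [← MonoidHom.range_eq_top, MonoidHom.range_comp, Subgroup.range_subtype, hP,
      MonoidHom.map_closure, ← orb_closure h' o' f'.not_mem]
    congr 1
    simp [hS, Set.image_insert_eq]
  have hb₁ : Function.Bijective π₁ := hπ₁.bijective_of_nat_card_le (by rw [h.card]; exact hPle)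
  have hb₂ : Function.Bijective π₂ := hπ₂.bijective_of_nat_card_le (by rw [h'.card]; exact hPle)
  let e₁ : P ≃* T := MulEquiv.ofBijective π₁ hb₁
  let e₂ : P ≃* T' := MulEquiv.ofBijective π₂ hb₂
  -- invariance of the graph
  let ψ : T × T' →* T × T' := MonoidHom.prodMap η.toMonoidHom η'.toMonoidHom
  have hψ : ∀ (x : T) (x' : T'), ψ (x, x') = (η x, η' x') := fun x x' => rfl
  have m0 : ((u0, a0) : T × T') ∈ P := Subgroup.subset_closure (by simp [hS])
  have m1 : ((u1, a1) : T × T') ∈ P := Subgroup.subset_closure (by simp [hS])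
  have m2 : ((u2, a2) : T × T') ∈ P := Subgroup.subset_closure (by simp [hS])
  have m3 : ((u3, a3) : T × T') ∈ P := Subgroup.subset_closure (by simp [hS])
  have m4 : ((u4, a4) : T × T') ∈ P := by
    have e : ((u4, a4) : T × T') = ((u0, a0) * (u1, a1) * (u2, a2) * (u3, a3))⁻¹ :=
      Prod.ext (eq_inv_of_mul_eq_one_right f.prod) (eq_inv_of_mul_eq_one_right f'.prod)
    rw [e]
    exact P.inv_mem (P.mul_mem (P.mul_mem (P.mul_mem m0 m1) m2) m3)
  have hinv : P ≤ P.comap ψ := by
    rw [hP, Subgroup.closure_le]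
    intro x hx
    simp only [hS, Set.mem_insert_iff, Set.mem_singleton_iff] at hx
    show ψ x ∈ P
    rcases hx with rfl | rfl | rfl | rfl
    · rw [hψ, o.h1, o'.h1]; exact m1
    · rw [hψ, o.h2, o'.h2]; exact m2
    · rw [hψ, o.h3, o'.h3]; exact m3
    · rw [hψ, o.h4, o'.h4]; exact m4
  refine ⟨e₁.symm.trans e₂, ?_⟩
  intro x
  set γ : P := e₁.symm x with hγ
  have hγ1 : γ.1.1 = x := by
    have : e₁ γ = x := by rw [hγ, MulEquiv.apply_symm_apply]
    exact this
  let δ : P := ⟨ψ γ.1, hinv γ.2⟩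
  have hδ : e₁ δ = η x := by
    show (ψ γ.1).1 = η x
    rw [← hγ1]
    rfl
  have hδ' : e₁.symm (η x) = δ := by
    rw [← hδ, MulEquiv.symm_apply_apply]
  show e₂ (e₁.symm (η x)) = η' (e₂ (e₁.symm x))
  rw [hδ']
  rfl

/-- **Part B**: two `K64` pairs are equivariantly isomorphic -/
theorem k64_equiv (h : K64 T η) (h' : K64 T' η') :
    ∃ F : T ≃* T', ∀ x, F (η x) = η' (F x) := by
  obtain ⟨u0, u1, u2, u3, u4, f⟩ := exists_frame (pre_of_k64 h)
  obtain ⟨a0, a1, a2, a3, a4, f'⟩ := exists_frame (pre_of_k64 h')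
  exact equiv_of_frames h h' f f'

end equiv

end Cfsg.Agent.Lib.Helper8.K64B
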