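import Mathlib
import Cfsg.Agent.Lib.Helper8.K64A

/-!
S1903 (author: helper8), part 3: an abstract criterion for `K64 T η`.
-/

set_option autoImplicit false

namespace Cfsg.Agent.Lib.Helper8.K64C

open Cfsg.Agent.Lib.Lead.K64Def Cfsg.Agent.Lib.Helper8.K64A

section

variable {T : Type*} [Group T]

theorem kap_central_left {v : T} (hv : v ∈ Subgroup.center T) (y : T) : kap v y = 1 := by
  unfold kap
  rw [← comm_of_mem_center hv y]
  group

/-- elements whose commutators with all elements of `A` lie in the central subgroup `W` -/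
def kerL (W : Subgroup T) (hW : W ≤ Subgroup.center T) (A : Set T) : Subgroup T where
  carrier := {x | ∀ y ∈ A, kap x y ∈ W}
  one_mem' := fun y _ => by
    have : kap (1 : T) y = 1 := by unfold kap; group
    rw [this]; exact W.one_mem
  mul_mem' := by
    intro x x' hx hx' y hy
    have e : kap (x * x') y = x * kap x' y * x⁻¹ * kap x y := by unfold kap; group
    rw [e, conj_of_mem_center (hW (hx' y hy))]
    exact W.mul_mem (hx' y hy) (hx y hy)
  inv_mem' := by
    intro x hx y hy
    have e : kap x⁻¹ y = x⁻¹ * (kap x y)⁻¹ * x⁻¹⁻¹ := by unfold kap; group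
    rw [e, conj_of_mem_center (hW (W.inv_mem (hx y hy)))]
    exact W.inv_mem (hx y hy)

theorem mem_kerL {W : Subgroup T} {hW : W ≤ Subgroup.center T} {A : Set T} {x : T} :
    x ∈ kerL W hW A ↔ ∀ y ∈ A, kap x y ∈ W := Iff.rfl

theorem center_le_kerL (W : Subgroup T) (hW : W ≤ Subgroup.center T) (A : Set T) :
    Subgroup.center T ≤ kerL W hW A := by
  intro v hv y _
  rw [kap_central_left hv]
  exact W.one_mem

/-- commutators of generators in `W` implies all commutators in `W` -/
theorem kap_mem_of_gen (W : Subgroup T) (hW : W ≤ Subgroup.center T) (S : Set T)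
    (hS : Subgroup.center T ⊔ Subgroup.closure S = ⊤)
    (hSW : ∀ a ∈ S, ∀ b ∈ S, kap a b ∈ W) : ∀ x y : T, kap x y ∈ W := by
  have step1 : ∀ a ∈ S, kerL W hW {a} = ⊤ := by
    intro a ha
    rw [eq_top_iff, ← hS]
    apply sup_le (center_le_kerL W hW _)
    rw [Subgroup.closure_le]
    intro b hb y hy
    rw [Set.mem_singleton_iff] at hy
    subst hy
    exact hSW b hb y ha
  have step2 : kerL W hW Set.univ = ⊤ := by
    rw [eq_top_iff, ← hS]
    apply sup_le (center_le_kerL W hW _)
    rw [Subgroup.closure_le]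
    intro a ha y _
    have hy : y ∈ kerL W hW {a} := by rw [step1 a ha]; exact Subgroup.mem_top y
    have := hy a rfl
    rw [kap_inv y a]
    exact W.inv_mem this
  intro x y
  have hx : x ∈ kerL W hW Set.univ := by rw [step2]; exact Subgroup.mem_top x
  exact hx y (Set.mem_univ y)

theorem sq_mul_of_comm (x y : T) (hc : kap y x ∈ Subgroup.center T) :
    (x * y) * (x * y) = (x * x) * (y * y) * kap y x := by
  have e : (x * y) * (x * y) = x * kap y x * x⁻¹ * ((x * x) * (y * y)) := by unfold kap; group
  rw [e, conj_of_mem_center hc, comm_of_mem_center hc]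

end

section criterion

variable {T : Type*} [Group T] {η : T ≃* T}

theorem map_mem_center (η : T ≃* T) {x : T} (hx : x ∈ Subgroup.center T) :
    η x ∈ Subgroup.center T := by
  rw [Subgroup.mem_center_iff]
  intro g
  obtain ⟨g', rfl⟩ := η.surjective g
  rw [← map_mul, ← map_mul, comm_of_mem_center hx g']

/-- `η` fixes the centre pointwise -/
theorem fix_center_of (hcen : Nat.card (Subgroup.center T) = 4)
    (h5 : ∀ x : T, η (η (η (η (η x)))) = x) : ∀ x ∈ Subgroup.center T, η x = x := by
  have hfinV : Finite (Subgroup.center T) := Nat.finite_of_card_ne_zero (by rw [hcen]; norm_num)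
  have hmod := card_modEq_fixed (α := Subgroup.center T)
    (fun a => ⟨η a.1, map_mem_center η a.2⟩) (fun a => Subtype.ext (h5 a.1))
  rw [hcen] at hmod
  have hle : Nat.card {a : Subgroup.center T //
      (⟨η a.1, map_mem_center η a.2⟩ : Subgroup.center T) = a} ≤ 4 := by
    rw [← hcen]
    exact Nat.card_le_card_of_injective Subtype.val Subtype.val_injective
  have h4 : Nat.card {a : Subgroup.center T //
      (⟨η a.1, map_mem_center η a.2⟩ : Subgroup.center T) = a} = 4 := by
    have : 4 % 5 = Nat.card {a : Subgroup.center T //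
      (⟨η a.1, map_mem_center η a.2⟩ : Subgroup.center T) = a} % 5 := hmod
    omega
  have hbij : Function.Bijective (Subtype.val : {a : Subgroup.center T //
      (⟨η a.1, map_mem_center η a.2⟩ : Subgroup.center T) = a} → Subgroup.center T) :=
    Subtype.val_injective.bijective_of_nat_card_le (by rw [h4, hcen])
  intro x hx
  obtain ⟨a, ha⟩ := hbij.2 ⟨x, hx⟩
  have h1 := a.2
  rw [ha] at h1
  exact congrArg Subtype.val h1

/-- the fixed points -/
def fixSub (η : T ≃* T) : Subgroup T where
  carrier := {x | η x = x}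
  one_mem' := map_one η
  mul_mem' := by
    intro x y hx hy
    show η (x * y) = x * y
    rw [map_mul, hx, hy]
  inv_mem' := by
    intro x hx
    show η x⁻¹ = x⁻¹
    rw [map_inv, hx]

theorem base_of (hcard : Nat.card T = 64) (hcen : Nat.card (Subgroup.center T) = 4)
    (hcsq : ∀ x ∈ Subgroup.center T, x * x = 1) (h5 : ∀ x : T, η (η (η (η (η x)))) = x)
    (hgen : ∀ M : Subgroup T, (∀ x y : T, x * y * x⁻¹ * y⁻¹ ∈ M) → (∀ x : T, η x * x⁻¹ ∈ M) →
      M = ⊤) : Base T η := by
  have hfin : Finite T := Nat.finite_of_card_ne_zero (by rw [hcard]; norm_num)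
  have hfixc := fix_center_of hcen h5
  refine ⟨hcard, hcen, hcsq, h5, hfixc, ?_⟩
  -- elements fixed modulo the centre are fixed
  have hfix_of : ∀ x : T, x⁻¹ * η x ∈ Subgroup.center T → η x = x := by
    intro x hx
    set d := x⁻¹ * η x with hd
    have e1 : η x = x * d := by rw [hd]; group
    have hdd : d * d = 1 := hcsq d hx
    have hηd : η d = d := hfixc d hx
    have e2 : η (η x) = x := by rw [e1, map_mul, e1, hηd, mul_assoc, hdd, mul_one]
    have e5 := h5 x
    rw [e2, e2] at e5
    exact e5
  -- the order of the fixed point subgroup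
  have hmod := card_modEq_fixed (α := T) (fun a => η a) h5
  have hcardFix : Nat.card (fixSub η) = Nat.card {a : T // η a = a} := rfl
  rw [← hcardFix, hcard] at hmod
  have hVle : Subgroup.center T ≤ fixSub η := fun x hx => hfixc x hx
  have hdvd : Nat.card (fixSub η) ∣ 64 := hcard ▸ Subgroup.card_subgroup_dvd_card _
  have hle : Nat.card (fixSub η) ≤ 64 := Nat.le_of_dvd (by norm_num) hdvd
  have hcases : Nat.card (fixSub η) = 4 ∨ Nat.card (fixSub η) = 64 := by
    have hm : 64 % 5 = Nat.card (fixSub η) % 5 := hmod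
    generalize Nat.card (fixSub η) = n at *
    interval_cases n <;> omega
  rcases hcases with h4 | h64
  · have hVF : Subgroup.center T = fixSub η :=
      Subgroup.eq_of_le_of_card_ge hVle (by rw [h4, hcen])
    intro x hx
    rw [hVF]
    exact hfix_of x hx
  · exfalso
    have htop : fixSub η = ⊤ := Subgroup.eq_top_of_card_eq _ (by rw [h64, hcard])
    have hid : ∀ x : T, η x = x := fun x => by
      have : x ∈ fixSub η := by rw [htop]; exact Subgroup.mem_top x
      exact this
    have hcomm : commutator T = ⊤ := by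
      apply hgen
      · intro x y
        have := Subgroup.commutator_mem_commutator (Subgroup.mem_top x) (Subgroup.mem_top y)
        rw [commutatorElement_def] at this
        exact this
      · intro x
        rw [hid x, mul_inv_cancel]
        exact Subgroup.one_mem _
    have hp : IsPGroup 2 T := IsPGroup.of_card (n := 6) (by rw [hcard]; norm_num)
    haveI : Fact (Nat.Prime 2) := ⟨Nat.prime_two⟩
    haveI := hp.isNilpotent
    haveI : Nontrivial T := by
      rw [← Finite.one_lt_card_iff_nontrivial, hcard]; norm_num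
    exact (Group.IsSolvable.commutator_lt_top_of_nontrivial T).ne hcomm

end criterion

section classtwo

variable {T : Type*} [Group T] {η : T ≃* T}

theorem card_quot_center (hb : Base T η) : Nat.card (T ⧸ Subgroup.center T) = 16 := by
  have h := Subgroup.card_eq_card_quotient_mul_card_subgroup (Subgroup.center T)
  rw [hb.card, hb.card_center] at h
  omega

/-- commutators are central -/
theorem comm_mem_of (hb : Base T η) : ∀ x y : T, x * y * x⁻¹ * y⁻¹ ∈ Subgroup.center T := by
  have hfin := hb.finite
  set H : Subgroup T := kerL (Subgroup.center T) le_rfl Set.univ with hH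
  have hVH : Subgroup.center T ≤ H := center_le_kerL _ _ _
  have hηH : ∀ x ∈ H, η x ∈ H := by
    intro x hx y _
    have e : kap (η x) y = η (kap x (η.symm y)) := by
      unfold kap
      rw [map_mul, map_mul, map_mul, map_inv, map_inv, MulEquiv.apply_symm_apply]
    rw [e]
    exact map_mem_center η (hx (η.symm y) (Set.mem_univ _))
  -- an element of the second centre
  have hp : IsPGroup 2 T := IsPGroup.of_card (n := 6) (by rw [hb.card]; norm_num)
  haveI : Fact (Nat.Prime 2) := ⟨Nat.prime_two⟩
  have hpQ : IsPGroup 2 (T ⧸ Subgroup.center T) := hp.to_quotient _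
  haveI : Nontrivial (T ⧸ Subgroup.center T) := by
    rw [← Finite.one_lt_card_iff_nontrivial, card_quot_center hb]; norm_num
  have hnt := hpQ.center_nontrivial
  obtain ⟨q, hq⟩ := exists_ne (1 : Subgroup.center (T ⧸ Subgroup.center T))
  obtain ⟨x, hx⟩ := QuotientGroup.mk_surjective q.1
  have hxV : x ∉ Subgroup.center T := by
    intro hm
    apply hq
    apply Subtype.ext
    rw [← hx]
    exact (QuotientGroup.eq_one_iff x).2 hm
  have hxH : x ∈ H := by
    intro y _
    rw [← QuotientGroup.eq_one_iff]
    unfold kap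
    rw [QuotientGroup.mk_mul, QuotientGroup.mk_mul, QuotientGroup.mk_mul, QuotientGroup.mk_inv,
      QuotientGroup.mk_inv, hx]
    have hc := Subgroup.mem_center_iff.1 q.2 (y : T ⧸ Subgroup.center T)
    rw [← hc]
    group
  have htop := hb.eq_top H hVH hηH x hxH hxV
  intro x y
  have hx : x ∈ H := by rw [htop]; exact Subgroup.mem_top x
  exact hx y (Set.mem_univ y)

/-- squares are central -/
theorem sq_mem_of (hb : Base T η) : ∀ x : T, x * x ∈ Subgroup.center T := by
  have hfin := hb.finite
  have hcm := comm_mem_of hb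
  let H : Subgroup T :=
    { carrier := {x | x * x ∈ Subgroup.center T}
      one_mem' := by
        show (1 : T) * 1 ∈ Subgroup.center T
        rw [mul_one]; exact Subgroup.one_mem _
      mul_mem' := by
        intro x y hx hy
        show (x * y) * (x * y) ∈ Subgroup.center T
        rw [sq_mul_of_comm x y (hcm y x)]
        exact Subgroup.mul_mem _ (Subgroup.mul_mem _ hx hy) (hcm y x)
      inv_mem' := by
        intro x hx
        show x⁻¹ * x⁻¹ ∈ Subgroup.center T
        rw [← mul_inv_rev]
        exact Subgroup.inv_mem _ hx }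
  have hVH : Subgroup.center T ≤ H := by
    intro v hv
    show v * v ∈ Subgroup.center T
    rw [hb.center_sq v hv]
    exact Subgroup.one_mem _
  have hηH : ∀ x ∈ H, η x ∈ H := by
    intro x hx
    show η x * η x ∈ Subgroup.center T
    rw [← map_mul]
    exact map_mem_center η hx
  -- an element of order two of the quotient
  have h2 : 2 ∣ Nat.card (T ⧸ Subgroup.center T) := by rw [card_quot_center hb]; norm_num
  haveI : Fact (Nat.Prime 2) := ⟨Nat.prime_two⟩
  obtain ⟨q, hq⟩ := exists_prime_orderOf_dvd_card' 2 h2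
  obtain ⟨x, hx⟩ := QuotientGroup.mk_surjective q
  have hxV : x ∉ Subgroup.center T := by
    intro hm
    have : q = 1 := by rw [← hx]; exact (QuotientGroup.eq_one_iff x).2 hm
    rw [this, orderOf_one] at hq
    omega
  have hxH : x ∈ H := by
    show x * x ∈ Subgroup.center T
    rw [← QuotientGroup.eq_one_iff, QuotientGroup.mk_mul, hx, ← sq, ← hq]
    exact pow_orderOf_eq_one q
  have htop := hb.eq_top H hVH hηH x hxH hxV
  intro x
  have hx : x ∈ H := by rw [htop]; exact Subgroup.mem_top x
  exact hx

theorem pre_of (hb : Base T η) : Pre T η := ⟨hb, sq_mem_of hb, comm_mem_of hb⟩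

end classtwo

section invol

variable {T : Type*} [Group T] {η : T ≃* T}

theorem no_invol_aux (hp : Pre T η)
    (hgen : ∀ M : Subgroup T, (∀ x y : T, x * y * x⁻¹ * y⁻¹ ∈ M) → (∀ x : T, η x * x⁻¹ ∈ M) →
      M = ⊤) {u0 u1 u2 u3 u4 : T} (o : Orb η u0 u1 u2 u3 u4) (hu : u0 ∉ Subgroup.center T)
    (h1 : u0 * u0 = 1) : False := by
  have hfin := hp.base.finite
  set c := kap u1 u0 with hc
  have hcm : c ∈ Subgroup.center T := hp.kap_mem _ _
  have k20 : kap u2 u0 = c := by
    have hz := hp.orb_z_eq o
    rw [h1] at hz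
    have : kap u2 u0 = c⁻¹ := by
      rw [eq_comm, inv_eq_iff_mul_eq_one]
      exact hz.symm
    rw [this]
    exact hp.inv_eq_of_mem hcm
  set W : Subgroup T := Subgroup.zpowers c with hW
  have hWc : W ≤ Subgroup.center T := by rw [hW, Subgroup.zpowers_le]; exact hcm
  have hcW : c ∈ W := Subgroup.mem_zpowers c
  have k10 : kap u1 u0 = c := rfl
  have k30 : kap u3 u0 = c := (hp.orb_k30 o).trans k20
  have k21 : kap u2 u1 = c := hp.orb_k21 o
  have k31 : kap u3 u1 = c := (hp.orb_k31 o).trans k20
  have k32 : kap u3 u2 = c := hp.orb_k32 o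
  have kd : ∀ a : T, kap a a ∈ W := fun a => by
    have : kap a a = 1 := by unfold kap; group
    rw [this]; exact W.one_mem
  have ks : ∀ a b : T, kap a b = c → kap b a ∈ W := fun a b e => by
    rw [hp.kap_symm a b, e]; exact hcW
  have kt : ∀ a b : T, kap a b = c → kap a b ∈ W := fun a b e => by rw [e]; exact hcW
  have hall : ∀ a b : T, kap a b ∈ W := by
    apply kap_mem_of_gen W hWc {u0, u1, u2, u3} (hp.orb_span o hu)
    intro a ha b hb
    simp only [Set.mem_insert_iff, Set.mem_singleton_iff] at ha hb
    rcases ha with rfl | rfl | rfl | rfl <;> rcases hb with rfl | rfl | rfl | rfl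
    · exact kd _
    · exact ks _ _ k10
    · exact ks _ _ k20
    · exact ks _ _ k30
    · exact kt _ _ k10
    · exact kd _
    · exact ks _ _ k21
    · exact ks _ _ k31
    · exact kt _ _ k20
    · exact kt _ _ k21
    · exact kd _
    · exact ks _ _ k32
    · exact kt _ _ k30
    · exact kt _ _ k31
    · exact kt _ _ k32
    · exact kd _
  -- the quotient by `W` is commutative
  haveI hWn : W.Normal := ⟨fun n hn g => by rw [conj_of_mem_center (hWc hn)]; exact hn⟩
  have hcomm : ∀ a b : T ⧸ W, a * b = b * a := by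
    intro a b
    obtain ⟨a, rfl⟩ := QuotientGroup.mk_surjective a
    obtain ⟨b, rfl⟩ := QuotientGroup.mk_surjective b
    rw [← QuotientGroup.mk_mul, ← QuotientGroup.mk_mul, QuotientGroup.eq]
    have : (a * b)⁻¹ * (b * a) = kap b⁻¹ a⁻¹ := by unfold kap; group
    rw [this]
    exact hall _ _
  haveI : Std.Commutative (α := T ⧸ W) (· * ·) := ⟨hcomm⟩
  -- the norm map
  let Nb : T → T ⧸ W := fun x => (x : T ⧸ W) * (η x : T) * (η (η x) : T) * (η (η (η x)) : T) *
    (η (η (η (η x))) : T)
  have hN : ∀ x, Nb x = (x : T ⧸ W) * (η x : T) * (η (η x) : T) * (η (η (η x)) : T) *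
    (η (η (η (η x))) : T) := fun x => rfl
  have hNmul : ∀ x y, Nb (x * y) = Nb x * Nb y := by
    intro x y
    rw [hN, hN, hN]
    simp only [map_mul, QuotientGroup.mk_mul]
    ac_rfl
  have hN1 : Nb 1 = 1 := by
    rw [hN]
    simp only [map_one, QuotientGroup.mk_one, mul_one]
  have hNinv : ∀ x, Nb x⁻¹ = (Nb x)⁻¹ := by
    intro x
    have := hNmul x x⁻¹
    rw [mul_inv_cancel, hN1] at this
    exact eq_inv_of_mul_eq_one_right this.symm
  let M : Subgroup T :=
    { carrier := {x | Nb x = 1}
      one_mem' := hN1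
      mul_mem' := by
        intro x y hx hy
        show Nb (x * y) = 1
        rw [hNmul, hx, hy, one_mul]
      inv_mem' := by
        intro x hx
        show Nb x⁻¹ = 1
        rw [hNinv, hx, inv_one] }
  have hM1 : ∀ x y : T, x * y * x⁻¹ * y⁻¹ ∈ M := by
    intro x y
    show Nb (x * y * x⁻¹ * y⁻¹) = 1
    rw [hNmul, hNmul, hNmul, hNinv, hNinv, hcomm (Nb x) (Nb y)]
    group
  have hM2 : ∀ x : T, η x * x⁻¹ ∈ M := by
    intro x
    show Nb (η x * x⁻¹) = 1
    have e : Nb (η x) = Nb x := by
      rw [hN, hN, hp.base.pow_five x]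
      ac_rfl
    rw [hNmul, hNinv, e, mul_inv_cancel]
  have hMtop := hgen M hM1 hM2
  have hVW : Subgroup.center T ≤ W := by
    intro v hv
    have hvM : v ∈ M := by rw [hMtop]; exact Subgroup.mem_top v
    have hNv : Nb v = 1 := hvM
    have hfix := hp.base.fix_center v hv
    have hvv := hp.base.center_sq v hv
    have e5 : Nb v = ((v * v * v * v * v : T) : T ⧸ W) := by
      rw [hN]
      simp only [hfix, QuotientGroup.mk_mul]
    rw [e5, hvv, one_mul, hvv, one_mul, QuotientGroup.eq_one_iff] at hNv
    exact hNv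
  have hcardW : Nat.card W ≤ 2 := by
    rw [hW, Nat.card_zpowers]
    apply orderOf_le_of_pow_eq_one (by norm_num)
    rw [sq]
    exact hp.kap_sq _ _
  have := Subgroup.card_le_of_le hVW
  rw [hp.base.card_center] at this
  omega

/-- **the criterion**: order 64, centre a four-group, `η⁵ = 1`, and `T` is generated by its
commutators together with the elements `η x * x⁻¹` -/
theorem k64_of (hcard : Nat.card T = 64) (hcen : Nat.card (Subgroup.center T) = 4)
    (hcsq : ∀ x ∈ Subgroup.center T, x * x = 1) (h5 : ∀ x : T, η (η (η (η (η x)))) = x)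
    (hgen : ∀ M : Subgroup T, (∀ x y : T, x * y * x⁻¹ * y⁻¹ ∈ M) → (∀ x : T, η x * x⁻¹ ∈ M) →
      M = ⊤) : K64 T η := by
  have hb := base_of hcard hcen hcsq h5 hgen
  have hp := pre_of hb
  refine ⟨hcard, hcen, fun x hx => by rw [sq]; exact hcsq x hx, fun x => by rw [sq]; exact hp.sq_mem x,
    hp.comm_mem, ?_, h5, hb.fix_center, hb.fpf⟩
  intro x hx
  rw [sq] at hx
  by_contra hxV
  exact no_invol_aux hp hgen
    (⟨rfl, rfl, rfl, rfl, h5 x⟩ : Orb η x (η x) (η (η x)) (η (η (η x))) (η (η (η (η x))))) hxV hx

end invol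

end Cfsg.Agent.Lib.Helper8.K64C
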