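import Mathlib
import Cfsg.Agent.Lib.Helper8.K64C

/-!
S1903 (author: helper8), part 4: a group of order 320 whose derived subgroup has order 64 and
centre a four-group gives a `K64` pair.
-/

set_option autoImplicit false

namespace Cfsg.Agent.Lib.Helper8.K64D

open Cfsg.Agent.Lib.Lead.K64Def Cfsg.Agent.Lib.Helper8.K64A Cfsg.Agent.Lib.Helper8.K64C
open scoped commutatorElement

theorem partA {G : Type*} [Group G] [Finite G] (hG : Nat.card G = 320)
    (hD : Nat.card (commutator G) = 64)
    (hZ : IsKleinFour (Subgroup.center (commutator G))) :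
    ∃ y : G, orderOf y = 5 ∧ K64 (commutator G) (MulAut.conjNormal y) := by
  haveI : Fact (Nat.Prime 5) := ⟨by norm_num⟩
  obtain ⟨y, hy⟩ := exists_prime_orderOf_dvd_card' 5 (by rw [hG]; norm_num)
  refine ⟨y, hy, ?_⟩
  have hy5 : y ^ 5 = 1 := by rw [← hy]; exact pow_orderOf_eq_one y
  have hyyyyy : y * y * y * y * y = 1 := by
    rw [← hy5]
    simp only [pow_succ, pow_zero, one_mul]
  have hconj : ∀ (g : G) (t : commutator G),
      ((MulAut.conjNormal g t : commutator G) : G) = g * t * g⁻¹ :=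
    fun g t => MulAut.conjNormal_apply g t
  apply k64_of hD
  · exact hZ.card_four
  · intro x hx
    have h2 : (⟨x, hx⟩ : Subgroup.center (commutator G)) ^ 2 = 1 := by
      rw [← hZ.exponent_two]
      exact Monoid.pow_exponent_eq_one _
    rw [sq] at h2
    exact congrArg Subtype.val h2
  · intro x
    apply Subtype.ext
    rw [hconj, hconj, hconj, hconj, hconj]
    calc y * (y * (y * (y * (y * (x : G) * y⁻¹) * y⁻¹) * y⁻¹) * y⁻¹) * y⁻¹
        = (y * y * y * y * y) * x * (y * y * y * y * y)⁻¹ := by group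
      _ = x := by rw [hyyyyy]; group
  · intro M hM1 hM2
    haveI hMn : M.Normal := ⟨fun m hm t => by
      have : t * m * t⁻¹ = (t * m * t⁻¹ * m⁻¹) * m := by group
      rw [this]
      exact M.mul_mem (hM1 t m) hm⟩
    have hcommQ : ∀ a b : commutator G ⧸ M, a * b = b * a := by
      intro a b
      obtain ⟨a, rfl⟩ := QuotientGroup.mk_surjective a
      obtain ⟨b, rfl⟩ := QuotientGroup.mk_surjective b
      rw [← QuotientGroup.mk_mul, ← QuotientGroup.mk_mul, QuotientGroup.eq]
      have : (a * b)⁻¹ * (b * a) = b⁻¹ * a⁻¹ * b⁻¹⁻¹ * a⁻¹⁻¹ := by group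
      rw [this]
      exact hM1 _ _
    -- all conjugations act trivially on the quotient
    let N : Subgroup G :=
      { carrier := {g | ∀ t : commutator G,
          ((MulAut.conjNormal g t : commutator G) : commutator G ⧸ M) = (t : commutator G ⧸ M)}
        one_mem' := by
          intro t
          rw [map_one]
          rfl
        mul_mem' := by
          intro g h hg hh t
          rw [map_mul, MulAut.mul_apply, hg, hh]
        inv_mem' := by
          intro g hg t
          have := hg (MulAut.conjNormal g⁻¹ t)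
          rw [← MulAut.mul_apply, ← map_mul, mul_inv_cancel, map_one, MulAut.one_apply] at this
          exact this.symm }
    have hTN : commutator G ≤ N := by
      intro t ht s
      have e : (MulAut.conjNormal t s : commutator G) = ⟨t, ht⟩ * s * ⟨t, ht⟩⁻¹ :=
        Subtype.ext (by rw [hconj]; rfl)
      rw [e, QuotientGroup.mk_mul, QuotientGroup.mk_mul, QuotientGroup.mk_inv,
        hcommQ ((⟨t, ht⟩ : commutator G) : commutator G ⧸ M) (s : commutator G ⧸ M),
        mul_inv_cancel_right]
    have hyN : y ∈ N := by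
      intro t
      have := hM2 t
      rw [← QuotientGroup.eq_one_iff, QuotientGroup.mk_mul, QuotientGroup.mk_inv,
        mul_inv_eq_one] at this
      exact this
    have hsup : commutator G ⊔ Subgroup.zpowers y = ⊤ := by
      apply Subgroup.eq_top_of_card_eq
      have h1 : Nat.card (commutator G) ∣ Nat.card ↥(commutator G ⊔ Subgroup.zpowers y) :=
        Subgroup.card_dvd_of_le le_sup_left
      have h2 : Nat.card (Subgroup.zpowers y) ∣
          Nat.card ↥(commutator G ⊔ Subgroup.zpowers y) :=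
        Subgroup.card_dvd_of_le le_sup_right
      rw [hD] at h1
      rw [Nat.card_zpowers, hy] at h2
      have h3 : Nat.card ↥(commutator G ⊔ Subgroup.zpowers y) ∣ 320 :=
        hG ▸ Subgroup.card_subgroup_dvd_card _
      have h4 : 320 ∣ Nat.card ↥(commutator G ⊔ Subgroup.zpowers y) := by
        have hc : (64 : ℕ).Coprime 5 := by norm_num
        exact hc.mul_dvd_of_dvd_of_dvd h1 h2
      rw [hG]
      exact Nat.dvd_antisymm h3 h4
    have hNtop : N = ⊤ := by
      rw [eq_top_iff, ← hsup]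
      exact sup_le hTN (by rw [Subgroup.zpowers_le]; exact hyN)
    have hstar : ∀ (g : G) (t : commutator G),
        ((MulAut.conjNormal g t : commutator G) : commutator G ⧸ M) = t := fun g t =>
      (hNtop ▸ Subgroup.mem_top g : g ∈ N) t
    have hdec : ∀ g : G, ∃ t ∈ commutator G, ∃ a : ℤ, g = t * y ^ a := by
      intro g
      have hg : g ∈ ((commutator G ⊔ Subgroup.zpowers y : Subgroup G) : Set G) := by
        rw [hsup]; exact Set.mem_univ g
      rw [Subgroup.normal_mul, Set.mem_mul] at hg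
      obtain ⟨t, ht, k, hk, rfl⟩ := hg
      obtain ⟨a, rfl⟩ := Subgroup.mem_zpowers_iff.1 hk
      exact ⟨t, ht, a, rfl⟩
    have hle : commutator G ≤ M.map (commutator G).subtype := by
      conv_lhs => rw [commutator_def]
      rw [Subgroup.commutator_le]
      intro g₁ _ g₂ _
      obtain ⟨t₁, ht₁, a, rfl⟩ := hdec g₁
      obtain ⟨t₂, ht₂, b, rfl⟩ := hdec g₂
      rw [Subgroup.mem_map]
      refine ⟨(⟨t₁, ht₁⟩ : commutator G) * MulAut.conjNormal (y ^ a) ⟨t₂, ht₂⟩ *
        MulAut.conjNormal (y ^ b) (⟨t₁, ht₁⟩ : commutator G)⁻¹ * (⟨t₂, ht₂⟩ : commutator G)⁻¹,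
        ?_, ?_⟩
      · rw [← QuotientGroup.eq_one_iff, QuotientGroup.mk_mul, QuotientGroup.mk_mul,
          QuotientGroup.mk_mul, hstar, hstar, QuotientGroup.mk_inv, QuotientGroup.mk_inv,
          hcommQ ((⟨t₁, ht₁⟩ : commutator G) : commutator G ⧸ M)
            ((⟨t₂, ht₂⟩ : commutator G) : commutator G ⧸ M)]
        group
      · show t₁ * ((MulAut.conjNormal (y ^ a) (⟨t₂, ht₂⟩ : commutator G) : commutator G) : G) *
          ((MulAut.conjNormal (y ^ b) (⟨t₁, ht₁⟩ : commutator G)⁻¹ : commutator G) : G) * t₂⁻¹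
          = ⁅t₁ * y ^ a, t₂ * y ^ b⁆
        rw [hconj, hconj, commutatorElement_def]
        have hpq := zpow_mul_comm y a b
        set p := y ^ a
        set q := y ^ b
        have h' : p⁻¹ * q = q * p⁻¹ := by
          calc p⁻¹ * q = p⁻¹ * (q * p) * p⁻¹ := by group
            _ = p⁻¹ * (p * q) * p⁻¹ := by rw [hpq]
            _ = q * p⁻¹ := by group
        show t₁ * (p * t₂ * p⁻¹) * (q * t₁⁻¹ * q⁻¹) * t₂⁻¹ = _
        calc t₁ * (p * t₂ * p⁻¹) * (q * t₁⁻¹ * q⁻¹) * t₂⁻¹
            = t₁ * p * t₂ * (p⁻¹ * q) * t₁⁻¹ * q⁻¹ * t₂⁻¹ := by group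
          _ = t₁ * p * t₂ * (q * p⁻¹) * t₁⁻¹ * q⁻¹ * t₂⁻¹ := by rw [h']
          _ = t₁ * p * (t₂ * q) * (t₁ * p)⁻¹ * (t₂ * q)⁻¹ := by group
    rw [eq_top_iff]
    intro t _
    obtain ⟨m, hm, hmt⟩ := Subgroup.mem_map.1 (hle t.2)
    have : m = t := Subtype.ext hmt
    rw [← this]
    exact hm

end Cfsg.Agent.Lib.Helper8.K64D
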