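import Mathlib
import Cfsg.Agent.Lib.Lead.LargeES

/-!
# S5428 pieces (P4a) `h2G` and (P4b) `h3G` (helper8, for helper1's split)

Pure element computations in `M = C_G(A) A` for a subgroup `A` of odd order.
-/

set_option autoImplicit false

namespace Cfsg.Agent.Lib.Helper8.LESAP4

variable {G : Type*} [Group G]

/-- `C_G(A) ⊔ A = C_G(A) · A`. -/
theorem exists_mul_of_mem_sup (A : Subgroup G) {m : G}
    (hm : m ∈ Subgroup.centralizer (A : Set G) ⊔ A) :
    ∃ c ∈ Subgroup.centralizer (A : Set G), ∃ a ∈ A, m = c * a := by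
  have h := Subgroup.coe_mul_of_left_le_normalizer_right (Subgroup.centralizer (A : Set G)) A
    (Subgroup.centralizer_le_normalizer (A : Set G))
  have hm' : m ∈ ((Subgroup.centralizer (A : Set G) ⊔ A : Subgroup G) : Set G) := hm
  rw [h] at hm'
  obtain ⟨c, hc, a, ha, rfl⟩ := hm'
  exact ⟨c, hc, a, ha, rfl⟩

/-- An element of a subgroup of odd order whose `2^k`-th power is trivial is trivial. -/
theorem eq_one_of_pow_two_pow [Finite G] (A : Subgroup G) (hAodd : Odd (Nat.card ↥A)) {a : G}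
    (ha : a ∈ A) (k : ℕ) (hk : a ^ (2 ^ k) = 1) : a = 1 := by
  have h1 : orderOf a ∣ Nat.card ↥A := Subgroup.orderOf_dvd_natCard A ha
  have h2 : orderOf a ∣ 2 ^ k := orderOf_dvd_of_pow_eq_one hk
  have hc : Nat.Coprime (Nat.card ↥A) (2 ^ k) := (Odd.coprime_two_right hAodd).pow_right k
  have h3 : orderOf a ∣ 1 := by
    have := Nat.dvd_gcd h1 h2
    rwa [hc] at this
  exact orderOf_eq_one_iff.mp (Nat.dvd_one.mp h3)

end Cfsg.Agent.Lib.Helper8.LESAP4

namespace Cfsg.Agent.H1.LESA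

open Cfsg.Agent.Lead.LargeES
open Cfsg.Agent.Lib.Helper8.LESAP4

/-- (P4a) elements of `M = C_G(A)A` centralizing `R` modulo `A`. -/
theorem h2G {G : Type*} [Group G] [Finite G] (z : G) (A R : Subgroup G) (hAodd : Odd (Nat.card ↥A))
    (hAz : ∀ a ∈ A, a * z = z * a) (hRA : ∀ r ∈ R, ∀ a ∈ A, r * a = a * r)
    (hR4 : ∀ r ∈ R, r ^ 4 = 1)
    (hD : ∀ d ∈ Subgroup.centralizer ((A ⊔ R : Subgroup G) : Set G), ∃ a ∈ A, d = a ∨ d = a * z)
    (m : G) (hm : m ∈ Subgroup.centralizer (A : Set G) ⊔ A)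
    (h : ∀ r ∈ R, m * r * m⁻¹ * r⁻¹ ∈ A) : ∃ a ∈ A, m = a ∨ m = a * z := by
  obtain ⟨c, hc, a₀, ha₀, rfl⟩ := exists_mul_of_mem_sup A hm
  have hcA : ∀ a ∈ A, a * c = c * a := fun a ha => (Subgroup.mem_centralizer_iff.mp hc) a ha
  -- `c` commutes with every element of `R`
  have hcR : ∀ r ∈ R, r * c = c * r := by
    intro r hr
    have h1 := h r hr
    have e1 : c * a₀ * r * (c * a₀)⁻¹ * r⁻¹ = c * r * c⁻¹ * r⁻¹ := by
      have : a₀ * r = r * a₀ := (hRA r hr a₀ ha₀).symm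
      calc c * a₀ * r * (c * a₀)⁻¹ * r⁻¹ = c * (a₀ * r) * a₀⁻¹ * c⁻¹ * r⁻¹ := by group
        _ = c * (r * a₀) * a₀⁻¹ * c⁻¹ * r⁻¹ := by rw [this]
        _ = c * r * c⁻¹ * r⁻¹ := by group
    rw [e1] at h1
    set a' := c * r * c⁻¹ * r⁻¹ with ha'
    have hcomm : Commute a' r := (hRA r hr a' h1).symm
    have e2 : c * r * c⁻¹ = a' * r := by rw [ha']; group
    have e3 : (c * r * c⁻¹) ^ 4 = 1 := by
      rw [conj_pow, hR4 r hr]; group
    have e4 : a' ^ 4 = 1 := by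
      have := e3
      rw [e2, hcomm.mul_pow, hR4 r hr, mul_one] at this
      exact this
    have e5 : a' = 1 := eq_one_of_pow_two_pow A hAodd h1 2 (by simpa using e4)
    have e6 : c * r * c⁻¹ = r := by rw [e2, e5, one_mul]
    calc r * c = (c * r * c⁻¹) * c := by rw [e6]
      _ = c * r := by group
  -- hence `c` centralizes `A ⊔ R`
  have hle : A ⊔ R ≤ Subgroup.centralizer ({c} : Set G) := by
    refine sup_le ?_ ?_
    · intro a ha
      rw [Subgroup.mem_centralizer_singleton_iff]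
      exact hcA a ha
    · intro r hr
      rw [Subgroup.mem_centralizer_singleton_iff]
      exact hcR r hr
  have hcc : c ∈ Subgroup.centralizer ((A ⊔ R : Subgroup G) : Set G) := by
    rw [Subgroup.mem_centralizer_iff]
    intro x hx
    have := hle hx
    rw [Subgroup.mem_centralizer_singleton_iff] at this
    exact this
  obtain ⟨a, ha, hca | hca⟩ := hD c hcc
  · exact ⟨a * a₀, mul_mem ha ha₀, Or.inl (by rw [hca])⟩
  · refine ⟨a * a₀, mul_mem ha ha₀, Or.inr ?_⟩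
    rw [hca]
    calc a * z * a₀ = a * (z * a₀) := by group
      _ = a * (a₀ * z) := by rw [hAz a₀ ha₀]
      _ = a * a₀ * z := by group

/-- (P4b) elements of `M = C_G(A)A` centralizing `z` modulo `A` normalize `R = C_Q(A)` modulo `A`. -/
theorem h3G {G : Type*} [Group G] [Finite G] {Q : Subgroup G} {z : G} (hQ : LES Q z)
    (A : Subgroup G) (hAodd : Odd (Nat.card ↥A)) (hAz : ∀ a ∈ A, a * z = z * a)
    (m : G) (hm : m ∈ Subgroup.centralizer (A : Set G) ⊔ A) (h : m * z * m⁻¹ * z⁻¹ ∈ A) :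
    ∀ r ∈ Q ⊓ Subgroup.centralizer (A : Set G), ∃ a ∈ A,
      ∃ r' ∈ Q ⊓ Subgroup.centralizer (A : Set G), m * r * m⁻¹ = a * r' := by
  obtain ⟨c, hc, a₀, ha₀, rfl⟩ := exists_mul_of_mem_sup A hm
  -- `c` commutes with `z`
  have hcz : c * z = z * c := by
    have e1 : c * a₀ * z * (c * a₀)⁻¹ * z⁻¹ = c * z * c⁻¹ * z⁻¹ := by
      have : a₀ * z = z * a₀ := hAz a₀ ha₀
      calc c * a₀ * z * (c * a₀)⁻¹ * z⁻¹ = c * (a₀ * z) * a₀⁻¹ * c⁻¹ * z⁻¹ := by group
        _ = c * (z * a₀) * a₀⁻¹ * c⁻¹ * z⁻¹ := by rw [this]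
        _ = c * z * c⁻¹ * z⁻¹ := by group
    rw [e1] at h
    set a' := c * z * c⁻¹ * z⁻¹ with ha'
    have hcomm : Commute a' z := hAz a' h
    have hz2 : z ^ 2 = 1 := by rw [pow_two]; exact hQ.zz
    have e2 : c * z * c⁻¹ = a' * z := by rw [ha']; group
    have e3 : (c * z * c⁻¹) ^ 2 = 1 := by
      rw [conj_pow, hz2]; group
    have e4 : a' ^ 2 = 1 := by
      have := e3
      rw [e2, hcomm.mul_pow, hz2, mul_one] at this
      exact this
    have e5 : a' = 1 := eq_one_of_pow_two_pow A hAodd h 1 (by simpa using e4)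
    have e6 : c * z * c⁻¹ = z := by rw [e2, e5, one_mul]
    calc c * z = (c * z * c⁻¹) * c := by group
      _ = z * c := by rw [e6]
  intro r hr
  obtain ⟨hrQ, hrA⟩ := Subgroup.mem_inf.mp hr
  have hra₀ : a₀ * r = r * a₀ := (Subgroup.mem_centralizer_iff.mp hrA) a₀ ha₀
  refine ⟨1, one_mem A, c * r * c⁻¹, Subgroup.mem_inf.mpr ⟨hQ.norm c hcz r hrQ, ?_⟩, ?_⟩
  · exact mul_mem (mul_mem hc hrA) (inv_mem hc)
  · rw [one_mul]
    calc c * a₀ * r * (c * a₀)⁻¹ = c * (a₀ * r) * a₀⁻¹ * c⁻¹ := by group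
      _ = c * (r * a₀) * a₀⁻¹ * c⁻¹ := by rw [hra₀]
      _ = c * r * c⁻¹ := by group

end Cfsg.Agent.H1.LESA
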