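import Mathlib
import Cfsg.Prelude.Def_LocalStructure
import Cfsg.Agent.Lib.Helper7.Large3
import Cfsg.Agent.Lib.Lead.Subnormal2

/-! # L-Lemma (S2834), part A: relative tools inside a fixed finite ambient group -/

set_option autoImplicit false

namespace Cfsg.Agent.Lib.Helper8.LLemma

open Cfsg Cfsg.Agent.Lib.Helper7 Cfsg.Agent.Lib.Lead.Subnormal
open scoped Pointwise

universe u

variable {G : Type u} [Group G] {p : ℕ}

/-- relative coatom: `X` is a maximal proper subgroup of `H`. -/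
def RCoatom (H X : Subgroup G) : Prop :=
  X < H ∧ ∀ Y : Subgroup G, X ≤ Y → Y ≤ H → Y = X ∨ Y = H

theorem conj_smul_mono (g : G) {A B : Subgroup G} (h : A ≤ B) :
    MulAut.conj g • A ≤ MulAut.conj g • B := by
  intro y hy
  rw [mem_conj_smul] at hy ⊢
  exact h hy

theorem conj_smul_smul (g h : G) (A : Subgroup G) :
    MulAut.conj g • MulAut.conj h • A = MulAut.conj (g * h) • A := by
  rw [map_mul, mul_smul]

theorem conj_one_smul (A : Subgroup G) : MulAut.conj (1 : G) • A = A := by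
  rw [map_one, one_smul]

theorem conj_inv_smul_smul (g : G) (A : Subgroup G) :
    MulAut.conj g⁻¹ • MulAut.conj g • A = A := by
  rw [conj_smul_smul, inv_mul_cancel, conj_one_smul]

theorem conj_smul_inv_smul (g : G) (A : Subgroup G) :
    MulAut.conj g • MulAut.conj g⁻¹ • A = A := by
  rw [conj_smul_smul, mul_inv_cancel, conj_one_smul]

theorem conj_smul_le_iff (g : G) {A B : Subgroup G} :
    MulAut.conj g • A ≤ MulAut.conj g • B ↔ A ≤ B := by
  constructor
  · intro h
    have := conj_smul_mono g⁻¹ h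
    rwa [conj_inv_smul_smul, conj_inv_smul_smul] at this
  · exact conj_smul_mono g

theorem conj_smul_le_comm (g : G) {A B : Subgroup G} :
    MulAut.conj g • A ≤ B ↔ A ≤ MulAut.conj g⁻¹ • B := by
  constructor
  · intro h
    have := conj_smul_mono g⁻¹ h
    rwa [conj_inv_smul_smul] at this
  · intro h
    have := conj_smul_mono g h
    rwa [conj_smul_inv_smul] at this

theorem conj_smul_lt_iff (g : G) {A B : Subgroup G} :
    MulAut.conj g • A < MulAut.conj g • B ↔ A < B := by
  rw [lt_iff_le_not_ge, lt_iff_le_not_ge, conj_smul_le_iff, conj_smul_le_iff]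

theorem conj_smul_self_of_mem {H : Subgroup G} {g : G} (hg : g ∈ H) :
    MulAut.conj g • H = H := by
  apply le_antisymm
  · intro y hy
    rw [mem_conj_smul] at hy
    have : y = g * (g⁻¹ * y * g) * g⁻¹ := by group
    rw [this]
    exact H.mul_mem (H.mul_mem hg hy) (H.inv_mem hg)
  · intro y hy
    rw [mem_conj_smul]
    exact H.mul_mem (H.mul_mem (H.inv_mem hg) hy) hg

theorem conj_smul_inf (g : G) (A B : Subgroup G) :
    MulAut.conj g • (A ⊓ B) = MulAut.conj g • A ⊓ MulAut.conj g • B := by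
  ext y
  simp only [mem_conj_smul, Subgroup.mem_inf]

theorem conj_smul_sup (g : G) (A B : Subgroup G) :
    MulAut.conj g • (A ⊔ B) = MulAut.conj g • A ⊔ MulAut.conj g • B := by
  apply le_antisymm
  · rw [conj_smul_le_comm, sup_le_iff, ← conj_smul_le_comm, ← conj_smul_le_comm]
    exact ⟨le_sup_left, le_sup_right⟩
  · exact sup_le (conj_smul_mono g le_sup_left) (conj_smul_mono g le_sup_right)

theorem isPGroup_conj_smul (g : G) {A : Subgroup G} (hA : IsPGroup p ↥A) :
    IsPGroup p ↥(MulAut.conj g • A) := by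
  have : MulAut.conj g • A = A.map (MulAut.conj g).toMonoidHom := rfl
  rw [this]
  exact hA.map _

theorem le_normalizer_conj_smul [Finite G] (g : G) {L Q : Subgroup G}
    (h : L ≤ Subgroup.normalizer (Q : Set G)) :
    MulAut.conj g • L ≤ Subgroup.normalizer ((MulAut.conj g • Q : Subgroup G) : Set G) := by
  intro x hx
  rw [mem_conj_smul] at hx
  apply mem_normalizer_of_conj_smul_le
  have h1 : MulAut.conj (g⁻¹ * x * g) • Q = Q := conj_smul_eq_of_mem_normalizer _ _ (h hx)
  have h2 : x * g = g * (g⁻¹ * x * g) := by group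
  rw [conj_smul_smul, h2, ← conj_smul_smul, h1]

theorem pCoreOf_conj_smul [Finite G] (g : G) (L : Subgroup G) :
    pCoreOf p (MulAut.conj g • L) = MulAut.conj g • pCoreOf p L := by
  have key : ∀ (g : G) (L : Subgroup G),
      MulAut.conj g • pCoreOf p L ≤ pCoreOf p (MulAut.conj g • L) := by
    intro g L
    exact le_pCoreOf (conj_smul_mono g (pCoreOf_le L))
      (le_normalizer_conj_smul g (le_normalizer_pCoreOf L))
      (isPGroup_conj_smul g (pCoreOf_isPGroup L))
  apply le_antisymm _ (key g L)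
  have h := key g⁻¹ (MulAut.conj g • L)
  rw [conj_inv_smul_smul] at h
  have h2 := conj_smul_mono g h
  rwa [conj_smul_inv_smul] at h2

theorem pCoreOf_conj_smul_self [Finite G] {H : Subgroup G} {g : G} (hg : g ∈ H) :
    MulAut.conj g • pCoreOf p H = pCoreOf p H := by
  rw [← pCoreOf_conj_smul, conj_smul_self_of_mem hg]

/-- conjugating a relative coatom by an element of `H`. -/
theorem RCoatom.conj {H X : Subgroup G} (hX : RCoatom H X) {g : G} (hg : g ∈ H) :
    RCoatom H (MulAut.conj g • X) := by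
  constructor
  · have := (conj_smul_lt_iff g).mpr hX.1
    rwa [conj_smul_self_of_mem hg] at this
  · intro Y hXY hYH
    have h1 : X ≤ MulAut.conj g⁻¹ • Y := (conj_smul_le_comm g).mp hXY
    have h2 : MulAut.conj g⁻¹ • Y ≤ H := by
      have := conj_smul_mono g⁻¹ hYH
      rwa [conj_smul_self_of_mem (H.inv_mem hg)] at this
    rcases hX.2 _ h1 h2 with h | h
    · left
      rw [← h, conj_smul_inv_smul]
    · right
      have : MulAut.conj g • MulAut.conj g⁻¹ • Y = MulAut.conj g • H := by rw [h]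
      rwa [conj_smul_inv_smul, conj_smul_self_of_mem hg] at this

/-- a maximal element among the subgroups with a property. -/
theorem exists_max_subgroup [Finite G] (P : Subgroup G → Prop) (h : ∃ X, P X) :
    ∃ X, P X ∧ ∀ Y, P Y → X ≤ Y → Y = X := by
  obtain ⟨X₀, hX₀⟩ := h
  obtain ⟨X, hX⟩ := (Set.toFinite {Y : Subgroup G | P Y}).exists_maximal ⟨X₀, hX₀⟩
  exact ⟨X, hX.1, fun Y hY hXY => le_antisymm (hX.2 hY hXY) hXY⟩

/-- a minimal element among the subgroups with a property. -/
theorem exists_min_subgroup [Finite G] (P : Subgroup G → Prop) (h : ∃ X, P X) :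
    ∃ X, P X ∧ ∀ Y, P Y → Y ≤ X → Y = X := by
  obtain ⟨X₀, hX₀⟩ := h
  obtain ⟨X, hX⟩ := (Set.toFinite {Y : Subgroup G | P Y}).exists_minimal ⟨X₀, hX₀⟩
  exact ⟨X, hX.1, fun Y hY hYX => le_antisymm hYX (hX.2 hY hYX)⟩

/-- every proper subgroup of `H` lies in a relative coatom. -/
theorem exists_rcoatom [Finite G] {H X : Subgroup G} (hXH : X < H) :
    ∃ C : Subgroup G, RCoatom H C ∧ X ≤ C := by
  obtain ⟨C, hC, hmax⟩ := exists_max_subgroup (fun Y : Subgroup G => X ≤ Y ∧ Y < H)
    ⟨X, le_refl X, hXH⟩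
  refine ⟨C, ⟨hC.2, ?_⟩, hC.1⟩
  intro Y hCY hYH
  by_cases hY : Y = H
  · right; exact hY
  · left
    exact hmax Y ⟨hC.1.trans hCY, lt_of_le_of_ne hYH hY⟩ hCY

/-- relative Sylow conjugacy: a maximal `p`-subgroup `S` of `K` contains a `K`-conjugate of every
`p`-subgroup of `K`. -/
theorem exists_conj_le_of_max [Finite G] [Fact p.Prime] {K S P : Subgroup G} (hSK : S ≤ K)
    (hS : IsPGroup p ↥S)
    (hSmax : ∀ Q : Subgroup G, Q ≤ K → IsPGroup p ↥Q → S ≤ Q → Q = S)
    (hPK : P ≤ K) (hP : IsPGroup p ↥P) : ∃ k ∈ K, P ≤ MulAut.conj k • S := by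
  let S' : Sylow p ↥K :=
    { toSubgroup := S.subgroupOf K
      isPGroup' := hS.comap_subtype
      is_maximal' := by
        intro Q hQ hSQ
        have h1 : Q.map K.subtype ≤ K := Subgroup.map_subtype_le Q
        have h2 : IsPGroup p ↥(Q.map K.subtype) := hQ.map _
        have h3 : S ≤ Q.map K.subtype := by
          intro s hs
          exact ⟨⟨s, hSK hs⟩, hSQ (Subgroup.mem_subgroupOf.mpr hs), rfl⟩
        have h4 := hSmax _ h1 h2 h3
        ext x
        rw [Subgroup.mem_subgroupOf, ← h4]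
        constructor
        · intro hx
          exact ⟨x, hx, rfl⟩
        · rintro ⟨y, hy, hyx⟩
          have : y = x := Subtype.ext hyx
          rwa [← this] }
  obtain ⟨Q, hQ⟩ := (hP.comap_subtype (K := K)).exists_le_sylow
  obtain ⟨k, hk⟩ := MulAction.exists_smul_eq ↥K S' Q
  refine ⟨(k : G), k.2, ?_⟩
  intro x hx
  have hx1 : (⟨x, hPK hx⟩ : ↥K) ∈ (Q : Subgroup ↥K) := hQ (Subgroup.mem_subgroupOf.mpr hx)
  rw [← hk, Sylow.coe_subgroup_smul, mem_conj_smul] at hx1
  have hx2 : (k⁻¹ * ⟨x, hPK hx⟩ * k : ↥K) ∈ S.subgroupOf K := hx1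
  rw [Subgroup.mem_subgroupOf] at hx2
  rw [mem_conj_smul]
  exact hx2

/-- normalizers grow in `p`-groups. -/
theorem lt_inf_normalizer [Finite G] [Fact p.Prime] {B P : Subgroup G} (hBP : B < P)
    (hP : IsPGroup p ↥P) : B < P ⊓ Subgroup.normalizer (B : Set G) := by
  haveI : Group.IsNilpotent ↥P := hP.isNilpotent
  have hNC : NormalizerCondition ↥P := Group.normalizerCondition_of_isNilpotent
  have hlt : B.subgroupOf P < ⊤ := by
    rw [lt_top_iff_ne_top, Ne, Subgroup.subgroupOf_eq_top]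
    exact not_le_of_gt hBP
  have h1 := hNC _ hlt
  obtain ⟨y, hyN, hyB⟩ := SetLike.exists_of_lt h1
  have hy1 : (y : G) ∈ Subgroup.normalizer (B : Set G) := by
    apply Cfsg.Agent.Lib.Lead.Conj.mem_normalizer_of_conj_mem
    intro r hr
    have hr' : (⟨r, hBP.le hr⟩ : ↥P) ∈ B.subgroupOf P := Subgroup.mem_subgroupOf.mpr hr
    have := (Subgroup.mem_normalizer_iff.mp hyN ⟨r, hBP.le hr⟩).mp hr'
    exact Subgroup.mem_subgroupOf.mp this
  have hy2 : (y : G) ∉ B := fun h => hyB (Subgroup.mem_subgroupOf.mpr h)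
  refine lt_of_le_of_ne (le_inf hBP.le Subgroup.le_normalizer) ?_
  intro heq
  apply hy2
  rw [heq]
  exact ⟨y.2, hy1⟩

end Cfsg.Agent.Lib.Helper8.LLemma
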