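import Cfsg.Agent.Lib.Helper8.LLemmaA

/-! # L-Lemma (S2834), part B: conclusion, conjugation invariance, the large case -/

set_option autoImplicit false

namespace Cfsg.Agent.Lib.Helper8.LLemma

open Cfsg Cfsg.Agent.Lib.Helper7 Cfsg.Agent.Lib.Lead.Subnormal
open scoped Pointwise

universe u

variable {G : Type u} [Group G] {p : ℕ}

/-- relative conclusion of the L-Lemma for the subgroup `H`, its coatom `M`, and `A`. -/
def Concl (p : ℕ) (H M A : Subgroup G) : Prop :=
  ∃ L : Subgroup G, L ≤ H ∧ A ⊔ pCoreOf p H ≤ L ∧ ∃ L₀ : Subgroup G,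
    A ⊔ pCoreOf p L ≤ L₀ ∧ L₀ < L ∧
    (∀ X : Subgroup G, A ⊔ pCoreOf p L ≤ X → X < L → X ≤ L₀) ∧
    (∃ g ∈ H, L₀ = L ⊓ MulAut.conj g • M) ∧
    ∀ x ∈ L, x ∉ L₀ → (A ⊔ MulAut.conj x • A) ⊔ pCoreOf p L = L

/-- a subgroup lying in at most one relative coatom of `H`. -/
def Large (H P : Subgroup G) : Prop :=
  ∀ C C' : Subgroup G, RCoatom H C → RCoatom H C' → P ≤ C → P ≤ C' → C = C'

theorem Large.mono {H P P' : Subgroup G} (h : Large H P) (hPP' : P ≤ P') : Large H P' :=
  fun C C' hC hC' h1 h2 => h C C' hC hC' (hPP'.trans h1) (hPP'.trans h2)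

/-- relative hypotheses: `T` is a Sylow `p`-subgroup of `H`, `H` is `T`-minimal with coatom `M`. -/
structure Hyp (p : ℕ) (H T M : Subgroup G) : Prop where
  hTH : T ≤ H
  hTp : IsPGroup p ↥T
  hTmax : ∀ P : Subgroup G, P ≤ H → IsPGroup p ↥P → T ≤ P → P = T
  hncl : ∀ N : Subgroup G, T ≤ N → N ≤ H → H ≤ Subgroup.normalizer (N : Set G) → N = H
  hM : RCoatom H M
  hTM : T ≤ M
  huniq : ∀ M' : Subgroup G, RCoatom H M' → T ≤ M' → M' = M

theorem conj_sup_pCoreOf [Finite G] (h : G) (A L : Subgroup G) :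
    MulAut.conj h • (A ⊔ pCoreOf p L) = MulAut.conj h • A ⊔ pCoreOf p (MulAut.conj h • L) := by
  rw [conj_smul_sup, pCoreOf_conj_smul]

/-- the conclusion is invariant under conjugating `A` by an element of `H`. -/
theorem Concl.conj [Finite G] {H M A : Subgroup G} (hC : Concl p H M A) {h : G} (hh : h ∈ H) :
    Concl p H M (MulAut.conj h • A) := by
  obtain ⟨L, hLH, hAL, L₀, h1, h2, h3, ⟨g, hg, h4⟩, h5⟩ := hC
  refine ⟨MulAut.conj h • L, ?_, ?_, MulAut.conj h • L₀, ?_, ?_, ?_, ?_, ?_⟩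
  · have := conj_smul_mono h hLH
    rwa [conj_smul_self_of_mem hh] at this
  · have := conj_smul_mono h hAL
    rwa [conj_sup_pCoreOf, conj_smul_self_of_mem hh] at this
  · have := conj_smul_mono h h1
    rwa [conj_sup_pCoreOf] at this
  · exact (conj_smul_lt_iff h).mpr h2
  · intro X hX1 hX2
    have e1 : A ⊔ pCoreOf p L ≤ MulAut.conj h⁻¹ • X := by
      rw [← conj_smul_le_comm, conj_sup_pCoreOf]
      exact hX1
    have e2 : MulAut.conj h⁻¹ • X < L := by
      have := (conj_smul_lt_iff h⁻¹).mpr hX2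
      rwa [conj_inv_smul_smul] at this
    have := conj_smul_mono h (h3 _ e1 e2)
    rwa [conj_smul_inv_smul] at this
  · refine ⟨h * g, H.mul_mem hh hg, ?_⟩
    rw [h4, conj_smul_inf, conj_smul_smul]
  · intro x hx hx0
    rw [mem_conj_smul] at hx hx0
    have e := h5 _ hx hx0
    have e2 : MulAut.conj h • ((A ⊔ MulAut.conj (h⁻¹ * x * h) • A) ⊔ pCoreOf p L) =
        MulAut.conj h • L := by rw [e]
    rw [conj_sup_pCoreOf, conj_smul_sup, conj_smul_smul] at e2
    have e3 : h * (h⁻¹ * x * h) = x * h := by group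
    rw [e3, ← conj_smul_smul] at e2
    exact e2

variable [Finite G] [Fact p.Prime]

/-- conjugates of `T` by elements of `H` are large. -/
theorem Hyp.large_conj {H T M : Subgroup G} (hyp : Hyp p H T M) {h : G} (hh : h ∈ H) :
    Large H (MulAut.conj h • T) := by
  have key : ∀ C : Subgroup G, RCoatom H C → MulAut.conj h • T ≤ C → C = MulAut.conj h • M := by
    intro C hC hTC
    have h1 : T ≤ MulAut.conj h⁻¹ • C := (conj_smul_le_comm h).mp hTC
    have h2 := hyp.huniq _ (hC.conj (H.inv_mem hh)) h1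
    rw [← h2, conj_smul_inv_smul]
  intro C C' hC hC' h1 h2
  rw [key C hC h1, key C' hC' h2]

/-- every `p`-subgroup of `H` lies in a conjugate of `T`, hence of `M`. -/
theorem Hyp.exists_conj {H T M : Subgroup G} (hyp : Hyp p H T M) {P : Subgroup G} (hPH : P ≤ H)
    (hP : IsPGroup p ↥P) :
    ∃ h ∈ H, P ≤ MulAut.conj h • T ∧ P ≤ MulAut.conj h • M ∧ RCoatom H (MulAut.conj h • M) := by
  obtain ⟨h, hh, hPh⟩ := exists_conj_le_of_max hyp.hTH hyp.hTp hyp.hTmax hPH hP
  exact ⟨h, hh, hPh, hPh.trans (conj_smul_mono h hyp.hTM), hyp.hM.conj hh⟩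

/-- a relative coatom containing a conjugate of `T` is not normalized by `H`. -/
theorem Hyp.not_le_normalizer {H T M : Subgroup G} (hyp : Hyp p H T M) {h : G} (hh : h ∈ H) :
    ¬ H ≤ Subgroup.normalizer ((MulAut.conj h • M : Subgroup G) : Set G) := by
  intro hn
  have hC := hyp.hM.conj hh
  have h1 : MulAut.conj h⁻¹ • MulAut.conj h • M = MulAut.conj h • M :=
    conj_smul_eq_of_mem_normalizer _ _ (hn (H.inv_mem hh))
  rw [conj_inv_smul_smul] at h1
  rw [← h1] at hn
  have := hyp.hncl M hyp.hTM hyp.hM.1.le hn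
  exact hyp.hM.1.ne this

/-- the large case: `L = H` works. -/
theorem concl_of_large {H T M A : Subgroup G} (hyp : Hyp p H T M) (hAH : A ≤ H)
    (hAp : IsPGroup p ↥A) (hL : Large H (A ⊔ pCoreOf p H)) : Concl p H M A := by
  have hRH : A ⊔ pCoreOf p H ≤ H := sup_le hAH (pCoreOf_le H)
  have hRp : IsPGroup p ↥(A ⊔ pCoreOf p H : Subgroup G) :=
    hAp.to_sup_of_normal_right' (pCoreOf_isPGroup H) (hAH.trans (le_normalizer_pCoreOf H))
  obtain ⟨h, hh, -, hRC, hC⟩ := hyp.exists_conj hRH hRp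
  have huni : ∀ X : Subgroup G, A ⊔ pCoreOf p H ≤ X → X < H → X ≤ MulAut.conj h • M := by
    intro X hX1 hX2
    obtain ⟨C', hC', hXC'⟩ := exists_rcoatom hX2
    rw [← hL C' _ hC' hC (hX1.trans hXC') hRC]
    exact hXC'
  refine ⟨H, le_refl H, hRH, MulAut.conj h • M, hRC, hC.1, huni, ⟨h, hh, ?_⟩, ?_⟩
  · rw [inf_eq_right.mpr hC.1.le]
  · intro x hx hxC
    by_contra hne
    have hxA : MulAut.conj x • A ≤ H := by
      have := conj_smul_mono x hAH
      rwa [conj_smul_self_of_mem hx] at this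
    have hYH : (A ⊔ MulAut.conj x • A) ⊔ pCoreOf p H ≤ H :=
      sup_le (sup_le hAH hxA) (pCoreOf_le H)
    have hY := huni _ (sup_le (le_sup_left.trans le_sup_left) le_sup_right)
      (lt_of_le_of_ne hYH hne)
    have h1 : MulAut.conj x • A ≤ MulAut.conj h • M := (le_sup_right.trans le_sup_left).trans hY
    have h2 : A ≤ MulAut.conj x⁻¹ • MulAut.conj h • M := (conj_smul_le_comm x).mp h1
    have h3 : pCoreOf p H ≤ MulAut.conj x⁻¹ • MulAut.conj h • M := by
      rw [← pCoreOf_conj_smul_self (p := p) (H.inv_mem hx)]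
      exact conj_smul_mono _ (le_sup_right.trans hRC)
    have h4 := hL _ _ (hC.conj (H.inv_mem hx)) hC (sup_le h2 h3) hRC
    have h5 : x⁻¹ ∈ Subgroup.normalizer ((MulAut.conj h • M : Subgroup G) : Set G) :=
      mem_normalizer_of_conj_smul_le _ _ (le_of_eq h4)
    have h6 : x ∈ H ⊓ Subgroup.normalizer ((MulAut.conj h • M : Subgroup G) : Set G) :=
      ⟨hx, by simpa using Subgroup.inv_mem _ h5⟩
    rcases hC.2 _ (le_inf hC.1.le Subgroup.le_normalizer) inf_le_left with h7 | h7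
    · rw [h7] at h6
      exact hxC h6
    · exact hyp.not_le_normalizer hh (by rw [← h7]; exact inf_le_right)

end Cfsg.Agent.Lib.Helper8.LLemma
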