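import Cfsg.Agent.Lib.Helper8.LLemmaB

/-! # L-Lemma (S2834), part C: the induction -/

set_option autoImplicit false

namespace Cfsg.Agent.Lib.Helper8.LLemma

open Cfsg Cfsg.Agent.Lib.Helper7 Cfsg.Agent.Lib.Lead.Subnormal
open scoped Pointwise

universe u

variable {G : Type u} [Group G] [Finite G] {p : ℕ} [Fact p.Prime]

/-- a maximal non-large `p`-subgroup `B` containing `A·O_p(H)`. -/
structure BCtx (p : ℕ) (H T M A B : Subgroup G) : Prop where
  hyp : Hyp p H T M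
  hAO : ¬ A ≤ pCoreOf p H
  hRB : A ⊔ pCoreOf p H ≤ B
  hBH : B ≤ H
  hBp : IsPGroup p ↥B
  hBnl : ¬ Large H B
  hBmax : ∀ B' : Subgroup G, B' ≤ H → IsPGroup p ↥B' → B ≤ B' → ¬ Large H B' → B' = B

variable {H T M A B X : Subgroup G} {g : G}

theorem BCtx.exists_over (c : BCtx p H T M A B) {h : G} (hh : h ∈ H)
    (hB : B ≤ MulAut.conj h • M) :
    ∃ B' : Subgroup G, B < B' ∧ B' ≤ MulAut.conj h • M ∧
      B' ≤ Subgroup.normalizer (B : Set G) ∧ IsPGroup p ↥B' ∧ Large H B' := by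
  have hC := c.hyp.hM.conj hh
  by_cases hmax : ∀ Q : Subgroup G, Q ≤ MulAut.conj h • M → IsPGroup p ↥Q → B ≤ Q → Q = B
  · exfalso
    have hT : MulAut.conj h • T ≤ MulAut.conj h • M := conj_smul_mono h c.hyp.hTM
    obtain ⟨k, hk, hTk⟩ := exists_conj_le_of_max hB c.hBp hmax hT
      (isPGroup_conj_smul h c.hyp.hTp)
    have h1 : MulAut.conj k⁻¹ • MulAut.conj h • T ≤ B :=
      (conj_smul_le_comm k⁻¹).mpr (by rwa [inv_inv])
    rw [conj_smul_smul] at h1
    have hkH : k⁻¹ * h ∈ H := H.mul_mem (H.inv_mem (hC.1.le hk)) hh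
    exact c.hBnl ((c.hyp.large_conj hkH).mono h1)
  · push Not at hmax
    obtain ⟨Q, hQC, hQp, hBQ, hne⟩ := hmax
    have hlt : B < Q := lt_of_le_of_ne hBQ (Ne.symm hne)
    have h2 := lt_inf_normalizer hlt hQp
    refine ⟨Q ⊓ Subgroup.normalizer (B : Set G), h2, inf_le_left.trans hQC, inf_le_right,
      hQp.to_le inf_le_left, ?_⟩
    by_contra hnl
    exact h2.ne' (c.hBmax _ (inf_le_left.trans (hQC.trans hC.1.le)) (hQp.to_le inf_le_left)
      h2.le hnl)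

theorem BCtx.normalizer_le (c : BCtx p H T M A B) {h : G} (hh : h ∈ H)
    (hB : B ≤ MulAut.conj h • M) :
    H ⊓ Subgroup.normalizer (B : Set G) ≤ MulAut.conj h • M := by
  obtain ⟨B', -, hB'C, hB'N, -, hB'L⟩ := c.exists_over hh hB
  have hC := c.hyp.hM.conj hh
  have hne : H ⊓ Subgroup.normalizer (B : Set G) ≠ H := by
    intro he
    have h1 : H ≤ Subgroup.normalizer (B : Set G) := inf_eq_left.mp he
    have h2 : B ≤ pCoreOf p H := le_pCoreOf c.hBH h1 c.hBp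
    exact c.hAO (le_sup_left.trans (c.hRB.trans h2))
  obtain ⟨C₁, hC₁, hNC₁⟩ := exists_rcoatom (lt_of_le_of_ne inf_le_left hne)
  have hB'N' : B' ≤ H ⊓ Subgroup.normalizer (B : Set G) := le_inf (hB'C.trans hC.1.le) hB'N
  have := hB'L C₁ _ hC₁ hC (hB'N'.trans hNC₁) hB'C
  rw [← this]
  exact hNC₁

theorem BCtx.conj_unique (c : BCtx p H T M A B) {h h' : G} (hh : h ∈ H) (hh' : h' ∈ H)
    (hB : B ≤ MulAut.conj h • M) (hB' : B ≤ MulAut.conj h' • M) :
    MulAut.conj h • M = MulAut.conj h' • M := by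
  obtain ⟨B', -, hB'C, hB'N, -, hB'L⟩ := c.exists_over hh hB
  have hC := c.hyp.hM.conj hh
  have hC' := c.hyp.hM.conj hh'
  have h1 : B' ≤ MulAut.conj h' • M :=
    (le_inf (hB'C.trans hC.1.le) hB'N).trans (c.normalizer_le hh' hB')
  exact hB'L _ _ hC hC' hB'C h1

/-- a minimal subgroup `X ≥ B` of `H` leaving the coatom `M^g ≥ B`. -/
structure XCtx (p : ℕ) (H T M A B X : Subgroup G) (g : G) : Prop where
  c : BCtx p H T M A B
  hg : g ∈ H
  hBg : B ≤ MulAut.conj g • M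
  hBX : B ≤ X
  hXH : X ≤ H
  hXne : X ≠ H
  hXM : ¬ X ≤ MulAut.conj g • M
  hXmin : ∀ Y : Subgroup G, B ≤ Y → Y ≤ X → ¬ Y ≤ MulAut.conj g • M → Y = X

theorem XCtx.sylow (d : XCtx p H T M A B X g) :
    ∀ P : Subgroup G, P ≤ X → IsPGroup p ↥P → B ≤ P → P = B := by
  intro P hPX hPp hBP
  by_contra hne
  have hPH := hPX.trans d.hXH
  have hPL : Large H P := by
    by_contra hnl
    exact hne (d.c.hBmax P hPH hPp hBP hnl)
  obtain ⟨h, hh, -, hPC, hC⟩ := d.c.hyp.exists_conj hPH hPp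
  have e := d.c.conj_unique hh d.hg (hBP.trans hPC) d.hBg
  obtain ⟨C₃, hC₃, hXC₃⟩ := exists_rcoatom (lt_of_le_of_ne d.hXH d.hXne)
  have e2 := hPL C₃ _ hC₃ hC (hPX.trans hXC₃) hPC
  apply d.hXM
  rw [← e, ← e2]
  exact hXC₃

theorem XCtx.ncl (d : XCtx p H T M A B X g) :
    ∀ N : Subgroup G, B ≤ N → N ≤ X → X ≤ Subgroup.normalizer (N : Set G) → N = X := by
  intro N hBN hNX hXN
  by_contra hne
  have hNM : N ≤ MulAut.conj g • M := by
    by_contra h
    exact hne (d.hXmin N hBN hNX h)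
  apply d.hXM
  intro x hx
  have h1 : MulAut.conj x • B ≤ N := by
    have := conj_smul_mono x hBN
    rwa [conj_smul_eq_of_mem_normalizer x N (hXN hx)] at this
  have hBmaxN : ∀ Q : Subgroup G, Q ≤ N → IsPGroup p ↥Q → B ≤ Q → Q = B :=
    fun Q hQN hQp hBQ => d.sylow Q (hQN.trans hNX) hQp hBQ
  obtain ⟨n, hn, hxn⟩ := exists_conj_le_of_max hBN d.c.hBp hBmaxN h1
    (isPGroup_conj_smul x d.c.hBp)
  have h2 : MulAut.conj n⁻¹ • MulAut.conj x • B ≤ B :=
    (conj_smul_le_comm n⁻¹).mpr (by rwa [inv_inv])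
  rw [conj_smul_smul] at h2
  have h3 : n⁻¹ * x ∈ Subgroup.normalizer (B : Set G) := mem_normalizer_of_conj_smul_le _ _ h2
  have hnH : n ∈ H := d.hXH (hNX hn)
  have h4 : n⁻¹ * x ∈ MulAut.conj g • M :=
    d.c.normalizer_le d.hg d.hBg ⟨H.mul_mem (H.inv_mem hnH) (d.hXH hx), h3⟩
  have hx' : x = n * (n⁻¹ * x) := by group
  rw [hx']
  exact (MulAut.conj g • M).mul_mem (hNM hn) h4

theorem XCtx.hyp' (d : XCtx p H T M A B X g) : Hyp p X B (X ⊓ MulAut.conj g • M) where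
  hTH := d.hBX
  hTp := d.c.hBp
  hTmax := d.sylow
  hncl := d.ncl
  hM := by
    refine ⟨inf_lt_left.mpr d.hXM, ?_⟩
    intro Y h1 h2
    by_cases hY : Y ≤ MulAut.conj g • M
    · left
      exact le_antisymm (le_inf h2 hY) h1
    · right
      exact d.hXmin Y ((le_inf d.hBX d.hBg).trans h1) h2 hY
  hTM := le_inf d.hBX d.hBg
  huniq := by
    intro M' hM' hBM'
    have hM'M : M' ≤ MulAut.conj g • M := by
      by_contra h
      exact hM'.1.ne (d.hXmin M' hBM' hM'.1.le h)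
    rcases hM'.2 (X ⊓ MulAut.conj g • M) (le_inf hM'.1.le hM'M) inf_le_left with h | h
    · exact h.symm
    · exfalso
      apply d.hXM
      rw [← h]
      exact inf_le_right

theorem XCtx.transfer (d : XCtx p H T M A B X g) {A' : Subgroup G}
    (hC : Concl p X (X ⊓ MulAut.conj g • M) A') : Concl p H M A' := by
  have hle : pCoreOf p H ≤ pCoreOf p X :=
    le_pCoreOf ((le_sup_right.trans d.c.hRB).trans d.hBX)
      (d.hXH.trans (le_normalizer_pCoreOf H)) (pCoreOf_isPGroup H)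
  obtain ⟨L, hLX, hAL, L₀, h1, h2, h3, ⟨x, hxX, h4⟩, h5⟩ := hC
  refine ⟨L, hLX.trans d.hXH,
    sup_le (le_sup_left.trans hAL) (hle.trans (le_sup_right.trans hAL)), L₀, h1, h2, h3,
    ⟨x * g, H.mul_mem (d.hXH hxX) d.hg, ?_⟩, h5⟩
  rw [h4, conj_smul_inf, conj_smul_self_of_mem hxX, conj_smul_smul, ← inf_assoc,
    inf_eq_left.mpr hLX]

theorem XCtx.false_of_alpha (d : XCtx p H T M A B X g)
    (hα : ∀ h ∈ H, MulAut.conj h • A ≤ X → MulAut.conj h • A ≤ pCoreOf p X) : False := by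
  have hQX : pCoreOf p X ≤ X := pCoreOf_le X
  have hQB : pCoreOf p X ≤ B := by
    have hp : IsPGroup p ↥(B ⊔ pCoreOf p X : Subgroup G) :=
      d.c.hBp.to_sup_of_normal_right' (pCoreOf_isPGroup X)
        (d.hBX.trans (le_normalizer_pCoreOf X))
    have := d.sylow (B ⊔ pCoreOf p X) (sup_le d.hBX hQX) hp le_sup_left
    rw [← this]
    exact le_sup_right
  let W : Subgroup G :=
    ⨆ h : {h : G // h ∈ H ∧ MulAut.conj h • A ≤ B}, MulAut.conj h.1 • A
  have hWQ : W ≤ pCoreOf p X := iSup_le fun h => hα h.1 h.2.1 (h.2.2.trans d.hBX)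
  have hAB : A ≤ B := le_sup_left.trans d.c.hRB
  have hAW : A ≤ W := by
    have : MulAut.conj (1 : G) • A ≤ W :=
      le_iSup (fun h : {h : G // h ∈ H ∧ MulAut.conj h • A ≤ B} => MulAut.conj h.1 • A)
        ⟨1, H.one_mem, by rw [conj_one_smul]; exact hAB⟩
    rwa [conj_one_smul] at this
  have hgen : ∀ y ∈ H, (∀ h ∈ H, MulAut.conj h • A ≤ B → MulAut.conj (y * h) • A ≤ B) →
      y ∈ Subgroup.normalizer (W : Set G) := by
    intro y hy hyp
    apply mem_normalizer_of_conj_smul_le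
    rw [conj_smul_le_comm]
    apply iSup_le
    intro h
    rw [← conj_smul_le_comm, conj_smul_smul]
    exact le_iSup (fun h : {h : G // h ∈ H ∧ MulAut.conj h • A ≤ B} => MulAut.conj h.1 • A)
      ⟨y * h.1, H.mul_mem hy h.2.1, hyp h.1 h.2.1 h.2.2⟩
  have hXW : X ≤ Subgroup.normalizer (W : Set G) := by
    intro x hx
    apply hgen x (d.hXH hx)
    intro h hh hhB
    rw [← conj_smul_smul]
    have h1 : MulAut.conj x • MulAut.conj h • A ≤ MulAut.conj x • pCoreOf p X :=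
      conj_smul_mono x (hα h hh (hhB.trans d.hBX))
    rw [conj_smul_eq_of_mem_normalizer x (pCoreOf p X) (le_normalizer_pCoreOf X hx)] at h1
    exact h1.trans hQB
  obtain ⟨B', -, hB'C, hB'N, -, hB'L⟩ := d.c.exists_over d.hg d.hBg
  have hC := d.c.hyp.hM.conj d.hg
  have hB'H : B' ≤ H := hB'C.trans hC.1.le
  have hB'W : B' ≤ Subgroup.normalizer (W : Set G) := by
    intro b hb
    apply hgen b (hB'H hb)
    intro h hh hhB
    rw [← conj_smul_smul]
    have h1 := conj_smul_mono b hhB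
    rwa [conj_smul_eq_of_mem_normalizer b B (hB'N hb)] at h1
  have hK : H ⊓ Subgroup.normalizer (W : Set G) = H := by
    by_contra hne
    obtain ⟨C₃, hC₃, hKC₃⟩ := exists_rcoatom (lt_of_le_of_ne inf_le_left hne)
    have e := hB'L C₃ _ hC₃ hC ((le_inf hB'H hB'W).trans hKC₃) hB'C
    apply d.hXM
    rw [← e]
    exact (le_inf d.hXH hXW).trans hKC₃
  have hHW : H ≤ Subgroup.normalizer (W : Set G) := inf_eq_left.mp hK
  have hWH : W ≤ H := hWQ.trans (hQX.trans d.hXH)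
  have hWp : IsPGroup p ↥W := d.c.hBp.to_le (hWQ.trans hQB)
  exact d.c.hAO (hAW.trans (le_pCoreOf hWH hHW hWp))

/-- the relative L-Lemma, by induction on the order of `H`. -/
theorem main_aux : ∀ n : ℕ, ∀ H T M A : Subgroup G, Nat.card ↥H = n → Hyp p H T M → A ≤ H →
    IsPGroup p ↥A → ¬ A ≤ pCoreOf p H → Concl p H M A := by
  intro n
  induction n using Nat.strong_induction_on with
  | _ n ih =>
    intro H T M A hn hyp hAH hAp hAO
    by_contra hC
    have hRH : A ⊔ pCoreOf p H ≤ H := sup_le hAH (pCoreOf_le H)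
    have hRp : IsPGroup p ↥(A ⊔ pCoreOf p H : Subgroup G) :=
      hAp.to_sup_of_normal_right' (pCoreOf_isPGroup H) (hAH.trans (le_normalizer_pCoreOf H))
    have hRnl : ¬ Large H (A ⊔ pCoreOf p H) := fun hL => hC (concl_of_large hyp hAH hAp hL)
    obtain ⟨B, ⟨hRB, hBH, hBp, hBnl⟩, hBmax'⟩ := exists_max_subgroup
      (fun B : Subgroup G => A ⊔ pCoreOf p H ≤ B ∧ B ≤ H ∧ IsPGroup p ↥B ∧ ¬ Large H B)
      ⟨_, le_refl _, hRH, hRp, hRnl⟩
    have c : BCtx p H T M A B :=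
      ⟨hyp, hAO, hRB, hBH, hBp, hBnl,
        fun B' h1 h2 h3 h4 => hBmax' B' ⟨hRB.trans h3, h1, h2, h4⟩ h3⟩
    obtain ⟨g, hg, -, hBg, hCg⟩ := hyp.exists_conj hBH hBp
    have hex : ∃ C₀ : Subgroup G, RCoatom H C₀ ∧ B ≤ C₀ ∧ C₀ ≠ MulAut.conj g • M := by
      by_contra hno
      push Not at hno
      apply hBnl
      intro C C' hC1 hC2 h1 h2
      rw [hno C hC1 h1, hno C' hC2 h2]
    obtain ⟨C₀, hC₀, hBC₀, hC₀ne⟩ := hex
    have hC₀M : ¬ C₀ ≤ MulAut.conj g • M := by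
      intro hle
      rcases hC₀.2 _ hle hCg.1.le with h | h
      · exact hC₀ne h.symm
      · exact hCg.1.ne h
    obtain ⟨X, ⟨hBX, hXC₀, hXM⟩, hXmin'⟩ := exists_min_subgroup
      (fun Y : Subgroup G => B ≤ Y ∧ Y ≤ C₀ ∧ ¬ Y ≤ MulAut.conj g • M)
      ⟨C₀, hBC₀, le_refl _, hC₀M⟩
    have hXlt : X < H := lt_of_le_of_lt hXC₀ hC₀.1
    have d : XCtx p H T M A B X g :=
      ⟨c, hg, hBg, hBX, hXlt.le, hXlt.ne, hXM,
        fun Y h1 h2 h3 => hXmin' Y ⟨h1, h2.trans hXC₀, h3⟩ h2⟩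
    apply d.false_of_alpha
    intro h hh hhX
    by_contra hnot
    have hcard : Nat.card ↥X < n := by
      rw [← hn]
      exact card_lt_card_of_lt hXlt
    have hC' := ih (Nat.card ↥X) hcard X B _ (MulAut.conj h • A) rfl d.hyp' hhX
      (isPGroup_conj_smul h hAp) hnot
    have hC'' := (d.transfer hC').conj (H.inv_mem hh)
    rw [conj_inv_smul_smul] at hC''
    exact hC hC''

end Cfsg.Agent.Lib.Helper8.LLemma
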