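import Mathlib
import Cfsg.Agent.Lib.Lead.LWGlue
import Cfsg.Agent.Lib.Lead.Hall4D
import Cfsg.Agent.Lib.Helper5.Hall4.End
import Cfsg.Agent.Lib.Helper5.LW.Kill71
import Cfsg.Agent.Lib.Lead.SharpSmall

/-!
# S0747, the generic "odd" case: a `t`-transitive group (`t ≥ 4`) in which no involution fixes
`t` points induces the alternating group on some `(t+1)`-set
-/

set_option autoImplicit false
set_option maxHeartbeats 1000000
set_option linter.style.haveILetI false
set_option linter.unusedSectionVars false

namespace Cfsg.Agent.Lib.Helper8.LW747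

open MulAction SubMulAction Equiv Cfsg.Agent.Lib.Lead.LWGlue

variable {β : Type*} [Fintype β] [DecidableEq β]

/-- enumerate a finset with `t` elements -/
theorem exists_emb_of_card (u : Finset β) {t : ℕ} (hu : u.card = t) :
    ∃ x : Fin t ↪ β, ∀ a, a ∈ u ↔ ∃ i, x i = a := by
  refine ⟨(u.equivFinOfCardEq hu).symm.toEmbedding.trans (Function.Embedding.subtype _), ?_⟩
  intro a
  constructor
  · intro ha
    refine ⟨u.equivFinOfCardEq hu ⟨a, ha⟩, ?_⟩
    simp
  · rintro ⟨i, rfl⟩
    simp

/-- the conclusion of S0747 holds as soon as the group contains the alternating group -/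
theorem concl_of_alt_le (Y : Subgroup (Perm β)) (hY : alternatingGroup β ≤ Y) (D : Finset β)
    (σ : Perm ↥D) (hσ : σ ∈ alternatingGroup ↥D) : ∃ g ∈ Y, ∀ x : ↥D, g (x : β) = σ x := by
  refine ⟨Perm.ofSubtype σ, hY ?_, fun x => Perm.ofSubtype_apply_coe σ x⟩
  rw [Perm.mem_alternatingGroup, Perm.sign_ofSubtype]
  exact Perm.mem_alternatingGroup.mp hσ

/-- finset form of the "no involution fixes `t` points" hypothesis -/
theorem hoddF_of_hodd (Y : Subgroup (Perm β)) {t : ℕ}
    (hodd : ∀ (g : Y) (x : Fin t ↪ β), (∀ i, g • x i = x i) → g ^ 2 = 1 → g = 1)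
    (g : Perm β) (hg : g ∈ Y) (u : Finset β) (hu : u.card = t) (hfix : ∀ a ∈ u, g a = a)
    (hg2 : g ^ 2 = 1) : g = 1 := by
  obtain ⟨x, hx⟩ := exists_emb_of_card u hu
  have := hodd ⟨g, hg⟩ x (fun i => hfix _ ((hx _).mpr ⟨i, rfl⟩)) (Subtype.ext hg2)
  exact congrArg Subtype.val this

/-- an element of order three moving at most three points is a three-cycle -/
theorem isThreeCycle_of_orderOf (γ : Perm β) (h3 : orderOf γ = 3) (u : Finset β)
    (hu : Fintype.card β = u.card + 3) (hfix : ∀ a ∈ u, γ a = a) : γ.IsThreeCycle := by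
  rw [← card_support_eq_three_iff]
  have hsub : γ.support ⊆ uᶜ := by
    intro a ha
    rw [Finset.mem_compl]
    intro hau
    exact (Perm.mem_support.mp ha) (hfix a hau)
  have hle : γ.support.card ≤ 3 := by
    have := Finset.card_le_card hsub
    rw [Finset.card_compl] at this
    omega
  have h0 : γ.support.card ≠ 0 := by
    rw [Ne, Perm.card_support_eq_zero]
    rintro rfl
    simp at h3
  have h1 := Perm.card_support_ne_one γ
  have h2 : γ.support.card ≠ 2 := by
    rw [Ne, Perm.card_support_eq_two]
    intro hs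
    have := hs.orderOf
    omega
  omega

/-- the elements of the fixing subgroup of `s` fixing `m` further points form the fixing
subgroup of a set with `s.card + m` elements -/
theorem card_subtype_fix (Y : Subgroup (Perm β)) (s : Finset β) {m : ℕ}
    (x : Fin m ↪ ofFixingSubgroup Y (s : Set β)) :
    ∃ u : Finset β, u.card = s.card + m ∧
      Nat.card {g : fixingSubgroup Y (s : Set β) // ∀ i, g • x i = x i}
        = Nat.card (fixingSubgroup Y (u : Set β)) := by
  classical
  let e : Fin m ↪ β := ⟨fun i => ((x i : ofFixingSubgroup Y (s : Set β)) : β), by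
    intro i i' h
    exact x.injective (Subtype.ext h)⟩
  have hdisj : Disjoint s (Finset.univ.map e) := by
    rw [Finset.disjoint_left]
    intro a ha hb
    rw [Finset.mem_map] at hb
    obtain ⟨i, _, rfl⟩ := hb
    exact (x i).prop ha
  refine ⟨s.disjUnion (Finset.univ.map e) hdisj, ?_, ?_⟩
  · rw [Finset.card_disjUnion, Finset.card_map, Finset.card_univ, Fintype.card_fin]
  · refine Nat.card_congr ?_
    refine
      { toFun := fun g => ⟨((g : fixingSubgroup Y (s : Set β)) : Y), ?_⟩
        invFun := fun g => ⟨⟨(g : Y), ?_⟩, ?_⟩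
        left_inv := fun g => rfl
        right_inv := fun g => rfl }
    · rw [mem_fixingSubgroup_iff]
      intro y hy
      rw [Finset.mem_coe, Finset.mem_disjUnion] at hy
      rcases hy with hy | hy
      · exact (mem_fixingSubgroup_iff _).mp (g : fixingSubgroup Y (s : Set β)).prop y hy
      · rw [Finset.mem_map] at hy
        obtain ⟨i, _, rfl⟩ := hy
        have := congrArg (fun z : ofFixingSubgroup Y (s : Set β) => (z : β)) (g.2 i)
        exact this
    · rw [mem_fixingSubgroup_iff]
      intro y hy
      exact (mem_fixingSubgroup_iff _).mp g.prop y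
        (by rw [Finset.mem_coe, Finset.mem_disjUnion]; exact Or.inl hy)
    · intro i
      apply Subtype.ext
      exact (mem_fixingSubgroup_iff _).mp g.prop (e i)
        (by rw [Finset.mem_coe, Finset.mem_disjUnion]; exact Or.inr (Finset.mem_map_of_mem _ (Finset.mem_univ _)))

/-- M. Hall's theorem applied to the fixing subgroup of a `(t-4)`-set -/
theorem hall_glue (Y : Subgroup (Perm β)) {t : ℕ} (ht4 : 4 ≤ t) (htn : t + 3 ≤ Fintype.card β)
    (hY : IsMultiplyPretransitive Y β t)
    (hodd : ∀ (g : Y) (x : Fin t ↪ β), (∀ i, g • x i = x i) → g ^ 2 = 1 → g = 1) :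
    ∃ u : Finset β, u.card = t ∧
      ((Fintype.card β = t + 3 ∧ 3 ∣ Nat.card (fixingSubgroup Y (u : Set β))) ∨
       (Fintype.card β = t + 7 ∧ ∃ a : ℕ, Nat.card (fixingSubgroup Y (u : Set β)) = a ^ 3)) := by
  classical
  obtain ⟨s, -, hs⟩ := Finset.exists_subset_card_eq (s := (Finset.univ : Finset β)) (n := t - 4)
    (by rw [Finset.card_univ]; omega)
  have hs4 : s.card + 4 = t := by omega
  have h4 : IsMultiplyPretransitive (fixingSubgroup Y (s : Set β))
      (ofFixingSubgroup Y (s : Set β)) 4 :=
    ofFixingSubgroup.isMultiplyPretransitive (G := Y) (Hn := hY) (s : Set β)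
      (by rw [Set.ncard_coe_finset]; exact hs4)
  have hodd4 : ∀ (g : fixingSubgroup Y (s : Set β)) (x : Fin 4 ↪ ofFixingSubgroup Y (s : Set β)),
      (∀ i, g • x i = x i) → g ^ 2 = 1 → g = 1 := by
    intro g x hfix hg2
    obtain ⟨u, hu, hgu⟩ := exists_finset_of_fix Y s g x hfix
    have h1 : ((g : Y) : Perm β) = 1 := by
      refine hoddF_of_hodd Y hodd _ (g : Y).2 u (by omega) ?_ ?_
      · intro a ha
        exact (mem_fixingSubgroup_iff _).mp hgu a ha
      · have := congrArg (fun z : fixingSubgroup Y (s : Set β) => ((z : Y) : Perm β)) hg2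
        simpa using this
    apply Subtype.ext
    apply Subtype.ext
    exact h1
  haveI := faithful_ofFixingSubgroup Y s
  haveI : Fintype (ofFixingSubgroup Y (s : Set β)) := Fintype.ofFinite _
  have hΞ : Fintype.card (ofFixingSubgroup Y (s : Set β)) = Fintype.card β - s.card := by
    rw [← Nat.card_eq_fintype_card, card_ofFixingSubgroup]
  obtain ⟨x⟩ : Nonempty (Fin 4 ↪ ofFixingSubgroup Y (s : Set β)) :=
    Function.Embedding.nonempty_of_card_le (by rw [Fintype.card_fin, hΞ]; omega)
  have hmain := Cfsg.Agent.Lib.Lead.Hall4.hall_main (T := fixingSubgroup Y (s : Set β))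
    (Ξ := ofFixingSubgroup Y (s : Set β)) h4 hodd4
    (by rw [hΞ]; omega)
    (fun g hg => FaithfulSMul.eq_of_smul_eq_smul (α := ofFixingSubgroup Y (s : Set β))
      (fun a => by rw [hg a, one_smul])) x
  obtain ⟨u, hu, hcu⟩ := card_subtype_fix Y s x
  refine ⟨u, by omega, ?_⟩
  rw [hcu] at hmain
  rcases hmain with ⟨hN, h3⟩ | ⟨hN, h3⟩
  · left
    exact ⟨by rw [hΞ] at hN; omega, h3⟩
  · right
    exact ⟨by rw [hΞ] at hN; omega, h3⟩

/-- **The generic odd case of S0747.** -/
theorem alt_of_odd (Y : Subgroup (Perm β)) {t : ℕ} (ht4 : 4 ≤ t) (htn : t < Fintype.card β)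
    (hY : IsMultiplyPretransitive Y β t)
    (hodd : ∀ (g : Y) (x : Fin t ↪ β), (∀ i, g • x i = x i) → g ^ 2 = 1 → g = 1) :
    ∃ D : Finset β, D.card = t + 1 ∧ ∀ σ : Perm D, σ ∈ alternatingGroup D →
      ∃ g ∈ Y, ∀ x : D, g (x : β) = σ x := by
  classical
  -- it suffices to show that `Y` contains the alternating group
  have halt : alternatingGroup β ≤ Y → ∃ D : Finset β, D.card = t + 1 ∧
      ∀ σ : Perm D, σ ∈ alternatingGroup D → ∃ g ∈ Y, ∀ x : D, g (x : β) = σ x := by
    intro hle
    obtain ⟨D, -, hD⟩ := Finset.exists_subset_card_eq (s := (Finset.univ : Finset β))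
      (n := t + 1) (by rw [Finset.card_univ]; omega)
    exact ⟨D, hD, fun σ hσ => concl_of_alt_le Y hle D σ hσ⟩
  rcases Nat.lt_or_ge (Fintype.card β) (t + 3) with hlt | hge
  · -- `n = t + 1` or `n = t + 2`
    apply halt
    rcases Nat.lt_or_ge (Fintype.card β) (t + 2) with hlt2 | hge2
    · have hn : Nat.card β - 1 = t := by rw [Nat.card_eq_fintype_card]; omega
      have : Y = ⊤ := Perm.eq_top_of_isMultiplyPretransitive (by rw [hn]; exact hY)
      rw [this]; exact le_top
    · have hn : Nat.card β - 2 = t := by rw [Nat.card_eq_fintype_card]; omega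
      exact IsMultiplyPretransitive.alternatingGroup_le β Y (by rw [hn]; exact hY)
  · obtain ⟨u, hu, hcase⟩ := hall_glue Y ht4 hge hY hodd
    rcases hcase with ⟨hN, h3⟩ | ⟨hN, a, ha⟩
    · -- `n = t + 3`: a three-cycle
      apply halt
      haveI : Fact (Nat.Prime 3) := ⟨Nat.prime_three⟩
      obtain ⟨g, hg⟩ := exists_prime_orderOf_dvd_card' 3 h3
      have hg' : orderOf (((g : fixingSubgroup Y (u : Set β)) : Y) : Perm β) = 3 := by
        rw [Subgroup.orderOf_coe, Subgroup.orderOf_coe]; exact hg
      have h3c : ((((g : fixingSubgroup Y (u : Set β)) : Y) : Perm β)).IsThreeCycle :=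
        isThreeCycle_of_orderOf _ hg' u (by omega)
          (fun a ha => (mem_fixingSubgroup_iff _).mp g.2 a ha)
      have hprim : IsPreprimitive Y β := by
        haveI := hY
        have h2 : IsMultiplyPretransitive Y β 2 :=
          isMultiplyPretransitive_of_le (n := t) (by omega)
            (by rw [Nat.card_eq_fintype_card]; omega)
        exact isPreprimitive_of_is_two_pretransitive h2
      exact Perm.alternatingGroup_le_of_isPreprimitive_of_isThreeCycle_mem hprim h3c
        ((g : fixingSubgroup Y (u : Set β)) : Y).2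
    · -- `n = t + 7`: the stabiliser of `t` points is trivial
      have hoddh : Nat.card (fixingSubgroup Y (u : Set β)) % 2 = 1 := by
        by_contra hc
        have h2 : 2 ∣ Nat.card (fixingSubgroup Y (u : Set β)) := by omega
        haveI : Fact (Nat.Prime 2) := ⟨Nat.prime_two⟩
        obtain ⟨g, hg⟩ := exists_prime_orderOf_dvd_card' 2 h2
        have hg' : orderOf (((g : fixingSubgroup Y (u : Set β)) : Y) : Perm β) = 2 := by
          rw [Subgroup.orderOf_coe, Subgroup.orderOf_coe]; exact hg
        have h1 : ((((g : fixingSubgroup Y (u : Set β)) : Y) : Perm β)) = 1 := by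
          refine hoddF_of_hodd Y hodd _ ((g : fixingSubgroup Y (u : Set β)) : Y).2 u hu
            (fun a ha => (mem_fixingSubgroup_iff _).mp g.2 a ha) ?_
          rw [← hg']; exact pow_orderOf_eq_one _
        rw [h1, orderOf_one] at hg'
        omega
      have hdvd : Nat.card (fixingSubgroup Y (u : Set β)) ∣ (Fintype.card β - t).factorial := by
        haveI := faithful_ofFixingSubgroup Y u
        have hinj : Function.Injective (MulAction.toPermHom (fixingSubgroup Y (u : Set β))
            (ofFixingSubgroup Y (u : Set β))) := MulAction.toPerm_injective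
        have := Subgroup.card_dvd_of_injective _ hinj
        rwa [Nat.card_perm, card_ofFixingSubgroup, hu] at this
      have h5040 : (Fintype.card β - t).factorial = 5040 := by
        have : Fintype.card β - t = 7 := by omega
        rw [this]; decide
      rw [h5040, ha] at hdvd
      rw [ha] at hoddh
      have ha17 : a ≤ 17 := by
        by_contra hc
        push Not at hc
        have h18 : 18 ^ 3 ≤ a ^ 3 := Nat.pow_le_pow_left (by omega) 3
        have := Nat.le_of_dvd (by norm_num) hdvd
        omega
      have ha1 := Cfsg.Agent.Lib.Helper5.Hall4.cube_aux a ha17 hdvd hoddh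
      rw [ha1, one_pow] at ha
      have hbot : fixingSubgroup Y (u : Set β) = ⊥ := Subgroup.card_eq_one.mp ha
      obtain ⟨x0, hx0⟩ := exists_emb_of_card u hu
      -- sharpness
      have hsharp : ∀ (g : Y) (x : Fin t ↪ β), (∀ i, g • x i = x i) → g = 1 := by
        intro g x hfix
        obtain ⟨k, hk⟩ := @MulAction.exists_smul_eq Y (Fin t ↪ β) _ hY x x0
        have hki : ∀ i, k • x i = x0 i := fun i => DFunLike.congr_fun hk i
        have hmem : k * g * k⁻¹ ∈ fixingSubgroup Y (u : Set β) := by
          rw [mem_fixingSubgroup_iff]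
          intro a ha
          obtain ⟨i, rfl⟩ := (hx0 a).mp ha
          rw [← hki i, mul_smul, mul_smul, inv_smul_smul, hfix i]
        rw [hbot, Subgroup.mem_bot] at hmem
        have h3 := congrArg (fun z => k⁻¹ * z * k) hmem
        simpa [mul_assoc] using h3
      rcases Nat.lt_or_ge t 6 with ht6 | ht6
      · exact Cfsg.Agent.Lib.Lead.SharpSmall.alt_of_sharp_small Y (by omega) hN hY hsharp
      · exfalso
        refine Cfsg.Agent.Lib.Helper5.LW.kill71 (G := Y) ht6 hY ?_ hN
        intro u' hu'
        rw [Subgroup.card_eq_one, eq_bot_iff]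
        intro g hg
        obtain ⟨x', hx'⟩ := exists_emb_of_card u' hu'
        rw [Subgroup.mem_bot]
        exact hsharp g x' (fun i => (mem_fixingSubgroup_iff _).mp hg _ ((hx' _).mpr ⟨i, rfl⟩))

end Cfsg.Agent.Lib.Helper8.LW747
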