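import Mathlib
import Cfsg.Agent.Lib.Helper8.LwWittA
import Cfsg.Agent.Lib.Helper8.Lw747O
import Cfsg.Agent.Lib.Helper5.LW.Count
import Cfsg.Agent.Lib.Helper5.LW.SwapAll
import Cfsg.Agent.Lib.Lead.TransportAlt

/-!
# S0747: a `k`-transitive group (`4 ≤ k < n`) induces at least the alternating group on some
`(k+1)`-set
-/

set_option autoImplicit false
set_option maxHeartbeats 1000000
set_option linter.style.haveILetI false
set_option linter.unusedSectionVars false

namespace Cfsg.Agent.Lib.Helper8.LW747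

open MulAction Equiv

variable {α : Type*} [Fintype α] [DecidableEq α]

/-- a Sylow `2`-subgroup of a pointwise stabiliser, as a subgroup of `Perm α` -/
theorem exists_sylow_fix (G : Subgroup (Perm α)) (S : Set α) :
    ∃ P : Subgroup (Perm α), P ≤ fixP G S ∧
      Nat.card P = 2 ^ (Nat.card (fixingSubgroup G S)).factorization 2 := by
  haveI : Fact (Nat.Prime 2) := ⟨Nat.prime_two⟩
  obtain ⟨P⟩ : Nonempty (Sylow 2 (fixP G S)) := inferInstance
  refine ⟨(P : Subgroup (fixP G S)).map (fixP G S).subtype, Subgroup.map_subtype_le _, ?_⟩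
  rw [Subgroup.card_map_of_injective (Subgroup.subtype_injective _), P.card_eq_multiplicity,
    card_fixP]

/-- the 2-part of the pointwise stabiliser of a set -/
noncomputable def v2 (G : Subgroup (Perm α)) (S : Finset α) : ℕ :=
  (Nat.card (fixingSubgroup G (S : Set α))).factorization 2

/-- if the Sylow 2-subgroups of the `k`-point stabilisers fix only `k` points, the 2-part drops
when a point is added -/
theorem v2_insert_lt (G : Subgroup (Perm α)) {k : ℕ}
    (hE : ∀ (Θ : Finset α) (P : Subgroup (Perm α)) (Φ : Finset α), Θ.card = k →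
      P ≤ fixP G (Θ : Set α) → Nat.card P = 2 ^ v2 G Θ → (∀ x, x ∈ Φ ↔ ∀ q ∈ P, q x = x) →
      Φ.card ≤ k)
    (S : Finset α) (hS : S.card = k) (ω : α) (hω : ω ∉ S) :
    v2 G (insert ω S) < v2 G S := by
  classical
  haveI : Fact (Nat.Prime 2) := ⟨Nat.prime_two⟩
  have hle : fixP G ((insert ω S : Finset α) : Set α) ≤ fixP G (S : Set α) := by
    intro g hg
    obtain ⟨hgG, hgfix⟩ := mem_fixP.mp hg
    exact mem_fixP.mpr ⟨hgG, fun x hx => hgfix x (by
      rw [Finset.mem_coe] at hx ⊢; exact Finset.mem_insert_of_mem hx)⟩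
  have hdvd : Nat.card (fixingSubgroup G ((insert ω S : Finset α) : Set α)) ∣
      Nat.card (fixingSubgroup G (S : Set α)) := by
    rw [← card_fixP, ← card_fixP]; exact Subgroup.card_dvd_of_le hle
  have hle2 : v2 G (insert ω S) ≤ v2 G S :=
    (Nat.factorization_le_iff_dvd Nat.card_pos.ne' Nat.card_pos.ne').mpr hdvd 2
  rcases Nat.lt_or_ge (v2 G (insert ω S)) (v2 G S) with h | h
  · exact h
  exfalso
  have heq : v2 G (insert ω S) = v2 G S := le_antisymm hle2 h
  obtain ⟨R, hR, hRc⟩ := exists_sylow_fix G ((insert ω S : Finset α) : Set α)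
  obtain ⟨P, hP, hPc⟩ := exists_sylow_fix G (S : Set α)
  have hRc' : Nat.card R = 2 ^ (Nat.card (fixP G (S : Set α))).factorization 2 := by
    rw [card_fixP, hRc]; exact congrArg (2 ^ ·) heq
  have hPc' : Nat.card P = 2 ^ (Nat.card (fixP G (S : Set α))).factorization 2 := by
    rw [card_fixP, hPc]
  obtain ⟨h, hh, hconj⟩ := sylow_conj_in (fixP G (S : Set α)) P R hP (hR.trans hle) hPc' hRc'
  -- the fixed points of `P` are exactly `S`
  have hΦle := hE S P (Finset.univ.filter (fun x => ∀ q ∈ P, q x = x)) hS hP hPc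
    (fun x => by simp)
  have hSΦ : S ⊆ Finset.univ.filter (fun x => ∀ q ∈ P, q x = x) := by
    intro x hx
    rw [Finset.mem_filter]
    exact ⟨Finset.mem_univ _, fun q hq => (mem_fixP.mp (hP hq)).2 x hx⟩
  have hΦS : Finset.univ.filter (fun x => ∀ q ∈ P, q x = x) = S :=
    (Finset.eq_of_subset_of_card_le hSΦ (by rw [hS]; exact hΦle)).symm
  -- `h⁻¹ ω` is fixed by `P`
  have hfix : h⁻¹ ω ∈ Finset.univ.filter (fun x => ∀ q ∈ P, q x = x) := by
    rw [Finset.mem_filter]
    refine ⟨Finset.mem_univ _, fun p hp => ?_⟩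
    have hq : h * p * h⁻¹ ∈ R := by
      rw [hconj]
      have e : h⁻¹ * (h * p * h⁻¹) * h = p := by group
      rw [e]; exact hp
    have hqω : (h * p * h⁻¹) ω = ω :=
      (mem_fixP.mp (hR hq)).2 ω (by rw [Finset.mem_coe]; exact Finset.mem_insert_self _ _)
    simp only [Perm.mul_apply] at hqω
    -- h (p (h⁻¹ ω)) = ω
    have := congrArg (h⁻¹ : Perm α) hqω
    rwa [inv_apply_self'] at this
  rw [hΦS] at hfix
  have h2 : h (h⁻¹ ω) = h⁻¹ ω := (mem_fixP.mp hh).2 _ hfix
  rw [apply_inv_self'] at h2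
  rw [← h2] at hfix
  exact hω hfix

/-- **S0747.** -/
theorem lw747_main (G : Subgroup (Perm α)) {k : ℕ} (hk : 4 ≤ k) (hkn : k < Fintype.card α)
    (hG : IsMultiplyPretransitive G α k) :
    ∃ Δ : Finset α, Δ.card = k + 1 ∧ ∀ σ : Perm ↥Δ, σ ∈ alternatingGroup ↥Δ →
      ∃ g ∈ G, ∀ x : ↥Δ, g (x : α) = σ x := by
  classical
  haveI : Fact (Nat.Prime 2) := ⟨Nat.prime_two⟩
  have hhom : IsPretransitive G (Set.powersetCard α k) :=
    Set.powersetCard.isPretransitive_of_isMultiplyPretransitive G hG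
  have hv : ∀ S S' : Finset α, S.card = k → S'.card = k → v2 G S = v2 G S' := by
    intro S S' hS hS'
    unfold v2
    rw [Cfsg.Agent.Lib.Helper5.LW.card_fixing_eq_of_homog G hhom S S' hS hS']
  by_cases hW : ∃ (Θ : Finset α) (P : Subgroup (Perm α)) (Φ : Finset α), Θ.card = k ∧
      P ≤ fixP G (Θ : Set α) ∧ Nat.card P = 2 ^ v2 G Θ ∧ (∀ x, x ∈ Φ ↔ ∀ q ∈ P, q x = x) ∧
      k < Φ.card
  · -- (W): Witt
    obtain ⟨Θ, P, Φ, hΘ, hPΘ, hPc, hΦ, hΦk⟩ := hW
    have hPG : P ≤ G := fun q hq => (mem_fixP.mp (hPΘ hq)).1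
    have hsyl : ∀ S : Finset α, S ⊆ Φ → S.card = k →
        Nat.card P = 2 ^ (Nat.card (fixingSubgroup G (S : Set α))).factorization 2 := by
      intro S _ hS
      rw [hPc]
      exact congrArg (2 ^ ·) (hv Θ S hΘ hS)
    have hY := normImage_pretransitive G P hPG Φ hΦ 2 k hG hsyl
    have hodd := normImage_noInv G P hPG Φ hΦ k hsyl
    obtain ⟨D', hD', hD'alt⟩ := alt_of_odd (normImage G P Φ) hk
      (by rw [Fintype.card_coe]; exact hΦk) hY hodd
    refine Cfsg.Agent.Lib.Lead.TransportAlt.transport_alt G Φ (normImage G P Φ) ?_ D' hD' hD'alt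
    intro σ hσ
    obtain ⟨g, hgG, -, hg⟩ := mem_normImage.mp hσ
    exact ⟨g, hgG, hg⟩
  · -- (E): the swap lemma
    push Not at hW
    have hE : ∀ (Θ : Finset α) (P : Subgroup (Perm α)) (Φ : Finset α), Θ.card = k →
        P ≤ fixP G (Θ : Set α) → Nat.card P = 2 ^ v2 G Θ → (∀ x, x ∈ Φ ↔ ∀ q ∈ P, q x = x) →
        Φ.card ≤ k :=
      fun Θ P Φ h1 h2 h3 h4 => hW Θ P Φ h1 h2 h3 h4
    have hne : (Finset.powersetCard (k + 1) (Finset.univ : Finset α)).Nonempty := by
      rw [Finset.powersetCard_nonempty, Finset.card_univ]; omega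
    obtain ⟨D, hDmem, hDmax⟩ := Finset.exists_max_image _ (fun D => v2 G D) hne
    have hD : D.card = k + 1 := (Finset.mem_powersetCard.mp hDmem).2
    have hmax : ∀ D' : Finset α, D'.card = k - 1 + 2 → v2 G D' ≤ v2 G D := by
      intro D' hD'
      exact hDmax D' (Finset.mem_powersetCard.mpr ⟨Finset.subset_univ _, by omega⟩)
    have hgap : ∀ S : Finset α, S.card = k - 1 + 1 → v2 G D < v2 G S := by
      intro S hS
      obtain ⟨ω, hω⟩ : D.Nonempty := by
        rw [← Finset.card_pos]; omega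
      have h1 : (D.erase ω).card = k := by
        rw [Finset.card_erase_of_mem hω]; omega
      have h2 := v2_insert_lt G hE (D.erase ω) h1 ω (Finset.notMem_erase ω D)
      rw [Finset.insert_erase hω] at h2
      rw [hv S (D.erase ω) (by omega) h1]
      exact h2
    have hswap := Cfsg.Agent.Lib.Helper5.LW.swap_all G (k - 1) D (by omega) hmax hgap
    exact ⟨D, hD, fun σ _ => Cfsg.Agent.Lib.Helper5.LW.perm_induced_of_swaps G D hswap σ⟩

end Cfsg.Agent.Lib.Helper8.LW747
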