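import Cfsg.Agent.Lib.Helper8.LwH4H

/-!
# Livingstone–Wagner: application of the Hall-type lemma to a `j`-transitive group, `j ≥ 4`
-/

set_option autoImplicit false

namespace Cfsg.Agent.Lib.Helper8.LW

open MulAction

/-- an element of square one in a group of odd order is trivial -/
theorem eq_one_of_sq_of_odd {H : Type*} [Group H] [Finite H] (hH : Odd (Nat.card H)) {g : H}
    (hg : g ^ 2 = 1) : g = 1 := by
  have h1 : orderOf g ∣ 2 := orderOf_dvd_of_pow_eq_one hg
  have h2 : orderOf g ∣ Nat.card H := orderOf_dvd_natCard g
  have h3 : orderOf g = 1 := by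
    rcases (Nat.dvd_prime Nat.prime_two).mp h1 with h | h
    · exact h
    · exfalso
      rw [h] at h2
      exact (Nat.not_even_iff_odd.mpr hH) (even_iff_two_dvd.mpr h2)
  exact orderOf_eq_one_iff.mp h3

theorem lw_big {α : Type*} [Fintype α] [DecidableEq α] (G : Subgroup (Equiv.Perm α)) (j : ℕ)
    (hj : 4 ≤ j) (ht : IsMultiplyPretransitive G α j)
    (hodd : ∀ s : Finset α, s.card = j → Odd (Nat.card (fixingSubgroup G (s : Set α))))
    (hbot : ∀ s : Finset α, s.card = j + 1 → fixingSubgroup G (s : Set α) = ⊥) :
    Fintype.card α ≤ j + 7 := by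
  by_contra hcon
  push Not at hcon
  obtain ⟨s0, -, hs0⟩ := Finset.exists_subset_card_eq (s := (Finset.univ : Finset α)) (n := j - 4)
    (by rw [Finset.card_univ]; omega)
  have hncard : (s0 : Set α).ncard = j - 4 := by rw [Set.ncard_coe_finset, hs0]
  have h4 : IsMultiplyPretransitive (fixingSubgroup G (s0 : Set α))
      (SubMulAction.ofFixingSubgroup G (s0 : Set α)) 4 := by
    have := ht
    exact SubMulAction.ofFixingSubgroup.isMultiplyPretransitive G (n := j) (s0 : Set α)
      (by rw [hncard]; omega)
  -- the `j`- or `(j+1)`-set spanned by `s0` and some points of the complement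
  have key : ∀ (m : ℕ) (x : Fin m ↪ SubMulAction.ofFixingSubgroup G (s0 : Set α))
      (g : fixingSubgroup G (s0 : Set α)), (∀ i, g • x i = x i) →
      ∃ s1 : Finset α, s1.card = j - 4 + m ∧ (g : G) ∈ fixingSubgroup G (s1 : Set α) := by
    intro m x g hg
    refine ⟨s0 ∪ Finset.univ.image (fun i => ((x i : SubMulAction.ofFixingSubgroup G (s0 : Set α)) : α)),
      ?_, ?_⟩
    · rw [Finset.card_union_of_disjoint, hs0, Finset.card_image_of_injective, Finset.card_univ,
        Fintype.card_fin]
      · intro a b hab
        exact x.injective (Subtype.ext hab)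
      · rw [Finset.disjoint_left]
        intro a ha hb
        rw [Finset.mem_image] at hb
        obtain ⟨i, -, rfl⟩ := hb
        exact SubMulAction.not_mem_of_mem_ofFixingSubgroup (x i) (Finset.mem_coe.mpr ha)
    · rw [mem_fixingSubgroup_iff]
      intro a ha
      rw [Finset.coe_union, Set.mem_union] at ha
      rcases ha with ha | ha
      · exact (mem_fixingSubgroup_iff G).mp g.2 a ha
      · rw [Finset.mem_coe, Finset.mem_image] at ha
        obtain ⟨i, -, rfl⟩ := ha
        have := congrArg Subtype.val (hg i)
        rw [SubMulAction.val_smul] at this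
        exact this
  have hb := four_trans_bound (T := fixingSubgroup G (s0 : Set α))
    (Ξ := SubMulAction.ofFixingSubgroup G (s0 : Set α)) h4 ?_ ?_
  · have hcard : Nat.card (SubMulAction.ofFixingSubgroup G (s0 : Set α)) =
        Fintype.card α - (j - 4) := by
      have : Nat.card (SubMulAction.ofFixingSubgroup G (s0 : Set α)) =
          Nat.card {a : α // ¬ a ∈ s0} := by
        apply Nat.card_congr
        exact Equiv.subtypeEquivRight (fun a => by
          rw [SubMulAction.mem_ofFixingSubgroup_iff, Finset.mem_coe])
      rw [this, Nat.card_eq_fintype_card, Fintype.card_subtype_compl, Fintype.card_coe, hs0]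
    rw [hcard] at hb
    omega
  · intro g x hg hg2
    obtain ⟨s1, hs1, hmem⟩ := key 4 x g hg
    have hoddc := hodd s1 (by rw [hs1]; omega)
    have h1 : (⟨(g : G), hmem⟩ : fixingSubgroup G (s1 : Set α)) = 1 := by
      apply eq_one_of_sq_of_odd hoddc
      apply Subtype.ext
      have := congrArg (fun z : fixingSubgroup G (s0 : Set α) => (z : G)) hg2
      simpa using this
    have h2 := congrArg (fun z : fixingSubgroup G (s1 : Set α) => (z : G)) h1
    apply Subtype.ext
    simpa using h2
  · intro g x hg
    obtain ⟨s1, hs1, hmem⟩ := key 5 x g hg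
    rw [hbot s1 (by rw [hs1]; omega), Subgroup.mem_bot] at hmem
    apply Subtype.ext
    simpa using hmem

end Cfsg.Agent.Lib.Helper8.LW
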