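import Mathlib

/-!
# Livingstone–Wagner, Hall-type lemma (H4), part A: basic tools

`T` acts on `Ξ`; `hodd`: no involution fixes four distinct points.
-/

set_option autoImplicit false

namespace Cfsg.Agent.Lib.Helper8.LW

open MulAction

section basic

variable {T Ξ : Type*} [Group T] [MulAction T Ξ]

theorem pow_smul_fix {g : T} {c : Ξ} (h : g • c = c) (m : ℕ) : g ^ m • c = c := by
  induction m with
  | zero => simp
  | succ k ih => rw [pow_succ, mul_smul, h, ih]

theorem zpow_smul_fix {g : T} {c : Ξ} (h : g • c = c) (m : ℤ) : g ^ m • c = c := by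
  have hinv : g⁻¹ • c = c := by rw [inv_smul_eq_iff, h]
  cases m with
  | ofNat k => simpa using pow_smul_fix h k
  | negSucc k =>
    rw [zpow_negSucc, ← inv_pow]
    exact pow_smul_fix hinv (k + 1)

theorem pow_smul_swap {g : T} {a b : Ξ} (hab : g • a = b) (hba : g • b = a) {m : ℕ} (hm : Odd m) :
    g ^ m • a = b := by
  obtain ⟨k, rfl⟩ := hm
  have h2 : (g ^ 2) • a = a := by rw [pow_two, mul_smul, hab, hba]
  rw [pow_succ, mul_smul, hab, pow_mul]
  have h2b : (g ^ 2) • b = b := by rw [pow_two, mul_smul, hba, hab]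
  exact pow_smul_fix h2b k

/-- elements whose square is one are their own inverse -/
theorem inv_eq_self_of_sq {t : T} (h : t ^ 2 = 1) : t⁻¹ = t := by
  rw [inv_eq_iff_mul_eq_one, ← pow_two, h]

theorem mul_self_of_sq {t : T} (h : t ^ 2 = 1) : t * t = 1 := by rw [← pow_two, h]

theorem smul_smul_of_sq {t : T} (h : t ^ 2 = 1) (x : Ξ) : t • t • x = x := by
  rw [← mul_smul, mul_self_of_sq h, one_smul]

end basic

section odd

variable {T Ξ : Type*} [Group T] [Finite T] [MulAction T Ξ]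

/-- an element fixing four distinct points has odd order -/
theorem odd_orderOf_of_fix
    (hodd : ∀ (g : T) (x : Fin 4 ↪ Ξ), (∀ i, g • x i = x i) → g ^ 2 = 1 → g = 1)
    {g : T} (x : Fin 4 ↪ Ξ) (hg : ∀ i, g • x i = x i) : Odd (orderOf g) := by
  by_contra hcon
  rw [Nat.not_odd_iff_even] at hcon
  obtain ⟨k, hk⟩ := hcon
  have hpos : 0 < orderOf g := orderOf_pos g
  have hk0 : 0 < k := by omega
  have h1 : g ^ k = 1 := by
    apply hodd (g ^ k) x
    · intro i; exact pow_smul_fix (hg i) k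
    · rw [← pow_mul, show k * 2 = orderOf g by omega, pow_orderOf_eq_one]
  have := orderOf_dvd_of_pow_eq_one h1
  have := Nat.le_of_dvd hk0 this
  omega

/-- conjugacy of two involutions agreeing on four distinct points, by a power of their product -/
theorem invol_conj
    (hodd : ∀ (g : T) (x : Fin 4 ↪ Ξ), (∀ i, g • x i = x i) → g ^ 2 = 1 → g = 1)
    {t t' : T} (ht : t ^ 2 = 1) (ht' : t' ^ 2 = 1) (x : Fin 4 ↪ Ξ)
    (hx : ∀ i, t • x i = t' • x i) :
    ∃ h : T, h ∈ Subgroup.zpowers (t * t') ∧ h * t * h⁻¹ = t' := by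
  set y := t * t' with hy
  have hyfix : ∀ i, y • x i = x i := by
    intro i
    rw [hy, mul_smul, ← hx i, smul_smul_of_sq ht]
  have hm := odd_orderOf_of_fix hodd x hyfix
  obtain ⟨k, hk⟩ := hm
  set z := y ^ (k + 1) with hz
  have hzz : z * z = y := by
    rw [hz, ← pow_add, show k + 1 + (k + 1) = orderOf y + 1 by omega, pow_succ,
      pow_orderOf_eq_one, one_mul]
  have htinv : t⁻¹ = t := inv_eq_self_of_sq ht
  have ht'inv : t'⁻¹ = t' := inv_eq_self_of_sq ht'
  have hty : t * y * t⁻¹ = y⁻¹ := by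
    rw [hy, mul_inv_rev, htinv, ht'inv, ← mul_assoc, mul_self_of_sq ht, one_mul]
  have htz : t * z * t⁻¹ = z⁻¹ := by
    rw [hz, ← inv_pow, ← hty, conj_pow]
  refine ⟨z⁻¹, Subgroup.inv_mem _ (Subgroup.pow_mem _ (Subgroup.mem_zpowers y) _), ?_⟩
  rw [inv_inv]
  have h1 : t * z = z⁻¹ * t := by
    rw [← htz, mul_assoc, mul_assoc, inv_mul_cancel, mul_one]
  rw [← h1, mul_assoc, hzz, hy, ← mul_assoc, mul_self_of_sq ht, one_mul]

end odd

end Cfsg.Agent.Lib.Helper8.LW
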