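import Cfsg.Agent.Lib.Helper8.LwH4A

/-!
# Livingstone–Wagner, Hall-type lemma (H4), part B: involutions in a 4-transitive group
-/

set_option autoImplicit false

namespace Cfsg.Agent.Lib.Helper8.LW

open MulAction

section trans

variable {T Ξ : Type*} [Group T] [Finite T] [MulAction T Ξ]

/-- four distinct points as an embedding -/
def emb4 (a b c d : Ξ) (hab : a ≠ b) (hac : a ≠ c) (had : a ≠ d) (hbc : b ≠ c) (hbd : b ≠ d)
    (hcd : c ≠ d) : Fin 4 ↪ Ξ :=
  ⟨![a, b, c, d], by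
    intro i j h
    fin_cases i <;> fin_cases j <;> simp_all⟩

omit [Group T] [Finite T] [MulAction T Ξ] in
@[simp] theorem emb4_zero (a b c d : Ξ) (hab : a ≠ b) (hac : a ≠ c) (had : a ≠ d) (hbc : b ≠ c)
    (hbd : b ≠ d) (hcd : c ≠ d) : emb4 a b c d hab hac had hbc hbd hcd 0 = a := rfl
omit [Group T] [Finite T] [MulAction T Ξ] in
@[simp] theorem emb4_one (a b c d : Ξ) (hab : a ≠ b) (hac : a ≠ c) (had : a ≠ d) (hbc : b ≠ c)
    (hbd : b ≠ d) (hcd : c ≠ d) : emb4 a b c d hab hac had hbc hbd hcd 1 = b := rfl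
omit [Group T] [Finite T] [MulAction T Ξ] in
@[simp] theorem emb4_two (a b c d : Ξ) (hab : a ≠ b) (hac : a ≠ c) (had : a ≠ d) (hbc : b ≠ c)
    (hbd : b ≠ d) (hcd : c ≠ d) : emb4 a b c d hab hac had hbc hbd hcd 2 = c := rfl
omit [Group T] [Finite T] [MulAction T Ξ] in
@[simp] theorem emb4_three (a b c d : Ξ) (hab : a ≠ b) (hac : a ≠ c) (had : a ≠ d) (hbc : b ≠ c)
    (hbd : b ≠ d) (hcd : c ≠ d) : emb4 a b c d hab hac had hbc hbd hcd 3 = d := rfl

/-- realise an involutory pattern `σ` on four points by an involution of `T` -/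
theorem exists_invol (h4 : IsMultiplyPretransitive T Ξ 4)
    (hodd : ∀ (g : T) (x : Fin 4 ↪ Ξ), (∀ i, g • x i = x i) → g ^ 2 = 1 → g = 1)
    (x : Fin 4 ↪ Ξ) (σ : Equiv.Perm (Fin 4)) (hσ : σ * σ = 1) :
    ∃ t : T, t ^ 2 = 1 ∧ ∀ i, t • x i = x (σ i) := by
  obtain ⟨g, hg⟩ := h4.exists_smul_eq x (σ.toEmbedding.trans x)
  have hg' : ∀ i, g • x i = x (σ i) := by
    intro i
    have := DFunLike.congr_fun hg i
    simpa using this
  have hσσ : ∀ i, σ (σ i) = i := by
    intro i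
    have := DFunLike.congr_fun hσ i
    simpa using this
  have hg2 : ∀ i, (g ^ 2) • x i = x i := by
    intro i
    rw [pow_two, mul_smul, hg', hg', hσσ]
  have hm := odd_orderOf_of_fix hodd x hg2
  refine ⟨g ^ orderOf (g ^ 2), ?_, ?_⟩
  · rw [← pow_mul, mul_comm, pow_mul, pow_orderOf_eq_one]
  · intro i
    apply pow_smul_swap (hg' i) _ hm
    rw [hg', hσσ]

end trans

section fix

variable {T Ξ : Type*} [Group T] [Finite T] [MulAction T Ξ] [Fintype Ξ] [DecidableEq Ξ]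

/-- the set of fixed points of an element -/
def fixF (t : T) : Finset Ξ := Finset.univ.filter (fun x => t • x = x)

omit [Finite T] in
theorem mem_fixF {t : T} {x : Ξ} : x ∈ fixF t ↔ t • x = x := by
  simp [fixF]

omit [Finite T] in
theorem card_fixF_conj (g t : T) : (fixF (g * t * g⁻¹) : Finset Ξ).card = (fixF t : Finset Ξ).card := by
  have : (fixF (g * t * g⁻¹) : Finset Ξ) = (fixF t).image (fun x => g • x) := by
    ext x
    rw [mem_fixF, Finset.mem_image]
    constructor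
    · intro h
      refine ⟨g⁻¹ • x, ?_, by simp⟩
      rw [mem_fixF]
      rw [mul_smul, mul_smul] at h
      have h2 : g⁻¹ • (g • t • g⁻¹ • x) = g⁻¹ • x := by rw [h]
      rwa [inv_smul_smul] at h2
    · rintro ⟨y, hy, rfl⟩
      rw [mem_fixF] at hy
      rw [mul_smul, mul_smul, inv_smul_smul, hy]
  rw [this, Finset.card_image_of_injective _ (MulAction.injective g)]

theorem card_fixF_le_three
    (hodd : ∀ (g : T) (x : Fin 4 ↪ Ξ), (∀ i, g • x i = x i) → g ^ 2 = 1 → g = 1)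
    {t : T} (ht : t ^ 2 = 1) (ht1 : t ≠ 1) : (fixF t : Finset Ξ).card ≤ 3 := by
  by_contra hcon
  push Not at hcon
  obtain ⟨f, hf⟩ := Function.Embedding.exists_of_card_le_finset (α := Fin 4) (s := (fixF t : Finset Ξ))
    (by simp only [Fintype.card_fin]; omega)
  apply ht1
  apply hodd t f _ ht
  intro i
  have : f i ∈ (fixF t : Finset Ξ) := by
    apply hf
    exact Set.mem_range_self i
  exact mem_fixF.mp this

/-- the pattern `(0 1)(2 3)` -/
def sig22 : Equiv.Perm (Fin 4) := Equiv.swap 0 1 * Equiv.swap 2 3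

/-- the pattern `(0 1)` -/
def sig2 : Equiv.Perm (Fin 4) := Equiv.swap 0 1

theorem sig22_sq : sig22 * sig22 = 1 := by decide
theorem sig2_sq : sig2 * sig2 = 1 := by decide
@[simp] theorem sig22_zero : sig22 0 = 1 := by decide
@[simp] theorem sig22_one : sig22 1 = 0 := by decide
@[simp] theorem sig22_two : sig22 2 = 3 := by decide
@[simp] theorem sig22_three : sig22 3 = 2 := by decide
@[simp] theorem sig2_zero : sig2 0 = 1 := by decide
@[simp] theorem sig2_one : sig2 1 = 0 := by decide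
@[simp] theorem sig2_two : sig2 2 = 2 := by decide
@[simp] theorem sig2_three : sig2 3 = 3 := by decide

/-- a nontrivial involution has two 2-cycles -/
theorem exists_two_cycles
    (hodd : ∀ (g : T) (x : Fin 4 ↪ Ξ), (∀ i, g • x i = x i) → g ^ 2 = 1 → g = 1)
    (hcard : 7 ≤ Fintype.card Ξ)
    {t : T} (ht : t ^ 2 = 1) (ht1 : t ≠ 1) :
    ∃ x : Fin 4 ↪ Ξ, ∀ i, t • x i = x (sig22 i) := by
  have h3 := card_fixF_le_three hodd ht ht1
  -- moved points
  have hM : 4 ≤ ((fixF t : Finset Ξ)ᶜ).card := by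
    rw [Finset.card_compl]; omega
  obtain ⟨a, ha⟩ : ((fixF t : Finset Ξ)ᶜ).Nonempty := by
    rw [← Finset.card_pos]; omega
  rw [Finset.mem_compl, mem_fixF] at ha
  have hM2 : 2 ≤ (((fixF t : Finset Ξ)ᶜ).erase a |>.erase (t • a)).card := by
    have h1 : ((fixF t : Finset Ξ)ᶜ).card - 1 ≤ (((fixF t : Finset Ξ)ᶜ).erase a).card :=
      Finset.pred_card_le_card_erase
    have h2 : (((fixF t : Finset Ξ)ᶜ).erase a).card - 1 ≤
        (((fixF t : Finset Ξ)ᶜ).erase a |>.erase (t • a)).card := Finset.pred_card_le_card_erase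
    omega
  obtain ⟨c, hc⟩ : (((fixF t : Finset Ξ)ᶜ).erase a |>.erase (t • a)).Nonempty := by
    rw [← Finset.card_pos]; omega
  simp only [Finset.mem_erase, Finset.mem_compl, mem_fixF] at hc
  obtain ⟨hc1, hc2, hc3⟩ := hc
  have htt : ∀ x : Ξ, t • t • x = x := smul_smul_of_sq ht
  refine ⟨emb4 a (t • a) c (t • c) (Ne.symm ha) (Ne.symm hc2) ?_ (Ne.symm hc1) ?_ (Ne.symm hc3), ?_⟩
  · intro h
    apply hc1
    rw [h, htt]
  · intro h
    apply hc2
    exact (MulAction.injective t h).symm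
  · intro i
    fin_cases i
    · show t • emb4 a (t • a) c (t • c) _ _ _ _ _ _ 0 = emb4 a (t • a) c (t • c) _ _ _ _ _ _ (sig22 0)
      simp
    · show t • emb4 a (t • a) c (t • c) _ _ _ _ _ _ 1 = emb4 a (t • a) c (t • c) _ _ _ _ _ _ (sig22 1)
      simp [htt]
    · show t • emb4 a (t • a) c (t • c) _ _ _ _ _ _ 2 = emb4 a (t • a) c (t • c) _ _ _ _ _ _ (sig22 2)
      simp
    · show t • emb4 a (t • a) c (t • c) _ _ _ _ _ _ 3 = emb4 a (t • a) c (t • c) _ _ _ _ _ _ (sig22 3)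
      simp [htt]

/-- all nontrivial involutions are conjugate -/
theorem invol_all_conj (h4 : IsMultiplyPretransitive T Ξ 4)
    (hodd : ∀ (g : T) (x : Fin 4 ↪ Ξ), (∀ i, g • x i = x i) → g ^ 2 = 1 → g = 1)
    (hcard : 7 ≤ Fintype.card Ξ)
    {t t' : T} (ht : t ^ 2 = 1) (ht1 : t ≠ 1) (ht' : t' ^ 2 = 1) (ht'1 : t' ≠ 1) :
    ∃ g : T, g * t * g⁻¹ = t' := by
  obtain ⟨x, hx⟩ := exists_two_cycles hodd hcard ht ht1
  obtain ⟨x', hx'⟩ := exists_two_cycles hodd hcard ht' ht'1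
  obtain ⟨g, hg⟩ := h4.exists_smul_eq x x'
  have hg' : ∀ i, g • x i = x' i := by
    intro i
    have := DFunLike.congr_fun hg i
    simpa using this
  have hs : (g * t * g⁻¹) ^ 2 = 1 := by
    rw [conj_pow, ht]; simp
  obtain ⟨h, -, hh⟩ := invol_conj hodd hs ht' x' (by
    intro i
    rw [mul_smul, mul_smul, ← hg' i, inv_smul_smul, hx, hg', ← hx' i, hg'])
  refine ⟨h * g, ?_⟩
  rw [← hh]
  group

theorem card_fixF_eq (h4 : IsMultiplyPretransitive T Ξ 4)
    (hodd : ∀ (g : T) (x : Fin 4 ↪ Ξ), (∀ i, g • x i = x i) → g ^ 2 = 1 → g = 1)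
    (hcard : 7 ≤ Fintype.card Ξ)
    {t t' : T} (ht : t ^ 2 = 1) (ht1 : t ≠ 1) (ht' : t' ^ 2 = 1) (ht'1 : t' ≠ 1) :
    (fixF t : Finset Ξ).card = (fixF t' : Finset Ξ).card := by
  obtain ⟨g, hg⟩ := invol_all_conj h4 hodd hcard ht ht1 ht' ht'1
  rw [← hg, card_fixF_conj]

end fix

end Cfsg.Agent.Lib.Helper8.LW
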