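import Cfsg.Agent.Lib.Helper8.LwH4B

/-!
# Livingstone–Wagner, Hall-type lemma (H4), part C: a four-group `{1,t,u,tu}` with
`t = (12)(34)`, `u = (12)(3)(4)`
-/

set_option autoImplicit false

namespace Cfsg.Agent.Lib.Helper8.LW

open MulAction

/-- two commuting involutions `t = (p1 p2)(p3 p4)…`, `u = (p1 p2)(p3)(p4)…` -/
structure Quad (T Ξ : Type*) [Group T] [MulAction T Ξ] where
  t : T
  u : T
  p1 : Ξ
  p2 : Ξ
  p3 : Ξ
  p4 : Ξ
  ht : t ^ 2 = 1
  hu : u ^ 2 = 1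
  hcomm : t * u = u * t
  h12 : p1 ≠ p2
  h13 : p1 ≠ p3
  h14 : p1 ≠ p4
  h23 : p2 ≠ p3
  h24 : p2 ≠ p4
  h34 : p3 ≠ p4
  t1 : t • p1 = p2
  t2 : t • p2 = p1
  t3 : t • p3 = p4
  t4 : t • p4 = p3
  u1 : u • p1 = p2
  u2 : u • p2 = p1
  u3 : u • p3 = p3
  u4 : u • p4 = p4

section exist

variable {T Ξ : Type*} [Group T] [Finite T] [MulAction T Ξ]

theorem exists_quad (h4 : IsMultiplyPretransitive T Ξ 4)
    (hodd : ∀ (g : T) (x : Fin 4 ↪ Ξ), (∀ i, g • x i = x i) → g ^ 2 = 1 → g = 1)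
    (x : Fin 4 ↪ Ξ) : Nonempty (Quad T Ξ) := by
  obtain ⟨t, ht, htx⟩ := exists_invol h4 hodd x sig22 sig22_sq
  obtain ⟨u0, hu0, hu0x⟩ := exists_invol h4 hodd x sig2 sig2_sq
  have htinv : t⁻¹ = t := inv_eq_self_of_sq ht
  have hu0inv : u0⁻¹ = u0 := inv_eq_self_of_sq hu0
  set y := t * u0 * t⁻¹ with hy
  have hy2 : y ^ 2 = 1 := by rw [hy, conj_pow, hu0]; simp
  have hyinv : y⁻¹ = y := inv_eq_self_of_sq hy2
  set w := u0 * y with hw
  have htt : ∀ z : Ξ, t • t • z = z := smul_smul_of_sq ht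
  -- `y` acts on `x` like `u0`
  have hyx : ∀ i, y • x i = u0 • x i := by
    intro i
    rw [hy, htinv, mul_smul, mul_smul, htx, hu0x, htx, hu0x]
    congr 1
    fin_cases i <;> simp
  have hwfix : ∀ i, w • x i = x i := by
    intro i
    rw [hw, mul_smul, hyx, smul_smul_of_sq hu0]
  obtain ⟨k, hk⟩ := odd_orderOf_of_fix hodd x hwfix
  have hwk : w ^ (k + 1) * w ^ k = 1 := by
    rw [← pow_add, show k + 1 + k = orderOf w by omega, pow_orderOf_eq_one]
  have hwk' : w ^ (k + 1) = (w ^ k)⁻¹ := eq_inv_of_mul_eq_one_left hwk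
  -- `u0` and `t` invert `w`
  have hu0w : u0 * w * u0⁻¹ = w⁻¹ := by
    rw [hw, mul_inv_rev, hyinv, hu0inv, ← mul_assoc, mul_self_of_sq hu0, one_mul]
  have htw : t * w * t⁻¹ = w⁻¹ := by
    rw [hw, mul_inv_rev, hyinv, hu0inv, hy, htinv]
    have : t * t = 1 := mul_self_of_sq ht
    calc t * (u0 * (t * u0 * t)) * t = (t * u0 * t) * u0 * (t * t) := by group
      _ = t * u0 * t * u0 := by rw [this, mul_one]
  have hyw : y = u0 * w := by
    rw [hw, ← mul_assoc, mul_self_of_sq hu0, one_mul]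
  set u := u0 * w ^ (k + 1) with hu
  have hu2 : u ^ 2 = 1 := by
    rw [pow_two, hu]
    calc u0 * w ^ (k + 1) * (u0 * w ^ (k + 1))
        = (u0 * w * u0⁻¹) ^ (k + 1) * (u0 * u0) * w ^ (k + 1) := by
          rw [conj_pow]; group
      _ = 1 := by rw [hu0w, mul_self_of_sq hu0, mul_one, inv_pow, inv_mul_cancel]
  have htu : t * u * t⁻¹ = u := by
    rw [hu]
    calc t * (u0 * w ^ (k + 1)) * t⁻¹ = (t * u0 * t⁻¹) * (t * w * t⁻¹) ^ (k + 1) := by
          rw [conj_pow]; group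
      _ = u0 * w * (w⁻¹) ^ (k + 1) := by rw [← hy, hyw, htw]
      _ = u0 * (w ^ k)⁻¹ := by rw [inv_pow, pow_succ, mul_inv_rev]; group
      _ = u0 * w ^ (k + 1) := by rw [hwk']
  have hcomm : t * u = u * t := by
    have := htu
    rw [mul_inv_eq_iff_eq_mul] at this
    exact this
  have hux : ∀ i, u • x i = u0 • x i := by
    intro i
    rw [hu, mul_smul, pow_smul_fix (hwfix i)]
  have hinj := x.injective
  have hne : ∀ i j : Fin 4, i ≠ j → x i ≠ x j := fun i j hij h => hij (hinj h)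
  exact ⟨{
    t := t
    u := u
    p1 := x 0
    p2 := x 1
    p3 := x 2
    p4 := x 3
    ht := ht
    hu := hu2
    hcomm := hcomm
    h12 := hne _ _ (by decide)
    h13 := hne _ _ (by decide)
    h14 := hne _ _ (by decide)
    h23 := hne _ _ (by decide)
    h24 := hne _ _ (by decide)
    h34 := hne _ _ (by decide)
    t1 := by rw [htx]; simp
    t2 := by rw [htx]; simp
    t3 := by rw [htx]; simp
    t4 := by rw [htx]; simp
    u1 := by rw [hux, hu0x]; simp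
    u2 := by rw [hux, hu0x]; simp
    u3 := by rw [hux, hu0x]; simp
    u4 := by rw [hux, hu0x]; simp }⟩

end exist

end Cfsg.Agent.Lib.Helper8.LW
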