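import Cfsg.Agent.Lib.Helper8.LwH4C

/-!
# Livingstone–Wagner, Hall-type lemma (H4), part D: fixed points of the four-group
-/

set_option autoImplicit false

namespace Cfsg.Agent.Lib.Helper8.LW

open MulAction

section fixstruct

variable {T Ξ : Type*} [Group T] [MulAction T Ξ] [Fintype Ξ] [DecidableEq Ξ]

/-- commuting involutions `t`, `s`, where `s` fixes two points swapped by `t` and has at most three
fixed points: the other fixed points of `s` are fixed by `t`. -/
theorem fix_struct {t s : T} (hts : t * s = s * t) {a b : Ξ} (hab : a ≠ b)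
    (hta : t • a = b) (htb : t • b = a) (hsa : s • a = a) (hsb : s • b = b)
    (h3 : (fixF s : Finset Ξ).card ≤ 3) :
    (fixF s : Finset Ξ) = {a, b} ∪ (fixF t ∩ fixF s) ∧
      ((fixF t ∩ fixF s : Finset Ξ)).card + 2 = (fixF s : Finset Ξ).card := by
  set A : Finset Ξ := fixF s \ {a, b} with hA
  have hsub : ({a, b} : Finset Ξ) ⊆ fixF s := by
    intro x hx
    rw [Finset.mem_insert, Finset.mem_singleton] at hx
    rcases hx with rfl | rfl <;> rw [mem_fixF] <;> assumption
  have hcard2 : ({a, b} : Finset Ξ).card = 2 := Finset.card_pair hab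
  have hAcard : A.card + 2 = (fixF s : Finset Ξ).card := by
    rw [hA, Finset.card_sdiff_of_subset hsub, hcard2]
    have := Finset.card_le_card hsub
    omega
  have hA1 : A.card ≤ 1 := by omega
  have hAt : ∀ x ∈ A, t • x = x := by
    intro x hx
    have hx' := hx
    rw [hA, Finset.mem_sdiff, mem_fixF, Finset.mem_insert, Finset.mem_singleton] at hx'
    obtain ⟨hx1, hx2⟩ := hx'
    have htx : t • x ∈ A := by
      rw [hA, Finset.mem_sdiff, mem_fixF, Finset.mem_insert, Finset.mem_singleton]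
      constructor
      · rw [← mul_smul, ← hts, mul_smul, hx1]
      · rintro (h | h)
        · apply hx2; right
          rw [← htb] at h
          exact (MulAction.injective t h)
        · apply hx2; left
          rw [← hta] at h
          exact (MulAction.injective t h)
    exact Finset.card_le_one.mp hA1 _ htx _ hx
  have hAE : A = fixF t ∩ fixF s := by
    ext x
    constructor
    · intro hx
      rw [Finset.mem_inter, mem_fixF]
      refine ⟨hAt x hx, ?_⟩
      rw [hA, Finset.mem_sdiff] at hx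
      exact hx.1
    · intro hx
      rw [Finset.mem_inter, mem_fixF, mem_fixF] at hx
      rw [hA, Finset.mem_sdiff, mem_fixF, Finset.mem_insert, Finset.mem_singleton]
      refine ⟨hx.2, ?_⟩
      rintro (rfl | rfl)
      · rw [hta] at hx; exact hab hx.1.symm
      · rw [htb] at hx; exact hab hx.1
  constructor
  · rw [← hAE, hA, Finset.union_sdiff_of_subset hsub]
  · rw [← hAE]; exact hAcard

end fixstruct

namespace Quad

section alg

variable {T Ξ : Type*} [Group T] [MulAction T Ξ] (c : Quad T Ξ)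

/-- the third involution -/
def v : T := c.t * c.u

theorem tt : c.t * c.t = 1 := mul_self_of_sq c.ht
theorem uu : c.u * c.u = 1 := mul_self_of_sq c.hu

theorem hv : c.v ^ 2 = 1 := by
  rw [pow_two, v]
  calc c.t * c.u * (c.t * c.u) = c.t * (c.u * c.t) * c.u := by group
    _ = c.t * (c.t * c.u) * c.u := by rw [c.hcomm]
    _ = (c.t * c.t) * (c.u * c.u) := by group
    _ = 1 := by rw [c.tt, c.uu, one_mul]

theorem vv : c.v * c.v = 1 := mul_self_of_sq c.hv

theorem t_mul_v : c.t * c.v = c.u := by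
  rw [v, ← mul_assoc, c.tt, one_mul]

theorem v_mul_t : c.v * c.t = c.u := by
  rw [v, mul_assoc, ← c.hcomm, ← mul_assoc, c.tt, one_mul]

theorem u_mul_v : c.u * c.v = c.t := by
  rw [v, ← mul_assoc, ← c.hcomm, mul_assoc, c.uu, mul_one]

theorem v_mul_u : c.v * c.u = c.t := by
  rw [v, mul_assoc, c.uu, mul_one]

theorem tv_comm : c.t * c.v = c.v * c.t := by rw [c.t_mul_v, c.v_mul_t]

theorem t_smul_t (x : Ξ) : c.t • c.t • x = x := smul_smul_of_sq c.ht x
theorem u_smul_u (x : Ξ) : c.u • c.u • x = x := smul_smul_of_sq c.hu x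
theorem v_smul_v (x : Ξ) : c.v • c.v • x = x := smul_smul_of_sq c.hv x

theorem v_smul (x : Ξ) : c.v • x = c.t • c.u • x := by rw [v, mul_smul]
theorem v_smul' (x : Ξ) : c.v • x = c.u • c.t • x := by rw [v, c.hcomm, mul_smul]
theorem t_smul_u (x : Ξ) : c.t • c.u • x = c.u • c.t • x := by
  rw [← mul_smul, c.hcomm, mul_smul]
theorem t_smul_v (x : Ξ) : c.t • c.v • x = c.u • x := by rw [← mul_smul, c.t_mul_v]
theorem v_smul_t (x : Ξ) : c.v • c.t • x = c.u • x := by rw [← mul_smul, c.v_mul_t]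
theorem u_smul_v (x : Ξ) : c.u • c.v • x = c.t • x := by rw [← mul_smul, c.u_mul_v]
theorem v_smul_u (x : Ξ) : c.v • c.u • x = c.t • x := by rw [← mul_smul, c.v_mul_u]

theorem v1 : c.v • c.p1 = c.p1 := by rw [c.v_smul, c.u1, c.t2]
theorem v2 : c.v • c.p2 = c.p2 := by rw [c.v_smul, c.u2, c.t1]
theorem v3 : c.v • c.p3 = c.p4 := by rw [c.v_smul, c.u3, c.t3]
theorem v4 : c.v • c.p4 = c.p3 := by rw [c.v_smul, c.u4, c.t4]

theorem t_ne_one : c.t ≠ 1 := by
  intro h
  have := c.t1
  rw [h, one_smul] at this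
  exact c.h12 this

theorem u_ne_one : c.u ≠ 1 := by
  intro h
  have := c.u1
  rw [h, one_smul] at this
  exact c.h12 this

theorem v_ne_one : c.v ≠ 1 := by
  intro h
  have := c.v3
  rw [h, one_smul] at this
  exact c.h34 this

end alg

section fixed

variable {T Ξ : Type*} [Group T] [Finite T] [MulAction T Ξ] [Fintype Ξ] [DecidableEq Ξ]
  (c : Quad T Ξ)

/-- the common fixed points of the four-group -/
def E : Finset Ξ := fixF c.t ∩ fixF c.u

omit [Finite T] in
theorem E_eq' : (fixF c.t ∩ fixF c.v : Finset Ξ) = c.E := by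
  ext x
  rw [E, Finset.mem_inter, Finset.mem_inter, mem_fixF, mem_fixF, mem_fixF]
  constructor
  · rintro ⟨h1, h2⟩
    refine ⟨h1, ?_⟩
    rw [← c.t_smul_v, h2, h1]
  · rintro ⟨h1, h2⟩
    refine ⟨h1, ?_⟩
    rw [c.v_smul, h2, h1]

omit [Finite T] in
theorem mem_E {x : Ξ} : x ∈ c.E ↔ c.t • x = x ∧ c.u • x = x := by
  rw [E, Finset.mem_inter, mem_fixF, mem_fixF]

variable (h4 : IsMultiplyPretransitive T Ξ 4)
  (hodd : ∀ (g : T) (x : Fin 4 ↪ Ξ), (∀ i, g • x i = x i) → g ^ 2 = 1 → g = 1)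
  (hcard : 7 ≤ Fintype.card Ξ)

include h4 hodd hcard

theorem card_fix_u : (fixF c.u : Finset Ξ).card = (fixF c.t : Finset Ξ).card :=
  card_fixF_eq h4 hodd hcard c.hu c.u_ne_one c.ht c.t_ne_one

theorem card_fix_v : (fixF c.v : Finset Ξ).card = (fixF c.t : Finset Ξ).card :=
  card_fixF_eq h4 hodd hcard c.hv c.v_ne_one c.ht c.t_ne_one

omit h4 hcard in
theorem card_fix_t_le : (fixF c.t : Finset Ξ).card ≤ 3 :=
  card_fixF_le_three hodd c.ht c.t_ne_one

theorem fix_u_eq : (fixF c.u : Finset Ξ) = {c.p3, c.p4} ∪ c.E ∧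
    c.E.card + 2 = (fixF c.t : Finset Ξ).card := by
  have h3 : (fixF c.u : Finset Ξ).card ≤ 3 := by
    rw [c.card_fix_u h4 hodd hcard]; exact c.card_fix_t_le hodd
  have := fix_struct c.hcomm c.h34 c.t3 c.t4 c.u3 c.u4 h3
  rw [c.card_fix_u h4 hodd hcard] at this
  exact this

theorem fix_v_eq : (fixF c.v : Finset Ξ) = {c.p1, c.p2} ∪ c.E := by
  have h3 : (fixF c.v : Finset Ξ).card ≤ 3 := by
    rw [c.card_fix_v h4 hodd hcard]; exact c.card_fix_t_le hodd
  have := (fix_struct c.tv_comm c.h12 c.t1 c.t2 c.v1 c.v2 h3).1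
  rw [c.E_eq'] at this
  exact this

theorem card_E_le : c.E.card ≤ 1 := by
  have := (c.fix_u_eq h4 hodd hcard).2
  have := c.card_fix_t_le hodd
  omega

end fixed

end Quad

end Cfsg.Agent.Lib.Helper8.LW
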