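import Cfsg.Agent.Lib.Helper8.LwH4E

/-!
# Livingstone–Wagner, Hall-type lemma (H4), part F: the involution `e` attached to a free orbit
-/

set_option autoImplicit false

namespace Cfsg.Agent.Lib.Helper8.LW

open MulAction

/-- the pattern of `u` on `(w, tw, uw, vw)` -/
def sigU : Equiv.Perm (Fin 4) := Equiv.swap 0 2 * Equiv.swap 1 3
/-- the pattern of `v` on `(w, tw, uw, vw)` -/
def sigV : Equiv.Perm (Fin 4) := Equiv.swap 0 3 * Equiv.swap 1 2

theorem sig_rel1 : ∀ i : Fin 4, sig2 (sig22 (sig2 i)) = sig22 i := by decide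
theorem sig_rel2 : ∀ i : Fin 4, sig2 (sigU (sig2 i)) = sigV i := by decide
theorem sig2_invol : ∀ i : Fin 4, sig2 (sig2 i) = i := by decide

section conjpow

variable {T : Type*} [Group T]

/-- conjugation by an odd power of `g` swaps what `g` swaps -/
theorem conj_pow_swap {g a b : T} (hab : g * a * g⁻¹ = b) (hba : g * b * g⁻¹ = a) {m : ℕ}
    (hm : Odd m) : g ^ m * a * (g ^ m)⁻¹ = b := by
  have h1 : MulAut.conj g • a = b := by rw [MulAut.smul_def, MulAut.conj_apply, hab]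
  have h2 : MulAut.conj g • b = a := by rw [MulAut.smul_def, MulAut.conj_apply, hba]
  have := pow_smul_swap h1 h2 hm
  rwa [← map_pow, MulAut.smul_def, MulAut.conj_apply] at this

end conjpow

namespace Quad

section econstr

variable {T Ξ : Type*} [Group T] [Finite T] [MulAction T Ξ] [Fintype Ξ] [DecidableEq Ξ]
  (c : Quad T Ξ)

variable (h4 : IsMultiplyPretransitive T Ξ 4)
  (hodd : ∀ (g : T) (x : Fin 4 ↪ Ξ), (∀ i, g • x i = x i) → g ^ 2 = 1 → g = 1)
  (hcard : 7 ≤ Fintype.card Ξ)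

include h4 hodd hcard

/-- the orbit of a free point as an embedding `(w, tw, uw, vw)` -/
noncomputable def orbEmb {w : Ξ} (hw : w ∉ c.U) : Fin 4 ↪ Ξ :=
  emb4 w (c.t • w) (c.u • w) (c.v • w)
    (Ne.symm (c.t_ne_free hw)) (Ne.symm (c.u_ne_free h4 hodd hcard hw))
    (Ne.symm (c.v_ne_free h4 hodd hcard hw))
    (by
      intro h
      have h2 : c.t • c.t • w = c.t • c.u • w := by rw [h]
      rw [c.t_smul_t, ← c.v_smul] at h2
      exact c.v_ne_free h4 hodd hcard hw h2.symm)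
    (by
      intro h
      have h2 : c.t • c.t • w = c.t • c.v • w := by rw [h]
      rw [c.t_smul_t, c.t_smul_v] at h2
      exact c.u_ne_free h4 hodd hcard hw h2.symm)
    (by
      intro h
      have h2 : c.u • c.u • w = c.u • c.v • w := by rw [h]
      rw [c.u_smul_u, c.u_smul_v] at h2
      exact c.t_ne_free hw h2.symm)

theorem t_orbEmb {w : Ξ} (hw : w ∉ c.U) (i : Fin 4) :
    c.t • c.orbEmb h4 hodd hcard hw i = c.orbEmb h4 hodd hcard hw (sig22 i) := by
  fin_cases i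
  · show c.t • c.orbEmb h4 hodd hcard hw 0 = c.orbEmb h4 hodd hcard hw (sig22 0)
    simp [orbEmb]
  · show c.t • c.orbEmb h4 hodd hcard hw 1 = c.orbEmb h4 hodd hcard hw (sig22 1)
    simp [orbEmb, c.t_smul_t]
  · show c.t • c.orbEmb h4 hodd hcard hw 2 = c.orbEmb h4 hodd hcard hw (sig22 2)
    simp [orbEmb, c.v_smul]
  · show c.t • c.orbEmb h4 hodd hcard hw 3 = c.orbEmb h4 hodd hcard hw (sig22 3)
    simp [orbEmb, c.t_smul_v]

theorem u_orbEmb {w : Ξ} (hw : w ∉ c.U) (i : Fin 4) :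
    c.u • c.orbEmb h4 hodd hcard hw i = c.orbEmb h4 hodd hcard hw (sigU i) := by
  fin_cases i
  · show c.u • c.orbEmb h4 hodd hcard hw 0 = c.orbEmb h4 hodd hcard hw (sigU 0)
    have : sigU 0 = 2 := by decide
    rw [this]; simp [orbEmb]
  · show c.u • c.orbEmb h4 hodd hcard hw 1 = c.orbEmb h4 hodd hcard hw (sigU 1)
    have : sigU 1 = 3 := by decide
    rw [this]; simp [orbEmb, c.v_smul']
  · show c.u • c.orbEmb h4 hodd hcard hw 2 = c.orbEmb h4 hodd hcard hw (sigU 2)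
    have : sigU 2 = 0 := by decide
    rw [this]; simp [orbEmb, c.u_smul_u]
  · show c.u • c.orbEmb h4 hodd hcard hw 3 = c.orbEmb h4 hodd hcard hw (sigU 3)
    have : sigU 3 = 1 := by decide
    rw [this]; simp [orbEmb, c.u_smul_v]

theorem v_orbEmb {w : Ξ} (hw : w ∉ c.U) (i : Fin 4) :
    c.v • c.orbEmb h4 hodd hcard hw i = c.orbEmb h4 hodd hcard hw (sigV i) := by
  fin_cases i
  · show c.v • c.orbEmb h4 hodd hcard hw 0 = c.orbEmb h4 hodd hcard hw (sigV 0)
    have : sigV 0 = 3 := by decide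
    rw [this]; simp [orbEmb]
  · show c.v • c.orbEmb h4 hodd hcard hw 1 = c.orbEmb h4 hodd hcard hw (sigV 1)
    have : sigV 1 = 2 := by decide
    rw [this]; simp [orbEmb, c.v_smul_t]
  · show c.v • c.orbEmb h4 hodd hcard hw 2 = c.orbEmb h4 hodd hcard hw (sigV 2)
    have : sigV 2 = 1 := by decide
    rw [this]; simp [orbEmb, c.v_smul_u]
  · show c.v • c.orbEmb h4 hodd hcard hw 3 = c.orbEmb h4 hodd hcard hw (sigV 3)
    have : sigV 3 = 0 := by decide
    rw [this]; simp [orbEmb, c.v_smul_v]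

omit [Finite T] [Fintype Ξ] [DecidableEq Ξ] h4 hodd hcard in
/-- an element of `zpowers y` fixes what `y` fixes -/
theorem fix_of_mem_zpowers {y h : T} (hh : h ∈ Subgroup.zpowers y) {x : Ξ} (hy : y • x = x) :
    h • x = x := by
  obtain ⟨n, rfl⟩ := Subgroup.mem_zpowers_iff.mp hh
  exact zpow_smul_fix hy n

/-- the involution attached to a free point `w` -/
theorem exists_e {w : Ξ} (hw : w ∉ c.U) :
    ∃ e : T, e ^ 2 = 1 ∧ c.t * e = e * c.t ∧ e * c.u * e⁻¹ = c.v ∧ e • w = c.t • w := by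
  set x := c.orbEmb h4 hodd hcard hw with hx
  have htx := c.t_orbEmb h4 hodd hcard hw
  have hux := c.u_orbEmb h4 hodd hcard hw
  have hvx := c.v_orbEmb h4 hodd hcard hw
  rw [← hx] at htx hux hvx
  obtain ⟨e0, he0, he0x⟩ := exists_invol h4 hodd x sig2 sig2_sq
  have he0inv : e0⁻¹ = e0 := inv_eq_self_of_sq he0
  -- step 1: conjugate `e0 t e0⁻¹` back to `t`
  set t1 := e0 * c.t * e0⁻¹ with ht1
  have ht1sq : t1 ^ 2 = 1 := by rw [ht1, conj_pow, c.ht]; simp
  have ht1x : ∀ i, t1 • x i = c.t • x i := by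
    intro i
    rw [ht1, he0inv, mul_smul, mul_smul, he0x, htx, he0x, htx, sig_rel1]
  obtain ⟨h1, hh1, hh1c⟩ := invol_conj hodd ht1sq c.ht x ht1x
  have hh1x : ∀ i, h1 • x i = x i := by
    intro i
    apply fix_of_mem_zpowers hh1
    rw [mul_smul, ← ht1x i, smul_smul_of_sq ht1sq]
  set e1 := h1 * e0 with he1
  have he1t : e1 * c.t * e1⁻¹ = c.t := by
    calc e1 * c.t * e1⁻¹ = h1 * (e0 * c.t * e0⁻¹) * h1⁻¹ := by rw [he1]; group
      _ = c.t := by rw [← ht1, hh1c]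
  have he1x : ∀ i, e1 • x i = x (sig2 i) := by
    intro i
    rw [he1, mul_smul, he0x, hh1x]
  have he1invx : ∀ i, e1⁻¹ • x i = x (sig2 i) := by
    intro i
    rw [inv_smul_eq_iff, he1x, sig2_invol]
  -- step 2: conjugate `e1 u e1⁻¹` to `v` inside the centraliser of `t`
  set u2 := e1 * c.u * e1⁻¹ with hu2
  have hu2sq : u2 ^ 2 = 1 := by rw [hu2, conj_pow, c.hu]; simp
  have hu2x : ∀ i, u2 • x i = c.v • x i := by
    intro i
    rw [hu2, mul_smul, mul_smul, he1invx, hux, he1x, hvx, sig_rel2]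
  have hu2t : Commute c.t u2 := by
    have : c.t * u2 = e1 * (c.t * c.u) * e1⁻¹ := by
      rw [hu2]
      calc c.t * (e1 * c.u * e1⁻¹) = (e1 * c.t * e1⁻¹) * (e1 * c.u * e1⁻¹) := by rw [he1t]
        _ = e1 * (c.t * c.u) * e1⁻¹ := by group
    have h2 : u2 * c.t = e1 * (c.u * c.t) * e1⁻¹ := by
      rw [hu2]
      calc (e1 * c.u * e1⁻¹) * c.t = (e1 * c.u * e1⁻¹) * (e1 * c.t * e1⁻¹) := by rw [he1t]
        _ = e1 * (c.u * c.t) * e1⁻¹ := by group
    show c.t * u2 = u2 * c.t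
    rw [this, h2, c.hcomm]
  obtain ⟨h2, hh2, hh2c⟩ := invol_conj hodd hu2sq c.hv x hu2x
  have hh2x : ∀ i, h2 • x i = x i := by
    intro i
    apply fix_of_mem_zpowers hh2
    rw [mul_smul, ← hu2x i, smul_smul_of_sq hu2sq]
  have hh2t : Commute c.t h2 := by
    obtain ⟨n, rfl⟩ := Subgroup.mem_zpowers_iff.mp hh2
    apply Commute.zpow_right
    exact hu2t.mul_right c.tv_comm
  set e2 := h2 * e1 with he2
  have he2t : e2 * c.t * e2⁻¹ = c.t := by
    rw [he2]
    calc h2 * e1 * c.t * (h2 * e1)⁻¹ = h2 * (e1 * c.t * e1⁻¹) * h2⁻¹ := by group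
      _ = h2 * c.t * h2⁻¹ := by rw [he1t]
      _ = c.t := by rw [← hh2t.eq, mul_assoc, mul_inv_cancel, mul_one]
  have he2u : e2 * c.u * e2⁻¹ = c.v := by
    calc e2 * c.u * e2⁻¹ = h2 * (e1 * c.u * e1⁻¹) * h2⁻¹ := by rw [he2]; group
      _ = c.v := by rw [← hu2, hh2c]
  have he2v : e2 * c.v * e2⁻¹ = c.u := by
    calc e2 * c.v * e2⁻¹ = (e2 * c.t * e2⁻¹) * (e2 * c.u * e2⁻¹) := by rw [Quad.v]; group
      _ = c.u := by rw [he2t, he2u, c.t_mul_v]
  have he2x : ∀ i, e2 • x i = x (sig2 i) := by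
    intro i
    rw [he2, mul_smul, he1x, hh2x]
  -- step 3: odd power
  have hsx : ∀ i, (e2 ^ 2) • x i = x i := by
    intro i
    rw [pow_two, mul_smul, he2x, he2x, sig2_invol]
  have hm := odd_orderOf_of_fix hodd x hsx
  refine ⟨e2 ^ orderOf (e2 ^ 2), ?_, ?_, ?_, ?_⟩
  · rw [← pow_mul, mul_comm, pow_mul, pow_orderOf_eq_one]
  · have : Commute c.t e2 := by
      show c.t * e2 = e2 * c.t
      exact (mul_inv_eq_iff_eq_mul.mp he2t).symm
    exact (this.pow_right _).eq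
  · exact conj_pow_swap he2u he2v hm
  · have h0 : e2 • x 0 = x 1 := by rw [he2x]; simp
    have h1 : e2 • x 1 = x 0 := by rw [he2x]; simp
    have := pow_smul_swap h0 h1 hm
    have hx0 : x 0 = w := by rw [hx]; simp [orbEmb]
    have hx1 : x 1 = c.t • w := by rw [hx]; simp [orbEmb]
    rwa [hx0, hx1] at this

end econstr

end Quad

end Cfsg.Agent.Lib.Helper8.LW
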