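import Cfsg.Agent.Lib.Helper8.LwH4F

/-!
# Livingstone–Wagner, Hall-type lemma (H4), part G: properties of the involution `e`
-/

set_option autoImplicit false

namespace Cfsg.Agent.Lib.Helper8.LW

open MulAction

namespace Quad

section eprops

variable {T Ξ : Type*} [Group T] [Finite T] [MulAction T Ξ] [Fintype Ξ] [DecidableEq Ξ]
  (c : Quad T Ξ)

/-- membership in the orbit of `w` under the four-group -/
def InOrb (w x : Ξ) : Prop := x = w ∨ x = c.t • w ∨ x = c.u • w ∨ x = c.v • w

omit [Finite T] [Fintype Ξ] [DecidableEq Ξ] in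
theorem inOrb_symm {w x : Ξ} (h : c.InOrb w x) : c.InOrb x w := by
  rcases h with rfl | rfl | rfl | rfl
  · left; rfl
  · right; left; rw [c.t_smul_t]
  · right; right; left; rw [c.u_smul_u]
  · right; right; right; rw [c.v_smul_v]

/-- the defining properties of the involution attached to the free point `w` -/
structure IsE (e : T) (w : Ξ) : Prop where
  sq : e ^ 2 = 1
  comm : c.t * e = e * c.t
  conj : e * c.u * e⁻¹ = c.v
  smul : e • w = c.t • w

variable {c}

omit [Finite T] [Fintype Ξ] [DecidableEq Ξ] in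
theorem IsE.smul_smul {e : T} {w : Ξ} (h : c.IsE e w) (x : Ξ) : e • e • x = x :=
  smul_smul_of_sq h.sq x

omit [Finite T] [Fintype Ξ] [DecidableEq Ξ] in
theorem IsE.smul_t {e : T} {w : Ξ} (h : c.IsE e w) (x : Ξ) : e • c.t • x = c.t • e • x := by
  rw [← mul_smul, ← h.comm, mul_smul]

omit [Finite T] [Fintype Ξ] [DecidableEq Ξ] in
theorem IsE.eu {e : T} {w : Ξ} (h : c.IsE e w) : e * c.u = c.v * e := by
  rw [← h.conj]; group

omit [Finite T] [Fintype Ξ] [DecidableEq Ξ] in
theorem IsE.ev {e : T} {w : Ξ} (h : c.IsE e w) : e * c.v = c.u * e := by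
  have h1 : e * c.v = (e * c.t) * c.u := by rw [Quad.v, mul_assoc]
  rw [h1, ← h.comm, mul_assoc, h.eu, ← mul_assoc, c.t_mul_v]

omit [Finite T] [Fintype Ξ] [DecidableEq Ξ] in
theorem IsE.smul_u {e : T} {w : Ξ} (h : c.IsE e w) (x : Ξ) : e • c.u • x = c.v • e • x := by
  rw [← mul_smul, h.eu, mul_smul]

omit [Finite T] [Fintype Ξ] [DecidableEq Ξ] in
theorem IsE.smul_v {e : T} {w : Ξ} (h : c.IsE e w) (x : Ξ) : e • c.v • x = c.u • e • x := by
  rw [← mul_smul, h.ev, mul_smul]

omit [Finite T] [Fintype Ξ] [DecidableEq Ξ] in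
theorem IsE.smul_tw {e : T} {w : Ξ} (h : c.IsE e w) : e • c.t • w = w := by
  rw [← h.smul, h.smul_smul]

omit [Finite T] [Fintype Ξ] [DecidableEq Ξ] in
theorem IsE.smul_uw {e : T} {w : Ξ} (h : c.IsE e w) : e • c.u • w = c.u • w := by
  rw [h.smul_u, h.smul, c.v_smul_t]

omit [Finite T] [Fintype Ξ] [DecidableEq Ξ] in
theorem IsE.smul_vw {e : T} {w : Ξ} (h : c.IsE e w) : e • c.v • w = c.v • w := by
  rw [h.smul_v, h.smul, ← c.v_smul']

omit [Finite T] in
theorem IsE.ne_one {e : T} {w : Ξ} (h : c.IsE e w) (hw : w ∉ c.U) : e ≠ 1 := by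
  intro h1
  have := h.smul
  rw [h1, one_smul] at this
  exact c.t_ne_free hw this.symm

variable (h4 : IsMultiplyPretransitive T Ξ 4)
  (hodd : ∀ (g : T) (x : Fin 4 ↪ Ξ), (∀ i, g • x i = x i) → g ^ 2 = 1 → g = 1)
  (hcard : 7 ≤ Fintype.card Ξ)

include h4 hodd hcard

theorem IsE.fix_E {e : T} {w : Ξ} (h : c.IsE e w) {x : Ξ} (hx : x ∈ c.E) : e • x = x := by
  have hx' := c.mem_E.mp hx
  have : e • x ∈ c.E := by
    rw [c.mem_E]
    constructor
    · rw [← h.smul_t, hx'.1]
    · have hv : c.v • x = x := by rw [c.v_smul, hx'.2, hx'.1]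
      have := h.smul_v x
      rw [hv] at this
      exact this.symm
  exact Finset.card_le_one.mp (c.card_E_le h4 hodd hcard) _ this _ hx

theorem IsE.fix_eq {e : T} {w : Ξ} (h : c.IsE e w) (hw : w ∉ c.U) :
    (fixF e : Finset Ξ) = {c.u • w, c.v • w} ∪ c.E := by
  symm
  apply Finset.eq_of_subset_of_card_le
  · intro x hx
    rw [Finset.mem_union, Finset.mem_insert, Finset.mem_singleton] at hx
    rw [mem_fixF]
    rcases hx with (rfl | rfl) | hx
    · exact h.smul_uw
    · exact h.smul_vw
    · exact h.fix_E h4 hodd hcard hx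
  · have hne : c.u • w ≠ c.v • w := by
      intro h2
      have h3 : c.u • c.u • w = c.u • c.v • w := by rw [h2]
      rw [c.u_smul_u, c.u_smul_v] at h3
      exact c.t_ne_free hw h3.symm
    have hdisj : Disjoint ({c.u • w, c.v • w} : Finset Ξ) c.E := by
      rw [Finset.disjoint_left]
      intro x hx hxE
      rw [Finset.mem_insert, Finset.mem_singleton] at hx
      rcases hx with rfl | rfl
      · exact c.u_free hw (c.E_sub_U hxE)
      · exact c.v_free hw (c.E_sub_U hxE)
    rw [Finset.card_union_of_disjoint hdisj, Finset.card_pair hne,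
      card_fixF_eq h4 hodd hcard h.sq (h.ne_one hw) c.ht c.t_ne_one]
    have := (c.fix_u_eq h4 hodd hcard).2
    omega

/-- `e` stabilises no other free orbit -/
theorem IsE.not_inOrb {e : T} {w : Ξ} (h : c.IsE e w) (hw : w ∉ c.U) {w' : Ξ} (hw' : w' ∉ c.U)
    (hne : ¬ c.InOrb w w') : ¬ c.InOrb w' (e • w') := by
  have hfix := h.fix_eq h4 hodd hcard hw
  have key : ∀ y : Ξ, y ∉ c.U → e • y = y → c.InOrb w y := by
    intro y hy hey
    have : y ∈ (fixF e : Finset Ξ) := mem_fixF.mpr hey
    rw [hfix, Finset.mem_union, Finset.mem_insert, Finset.mem_singleton] at this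
    rcases this with (rfl | rfl) | h3
    · right; right; left; rfl
    · right; right; right; rfl
    · exact absurd (c.E_sub_U h3) hy
  rintro (h1 | h1 | h1 | h1)
  · exact hne (key w' hw' h1)
  · -- `e w' = t w'`: then `e` fixes `u w'`
    have h2 : e • c.u • w' = c.u • w' := by
      rw [h.smul_u, h1, c.v_smul_t]
    have h3 := key _ (c.u_free hw') h2
    apply hne
    rcases h3 with h3 | h3 | h3 | h3
    · right; right; left
      rw [← h3, c.u_smul_u]
    · right; right; right
      have : c.u • c.u • w' = c.u • c.t • w := by rw [h3]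
      rw [c.u_smul_u] at this
      rw [this, c.v_smul']
    · left
      exact MulAction.injective c.u h3
    · right; left
      have : c.u • c.u • w' = c.u • c.v • w := by rw [h3]
      rw [c.u_smul_u, c.u_smul_v] at this
      exact this
  · -- `e w' = u w'`: apply `e`
    have h2 : e • e • w' = e • c.u • w' := by rw [h1]
    rw [h.smul_smul, h.smul_u, h1, c.v_smul_u] at h2
    exact c.t_ne_free hw' h2.symm
  · have h2 : e • e • w' = e • c.v • w' := by rw [h1]
    rw [h.smul_smul, h.smul_v, h1, c.u_smul_v] at h2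
    exact c.t_ne_free hw' h2.symm

end eprops

end Quad

end Cfsg.Agent.Lib.Helper8.LW
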