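import Cfsg.Agent.Lib.Helper8.LwH4B

/-!
# Sharply multiply transitive groups: the centraliser count

For a sharply `(m+2)`-transitive group `T` on `Ξ`, an involution `v` and a `v`-invariant
`m`-tuple `y`, the group `C(v) ∩ Stab(y)` acts regularly on the moved points outside `y` and on
the ordered pairs of distinct fixed points outside `y`.
-/

set_option autoImplicit false

namespace Cfsg.Agent.Lib.Helper8.LW

open MulAction

section cons2

variable {Ξ : Type*}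

theorem forall_fin_add_two {m : ℕ} {P : Fin (m + 2) → Prop} :
    (∀ i, P i) ↔ P 0 ∧ P (Fin.succ 0) ∧ ∀ i : Fin m, P i.succ.succ := by
  constructor
  · intro h; exact ⟨h _, h _, fun i => h _⟩
  · rintro ⟨h0, h1, h2⟩ i
    refine Fin.cases h0 (fun i => ?_) i
    refine Fin.cases h1 (fun i => ?_) i
    exact h2 i

/-- extend an embedding by two new points, put in front -/
def cons2 {m : ℕ} (y : Fin m ↪ Ξ) (e1 e2 : Ξ) (h12 : e1 ≠ e2) (h1 : ∀ i, y i ≠ e1)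
    (h2 : ∀ i, y i ≠ e2) : Fin (m + 2) ↪ Ξ :=
  ⟨Fin.cons e1 (Fin.cons e2 y), by
    rw [Fin.cons_injective_iff, Fin.cons_injective_iff]
    refine ⟨?_, ?_, y.injective⟩
    · rintro ⟨i, hi⟩
      revert hi
      refine Fin.cases ?_ (fun i => ?_) i
      · intro hi; exact h12 (by simpa using hi.symm)
      · intro hi; exact h1 i (by simpa using hi)
    · rintro ⟨i, hi⟩
      exact h2 i hi⟩

@[simp] theorem cons2_zero {m : ℕ} (y : Fin m ↪ Ξ) (e1 e2 : Ξ) (h12 : e1 ≠ e2)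
    (h1 : ∀ i, y i ≠ e1) (h2 : ∀ i, y i ≠ e2) : cons2 y e1 e2 h12 h1 h2 0 = e1 := rfl

@[simp] theorem cons2_one {m : ℕ} (y : Fin m ↪ Ξ) (e1 e2 : Ξ) (h12 : e1 ≠ e2)
    (h1 : ∀ i, y i ≠ e1) (h2 : ∀ i, y i ≠ e2) :
    cons2 y e1 e2 h12 h1 h2 (Fin.succ 0) = e2 := by
  simp [cons2]

@[simp] theorem cons2_one' {m : ℕ} (y : Fin m ↪ Ξ) (e1 e2 : Ξ) (h12 : e1 ≠ e2)
    (h1 : ∀ i, y i ≠ e1) (h2 : ∀ i, y i ≠ e2) :
    cons2 y e1 e2 h12 h1 h2 1 = e2 := by
  rw [← Fin.succ_zero_eq_one]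
  exact cons2_one y e1 e2 h12 h1 h2

@[simp] theorem cons2_succ {m : ℕ} (y : Fin m ↪ Ξ) (e1 e2 : Ξ) (h12 : e1 ≠ e2)
    (h1 : ∀ i, y i ≠ e1) (h2 : ∀ i, y i ≠ e2) (i : Fin m) :
    cons2 y e1 e2 h12 h1 h2 i.succ.succ = y i := by
  simp [cons2]

end cons2

section tors

variable {T Ξ : Type*} [Group T] [MulAction T Ξ]

theorem comm_smul {g v : T} (h : g * v = v * g) (z : Ξ) : g • v • z = v • g • z := by
  rw [← mul_smul, h, mul_smul]

theorem smul_smul_of_mul_self {v : T} (hv : v * v = 1) (z : Ξ) : v • v • z = z := by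
  rw [← mul_smul, hv, one_smul]

/-- existence part of the regular action of a centraliser -/
theorem tors_exists {K : ℕ} (hK : IsMultiplyPretransitive T Ξ K)
    (hsharp : ∀ (g : T) (x : Fin K ↪ Ξ), (∀ i, g • x i = x i) → g = 1)
    (v : T) (x0 x1 : Fin K ↪ Ξ) (h : ∀ i, ∃ j, v • x0 i = x0 j ∧ v • x1 i = x1 j) :
    ∃ g : T, (∀ i, g • x0 i = x1 i) ∧ g * v = v * g := by
  obtain ⟨g, hg⟩ := hK.exists_smul_eq x0 x1
  have hg' : ∀ i, g • x0 i = x1 i := by
    intro i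
    have := DFunLike.congr_fun hg i
    simpa using this
  refine ⟨g, hg', ?_⟩
  have h1 : g⁻¹ * v⁻¹ * g * v = 1 := by
    apply hsharp _ x0
    intro i
    obtain ⟨j, h0, h1⟩ := h i
    rw [mul_smul, mul_smul, mul_smul, h0, hg' j, ← h1, inv_smul_smul, ← hg' i, inv_smul_smul]
  calc g * v = v * g * (g⁻¹ * v⁻¹ * g * v) := by group
    _ = v * g := by rw [h1, mul_one]

/-- uniqueness part -/
theorem tors_unique {K : ℕ}
    (hsharp : ∀ (g : T) (x : Fin K ↪ Ξ), (∀ i, g • x i = x i) → g = 1)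
    (x0 : Fin K ↪ Ξ) {g g' : T} (h : ∀ i, g • x0 i = g' • x0 i) : g = g' := by
  have h1 : g'⁻¹ * g = 1 := by
    apply hsharp _ x0
    intro i
    rw [mul_smul, h i, inv_smul_smul]
  calc g = g' * (g'⁻¹ * g) := by group
    _ = g' := by rw [h1, mul_one]

end tors

end Cfsg.Agent.Lib.Helper8.LW
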