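import Cfsg.Agent.Lib.Helper8.LwSharpA

set_option autoImplicit false

namespace Cfsg.Agent.Lib.Helper8.LW

open MulAction

section count

variable {T Ξ : Type*} [Group T] [MulAction T Ξ]

/-- first regular action: moved points outside `y` -/
theorem card_cs_moved {m : ℕ} (hK : IsMultiplyPretransitive T Ξ (m + 2))
    (hsharp : ∀ (g : T) (x : Fin (m + 2) ↪ Ξ), (∀ i, g • x i = x i) → g = 1)
    (v : T) (hv : v * v = 1) (y : Fin m ↪ Ξ) (hy : ∀ i, ∃ j, v • y i = y j)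
    (d0 : Ξ) (hd0 : v • d0 ≠ d0) (hd0y : ∀ i, y i ≠ d0) :
    Nat.card {g : T // g * v = v * g ∧ ∀ i, g • y i = y i} =
      Nat.card {d : Ξ // v • d ≠ d ∧ ∀ i, y i ≠ d} := by
  have hvv : ∀ z : Ξ, v • v • z = z := smul_smul_of_mul_self hv
  -- the point `v • d` is outside `y` when `d` is
  have hout : ∀ d : Ξ, (∀ i, y i ≠ d) → ∀ i, y i ≠ v • d := by
    intro d hd i hi
    obtain ⟨j, hj⟩ := hy i
    apply hd j
    rw [← hj, hi, hvv]
  -- the embedding attached to a moved point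
  let emb : ∀ d : Ξ, v • d ≠ d → (∀ i, y i ≠ d) → (Fin (m + 2) ↪ Ξ) := fun d hd hdy =>
    cons2 y d (v • d) (Ne.symm hd) hdy (hout d hdy)
  have hinv : ∀ (g : T) (i : Fin m), g • y i = y i → g⁻¹ • y i = y i := by
    intro g i h
    rw [inv_smul_eq_iff, h]
  refine Nat.card_congr (Equiv.ofBijective
    (fun g => ⟨g.1 • d0, ?_, ?_⟩) ⟨?_, ?_⟩)
  · intro h
    apply hd0
    have := comm_smul g.2.1 d0
    rw [← this] at h
    exact MulAction.injective g.1 h
  · intro i hi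
    apply hd0y i
    have h1 := g.2.2 i
    exact MulAction.injective g.1 (h1.trans hi)
  · intro g g' hgg
    have hgg' : g.1 • d0 = g'.1 • d0 := congrArg Subtype.val hgg
    apply Subtype.ext
    apply tors_unique hsharp (emb d0 hd0 hd0y)
    rw [forall_fin_add_two]
    refine ⟨?_, ?_, ?_⟩
    · simpa [emb] using hgg'
    · simp only [emb, cons2_one]
      rw [comm_smul g.2.1, comm_smul g'.2.1, hgg']
    · intro i
      simp only [emb, cons2_succ]
      rw [g.2.2 i, g'.2.2 i]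
  · rintro ⟨d, hd, hdy⟩
    obtain ⟨g, hg, hgv⟩ := tors_exists hK hsharp v (emb d0 hd0 hd0y) (emb d hd hdy) (by
      rw [forall_fin_add_two]
      refine ⟨⟨Fin.succ 0, ?_, ?_⟩, ⟨0, ?_, ?_⟩, ?_⟩
      · simp [emb]
      · simp [emb]
      · simp [emb, hvv]
      · simp [emb, hvv]
      · intro i
        obtain ⟨j, hj⟩ := hy i
        exact ⟨j.succ.succ, by simp [emb, hj], by simp [emb, hj]⟩)
    rw [forall_fin_add_two] at hg
    obtain ⟨hg0, -, hg2⟩ := hg
    refine ⟨⟨g, hgv, ?_⟩, ?_⟩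
    · intro i
      simpa [emb] using hg2 i
    · apply Subtype.ext
      simpa [emb] using hg0

/-- second regular action: ordered pairs of distinct fixed points outside `y` -/
theorem card_cs_fixed {m : ℕ} (hK : IsMultiplyPretransitive T Ξ (m + 2))
    (hsharp : ∀ (g : T) (x : Fin (m + 2) ↪ Ξ), (∀ i, g • x i = x i) → g = 1)
    (v : T) (y : Fin m ↪ Ξ) (hy : ∀ i, ∃ j, v • y i = y j)
    (p0 q0 : Ξ) (hp0 : v • p0 = p0) (hq0 : v • q0 = q0) (hpq : p0 ≠ q0)
    (hp0y : ∀ i, y i ≠ p0) (hq0y : ∀ i, y i ≠ q0) :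
    Nat.card {g : T // g * v = v * g ∧ ∀ i, g • y i = y i} =
      Nat.card {pq : Ξ × Ξ // (v • pq.1 = pq.1 ∧ ∀ i, y i ≠ pq.1) ∧
        (v • pq.2 = pq.2 ∧ ∀ i, y i ≠ pq.2) ∧ pq.1 ≠ pq.2} := by
  have hfix : ∀ (g : T), g * v = v * g → ∀ p : Ξ, v • p = p → v • g • p = g • p := by
    intro g hg p hp
    rw [← comm_smul hg, hp]
  have hout : ∀ (g : T), (∀ i, g • y i = y i) → ∀ p : Ξ, (∀ i, y i ≠ p) → ∀ i, y i ≠ g • p := by
    intro g hg p hp i hi
    exact hp i (MulAction.injective g ((hg i).trans hi))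
  refine Nat.card_congr (Equiv.ofBijective
    (fun g => ⟨(g.1 • p0, g.1 • q0), ⟨hfix g.1 g.2.1 p0 hp0, hout g.1 g.2.2 p0 hp0y⟩,
      ⟨hfix g.1 g.2.1 q0 hq0, hout g.1 g.2.2 q0 hq0y⟩,
      fun h => hpq (MulAction.injective g.1 h)⟩) ⟨?_, ?_⟩)
  · intro g g' hgg
    have h1 : (g.1 • p0, g.1 • q0) = (g'.1 • p0, g'.1 • q0) := congrArg Subtype.val hgg
    rw [Prod.mk.injEq] at h1
    apply Subtype.ext
    apply tors_unique hsharp (cons2 y p0 q0 hpq hp0y hq0y)
    rw [forall_fin_add_two]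
    refine ⟨?_, ?_, ?_⟩
    · simpa using h1.1
    · simpa using h1.2
    · intro i
      simp only [cons2_succ]
      rw [g.2.2 i, g'.2.2 i]
  · rintro ⟨⟨p, q⟩, ⟨hp, hpy⟩, ⟨hq, hqy⟩, hne⟩
    obtain ⟨g, hg, hgv⟩ := tors_exists hK hsharp v (cons2 y p0 q0 hpq hp0y hq0y)
      (cons2 y p q hne hpy hqy) (by
      rw [forall_fin_add_two]
      refine ⟨⟨0, ?_, ?_⟩, ⟨Fin.succ 0, ?_, ?_⟩, ?_⟩
      · simpa using hp0
      · simpa using hp
      · simpa using hq0
      · simpa using hq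
      · intro i
        obtain ⟨j, hj⟩ := hy i
        exact ⟨j.succ.succ, by simp [hj], by simp [hj]⟩)
    rw [forall_fin_add_two] at hg
    obtain ⟨hg0, hg1, hg2⟩ := hg
    refine ⟨⟨g, hgv, ?_⟩, ?_⟩
    · intro i
      simpa using hg2 i
    · apply Subtype.ext
      simp only [cons2_zero, cons2_one] at hg0 hg1
      simp only [hg0, hg1]

end count

section final

variable {T Ξ : Type*} [Group T] [MulAction T Ξ] [Fintype Ξ] [DecidableEq Ξ]

/-- **The centraliser count.**  In a sharply `(m+2)`-transitive group, for an involution `v` and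
a `v`-invariant `m`-tuple `y`, the number of moved points outside `y` equals the number of ordered
pairs of distinct fixed points outside `y` (when both kinds exist). -/
theorem sharp_count {m : ℕ} (hK : IsMultiplyPretransitive T Ξ (m + 2))
    (hsharp : ∀ (g : T) (x : Fin (m + 2) ↪ Ξ), (∀ i, g • x i = x i) → g = 1)
    (v : T) (hv : v * v = 1) (y : Fin m ↪ Ξ) (hy : ∀ i, ∃ j, v • y i = y j)
    (d0 : Ξ) (hd0 : v • d0 ≠ d0) (hd0y : ∀ i, y i ≠ d0)
    (p0 q0 : Ξ) (hp0 : v • p0 = p0) (hq0 : v • q0 = q0) (hpq : p0 ≠ q0)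
    (hp0y : ∀ i, y i ≠ p0) (hq0y : ∀ i, y i ≠ q0) :
    (Finset.univ.filter (fun d : Ξ => v • d ≠ d ∧ ∀ i, y i ≠ d)).card =
      ((Finset.univ.filter (fun p : Ξ => v • p = p ∧ ∀ i, y i ≠ p)).offDiag).card := by
  have h1 := card_cs_moved hK hsharp v hv y hy d0 hd0 hd0y
  have h2 := card_cs_fixed hK hsharp v y hy p0 q0 hp0 hq0 hpq hp0y hq0y
  rw [h1] at h2
  rw [Nat.card_eq_fintype_card, Nat.card_eq_fintype_card, Fintype.card_subtype,
    Fintype.card_subtype] at h2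
  rw [h2]
  congr 1
  ext ⟨p, q⟩
  simp only [Finset.mem_filter, Finset.mem_univ, true_and, Finset.mem_offDiag]

end final

end Cfsg.Agent.Lib.Helper8.LW
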