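import Cfsg.Agent.Lib.Helper8.LwSharpB

/-!
# Sharply 4- and 6-transitive groups: degrees
-/

set_option autoImplicit false

namespace Cfsg.Agent.Lib.Helper8.LW

open MulAction

section helpers

variable {T Ξ : Type*} [Group T] [MulAction T Ξ]

/-- realise an involutory pattern by an involution, in a sharply `K`-transitive group -/
theorem exists_pattern_invol {K : ℕ} (hK : IsMultiplyPretransitive T Ξ K)
    (hsharp : ∀ (g : T) (x : Fin K ↪ Ξ), (∀ i, g • x i = x i) → g = 1)
    (x : Fin K ↪ Ξ) (σ : Equiv.Perm (Fin K)) (hσ : σ * σ = 1) :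
    ∃ w : T, w * w = 1 ∧ ∀ i, w • x i = x (σ i) := by
  obtain ⟨g, hg⟩ := hK.exists_smul_eq x (σ.toEmbedding.trans x)
  have hg' : ∀ i, g • x i = x (σ i) := by
    intro i
    have := DFunLike.congr_fun hg i
    simpa using this
  have hσσ : ∀ i, σ (σ i) = i := by
    intro i
    have := DFunLike.congr_fun hσ i
    simpa using this
  refine ⟨g, ?_, hg'⟩
  apply hsharp _ x
  intro i
  rw [mul_smul, hg', hg', hσσ]

variable [Fintype Ξ] [DecidableEq Ξ]

theorem card_fixF_lt {K : ℕ}
    (hsharp : ∀ (g : T) (x : Fin K ↪ Ξ), (∀ i, g • x i = x i) → g = 1)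
    {w : T} (hw1 : w ≠ 1) : (fixF w : Finset Ξ).card < K := by
  by_contra hcon
  push Not at hcon
  obtain ⟨f, hf⟩ := Function.Embedding.exists_of_card_le_finset (α := Fin K)
    (s := (fixF w : Finset Ξ)) (by simpa using hcon)
  apply hw1
  apply hsharp w f
  intro i
  have : f i ∈ (fixF w : Finset Ξ) := by
    apply hf
    exact Set.mem_range_self i
  exact mem_fixF.mp this

theorem exists_moved_outside (v : T) (S : Finset Ξ)
    (h : S.card + (fixF v : Finset Ξ).card < Fintype.card Ξ) : ∃ d : Ξ, v • d ≠ d ∧ d ∉ S := by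
  by_contra hcon
  push Not at hcon
  have h1 : (Finset.univ : Finset Ξ) ⊆ S ∪ fixF v := by
    intro d _
    rw [Finset.mem_union, mem_fixF]
    by_cases hd : v • d = d
    · exact Or.inr hd
    · exact Or.inl (hcon d hd)
  have h2 := Finset.card_le_card h1
  have h3 := Finset.card_union_le S (fixF v : Finset Ξ)
  rw [Finset.card_univ] at h2
  omega

/-- counting the points with a property outside a tuple -/
theorem card_filter_outside {m : ℕ} (Q : Ξ → Prop) [DecidablePred Q] (y : Fin m ↪ Ξ) :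
    (Finset.univ.filter (fun d : Ξ => Q d ∧ ∀ i, y i ≠ d)).card +
      (Finset.univ.filter (fun i : Fin m => Q (y i))).card = (Finset.univ.filter Q).card := by
  rw [← Finset.card_map y (s := Finset.univ.filter (fun i : Fin m => Q (y i))),
    ← Finset.card_union_of_disjoint]
  · congr 1
    ext d
    simp only [Finset.mem_union, Finset.mem_filter, Finset.mem_univ, true_and, Finset.mem_map]
    constructor
    · rintro (h | ⟨i, hi, rfl⟩)
      · exact h.1
      · exact hi
    · intro h
      by_cases hd : ∃ i, y i = d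
      · obtain ⟨i, rfl⟩ := hd
        exact Or.inr ⟨i, h, rfl⟩
      · push Not at hd
        exact Or.inl ⟨h, hd⟩
  · rw [Finset.disjoint_left]
    intro d hd hd'
    simp only [Finset.mem_filter, Finset.mem_univ, true_and, Finset.mem_map] at hd hd'
    obtain ⟨i, _, rfl⟩ := hd'
    exact hd.2 i rfl

theorem card_moved (v : T) :
    (Finset.univ.filter (fun d : Ξ => v • d ≠ d)).card =
      Fintype.card Ξ - (fixF v : Finset Ξ).card := by
  have : (Finset.univ.filter (fun d : Ξ => v • d ≠ d)) = (fixF v : Finset Ξ)ᶜ := by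
    ext d
    simp [mem_fixF]
  rw [this, Finset.card_compl]

end helpers

section four

variable {T Ξ : Type*} [Group T] [MulAction T Ξ] [Fintype Ξ] [DecidableEq Ξ]

/-- **Sharply 4-transitive groups of degree at least 7 have degree 11.** -/
theorem sharp4_card (h4 : IsMultiplyPretransitive T Ξ 4)
    (hsharp : ∀ (g : T) (x : Fin 4 ↪ Ξ), (∀ i, g • x i = x i) → g = 1)
    (hcard : 7 ≤ Fintype.card Ξ) : Fintype.card Ξ = 11 := by
  obtain ⟨x⟩ : Nonempty (Fin 4 ↪ Ξ) :=
    Function.Embedding.nonempty_of_card_le (by simp only [Fintype.card_fin]; omega)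
  obtain ⟨u, hu2, hux⟩ := exists_pattern_invol h4 hsharp x sig2 sig2_sq
  have hu0 : u • x 0 = x 1 := by simpa using hux 0
  have hu1 : u • x 1 = x 0 := by simpa using hux 1
  have hu2' : u • x 2 = x 2 := by simpa using hux 2
  have hu3 : u • x 3 = x 3 := by simpa using hux 3
  have hne : ∀ {i j : Fin 4}, i ≠ j → x i ≠ x j := fun h h' => h (x.injective h')
  have hune : u ≠ 1 := by
    rintro rfl
    rw [one_smul] at hu0
    exact hne (by decide) hu0
  have hf3 : (fixF u : Finset Ξ).card < 4 := card_fixF_lt hsharp hune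
  have hf2 : 2 ≤ (fixF u : Finset Ξ).card := by
    have : ({x 2, x 3} : Finset Ξ) ⊆ fixF u := by
      intro z hz
      simp only [Finset.mem_insert, Finset.mem_singleton] at hz
      rcases hz with rfl | rfl
      · exact mem_fixF.mpr hu2'
      · exact mem_fixF.mpr hu3
    have h2 := Finset.card_le_card this
    rwa [Finset.card_pair (hne (by decide))] at h2
  -- the tuple `y = (x 0, x 1)`
  let y : Fin 2 ↪ Ξ := (Fin.castLEEmb (by omega : 2 ≤ 4)).trans x
  have hy0 : y 0 = x 0 := rfl
  have hy1 : y 1 = x 1 := rfl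
  have hyinv : ∀ i, ∃ j, u • y i = y j := by
    rw [Fin.forall_fin_two]
    exact ⟨⟨1, by rw [hy0, hy1, hu0]⟩, ⟨0, by rw [hy0, hy1, hu1]⟩⟩
  have hymoved : ∀ i, u • y i ≠ y i := by
    rw [Fin.forall_fin_two]
    refine ⟨?_, ?_⟩
    · rw [hy0, hu0]; exact hne (by decide)
    · rw [hy1, hu1]; exact hne (by decide)
  have hyfix : ∀ p : Ξ, u • p = p → ∀ i, y i ≠ p := by
    intro p hp i hi
    apply hymoved i
    rw [hi, hp]
  obtain ⟨d0, hd0, hd0S⟩ := exists_moved_outside u ({x 0, x 1} : Finset Ξ) (by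
    rw [Finset.card_pair (hne (by decide))]; omega)
  have hd0y : ∀ i, y i ≠ d0 := by
    rw [Fin.forall_fin_two]
    simp only [Finset.mem_insert, Finset.mem_singleton, not_or] at hd0S
    exact ⟨by rw [hy0]; exact Ne.symm hd0S.1, by rw [hy1]; exact Ne.symm hd0S.2⟩
  have key := sharp_count (m := 2) h4 hsharp u hu2 y hyinv d0 hd0 hd0y (x 2) (x 3) hu2' hu3
    (hne (by decide)) (hyfix _ hu2') (hyfix _ hu3)
  have c1 := card_filter_outside (fun d : Ξ => u • d ≠ d) y
  have c2 := card_filter_outside (fun p : Ξ => u • p = p) y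
  have e1 : (Finset.univ.filter (fun i : Fin 2 => u • y i ≠ y i)) = Finset.univ :=
    Finset.filter_true_of_mem (fun i _ => hymoved i)
  have e2 : (Finset.univ.filter (fun i : Fin 2 => u • y i = y i)) = ∅ :=
    Finset.filter_false_of_mem (fun i _ => hymoved i)
  rw [card_moved, e1, Finset.card_univ, Fintype.card_fin] at c1
  rw [e2, Finset.card_empty, add_zero] at c2
  rw [Finset.offDiag_card, c2] at key
  change _ = (fixF u : Finset Ξ).card * (fixF u : Finset Ξ).card - (fixF u : Finset Ξ).card at key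
  generalize (fixF u : Finset Ξ).card = f at *
  generalize (Finset.univ.filter (fun d : Ξ => u • d ≠ d ∧ ∀ i, y i ≠ d)).card = A at *
  interval_cases f <;> omega

end four

section six

variable {T Ξ : Type*} [Group T] [MulAction T Ξ] [Fintype Ξ] [DecidableEq Ξ]

/-- counting the points with a property outside a tuple extended by two points -/
theorem card_filter_outside_cons2 {m : ℕ} (Q : Ξ → Prop) [DecidablePred Q] (y : Fin m ↪ Ξ)
    (e1 e2 : Ξ) (h12 : e1 ≠ e2) (h1 : ∀ i, y i ≠ e1) (h2 : ∀ i, y i ≠ e2) :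
    (Finset.univ.filter (fun d : Ξ => Q d ∧ ∀ i, cons2 y e1 e2 h12 h1 h2 i ≠ d)).card +
      ((if Q e1 then 1 else 0) + (if Q e2 then 1 else 0) +
        (Finset.univ.filter (fun i : Fin m => Q (y i))).card) = (Finset.univ.filter Q).card := by
  rw [← card_filter_outside Q (cons2 y e1 e2 h12 h1 h2)]
  congr 1
  rw [Finset.card_filter, Finset.card_filter, Fin.sum_univ_succ, Fin.sum_univ_succ]
  show _ = (if Q e1 then 1 else 0) + ((if Q e2 then 1 else 0) +
    ∑ i : Fin m, if Q (y i) then 1 else 0)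
  rw [add_assoc]

/-- the pattern `(0 1)` on six points -/
def sig6 : Equiv.Perm (Fin 6) := Equiv.swap 0 1

theorem sig6_sq : sig6 * sig6 = 1 := by decide
@[simp] theorem sig6_zero : sig6 0 = 1 := by decide
@[simp] theorem sig6_one : sig6 1 = 0 := by decide
@[simp] theorem sig6_two : sig6 2 = 2 := by decide
@[simp] theorem sig6_three : sig6 3 = 3 := by decide
@[simp] theorem sig6_four : sig6 4 = 4 := by decide
@[simp] theorem sig6_five : sig6 5 = 5 := by decide

/-- **There is no sharply 6-transitive group of degree at least 10.** -/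
theorem sharp6_false (h6 : IsMultiplyPretransitive T Ξ 6)
    (hsharp : ∀ (g : T) (x : Fin 6 ↪ Ξ), (∀ i, g • x i = x i) → g = 1)
    (hcard : 10 ≤ Fintype.card Ξ) : False := by
  obtain ⟨x⟩ : Nonempty (Fin 6 ↪ Ξ) :=
    Function.Embedding.nonempty_of_card_le (by simp only [Fintype.card_fin]; omega)
  obtain ⟨w, hw2, hwx⟩ := exists_pattern_invol h6 hsharp x sig6 sig6_sq
  have hw0 : w • x 0 = x 1 := by simpa using hwx 0
  have hw1 : w • x 1 = x 0 := by simpa using hwx 1
  have hwf2 : w • x 2 = x 2 := by simpa using hwx 2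
  have hwf3 : w • x 3 = x 3 := by simpa using hwx 3
  have hwf4 : w • x 4 = x 4 := by simpa using hwx 4
  have hwf5 : w • x 5 = x 5 := by simpa using hwx 5
  have hww : ∀ z : Ξ, w • w • z = z := smul_smul_of_mul_self hw2
  have hne : ∀ {i j : Fin 6}, i ≠ j → x i ≠ x j := fun h h' => h (x.injective h')
  have hwne : w ≠ 1 := by
    rintro rfl
    rw [one_smul] at hw0
    exact hne (by decide) hw0
  have hf5 : (fixF w : Finset Ξ).card < 6 := card_fixF_lt hsharp hwne
  have hf4 : 4 ≤ (fixF w : Finset Ξ).card := by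
    have hsub : (Finset.univ.filter (fun i : Fin 6 => 2 ≤ i.val)).map x ⊆ (fixF w : Finset Ξ) := by
      intro z hz
      rw [Finset.mem_map] at hz
      obtain ⟨i, hi, rfl⟩ := hz
      rw [Finset.mem_filter] at hi
      rw [mem_fixF, hwx i]
      congr 1
      revert hi
      revert i
      decide
    have h2 := Finset.card_le_card hsub
    rw [Finset.card_map] at h2
    have h3 : (Finset.univ.filter (fun i : Fin 6 => 2 ≤ i.val)).card = 4 := by decide
    omega
  -- the tuple `y0 = (x 0, x 1)`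
  let y0 : Fin 2 ↪ Ξ := (Fin.castLEEmb (by omega : 2 ≤ 6)).trans x
  have hy0 : y0 0 = x 0 := rfl
  have hy1 : y0 1 = x 1 := rfl
  have hy0moved : ∀ i, w • y0 i ≠ y0 i := by
    rw [Fin.forall_fin_two]
    refine ⟨?_, ?_⟩
    · rw [hy0, hw0]; exact hne (by decide)
    · rw [hy1, hw1]; exact hne (by decide)
  have hy0fix : ∀ p : Ξ, w • p = p → ∀ i, y0 i ≠ p := by
    intro p hp i hi
    apply hy0moved i
    rw [hi, hp]
  have e1 : (Finset.univ.filter (fun i : Fin 2 => w • y0 i ≠ y0 i)) = Finset.univ :=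
    Finset.filter_true_of_mem (fun i _ => hy0moved i)
  have e2 : (Finset.univ.filter (fun i : Fin 2 => w • y0 i = y0 i)) = ∅ :=
    Finset.filter_false_of_mem (fun i _ => hy0moved i)
  -- a third and a fourth moved point
  obtain ⟨d0, hd0, hd0S⟩ := exists_moved_outside w ({x 0, x 1} : Finset Ξ) (by
    rw [Finset.card_pair (hne (by decide))]; omega)
  have hd0y0 : ∀ i, y0 i ≠ d0 := by
    rw [Fin.forall_fin_two]
    simp only [Finset.mem_insert, Finset.mem_singleton, not_or] at hd0S
    exact ⟨by rw [hy0]; exact Ne.symm hd0S.1, by rw [hy1]; exact Ne.symm hd0S.2⟩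
  have hwd0 : w • (w • d0) ≠ w • d0 := by
    rw [hww]; exact Ne.symm hd0
  have hwd0y0 : ∀ i, y0 i ≠ w • d0 := by
    rw [Fin.forall_fin_two]
    refine ⟨?_, ?_⟩
    · intro h
      apply hd0y0 1
      rw [hy1, ← hw0, ← hy0, h, hww]
    · intro h
      apply hd0y0 0
      rw [hy0, ← hw1, ← hy1, h, hww]
  -- first count: `y1 = (x 2, x 3, x 0, x 1)`
  have hfm : ∀ {p d : Ξ}, w • p = p → w • d ≠ d → p ≠ d := by
    rintro p d hp hd rfl
    exact hd hp
  have key1 := sharp_count (m := 4) h6 hsharp w hw2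
    (cons2 y0 (x 2) (x 3) (hne (by decide)) (hy0fix _ hwf2) (hy0fix _ hwf3)) (by
      rw [forall_fin_add_two]
      refine ⟨⟨0, by simpa using hwf2⟩, ⟨Fin.succ 0, by simpa using hwf3⟩, ?_⟩
      rw [Fin.forall_fin_two]
      refine ⟨⟨Fin.succ (Fin.succ 1), ?_⟩, ⟨Fin.succ (Fin.succ 0), ?_⟩⟩
      · simp only [cons2_succ]; rw [hy0, hy1, hw0]
      · simp only [cons2_succ]; rw [hy0, hy1, hw1])
    d0 hd0 (by
      rw [forall_fin_add_two]
      refine ⟨by simpa using hfm hwf2 hd0, by simpa using hfm hwf3 hd0, ?_⟩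
      intro i
      simpa using hd0y0 i)
    (x 4) (x 5) hwf4 hwf5 (hne (by decide)) (by
      rw [forall_fin_add_two]
      refine ⟨by simp, by simp, ?_⟩
      intro i
      simpa using hy0fix _ hwf4 i) (by
      rw [forall_fin_add_two]
      refine ⟨by simp, by simp, ?_⟩
      intro i
      simpa using hy0fix _ hwf5 i)
  have c1 := card_filter_outside_cons2 (fun d : Ξ => w • d ≠ d) y0 (x 2) (x 3)
    (hne (by decide)) (hy0fix _ hwf2) (hy0fix _ hwf3)
  have c2 := card_filter_outside_cons2 (fun p : Ξ => w • p = p) y0 (x 2) (x 3)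
    (hne (by decide)) (hy0fix _ hwf2) (hy0fix _ hwf3)
  rw [card_moved, e1, Finset.card_univ, Fintype.card_fin, if_neg (by simpa using hwf2),
    if_neg (by simpa using hwf3)] at c1
  rw [e2, Finset.card_empty, if_pos hwf2, if_pos hwf3] at c2
  rw [Finset.offDiag_card] at key1
  -- second count: `y2 = (d0, w d0, x 0, x 1)`
  obtain ⟨e0, he0, he0S⟩ := exists_moved_outside w ({x 0, x 1, d0, w • d0} : Finset Ξ) (by
    have := Finset.card_le_four (a := x 0) (b := x 1) (c := d0) (d := w • d0)
    omega)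
  simp only [Finset.mem_insert, Finset.mem_singleton, not_or] at he0S
  have key2 := sharp_count (m := 4) h6 hsharp w hw2
    (cons2 y0 d0 (w • d0) (Ne.symm hd0) hd0y0 hwd0y0) (by
      rw [forall_fin_add_two]
      refine ⟨⟨Fin.succ 0, by simp⟩, ⟨0, by simpa using hww d0⟩, ?_⟩
      rw [Fin.forall_fin_two]
      refine ⟨⟨Fin.succ (Fin.succ 1), ?_⟩, ⟨Fin.succ (Fin.succ 0), ?_⟩⟩
      · simp only [cons2_succ]; rw [hy0, hy1, hw0]
      · simp only [cons2_succ]; rw [hy0, hy1, hw1])
    e0 he0 (by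
      rw [forall_fin_add_two]
      refine ⟨by simpa using Ne.symm he0S.2.2.1, by simpa using Ne.symm he0S.2.2.2, ?_⟩
      rw [Fin.forall_fin_two]
      refine ⟨?_, ?_⟩
      · simp only [cons2_succ]; rw [hy0]; exact Ne.symm he0S.1
      · simp only [cons2_succ]; rw [hy1]; exact Ne.symm he0S.2.1)
    (x 2) (x 3) hwf2 hwf3 (hne (by decide)) (by
      rw [forall_fin_add_two]
      refine ⟨by simpa using (hfm hwf2 hd0).symm, by simpa using (hfm hwf2 hwd0).symm, ?_⟩
      intro i
      simpa using hy0fix _ hwf2 i) (by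
      rw [forall_fin_add_two]
      refine ⟨by simpa using (hfm hwf3 hd0).symm, by simpa using (hfm hwf3 hwd0).symm, ?_⟩
      intro i
      simpa using hy0fix _ hwf3 i)
  have c3 := card_filter_outside_cons2 (fun d : Ξ => w • d ≠ d) y0 d0 (w • d0)
    (Ne.symm hd0) hd0y0 hwd0y0
  have c4 := card_filter_outside_cons2 (fun p : Ξ => w • p = p) y0 d0 (w • d0)
    (Ne.symm hd0) hd0y0 hwd0y0
  rw [card_moved, e1, Finset.card_univ, Fintype.card_fin, if_pos hd0, if_pos hwd0] at c3
  rw [e2, Finset.card_empty, if_neg hd0, if_neg hwd0] at c4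
  rw [Finset.offDiag_card] at key2
  change _ = (fixF w : Finset Ξ).card at c2
  change _ = (fixF w : Finset Ξ).card at c4
  generalize (fixF w : Finset Ξ).card = f at *
  generalize (Finset.univ.filter (fun d : Ξ => w • d ≠ d ∧
    ∀ i, cons2 y0 (x 2) (x 3) (hne (by decide)) (hy0fix _ hwf2) (hy0fix _ hwf3) i ≠ d)).card = A1 at *
  generalize (Finset.univ.filter (fun p : Ξ => w • p = p ∧
    ∀ i, cons2 y0 (x 2) (x 3) (hne (by decide)) (hy0fix _ hwf2) (hy0fix _ hwf3) i ≠ p)).card = B1 at *
  generalize (Finset.univ.filter (fun d : Ξ => w • d ≠ d ∧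
    ∀ i, cons2 y0 d0 (w • d0) (Ne.symm hd0) hd0y0 hwd0y0 i ≠ d)).card = A2 at *
  generalize (Finset.univ.filter (fun p : Ξ => w • p = p ∧
    ∀ i, cons2 y0 d0 (w • d0) (Ne.symm hd0) hd0y0 hwd0y0 i ≠ p)).card = B2 at *
  have hB1 : B1 = f - 2 := by omega
  have hB2 : B2 = f := by omega
  rw [hB1] at key1
  rw [hB2] at key2
  interval_cases f <;> omega

end six

end Cfsg.Agent.Lib.Helper8.LW
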