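import Cfsg.Agent.Lib.Helper8.M24MultData

/-! Kernel checks for the Schur multipliers of `M₂₃` and `M₂₄`: the tables -/

set_option autoImplicit false
set_option maxRecDepth 1000000

namespace Cfsg.Agent.Lib.Helper8.M24Mult

open Cfsg.Agent.Lib.Helper8.GolayStem

theorem chk23_6 : data23.chk6 = true := by decide +kernel

theorem chk24_6 : data24.chk6 = true := by decide +kernel

end Cfsg.Agent.Lib.Helper8.M24Mult
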