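import Cfsg.Agent.Lib.Helper8.M24MultChkA
import Cfsg.Agent.Lib.Helper8.M24MultChkB
import Cfsg.Agent.H9.M23GenA
import Cfsg.Agent.H1.StemMeta

/-!
# The Schur multipliers of the Mathieu groups `M₂₃` and `M₂₄` are trivial

Every finite stem extension of `M₂₃` and of `M₂₄` is an isomorphism: the involutions with eight fixed points have a
perfect centraliser, so they lift to an equivariant family of involutions, and the chain
`2 < D₁₂ < M₁₁ < M₂₃ < M₂₄` of subgroups generated by such involutions has checked tables of cosets with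
`6, 660, 1288, 24` rows.
-/

set_option autoImplicit false

namespace Cfsg.Agent.Lib.Helper8.M24Mult

open Cfsg Cfsg.Agent.Lib.Helper6.Golay Cfsg.Agent.Lib.Helper8.GolayStem Cfsg.Agent.Lib.Helper8.StemChain

/-! ### the atoms -/

theorem rep_gens : ∀ l ∈ [alphaL, gammaL, deltaL], Rep M24 l := by
  intro l hl
  simp only [List.mem_cons, List.not_mem_nil, or_false] at hl
  rcases hl with rfl | rfl | rfl
  · exact Rep.of_mem hasGens_M24.a _ (by decide) alpha_eq
  · exact Rep.of_mem hasGens_M24.c _ (by decide) gamma_eq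
  · exact Rep.of_mem hasGens_M24.d _ (by decide) delta_eq

theorem rep24 : ∀ l ∈ atoms24, Rep M24 l := by
  intro l hl
  rw [← chk_slp, List.mem_map] at hl
  obtain ⟨i, _, rfl⟩ := hl
  exact rep_getD (rep_slpRun slpProg _ rep_gens) i

theorem rep23 : ∀ l ∈ atoms23, Rep Spor.M23 l := by
  intro l hl
  have h := List.all_eq_true.1 chk_sub l hl
  rw [Bool.and_eq_true, beq_iff_eq] at h
  obtain ⟨h1, h2⟩ := h
  obtain ⟨hw, g, hg, hgl⟩ := rep24 l (by simpa using h1)
  refine ⟨hw, g, Subgroup.mem_inf.2 ⟨hg, ?_⟩, hgl⟩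
  rw [MulAction.mem_stabilizer_iff]
  show g none = none
  rw [hgl]
  show pt (l.getD (idx none) 0) = none
  have e : idx (none : GolayPt) = 23 := rfl
  rw [e, h2]
  rfl

/-! ### generation -/

theorem coe_ev_eq {H : Subgroup (Equiv.Perm GolayPt)} {A : List (List ℕ)} (hA : ∀ l ∈ A, Rep H l)
    {w l : List ℕ} (h : evL A w = l) {g : Equiv.Perm GolayPt} (hg : ∀ p, g p = lfun l p) :
    (ev A hA w).1 = g := by
  apply Equiv.ext
  intro p
  rw [hg, ← h, ← coe_ev A hA w]

theorem hgen24 (S : Subgroup ↥M24) (h : ∀ x, x < 5 → atom atoms24 rep24 (data24.tI x) ∈ S) : S = ⊤ := by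
  have hT : ∀ i ∈ [1, 2, 3, 4, 5], atom atoms24 rep24 i ∈ S := by
    intro i hi
    simp only [List.mem_cons, List.not_mem_nil, or_false] at hi
    rcases hi with rfl | rfl | rfl | rfl | rfl
    · exact h 0 (by norm_num)
    · exact h 1 (by norm_num)
    · exact h 2 (by norm_num)
    · exact h 3 (by norm_num)
    · exact h 4 (by norm_num)
  have hw : ∀ w : List ℕ, (∀ i ∈ w, i ∈ [1, 2, 3, 4, 5]) → ev atoms24 rep24 w ∈ S :=
    fun w hw => ev_mem _ _ S fun i hi => hT i (hw i hi)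
  have hle' : Subgroup.closure {Equiv.optionCongr (Equiv.addRight (1 : ZMod 23)), projInv, cubeTwist} ≤
      S.map M24.subtype := by
    rw [Subgroup.closure_le]
    rintro x (rfl | rfl | rfl)
    · exact ⟨ev atoms24 rep24 wAlpha, hw wAlpha (by decide), coe_ev_eq rep24 chk_gen24.1 alpha_eq⟩
    · exact ⟨ev atoms24 rep24 wGamma, hw wGamma (by decide), coe_ev_eq rep24 chk_gen24.2.1 gamma_eq⟩
    · exact ⟨ev atoms24 rep24 wDelta, hw wDelta (by decide), coe_ev_eq rep24 chk_gen24.2.2 delta_eq⟩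
  have hle : M24 ≤ S.map M24.subtype := fun g hg => hle' (by rw [closure_eq_M24]; exact hg)
  rw [Subgroup.eq_top_iff']
  intro g
  obtain ⟨s, hs, hsg⟩ := hle g.2
  rw [← Subtype.ext hsg]
  exact hs

theorem hgen23 (S : Subgroup ↥Spor.M23) (h : ∀ x, x < 4 → atom atoms23 rep23 (data23.tI x) ∈ S) :
    S = ⊤ := by
  have hT : ∀ i ∈ [1, 2, 3, 4], atom atoms23 rep23 i ∈ S := by
    intro i hi
    simp only [List.mem_cons, List.not_mem_nil, or_false] at hi
    rcases hi with rfl | rfl | rfl | rfl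
    · exact h 0 (by norm_num)
    · exact h 1 (by norm_num)
    · exact h 2 (by norm_num)
    · exact h 3 (by norm_num)
  have hw : ∀ w : List ℕ, (∀ i ∈ w, i ∈ [1, 2, 3, 4]) → ev atoms23 rep23 w ∈ S :=
    fun w hw => ev_mem _ _ S fun i hi => hT i (hw i hi)
  have hisC : ∀ (w : List ℕ) (c : ℕ), (∀ i ∈ w, i ∈ [1, 2, 3, 4]) →
      evL atoms23 w = Cfsg.Agent.H9.NatPerm.dec24 c →
      ∃ g ∈ S.map Spor.M23.subtype, Cfsg.Agent.H9.NatPerm.IsC g c := by
    intro w c hwl he
    refine ⟨(ev atoms23 rep23 w).1, ⟨_, hw w hwl, rfl⟩, ?_, ?_⟩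
    · rw [← he]; exact wf_evL atoms23 rep23 w
    · rw [← he]; exact coe_ev atoms23 rep23 w
  have hK := Cfsg.Agent.H9.M23Gen.eq_M23_of_gens (S.map Spor.M23.subtype) (Subgroup.map_subtype_le S)
    (hisC wGa _ (by decide) chk_gen23.1) (hisC wGb _ (by decide) chk_gen23.2)
  rw [Subgroup.eq_top_iff']
  intro g
  have hg : g.1 ∈ S.map Spor.M23.subtype := by rw [hK]; exact g.2
  obtain ⟨s, hs, hsg⟩ := hg
  rw [← Subtype.ext hsg]
  exact hs

/-! ### the theorems -/

theorem top23 : chainTop 1 data23.Cs = 4 := rfl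

theorem top24 : chainTop 1 data24.Cs = 5 := rfl

/-- **every finite stem extension of `M₂₃` is an isomorphism** -/
theorem ker_eq_bot_M23 {Γ : Type*} [Group Γ] [Finite Γ] (σ : Γ →* ↥Spor.M23)
    (hsurj : Function.Surjective σ) (hcen : σ.ker ≤ Subgroup.center Γ) (hder : σ.ker ≤ commutator Γ) :
    σ.ker = ⊥ :=
  ker_eq_bot_of_data data23 rep23 chk23_1 chk23_2 chk23_3 chk23_4 chk23_5 chk23_6
    (by rw [Cfsg.Agent.H9.FusGrp.card_SporM23]; exact le_refl _)
    (fun S hS => hgen23 S fun x hx => hS x (by rw [top23]; exact hx)) σ hsurj hcen hder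

/-- **every finite stem extension of `M₂₄` is an isomorphism** -/
theorem ker_eq_bot_M24 {Γ : Type*} [Group Γ] [Finite Γ] (σ : Γ →* ↥M24)
    (hsurj : Function.Surjective σ) (hcen : σ.ker ≤ Subgroup.center Γ) (hder : σ.ker ≤ commutator Γ) :
    σ.ker = ⊥ :=
  ker_eq_bot_of_data data24 rep24 chk24_1 chk24_2 chk24_3 chk24_4 chk24_5 chk24_6
    (by rw [card_M24]; exact le_refl _)
    (fun S hS => hgen24 S fun x hx => hS x (by rw [top24]; exact hx)) σ hsurj hcen hder

end Cfsg.Agent.Lib.Helper8.M24Mult
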