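import Cfsg.Agent.Lib.Helper8.M24MultData
import Cfsg.Agent.Lib.Helper6.GolayBSGS
import Cfsg.Agent.H9.FusM23Grp

/-! Kernel checks for the Schur multipliers of `M₂₃` and `M₂₄`: the atoms, the subgroup of the centraliser, the words -/

set_option autoImplicit false
set_option maxRecDepth 1000000

namespace Cfsg.Agent.Lib.Helper8.M24Mult

open Cfsg.Agent.Lib.Helper6.Golay Cfsg.Agent.Lib.Helper8.GolayStem

theorem chk_slp : atomIdx.map (fun i => (slpRun [alphaL, gammaL, deltaL] slpProg).getD i idl) = atoms24 := by
  decide +kernel

theorem chk_sub : atoms23.all (fun l => atoms24.contains l && (l.getD 23 0 == 23)) = true := by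
  decide +kernel

theorem chk_gen24 : evL atoms24 wAlpha = alphaL ∧ evL atoms24 wGamma = gammaL ∧ evL atoms24 wDelta = deltaL := by
  decide +kernel

theorem chk_gen23 : evL atoms23 wGa = Cfsg.Agent.H9.NatPerm.dec24 Cfsg.Agent.H9.M23Grp.ga ∧
    evL atoms23 wGb = Cfsg.Agent.H9.NatPerm.dec24 Cfsg.Agent.H9.M23Grp.gb := by
  decide +kernel

theorem chk23_1 : data23.chk1 = true := by decide +kernel
theorem chk23_2 : data23.chk2 = true := by decide +kernel
theorem chk23_3 : data23.chk3 = true := by decide +kernel
theorem chk23_4 : data23.chk4 = true := by decide +kernel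
theorem chk23_5 : data23.chk5 = true := by decide +kernel

theorem chk24_1 : data24.chk1 = true := by decide +kernel
theorem chk24_2 : data24.chk2 = true := by decide +kernel
theorem chk24_3 : data24.chk3 = true := by decide +kernel
theorem chk24_4 : data24.chk4 = true := by decide +kernel
theorem chk24_5 : data24.chk5 = true := by decide +kernel

end Cfsg.Agent.Lib.Helper8.M24Mult
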