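import Cfsg.Agent.Lib.Helper8.M22Idx.Enc

/-!
# Searching for the elements of `M24` which normalise a given element

Let `z` be a permutation of the 24 points whose powers are tabulated by `zpowF`, and let every point `i` be written as
`z ^ (jF i)` applied to the point `repL (cF i)` (the representative of its cycle; a fixed point is its own
representative).  An element `g` with `g z = z ^ k g` is determined by `k` and by the images `vs` of the representatives:
the image of `i` is `z ^ (k * jF i)` applied to the image of its representative (`candF`).  The candidates are searched in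
stages, one representative at a time; at each stage some code words whose points lie in the cycles treated so far must
be mapped into the code, and some sets of such points must be mapped injectively.  The search is sound: if it succeeds,
`k :: vs` of every element of `M24` normalising `z` with exponent `k` lies in the list `good`.
-/

set_option autoImplicit false

namespace Cfsg.Agent.Lib.Helper8.M24Search

open Cfsg Cfsg.Agent.Lib.Helper6.Golay Cfsg.Agent.Lib.Helper8.M22Idx

/-- entry `i` of a table of `w`-bit numbers packed into a natural number -/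
def getP (w tab i : ℕ) : ℕ := (tab >>> (w * i)) &&& (2 ^ w - 1)

/-- the candidate map -/
def candF (n : ℕ) (zpowF : ℕ → ℕ → ℕ) (jF cF : ℕ → ℕ) (k : ℕ) (vs : List ℕ) (i : ℕ) : ℕ :=
  zpowF ((k * jF i) % n) (vs.getD (cF i) 0)

/-- the last stage: a candidate mapping the basis words into the code must be in the list -/
def finalTest (n : ℕ) (zpowF : ℕ → ℕ → ℕ) (jF cF : ℕ → ℕ) (good : List (List ℕ)) (k : ℕ) (vs : List ℕ) : Bool :=
  !(basis.all fun b => inCode (fmask (candF n zpowF jF cF k vs) b)) || good.contains (k :: vs)

/-- the staged search: each stage has a list of values for the next representative, a list of test words and a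
list of sets to be mapped injectively -/
def searchAux (n : ℕ) (zpowF : ℕ → ℕ → ℕ) (jF cF : ℕ → ℕ) (good : List (List ℕ)) (k : ℕ) :
    List (List ℕ × List ℕ × List ℕ) → List ℕ → Bool
  | [], vs => finalTest n zpowF jF cF good k vs
  | st :: rest, vs => st.1.all fun v =>
      !((st.2.1.all fun m => inCode (fmask (candF n zpowF jF cF k (vs ++ [v])) m)) &&
        (st.2.2.all fun m => pc 24 (fmask (candF n zpowF jF cF k (vs ++ [v])) m) == pc 24 m)) ||
        searchAux n zpowF jF cF good k rest (vs ++ [v])

/-- the search over the exponents -/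
def search (n : ℕ) (zpowF : ℕ → ℕ → ℕ) (jF cF : ℕ → ℕ) (good : List (List ℕ)) (ks : List ℕ)
    (stages : List (List ℕ × List ℕ × List ℕ)) : Bool :=
  ks.all fun k => searchAux n zpowF jF cF good k stages []

/-- the points of the mask `m` belong to the representatives up to `c` -/
def maskOK (cF : ℕ → ℕ) (c m : ℕ) : Bool := (List.range 24).all fun i => !m.testBit i || decide (cF i ≤ c)

/-- the test words of stage `j` are code words, and the tests involve only the representatives up to `j` -/
def testsOK (cF : ℕ → ℕ) : ℕ → List (List ℕ × List ℕ × List ℕ) → Bool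
  | _, [] => true
  | c, st :: rest => (st.2.1.all fun m => inCode m && maskOK cF c m) && (st.2.2.all fun m => maskOK cF c m) &&
      testsOK cF (c + 1) rest

theorem take_succ_getD (l : List ℕ) (c : ℕ) (hc : c < l.length) : l.take c ++ [l.getD c 0] = l.take (c + 1) := by
  rw [List.take_succ, List.getD_eq_getElem _ _ hc, List.getElem?_eq_getElem hc]
  rfl

theorem getD_take_of_le (l : List ℕ) (c i : ℕ) (hi : i ≤ c) : (l.take (c + 1)).getD i 0 = l.getD i 0 := by
  rw [List.getD_eq_getElem?_getD, List.getD_eq_getElem?_getD, List.getElem?_take_of_lt (by omega)]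

theorem fmask_eq_of_maskOK {n : ℕ} {zpowF : ℕ → ℕ → ℕ} {jF cF : ℕ → ℕ} {k : ℕ} {f : ℕ → ℕ} {vals : List ℕ}
    (hf : ∀ i < 24, f i = candF n zpowF jF cF k vals i) {c m : ℕ} (hm : maskOK cF c m = true) :
    fmask (candF n zpowF jF cF k (vals.take (c + 1))) m = fmask f m := by
  rw [maskOK, List.all_eq_true] at hm
  apply fmask_congr
  intro i hi hb
  have h2 := hm i (List.mem_range.2 hi)
  rw [hb, Bool.not_true, Bool.false_or, decide_eq_true_eq] at h2
  rw [hf i hi, candF, candF, getD_take_of_le vals c _ h2]

theorem searchAux_sound (n : ℕ) (zpowF : ℕ → ℕ → ℕ) (jF cF : ℕ → ℕ) (good : List (List ℕ)) (k : ℕ)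
    (f : ℕ → ℕ) (vals : List ℕ)
    (hcode : ∀ m, inCode m = true → inCode (fmask f m) = true)
    (hinj : ∀ m, pc 24 (fmask f m) = pc 24 m)
    (hf : ∀ i < 24, f i = candF n zpowF jF cF k vals i) :
    ∀ (stages : List (List ℕ × List ℕ × List ℕ)) (c : ℕ), c + stages.length = vals.length →
      (∀ j, j < stages.length → vals.getD (c + j) 0 ∈ (stages.getD j ([], [], [])).1) →
      testsOK cF c stages = true →
      searchAux n zpowF jF cF good k stages (vals.take c) = true →
      finalTest n zpowF jF cF good k vals = true := by
  intro stages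
  induction stages with
  | nil =>
    intro c hc _ _ hs
    rw [List.length_nil, Nat.add_zero] at hc
    rw [searchAux, hc, List.take_length] at hs
    exact hs
  | cons st rest ih =>
    intro c hc hdom htest hs
    rw [List.length_cons] at hc
    have hclt : c < vals.length := by omega
    rw [searchAux, List.all_eq_true] at hs
    have hv : vals.getD c 0 ∈ st.1 := by
      have := hdom 0 (by rw [List.length_cons]; omega)
      simpa using this
    have h1 := hs _ hv
    rw [take_succ_getD vals c hclt] at h1
    rw [testsOK, Bool.and_eq_true, Bool.and_eq_true] at htest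
    obtain ⟨⟨ht1, ht1'⟩, ht2⟩ := htest
    have hpass : (st.2.1.all fun m => inCode (fmask (candF n zpowF jF cF k (vals.take (c + 1))) m)) = true := by
      rw [List.all_eq_true] at ht1 ⊢
      intro m hm
      have hm1 := ht1 m hm
      rw [Bool.and_eq_true] at hm1
      rw [fmask_eq_of_maskOK hf hm1.2]
      exact hcode m hm1.1
    have hpass' : (st.2.2.all fun m =>
        pc 24 (fmask (candF n zpowF jF cF k (vals.take (c + 1))) m) == pc 24 m) = true := by
      rw [List.all_eq_true] at ht1' ⊢
      intro m hm
      rw [fmask_eq_of_maskOK hf (ht1' m hm), hinj m]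
      exact beq_self_eq_true _
    rw [hpass, hpass', Bool.and_self, Bool.not_true, Bool.false_or] at h1
    apply ih (c + 1) (by omega) _ ht2 h1
    intro j hj
    have := hdom (j + 1) (by rw [List.length_cons]; omega)
    rw [List.getD_cons_succ] at this
    rw [show c + 1 + j = c + (j + 1) by omega]
    exact this

/-- a permutation preserves the number of points of a mask -/
theorem pc_lmask_enc (g : Equiv.Perm GolayPt) (m : ℕ) : pc 24 (lmask (enc g) m) = pc 24 m := by
  rw [← card_fs, ← card_fs, ← smul_fs (wf_enc g) (lfun_enc g), Finset.card_smul_finset]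

/-- **soundness of the search** -/
theorem search_sound {n : ℕ} {zpowF : ℕ → ℕ → ℕ} {jF cF : ℕ → ℕ} {good : List (List ℕ)} {ks : List ℕ}
    {stages : List (List ℕ × List ℕ × List ℕ)} (hsearch : search n zpowF jF cF good ks stages = true)
    (htests : testsOK cF 0 stages = true)
    {g : Equiv.Perm GolayPt} (hg : g ∈ M24) {k : ℕ} (hk : k ∈ ks) (vals : List ℕ)
    (hlen : stages.length = vals.length)
    (hdom : ∀ j, j < stages.length → vals.getD j 0 ∈ (stages.getD j ([], [], [])).1)
    (hdet : ∀ i < 24, (enc g).getD i 0 = candF n zpowF jF cF k vals i) :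
    (k :: vals) ∈ good ∧ enc g = (List.range 24).map (candF n zpowF jF cF k vals) := by
  have hcode : ∀ m, inCode m = true → inCode (fmask (fun i => (enc g).getD i 0) m) = true := by
    intro m hm
    have h1 := inCode_lmask_enc hg hm
    rw [lmask_eq_fmask] at h1
    exact h1
  have hinj : ∀ m, pc 24 (fmask (fun i => (enc g).getD i 0) m) = pc 24 m := by
    intro m
    rw [← lmask_eq_fmask]
    exact pc_lmask_enc g m
  rw [search, List.all_eq_true] at hsearch
  have h1 := hsearch k hk
  have h2 := searchAux_sound n zpowF jF cF good k (fun i => (enc g).getD i 0) vals hcode hinj hdet stages 0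
    (by omega) (by intro j hj; rw [Nat.zero_add]; exact hdom j hj) htests (by rw [List.take_zero]; exact h1)
  have htest : (basis.all fun b => inCode (fmask (candF n zpowF jF cF k vals) b)) = true := by
    rw [List.all_eq_true]
    intro b hb
    rw [← fmask_congr (f := fun i => (enc g).getD i 0) (f' := candF n zpowF jF cF k vals)
      (fun i hi _ => hdet i hi)]
    exact hcode b (inCode_basis hb)
  rw [finalTest, htest, Bool.not_true, Bool.false_or] at h2
  refine ⟨List.contains_iff_mem.1 h2, ?_⟩
  rw [enc]
  apply List.map_congr_left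
  intro i hi
  rw [List.mem_range] at hi
  rw [← enc_getD g hi]
  exact hdet i hi

/-- an element normalising `z` with exponent `k` is given by the candidate map of the images of the
representatives -/
theorem enc_eq_candF {g z : Equiv.Perm GolayPt} {n k : ℕ} (hn : 0 < n) (hzn : z ^ n = 1)
    (hk : g * z = z ^ k * g) (zpowF : ℕ → ℕ → ℕ) (jF cF : ℕ → ℕ) (repL : List ℕ)
    (htab : ∀ m < n, ∀ v < 24, idx ((z ^ m) (pt v)) = zpowF m v)
    (hdec : ∀ i < 24, pt i = (z ^ (jF i)) (pt (repL.getD (cF i) 0)))
    (hrep : ∀ i < 24, repL.getD (cF i) 0 < 24 ∧ cF i < repL.length) :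
    ∀ i < 24, (enc g).getD i 0 =
      candF n zpowF jF cF k (repL.map fun r => (enc g).getD r 0) i := by
  intro i hi
  obtain ⟨hr24, hrlen⟩ := hrep i hi
  set r := repL.getD (cF i) 0 with hr
  have h1 : g (pt i) = (z ^ ((k * jF i) % n)) (g (pt r)) := by
    rw [hdec i hi, ← Equiv.Perm.mul_apply, comm_pow hk, Equiv.Perm.mul_apply, ← pow_mul,
      pow_eq_pow_mod _ hzn]
  have h2 := htab ((k * jF i) % n) (Nat.mod_lt _ hn) (idx (g (pt r))) (idx_lt _)
  rw [pt_idx] at h2
  rw [enc_getD g hi, h1, h2, candF]
  congr 1
  rw [List.getD_eq_getElem?_getD, List.getElem?_map, List.getElem?_eq_getElem hrlen]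
  simp only [Option.map_some, Option.getD_some]
  rw [enc_getD g (by rw [hr, List.getD_eq_getElem _ _ hrlen] at hr24; exact hr24)]
  rw [hr, List.getD_eq_getElem _ _ hrlen]

/-- the image of a fixed point of `z` under an element normalising `z` is a fixed point of a power of `z` -/
theorem pow_apply_of_fixed {g z : Equiv.Perm GolayPt} {k : ℕ} (hk : g * z = z ^ k * g) {q : GolayPt}
    (hq : z q = q) : (z ^ k) (g q) = g q := by
  rw [← Equiv.Perm.mul_apply, ← hk, Equiv.Perm.mul_apply, hq]

end Cfsg.Agent.Lib.Helper8.M24Search
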