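import Mathlib

/-! Jordan sets and Marggraf's theorem (helper8). -/

set_option autoImplicit false

namespace Cfsg.Agent.Lib.Helper8.Marggraf

open scoped Pointwise
open MulAction

variable {G Ω : Type*} [Group G] [MulAction G Ω]

/-- `Γ` is a Jordan set: the pointwise stabilizer of the complement is transitive on `Γ`. -/
def IsJ (G : Type*) {Ω : Type*} [Group G] [MulAction G Ω] (Γ : Set Ω) : Prop :=
  ∀ x ∈ Γ, ∀ y ∈ Γ, ∃ g : G, (∀ z ∉ Γ, g • z = z) ∧ g • x = y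

theorem IsJ.smul {Γ : Set Ω} (h : IsJ G Γ) (g : G) : IsJ G (g • Γ) := by
  intro x hx y hy
  rw [Set.mem_smul_set_iff_inv_smul_mem] at hx hy
  obtain ⟨k, hk1, hk2⟩ := h _ hx _ hy
  refine ⟨g * k * g⁻¹, ?_, ?_⟩
  · intro z hz
    rw [Set.mem_smul_set_iff_inv_smul_mem] at hz
    rw [mul_smul, mul_smul, hk1 _ hz, smul_inv_smul]
  · rw [mul_smul, mul_smul, hk2, smul_inv_smul]

theorem IsJ.union {Γ₁ Γ₂ : Set Ω} (h₁ : IsJ G Γ₁) (h₂ : IsJ G Γ₂) (hne : (Γ₁ ∩ Γ₂).Nonempty) :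
    IsJ G (Γ₁ ∪ Γ₂) := by
  obtain ⟨w, hw1, hw2⟩ := hne
  -- every point of the union can be moved to w, and w to every point
  have key : ∀ x ∈ Γ₁ ∪ Γ₂, ∃ g : G, (∀ z ∉ Γ₁ ∪ Γ₂, g • z = z) ∧ g • x = w := by
    intro x hx
    rcases hx with hx | hx
    · obtain ⟨g, hg1, hg2⟩ := h₁ x hx w hw1
      exact ⟨g, fun z hz => hg1 z (fun h => hz (Or.inl h)), hg2⟩
    · obtain ⟨g, hg1, hg2⟩ := h₂ x hx w hw2
      exact ⟨g, fun z hz => hg1 z (fun h => hz (Or.inr h)), hg2⟩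
  intro x hx y hy
  obtain ⟨g1, hg1, hg1'⟩ := key x hx
  obtain ⟨g2, hg2, hg2'⟩ := key y hy
  refine ⟨g2⁻¹ * g1, ?_, ?_⟩
  · intro z hz
    rw [mul_smul, hg1 z hz, inv_smul_eq_iff, hg2 z hz]
  · rw [mul_smul, hg1', inv_smul_eq_iff, hg2']


section Lines

variable [Finite Ω] (Δs : Set Ω)

/-- two translates of `Δs` sharing two points coincide -/
theorem line_unique (hkn : 2 * Δs.ncard ≤ Nat.card Ω)
    (hT : ∀ g : G, g • Δs = Δs ∨ g • Δs ∪ Δs = Set.univ ∨ (g • Δs ∩ Δs).ncard ≤ 1)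
    (g1 g2 : G) (a b : Ω) (hab : a ≠ b) (ha1 : a ∈ g1 • Δs) (hb1 : b ∈ g1 • Δs)
    (ha2 : a ∈ g2 • Δs) (hb2 : b ∈ g2 • Δs) : g1 • Δs = g2 • Δs := by
  have hmem : ∀ x, x ∈ g1 • Δs → x ∈ g2 • Δs → g2⁻¹ • x ∈ (g2⁻¹ * g1) • Δs ∩ Δs := by
    intro x hx1 hx2
    refine ⟨?_, ?_⟩
    · rw [mul_smul]
      exact Set.smul_mem_smul_set hx1
    · rwa [← Set.mem_smul_set_iff_inv_smul_mem]
  have h2 : 1 < ((g2⁻¹ * g1) • Δs ∩ Δs).ncard := by
    rw [Set.one_lt_ncard]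
    refine ⟨_, hmem a ha1 ha2, _, hmem b hb1 hb2, ?_⟩
    intro h
    exact hab (smul_left_cancel _ h)
  rcases hT (g2⁻¹ * g1) with h | h | h
  · rw [mul_smul, inv_smul_eq_iff] at h
    exact h
  · exfalso
    have := Set.ncard_union_add_ncard_inter ((g2⁻¹ * g1) • Δs) Δs
    rw [h, Set.ncard_univ, Set.ncard_smul_set] at this
    omega
  · omega

theorem exists_line (h2 : ∀ a b c d : Ω, a ≠ b → c ≠ d → ∃ g : G, g • a = c ∧ g • b = d)
    (hk : 2 ≤ Δs.ncard) (a b : Ω) (hab : a ≠ b) : ∃ g : G, a ∈ g • Δs ∧ b ∈ g • Δs := by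
  obtain ⟨a0, ha0, b0, hb0, hne⟩ := (Set.one_lt_ncard).mp (by omega : 1 < Δs.ncard)
  obtain ⟨g, hga, hgb⟩ := h2 a0 b0 a b hne hab
  exact ⟨g, hga ▸ Set.smul_mem_smul_set ha0, hgb ▸ Set.smul_mem_smul_set hb0⟩

/-- the contradiction: a "linear space" of translates of `Δs` cannot coexist with a small Jordan set -/
theorem line_contra (h2 : ∀ a b c d : Ω, a ≠ b → c ≠ d → ∃ g : G, g • a = c ∧ g • b = d)
    (hk3 : 3 ≤ Δs.ncard) (hkn : 2 * Δs.ncard ≤ Nat.card Ω)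
    (hT : ∀ g : G, g • Δs = Δs ∨ g • Δs ∪ Δs = Set.univ ∨ (g • Δs ∩ Δs).ncard ≤ 1)
    (Γ : Set Ω) (hJ : IsJ G Γ) (hm : 2 ≤ Γ.ncard) (hsize : Γ.ncard ≤ Γᶜ.ncard) : False := by
  classical
  obtain ⟨γ, hγ, γ', hγ', hγne⟩ := (Set.one_lt_ncard).mp (by omega : 1 < Γ.ncard)
  -- L4: a line through two points of Γᶜ meeting Γ contains Γ
  have L4 : ∀ (g : G) (d0 d1 : Ω), d0 ∉ Γ → d1 ∉ Γ → d0 ≠ d1 → d0 ∈ g • Δs → d1 ∈ g • Δs →
      ∀ c ∈ Γ, c ∈ g • Δs → Γ ⊆ g • Δs := by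
    intro g d0 d1 hd0 hd1 hne h0 h1 c hc hcg c' hc'
    obtain ⟨h, hfix, hmove⟩ := hJ c hc c' hc'
    have heq : (h * g) • Δs = g • Δs := by
      apply line_unique Δs hkn hT (h * g) g d0 d1 hne _ _ h0 h1
      · rw [mul_smul, ← hfix d0 hd0]
        exact Set.smul_mem_smul_set h0
      · rw [mul_smul, ← hfix d1 hd1]
        exact Set.smul_mem_smul_set h1
    rw [← heq, mul_smul, ← hmove]
    exact Set.smul_mem_smul_set hcg
  -- third point on a line
  have third : ∀ (g : G) (u v : Ω), ∃ e ∈ g • Δs, e ≠ u ∧ e ≠ v := by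
    intro g u v
    have hlt : ({u, v} : Set Ω).ncard < (g • Δs).ncard := by
      rw [Set.ncard_smul_set]
      have := Set.ncard_insert_le u ({v} : Set Ω)
      rw [Set.ncard_singleton] at this
      omega
    obtain ⟨e, he, hne⟩ := Set.exists_mem_notMem_of_ncard_lt_ncard hlt
    refine ⟨e, he, ?_, ?_⟩
    · intro h; exact hne (by rw [h]; simp)
    · intro h; exact hne (by rw [h]; simp)
  by_cases hA : ∃ (g : G) (d0 d1 : Ω), d0 ∉ Γ ∧ d1 ∉ Γ ∧ d0 ≠ d1 ∧ d0 ∈ g • Δs ∧ d1 ∈ g • Δs ∧ γ ∈ g • Δs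
  · -- Case A
    obtain ⟨g0, d0, d1, hd0, hd1, hne, h0, h1, hγ0⟩ := hA
    have hΓL : Γ ⊆ g0 • Δs := L4 g0 d0 d1 hd0 hd1 hne h0 h1 γ hγ hγ0
    have hall : ∀ w : Ω, w ∈ g0 • Δs := by
      intro w
      by_cases hw : w ∈ Γ
      · exact hΓL hw
      · by_contra hw0
        have hγw : γ ≠ w := fun h => hw (h ▸ hγ)
        obtain ⟨g, hg1, hg2⟩ := exists_line Δs h2 (by omega) γ w hγw
        obtain ⟨e, he, heγ, hew⟩ := third g γ w
        by_cases heΓ : e ∈ Γ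
        · have : g • Δs = g0 • Δs :=
            line_unique Δs hkn hT g g0 γ e (Ne.symm heγ) hg1 he hγ0 (hΓL heΓ)
          exact hw0 (this ▸ hg2)
        · have hsub : Γ ⊆ g • Δs := L4 g w e hw heΓ (Ne.symm hew) hg2 he γ hγ hg1
          have : g • Δs = g0 • Δs :=
            line_unique Δs hkn hT g g0 γ γ' hγne hg1 (hsub hγ') hγ0 (hΓL hγ')
          exact hw0 (this ▸ hg2)
    have huniv : g0 • Δs = Set.univ := Set.eq_univ_of_forall hall
    have := congrArg Set.ncard huniv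
    rw [Set.ncard_smul_set, Set.ncard_univ] at this
    omega
  · -- Case B
    have hB : ∀ (g : G) (d0 d1 : Ω), d0 ∉ Γ → d1 ∉ Γ → d0 ∈ g • Δs → d1 ∈ g • Δs → γ ∈ g • Δs → d0 = d1 := by
      intro g d0 d1 hd0 hd1 h0 h1 hg
      by_contra hne
      exact hA ⟨g, d0, d1, hd0, hd1, hne, h0, h1, hg⟩
    -- choice of line and third point
    have hex : ∀ d : Ω, d ∉ Γ → ∃ e : Ω, e ∈ Γ ∧ e ≠ γ ∧ ∃ g : G, γ ∈ g • Δs ∧ d ∈ g • Δs ∧ e ∈ g • Δs := by
      intro d hd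
      have hγd : γ ≠ d := fun h => hd (h ▸ hγ)
      obtain ⟨g, hg1, hg2⟩ := exists_line Δs h2 (by omega) γ d hγd
      obtain ⟨e, he, heγ, hed⟩ := third g γ d
      refine ⟨e, ?_, heγ, g, hg1, hg2, he⟩
      by_contra heΓ
      exact hed (hB g e d heΓ hd he hg2 hg1)
    let f : Ω → Ω := fun d => if hd : d ∉ Γ then (hex d hd).choose else γ
    have hf : ∀ d ∈ Γᶜ, f d ∈ Γ \ {γ} := by
      intro d hd
      have hd' : d ∉ Γ := hd
      simp only [f, dif_pos hd']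
      exact ⟨(hex d hd').choose_spec.1, (hex d hd').choose_spec.2.1⟩
    have hinj : Set.InjOn f Γᶜ := by
      intro d hd d' hd' hff
      have hd1 : d ∉ Γ := hd
      have hd1' : d' ∉ Γ := hd'
      simp only [f, dif_pos hd1, dif_pos hd1'] at hff
      obtain ⟨he1, he2, g, hg1, hg2, hg3⟩ := (hex d hd1).choose_spec
      obtain ⟨he1', he2', g', hg1', hg2', hg3'⟩ := (hex d' hd1').choose_spec
      rw [← hff] at hg3'
      have : g • Δs = g' • Δs :=
        line_unique Δs hkn hT g g' γ _ (Ne.symm he2) hg1 hg3 hg1' hg3'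
      exact hB g d d' hd1 hd1' hg2 (this ▸ hg2') hg1
    have hle := Set.ncard_le_ncard_of_injOn f hf hinj
    have hdiff : (Γ \ {γ}).ncard = Γ.ncard - 1 := Set.ncard_sdiff_singleton_of_mem hγ
    omega

end Lines

section Main

variable [Finite Ω]

/-- enlarge a Jordan set until its complement has two points -/
theorem exists_pair (hprim : IsPreprimitive G Ω)
    (h2 : ∀ a b c d : Ω, a ≠ b → c ≠ d → ∃ g : G, g • a = c ∧ g • b = d)
    (Γ : Set Ω) (hJ : IsJ G Γ) (hm : 2 ≤ Γ.ncard) (hsize : Γ.ncard ≤ Γᶜ.ncard) :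
    ∀ d : ℕ, ∀ Γ' : Set Ω, IsJ G Γ' → 2 ≤ Γ'.ncard → 2 ≤ Γ'ᶜ.ncard → Γ'ᶜ.ncard = d →
      ∃ α β : Ω, α ≠ β ∧ IsJ G ({α, β}ᶜ : Set Ω) := by
  intro d
  induction d using Nat.strong_induction_on with
  | _ d ih =>
    intro Γ' hJ' hm' hc' hd
    by_cases hd2 : d = 2
    · rw [hd2, Set.ncard_eq_two] at hd
      obtain ⟨α, β, hne, hαβ⟩ := hd
      refine ⟨α, β, hne, ?_⟩
      rw [← hαβ, compl_compl]
      exact hJ'
    · have hd3 : 3 ≤ Γ'ᶜ.ncard := by omega
      by_cases hex : ∃ g : G, (g • Γ' ∩ Γ').Nonempty ∧ g • Γ' ≠ Γ' ∧ 2 ≤ (g • Γ' ∪ Γ')ᶜ.ncard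
      · obtain ⟨g, hne, hneq, hc2⟩ := hex
        have hJ'' : IsJ G (g • Γ' ∪ Γ') := (hJ'.smul g).union hJ' hne
        have hsub : ¬ g • Γ' ⊆ Γ' := by
          intro hsub
          apply hneq
          exact Set.eq_of_subset_of_ncard_le hsub (by rw [Set.ncard_smul_set])
        obtain ⟨x, hx1, hx2⟩ := Set.not_subset.mp hsub
        have hlt : (g • Γ' ∪ Γ')ᶜ.ncard < Γ'ᶜ.ncard := by
          refine Set.ncard_lt_ncard ⟨Set.compl_subset_compl.mpr Set.subset_union_right, ?_⟩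
            (Set.toFinite _)
          intro hle
          have : x ∈ (g • Γ' ∪ Γ')ᶜ := hle hx2
          exact this (Or.inl hx1)
        refine ih _ (hd ▸ hlt) (g • Γ' ∪ Γ') hJ'' ?_ hc2 rfl
        exact hm'.trans (Set.ncard_le_ncard Set.subset_union_right)
      · exfalso
        have hT0 : ∀ g : G, (g • Γ' ∩ Γ').Nonempty → g • Γ' ≠ Γ' → (g • Γ'ᶜ ∩ Γ'ᶜ).ncard ≤ 1 := by
          intro g h1 h2'
          by_contra hcon
          apply hex
          refine ⟨g, h1, h2', ?_⟩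
          rw [Set.compl_union, ← Set.smul_set_compl]
          omega
        have hT : ∀ g : G, g • Γ'ᶜ = Γ'ᶜ ∨ g • Γ'ᶜ ∪ Γ'ᶜ = Set.univ ∨ (g • Γ'ᶜ ∩ Γ'ᶜ).ncard ≤ 1 := by
          intro g
          by_cases h1 : g • Γ' = Γ'
          · left; rw [Set.smul_set_compl, h1]
          · by_cases h2' : (g • Γ' ∩ Γ').Nonempty
            · right; right; exact hT0 g h2' h1
            · right; left
              rw [Set.not_nonempty_iff_eq_empty] at h2'
              rw [Set.smul_set_compl, ← Set.compl_inter, h2', Set.compl_empty]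
        have hkn : 2 * Γ'ᶜ.ncard ≤ Nat.card Ω := by
          have hnb : ¬ IsBlock G Γ' := by
            intro hb
            rcases hprim.isTrivialBlock_of_isBlock hb with h | h
            · have := (Set.ncard_le_one_iff_subsingleton).mpr h
              omega
            · rw [h, Set.compl_univ, Set.ncard_empty] at hc'
              omega
          rw [isBlock_iff_smul_eq_or_disjoint] at hnb
          simp only [not_forall, not_or] at hnb
          obtain ⟨g, hg1, hg2⟩ := hnb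
          rw [Set.not_disjoint_iff_nonempty_inter] at hg2
          have h3 := hT0 g hg2 hg1
          have h4 : g • Γ'ᶜ ∪ Γ'ᶜ ≠ Set.univ := by
            rw [Set.smul_set_compl, ← Set.compl_inter]
            intro h
            obtain ⟨w, hw⟩ := hg2
            have : w ∈ (g • Γ' ∩ Γ')ᶜ := h ▸ Set.mem_univ w
            exact this hw
          have h5 := Set.ncard_lt_card h4
          have h6 := Set.ncard_union_add_ncard_inter (g • Γ'ᶜ) Γ'ᶜ
          rw [Set.ncard_smul_set] at h6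
          omega
        exact line_contra Γ'ᶜ h2 hd3 hkn hT Γ hJ hm hsize

theorem marggraf (hprim : IsPreprimitive G Ω) (Γ : Set Ω) (h1 : 1 < Γ.ncard)
    (h2 : 2 * Γ.ncard ≤ Nat.card Ω) (htr : IsJ G Γ) : IsMultiplyPretransitive G Ω 3 := by
  have hsum := Set.ncard_add_ncard_compl Γ
  -- 2-transitivity from Jordan's theorem
  have h2t : IsMultiplyPretransitive G Ω 2 := by
    refine hprim.is_two_pretransitive (s := Γᶜ) (n := Γᶜ.ncard - 1) (by omega) (by omega) ?_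
    constructor
    rintro ⟨x, hx⟩ ⟨y, hy⟩
    rw [SubMulAction.mem_ofFixingSubgroup_iff, Set.notMem_compl_iff] at hx hy
    obtain ⟨g, hg1, hg2⟩ := htr x hx y hy
    refine ⟨⟨g, ?_⟩, ?_⟩
    · rw [mem_fixingSubgroup_iff]
      intro z hz
      exact hg1 z hz
    · apply Subtype.ext
      exact hg2
  have h2' : ∀ a b c d : Ω, a ≠ b → c ≠ d → ∃ g : G, g • a = c ∧ g • b = d := by
    intro a b c d hab hcd
    exact (is_two_pretransitive_iff.mp h2t) hab hcd
  obtain ⟨α, β, hαβ, hJ⟩ := exists_pair hprim h2' Γ htr (by omega) (by omega) _ Γ htr (by omega)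
    (by omega) rfl
  rw [isMultiplyPretransitive_iff]
  intro x y
  have hx01 : x 0 ≠ x 1 := fun h => by simpa using x.injective h
  have hx02 : x 0 ≠ x 2 := fun h => by simpa using x.injective h
  have hx12 : x 1 ≠ x 2 := fun h => by simpa using x.injective h
  have hy01 : y 0 ≠ y 1 := fun h => by simpa using y.injective h
  have hy02 : y 0 ≠ y 2 := fun h => by simpa using y.injective h
  have hy12 : y 1 ≠ y 2 := fun h => by simpa using y.injective h
  obtain ⟨g1, hg10, hg11⟩ := h2' (x 0) (x 1) α β hx01 hαβ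
  obtain ⟨g2, hg20, hg21⟩ := h2' (y 0) (y 1) α β hy01 hαβ
  have hmem1 : g1 • x 2 ∈ ({α, β}ᶜ : Set Ω) := by
    simp only [Set.mem_compl_iff, Set.mem_insert_iff, Set.mem_singleton_iff, not_or]
    refine ⟨?_, ?_⟩
    · rw [← hg10]; intro h; exact hx02 (smul_left_cancel _ h).symm
    · rw [← hg11]; intro h; exact hx12 (smul_left_cancel _ h).symm
  have hmem2 : g2 • y 2 ∈ ({α, β}ᶜ : Set Ω) := by
    simp only [Set.mem_compl_iff, Set.mem_insert_iff, Set.mem_singleton_iff, not_or]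
    refine ⟨?_, ?_⟩
    · rw [← hg20]; intro h; exact hy02 (smul_left_cancel _ h).symm
    · rw [← hg21]; intro h; exact hy12 (smul_left_cancel _ h).symm
  obtain ⟨h, hfix, hmove⟩ := hJ _ hmem1 _ hmem2
  have hfα : h • α = α := hfix α (by simp)
  have hfβ : h • β = β := hfix β (by simp)
  refine ⟨g2⁻¹ * h * g1, ?_⟩
  ext i
  change (g2⁻¹ * h * g1) • x i = y i
  fin_cases i
  · simp only [Fin.zero_eta, Fin.isValue]
    rw [mul_smul, mul_smul, hg10, hfα, inv_smul_eq_iff, hg20]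
  · simp only [Fin.mk_one, Fin.isValue]
    rw [mul_smul, mul_smul, hg11, hfβ, inv_smul_eq_iff, hg21]
  · simp only [Fin.reduceFinMk, Fin.isValue]
    rw [mul_smul, mul_smul, hmove, inv_smul_eq_iff]

end Main

end Cfsg.Agent.Lib.Helper8.Marggraf
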