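import Cfsg.Agent.Lib.Helper8.McLCentChk
import Cfsg.Agent.Lib.Lead.McL.Out

/-!
# The centraliser of an involution of the McLaughlin group on 275 points

`z1` is an involution with 35 fixed points; its centraliser in `P` is the group `H` generated by `c1` and `c2`, of
order 40320: the lower bound comes from a chain of partial transversals, the upper bound from a tight chain of `P`
whose base points are fixed points of `z1`.
-/

set_option autoImplicit false

namespace Cfsg.Agent.Lib.Helper8.McLCent

open Cfsg Cfsg.Agent.McLP Cfsg.Agent.J3O Cfsg.Agent.PG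

/-- the generators of the centraliser of `z1`, and their inverses -/
noncomputable def c1 : ↥P := reg slpC (idxC.getD 0 0)
noncomputable def c2 : ↥P := reg slpC (idxC.getD 1 0)
noncomputable def c1i : ↥P := reg slpC (idxC.getD 2 0)
noncomputable def c2i : ↥P := reg slpC (idxC.getD 3 0)

theorem enc_cs : enc 275 c1.1 = cc1 ∧ enc 275 c2.1 = cc2 ∧ enc 275 c1i.1 = cc1i ∧ enc 275 c2i.1 = cc2i := by
  have h := chk_cs
  rw [runK_eq] at h
  have e : idxC = [idxC.getD 0 0, idxC.getD 1 0, idxC.getD 2 0, idxC.getD 3 0] := by decide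
  rw [e] at h
  simp only [List.map_cons, List.map_nil, List.cons.injEq, and_true] at h
  obtain ⟨h0, h1, h2, h3⟩ := h
  exact ⟨(enc_reg _ _).trans h0, (enc_reg _ _).trans h1, (enc_reg _ _).trans h2, (enc_reg _ _).trans h3⟩

theorem mul_eq_one_of_code {x y : ↥P} {c d : ℕ} (hx : enc 275 x.1 = c) (hy : enc 275 y.1 = d)
    (h : pmul 275 c d = pone 275) : x * y = 1 := by
  apply (enc_eq_pone_iff n_le (x * y)).1
  rw [Subgroup.coe_mul, ← pmul_enc n_le, hx, hy, h]

theorem comm_of_code {x y : ↥P} {c d : ℕ} (hx : enc 275 x.1 = c) (hy : enc 275 y.1 = d)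
    (h : pmul 275 c d = pmul 275 d c) : x * y = y * x := by
  apply Subtype.ext
  apply enc_injective n_le
  rw [Subgroup.coe_mul, Subgroup.coe_mul, ← pmul_enc n_le, ← pmul_enc n_le, hx, hy, h]

theorem c1i_eq : c1i = c1⁻¹ := eq_inv_of_mul_eq_one_right (mul_eq_one_of_code enc_cs.1 enc_cs.2.2.1 chk_comm.2.2.1)
theorem c2i_eq : c2i = c2⁻¹ := eq_inv_of_mul_eq_one_right (mul_eq_one_of_code enc_cs.2.1 enc_cs.2.2.2 chk_comm.2.2.2)

theorem enc_c1i : enc 275 (c1⁻¹).1 = cc1i := by rw [← c1i_eq]; exact enc_cs.2.2.1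
theorem enc_c2i : enc 275 (c2⁻¹).1 = cc2i := by rw [← c2i_eq]; exact enc_cs.2.2.2

theorem c1_comm : c1 * z1 = z1 * c1 := comm_of_code enc_cs.1 enc_zs.1 chk_comm.1
theorem c2_comm : c2 * z1 = z1 * c2 := comm_of_code enc_cs.2.1 enc_zs.1 chk_comm.2.1

/-! ### the centraliser -/

/-- the group generated by `c1` and `c2` -/
noncomputable def H : Subgroup (Equiv.Perm (Fin 275)) := Subgroup.closure {c1.1, c2.1}

theorem H_le : H ≤ P := by
  rw [H, Subgroup.closure_le]
  intro g hg
  rcases hg with rfl | rfl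
  · exact c1.2
  · exact c2.2

theorem H_le_cent : H ≤ Subgroup.centralizer {z1.1} := by
  rw [H, Subgroup.closure_le]
  intro g hg
  rw [SetLike.mem_coe, Subgroup.mem_centralizer_iff]
  intro h hh
  rw [Set.mem_singleton_iff] at hh
  subst hh
  rcases hg with rfl | rfl
  · exact (congrArg Subtype.val c1_comm).symm
  · exact (congrArg Subtype.val c2_comm).symm

theorem c1_memH : c1.1 ∈ H := Subgroup.subset_closure (Set.mem_insert _ _)
theorem c2_memH : c2.1 ∈ H := Subgroup.subset_closure (Set.mem_insert_of_mem _ rfl)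

/-- the generators, in the group `H` -/
noncomputable def c1H : ↥H := ⟨c1.1, c1_memH⟩
noncomputable def c2H : ↥H := ⟨c2.1, c2_memH⟩

theorem enc_c1H : enc 275 c1H.1 = cc1 := enc_cs.1
theorem enc_c2H : enc 275 c2H.1 = cc2 := enc_cs.2.1
theorem enc_c1Hi : enc 275 (c1H⁻¹).1 = cc1i := enc_c1i
theorem enc_c2Hi : enc 275 (c2H⁻¹).1 = cc2i := enc_c2i

/-- the base registers of `H` -/
noncomputable def baseH : List ↥H := [c2H⁻¹, c2H, c1H⁻¹, c1H]

theorem baseH_ok : RegsOK H baseH [cc2i, cc2, cc1i, cc1] :=
  List.Forall₂.cons enc_c2Hi (List.Forall₂.cons enc_c2H (List.Forall₂.cons enc_c1Hi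
    (List.Forall₂.cons enc_c1H List.Forall₂.nil)))

/-- the element of a register of a program from the base registers of `H` -/
noncomputable def regH (prog : List (ℕ × ℕ)) (i : ℕ) : ↥H := (runM prog baseH).getD i 1

theorem enc_regH (prog : List (ℕ × ℕ)) (i : ℕ) :
    enc 275 (regH prog i).1 = (run 275 prog [cc2i, cc2, cc1i, cc1]).getD i (pone 275) :=
  (baseH_ok.run n_le (is := prog)).getD i

/-- the lower bound from the chain -/
theorem card_H_ge : 40320 ≤ Nat.card H := by
  have hchk := chk_chainH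
  rw [runK_eq] at hchk
  have := chain_sound n_le H chainHBase [] _ hchk (by
    intro U hU c hc
    rw [List.mem_map] at hU
    obtain ⟨l, -, rfl⟩ := hU
    rw [List.mem_map] at hc
    obtain ⟨i, -, rfl⟩ := hc
    exact ⟨(regH chainHProg i).1, (regH chainHProg i).2, enc_regH chainHProg i⟩)
  rw [fixer_nil] at this
  refine le_trans (le_of_eq ?_) this
  rw [List.map_map]
  have e : (List.length ∘ fun l : List ℕ =>
      l.map fun i => (run 275 chainHProg [cc2i, cc2, cc1i, cc1]).getD i (pone 275)) = List.length := by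
    funext l
    simp
  rw [e, chk_prodH]

/-- the upper bound from the tight chain -/
theorem card_cent_le : Nat.card ↥(P ⊓ Subgroup.centralizer {z1.1}) ≤ 40320 := by
  have hchk := chk_chainT
  rw [runK_eq] at hchk
  have hlen : ((chainTIdx.map fun l : List ℕ =>
      l.map fun i => (run 275 chainTProg [cbi, cb, cai, ca]).getD i (pone 275)).map List.length).prod =
      898128000 := by
    rw [List.map_map]
    have e : (List.length ∘ fun l : List ℕ =>
        l.map fun i => (run 275 chainTProg [cbi, cb, cai, ca]).getD i (pone 275)) = List.length := by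
      funext l
      simp
    rw [e, chk_prodT]
  have hmem : ∀ U ∈ (chainTIdx.map fun l : List ℕ =>
      l.map fun i => (run 275 chainTProg [cbi, cb, cai, ca]).getD i (pone 275)), ∀ c ∈ U,
      ∃ g ∈ P, enc 275 g = c := by
    intro U hU c hc
    rw [List.mem_map] at hU
    obtain ⟨l, -, rfl⟩ := hU
    rw [List.mem_map] at hc
    obtain ⟨i, -, rfl⟩ := hc
    exact ⟨(reg chainTProg i).1, (reg chainTProg i).2, enc_reg chainTProg i⟩
  generalize (chainTIdx.map fun l : List ℕ =>
      l.map fun i => (run 275 chainTProg [cbi, cb, cai, ca]).getD i (pone 275)) = Us at hchk hlen hmem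
  rw [Bool.and_eq_true] at hchk
  obtain ⟨h1, h2⟩ := hchk
  have h3 := card_centralizer_le n_le P z1.1 chainTBase [] Us h1 hmem (by rw [fixer_nil, hlen, card_P])
  rw [fixer_nil, enc_zs.1] at h3
  have h4 : centBound cz chainTBase Us ≤ 40320 := Nat.le_of_ble_eq_true h2
  exact le_trans h3 h4

theorem H_eq : H = P ⊓ Subgroup.centralizer {z1.1} := by
  apply Subgroup.eq_of_le_of_card_ge (le_inf H_le H_le_cent)
  exact le_trans card_cent_le card_H_ge

/-- **The centraliser of `z1` has order 40320.** -/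
theorem card_H : Nat.card H = 40320 :=
  le_antisymm (by rw [H_eq]; exact card_cent_le) card_H_ge

/-- an element of `P` commuting with `z1` lies in `H` -/
theorem mem_H_of_comm (y : ↥P) (hy : y * z1 = z1 * y) : y.1 ∈ H := by
  rw [H_eq]
  refine Subgroup.mem_inf.2 ⟨y.2, Subgroup.mem_centralizer_iff.2 ?_⟩
  intro h hh
  rw [Set.mem_singleton_iff] at hh
  subst hh
  exact (congrArg Subtype.val hy).symm

end Cfsg.Agent.Lib.Helper8.McLCent
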