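import Mathlib

set_option autoImplicit false

/-!
Counting in Steiner systems `S(t, t+1, v)` with a closed subset (helper8, for Marggraf's theorem).
-/

namespace Cfsg.Agent.Lib.Helper8.MgCount

open Finset

variable {α : Type*} [DecidableEq α]

/-- blocks of size `t+1` inside `V`, each `t`-subset of `V` in exactly one block -/
structure IsSt (t : ℕ) (V : Finset α) (𝓕 : Finset (Finset α)) : Prop where
  sub : ∀ F ∈ 𝓕, F ⊆ V
  card : ∀ F ∈ 𝓕, F.card = t + 1
  ex : ∀ Q, Q ⊆ V → Q.card = t → ∃ F ∈ 𝓕, Q ⊆ F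
  uniq : ∀ Q : Finset α, Q.card = t → ∀ F₁ ∈ 𝓕, ∀ F₂ ∈ 𝓕, Q ⊆ F₁ → Q ⊆ F₂ → F₁ = F₂

/-- `Δ` is closed: a block with at least `t` points in `Δ` lies in `Δ` -/
def IsCl (t : ℕ) (𝓕 : Finset (Finset α)) (Δ : Finset α) : Prop :=
  ∀ F ∈ 𝓕, t ≤ (F ∩ Δ).card → F ⊆ Δ

/-- the derived family at a point -/
def derived (𝓕 : Finset (Finset α)) (δ : α) : Finset (Finset α) :=
  (𝓕.filter (fun F => δ ∈ F)).image (fun F => F.erase δ)

theorem mem_derived {𝓕 : Finset (Finset α)} {δ : α} {F' : Finset α} :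
    F' ∈ derived 𝓕 δ ↔ ∃ F ∈ 𝓕, δ ∈ F ∧ F.erase δ = F' := by
  unfold derived
  simp only [mem_image, mem_filter]
  constructor
  · rintro ⟨F, ⟨hF, hδ⟩, rfl⟩
    exact ⟨F, hF, hδ, rfl⟩
  · rintro ⟨F, hF, hδ, rfl⟩
    exact ⟨F, ⟨hF, hδ⟩, rfl⟩

theorem derived_isSt {t : ℕ} {V : Finset α} {𝓕 : Finset (Finset α)} (h : IsSt (t + 1) V 𝓕)
    {δ : α} (hδ : δ ∈ V) : IsSt t (V.erase δ) (derived 𝓕 δ) := by
  refine ⟨?_, ?_, ?_, ?_⟩
  · intro F' hF'
    obtain ⟨F, hF, hδF, rfl⟩ := mem_derived.1 hF'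
    exact erase_subset_erase δ (h.sub F hF)
  · intro F' hF'
    obtain ⟨F, hF, hδF, rfl⟩ := mem_derived.1 hF'
    rw [card_erase_of_mem hδF, h.card F hF]
    rfl
  · intro Q hQ hQc
    have hδQ : δ ∉ Q := fun hh => notMem_erase δ V (hQ hh)
    have h1 : insert δ Q ⊆ V := by
      intro x hx
      rcases mem_insert.1 hx with rfl | hx
      · exact hδ
      · exact erase_subset δ V (hQ hx)
    have h2 : (insert δ Q).card = t + 1 := by rw [card_insert_of_notMem hδQ, hQc]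
    obtain ⟨F, hF, hQF⟩ := h.ex _ h1 h2
    have hδF : δ ∈ F := hQF (mem_insert_self δ Q)
    refine ⟨F.erase δ, mem_derived.2 ⟨F, hF, hδF, rfl⟩, ?_⟩
    intro x hx
    refine mem_erase.2 ⟨?_, hQF (mem_insert_of_mem hx)⟩
    rintro rfl
    exact hδQ hx
  · intro Q hQc F₁' hF₁' F₂' hF₂' hQ1 hQ2
    obtain ⟨F₁, hF₁, hδ1, rfl⟩ := mem_derived.1 hF₁'
    obtain ⟨F₂, hF₂, hδ2, rfl⟩ := mem_derived.1 hF₂'
    have hδQ : δ ∉ Q := fun hh => notMem_erase δ F₁ (hQ1 hh)
    have h2 : (insert δ Q).card = t + 1 := by rw [card_insert_of_notMem hδQ, hQc]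
    have hs1 : insert δ Q ⊆ F₁ := by
      intro x hx
      rcases mem_insert.1 hx with rfl | hx
      · exact hδ1
      · exact erase_subset δ F₁ (hQ1 hx)
    have hs2 : insert δ Q ⊆ F₂ := by
      intro x hx
      rcases mem_insert.1 hx with rfl | hx
      · exact hδ2
      · exact erase_subset δ F₂ (hQ2 hx)
    rw [h.uniq _ h2 F₁ hF₁ F₂ hF₂ hs1 hs2]

theorem derived_isCl {t : ℕ} {𝓕 : Finset (Finset α)} {Δ : Finset α} (h : IsCl (t + 1) 𝓕 Δ)
    {δ : α} (hδ : δ ∈ Δ) : IsCl t (derived 𝓕 δ) (Δ.erase δ) := by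
  intro F' hF' hc
  obtain ⟨F, hF, hδF, rfl⟩ := mem_derived.1 hF'
  have h1 : F.erase δ ∩ Δ.erase δ = (F ∩ Δ).erase δ := by
    ext x
    simp only [mem_inter, mem_erase]
    tauto
  have h2 : δ ∈ F ∩ Δ := mem_inter.2 ⟨hδF, hδ⟩
  rw [h1, card_erase_of_mem h2] at hc
  have h3 : 0 < (F ∩ Δ).card := card_pos.2 ⟨δ, h2⟩
  have h4 : F ⊆ Δ := h F hF (by omega)
  exact erase_subset_erase δ h4

theorem card_disjoint_derived (𝓕 : Finset (Finset α)) (Δ : Finset α) {δ : α} (hδ : δ ∈ Δ) :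
    ((derived 𝓕 δ).filter (fun F' => Disjoint F' (Δ.erase δ))).card
      = (𝓕.filter (fun F => F ∩ Δ = {δ})).card := by
  have himg : (derived 𝓕 δ).filter (fun F' => Disjoint F' (Δ.erase δ))
      = (𝓕.filter (fun F => F ∩ Δ = {δ})).image (fun F => F.erase δ) := by
    ext F'
    simp only [mem_filter, mem_image]
    constructor
    · rintro ⟨hF', hd⟩
      obtain ⟨F, hF, hδF, rfl⟩ := mem_derived.1 hF'
      refine ⟨F, ⟨hF, ?_⟩, rfl⟩
      ext x
      simp only [mem_inter, mem_singleton]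
      constructor
      · rintro ⟨hxF, hxΔ⟩
        by_contra hne
        exact (disjoint_left.1 hd) (mem_erase.2 ⟨hne, hxF⟩) (mem_erase.2 ⟨hne, hxΔ⟩)
      · rintro rfl
        exact ⟨hδF, hδ⟩
    · rintro ⟨F, ⟨hF, hFΔ⟩, rfl⟩
      have hδF : δ ∈ F := by
        have : δ ∈ F ∩ Δ := by rw [hFΔ]; exact mem_singleton_self δ
        exact (mem_inter.1 this).1
      refine ⟨mem_derived.2 ⟨F, hF, hδF, rfl⟩, ?_⟩
      rw [disjoint_left]
      intro x hx1 hx2
      have hx : x ∈ F ∩ Δ := mem_inter.2 ⟨(mem_erase.1 hx1).2, (mem_erase.1 hx2).2⟩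
      rw [hFΔ, mem_singleton] at hx
      exact (mem_erase.1 hx1).1 hx
  rw [himg, card_image_of_injOn]
  intro F₁ hF₁ F₂ hF₂ h12
  have h1 : δ ∈ F₁ := by
    have : δ ∈ F₁ ∩ Δ := by rw [(mem_filter.1 hF₁).2]; exact mem_singleton_self δ
    exact (mem_inter.1 this).1
  have h2 : δ ∈ F₂ := by
    have : δ ∈ F₂ ∩ Δ := by rw [(mem_filter.1 hF₂).2]; exact mem_singleton_self δ
    exact (mem_inter.1 this).1
  have h12' : F₁.erase δ = F₂.erase δ := h12
  rw [← insert_erase h1, ← insert_erase h2, h12']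

theorem count_subsets {t : ℕ} {V : Finset α} {𝓕 : Finset (Finset α)} (h : IsSt (t + 1) V 𝓕)
    (Δ : Finset α) :
    (V \ Δ).card.choose (t + 1) = ∑ F ∈ 𝓕, (F \ Δ).card.choose (t + 1) := by
  have key := sum_card_bipartiteAbove_eq_sum_card_bipartiteBelow
    (s := (V \ Δ).powersetCard (t + 1)) (t := 𝓕) (fun (Q : Finset α) (F : Finset α) => Q ⊆ F)
  have hL : ∀ Q ∈ (V \ Δ).powersetCard (t + 1),
      (bipartiteAbove (fun (Q : Finset α) (F : Finset α) => Q ⊆ F) 𝓕 Q).card = 1 := by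
    intro Q hQ
    rw [mem_powersetCard] at hQ
    obtain ⟨F, hF, hQF⟩ := h.ex Q (hQ.1.trans sdiff_subset) hQ.2
    rw [card_eq_one]
    refine ⟨F, ?_⟩
    ext F'
    simp only [mem_bipartiteAbove, mem_singleton]
    constructor
    · rintro ⟨hF', hQF'⟩
      exact h.uniq Q hQ.2 F' hF' F hF hQF' hQF
    · rintro rfl
      exact ⟨hF, hQF⟩
  have hR : ∀ F ∈ 𝓕, (bipartiteBelow (fun (Q : Finset α) (F : Finset α) => Q ⊆ F)
      ((V \ Δ).powersetCard (t + 1)) F).card = (F \ Δ).card.choose (t + 1) := by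
    intro F hF
    have : bipartiteBelow (fun (Q : Finset α) (F : Finset α) => Q ⊆ F)
        ((V \ Δ).powersetCard (t + 1)) F = (F \ Δ).powersetCard (t + 1) := by
      ext Q
      simp only [mem_bipartiteBelow, mem_powersetCard]
      constructor
      · rintro ⟨⟨hQ1, hQ2⟩, hQF⟩
        refine ⟨?_, hQ2⟩
        intro x hx
        exact mem_sdiff.2 ⟨hQF hx, (mem_sdiff.1 (hQ1 hx)).2⟩
      · rintro ⟨hQ1, hQ2⟩
        refine ⟨⟨?_, hQ2⟩, hQ1.trans sdiff_subset⟩
        intro x hx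
        exact mem_sdiff.2 ⟨h.sub F hF (mem_sdiff.1 (hQ1 hx)).1, (mem_sdiff.1 (hQ1 hx)).2⟩
    rw [this, card_powersetCard]
  rw [sum_congr rfl hL, sum_congr rfl hR] at key
  rw [← key, sum_const, card_powersetCard, smul_eq_mul, mul_one]

theorem choose_sdiff {t : ℕ} {V : Finset α} {𝓕 : Finset (Finset α)} (h : IsSt (t + 1) V 𝓕)
    (Δ : Finset α) {F : Finset α} (hF : F ∈ 𝓕) :
    (F \ Δ).card.choose (t + 1) = (if Disjoint F Δ then t + 2 else 0)
      + (if (F ∩ Δ).card = 1 then 1 else 0) := by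
  have hc := h.card F hF
  have hsplit := card_sdiff_add_card_inter F Δ
  by_cases hd : Disjoint F Δ
  · have h0 : F ∩ Δ = ∅ := disjoint_iff_inter_eq_empty.1 hd
    rw [if_pos hd, h0, card_empty, if_neg (by norm_num)]
    rw [h0, card_empty, add_zero] at hsplit
    rw [hsplit, hc]
    simp
  · rw [if_neg hd]
    have hpos : 0 < (F ∩ Δ).card := by
      rw [card_pos]
      by_contra hne
      rw [not_nonempty_iff_eq_empty] at hne
      exact hd (disjoint_iff_inter_eq_empty.2 hne)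
    by_cases h1 : (F ∩ Δ).card = 1
    · rw [if_pos h1]
      have : (F \ Δ).card = t + 1 := by omega
      rw [this]
      simp
    · rw [if_neg h1]
      have : (F \ Δ).card < t + 1 := by omega
      rw [Nat.choose_eq_zero_of_lt this]

theorem card_inter_eq_one_sum (𝓕 : Finset (Finset α)) (Δ : Finset α) :
    ∑ F ∈ 𝓕, (if (F ∩ Δ).card = 1 then 1 else 0)
      = ∑ δ ∈ Δ, (𝓕.filter (fun F => F ∩ Δ = {δ})).card := by
  have key := sum_card_bipartiteAbove_eq_sum_card_bipartiteBelow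
    (s := Δ) (t := 𝓕) (fun (δ : α) (F : Finset α) => F ∩ Δ = {δ})
  have hR : ∀ F ∈ 𝓕, (bipartiteBelow (fun (δ : α) (F : Finset α) => F ∩ Δ = {δ}) Δ F).card
      = (if (F ∩ Δ).card = 1 then 1 else 0) := by
    intro F _
    by_cases h1 : (F ∩ Δ).card = 1
    · rw [if_pos h1]
      obtain ⟨δ, hδ⟩ := card_eq_one.1 h1
      rw [card_eq_one]
      refine ⟨δ, ?_⟩
      ext x
      simp only [mem_bipartiteBelow, mem_singleton]
      constructor
      · rintro ⟨_, hx⟩
        rw [hδ] at hx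
        exact (singleton_injective hx).symm
      · rintro rfl
        refine ⟨?_, hδ⟩
        have : x ∈ F ∩ Δ := by rw [hδ]; exact mem_singleton_self x
        exact (mem_inter.1 this).2
    · rw [if_neg h1, card_eq_zero]
      ext x
      simp only [mem_bipartiteBelow, notMem_empty, iff_false, not_and]
      intro _ hx
      apply h1
      rw [hx, card_singleton]
  have hL : ∀ δ ∈ Δ, (bipartiteAbove (fun (δ : α) (F : Finset α) => F ∩ Δ = {δ}) 𝓕 δ).card
      = (𝓕.filter (fun F => F ∩ Δ = {δ})).card := by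
    intro δ _
    rfl
  rw [sum_congr rfl hL, sum_congr rfl hR] at key
  exact key.symm

theorem main_count {t : ℕ} {V : Finset α} {𝓕 : Finset (Finset α)} (h : IsSt (t + 1) V 𝓕)
    (Δ : Finset α) :
    (V \ Δ).card.choose (t + 1) = (t + 2) * (𝓕.filter (fun F => Disjoint F Δ)).card
      + ∑ δ ∈ Δ, (𝓕.filter (fun F => F ∩ Δ = {δ})).card := by
  rw [count_subsets h Δ, sum_congr rfl (fun F hF => choose_sdiff h Δ hF), sum_add_distrib,
    card_inter_eq_one_sum, ← sum_filter, sum_const, smul_eq_mul, mul_comm]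

theorem choose_identity_A (g t : ℕ) :
    ((t : ℤ) + 1) * (g.choose (t + 1) : ℤ) = ((g : ℤ) - t) * (g.choose t : ℤ) := by
  by_cases htg : t ≤ g
  · have h := Nat.choose_succ_right_eq g t
    have h2 : ((g.choose (t + 1) * (t + 1) : ℕ) : ℤ) = ((g.choose t * (g - t) : ℕ) : ℤ) := by
      rw [h]
    push_cast [Nat.cast_sub htg] at h2
    linarith
  · push Not at htg
    rw [Nat.choose_eq_zero_of_lt htg, Nat.choose_eq_zero_of_lt (Nat.lt_succ_of_lt htg)]
    simp

theorem choose_identity_B (w t : ℕ) :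
    (w : ℤ) * ((w - 1).choose t : ℤ) = ((t : ℤ) + 1) * (w.choose (t + 1) : ℤ) := by
  rcases w with _ | k
  · simp
  · have h := Nat.add_one_mul_choose_eq k t
    have h2 : (((k + 1) * k.choose t : ℕ) : ℤ) = (((k + 1).choose (t + 1) * (t + 1) : ℕ) : ℤ) := by
      rw [h]
    push_cast at h2
    simp only [Nat.add_sub_cancel]
    push_cast
    linarith

theorem steiner_count (t : ℕ) : ∀ (V : Finset α) (𝓕 : Finset (Finset α)) (Δ : Finset α),
    IsSt t V 𝓕 → Δ ⊆ V → IsCl t 𝓕 Δ →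
    ((V.card : ℤ) - t) * ((t : ℤ) + 1) * ((𝓕.filter (fun F => Disjoint F Δ)).card : ℤ)
      = (((V \ Δ).card : ℤ) - t) * ((V \ Δ).card.choose t : ℤ)
        - (-1) ^ t * ((V \ Δ).card : ℤ) * (Δ.card.choose t : ℤ) := by
  induction t with
  | zero =>
    intro V 𝓕 Δ h hΔ hcl
    have h0 : 𝓕.filter (fun F => Disjoint F Δ) = ∅ := by
      rw [filter_eq_empty_iff]
      intro F hF hd
      have h1 : F ⊆ Δ := hcl F hF (Nat.zero_le _)
      have h2 : F.card = 1 := h.card F hF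
      obtain ⟨x, hx⟩ := card_pos.1 (by omega : 0 < F.card)
      exact (disjoint_left.1 hd) hx (h1 hx)
    rw [h0]
    simp
  | succ t ih =>
    intro V 𝓕 Δ h hΔ hcl
    set g := (V \ Δ).card with hg
    set w := Δ.card with hw
    have hv : (V.card : ℤ) = g + w := by
      have := card_sdiff_add_card_eq_card hΔ
      rw [← this]
      push_cast
      rfl
    -- the derived counts
    have hder : ∀ δ ∈ Δ, ((V.card : ℤ) - 1 - t) * ((t : ℤ) + 1)
        * ((𝓕.filter (fun F => F ∩ Δ = {δ})).card : ℤ)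
        = ((g : ℤ) - t) * (g.choose t : ℤ) - (-1) ^ t * (g : ℤ) * ((w - 1).choose t : ℤ) := by
      intro δ hδ
      have hδV : δ ∈ V := hΔ hδ
      have h1 := ih (V.erase δ) (derived 𝓕 δ) (Δ.erase δ) (derived_isSt h hδV)
        (erase_subset_erase δ hΔ) (derived_isCl hcl hδ)
      have h2 : V.erase δ \ Δ.erase δ = V \ Δ := by
        ext x
        simp only [mem_sdiff, mem_erase]
        constructor
        · rintro ⟨⟨hne, hxV⟩, hx⟩
          exact ⟨hxV, fun hxΔ => hx ⟨hne, hxΔ⟩⟩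
        · rintro ⟨hxV, hxΔ⟩
          refine ⟨⟨?_, hxV⟩, fun hx => hxΔ hx.2⟩
          rintro rfl
          exact hxΔ hδ
      rw [h2, card_disjoint_derived 𝓕 Δ hδ, card_erase_of_mem hδV, card_erase_of_mem hδ] at h1
      have hVpos : 0 < V.card := card_pos.2 ⟨δ, hδV⟩
      have h3 : ((V.card - 1 : ℕ) : ℤ) = (V.card : ℤ) - 1 := by
        rw [Nat.cast_sub hVpos]; simp
      rw [h3] at h1
      exact h1
    have hmc := main_count h Δ
    have hmc' : (g.choose (t + 1) : ℤ) = ((t : ℤ) + 2)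
        * ((𝓕.filter (fun F => Disjoint F Δ)).card : ℤ)
        + ∑ δ ∈ Δ, ((𝓕.filter (fun F => F ∩ Δ = {δ})).card : ℤ) := by
      have : ((g.choose (t + 1) : ℕ) : ℤ) = (((t + 2) * (𝓕.filter (fun F => Disjoint F Δ)).card
        + ∑ δ ∈ Δ, (𝓕.filter (fun F => F ∩ Δ = {δ})).card : ℕ) : ℤ) := by rw [← hmc]
      push_cast at this
      exact this
    -- sum of the derived identities
    have hsum : ((V.card : ℤ) - 1 - t) * ((t : ℤ) + 1)
        * ∑ δ ∈ Δ, ((𝓕.filter (fun F => F ∩ Δ = {δ})).card : ℤ)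
        = (w : ℤ) * (((g : ℤ) - t) * (g.choose t : ℤ)
          - (-1) ^ t * (g : ℤ) * ((w - 1).choose t : ℤ)) := by
      rw [mul_sum, sum_congr rfl hder, sum_const, nsmul_eq_mul]
    have hA := choose_identity_A g t
    have hB := choose_identity_B w t
    set N0 : ℤ := ((𝓕.filter (fun F => Disjoint F Δ)).card : ℤ) with hN0
    set S : ℤ := ∑ δ ∈ Δ, ((𝓕.filter (fun F => F ∩ Δ = {δ})).card : ℤ) with hS
    set c1 : ℤ := (g.choose (t + 1) : ℤ) with hc1
    set c0 : ℤ := (g.choose t : ℤ) with hc0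
    set d1 : ℤ := (w.choose (t + 1) : ℤ) with hd1
    set d0 : ℤ := ((w - 1).choose t : ℤ) with hd0
    set e : ℤ := (-1) ^ t with he
    have he' : (-1 : ℤ) ^ (t + 1) = -e := by rw [pow_succ]; ring
    have htpos : ((t : ℤ) + 1) ≠ 0 := by positivity
    push_cast
    rw [he', hv]
    rw [hv] at hsum
    apply mul_left_cancel₀ htpos
    -- now a polynomial identity
    have e1 : ((t : ℤ) + 1) * ((((g : ℤ) + w) - ((t : ℤ) + 1)) * (((t : ℤ) + 1) + 1) * N0)
        = ((g : ℤ) + w - 1 - t) * ((t : ℤ) + 1) * (c1 - S) := by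
      rw [hmc']; ring
    rw [e1]
    have e2 : ((g : ℤ) + w - 1 - t) * ((t : ℤ) + 1) * (c1 - S)
        = ((g : ℤ) + w - 1 - t) * (((t : ℤ) + 1) * c1)
          - ((g : ℤ) + w - 1 - t) * ((t : ℤ) + 1) * S := by ring
    rw [e2, hsum, hA]
    have e3 : ((t : ℤ) + 1) * (((g : ℤ) - ((t : ℤ) + 1)) * c1 - -e * (g : ℤ) * d1)
        = ((g : ℤ) - t - 1) * (((t : ℤ) + 1) * c1) + e * (g : ℤ) * (((t : ℤ) + 1) * d1) := by ring
    rw [e3, hA, ← hB]
    ring

/-- blocks of size `k` inside `V`, each `j`-subset of `V` in exactly one block -/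
structure IsStk (j k : ℕ) (V : Finset α) (𝓕 : Finset (Finset α)) : Prop where
  sub : ∀ F ∈ 𝓕, F ⊆ V
  card : ∀ F ∈ 𝓕, F.card = k
  ex : ∀ Q, Q ⊆ V → Q.card = j → ∃ F ∈ 𝓕, Q ⊆ F
  uniq : ∀ Q : Finset α, Q.card = j → ∀ F₁ ∈ 𝓕, ∀ F₂ ∈ 𝓕, Q ⊆ F₁ → Q ⊆ F₂ → F₁ = F₂

omit [DecidableEq α] in
theorem IsStk.isSt {j : ℕ} {V : Finset α} {𝓕 : Finset (Finset α)} (h : IsStk j (j + 1) V 𝓕) :
    IsSt j V 𝓕 := ⟨h.sub, h.card, h.ex, h.uniq⟩

/-- the blocks through a `(j-1)`-set partition the remaining points -/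
theorem card_classes {j k : ℕ} {V : Finset α} {𝓕 : Finset (Finset α)} (h : IsStk j k V 𝓕)
    (hj : 1 ≤ j) {S : Finset α} (hSV : S ⊆ V) (hS : S.card = j - 1) :
    (V \ S).card = (k - (j - 1)) * (𝓕.filter (fun F => S ⊆ F)).card := by
  have key := sum_card_bipartiteAbove_eq_sum_card_bipartiteBelow
    (s := V \ S) (t := 𝓕.filter (fun F => S ⊆ F)) (fun (ω : α) (F : Finset α) => ω ∈ F)
  have hL : ∀ ω ∈ V \ S, (bipartiteAbove (fun (ω : α) (F : Finset α) => ω ∈ F)
      (𝓕.filter (fun F => S ⊆ F)) ω).card = 1 := by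
    intro ω hω
    rw [mem_sdiff] at hω
    have hc : (insert ω S).card = j := by rw [card_insert_of_notMem hω.2, hS]; omega
    have hsub : insert ω S ⊆ V := by
      intro x hx
      rcases mem_insert.1 hx with rfl | hx
      · exact hω.1
      · exact hSV hx
    obtain ⟨F, hF, hQF⟩ := h.ex _ hsub hc
    rw [card_eq_one]
    refine ⟨F, ?_⟩
    ext F'
    simp only [mem_bipartiteAbove, mem_filter, mem_singleton]
    constructor
    · rintro ⟨⟨hF', hSF'⟩, hωF'⟩
      refine h.uniq _ hc F' hF' F hF ?_ hQF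
      intro x hx
      rcases mem_insert.1 hx with rfl | hx
      · exact hωF'
      · exact hSF' hx
    · rintro rfl
      exact ⟨⟨hF, fun x hx => hQF (mem_insert_of_mem hx)⟩, hQF (mem_insert_self ω S)⟩
  have hR : ∀ F ∈ 𝓕.filter (fun F => S ⊆ F), (bipartiteBelow (fun (ω : α) (F : Finset α) => ω ∈ F)
      (V \ S) F).card = k - (j - 1) := by
    intro F hF
    rw [mem_filter] at hF
    have : bipartiteBelow (fun (ω : α) (F : Finset α) => ω ∈ F) (V \ S) F = F \ S := by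
      ext x
      simp only [mem_bipartiteBelow, mem_sdiff]
      constructor
      · rintro ⟨⟨_, hxS⟩, hxF⟩
        exact ⟨hxF, hxS⟩
      · rintro ⟨hxF, hxS⟩
        exact ⟨⟨h.sub F hF.1 hxF, hxS⟩, hxF⟩
    rw [this, card_sdiff_of_subset hF.2, h.card F hF.1, hS]
  rw [sum_congr rfl hL, sum_congr rfl hR, sum_const, sum_const, smul_eq_mul, smul_eq_mul,
    mul_one] at key
  rw [key, mul_comm]

/-- through `j-2` points of a closed set and one point outside, every block contains at most one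
further point of the closed set -/
theorem card_le_blocks {j k : ℕ} {V : Finset α} {𝓕 : Finset (Finset α)} (h : IsStk j k V 𝓕)
    (hj : 2 ≤ j) {Δ : Finset α} (hΔ : Δ ⊆ V) (hcl : IsCl j 𝓕 Δ) {S₀ : Finset α} (hS₀ : S₀ ⊆ Δ)
    (hS₀c : S₀.card = j - 2) {γ : α} (hγV : γ ∈ V) (hγ : γ ∉ Δ) :
    (Δ \ S₀).card ≤ (𝓕.filter (fun F => insert γ S₀ ⊆ F)).card := by
  have hγS : γ ∉ S₀ := fun hh => hγ (hS₀ hh)
  have key := sum_card_bipartiteAbove_eq_sum_card_bipartiteBelow
    (s := Δ \ S₀) (t := 𝓕.filter (fun F => insert γ S₀ ⊆ F))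
    (fun (ω : α) (F : Finset α) => ω ∈ F)
  have hL : ∀ ω ∈ Δ \ S₀, (bipartiteAbove (fun (ω : α) (F : Finset α) => ω ∈ F)
      (𝓕.filter (fun F => insert γ S₀ ⊆ F)) ω).card = 1 := by
    intro ω hω
    rw [mem_sdiff] at hω
    have hωγ : ω ≠ γ := by rintro rfl; exact hγ hω.1
    have hωS : ω ∉ insert γ S₀ := by
      intro hh
      rcases mem_insert.1 hh with hh | hh
      · exact hωγ hh
      · exact hω.2 hh
    have hc : (insert ω (insert γ S₀)).card = j := by
      rw [card_insert_of_notMem hωS, card_insert_of_notMem hγS, hS₀c]; omega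
    have hsub : insert ω (insert γ S₀) ⊆ V := by
      intro x hx
      rcases mem_insert.1 hx with rfl | hx
      · exact hΔ hω.1
      · rcases mem_insert.1 hx with rfl | hx
        · exact hγV
        · exact hΔ (hS₀ hx)
    obtain ⟨F, hF, hQF⟩ := h.ex _ hsub hc
    rw [card_eq_one]
    refine ⟨F, ?_⟩
    ext F'
    simp only [mem_bipartiteAbove, mem_filter, mem_singleton]
    constructor
    · rintro ⟨⟨hF', hSF'⟩, hωF'⟩
      refine h.uniq _ hc F' hF' F hF ?_ hQF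
      intro x hx
      rcases mem_insert.1 hx with rfl | hx
      · exact hωF'
      · exact hSF' hx
    · rintro rfl
      exact ⟨⟨hF, fun x hx => hQF (mem_insert_of_mem hx)⟩, hQF (mem_insert_self ω _)⟩
  have hR : ∀ F ∈ 𝓕.filter (fun F => insert γ S₀ ⊆ F),
      (bipartiteBelow (fun (ω : α) (F : Finset α) => ω ∈ F) (Δ \ S₀) F).card ≤ 1 := by
    intro F hF
    rw [mem_filter] at hF
    rw [card_le_one]
    intro x hx y hy
    rw [mem_bipartiteBelow, mem_sdiff] at hx hy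
    by_contra hxy
    -- F ∩ Δ contains S₀, x, y : at least j points
    have hsub : insert x (insert y S₀) ⊆ F ∩ Δ := by
      intro z hz
      rcases mem_insert.1 hz with rfl | hz
      · exact mem_inter.2 ⟨hx.2, hx.1.1⟩
      · rcases mem_insert.1 hz with rfl | hz
        · exact mem_inter.2 ⟨hy.2, hy.1.1⟩
        · exact mem_inter.2 ⟨hF.2 (mem_insert_of_mem hz), hS₀ hz⟩
    have hc : (insert x (insert y S₀)).card = j := by
      rw [card_insert_of_notMem, card_insert_of_notMem hy.1.2, hS₀c]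
      · omega
      · intro hh
        rcases mem_insert.1 hh with hh | hh
        · exact hxy hh
        · exact hx.1.2 hh
    have hle : j ≤ (F ∩ Δ).card := hc ▸ card_le_card hsub
    have hFΔ : F ⊆ Δ := hcl F hF.1 hle
    exact hγ (hFΔ (hF.2 (mem_insert_self γ S₀)))
  rw [sum_congr rfl hL, sum_const, smul_eq_mul, mul_one] at key
  rw [key]
  calc ∑ F ∈ 𝓕.filter (fun F => insert γ S₀ ⊆ F),
        (bipartiteBelow (fun (ω : α) (F : Finset α) => ω ∈ F) (Δ \ S₀) F).card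
      ≤ ∑ _F ∈ 𝓕.filter (fun F => insert γ S₀ ⊆ F), 1 := sum_le_sum hR
    _ = (𝓕.filter (fun F => insert γ S₀ ⊆ F)).card := by rw [sum_const, smul_eq_mul, mul_one]

/-- There is no Steiner system `S(j,k,2m+1)` (`k > j ≥ 2`, `m ≥ 2j-2`) with a closed subset of
`m+1` points. -/
theorem steiner_false {j k m : ℕ} {V Δ : Finset α} {𝓕 : Finset (Finset α)} (h : IsStk j k V 𝓕)
    (hj : 2 ≤ j) (hjk : j + 1 ≤ k) (hm : 2 * j - 2 ≤ m) (hV : V.card = 2 * m + 1)
    (hΔ : Δ ⊆ V) (hΔc : Δ.card = m + 1) (hcl : IsCl j 𝓕 Δ) : False := by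
  obtain ⟨S₀, hS₀, hS₀c⟩ := exists_subset_card_eq (s := Δ) (n := j - 2) (by omega)
  have hne : (V \ Δ).Nonempty := by
    rw [← card_pos, card_sdiff_of_subset hΔ]
    omega
  obtain ⟨γ, hγ⟩ := hne
  rw [mem_sdiff] at hγ
  have hγS : γ ∉ S₀ := fun hh => hγ.2 (hS₀ hh)
  have hS''V : insert γ S₀ ⊆ V := by
    intro x hx
    rcases mem_insert.1 hx with rfl | hx
    · exact hγ.1
    · exact hΔ (hS₀ hx)
  have hS''c : (insert γ S₀).card = j - 1 := by
    rw [card_insert_of_notMem hγS, hS₀c]; omega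
  have h1 := card_classes h (by omega) hS''V hS''c
  have h2 := card_le_blocks h hj hΔ hcl hS₀ hS₀c hγ.1 hγ.2
  rw [card_sdiff_of_subset hS''V, hV, hS''c] at h1
  rw [card_sdiff_of_subset hS₀, hΔc, hS₀c] at h2
  set b := (𝓕.filter (fun F => insert γ S₀ ⊆ F)).card with hb
  -- the case `e ≥ 3`
  have hk : k = j + 1 := by
    by_contra hne
    have he : 3 ≤ k - (j - 1) := by omega
    have h3 : 3 * b ≤ (k - (j - 1)) * b := Nat.mul_le_mul_right b he
    omega
  subst hk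
  have he2 : j + 1 - (j - 1) = 2 := by omega
  rw [he2] at h1
  -- `j` is even
  have hjeven : Even j := by
    rw [Nat.even_iff]
    omega
  have hcount := steiner_count j V 𝓕 Δ h.isSt hΔ hcl
  have hg : (V \ Δ).card = m := by rw [card_sdiff_of_subset hΔ, hV, hΔc]; omega
  rw [hg, hΔc, hV, hjeven.neg_one_pow, one_mul] at hcount
  have hc1 : (m.choose j : ℤ) ≤ ((m + 1).choose j : ℤ) := by
    exact_mod_cast Nat.choose_le_choose j (Nat.le_succ m)
  have hc2 : (0 : ℤ) < ((m + 1).choose j : ℤ) := by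
    exact_mod_cast Nat.choose_pos (by omega : j ≤ m + 1)
  have hc0 : (0 : ℤ) ≤ (m.choose j : ℤ) := by positivity
  have hN : (0 : ℤ) ≤ ((𝓕.filter (fun F => Disjoint F Δ)).card : ℤ) := by positivity
  have hmj : (j : ℤ) ≤ m := by
    have : j ≤ m := by omega
    exact_mod_cast this
  have hj1 : (2 : ℤ) ≤ j := by exact_mod_cast hj
  have hL : (0 : ℤ) ≤ (((2 * m + 1 : ℕ) : ℤ) - j) * ((j : ℤ) + 1)
      * ((𝓕.filter (fun F => Disjoint F Δ)).card : ℤ) := by
    apply mul_nonneg _ hN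
    apply mul_nonneg
    · push_cast; linarith
    · linarith
  rw [hcount] at hL
  have hR : ((m : ℤ) - j) * (m.choose j : ℤ) - (m : ℤ) * ((m + 1).choose j : ℤ) < 0 := by
    have e1 : ((m : ℤ) - j) * (m.choose j : ℤ) ≤ ((m : ℤ) - j) * ((m + 1).choose j : ℤ) :=
      mul_le_mul_of_nonneg_left hc1 (by linarith)
    have e2 : ((m : ℤ) - j) * ((m + 1).choose j : ℤ) < (m : ℤ) * ((m + 1).choose j : ℤ) :=
      mul_lt_mul_of_pos_right (by linarith) hc2
    linarith
  linarith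

end Cfsg.Agent.Lib.Helper8.MgCount
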