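import Mathlib
import Cfsg.Agent.Lib.Helper8.Marggraf
import Cfsg.Agent.Lib.Helper8.MgCount

set_option autoImplicit false

/-!
The boundary case of Marggraf's theorem (helper8): a `j`-transitive group of degree `2m+1` with a
Jordan set of `m` points, `2 ≤ j`, `2j - 2 ≤ m`, is `(j+1)`-transitive.  Otherwise the closed sets
of minimal size form a Steiner system `S(j,k,2m+1)` in which the complement of the Jordan set is a
closed subset of `m+1` points, which is impossible by counting (`MgCount.steiner_false`).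
-/

namespace Cfsg.Agent.Lib.Helper8.MgSteiner

open scoped Pointwise
open MulAction Cfsg.Agent.Lib.Helper8.Marggraf Cfsg.Agent.Lib.Helper8.MgCount

variable {G Ω : Type*} [Group G] [MulAction G Ω] [Fintype Ω] [DecidableEq Ω]

/-- a finite set is closed when its complement is a Jordan set -/
def Closed (G : Type*) {Ω : Type*} [Group G] [MulAction G Ω] (C : Finset Ω) : Prop :=
  IsJ G ((C : Set Ω)ᶜ)

theorem Closed.smul {C : Finset Ω} (h : Closed G C) (g : G) : Closed G (g • C) := by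
  unfold Closed at *
  rw [Finset.coe_smul_finset, ← Set.smul_set_compl]
  exact h.smul g

theorem Closed.inter {C₁ C₂ : Finset Ω} (h₁ : Closed G C₁) (h₂ : Closed G C₂)
    (hne : C₁ ∪ C₂ ≠ Finset.univ) : Closed G (C₁ ∩ C₂) := by
  unfold Closed at *
  rw [Finset.coe_inter, Set.compl_inter]
  apply h₁.union h₂
  by_contra hcon
  apply hne
  rw [Finset.eq_univ_iff_forall]
  intro x
  by_contra hx
  apply hcon
  refine ⟨x, ?_, ?_⟩
  · intro hx1
    exact hx (Finset.mem_union_left _ hx1)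
  · intro hx2
    exact hx (Finset.mem_union_right _ hx2)

omit [Fintype Ω] [DecidableEq Ω] [Group G] [MulAction G Ω] in
/-- enumerate a finite set -/
theorem exists_emb (u : Finset Ω) {t : ℕ} (hu : u.card = t) :
    ∃ x : Fin t ↪ Ω, ∀ a, a ∈ u ↔ ∃ i, x i = a := by
  refine ⟨(u.equivFinOfCardEq hu).symm.toEmbedding.trans (Function.Embedding.subtype _), ?_⟩
  intro a
  constructor
  · intro ha
    refine ⟨u.equivFinOfCardEq hu ⟨a, ha⟩, ?_⟩
    simp
  · rintro ⟨i, rfl⟩
    simp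

/-- transitivity on `j`-subsets -/
theorem set_trans {j : ℕ} (hj : IsMultiplyPretransitive G Ω j) (S₀ S : Finset Ω)
    (h₀ : S₀.card = j) (h : S.card = j) : ∃ g : G, g • S₀ = S := by
  obtain ⟨x₀, hx₀⟩ := exists_emb S₀ h₀
  obtain ⟨x, hx⟩ := exists_emb S h
  obtain ⟨g, hg⟩ := hj.exists_smul_eq x₀ x
  refine ⟨g, ?_⟩
  have hgi : ∀ i, g • x₀ i = x i := fun i => DFunLike.congr_fun hg i
  ext a
  rw [Finset.mem_smul_finset, hx]
  constructor
  · rintro ⟨b, hb, rfl⟩
    obtain ⟨i, rfl⟩ := (hx₀ b).mp hb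
    exact ⟨i, (hgi i).symm⟩
  · rintro ⟨i, rfl⟩
    exact ⟨x₀ i, (hx₀ _).mpr ⟨i, rfl⟩, hgi i⟩

/-- a closed `j`-set in a `j`-transitive group makes it `(j+1)`-transitive -/
theorem trans_succ_of_closed {j : ℕ} (hj : IsMultiplyPretransitive G Ω j) (C : Finset Ω)
    (hC : Closed G C) (hCc : C.card = j) : IsMultiplyPretransitive G Ω (j + 1) := by
  obtain ⟨c, hc⟩ := exists_emb C hCc
  refine ⟨fun x y => ?_⟩
  -- move the first `j` entries to `c`
  obtain ⟨g₁, hg₁⟩ := hj.exists_smul_eq (Fin.castSuccEmb.trans x) c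
  obtain ⟨g₂, hg₂⟩ := hj.exists_smul_eq (Fin.castSuccEmb.trans y) c
  have h₁ : ∀ i : Fin j, g₁ • x i.castSucc = c i := fun i => DFunLike.congr_fun hg₁ i
  have h₂ : ∀ i : Fin j, g₂ • y i.castSucc = c i := fun i => DFunLike.congr_fun hg₂ i
  have hx : g₁ • x (Fin.last j) ∈ ((C : Set Ω)ᶜ) := by
    intro hmem
    obtain ⟨i, hi⟩ := (hc _).mp hmem
    rw [← h₁ i] at hi
    have := x.injective (smul_left_cancel g₁ hi)
    exact (Fin.castSucc_lt_last i).ne this
  have hy : g₂ • y (Fin.last j) ∈ ((C : Set Ω)ᶜ) := by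
    intro hmem
    obtain ⟨i, hi⟩ := (hc _).mp hmem
    rw [← h₂ i] at hi
    have := y.injective (smul_left_cancel g₂ hi)
    exact (Fin.castSucc_lt_last i).ne this
  obtain ⟨h, hfix, hmove⟩ := hC _ hx _ hy
  refine ⟨g₂⁻¹ * h * g₁, ?_⟩
  ext i
  rw [Function.Embedding.smul_apply, mul_smul, mul_smul, inv_smul_eq_iff]
  rcases Fin.eq_castSucc_or_eq_last i with ⟨i, rfl⟩ | rfl
  · rw [h₁, h₂]
    apply hfix
    intro hcon
    exact hcon ((hc _).mpr ⟨i, rfl⟩)
  · exact hmove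

/-- the climbing step -/
theorem climb {j m : ℕ} (hj : IsMultiplyPretransitive G Ω j) (hj2 : 2 ≤ j) (hm : 2 * j - 2 ≤ m)
    (hn : Fintype.card Ω = 2 * m + 1) (Γ : Finset Ω) (hΓc : Γ.card = m)
    (hΓ : IsJ G (Γ : Set Ω)) : IsMultiplyPretransitive G Ω (j + 1) := by
  classical
  by_contra hnot
  have hno : ∀ C : Finset Ω, Closed G C → C.card ≠ j := fun C hC hCc =>
    hnot (trans_succ_of_closed hj C hC hCc)
  have hΔcl : Closed G Γᶜ := by
    unfold Closed
    rw [Finset.coe_compl, compl_compl]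
    exact hΓ
  have hΔc : (Γᶜ : Finset Ω).card = m + 1 := by
    rw [Finset.card_compl, hn, hΓc]
    omega
  have hex : ∃ n, ∃ C : Finset Ω, Closed G C ∧ j ≤ C.card ∧ C.card = n :=
    ⟨m + 1, Γᶜ, hΔcl, by omega, hΔc⟩
  obtain ⟨C₀, hC₀, hjC₀, hC₀k⟩ := Nat.find_spec hex
  set k := Nat.find hex with hk
  have hmin : ∀ C : Finset Ω, Closed G C → j ≤ C.card → k ≤ C.card := fun C hC hjC =>
    Nat.find_min' hex ⟨C, hC, hjC, rfl⟩
  have hkm : k ≤ m + 1 := hΔc ▸ hmin _ hΔcl (by omega)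
  have hjk : j + 1 ≤ k := by
    have := hno C₀ hC₀
    omega
  -- closedness of intersections
  have hint : ∀ C₁ C₂ : Finset Ω, Closed G C₁ → Closed G C₂ → C₁.card ≤ m + 1 → C₂.card ≤ m + 1 →
      j ≤ (C₁ ∩ C₂).card → Closed G (C₁ ∩ C₂) := by
    intro C₁ C₂ h₁ h₂ hc₁ hc₂ hji
    apply h₁.inter h₂
    intro huniv
    have h3 := Finset.card_union_add_card_inter C₁ C₂
    rw [huniv, Finset.card_univ, hn] at h3
    omega
  set 𝓕 : Finset (Finset Ω) := Finset.univ.filter (fun C => Closed G C ∧ C.card = k) with h𝓕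
  have hmem : ∀ C, C ∈ 𝓕 ↔ Closed G C ∧ C.card = k := by
    intro C
    rw [h𝓕, Finset.mem_filter]
    simp
  have hst : IsStk j k Finset.univ 𝓕 := by
    refine ⟨fun F _ => Finset.subset_univ F, fun F hF => ((hmem F).mp hF).2, ?_, ?_⟩
    · intro Q _ hQ
      obtain ⟨S₀, hS₀, hS₀c⟩ := Finset.exists_subset_card_eq hjC₀
      obtain ⟨g, hg⟩ := set_trans hj S₀ Q hS₀c hQ
      refine ⟨g • C₀, (hmem _).mpr ⟨hC₀.smul g, ?_⟩, ?_⟩
      · rw [Finset.card_smul_finset, hC₀k]
      · rw [← hg]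
        exact Finset.smul_finset_subset_smul_finset hS₀
    · intro Q hQ F₁ hF₁ F₂ hF₂ hQ₁ hQ₂
      obtain ⟨hc₁, hk₁⟩ := (hmem _).mp hF₁
      obtain ⟨hc₂, hk₂⟩ := (hmem _).mp hF₂
      have hji : j ≤ (F₁ ∩ F₂).card := by
        rw [← hQ]
        exact Finset.card_le_card (Finset.subset_inter hQ₁ hQ₂)
      have hcl := hint F₁ F₂ hc₁ hc₂ (by omega) (by omega) hji
      have hk' := hmin _ hcl hji
      have e₁ : F₁ ∩ F₂ = F₁ :=
        Finset.eq_of_subset_of_card_le Finset.inter_subset_left (by omega)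
      have e₂ : F₁ ∩ F₂ = F₂ :=
        Finset.eq_of_subset_of_card_le Finset.inter_subset_right (by omega)
      rw [← e₁]
      exact e₂
  have hcl : IsCl j 𝓕 Γᶜ := by
    intro F hF hjF
    obtain ⟨hc, hkF⟩ := (hmem _).mp hF
    have hcl := hint F Γᶜ hc hΔcl (by omega) (by omega) hjF
    have hk' := hmin _ hcl hjF
    have e₁ : F ∩ Γᶜ = F :=
      Finset.eq_of_subset_of_card_le Finset.inter_subset_left (by omega)
    rw [← e₁]
    exact Finset.inter_subset_right
  exact steiner_false hst hj2 hjk hm (by rw [Finset.card_univ, hn]) (Finset.subset_univ _) hΔc hcl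

end Cfsg.Agent.Lib.Helper8.MgSteiner
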