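import Mathlib
import Cfsg.Agent.Lib.Helper8.MgSteiner
import Cfsg.Agent.H2.KTransSupport

set_option autoImplicit false
set_option linter.unusedSectionVars false

/-!
Marggraf's theorem for primitive groups (helper8): a primitive group of degree `n` with a Jordan
set of `m` points, `1 < m < n / 2`, is `(n-2)`-transitive, that is, it contains the alternating
group.
-/

namespace Cfsg.Agent.Lib.Helper8.MgPrim

open scoped Pointwise
open MulAction Equiv Cfsg.Agent.Lib.Helper8.Marggraf Cfsg.Agent.Lib.Helper8.MgSteiner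

universe u v

section Transfer

variable {G : Type u} {Ω : Type v} [Group G] [MulAction G Ω]

theorem range_trans {k : ℕ} (h : IsMultiplyPretransitive G Ω k) :
    IsMultiplyPretransitive (toPermHom G Ω).range Ω k := by
  refine ⟨fun x y => ?_⟩
  obtain ⟨g, hg⟩ := h.exists_smul_eq x y
  refine ⟨⟨toPermHom G Ω g, g, rfl⟩, ?_⟩
  ext i
  have := DFunLike.congr_fun hg i
  simpa using this

theorem of_range_trans {k : ℕ} (h : IsMultiplyPretransitive (toPermHom G Ω).range Ω k) :
    IsMultiplyPretransitive G Ω k := by
  refine ⟨fun x y => ?_⟩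
  obtain ⟨⟨σ, g, rfl⟩, hg⟩ := h.exists_smul_eq x y
  refine ⟨g, ?_⟩
  ext i
  have := DFunLike.congr_fun hg i
  simpa using this

theorem of_le_trans {H K : Subgroup (Perm Ω)} (hHK : H ≤ K) {k : ℕ}
    (h : IsMultiplyPretransitive H Ω k) : IsMultiplyPretransitive K Ω k := by
  refine ⟨fun x y => ?_⟩
  obtain ⟨⟨σ, hσ⟩, hg⟩ := h.exists_smul_eq x y
  exact ⟨⟨σ, hHK hσ⟩, hg⟩

end Transfer

section Boundary

variable {G : Type u} {Ω : Type v} [Group G] [MulAction G Ω] [Fintype Ω] [DecidableEq Ω]

/-- the boundary case `n = 2m+1` -/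
theorem boundary (hprim : IsPreprimitive G Ω) (Γ : Set Ω) (hm : 2 ≤ Γ.ncard)
    (hn : Fintype.card Ω = 2 * Γ.ncard + 1) (hJ : IsJ G Γ) :
    alternatingGroup Ω ≤ (toPermHom G Ω).range := by
  classical
  have hncard : Nat.card Ω = 2 * Γ.ncard + 1 := by rw [Nat.card_eq_fintype_card]; exact hn
  have h3 : IsMultiplyPretransitive G Ω 3 := marggraf hprim Γ (by omega) (by omega) hJ
  have h2 : IsMultiplyPretransitive G Ω 2 :=
    isMultiplyPretransitive_of_le (n := 3) (by norm_num) (by omega)
  have hΓfin : (Γ.toFinset : Set Ω) = Γ := Set.coe_toFinset Γ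
  have hΓcard : Γ.toFinset.card = Γ.ncard := (Set.ncard_eq_toFinset_card' Γ).symm
  have hclimb : ∀ j, 2 ≤ j → 2 * j ≤ Γ.ncard + 4 → IsMultiplyPretransitive G Ω j := by
    intro j hj
    induction j, hj using Nat.le_induction with
    | base => intro _; exact h2
    | succ j hj ih =>
      intro hle
      have hjt := ih (by omega)
      exact climb hjt hj (by omega) hn Γ.toFinset hΓcard (by rw [hΓfin]; exact hJ)
  have hk := hclimb ((Γ.ncard + 4) / 2) (by omega) (by omega)
  -- a nontrivial element with support inside `Γ`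
  obtain ⟨x, y, hx, hy, hxy⟩ := (Set.one_lt_ncard_iff (Set.toFinite Γ)).mp (by omega)
  obtain ⟨g, hgfix, hgxy⟩ := hJ x hx y hy
  have hsupp : (toPerm g : Perm Ω).support ⊆ Γ.toFinset := by
    intro z hz
    rw [Set.mem_toFinset]
    by_contra hzΓ
    rw [Perm.mem_support] at hz
    exact hz (hgfix z hzΓ)
  have hne : (toPerm g : Perm Ω) ≠ 1 := by
    intro h1
    have := congrArg (fun σ : Perm Ω => σ x) h1
    simp only [toPerm_apply, Perm.coe_one, id_eq] at this
    exact hxy (this.symm.trans hgxy)
  have hcard := Finset.card_le_card hsupp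
  exact (Cfsg.Agent.H2.KTransSupport.main (toPermHom G Ω).range (k := (Γ.ncard + 4) / 2)
    (by omega) (by omega) (range_trans hk) (toPerm g) ⟨g, rfl⟩ hne (by omega)).2

end Boundary

/-- Marggraf's theorem for primitive groups, as multiple transitivity -/
theorem jordan_trans : ∀ (n : ℕ) {G : Type u} {Ω : Type v} [Group G] [MulAction G Ω] [Finite Ω]
    (_ : IsPreprimitive G Ω) (Γ : Set Ω), 2 ≤ Γ.ncard → 2 * Γ.ncard < Nat.card Ω →
    Nat.card Ω = n → IsJ G Γ → IsMultiplyPretransitive G Ω (Nat.card Ω - 2) := by
  intro n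
  induction n using Nat.strong_induction_on with
  | _ n ih =>
    intro G Ω _ _ _ hprim Γ hm h2m hn hJ
    classical
    have : Fintype Ω := Fintype.ofFinite Ω
    rcases Nat.lt_or_ge (2 * Γ.ncard + 1) (Nat.card Ω) with hlt | hge
    · -- pass to a point stabilizer
      have h3 : IsMultiplyPretransitive G Ω (Nat.succ 2) :=
        marggraf hprim Γ (by omega) (by omega) hJ
      have : IsPretransitive G Ω := hprim.toIsPretransitive
      have hex : ∃ α, α ∉ Γ := by
        by_contra hcon
        push Not at hcon
        have : Γ = Set.univ := Set.eq_univ_of_forall hcon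
        rw [this, Set.ncard_univ] at h2m
        omega
      obtain ⟨α, hα⟩ := hex
      have h2' : IsMultiplyPretransitive (stabilizer G α) (SubMulAction.ofStabilizer G α) 2 :=
        SubMulAction.ofStabilizer.isMultiplyPretransitive.mp h3
      have hprim' : IsPreprimitive (stabilizer G α) (SubMulAction.ofStabilizer G α) :=
        isPreprimitive_of_is_two_pretransitive h2'
      have hcard' := SubMulAction.nat_card_ofStabilizer_add_one_eq (G := G) α
      set Γ' : Set (SubMulAction.ofStabilizer G α) := Subtype.val ⁻¹' Γ with hΓ'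
      have hΓ'card : Γ'.ncard = Γ.ncard := by
        rw [hΓ']
        apply Set.ncard_preimage_of_injective_subset_range Subtype.val_injective
        intro z hz
        refine ⟨⟨z, ?_⟩, rfl⟩
        rw [SubMulAction.mem_ofStabilizer_iff]
        rintro rfl
        exact hα hz
      have hJ' : IsJ (stabilizer G α) Γ' := by
        intro x hx y hy
        obtain ⟨g, hgfix, hgxy⟩ := hJ x.1 hx y.1 hy
        refine ⟨⟨g, hgfix α hα⟩, ?_, ?_⟩
        · intro z hz
          apply Subtype.ext
          exact hgfix z.1 hz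
        · apply Subtype.ext
          exact hgxy
      have hrec := ih (Nat.card (SubMulAction.ofStabilizer G α)) (by omega) hprim' Γ'
        (by omega) (by omega) rfl hJ'
      have e : Nat.card Ω - 2 = Nat.succ (Nat.card (SubMulAction.ofStabilizer G α) - 2) := by
        omega
      rw [e]
      exact SubMulAction.ofStabilizer.isMultiplyPretransitive.mpr hrec
    · -- the boundary case
      have hn' : Fintype.card Ω = 2 * Γ.ncard + 1 := by
        rw [← Nat.card_eq_fintype_card]; omega
      have halt := boundary hprim Γ hm hn' hJ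
      have h1 := alternatingGroup.isMultiplyPretransitive Ω
      exact of_range_trans (of_le_trans halt h1)

/-- Marggraf's theorem for primitive groups -/
theorem jordan_alt {G : Type u} {Ω : Type v} [Group G] [MulAction G Ω] [Fintype Ω] [DecidableEq Ω]
    (hprim : IsPreprimitive G Ω) (Γ : Set Ω) (hm : 2 ≤ Γ.ncard)
    (h2m : 2 * Γ.ncard < Nat.card Ω) (hJ : IsJ G Γ) :
    alternatingGroup Ω ≤ (toPermHom G Ω).range :=
  IsMultiplyPretransitive.alternatingGroup_le Ω _
    (range_trans (jordan_trans _ hprim Γ hm h2m rfl hJ))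

end Cfsg.Agent.Lib.Helper8.MgPrim
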