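import Mathlib
import Cfsg.Agent.Lib.Helper8.MgPrim

set_option autoImplicit false
set_option linter.unusedSectionVars false

/-!
Quasiprimitive groups with a small Jordan set are primitive (helper8, for S3620).  This file has the
final contradiction: a quasiprimitive group cannot act on a system of blocks of size at least two
as the alternating or symmetric group while having a Jordan set that is a union of blocks.
-/

namespace Cfsg.Agent.Lib.Helper8.MgQP

open scoped Pointwise
open MulAction Equiv Cfsg.Agent.Lib.Helper8.Marggraf Cfsg.Agent.Lib.Helper8.MgPrim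

universe u v w

set_option maxHeartbeats 1000000 in
theorem no_imprimitive {G : Type u} {Ω : Type v} {X : Type w} [Group G] [MulAction G Ω]
    [MulAction G X] [Finite X]
    (π : Ω → X) (hπ : ∀ (g : G) (x : Ω), π (g • x) = g • π x)
    (hfaith : ∀ g : G, (∀ b : X, g • b = b) → g = 1)
    (htrans : IsMultiplyPretransitive G X (Nat.card X - 2))
    (hqp : ∀ N : Subgroup G, N.Normal → N ≠ ⊥ → IsPretransitive N Ω)
    (hfib : ∀ b : X, ∃ x y : Ω, x ≠ y ∧ π x = b ∧ π y = b)
    (Γ : Set Ω) (hJ : IsJ G Γ) (Γb : Set X) (hΓ : Γ = π ⁻¹' Γb) (h2 : 2 ≤ Γb.ncard)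
    (hr : 2 * Γb.ncard < Nat.card X) : False := by
  classical
  have : Fintype X := Fintype.ofFinite X
  have hρinj : Function.Injective (toPermHom G X) := by
    rw [injective_iff_map_eq_one]
    intro g hg
    apply hfaith
    intro b
    have := congrArg (fun σ : Perm X => σ b) hg
    simpa using this
  have halt : alternatingGroup X ≤ (toPermHom G X).range :=
    IsMultiplyPretransitive.alternatingGroup_le X _ (range_trans htrans)
  -- elements fixing the complement of `Γ` pointwise fix the blocks outside `Γb`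
  have hfixb : ∀ h : G, (∀ z ∉ Γ, h • z = z) → ∀ b ∉ Γb, h • b = b := by
    intro h hh b hb
    obtain ⟨z, _, _, hz, _⟩ := hfib b
    have hzΓ : z ∉ Γ := by rw [hΓ, Set.mem_preimage, hz]; exact hb
    rw [← hz, ← hπ, hh z hzΓ]
  have hpres : ∀ h : G, (∀ z ∉ Γ, h • z = z) → ∀ b ∈ Γb, h • b ∈ Γb := by
    intro h hh b hb
    by_contra hcon
    have h1 := hfixb h hh _ hcon
    have h2 := smul_left_cancel h h1
    rw [h2] at hcon
    exact hcon hb
  -- at least three blocks in `Γb`
  have h3 : 3 ≤ Γb.ncard := by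
    by_contra hlt
    have h2' : Γb.ncard = 2 := by omega
    obtain ⟨b₁, b₂, hb12, hΓb⟩ := Set.ncard_eq_two.mp h2'
    obtain ⟨x, x', hxx', hx, hx'⟩ := hfib b₁
    have hxΓ : x ∈ Γ := by rw [hΓ, Set.mem_preimage, hx, hΓb]; simp
    have hx'Γ : x' ∈ Γ := by rw [hΓ, Set.mem_preimage, hx', hΓb]; simp
    obtain ⟨h, hh, hhx⟩ := hJ x hxΓ x' hx'Γ
    have hb1 : h • b₁ = b₁ := by rw [← hx, ← hπ, hhx, hx', hx]
    have hb2 : h • b₂ = b₂ := by
      have hmem := hpres h hh b₂ (by rw [hΓb]; simp)
      rw [hΓb] at hmem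
      simp only [Set.mem_insert_iff, Set.mem_singleton_iff] at hmem
      rcases hmem with h1 | h1
      · exfalso
        rw [← hb1] at h1
        exact hb12 (smul_left_cancel h h1).symm
      · exact h1
    have h1 : h = 1 := by
      apply hfaith
      intro b
      by_cases hb : b ∈ Γb
      · rw [hΓb] at hb
        simp only [Set.mem_insert_iff, Set.mem_singleton_iff] at hb
        rcases hb with rfl | rfl
        · exact hb1
        · exact hb2
      · exact hfixb h hh b hb
    rw [h1, one_smul] at hhx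
    exact hxx' hhx
  obtain ⟨b₀, hb₀⟩ : ∃ b₀, b₀ ∉ Γb := by
    by_contra hcon
    push Not at hcon
    have : Γb = Set.univ := Set.eq_univ_of_forall hcon
    rw [this, Set.ncard_univ] at hr
    omega
  have hYcard : 5 ≤ Nat.card {b : X // b ≠ b₀} := by
    rw [Nat.card_eq_fintype_card, Fintype.card_subtype_compl (fun b : X => b = b₀),
      Fintype.card_subtype_eq, ← Nat.card_eq_fintype_card]
    omega
  have hsimple : IsSimpleGroup (alternatingGroup {b : X // b ≠ b₀}) :=
    alternatingGroup.isSimpleGroup hYcard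
  -- the lifting homomorphism
  have hιmem : ∀ σ : alternatingGroup {b : X // b ≠ b₀},
      ((Perm.ofSubtype).comp (alternatingGroup {b : X // b ≠ b₀}).subtype) σ ∈
        (toPermHom G X).range := by
    intro σ
    apply halt
    rw [Perm.mem_alternatingGroup]
    show Perm.sign (Perm.ofSubtype (σ : Perm {b : X // b ≠ b₀})) = 1
    rw [Perm.sign_ofSubtype]
    exact Perm.mem_alternatingGroup.mp σ.2
  set φ : alternatingGroup {b : X // b ≠ b₀} →* G :=
    (MonoidHom.ofInjective hρinj).symm.toMonoidHom.comp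
      (((Perm.ofSubtype).comp (alternatingGroup {b : X // b ≠ b₀}).subtype).codRestrict _ hιmem)
    with hφdef
  have hφ : ∀ σ : alternatingGroup {b : X // b ≠ b₀},
      toPermHom G X (φ σ) = Perm.ofSubtype (σ : Perm {b : X // b ≠ b₀}) := by
    intro σ
    exact MonoidHom.apply_ofInjective_symm hρinj
      ⟨((Perm.ofSubtype).comp (alternatingGroup {b : X // b ≠ b₀}).subtype) σ, hιmem σ⟩
  have hφb₀ : ∀ σ : alternatingGroup {b : X // b ≠ b₀}, φ σ • b₀ = b₀ := by
    intro σ
    have h1 := congrArg (fun τ : Perm X => τ b₀) (hφ σ)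
    simp only [toPermHom_apply, toPerm_apply] at h1
    rw [h1]
    exact Perm.ofSubtype_apply_of_not_mem _ (by simp)
  have hlift : ∀ g : G, Perm.sign (toPermHom G X g) = 1 → g • b₀ = b₀ →
      ∃ σ : alternatingGroup {b : X // b ≠ b₀}, φ σ = g := by
    intro g hsign hgb
    have h₁ : ∀ b : X, (toPermHom G X g) b ≠ b₀ ↔ b ≠ b₀ := by
      intro b
      rw [toPermHom_apply, toPerm_apply, not_iff_not]
      constructor
      · intro h
        rw [← hgb] at h
        exact smul_left_cancel g h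
      · intro h
        rw [h, hgb]
    have h₂ : ∀ b : X, (toPermHom G X g) b ≠ b → b ≠ b₀ := by
      intro b hb hbb
      rw [hbb, toPermHom_apply, toPerm_apply, hgb] at hb
      exact hb rfl
    refine ⟨⟨(toPermHom G X g).subtypePerm h₁, ?_⟩, ?_⟩
    · rw [Perm.mem_alternatingGroup, Perm.sign_subtypePerm _ h₁ h₂]
      exact hsign
    · apply hρinj
      rw [hφ]
      exact Perm.ofSubtype_subtypePerm h₁ h₂
  -- the kernel on the fibre over `b₀`
  let Kψ : Subgroup (alternatingGroup {b : X // b ≠ b₀}) :=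
    { carrier := {σ | ∀ z, π z = b₀ → φ σ • z = z}
      one_mem' := by
        intro z _
        rw [map_one, one_smul]
      mul_mem' := by
        intro σ τ hσ hτ z hz
        rw [map_mul, mul_smul, hτ z hz, hσ z hz]
      inv_mem' := by
        intro σ hσ z hz
        rw [map_inv, inv_smul_eq_iff, hσ z hz] }
  have hKmem : ∀ σ, σ ∈ Kψ ↔ ∀ z, π z = b₀ → φ σ • z = z := fun σ => Iff.rfl
  have hKn : Kψ.Normal := by
    constructor
    intro σ hσ τ
    rw [hKmem] at hσ ⊢
    intro z hz
    rw [map_mul, map_mul, map_inv, mul_smul, mul_smul]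
    have hz' : π ((φ τ)⁻¹ • z) = b₀ := by
      rw [hπ, hz, inv_smul_eq_iff, hφb₀]
    rw [hσ _ hz', smul_inv_smul]
  -- a nontrivial even element fixing the complement of `Γ`
  have hex : ∃ h : G, (∀ z ∉ Γ, h • z = z) ∧ h ≠ 1 ∧ Perm.sign (toPermHom G X h) = 1 := by
    obtain ⟨b₁, b₂, hb₁, hb₂, hb12⟩ := (Set.one_lt_ncard_iff (Set.toFinite Γb)).mp (by omega)
    obtain ⟨x, x', hxx', hx, hx'⟩ := hfib b₁
    obtain ⟨y, _, _, hy, _⟩ := hfib b₂
    have hxΓ : x ∈ Γ := by rw [hΓ, Set.mem_preimage, hx]; exact hb₁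
    have hx'Γ : x' ∈ Γ := by rw [hΓ, Set.mem_preimage, hx']; exact hb₁
    have hyΓ : y ∈ Γ := by rw [hΓ, Set.mem_preimage, hy]; exact hb₂
    have hxy : x ≠ y := by
      rintro rfl
      exact hb12 (hx.symm.trans hy)
    have hx'y : x' ≠ y := by
      rintro rfl
      exact hb12 (hx'.symm.trans hy)
    obtain ⟨k₁, hk₁, hk₁x⟩ := hJ x hxΓ x' hx'Γ
    obtain ⟨k₂, hk₂, hk₂x⟩ := hJ x hxΓ y hyΓ
    rcases Int.units_eq_one_or (Perm.sign (toPermHom G X k₁)) with e₁ | e₁
    · refine ⟨k₁, hk₁, ?_, e₁⟩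
      rintro rfl
      rw [one_smul] at hk₁x
      exact hxx' hk₁x
    rcases Int.units_eq_one_or (Perm.sign (toPermHom G X k₂)) with e₂ | e₂
    · refine ⟨k₂, hk₂, ?_, e₂⟩
      rintro rfl
      rw [one_smul] at hk₂x
      exact hxy hk₂x
    refine ⟨k₁⁻¹ * k₂, ?_, ?_, ?_⟩
    · intro z hz
      rw [mul_smul, hk₂ z hz, inv_smul_eq_iff, hk₁ z hz]
    · intro h1
      have h2 : (k₁⁻¹ * k₂) • x = x := by rw [h1, one_smul]
      rw [mul_smul, hk₂x, inv_smul_eq_iff, hk₁x] at h2
      exact hx'y h2.symm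
    · rw [map_mul, map_inv, map_mul, map_inv, e₁, e₂]
      decide
  obtain ⟨h, hh, hh1, hhs⟩ := hex
  have hKne : Kψ ≠ ⊥ := by
    intro hbot
    obtain ⟨σ, hσ⟩ := hlift h hhs (hfixb h hh b₀ hb₀)
    have hσK : σ ∈ Kψ := by
      rw [hKmem]
      intro z hz
      rw [hσ]
      apply hh
      rw [hΓ, Set.mem_preimage, hz]
      exact hb₀
    rw [hbot, Subgroup.mem_bot] at hσK
    rw [hσK, map_one] at hσ
    exact hh1 hσ.symm
  have hKtop : Kψ = ⊤ := (hKn.eq_bot_or_eq_top).resolve_left hKne
  -- the preimage of the alternating group is transitive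
  have hAn : ((alternatingGroup X).comap (toPermHom G X)).Normal := inferInstance
  have hAne : (alternatingGroup X).comap (toPermHom G X) ≠ ⊥ := by
    intro hbot
    have hmem : h ∈ (alternatingGroup X).comap (toPermHom G X) := by
      rw [Subgroup.mem_comap, Perm.mem_alternatingGroup]
      exact hhs
    rw [hbot, Subgroup.mem_bot] at hmem
    exact hh1 hmem
  have hAtr := hqp _ hAn hAne
  obtain ⟨x, y, hxy, hx, hy⟩ := hfib b₀
  obtain ⟨⟨a, ha⟩, hax⟩ := hAtr.exists_smul_eq x y
  have hax' : a • x = y := hax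
  have hab : a • b₀ = b₀ := by rw [← hx, ← hπ, hax', hy, hx]
  have has : Perm.sign (toPermHom G X a) = 1 := by
    rw [Subgroup.mem_comap, Perm.mem_alternatingGroup] at ha
    exact ha
  obtain ⟨σ, hσ⟩ := hlift a has hab
  have hσK : σ ∈ Kψ := by rw [hKtop]; exact Subgroup.mem_top σ
  rw [hKmem] at hσK
  have := hσK x hx
  rw [hσ, hax'] at this
  exact hxy this.symm

end Cfsg.Agent.Lib.Helper8.MgQP
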