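import Mathlib
import Cfsg.Agent.Lib.Helper8.MgQP

set_option autoImplicit false
set_option linter.unusedSectionVars false

/-!
Marggraf's theorem for quasiprimitive groups (helper8, for S3620): a quasiprimitive group with a
Jordan set of `m` points, `1 < m < n / 2`, is `(n-2)`-transitive.
-/

namespace Cfsg.Agent.Lib.Helper8.MgQPMain

open scoped Pointwise
open MulAction Equiv Cfsg.Agent.Lib.Helper8.Marggraf Cfsg.Agent.Lib.Helper8.MgPrim
  Cfsg.Agent.Lib.Helper8.MgQP

universe u v w

/-- counting with fibres of constant size -/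
theorem fiber_count {Ω : Type v} {X : Type w} [Finite Ω] [Finite X] (f : Ω → X) (s : ℕ)
    (hf : ∀ b : X, (f ⁻¹' {b}).ncard = s) (S : Set X) : (f ⁻¹' S).ncard = S.ncard * s := by
  classical
  have : Fintype Ω := Fintype.ofFinite Ω
  have : Fintype X := Fintype.ofFinite X
  rw [Set.ncard_eq_toFinset_card' (f ⁻¹' S), Set.ncard_eq_toFinset_card' S]
  rw [Finset.card_eq_sum_card_fiberwise (f := f) (t := S.toFinset)]
  · have hfib : ∀ b ∈ S.toFinset, ((f ⁻¹' S).toFinset.filter (fun x => f x = b)).card = s := by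
      intro b hb
      rw [← hf b, Set.ncard_eq_toFinset_card' (f ⁻¹' {b})]
      congr 1
      ext x
      simp only [Finset.mem_filter, Set.mem_toFinset, Set.mem_preimage, Set.mem_singleton_iff]
      constructor
      · rintro ⟨_, h⟩
        exact h
      · intro h
        exact ⟨by rw [h]; exact Set.mem_toFinset.mp hb, h⟩
    rw [Finset.sum_congr rfl hfib, Finset.sum_const, smul_eq_mul]
  · intro x hx
    simpa using hx

set_option maxHeartbeats 1000000 in
/-- Marggraf's theorem for quasiprimitive groups, as multiple transitivity -/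
theorem qp_trans : ∀ (n : ℕ) {G : Type u} {Ω : Type v} [Group G] [MulAction G Ω] [Finite Ω]
    (_ : ∀ N : Subgroup G, N.Normal → N ≠ ⊥ → IsPretransitive N Ω)
    (Γ : Set Ω), 2 ≤ Γ.ncard → 2 * Γ.ncard < Nat.card Ω → Nat.card Ω = n → IsJ G Γ →
    IsMultiplyPretransitive G Ω (Nat.card Ω - 2) := by
  intro n
  induction n using Nat.strong_induction_on with
  | _ n ih =>
    intro G Ω _ _ _ hqp Γ hm h2m hn hJ
    by_cases hprim : IsPreprimitive G Ω
    · exact jordan_trans _ hprim Γ hm h2m rfl hJ
    exfalso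
    -- a nontrivial element fixing the complement of `Γ`
    obtain ⟨x₀, y₀, hx₀, hy₀, hxy₀⟩ := (Set.one_lt_ncard_iff (Set.toFinite Γ)).mp (by omega)
    obtain ⟨k₀, hk₀, hk₀x⟩ := hJ x₀ hx₀ y₀ hy₀
    have hk₀1 : k₀ ≠ 1 := by
      rintro rfl
      rw [one_smul] at hk₀x
      exact hxy₀ hk₀x
    -- `G` is transitive
    have hGne : (⊤ : Subgroup G) ≠ ⊥ := by
      intro h
      have : k₀ ∈ (⊥ : Subgroup G) := h ▸ Subgroup.mem_top k₀
      exact hk₀1 (Subgroup.mem_bot.mp this)
    have htop := hqp ⊤ inferInstance hGne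
    have htr : IsPretransitive G Ω :=
      ⟨fun x y => let ⟨g, hg⟩ := htop.exists_smul_eq x y; ⟨g.1, hg⟩⟩
    -- a nontrivial block
    have hexB : ∃ B : Set Ω, IsBlock G B ∧ ¬ IsTrivialBlock B := by
      by_contra hcon
      push Not at hcon
      exact hprim { toIsPretransitive := htr, isTrivialBlock_of_isBlock := fun {B} hB => hcon B hB }
    obtain ⟨B, hB, hBnt⟩ := hexB
    rw [IsTrivialBlock, not_or] at hBnt
    obtain ⟨hBns, hBuniv⟩ := hBnt
    have hBnt : B.Nontrivial := Set.not_subsingleton_iff.mp hBns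
    have hBne : B.Nonempty := hBnt.nonempty
    have hs2 : 2 ≤ B.ncard := by
      have := (Set.one_lt_ncard_iff_nontrivial (s := B)).mpr hBnt
      omega
    -- the block system
    have hcard : ∀ b : orbit G B, b.1.ncard = B.ncard := by
      intro b
      obtain ⟨g, hg⟩ := b.2
      have hg' : g • B = b.1 := hg
      rw [← hg', Set.ncard_smul_set]
    have hcover : ∀ x : Ω, ∃ b : orbit G B, x ∈ b.1 := by
      intro x
      obtain ⟨y, hy⟩ := hBne
      obtain ⟨g, hg⟩ := exists_smul_eq G y x
      exact ⟨⟨g • B, mem_orbit _ _⟩, hg ▸ Set.smul_mem_smul_set hy⟩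
    have huniq : ∀ b₁ b₂ : orbit G B, ∀ x : Ω, x ∈ b₁.1 → x ∈ b₂.1 → b₁ = b₂ := by
      intro b₁ b₂ x h₁ h₂
      obtain ⟨g₁, hg₁⟩ := b₁.2
      obtain ⟨g₂, hg₂⟩ := b₂.2
      have hg₁' : g₁ • B = b₁.1 := hg₁
      have hg₂' : g₂ • B = b₂.1 := hg₂
      apply Subtype.ext
      rw [← hg₁', ← hg₂']
      apply (isBlock_iff_smul_eq_smul_of_nonempty.mp hB)
      refine ⟨x, ?_, ?_⟩
      · rw [hg₁']; exact h₁
      · rw [hg₂']; exact h₂
    have hsmulmem : ∀ (g : G) (b : orbit G B) (x : Ω), x ∈ b.1 → g • x ∈ (g • b).1 := by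
      intro g b x hx
      rw [orbit.coe_smul]
      exact Set.smul_mem_smul_set hx
    have hfixblock : ∀ (g : G) (b : orbit G B) (p : Ω), p ∈ b.1 → g • p = p → g • b = b := by
      intro g b p hp hgp
      apply huniq _ _ p _ hp
      rw [← hgp]
      exact hsmulmem g b p hp
    choose π hπmem using hcover
    have hπeq : ∀ (x : Ω) (b : orbit G B), x ∈ b.1 → π x = b := fun x b hx =>
      huniq _ _ x (hπmem x) hx
    have hπ : ∀ (g : G) (x : Ω), π (g • x) = g • π x := fun g x =>
      hπeq _ _ (hsmulmem g _ x (hπmem x))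
    have hfibset : ∀ b : orbit G B, π ⁻¹' {b} = b.1 := by
      intro b
      ext x
      rw [Set.mem_preimage, Set.mem_singleton_iff]
      constructor
      · intro h
        rw [← h]
        exact hπmem x
      · exact hπeq x b
    have hfibcard : ∀ b : orbit G B, (π ⁻¹' {b}).ncard = B.ncard := by
      intro b
      rw [hfibset, hcard]
    have hfib : ∀ b : orbit G B, ∃ x y : Ω, x ≠ y ∧ π x = b ∧ π y = b := by
      intro b
      have h1 : 1 < b.1.ncard := by rw [hcard]; omega
      obtain ⟨x, y, hx, hy, hxy⟩ := (Set.one_lt_ncard_iff (Set.toFinite _)).mp h1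
      exact ⟨x, y, hxy, hπeq x b hx, hπeq y b hy⟩
    have hbne : ∀ b : orbit G B, ∃ p, p ∈ b.1 := by
      intro b
      obtain ⟨x, _, _, hx, _⟩ := hfib b
      exact ⟨x, hx ▸ hπmem x⟩
    -- the kernel of the action on the blocks is trivial
    have hfaithX : ∀ g : G, (∀ b : orbit G B, g • b = b) → g = 1 := by
      have hker : (toPermHom G (orbit G B)).ker = ⊥ := by
        by_contra hne
        have hKtr := hqp _ (MonoidHom.normal_ker _) hne
        obtain ⟨x, hx⟩ := hBne
        obtain ⟨y, hy⟩ := (Set.ne_univ_iff_exists_notMem B).mp hBuniv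
        obtain ⟨⟨k, hk⟩, hkx⟩ := hKtr.exists_smul_eq x y
        have hkx' : k • x = y := hkx
        rw [MonoidHom.mem_ker] at hk
        have h1 := congrArg (fun σ : Perm (orbit G B) => (σ ⟨B, mem_orbit_self B⟩).1) hk
        simp only [toPermHom_apply, toPerm_apply, orbit.coe_smul, Perm.coe_one, id_eq] at h1
        apply hy
        rw [← hkx', ← h1]
        exact Set.smul_mem_smul_set hx
      intro g hg
      have hmem : g ∈ (toPermHom G (orbit G B)).ker := by
        rw [MonoidHom.mem_ker]
        ext b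
        simp only [toPermHom_apply, toPerm_apply, Perm.coe_one, id_eq]
        rw [hg b]
      rw [hker, Subgroup.mem_bot] at hmem
      exact hmem
    -- no block contains `Γ`
    have hT : ∀ b₁ : orbit G B, ¬ Γ ⊆ b₁.1 := by
      intro b₁ hsub
      apply hk₀1
      apply hfaithX
      have hother : ∀ b : orbit G B, b ≠ b₁ → k₀ • b = b := by
        intro b hb
        obtain ⟨p, hp⟩ := hbne b
        apply hfixblock k₀ b p hp
        apply hk₀
        intro hpΓ
        exact hb (huniq _ _ p hp (hsub hpΓ))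
      intro b
      by_cases hb : b = b₁
      · subst hb
        by_contra hne
        have h1 := hother _ hne
        exact hne (smul_left_cancel k₀ h1)
      · exact hother b hb
    -- every block is inside `Γ` or disjoint from it
    have hdich : ∀ b : orbit G B, b.1 ⊆ Γ ∨ ∀ p ∈ b.1, p ∉ Γ := by
      intro b
      by_contra hcon
      push Not at hcon
      obtain ⟨hns, w, hwb, hwΓ⟩ := hcon
      obtain ⟨z, hzb, hzΓ⟩ := Set.not_subset.mp hns
      apply hT b
      intro v hv
      obtain ⟨h, hh, hhw⟩ := hJ w hwΓ v hv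
      have hb : h • b = b := hfixblock h b z hzb (hh z hzΓ)
      rw [← hb, ← hhw]
      exact hsmulmem h b w hwb
    set Γb : Set (orbit G B) := {b | b.1 ⊆ Γ} with hΓb
    have hΓeq : Γ = π ⁻¹' Γb := by
      ext x
      rw [Set.mem_preimage, hΓb, Set.mem_ofPred_eq]
      constructor
      · intro hx
        rcases hdich (π x) with h | h
        · exact h
        · exact absurd hx (h x (hπmem x))
      · intro h
        exact h (hπmem x)
    -- counting
    have hc1 : Γ.ncard = Γb.ncard * B.ncard := by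
      rw [hΓeq]
      exact fiber_count π B.ncard hfibcard Γb
    have hc2 : Nat.card Ω = Nat.card (orbit G B) * B.ncard := by
      have := fiber_count π B.ncard hfibcard Set.univ
      rw [Set.preimage_univ, Set.ncard_univ, Set.ncard_univ] at this
      exact this
    have hJb : IsJ G Γb := by
      intro b₁ hb₁ b₂ hb₂
      obtain ⟨p₁, hp₁⟩ := hbne b₁
      obtain ⟨p₂, hp₂⟩ := hbne b₂
      obtain ⟨g, hg, hgp⟩ := hJ p₁ (hb₁ hp₁) p₂ (hb₂ hp₂)
      refine ⟨g, ?_, ?_⟩
      · intro b hb
        rcases hdich b with h | h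
        · exact absurd h hb
        · obtain ⟨p, hp⟩ := hbne b
          exact hfixblock g b p hp (hg p (h p hp))
      · apply huniq _ _ p₂ _ hp₂
        rw [← hgp]
        exact hsmulmem g b₁ p₁ hp₁
    have h2b : 2 ≤ Γb.ncard := by
      by_contra hlt
      have hpos : Γb.ncard ≠ 0 := by
        intro h0
        rw [h0, zero_mul] at hc1
        omega
      have h1 : Γb.ncard = 1 := by omega
      obtain ⟨b₁, hb₁⟩ := Set.ncard_eq_one.mp h1
      apply hT b₁
      intro v hv
      rw [hΓeq, hb₁, Set.mem_preimage, Set.mem_singleton_iff] at hv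
      rw [← hv]
      exact hπmem v
    have hrb : 2 * Γb.ncard < Nat.card (orbit G B) := by
      rw [hc1, hc2, ← mul_assoc] at h2m
      exact Nat.lt_of_mul_lt_mul_right h2m
    have hlt : Nat.card (orbit G B) < n := by
      rw [← hn, hc2]
      have hpos : 0 < Nat.card (orbit G B) := by omega
      nlinarith
    have hqpX : ∀ N : Subgroup G, N.Normal → N ≠ ⊥ → IsPretransitive N (orbit G B) := by
      intro N hN hNne
      have hNtr := hqp N hN hNne
      refine ⟨fun b₁ b₂ => ?_⟩
      obtain ⟨p₁, hp₁⟩ := hbne b₁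
      obtain ⟨p₂, hp₂⟩ := hbne b₂
      obtain ⟨⟨k, hk⟩, hkp⟩ := hNtr.exists_smul_eq p₁ p₂
      have hkp' : k • p₁ = p₂ := hkp
      refine ⟨⟨k, hk⟩, ?_⟩
      show k • b₁ = b₂
      apply huniq _ _ p₂ _ hp₂
      rw [← hkp']
      exact hsmulmem k b₁ p₁ hp₁
    have htransX := ih (Nat.card (orbit G B)) hlt hqpX Γb h2b hrb rfl hJb
    exact no_imprimitive π hπ hfaithX htransX hqp hfib Γ hJ Γb hΓeq h2b hrb

end Cfsg.Agent.Lib.Helper8.MgQPMain
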