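import Mathlib
import Cfsg.Agent.S0749
import Cfsg.Agent.S0245
import Cfsg.Agent.H9.GLTransvection
import Cfsg.Agent.Lib.Helper8.SympBasis

/-! # Involutions of symplectic groups in characteristic two: classification of symmetric forms (helper8) -/

set_option autoImplicit false
open Cfsg

namespace Cfsg.Agent.Lib.Helper8.SpInv

universe u v

open Cfsg.Agent.Lib.Helper5.SympCount

section Classify

variable {F : Type v} [Field F]

/-- in characteristic two over a perfect field, a non-alternating symmetric form of dimension at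
least two has a unit vector whose perp is again non-alternating -/
theorem exists_good (h2 : (2 : F) = 0) (hsq : ∀ d : F, ∃ l, l * l = d)
    (U : Type u) [AddCommGroup U] [Module F U] [FiniteDimensional F U]
    (β : LinearMap.BilinForm F U) (hS : ∀ x y, β x y = β y x)
    (hB : ∀ x, (∀ y, β x y = 0) → x = 0) (hn : 2 ≤ Module.finrank F U)
    (hx : ∃ x, β x x ≠ 0) :
    ∃ x, β x x = 1 ∧ ∃ y, β x y = 0 ∧ β y y ≠ 0 := by
  obtain ⟨x0, hx0⟩ := hx
  obtain ⟨l, hl⟩ := hsq (β x0 x0)⁻¹
  obtain ⟨x, hxdef⟩ : ∃ x : U, x = l • x0 := ⟨_, rfl⟩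
  have hxx : β x x = 1 := by
    rw [hxdef]
    simp only [map_smul, LinearMap.smul_apply, smul_eq_mul]
    rw [← mul_assoc, hl, inv_mul_cancel₀ hx0]
  by_cases hP : ∃ y, β x y = 0 ∧ β y y ≠ 0
  · exact ⟨x, hxx, hP⟩
  push Not at hP
  have hsurj : Function.Surjective (β x) := by
    intro c
    exact ⟨c • x, by rw [map_smul, hxx, smul_eq_mul, mul_one]⟩
  have hrank : Module.finrank F (LinearMap.ker (β x)) + 1 = Module.finrank F U := by
    have := LinearMap.finrank_range_add_finrank_ker (β x)
    rw [LinearMap.range_eq_top.2 hsurj] at this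
    simp at this
    omega
  have hpos : 0 < Module.finrank F (LinearMap.ker (β x)) := by omega
  have : Nontrivial (LinearMap.ker (β x)) := Module.nontrivial_of_finrank_pos hpos
  obtain ⟨e, he⟩ : ∃ e : LinearMap.ker (β x), e ≠ 0 := exists_ne 0
  have hxe : β x e.1 = 0 := e.2
  have he0 : e.1 ≠ 0 := fun h => he (Subtype.ext h)
  obtain ⟨z, hz⟩ : ∃ z, β e.1 z ≠ 0 := by
    by_contra hno
    push Not at hno
    exact he0 (hB _ hno)
  obtain ⟨f0, hf0⟩ : ∃ f0 : U, f0 = z - (β x z) • x := ⟨_, rfl⟩
  have hxf0 : β x f0 = 0 := by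
    rw [hf0, map_sub, map_smul, hxx, smul_eq_mul, mul_one, sub_self]
  have hef0 : β e.1 f0 = β e.1 z := by
    rw [hf0, map_sub, map_smul, hS e.1 x, hxe, smul_zero, sub_zero]
  obtain ⟨f, hfdef⟩ : ∃ f : U, f = (β e.1 f0)⁻¹ • f0 := ⟨_, rfl⟩
  have hxf : β x f = 0 := by rw [hfdef, map_smul, hxf0, smul_zero]
  have hef : β e.1 f = 1 := by
    rw [hfdef, map_smul, smul_eq_mul, inv_mul_cancel₀ (by rw [hef0]; exact hz)]
  have hee : β e.1 e.1 = 0 := hP _ hxe
  have hff : β f f = 0 := hP _ hxf
  have h11 : (1 : F) + 1 = 0 := by rw [one_add_one_eq_two]; exact h2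
  refine ⟨x + e.1, ?_, x + f, ?_, ?_⟩
  · simp only [map_add, LinearMap.add_apply, hxx, hxe, hS e.1 x, hee, add_zero]
  · simp only [map_add, LinearMap.add_apply, hxx, hxf, hS e.1 x, hxe, hef, add_zero, zero_add]
    exact h11
  · simp only [map_add, LinearMap.add_apply, hxx, hxf, hS f x, hff, add_zero]
    exact one_ne_zero

/-- orthonormal bases for non-alternating symmetric forms, characteristic two, perfect field -/
theorem exists_orthonormal2 (h2 : (2 : F) = 0) (hsq : ∀ d : F, ∃ l, l * l = d) :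
    ∀ (n : ℕ) (U : Type u) [AddCommGroup U] [Module F U] [FiniteDimensional F U]
      (β : LinearMap.BilinForm F U), (∀ x y, β x y = β y x) →
      (∀ x, (∀ y, β x y = 0) → x = 0) → Module.finrank F U = n →
      (n ≠ 0 → ∃ x, β x x ≠ 0) →
      ∃ v : Fin n → U, ∀ i j, β (v i) (v j) = if i = j then 1 else 0 := by
  intro n
  induction n with
  | zero =>
    intro U _ _ _ β _ _ _ _
    exact ⟨Fin.elim0, fun i => i.elim0⟩
  | succ n ih =>
    intro U _ _ _ β hS hB hn hx
    obtain ⟨x, hxx, hxy⟩ : ∃ x, β x x = 1 ∧ (n ≠ 0 → ∃ y, β x y = 0 ∧ β y y ≠ 0) := by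
      by_cases hn0 : n = 0
      · obtain ⟨x0, hx0⟩ := hx (Nat.succ_ne_zero n)
        obtain ⟨l, hl⟩ := hsq (β x0 x0)⁻¹
        refine ⟨l • x0, ?_, fun h => absurd hn0 h⟩
        simp only [map_smul, LinearMap.smul_apply, smul_eq_mul]
        rw [← mul_assoc, hl, inv_mul_cancel₀ hx0]
      · obtain ⟨x, h1, h2'⟩ := exists_good h2 hsq U β hS hB (by omega) (hx (Nat.succ_ne_zero n))
        exact ⟨x, h1, fun _ => h2'⟩
    let W : Submodule F U := LinearMap.ker (β x)
    have hWmem : ∀ y, y ∈ W ↔ β x y = 0 := fun y => LinearMap.mem_ker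
    have hsurj : Function.Surjective (β x) := by
      intro c
      exact ⟨c • x, by rw [map_smul, hxx, smul_eq_mul, mul_one]⟩
    have hrank : Module.finrank F W = n := by
      have := LinearMap.finrank_range_add_finrank_ker (β x)
      rw [LinearMap.range_eq_top.2 hsurj] at this
      simp at this
      change 1 + Module.finrank F W = Module.finrank F U at this
      omega
    have hB' : ∀ w : W, (∀ y : W, (β.restrict W) w y = 0) → w = 0 := by
      intro w hw
      have : (w : U) = 0 := by
        apply hB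
        intro z
        have hz : z - (β x z) • x ∈ W := by
          rw [hWmem, map_sub, map_smul, hxx, smul_eq_mul, mul_one, sub_self]
        have h1 := hw ⟨_, hz⟩
        change β w.1 (z - (β x z) • x) = 0 at h1
        rw [map_sub, map_smul, hS w.1 x, (hWmem _).1 w.2, smul_zero, sub_zero] at h1
        exact h1
      exact Subtype.ext this
    obtain ⟨w, hw⟩ := ih W (β.restrict W) (fun a b => hS a.1 b.1) hB' hrank (by
      intro hn0
      obtain ⟨y, hy1, hy2⟩ := hxy hn0
      exact ⟨⟨y, (hWmem y).2 hy1⟩, hy2⟩)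
    refine ⟨Fin.cons x (fun i => (w i : U)), ?_⟩
    intro i j
    refine Fin.cases ?_ (fun i => ?_) i <;> refine Fin.cases ?_ (fun j => ?_) j
    · simpa using hxx
    · simp only [Fin.cons_zero, Fin.cons_succ]
      rw [(hWmem _).1 (w j).2, if_neg (Fin.succ_ne_zero j).symm]
    · simp only [Fin.cons_zero, Fin.cons_succ]
      rw [hS, (hWmem _).1 (w i).2, if_neg (Fin.succ_ne_zero i)]
    · simp only [Fin.cons_succ, Fin.succ_inj]
      exact hw i j

/-- symplectic bases for nondegenerate alternating forms; the dimension is even -/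
theorem exists_SB' : ∀ (n : ℕ) (U : Type u) [AddCommGroup U] [Module F U] [FiniteDimensional F U]
    (B : LinearMap.BilinForm F U), B.IsAlt → B.Nondegenerate → Module.finrank F U = n →
    ∃ k, n = k + k ∧ ∃ p : (Fin k → U) × (Fin k → U), IsSB B k p := by
  intro n
  induction n using Nat.strong_induction_on with
  | _ n ih =>
    intro U _ _ _ B hA hB hrank
    rcases Nat.eq_zero_or_pos n with h0 | hpos
    · exact ⟨0, by omega, (Fin.elim0, Fin.elim0), fun i => i.elim0, fun i => i.elim0,
        fun i => i.elim0⟩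
    have : Nontrivial U := Module.nontrivial_of_finrank_pos (R := F) (by omega)
    obtain ⟨e, he⟩ : ∃ e : U, e ≠ 0 := exists_ne 0
    obtain ⟨f₀, hf₀⟩ : ∃ f₀, B e f₀ ≠ 0 := by
      by_contra hno
      apply he
      apply hB.1
      intro y
      by_contra h
      exact hno ⟨y, h⟩
    have hef : B e ((B e f₀)⁻¹ • f₀) = 1 := by
      rw [map_smul, smul_eq_mul, inv_mul_cancel₀ hf₀]
    have hr := finrank_perp hA hef
    have hnd := restrict_perp_nondegenerate hB hA hef
    have hA' : (B.restrict (perp B e ((B e f₀)⁻¹ • f₀))).IsAlt := fun x => hA x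
    obtain ⟨k, hk, p', hp'⟩ := ih (n - 2) (by omega) (perp B e ((B e f₀)⁻¹ • f₀))
      (B.restrict (perp B e ((B e f₀)⁻¹ • f₀))) hA' hnd (by omega)
    exact ⟨k + 1, by omega, _, isSB_cons hA k hef ⟨p', hp'⟩⟩

end Classify

end Cfsg.Agent.Lib.Helper8.SpInv
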