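import Mathlib
import Cfsg.Agent.Lib.Helper8.SpInvA

/-! # Involutions of symplectic groups in characteristic two: Witt for families, normal forms (helper8) -/

set_option autoImplicit false
open Cfsg

namespace Cfsg.Agent.Lib.Helper8.SpInv

universe u v

section Abstract

variable {F : Type v} [Field F] {V : Type u} [AddCommGroup V] [Module F V]
variable (B : LinearMap.BilinForm F V)

/-- Witt's lemma for families, alternating forms -/
theorem witt_fam [FiniteDimensional F V] (hB : B.Nondegenerate) (hA : B.IsAlt) {k : ℕ}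
    (x y : Fin k → V) (hx : LinearIndependent F x) (hy : LinearIndependent F y)
    (hG : ∀ a b, B (x a) (x b) = B (y a) (y b)) :
    ∃ g : V ≃ₗ[F] V, (∀ u v, B (g u) (g v) = B u v) ∧ ∀ a, g (x a) = y a := by
  let bx := Module.Basis.span hx
  obtain ⟨f, hf⟩ := LinearMap.exists_extend (bx.constr F y)
  have hfx : ∀ a, f (x a) = y a := by
    intro a
    have h1 := congrArg (fun g => g (bx a)) hf
    simp only [LinearMap.comp_apply, Submodule.subtype_apply, Module.Basis.constr_basis] at h1
    have h2 : ((bx a : Submodule.span F (Set.range x)) : V) = x a :=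
      congrArg Subtype.val (Module.Basis.span_apply hx a)
    rw [h2] at h1
    exact h1
  have hfs : ∀ c : Fin k → F, f (∑ a, c a • x a) = ∑ a, c a • y a := by
    intro c
    simp only [map_sum, map_smul, hfx]
  obtain ⟨g, hg1, hg2⟩ := Cfsg.Agent.S0749.witt_aux B hB hA
    (Module.finrank F (Submodule.span F (Set.range x))) (Submodule.span F (Set.range x)) f rfl
    (by
      intro v hv h0
      obtain ⟨c, rfl⟩ := (Submodule.mem_span_range_iff_exists_fun F).1 hv
      rw [hfs] at h0
      have := Fintype.linearIndependent_iff.1 hy c h0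
      simp [this])
    (by
      intro v hv v' hv'
      obtain ⟨c, rfl⟩ := (Submodule.mem_span_range_iff_exists_fun F).1 hv
      obtain ⟨c', rfl⟩ := (Submodule.mem_span_range_iff_exists_fun F).1 hv'
      rw [hfs, hfs]
      simp only [map_sum, map_smul, LinearMap.sum_apply, LinearMap.smul_apply, hG])
  exact ⟨g, hg1, fun a => (hg2 (x a) (Submodule.subset_span ⟨a, rfl⟩)).trans (hfx a)⟩

variable {B}

theorem symm2 (hA : B.IsAlt) (h2 : (2 : F) = 0) (x y : V) : B x y = B y x := by
  have h := hA.neg_eq x y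
  linear_combination (B x y) * h2 + h

/-- normal form data for an involution `t` -/
structure NF (B : LinearMap.BilinForm F V) (t : V →ₗ[F] V) {r : ℕ} (π : Fin r → Fin r)
    (u d : Fin r → V) : Prop where
  uu : ∀ i j, B (u i) (u j) = 0
  dd : ∀ i j, B (d i) (d j) = 0
  ud : ∀ i j, B (u i) (d j) = if i = j then 1 else 0
  tu : ∀ i, t (u i) = u i
  td : ∀ j, t (d j) = d j + u (π j)
  ty : ∀ y, (∀ i, B y (u i) = 0) → (∀ i, B y (d i) = 0) → t y = y

section NFlemmas

variable {t : V →ₗ[F] V} {r : ℕ} {π : Fin r → Fin r} {u d : Fin r → V}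

theorem NF.du (hA : B.IsAlt) (h2 : (2 : F) = 0) (h : NF B t π u d) (i j : Fin r) :
    B (d i) (u j) = if i = j then 1 else 0 := by
  rw [symm2 hA h2, h.ud]
  simp only [eq_comm]

/-- the joint family -/
def jf (u x : Fin r → V) : Fin (r + r) → V :=
  fun k => Sum.elim u x (finSumFinEquiv.symm k)

theorem NF.li (hA : B.IsAlt) (h2 : (2 : F) = 0) (h : NF B t π u d) :
    LinearIndependent F (jf u d) := by
  have h1 : LinearIndependent F (Sum.elim u d) := by
    rw [Fintype.linearIndependent_iff]
    intro g hg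
    rw [Fintype.sum_sum_type] at hg
    simp only [Sum.elim_inl, Sum.elim_inr] at hg
    have hA' : ∀ k, g (Sum.inl k) = 0 := by
      intro k
      have := congrArg (fun v => B v (d k)) hg
      simp only [map_add, map_sum, map_smul, LinearMap.add_apply, LinearMap.sum_apply,
        LinearMap.smul_apply, smul_eq_mul, h.ud, h.dd, mul_ite, mul_one,
        mul_zero, Finset.sum_ite_eq', Finset.sum_ite_eq, Finset.mem_univ, if_true,
        Finset.sum_const_zero, add_zero, map_zero, LinearMap.zero_apply] at this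
      exact this
    have hB' : ∀ k, g (Sum.inr k) = 0 := by
      intro k
      have := congrArg (fun v => B v (u k)) hg
      simp only [map_add, map_sum, map_smul, LinearMap.add_apply, LinearMap.sum_apply,
        LinearMap.smul_apply, smul_eq_mul, h.uu, NF.du hA h2 h, mul_ite, mul_one,
        mul_zero, Finset.sum_ite_eq', Finset.sum_ite_eq, Finset.mem_univ, if_true,
        Finset.sum_const_zero, zero_add, map_zero, LinearMap.zero_apply] at this
      exact this
    rintro (k | k)
    · exact hA' k
    · exact hB' k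
  exact h1.comp _ finSumFinEquiv.symm.injective

end NFlemmas

theorem conj_of_NF [FiniteDimensional F V] (hB : B.Nondegenerate) (hA : B.IsAlt)
    (h2 : (2 : F) = 0) {t t' : V →ₗ[F] V} {r : ℕ} {π : Fin r → Fin r}
    {u d u' d' : Fin r → V} (ha : NF B t π u d) (hb : NF B t' π u' d') :
    ∃ g : V ≃ₗ[F] V, (∀ v w, B (g v) (g w) = B v w) ∧ ∀ z, g (t z) = t' (g z) := by
  obtain ⟨g, hg1, hg2⟩ := witt_fam B hB hA (jf u d) (jf u' d') (NF.li hA h2 ha)
    (NF.li hA h2 hb) (by
    intro k l
    obtain ⟨k', rfl⟩ := finSumFinEquiv.surjective k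
    obtain ⟨l', rfl⟩ := finSumFinEquiv.surjective l
    simp only [jf, Equiv.symm_apply_apply]
    rcases k' with i | i <;> rcases l' with j | j <;> simp only [Sum.elim_inl, Sum.elim_inr]
    · rw [ha.uu, hb.uu]
    · rw [ha.ud, hb.ud]
    · rw [NF.du hA h2 ha, NF.du hA h2 hb]
    · rw [ha.dd, hb.dd])
  have hgu : ∀ i, g (u i) = u' i := by
    intro i
    have := hg2 (finSumFinEquiv (Sum.inl i))
    simpa only [jf, Equiv.symm_apply_apply, Sum.elim_inl] using this
  have hgd : ∀ i, g (d i) = d' i := by
    intro i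
    have := hg2 (finSumFinEquiv (Sum.inr i))
    simpa only [jf, Equiv.symm_apply_apply, Sum.elim_inr] using this
  refine ⟨g, hg1, ?_⟩
  intro z
  obtain ⟨z', hz'⟩ : ∃ z', z' = z - ∑ i, B z (d i) • u i - ∑ i, B z (u i) • d i := ⟨_, rfl⟩
  have hz'u : ∀ k, B z' (u k) = 0 := by
    intro k
    rw [hz']
    simp only [map_sub, map_sum, map_smul, LinearMap.sub_apply, LinearMap.sum_apply,
      LinearMap.smul_apply, smul_eq_mul, ha.uu, NF.du hA h2 ha, mul_zero, mul_ite, mul_one,
      Finset.sum_const_zero, Finset.sum_ite_eq', Finset.sum_ite_eq, Finset.mem_univ, if_true,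
      sub_zero, sub_self]
  have hz'd : ∀ k, B z' (d k) = 0 := by
    intro k
    rw [hz']
    simp only [map_sub, map_sum, map_smul, LinearMap.sub_apply, LinearMap.sum_apply,
      LinearMap.smul_apply, smul_eq_mul, ha.dd, ha.ud, mul_zero, mul_ite, mul_one,
      Finset.sum_const_zero, Finset.sum_ite_eq', Finset.sum_ite_eq, Finset.mem_univ, if_true,
      sub_zero, sub_self]
  obtain ⟨α, β, hz⟩ : ∃ α β : Fin r → F, z = z' + ∑ i, α i • u i + ∑ i, β i • d i :=
    ⟨fun i => B z (d i), fun i => B z (u i), by rw [hz']; abel⟩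
  have h1 : t z' = z' := ha.ty z' hz'u hz'd
  have h2' : t' (g z') = g z' :=
    hb.ty _ (fun k => by rw [← hgu, hg1, hz'u]) (fun k => by rw [← hgd, hg1, hz'd])
  rw [hz]
  simp only [map_add, map_sum, map_smul, h1, h2', ha.tu, ha.td, hb.tu, hb.td, hgu, hgd]

end Abstract

end Cfsg.Agent.Lib.Helper8.SpInv
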