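import Mathlib
import Cfsg.Agent.Lib.Helper8.SpInvB

/-! # Involutions of symplectic groups in characteristic two: conjugacy (helper8) -/

set_option autoImplicit false
open Cfsg

namespace Cfsg.Agent.Lib.Helper8.SpInv

universe u v

section Inv

variable {F : Type v} [Field F] {V : Type u} [AddCommGroup V] [Module F V]
  [FiniteDimensional F V]
variable {B : LinearMap.BilinForm F V} (hB : B.Nondegenerate) (hA : B.IsAlt) (h2 : (2 : F) = 0)
variable (t N : V →ₗ[F] V) (hN : ∀ x, N x = t x - x) (hiso : ∀ x y, B (t x) (t y) = B x y)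
  (hsq : ∀ x, t (t x) = x)

/-- the form `(x, y) ↦ B (N x) y` -/
def bN (B : LinearMap.BilinForm F V) (N : V →ₗ[F] V) : LinearMap.BilinForm F V :=
  LinearMap.comp B N

include hN hiso hsq in
theorem N_adj (x y : V) : B (N x) y = B x (N y) := by
  have h1 : B (t x) y = B x (t y) := by
    have := hiso (t x) y
    rw [hsq] at this
    exact this.symm
  rw [hN, hN, map_sub, LinearMap.sub_apply, map_sub, h1]

include h2 hN hsq in
theorem N_sq (x : V) : N (N x) = 0 := by
  rw [hN, hN, map_sub, hsq]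
  have h : ∀ v : V, v + v = 0 := fun v => by rw [← two_smul F v, h2, zero_smul]
  have e : x - t x - (t x - x) = (x + x) - (t x + t x) := by abel
  rw [e, h, h, sub_zero]

include hB hA h2 hN hiso hsq in
theorem mk_NF {r : ℕ} (hr : Module.finrank F (LinearMap.range N) = r) (π : Fin r → Fin r)
    (c : Fin r → V) (hc : ∀ i j, B (N (c i)) (c (π j)) = if i = j then 1 else 0) :
    ∃ u d : Fin r → V, NF B t π u d := by
  have hadj := N_adj t N hN hiso hsq
  have hNN := N_sq h2 t N hN hsq
  have hsym := symm2 hA h2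
  have ht : ∀ y, t y = y + N y := by intro y; rw [hN]; abel
  have hX : ∀ b : F, b + b = 0 := fun b => by linear_combination b * h2
  obtain ⟨u, hu⟩ : ∃ u : Fin r → V, u = fun i => N (c i) := ⟨_, rfl⟩
  obtain ⟨d₀, hd₀⟩ : ∃ d₀ : Fin r → V, d₀ = fun j => c (π j) := ⟨_, rfl⟩
  have hud₀ : ∀ i j, B (u i) (d₀ j) = if i = j then 1 else 0 := by
    intro i j; rw [hu, hd₀]; exact hc i j
  have huu : ∀ i j, B (u i) (u j) = 0 := by
    intro i j
    rw [hu]
    show B (N (c i)) (N (c j)) = 0
    rw [← hadj, hNN, map_zero, LinearMap.zero_apply]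
  have hNu : ∀ i, N (u i) = 0 := fun i => by rw [hu]; exact hNN _
  have hNd₀ : ∀ i, N (d₀ i) = u (π i) := fun i => by rw [hu, hd₀]
  obtain ⟨γ, hγ⟩ : ∃ γ : Fin r → Fin r → F,
      γ = fun i j => if i < j then B (d₀ i) (d₀ j) else 0 := ⟨_, rfl⟩
  obtain ⟨d, hd⟩ : ∃ d : Fin r → V, d = fun i => d₀ i + ∑ j, γ i j • u j := ⟨_, rfl⟩
  have hNd : ∀ i, N (d i) = u (π i) := by
    intro i
    rw [hd]
    show N (d₀ i + ∑ j, γ i j • u j) = u (π i)
    rw [map_add, map_sum]
    simp only [map_smul, hNu, smul_zero, Finset.sum_const_zero, add_zero]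
    exact hNd₀ i
  have hud : ∀ i j, B (u i) (d j) = if i = j then 1 else 0 := by
    intro i j
    rw [hd]
    show B (u i) (d₀ j + ∑ k, γ j k • u k) = _
    rw [map_add, map_sum]
    simp only [map_smul, huu, smul_zero, Finset.sum_const_zero, add_zero]
    exact hud₀ i j
  have hd₀u : ∀ i j, B (d₀ i) (u j) = if i = j then 1 else 0 := by
    intro i j
    rw [hsym, hud₀]
    simp only [eq_comm]
  have hdd : ∀ i k, B (d i) (d k) = 0 := by
    intro i k
    rw [hd]
    show B (d₀ i + ∑ j, γ i j • u j) (d₀ k + ∑ l, γ k l • u l) = 0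
    simp only [map_add, map_sum, map_smul, LinearMap.add_apply, LinearMap.sum_apply,
      LinearMap.smul_apply, smul_eq_mul, huu, hud₀, hd₀u, mul_zero, Finset.sum_const_zero,
      add_zero, mul_ite, mul_one, Finset.sum_ite_eq, Finset.sum_ite_eq', Finset.mem_univ,
      if_true]
    rcases lt_trichotomy i k with h | h | h
    · have h1 : γ i k = B (d₀ i) (d₀ k) := by rw [hγ]; simp [h]
      have h2' : γ k i = 0 := by
        rw [hγ]
        simp [not_lt.2 h.le]
      rw [h1, h2']
      linear_combination hX (B (d₀ i) (d₀ k))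
    · subst h
      have h1 : γ i i = 0 := by rw [hγ]; simp
      rw [h1, hA]
      simp
    · have h1 : γ i k = 0 := by
        rw [hγ]
        simp [not_lt.2 h.le]
      have h2' : γ k i = B (d₀ k) (d₀ i) := by rw [hγ]; simp [h]
      rw [h1, h2', hsym (d₀ k) (d₀ i)]
      linear_combination hX (B (d₀ i) (d₀ k))
  have hli : LinearIndependent F u := by
    rw [Fintype.linearIndependent_iff]
    intro g hg j
    have := congrArg (fun v => B v (d j)) hg
    simp only [map_sum, map_smul, LinearMap.sum_apply, LinearMap.smul_apply, smul_eq_mul, hud,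
      mul_ite, mul_one, mul_zero, Finset.sum_ite_eq', Finset.mem_univ, if_true, map_zero,
      LinearMap.zero_apply] at this
    exact this
  have hspan : Submodule.span F (Set.range u) = LinearMap.range N := by
    apply Submodule.eq_of_le_of_finrank_eq
    · rw [Submodule.span_le]
      rintro _ ⟨i, rfl⟩
      rw [hu]
      exact ⟨c i, rfl⟩
    · rw [finrank_span_eq_card hli, Fintype.card_fin, hr]
  refine ⟨u, d, huu, hdd, hud, fun i => ?_, fun i => ?_, fun y hyu _ => ?_⟩
  · rw [ht, hNu, add_zero]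
  · rw [ht, hNd]
  · rw [ht]
    have : N y = 0 := by
      apply hB.1
      intro z
      rw [hadj]
      have hz : N z ∈ Submodule.span F (Set.range u) := by
        rw [hspan]; exact ⟨z, rfl⟩
      obtain ⟨g, hg⟩ := (Submodule.mem_span_range_iff_exists_fun F).1 hz
      rw [← hg, map_sum]
      simp only [map_smul, hyu, smul_zero, Finset.sum_const_zero]
    rw [this, add_zero]

include hB hA h2 hN hiso hsq in
/-- a complement of `ker N` on which `(x,y) ↦ B (N x) y` is nondegenerate -/
theorem exists_compl : ∃ C : Submodule F V,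
    Module.finrank F C = Module.finrank F (LinearMap.range N) ∧
    (∀ x : C, (∀ y : C, B (N x.1) y.1 = 0) → x = 0) ∧
    (∀ v : V, ∃ c : C, B (N c.1) c.1 = B (N v) v) := by
  have hadj := N_adj t N hN hiso hsq
  obtain ⟨C, hC⟩ := (LinearMap.ker N).exists_isCompl
  have hrC : Module.finrank F C = Module.finrank F (LinearMap.range N) := by
    have h1 := Submodule.finrank_add_eq_of_isCompl hC
    have h2 := LinearMap.finrank_range_add_finrank_ker N
    omega
  refine ⟨C, hrC, ?_, ?_⟩
  · intro x hx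
    have hNx : N x.1 = 0 := by
      apply hB.1
      intro z
      have hz : z ∈ LinearMap.ker N ⊔ C := by rw [hC.sup_eq_top]; exact Submodule.mem_top
      obtain ⟨k, hk, c, hc, rfl⟩ := Submodule.mem_sup.1 hz
      have hk' : N k = 0 := hk
      rw [map_add, hadj x.1 k, hk', map_zero, zero_add]
      exact hx ⟨c, hc⟩
    have hxK : x.1 ∈ LinearMap.ker N := hNx
    have : x.1 ∈ LinearMap.ker N ⊓ C := ⟨hxK, x.2⟩
    rw [hC.inf_eq_bot, Submodule.mem_bot] at this
    exact Subtype.ext this
  · intro v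
    have hv : v ∈ LinearMap.ker N ⊔ C := by rw [hC.sup_eq_top]; exact Submodule.mem_top
    obtain ⟨k, hk, c, hc, rfl⟩ := Submodule.mem_sup.1 hv
    have hk' : N k = 0 := hk
    refine ⟨⟨c, hc⟩, ?_⟩
    show B (N c) c = B (N (k + c)) (k + c)
    rw [map_add N, hk', zero_add, map_add, hadj c k, hk', map_zero, zero_add]

include hA h2 hN in
theorem type_eq (v : V) : B (N v) v = B v (t v) := by
  have ht : t v = v + N v := by rw [hN]; abel
  rw [ht, map_add, hA, zero_add, symm2 hA h2]

include hB hA h2 hN hiso hsq in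
theorem exists_NF_nonalt (hsqr : ∀ d : F, ∃ l, l * l = d) (hna : ∃ v, B v (t v) ≠ 0)
    {r : ℕ} (hr : Module.finrank F (LinearMap.range N) = r) :
    ∃ u d : Fin r → V, NF B t id u d := by
  have hadj := N_adj t N hN hiso hsq
  obtain ⟨C, hrC, hnd, hrep⟩ := exists_compl hB hA h2 t N hN hiso hsq
  obtain ⟨v0, hv0⟩ := hna
  obtain ⟨c0, hc0⟩ := hrep v0
  rw [type_eq hA h2 t N hN v0] at hc0
  obtain ⟨w, hw⟩ := exists_orthonormal2 h2 hsqr r C ((bN B N).restrict C)
    (fun a b => by
      show B (N a.1) b.1 = B (N b.1) a.1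
      rw [hadj, symm2 hA h2])
    (fun x hx => hnd x hx) (by rw [hrC, hr])
    (fun _ => ⟨c0, by
      show B (N c0.1) c0.1 ≠ 0
      rw [hc0]; exact hv0⟩)
  exact mk_NF hB hA h2 t N hN hiso hsq hr id (fun i => (w i : V)) (fun i j => hw i j)

/-- the swap of the two halves of `Fin (k + k)` -/
def swp (k : ℕ) : Fin (k + k) → Fin (k + k) :=
  fun j => finSumFinEquiv (Sum.swap (finSumFinEquiv.symm j))

include hB hA h2 hN hiso hsq in
theorem exists_NF_alt (halt : ∀ v, B v (t v) = 0) :
    ∃ k, Module.finrank F (LinearMap.range N) = k + k ∧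
      ∃ u d : Fin (k + k) → V, NF B t (swp k) u d := by
  have hadj := N_adj t N hN hiso hsq
  obtain ⟨C, hrC, hnd, hrep⟩ := exists_compl hB hA h2 t N hN hiso hsq
  have hsymC : ∀ a b : C, B (N a.1) b.1 = B (N b.1) a.1 := by
    intro a b
    rw [hadj, symm2 hA h2]
  have hAC : ((bN B N).restrict C).IsAlt := by
    intro x
    show B (N x.1) x.1 = 0
    rw [type_eq hA h2 t N hN]
    exact halt _
  have hndC : ((bN B N).restrict C).Nondegenerate := by
    constructor
    · intro x hx
      exact hnd x hx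
    · intro x hx
      apply hnd x
      intro y
      rw [hsymC]
      exact hx y
  obtain ⟨k, hk, p, hp1, hp2, hp3⟩ := Cfsg.Agent.Lib.Helper8.SpInv.exists_SB' _ C ((bN B N).restrict C)
    hAC hndC hrC
  have hp1' : ∀ i j, B (N (p.1 i).1) (p.2 j).1 = if i = j then 1 else 0 := hp1
  have hp2' : ∀ i j, B (N (p.1 i).1) (p.1 j).1 = 0 := hp2
  have hp3' : ∀ i j, B (N (p.2 i).1) (p.2 j).1 = 0 := hp3
  refine ⟨k, hk, ?_⟩
  apply mk_NF hB hA h2 t N hN hiso hsq hk (swp k)
    (fun i => Sum.elim (fun a => ((p.1 a : C) : V)) (fun a => ((p.2 a : C) : V))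
      (finSumFinEquiv.symm i))
  intro i j
  obtain ⟨i', rfl⟩ := finSumFinEquiv.surjective i
  obtain ⟨j', rfl⟩ := finSumFinEquiv.surjective j
  simp only [swp, Equiv.symm_apply_apply, EmbeddingLike.apply_eq_iff_eq]
  rcases i' with a | a <;> rcases j' with b | b <;>
    simp only [Sum.elim_inl, Sum.elim_inr, Sum.swap_inl, Sum.swap_inr]
  · rw [hp1']
    simp only [Sum.inl.injEq]
  · rw [hp2']
    simp
  · rw [hp3']
    simp
  · rw [hsymC, hp1']
    simp only [Sum.inr.injEq, eq_comm]

end Inv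

section Conj

variable {F : Type v} [Field F] {V : Type u} [AddCommGroup V] [Module F V]
  [FiniteDimensional F V]
variable {B : LinearMap.BilinForm F V}

theorem conj_abstract (hB : B.Nondegenerate) (hA : B.IsAlt) (h2 : (2 : F) = 0)
    (hsqr : ∀ d : F, ∃ l, l * l = d)
    (t N : V →ₗ[F] V) (hN : ∀ x, N x = t x - x) (hiso : ∀ x y, B (t x) (t y) = B x y)
    (hsq : ∀ x, t (t x) = x)
    (t' N' : V →ₗ[F] V) (hN' : ∀ x, N' x = t' x - x) (hiso' : ∀ x y, B (t' x) (t' y) = B x y)
    (hsq' : ∀ x, t' (t' x) = x)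
    (hrank : Module.finrank F (LinearMap.range N) = Module.finrank F (LinearMap.range N'))
    (htype : (∀ v, B v (t v) = 0) ↔ (∀ v, B v (t' v) = 0)) :
    ∃ g : V ≃ₗ[F] V, (∀ v w, B (g v) (g w) = B v w) ∧ ∀ z, g (t z) = t' (g z) := by
  by_cases h : ∀ v, B v (t v) = 0
  · obtain ⟨k, hk, u, d, hnf⟩ := exists_NF_alt hB hA h2 t N hN hiso hsq h
    obtain ⟨k', hk', u', d', hnf'⟩ := exists_NF_alt hB hA h2 t' N' hN' hiso' hsq' (htype.1 h)
    have hkk : k = k' := by omega
    subst hkk
    exact conj_of_NF hB hA h2 hnf hnf'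
  · have h' : ¬ ∀ v, B v (t' v) = 0 := fun h'' => h (htype.2 h'')
    push Not at h h'
    obtain ⟨u, d, hnf⟩ := exists_NF_nonalt hB hA h2 t N hN hiso hsq hsqr h rfl
    obtain ⟨u', d', hnf'⟩ := exists_NF_nonalt hB hA h2 t' N' hN' hiso' hsq' hsqr h' hrank.symm
    exact conj_of_NF hB hA h2 hnf hnf'

end Conj

end Cfsg.Agent.Lib.Helper8.SpInv
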