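import Mathlib
import Cfsg.Agent.Lib.Helper8.SpInvC

/-! # Involutions in characteristic two: frames `N x = ∑ B(x, u_{π i}) u_i` (helper8) -/

set_option autoImplicit false
open Cfsg

namespace Cfsg.Agent.Lib.Helper8.SpInv

universe u v

section Frames

variable {F : Type v} [Field F] {V : Type u} [AddCommGroup V] [Module F V]
  [FiniteDimensional F V]

/-- a frame for the nilpotent part `N = t - 1` of an involution -/
structure Frame (B : LinearMap.BilinForm F V) (N : V →ₗ[F] V) {r : ℕ} (π : Fin r → Fin r)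
    (u c : Fin r → V) : Prop where
  uc : ∀ i j, B (u i) (c (π j)) = if i = j then 1 else 0
  Nc : ∀ i, N (c i) = u i
  uu : ∀ i j, B (u i) (u j) = 0
  li : LinearIndependent F u
  Nx : ∀ x, N x = ∑ i, B x (u (π i)) • u i

variable {B : LinearMap.BilinForm F V} (hB : B.Nondegenerate) (hA : B.IsAlt) (h2 : (2 : F) = 0)
variable (t N : V →ₗ[F] V) (hN : ∀ x, N x = t x - x) (hiso : ∀ x y, B (t x) (t y) = B x y)
  (hsq : ∀ x, t (t x) = x)

include hB hA h2 hN hiso hsq in
theorem mk_frame {r : ℕ} (hr : Module.finrank F (LinearMap.range N) = r) (π : Fin r → Fin r)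
    (c : Fin r → V) (hc : ∀ i j, B (N (c i)) (c (π j)) = if i = j then 1 else 0) :
    Frame B N π (fun i => N (c i)) c := by
  have hadj := N_adj t N hN hiso hsq
  have hNN := N_sq h2 t N hN hsq
  have huu : ∀ i j, B (N (c i)) (N (c j)) = 0 := by
    intro i j
    rw [← hadj, hNN, map_zero, LinearMap.zero_apply]
  have hli : LinearIndependent F (fun i => N (c i)) := by
    rw [Fintype.linearIndependent_iff]
    intro g hg j
    have := congrArg (fun v => B v (c (π j))) hg
    simp only [map_sum, map_smul, LinearMap.sum_apply, LinearMap.smul_apply, smul_eq_mul, hc,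
      mul_ite, mul_one, mul_zero, Finset.sum_ite_eq', Finset.mem_univ, if_true, map_zero,
      LinearMap.zero_apply] at this
    exact this
  have hspan : Submodule.span F (Set.range (fun i => N (c i))) = LinearMap.range N := by
    apply Submodule.eq_of_le_of_finrank_eq
    · rw [Submodule.span_le]
      rintro _ ⟨i, rfl⟩
      exact ⟨c i, rfl⟩
    · rw [finrank_span_eq_card hli, Fintype.card_fin, hr]
  refine ⟨hc, fun i => rfl, huu, hli, fun x => ?_⟩
  have hx : N x ∈ Submodule.span F (Set.range (fun i => N (c i))) := by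
    rw [hspan]; exact ⟨x, rfl⟩
  obtain ⟨g, hg⟩ := (Submodule.mem_span_range_iff_exists_fun F).1 hx
  have hgi : ∀ i, g i = B x (N (c (π i))) := by
    intro i
    have := congrArg (fun v => B v (c (π i))) hg
    simp only [map_sum, map_smul, LinearMap.sum_apply, LinearMap.smul_apply, smul_eq_mul, hc,
      mul_ite, mul_one, mul_zero, Finset.sum_ite_eq', Finset.mem_univ, if_true] at this
    rw [this, hadj]
  rw [← hg]
  apply Finset.sum_congr rfl
  intro i _
  rw [hgi]

include hB hA h2 hN hiso hsq in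
theorem exists_frame_nonalt (hsqr : ∀ d : F, ∃ l, l * l = d) (hna : ∃ v, B v (t v) ≠ 0)
    {r : ℕ} (hr : Module.finrank F (LinearMap.range N) = r) :
    ∃ u c : Fin r → V, Frame B N id u c := by
  have hadj := N_adj t N hN hiso hsq
  obtain ⟨C, hrC, hnd, hrep⟩ := exists_compl hB hA h2 t N hN hiso hsq
  obtain ⟨v0, hv0⟩ := hna
  obtain ⟨c0, hc0⟩ := hrep v0
  rw [type_eq hA h2 t N hN v0] at hc0
  obtain ⟨w, hw⟩ := exists_orthonormal2 h2 hsqr r C ((bN B N).restrict C)
    (fun a b => by
      show B (N a.1) b.1 = B (N b.1) a.1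
      rw [hadj, symm2 hA h2])
    (fun x hx => hnd x hx) (by rw [hrC, hr])
    (fun _ => ⟨c0, by
      show B (N c0.1) c0.1 ≠ 0
      rw [hc0]; exact hv0⟩)
  exact ⟨_, _, mk_frame hB hA h2 t N hN hiso hsq hr id (fun i => (w i : V)) (fun i j => hw i j)⟩

include hB hA h2 hN hiso hsq in
theorem exists_frame_alt (halt : ∀ v, B v (t v) = 0) :
    ∃ k, Module.finrank F (LinearMap.range N) = k + k ∧
      ∃ u c : Fin (k + k) → V, Frame B N (swp k) u c := by
  have hadj := N_adj t N hN hiso hsq
  obtain ⟨C, hrC, hnd, hrep⟩ := exists_compl hB hA h2 t N hN hiso hsq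
  have hsymC : ∀ a b : C, B (N a.1) b.1 = B (N b.1) a.1 := by
    intro a b
    rw [hadj, symm2 hA h2]
  have hAC : ((bN B N).restrict C).IsAlt := by
    intro x
    show B (N x.1) x.1 = 0
    rw [type_eq hA h2 t N hN]
    exact halt _
  have hndC : ((bN B N).restrict C).Nondegenerate := by
    constructor
    · intro x hx
      exact hnd x hx
    · intro x hx
      apply hnd x
      intro y
      rw [hsymC]
      exact hx y
  obtain ⟨k, hk, p, hp1, hp2, hp3⟩ := exists_SB' _ C ((bN B N).restrict C)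
    hAC hndC hrC
  have hp1' : ∀ i j, B (N (p.1 i).1) (p.2 j).1 = if i = j then 1 else 0 := hp1
  have hp2' : ∀ i j, B (N (p.1 i).1) (p.1 j).1 = 0 := hp2
  have hp3' : ∀ i j, B (N (p.2 i).1) (p.2 j).1 = 0 := hp3
  refine ⟨k, hk, _, _, mk_frame hB hA h2 t N hN hiso hsq hk (swp k)
    (fun i => Sum.elim (fun a => ((p.1 a : C) : V)) (fun a => ((p.2 a : C) : V))
      (finSumFinEquiv.symm i)) ?_⟩
  intro i j
  obtain ⟨i', rfl⟩ := finSumFinEquiv.surjective i
  obtain ⟨j', rfl⟩ := finSumFinEquiv.surjective j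
  simp only [swp, Equiv.symm_apply_apply, EmbeddingLike.apply_eq_iff_eq]
  rcases i' with a | a <;> rcases j' with b | b <;>
    simp only [Sum.elim_inl, Sum.elim_inr, Sum.swap_inl, Sum.swap_inr]
  · rw [hp1']
    simp only [Sum.inl.injEq]
  · rw [hp2']
    simp
  · rw [hp3']
    simp
  · rw [hsymC, hp1']
    simp only [Sum.inr.injEq, eq_comm]

end Frames

end Cfsg.Agent.Lib.Helper8.SpInv
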