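import Mathlib
import Cfsg.Agent.Lib.Helper8.SpInvD
import Cfsg.Agent.Lib.Helper5.QuadWitt
import Cfsg.Agent.H9.OrthA

/-! # Involutions of orthogonal groups in characteristic two: conjugacy (helper8) -/

set_option autoImplicit false
open Cfsg

namespace Cfsg.Agent.Lib.Helper8.SpInv

universe u v

section QAbstract

variable {F : Type v} [Field F] {V : Type u} [AddCommGroup V] [Module F V]
variable (Q : QuadraticForm F V)

theorem polarBilin_isAlt (h2 : (2 : F) = 0) : (QuadraticMap.polarBilin Q).IsAlt := by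
  intro x
  rw [QuadraticMap.polarBilin_apply_apply, QuadraticMap.polar_self, two_smul]
  linear_combination (Q x) * h2

variable {Q}

/-- `Q (N x) = B (N x) x` for `N = t - 1`, `t` an isometry, characteristic two -/
theorem Q_N (h2 : (2 : F) = 0) (t N : V →ₗ[F] V) (hN : ∀ x, N x = t x - x)
    (hisoQ : ∀ x, Q (t x) = Q x) (x : V) :
    Q (N x) = QuadraticMap.polarBilin Q (N x) x := by
  have hA := polarBilin_isAlt Q h2
  rw [hN, Cfsg.Agent.S0750.Q_sub, hisoQ, map_sub, LinearMap.sub_apply, hA x, sub_zero]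
  linear_combination (Q x - QuadraticMap.polarBilin Q (t x) x) * h2

theorem conj_abstract_Q [Finite F] [FiniteDimensional F V] (h2 : (2 : F) = 0)
    (hsqr : ∀ d : F, ∃ l, l * l = d)
    (hQ : (QuadraticMap.polarBilin Q).Nondegenerate)
    (t N : V →ₗ[F] V) (hN : ∀ x, N x = t x - x) (hisoQ : ∀ x, Q (t x) = Q x)
    (hsq : ∀ x, t (t x) = x)
    (t' N' : V →ₗ[F] V) (hN' : ∀ x, N' x = t' x - x) (hisoQ' : ∀ x, Q (t' x) = Q x)
    (hsq' : ∀ x, t' (t' x) = x)
    (hrank : Module.finrank F (LinearMap.range N) = Module.finrank F (LinearMap.range N'))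
    (htype : (∀ v, QuadraticMap.polarBilin Q v (t v) = 0) ↔
      (∀ v, QuadraticMap.polarBilin Q v (t' v) = 0)) :
    ∃ g : V ≃ₗ[F] V, (∀ v, Q (g v) = Q v) ∧ ∀ z, g (t z) = t' (g z) := by
  have hA := polarBilin_isAlt Q h2
  have hiso := Cfsg.Agent.S0750.polar_of_isometry Q t hisoQ
  have hiso' := Cfsg.Agent.S0750.polar_of_isometry Q t' hisoQ'
  -- common frame data
  obtain ⟨r, π, u, c, u', c', hf, hf', hQu⟩ : ∃ (r : ℕ) (π : Fin r → Fin r)
      (u c u' c' : Fin r → V), Frame (QuadraticMap.polarBilin Q) N π u c ∧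
        Frame (QuadraticMap.polarBilin Q) N' π u' c' ∧ ∀ i, Q (u i) = Q (u' i) := by
    by_cases h : ∀ v, QuadraticMap.polarBilin Q v (t v) = 0
    · obtain ⟨k, hk, u, c, hf⟩ := exists_frame_alt hQ hA h2 t N hN hiso hsq h
      obtain ⟨k', hk', u', c', hf'⟩ := exists_frame_alt hQ hA h2 t' N' hN' hiso' hsq'
        (htype.1 h)
      have hkk : k = k' := by omega
      subst hkk
      refine ⟨k + k, swp k, u, c, u', c', hf, hf', fun i => ?_⟩
      rw [← hf.Nc, ← hf'.Nc, Q_N h2 t N hN hisoQ, Q_N h2 t' N' hN' hisoQ',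
        type_eq hA h2 t N hN, type_eq hA h2 t' N' hN', h, htype.1 h]
    · have h' : ¬ ∀ v, QuadraticMap.polarBilin Q v (t' v) = 0 := fun h'' => h (htype.2 h'')
      push Not at h h'
      obtain ⟨u, c, hf⟩ := exists_frame_nonalt hQ hA h2 t N hN hiso hsq hsqr h rfl
      obtain ⟨u', c', hf'⟩ := exists_frame_nonalt hQ hA h2 t' N' hN' hiso' hsq' hsqr h'
        hrank.symm
      refine ⟨_, id, u, c, u', c', hf, hf', fun i => ?_⟩
      have e1 : Q (u i) = 1 := by
        rw [← hf.Nc, Q_N h2 t N hN hisoQ, hf.Nc]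
        have := hf.uc i i
        simpa using this
      have e2 : Q (u' i) = 1 := by
        rw [← hf'.Nc, Q_N h2 t' N' hN' hisoQ', hf'.Nc]
        have := hf'.uc i i
        simpa using this
      rw [e1, e2]
  obtain ⟨g, hg1, hg2⟩ := Cfsg.Agent.Lib.Helper5.QuadWitt.witt_family Q hQ u u' hf.li hf'.li hQu
    (fun k k' => by rw [hf.uu, hf'.uu])
  have hgB := Cfsg.Agent.S0750.polar_of_isometry Q g.toLinearMap hg1
  have hgN : ∀ x, g (N x) = N' (g x) := by
    intro x
    rw [hf.Nx, hf'.Nx, map_sum]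
    apply Finset.sum_congr rfl
    intro i _
    rw [map_smul, hg2, ← hg2 (π i)]
    congr 1
    exact (hgB x (u (π i))).symm
  refine ⟨g, hg1, fun z => ?_⟩
  have e1 : t z = z + N z := by rw [hN]; abel
  have e2 : t' (g z) = g z + N' (g z) := by rw [hN']; abel
  rw [e1, e2, map_add, hgN]

end QAbstract

section Concrete

open Matrix Cfsg.Agent.H9.Orth

variable {ι : Type} [Fintype ι] [DecidableEq ι] {F : Type*} [Field F] {Q : (ι → F) → F}

/-- bundle a quadratic function as a Mathlib quadratic form -/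
noncomputable def toQF (hQ : Cfsg.Geo.IsNondegenerateQuadraticForm Q) : QuadraticForm F (ι → F) :=
  { toFun := Q
    toFun_smul := fun a x => by rw [hQ.smul, smul_eq_mul, sq]
    exists_companion' := ⟨BF hQ, fun x y => by
      rw [BF_apply, pol, QuadraticMap.polar]; ring⟩ }

theorem toQF_apply (hQ : Cfsg.Geo.IsNondegenerateQuadraticForm Q) (x : ι → F) :
    toQF hQ x = Q x := rfl

theorem polarBilin_toQF (hQ : Cfsg.Geo.IsNondegenerateQuadraticForm Q) (x y : ι → F) :
    QuadraticMap.polarBilin (toQF hQ) x y = Q (x + y) - Q x - Q y := rfl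

theorem polarBilin_toQF_nondeg (hQ : Cfsg.Geo.IsNondegenerateQuadraticForm Q) :
    (QuadraticMap.polarBilin (toQF hQ)).Nondegenerate := by
  have h : QuadraticMap.polarBilin (toQF hQ) = BF hQ := by
    apply LinearMap.ext₂
    intro x y
    rfl
  rw [h]
  exact BF_nondegenerate hQ

end Concrete

end Cfsg.Agent.Lib.Helper8.SpInv
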