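import Mathlib
import Cfsg.Agent.Lib.Helper8.SpInvE
import Cfsg.Agent.H9.OrthN
import Cfsg.Agent.Lib.Helper5.Orth.PlusMinusForm

/-! # The minus-type quadratic form has Witt index `k`: no totally singular `(k+1)`-subspace
(helper8) -/

set_option autoImplicit false
open Cfsg

namespace Cfsg.Agent.Lib.Helper8.MinusTS

open Matrix Cfsg.Agent.H9.Orth Cfsg.Agent.Lib.Helper8.SpInv

variable {F : Type*} [Field F] [Fintype F] (k : ℕ) (a b : F)

/-- the standard singular vectors `e_i` -/
def ev (i : Fin k) : (Fin k ⊕ Fin k) ⊕ Fin 2 → F := Pi.single (Sum.inl (Sum.inl i)) 1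

theorem Q_ev (i : Fin k) : Cfsg.quadFormMinus k F a b (ev k i) = 0 := by
  unfold Cfsg.quadFormMinus ev
  simp

theorem polar_ev (w : (Fin k ⊕ Fin k) ⊕ Fin 2 → F) (i : Fin k) :
    QuadraticMap.polar (Cfsg.quadFormMinus k F a b) w (ev k i) = w (Sum.inl (Sum.inr i)) := by
  classical
  rw [Cfsg.Agent.Lib.Helper5.OrthPM.polar_quadFormMinus]
  unfold ev
  simp only [Pi.single_apply, reduceCtorEq, if_false, mul_zero, zero_mul, add_zero,
    Sum.inl.injEq, zero_add]
  rw [Finset.sum_eq_single i]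
  · simp
  · intro j _ hj
    simp [hj]
  · intro hi
    exact absurd (Finset.mem_univ _) hi

theorem no_ts (hab : ∀ z₁ z₂ : F, z₁ ^ 2 + a * z₁ * z₂ + b * z₂ ^ 2 = 0 → z₁ = 0 ∧ z₂ = 0)
    (U : Submodule F ((Fin k ⊕ Fin k) ⊕ Fin 2 → F))
    (hU : Cfsg.Geo.IsTotallySingularQuad (Cfsg.quadFormMinus k F a b) U) :
    Module.finrank F U ≤ k := by
  classical
  by_contra hlt
  push Not at hlt
  have hQ := isNondeg_quadFormMinus (F := F) k a b hab
  -- a linearly independent family of `k + 1` vectors in `U`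
  obtain ⟨u, hu, huU⟩ : ∃ u : Fin (k + 1) → ((Fin k ⊕ Fin k) ⊕ Fin 2 → F),
      LinearIndependent F u ∧ ∀ i, u i ∈ U := by
    have b0 := Module.finBasis F U
    have hle : k + 1 ≤ Module.finrank F U := hlt
    let f : Fin (k + 1) → U := fun i => b0 (Fin.castLE hle i)
    refine ⟨fun i => (f i : (Fin k ⊕ Fin k) ⊕ Fin 2 → F), ?_, fun i => (f i).2⟩
    have h1 : LinearIndependent F f :=
      b0.linearIndependent.comp _ (Fin.castLE_injective hle)
    exact h1.map' U.subtype (Submodule.ker_subtype U)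
  have hUpol : ∀ x ∈ U, ∀ y ∈ U, QuadraticMap.polar (Cfsg.quadFormMinus k F a b) x y = 0 := by
    intro x hx y hy
    unfold QuadraticMap.polar
    rw [hU _ (Submodule.add_mem _ hx hy), hU x hx, hU y hy]
    ring
  have hev_li : LinearIndependent F (fun i : Fin k => ev (F := F) k i) := by
    have h1 := (Pi.basisFun F ((Fin k ⊕ Fin k) ⊕ Fin 2)).linearIndependent
    have h2 := h1.comp (fun i : Fin k => (Sum.inl (Sum.inl i) : (Fin k ⊕ Fin k) ⊕ Fin 2))
      (fun i j h => by simpa using h)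
    convert h2 using 1
    ext i j
    simp [ev, Pi.basisFun_apply]
  obtain ⟨g, hg1, hg2⟩ := Cfsg.Agent.Lib.Helper5.QuadWitt.witt_family (toQF hQ)
    (polarBilin_toQF_nondeg hQ) (fun i : Fin k => u i.succ) (fun i : Fin k => ev k i)
    (hu.comp _ (Fin.succ_injective k)) hev_li
    (fun i => by
      rw [toQF_apply, toQF_apply, hU _ (huU _), Q_ev])
    (fun i j => by
      show QuadraticMap.polar (Cfsg.quadFormMinus k F a b) _ _ =
        QuadraticMap.polar (Cfsg.quadFormMinus k F a b) _ _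
      rw [hUpol _ (huU _) _ (huU _), polar_ev]
      simp [ev])
  have hgB := Cfsg.Agent.S0750.polar_of_isometry (toQF hQ) g.toLinearMap hg1
  obtain ⟨w, hw⟩ : ∃ w, w = g (u 0) := ⟨_, rfl⟩
  have hQw : Cfsg.quadFormMinus k F a b w = 0 := by
    have := hg1 (u 0)
    rw [toQF_apply, toQF_apply, hU _ (huU 0)] at this
    rw [hw]; exact this
  have hwy : ∀ i : Fin k, w (Sum.inl (Sum.inr i)) = 0 := by
    intro i
    rw [← polar_ev k a b w i, hw, ← hg2 i]
    have := hgB (u 0) (u i.succ)
    have e : QuadraticMap.polarBilin (toQF hQ) (u 0) (u i.succ) = 0 :=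
      hUpol _ (huU _) _ (huU _)
    rw [e] at this
    exact this
  have hwz : w (Sum.inr 0) = 0 ∧ w (Sum.inr 1) = 0 := by
    apply hab
    unfold Cfsg.quadFormMinus at hQw
    simp only [hwy, mul_zero, Finset.sum_const_zero, zero_add] at hQw
    exact hQw
  have hwsum : w = ∑ i : Fin k, w (Sum.inl (Sum.inl i)) • ev k i := by
    ext j
    rw [Finset.sum_apply]
    simp only [Pi.smul_apply, ev, Pi.single_apply, smul_eq_mul, mul_ite, mul_one, mul_zero]
    rcases j with (j | j) | j
    · simp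
    · simp [hwy]
    · fin_cases j
      · simpa using hwz.1
      · simpa using hwz.2
  have hginj : g (u 0 - ∑ i : Fin k, w (Sum.inl (Sum.inl i)) • u i.succ) = 0 := by
    rw [map_sub, map_sum, ← hw]
    simp only [map_smul, hg2]
    rw [← hwsum, sub_self]
  have h0 : u 0 - ∑ i : Fin k, w (Sum.inl (Sum.inl i)) • u i.succ = 0 :=
    (LinearEquiv.map_eq_zero_iff g).1 hginj
  -- contradiction with linear independence
  have hdep := Fintype.linearIndependent_iff.1 hu
    (Fin.cons 1 (fun i => - w (Sum.inl (Sum.inl i)))) (by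
      rw [Fin.sum_univ_succ]
      simp only [Fin.cons_zero, Fin.cons_succ, one_smul, neg_smul, Finset.sum_neg_distrib]
      rw [← sub_eq_add_neg]
      exact h0) 0
  simp at hdep

end Cfsg.Agent.Lib.Helper8.MinusTS
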