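import Mathlib
import Cfsg.Agent.Lib.Helper8.SpInvE

/-! # Involutions of orthogonal groups in characteristic two: `O`-conjugacy is `Sp`-conjugacy
(helper8) -/

set_option autoImplicit false
open Cfsg

namespace Cfsg.Agent.Lib.Helper8.SpInv

section Generic

open Matrix Cfsg.Agent.H9.Orth

variable {ι : Type} [Fintype ι] [DecidableEq ι] {F : Type*} [Field F] {Q : (ι → F) → F}

theorem sq_surj' [Finite F] (h2 : (2 : F) = 0) (d : F) : ∃ l : F, l * l = d := by
  have hinj : Function.Injective (fun y : F => y * y) := by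
    intro y z hyz
    have hyz' : y * y = z * z := hyz
    have : (y - z) * (y - z) = 0 := by
      linear_combination hyz' + (z * z - y * z) * h2
    have := mul_self_eq_zero.1 this
    exact sub_eq_zero.1 this
  exact Finite.surjective_of_injective hinj d

/-- involution data of an isometry of order two -/
theorem inv_data_Q (hQ : Cfsg.Geo.IsNondegenerateQuadraticForm Q)
    (t : ↥(Cfsg.isometryGroup F Q)) (ht : orderOf t = 2) :
    (∀ x, (((t : GL ι F) : Matrix ι ι F) - 1).mulVecLin x =
      ((t : GL ι F) : Matrix ι ι F).mulVecLin x - x) ∧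
    (∀ x, toQF hQ (((t : GL ι F) : Matrix ι ι F).mulVecLin x) = toQF hQ x) ∧
    (∀ x, ((t : GL ι F) : Matrix ι ι F).mulVecLin
      (((t : GL ι F) : Matrix ι ι F).mulVecLin x) = x) := by
  refine ⟨fun x => ?_, fun x => ?_, fun x => ?_⟩
  · simp only [Matrix.mulVecLin_apply, Matrix.sub_mulVec, Matrix.one_mulVec]
  · simp only [Matrix.mulVecLin_apply, toQF_apply]
    exact (mem_isometryGroup_iff _).1 t.2 x
  · simp only [Matrix.mulVecLin_apply]
    have h1 : t * t = 1 := by
      have := pow_orderOf_eq_one t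
      rw [ht, pow_two] at this
      exact this
    have h2 : ((t : GL ι F) : Matrix ι ι F) * ((t : GL ι F) : Matrix ι ι F) = 1 := by
      have := congrArg (fun z : ↥(Cfsg.isometryGroup F Q) => ((z : GL ι F) : Matrix ι ι F)) h1
      simpa using this
    rw [Matrix.mulVec_mulVec, h2, Matrix.one_mulVec]

theorem conj_iff_generic [Fintype F] [CharP F 2] (Q : (ι → F) → F)
    (hQ : Cfsg.Geo.IsNondegenerateQuadraticForm Q)
    (t s : ↥(Cfsg.isometryGroup F Q)) (ht : orderOf t = 2) (hs : orderOf s = 2) :
    IsConj t s ↔ ∃ g ∈ Cfsg.preserving (Units.coeHom (Matrix ι ι F))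
      (fun u v => Q (u + v) - Q u - Q v), g * (t : GL ι F) * g⁻¹ = (s : GL ι F) := by
  have h2 : (2 : F) = 0 := CharTwo.two_eq_zero
  constructor
  · intro h
    obtain ⟨c, hc⟩ := isConj_iff.1 h
    refine ⟨(c : GL ι F), ?_, ?_⟩
    · intro u v
      have hc2 := (mem_isometryGroup_iff _).1 c.2
      show Q (act (c : GL ι F) u + act (c : GL ι F) v) - Q (act (c : GL ι F) u) -
        Q (act (c : GL ι F) v) = Q (u + v) - Q u - Q v
      rw [← act_add, hc2, hc2, hc2]
    · have := congrArg (fun z : ↥(Cfsg.isometryGroup F Q) => (z : GL ι F)) hc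
      simpa using this
  · rintro ⟨g, hg, hgt⟩
    have hgB : ∀ u v, Q (act g u + act g v) - Q (act g u) - Q (act g v) =
        Q (u + v) - Q u - Q v := fun u v => hg u v
    have hgt' : g * (t : GL ι F) = (s : GL ι F) * g := by
      rw [← hgt]; group
    have hact : ∀ v, act (s : GL ι F) (act g v) = act g (act (t : GL ι F) v) := by
      intro v
      rw [← act_mul, ← act_mul, hgt']
    obtain ⟨hN, hiso, hsq⟩ := inv_data_Q hQ t ht
    obtain ⟨hN', hiso', hsq'⟩ := inv_data_Q hQ s hs
    have hrank : Module.finrank F (LinearMap.range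
        (((t : GL ι F) : Matrix ι ι F) - 1).mulVecLin) =
        Module.finrank F (LinearMap.range (((s : GL ι F) : Matrix ι ι F) - 1).mulVecLin) := by
      have e : ((s : GL ι F) : Matrix ι ι F) - 1 =
          (g : Matrix ι ι F) * (((t : GL ι F) : Matrix ι ι F) - 1) *
            ((g⁻¹ : GL ι F) : Matrix ι ι F) := by
        have hgg : (g : Matrix ι ι F) * ((g⁻¹ : GL ι F) : Matrix ι ι F) = 1 := by
          rw [← Units.val_mul, mul_inv_cancel, Units.val_one]
        rw [← hgt, Units.val_mul, Units.val_mul, mul_sub, sub_mul, mul_one, hgg]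
      have hu1 : IsUnit (g : Matrix ι ι F).det := Matrix.isUnits_det_units g
      have hu2 : IsUnit ((g⁻¹ : GL ι F) : Matrix ι ι F).det := Matrix.isUnits_det_units g⁻¹
      show (((t : GL ι F) : Matrix ι ι F) - 1).rank = (((s : GL ι F) : Matrix ι ι F) - 1).rank
      rw [e, Matrix.rank_mul_eq_left_of_isUnit_det _ _ hu2,
        Matrix.rank_mul_eq_right_of_isUnit_det _ _ hu1]
    have htype : (∀ v, QuadraticMap.polarBilin (toQF hQ) v
        (((t : GL ι F) : Matrix ι ι F).mulVecLin v) = 0) ↔
        (∀ v, QuadraticMap.polarBilin (toQF hQ) v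
          (((s : GL ι F) : Matrix ι ι F).mulVecLin v) = 0) := by
      simp only [polarBilin_toQF, Matrix.mulVecLin_apply]
      have key : ∀ v, Q (act g v + act (s : GL ι F) (act g v)) - Q (act g v) -
          Q (act (s : GL ι F) (act g v)) =
          Q (v + act (t : GL ι F) v) - Q v - Q (act (t : GL ι F) v) := by
        intro v
        rw [hact, hgB]
      constructor
      · intro h w
        have := key (act g⁻¹ w)
        rw [act_act_inv] at this
        rw [this]
        exact h _
      · intro h v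
        rw [← key v]
        exact h _
    obtain ⟨g', hg'1, hg'2⟩ := conj_abstract_Q h2 (sq_surj' h2) (polarBilin_toQF_nondeg hQ)
      _ _ hN hiso hsq _ _ hN' hiso' hsq' hrank htype
    rw [isConj_iff]
    refine ⟨⟨ofLin g', (mem_isometryGroup_iff _).2 (fun x => by
      rw [act_ofLin]; exact hg'1 x)⟩, ?_⟩
    rw [mul_inv_eq_iff_eq_mul]
    apply Subtype.ext
    rw [Subgroup.coe_mul, Subgroup.coe_mul]
    apply gl_ext
    intro x
    rw [act_mul, act_mul, act_ofLin, act_ofLin]
    exact hg'2 x

end Generic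

end Cfsg.Agent.Lib.Helper8.SpInv
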