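import Mathlib
import Cfsg.Agent.Lib.Helper8.SpInvF

/-! # Involutions of orthogonal groups in characteristic two: invariants (helper8) -/

set_option autoImplicit false
open Cfsg

namespace Cfsg.Agent.Lib.Helper8.SpInv

section GenericO

open Matrix Cfsg.Agent.H9.Orth

variable {ι : Type} [Fintype ι] [DecidableEq ι] {F : Type*} [Field F] {Q : (ι → F) → F}

/-- the involution type: the polar form `B(v, t v)` vanishes identically -/
def IsAltQ (Q : (ι → F) → F) (t : ↥(Cfsg.isometryGroup F Q)) : Prop :=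
  ∀ v : ι → F, Q (v + act (t : GL ι F) v) - Q v - Q (act (t : GL ι F) v) = 0

theorem isAltQ_iff [CharP F 2] (t : ↥(Cfsg.isometryGroup F Q)) :
    IsAltQ Q t ↔ ∀ v : ι → F, Q (v + act (t : GL ι F) v) = 0 := by
  have h2 : (2 : F) = 0 := CharTwo.two_eq_zero
  have ht := (mem_isometryGroup_iff _).1 t.2
  constructor
  · intro h v
    have := h v
    rw [ht] at this
    linear_combination this + (Q v) * h2
  · intro h v
    rw [ht, h v]
    linear_combination (-Q v) * h2

theorem rank_of_isConj_Q (t s : ↥(Cfsg.isometryGroup F Q)) (h : IsConj t s) :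
    (((t : GL ι F) : Matrix ι ι F) - 1).rank = (((s : GL ι F) : Matrix ι ι F) - 1).rank := by
  obtain ⟨c, hc⟩ := isConj_iff.1 h
  have hgt : (c : GL ι F) * (t : GL ι F) * (c : GL ι F)⁻¹ = (s : GL ι F) := by
    have := congrArg (fun z : ↥(Cfsg.isometryGroup F Q) => (z : GL ι F)) hc
    simpa using this
  have e : ((s : GL ι F) : Matrix ι ι F) - 1 =
      ((c : GL ι F) : Matrix ι ι F) * (((t : GL ι F) : Matrix ι ι F) - 1) *
        (((c : GL ι F)⁻¹ : GL ι F) : Matrix ι ι F) := by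
    have hgg : ((c : GL ι F) : Matrix ι ι F) * (((c : GL ι F)⁻¹ : GL ι F) : Matrix ι ι F) = 1 := by
      rw [← Units.val_mul, mul_inv_cancel, Units.val_one]
    rw [← hgt, Units.val_mul, Units.val_mul, mul_sub, sub_mul, mul_one, hgg]
  have hu1 : IsUnit ((c : GL ι F) : Matrix ι ι F).det := Matrix.isUnits_det_units _
  have hu2 : IsUnit (((c : GL ι F)⁻¹ : GL ι F) : Matrix ι ι F).det := Matrix.isUnits_det_units _
  rw [e, Matrix.rank_mul_eq_left_of_isUnit_det _ _ hu2,
    Matrix.rank_mul_eq_right_of_isUnit_det _ _ hu1]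

theorem type_of_isConj_Q_aux (t s : ↥(Cfsg.isometryGroup F Q)) (h : IsConj t s)
    (hA : IsAltQ Q t) : IsAltQ Q s := by
  obtain ⟨c, hc⟩ := isConj_iff.1 h
  have hc2 := (mem_isometryGroup_iff _).1 c.2
  have hgt' : (c : GL ι F) * (t : GL ι F) = (s : GL ι F) * (c : GL ι F) := by
    have := congrArg (fun z : ↥(Cfsg.isometryGroup F Q) => (z : GL ι F)) hc
    simp only [Subgroup.coe_mul, Subgroup.coe_inv] at this
    rw [← this]; group
  have hact : ∀ v, act (s : GL ι F) (act (c : GL ι F) v) =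
      act (c : GL ι F) (act (t : GL ι F) v) := by
    intro v
    rw [← act_mul, ← act_mul, hgt']
  intro w
  obtain ⟨v, hv⟩ : ∃ v, v = act (c : GL ι F)⁻¹ w := ⟨_, rfl⟩
  have hw : w = act (c : GL ι F) v := by rw [hv, act_act_inv]
  rw [hw, hact, ← act_add, hc2, hc2, hc2]
  exact hA v

theorem type_of_isConj_Q (t s : ↥(Cfsg.isometryGroup F Q)) (h : IsConj t s) :
    IsAltQ Q t ↔ IsAltQ Q s :=
  ⟨type_of_isConj_Q_aux t s h, type_of_isConj_Q_aux s t h.symm⟩

theorem conj_of_type_Q [Fintype F] [CharP F 2] (hQ : Cfsg.Geo.IsNondegenerateQuadraticForm Q)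
    (t s : ↥(Cfsg.isometryGroup F Q)) (ht : orderOf t = 2) (hs : orderOf s = 2)
    (hrank : (((t : GL ι F) : Matrix ι ι F) - 1).rank = (((s : GL ι F) : Matrix ι ι F) - 1).rank)
    (htype : IsAltQ Q t ↔ IsAltQ Q s) : IsConj t s := by
  have h2 : (2 : F) = 0 := CharTwo.two_eq_zero
  obtain ⟨hN, hiso, hsq⟩ := inv_data_Q hQ t ht
  obtain ⟨hN', hiso', hsq'⟩ := inv_data_Q hQ s hs
  have htype' : (∀ v, QuadraticMap.polarBilin (toQF hQ) v
      (((t : GL ι F) : Matrix ι ι F).mulVecLin v) = 0) ↔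
      (∀ v, QuadraticMap.polarBilin (toQF hQ) v
        (((s : GL ι F) : Matrix ι ι F).mulVecLin v) = 0) := by
    simp only [polarBilin_toQF, Matrix.mulVecLin_apply]
    exact htype
  obtain ⟨g', hg'1, hg'2⟩ := conj_abstract_Q h2 (sq_surj' h2) (polarBilin_toQF_nondeg hQ)
    _ _ hN hiso hsq _ _ hN' hiso' hsq' hrank htype'
  rw [isConj_iff]
  refine ⟨⟨ofLin g', (mem_isometryGroup_iff _).2 (fun x => by
    rw [act_ofLin]; exact hg'1 x)⟩, ?_⟩
  rw [mul_inv_eq_iff_eq_mul]
  apply Subtype.ext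
  rw [Subgroup.coe_mul, Subgroup.coe_mul]
  apply gl_ext
  intro x
  rw [act_mul, act_mul, act_ofLin, act_ofLin]
  exact hg'2 x

theorem rank_pos_Q (t : ↥(Cfsg.isometryGroup F Q)) (ht : t ≠ 1) :
    1 ≤ (((t : GL ι F) : Matrix ι ι F) - 1).rank := by
  by_contra h
  have h0 : (((t : GL ι F) : Matrix ι ι F) - 1).rank = 0 := by omega
  apply ht
  apply Subtype.ext
  apply Units.ext
  rw [Subgroup.coe_one, Units.val_one]
  have hr : LinearMap.range (((t : GL ι F) : Matrix ι ι F) - 1).mulVecLin = ⊥ :=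
    Submodule.finrank_eq_zero.1 h0
  have : ((t : GL ι F) : Matrix ι ι F) - 1 = 0 := by
    rw [Matrix.ext_iff_mulVec]
    intro v
    have hv : (((t : GL ι F) : Matrix ι ι F) - 1).mulVecLin v ∈
        LinearMap.range (((t : GL ι F) : Matrix ι ι F) - 1).mulVecLin := ⟨v, rfl⟩
    rw [hr, Submodule.mem_bot] at hv
    rw [Matrix.zero_mulVec]
    exact hv
  exact sub_eq_zero.1 this

theorem two_rank_le_Q [CharP F 2] (hQ : Cfsg.Geo.IsNondegenerateQuadraticForm Q)
    (t : ↥(Cfsg.isometryGroup F Q)) (ht : orderOf t = 2) :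
    2 * (((t : GL ι F) : Matrix ι ι F) - 1).rank ≤ Fintype.card ι := by
  have h2 : (2 : F) = 0 := CharTwo.two_eq_zero
  obtain ⟨hN, hiso, hsq⟩ := inv_data_Q hQ t ht
  have hNN := N_sq h2 _ _ hN hsq
  have hle : LinearMap.range (((t : GL ι F) : Matrix ι ι F) - 1).mulVecLin ≤
      LinearMap.ker (((t : GL ι F) : Matrix ι ι F) - 1).mulVecLin := by
    rintro _ ⟨x, rfl⟩
    exact hNN x
  have h1 := Submodule.finrank_mono hle
  have h3 := LinearMap.finrank_range_add_finrank_ker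
    (((t : GL ι F) : Matrix ι ι F) - 1).mulVecLin
  rw [Module.finrank_fintype_fun_eq_card] at h3
  have h4 : (((t : GL ι F) : Matrix ι ι F) - 1).rank =
    Module.finrank F (LinearMap.range (((t : GL ι F) : Matrix ι ι F) - 1).mulVecLin) := rfl
  omega

theorem even_rank_of_alt_Q [CharP F 2] (hQ : Cfsg.Geo.IsNondegenerateQuadraticForm Q)
    (t : ↥(Cfsg.isometryGroup F Q)) (ht : orderOf t = 2) (halt : IsAltQ Q t) :
    Even (((t : GL ι F) : Matrix ι ι F) - 1).rank := by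
  have h2 : (2 : F) = 0 := CharTwo.two_eq_zero
  obtain ⟨hN, hiso, hsq⟩ := inv_data_Q hQ t ht
  have hisoB := Cfsg.Agent.S0750.polar_of_isometry (toQF hQ) _ hiso
  obtain ⟨k, hk, -⟩ := exists_frame_alt (polarBilin_toQF_nondeg hQ)
    (polarBilin_isAlt (toQF hQ) h2) h2 _ _ hN hisoB hsq (fun v => by
      rw [polarBilin_toQF, Matrix.mulVecLin_apply]
      exact halt v)
  exact ⟨k, hk⟩

end GenericO

end Cfsg.Agent.Lib.Helper8.SpInv
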