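import Mathlib
import Cfsg.Agent.Lib.Helper8.SpInvG
import Cfsg.Agent.Lib.Helper5.Orth.Family2
import Cfsg.Agent.Lib.Helper5.Orth.ParityTwoAll
import Cfsg.Agent.H9.OrthP

/-! # Involutions of orthogonal groups in characteristic two: splitting of classes in `Ω`
(helper8) -/

set_option autoImplicit false
open Cfsg

namespace Cfsg.Agent.Lib.Helper8.SpInv

section OmegaSplit

open Matrix Cfsg.Agent.H9.Orth Cfsg.Agent.Lib.Helper5.OrthPar Cfsg.Agent.Lib.Helper5.OrthTv

variable {ι : Type} [Fintype ι] [DecidableEq ι] {F : Type*} [Field F] {Q : (ι → F) → F}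
variable (hQ : Cfsg.Geo.IsNondegenerateQuadraticForm Q)

include hQ in
/-- an isometry of odd parity centralizing `t` makes the `O`-class of `t` a single `Ω`-class -/
theorem omega_conj_of_odd_centralizer [Fintype F] [CharP F 2]
    (h : Fintype.card F ≠ 2 ∨ Fintype.card ι ≠ 4)
    (t s : ↥(Cfsg.isometryGroup F Q)) (hconj : IsConj t s)
    (z : ↥(Cfsg.isometryGroup F Q)) (hz : z * t = t * z) (hzodd : ¬ par (z : GL ι F)) :
    ∃ g ∈ Cfsg.Omega F Q, g * t * g⁻¹ = s := by
  have hgen : Cfsg.isometryGroup F Q ≤ RR hQ := Cfsg.Agent.H9.Orth.iso_le_RR hQ h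
  obtain ⟨c, hc⟩ := isConj_iff.1 hconj
  by_cases hpc : par (c : GL ι F)
  · exact ⟨c, (mem_omega_iff_even_all hQ h c).2 hpc, hc⟩
  · refine ⟨c * z, ?_, ?_⟩
    · rw [mem_omega_iff_even_all hQ h]
      have := (par_mul_gen hQ hgen (c : GL ι F) (z : GL ι F) c.2 z.2).2
        ⟨fun h1 => absurd h1 hpc, fun h1 => absurd h1 hzodd⟩
      exact this
    · have hzt : z * t * z⁻¹ = t := by rw [hz]; group
      calc c * z * t * (c * z)⁻¹ = c * (z * t * z⁻¹) * c⁻¹ := by group
        _ = s := by rw [hzt, hc]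

include hQ in
/-- a non-singular vector fixed by `t` gives an odd isometry centralizing `t` -/
theorem odd_centralizer_of_fixed (t : ↥(Cfsg.isometryGroup F Q)) (x : ι → F) (hx : Q x ≠ 0)
    (htx : act (t : GL ι F) x = x) :
    ∃ z : ↥(Cfsg.isometryGroup F Q), z * t = t * z ∧ ¬ par (z : GL ι F) := by
  refine ⟨⟨rf hQ x, rf_mem hQ x⟩, ?_, not_par_rf hQ x hx⟩
  apply Subtype.ext
  rw [Subgroup.coe_mul, Subgroup.coe_mul]
  have h1 := conj_rf hQ (t : GL ι F) t.2 x
  rw [htx] at h1
  show rf hQ x * (t : GL ι F) = (t : GL ι F) * rf hQ x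
  exact (mul_inv_eq_iff_eq_mul.1 h1).symm

include hQ in
theorem exists_odd_centralizer_nonalt [CharP F 2] (t : ↥(Cfsg.isometryGroup F Q))
    (ht : orderOf t = 2) (hna : ¬ IsAltQ Q t) :
    ∃ z : ↥(Cfsg.isometryGroup F Q), z * t = t * z ∧ ¬ par (z : GL ι F) := by
  rw [isAltQ_iff] at hna
  push Not at hna
  obtain ⟨v, hv⟩ := hna
  apply odd_centralizer_of_fixed hQ t _ hv
  have h1 : t * t = 1 := by
    have := pow_orderOf_eq_one t
    rw [ht, pow_two] at this
    exact this
  have h2 : (t : GL ι F) * (t : GL ι F) = 1 := by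
    have := congrArg (fun z : ↥(Cfsg.isometryGroup F Q) => (z : GL ι F)) h1
    simpa using this
  rw [act_add, ← act_mul, h2, act_one, add_comm]

include hQ in
theorem exists_odd_centralizer_of_rank_lt (t : ↥(Cfsg.isometryGroup F Q))
    (hr : 2 * (((t : GL ι F) : Matrix ι ι F) - 1).rank < Fintype.card ι) :
    ∃ z : ↥(Cfsg.isometryGroup F Q), z * t = t * z ∧ ¬ par (z : GL ι F) := by
  by_cases hex : ∃ x ∈ fixS (t : GL ι F), Q x ≠ 0
  · obtain ⟨x, hx1, hx2⟩ := hex
    exact odd_centralizer_of_fixed hQ t x hx2 hx1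
  · exfalso
    push Not at hex
    have hle : fixS (t : GL ι F) ≤ perp hQ (fixS (t : GL ι F)) := by
      intro x hx
      rw [mem_perp]
      intro y hy
      have h1 := hex _ (Submodule.add_mem _ hy hx)
      rw [Cfsg.Agent.H9.Orth.Q_add Q y x, hex y hy, hex x hx, zero_add, zero_add] at h1
      exact h1
    have h1 := Submodule.finrank_mono hle
    have h2 := finrank_fixS hQ (t : GL ι F) t.2
    have h3 := finrank_perp hQ (fixS (t : GL ι F))
    have h4 := rank_le (t : GL ι F)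
    omega

include hQ in
theorem imS_conj (c t s : ↥(Cfsg.isometryGroup F Q)) (hc : c * t * c⁻¹ = s) :
    imS (s : GL ι F) = mapS (c : GL ι F) (imS (t : GL ι F)) := by
  have hgt : (c : GL ι F) * (t : GL ι F) = (s : GL ι F) * (c : GL ι F) := by
    have := congrArg (fun z : ↥(Cfsg.isometryGroup F Q) => (z : GL ι F)) hc
    simp only [Subgroup.coe_mul, Subgroup.coe_inv] at this
    rw [← this]; group
  have hact : ∀ v, act (s : GL ι F) (act (c : GL ι F) v) =
      act (c : GL ι F) (act (t : GL ι F) v) := by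
    intro v
    rw [← act_mul, ← act_mul, hgt]
  ext v
  rw [mem_imS, mem_mapS]
  constructor
  · rintro ⟨u, rfl⟩
    refine ⟨act (t : GL ι F) (act (c : GL ι F)⁻¹ u) - act (c : GL ι F)⁻¹ u,
      (mem_imS _ _).2 ⟨_, rfl⟩, ?_⟩
    rw [act_sub, ← hact, act_act_inv]
  · rintro ⟨w, hw, rfl⟩
    obtain ⟨u, rfl⟩ := (mem_imS _ _).1 hw
    exact ⟨act (c : GL ι F) u, by rw [hact, act_sub]⟩

theorem imS_ts_of_alt [CharP F 2] (t : ↥(Cfsg.isometryGroup F Q))
    (halt : ∀ v : ι → F, Q (v + act (t : GL ι F) v) = 0) :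
    Cfsg.Geo.IsTotallySingularQuad Q (imS (t : GL ι F)) := by
  have h2 : (2 : F) = 0 := CharTwo.two_eq_zero
  intro w hw
  obtain ⟨u, rfl⟩ := (mem_imS _ _).1 hw
  have e : act (t : GL ι F) u - u = u + act (t : GL ι F) u := by
    have hu : u + u = 0 := by rw [← two_smul F u, h2, zero_smul]
    have : act (t : GL ι F) u - u = act (t : GL ι F) u + u - (u + u) := by abel
    rw [this, hu, sub_zero, add_comm]
  rw [e]
  exact halt u

include hQ in
/-- the splitting criterion for involutions whose image is a maximal totally singular subspace -/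
theorem omega_conj_iff_of_maxTS [Fintype F] [CharP F 2]
    (h : Fintype.card F ≠ 2 ∨ Fintype.card ι ≠ 4) (m : ℕ) (hm : Fintype.card ι = 2 * m)
    (t s : ↥(Cfsg.isometryGroup F Q)) (htO : t ∈ Cfsg.Omega F Q) (hconj : IsConj t s)
    (hrank : (((t : GL ι F) : Matrix ι ι F) - 1).rank = m)
    (halt : ∀ v : ι → F, Q (v + act (t : GL ι F) v) = 0) :
    (∃ g ∈ Cfsg.Omega F Q, g * t * g⁻¹ = s) ↔
      Even (Module.finrank F ↥(imS (t : GL ι F) ⊓ imS (s : GL ι F))) := by
  have h2 : (2 : F) = 0 := CharTwo.two_eq_zero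
  have hgen : Cfsg.isometryGroup F Q ≤ RR hQ := Cfsg.Agent.H9.Orth.iso_le_RR hQ h
  have hmev : Even m := by
    have := (mem_omega_iff_even_all hQ h t).1 htO
    rwa [hrank] at this
  have hU : IsMaxTS Q (imS (t : GL ι F)) := by
    refine ⟨?_, ?_⟩
    · intro w hw
      obtain ⟨u, rfl⟩ := (mem_imS _ _).1 hw
      have e : act (t : GL ι F) u - u = u + act (t : GL ι F) u := by
        have hu : u + u = 0 := by rw [← two_smul F u, h2, zero_smul]
        have : act (t : GL ι F) u - u = act (t : GL ι F) u + u - (u + u) := by abel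
        rw [this, hu, sub_zero, add_comm]
      rw [e]
      exact halt u
    · rw [← rank_eq, hrank, hm]
  have hfin : ∀ c : ↥(Cfsg.isometryGroup F Q),
      Module.finrank F ↥(imS (t : GL ι F) ⊓ mapS (c : GL ι F) (imS (t : GL ι F))) ≤ m := by
    intro c
    have := Submodule.finrank_mono (inf_le_left :
      imS (t : GL ι F) ⊓ mapS (c : GL ι F) (imS (t : GL ι F)) ≤ imS (t : GL ι F))
    rw [← rank_eq, hrank] at this
    exact this
  constructor
  · rintro ⟨g, hg, hgt⟩
    rw [imS_conj hQ g t s hgt]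
    have hp := (mem_omega_iff_even_all hQ h g).1 hg
    have := (family_parity hQ hgen _ m hm hU (g : GL ι F) g.2).2 hp
    rw [Nat.even_sub (hfin g)] at this
    exact this.1 hmev
  · intro hev
    obtain ⟨c, hc⟩ := isConj_iff.1 hconj
    rw [imS_conj hQ c t s hc] at hev
    refine ⟨c, ?_, hc⟩
    rw [mem_omega_iff_even_all hQ h]
    apply (family_parity hQ hgen _ m hm hU (c : GL ι F) c.2).1
    rw [Nat.even_sub (hfin c)]
    exact ⟨fun _ => hev, fun _ => hmev⟩

end OmegaSplit

end Cfsg.Agent.Lib.Helper8.SpInv
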