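import Mathlib
import Cfsg.Agent.Lib.Helper8.SpInvH

/-! # Products of commuting reflections in orthogonal nonsingular vectors (helper8) -/

set_option autoImplicit false
open Cfsg

namespace Cfsg.Agent.Lib.Helper8.RefProd

open Matrix Cfsg.Agent.H9.Orth Cfsg.Agent.Lib.Helper5.OrthPar Cfsg.Agent.Lib.Helper5.OrthTv
  Cfsg.Agent.Lib.Helper8.SpInv

variable {ι : Type} [Fintype ι] [DecidableEq ι] {F : Type*} [Field F] {Q : (ι → F) → F}
variable (hQ : Cfsg.Geo.IsNondegenerateQuadraticForm Q)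

/-- the product of the first `s` reflections -/
noncomputable def P (x : ℕ → ι → F) : ℕ → GL ι F
  | 0 => 1
  | s + 1 => rf hQ (x s) * P x s

theorem P_zero (x : ℕ → ι → F) : P hQ x 0 = 1 := rfl

theorem P_succ (x : ℕ → ι → F) (s : ℕ) : P hQ x (s + 1) = rf hQ (x s) * P hQ x s := rfl

theorem P_mem (x : ℕ → ι → F) (s : ℕ) : P hQ x s ∈ Cfsg.isometryGroup F Q := by
  induction s with
  | zero => exact one_mem _
  | succ s ih => exact mul_mem (rf_mem hQ _) ih

theorem act_P_fix (x : ℕ → ι → F) (s : ℕ) (y : ι → F) (hy : ∀ i < s, pol Q y (x i) = 0) :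
    act (P hQ x s) y = y := by
  induction s with
  | zero => rw [P_zero, act_one]
  | succ s ih =>
    rw [P_succ, act_mul, ih (fun i hi => hy i (by omega)),
      act_rf_perp hQ _ _ (hy s (by omega))]

/-- the span of the first `s` vectors -/
def Sp (x : ℕ → ι → F) (s : ℕ) : Submodule F (ι → F) :=
  Submodule.span F {v | ∃ i < s, x i = v}

theorem Sp_mono (x : ℕ → ι → F) {s s' : ℕ} (h : s ≤ s') : Sp x s ≤ Sp (F := F) x s' := by
  apply Submodule.span_mono
  rintro v ⟨i, hi, rfl⟩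
  exact ⟨i, by omega, rfl⟩

theorem mem_Sp (x : ℕ → ι → F) {s i : ℕ} (h : i < s) : x i ∈ Sp (F := F) x s :=
  Submodule.subset_span ⟨i, h, rfl⟩

theorem imS_P_le (x : ℕ → ι → F) (s : ℕ) : imS (P hQ x s) ≤ Sp x s := by
  induction s with
  | zero =>
    intro v hv
    obtain ⟨u, rfl⟩ := (mem_imS _ _).1 hv
    rw [P_zero, act_one, sub_self]
    exact Submodule.zero_mem _
  | succ s ih =>
    intro v hv
    obtain ⟨u, rfl⟩ := (mem_imS _ _).1 hv
    rw [P_succ, act_mul]
    have h1 : act (P hQ x s) u - u ∈ Sp x (s + 1) :=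
      Sp_mono x (Nat.le_succ s) (ih ((mem_imS _ _).2 ⟨u, rfl⟩))
    by_cases hx : Q (x s) ≠ 0
    · rw [act_rf hQ _ hx]
      have e : act (P hQ x s) u - ((Q (x s))⁻¹ * pol Q (act (P hQ x s) u) (x s)) • x s - u =
          (act (P hQ x s) u - u) - ((Q (x s))⁻¹ * pol Q (act (P hQ x s) u) (x s)) • x s := by
        abel
      rw [e]
      exact Submodule.sub_mem _ h1 (Submodule.smul_mem _ _ (mem_Sp x (Nat.lt_succ_self s)))
    · rw [rf_of_not hQ _ hx, act_one]
      exact h1

theorem notMem_Sp (x : ℕ → ι → F) (n : ℕ) (hli : LinearIndependent F (fun i : Fin n => x i))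
    (s : ℕ) (hs : s < n) : x s ∉ Sp (F := F) x s := by
  have h1 := hli.notMem_span_image (s := {i : Fin n | (i : ℕ) < s}) (x := ⟨s, hs⟩)
    (by simp)
  intro h2
  apply h1
  have hle : Sp (F := F) x s ≤
      Submodule.span F ((fun i : Fin n => x i) '' {i : Fin n | (i : ℕ) < s}) := by
    apply Submodule.span_mono
    rintro v ⟨i, hi, rfl⟩
    exact ⟨⟨i, by omega⟩, hi, rfl⟩
  exact hle h2

theorem rank_P (x : ℕ → ι → F) (n : ℕ) (hQx : ∀ i < n, Q (x i) ≠ 0)
    (hli : LinearIndependent F (fun i : Fin n => x i)) (s : ℕ) (hs : s ≤ n) :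
    (((P hQ x s : GL ι F) : Matrix ι ι F) - 1).rank = s := by
  induction s with
  | zero =>
    rw [P_zero]
    have : ((1 : GL ι F) : Matrix ι ι F) - 1 = 0 := by simp
    rw [this, Matrix.rank_zero]
  | succ s ih =>
    rw [P_succ, rank_rf_mul_of_notMem hQ _ (P_mem hQ x s) _ (hQx s (by omega))
      (fun h => notMem_Sp x n hli s (by omega) (imS_P_le hQ x s h)), ih (by omega)]

theorem P_sq (x : ℕ → ι → F) (n : ℕ)
    (horth : ∀ i < n, ∀ j < n, i ≠ j → pol Q (x i) (x j) = 0) (s : ℕ) (hs : s ≤ n) :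
    P hQ x s * P hQ x s = 1 := by
  induction s with
  | zero => rw [P_zero, one_mul]
  | succ s ih =>
    have hfix : act (P hQ x s) (x s) = x s :=
      act_P_fix hQ x s (x s) (fun i hi => horth s (by omega) i (by omega) (by omega))
    have hc := conj_rf hQ (P hQ x s) (P_mem hQ x s) (x s)
    rw [hfix] at hc
    have hcomm : P hQ x s * rf hQ (x s) = rf hQ (x s) * P hQ x s :=
      mul_inv_eq_iff_eq_mul.1 hc
    rw [P_succ]
    calc rf hQ (x s) * P hQ x s * (rf hQ (x s) * P hQ x s)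
        = rf hQ (x s) * (P hQ x s * rf hQ (x s)) * P hQ x s := by group
      _ = rf hQ (x s) * (rf hQ (x s) * P hQ x s) * P hQ x s := by rw [hcomm]
      _ = (rf hQ (x s) * rf hQ (x s)) * (P hQ x s * P hQ x s) := by group
      _ = 1 := by rw [rf_mul_self, ih (by omega), one_mul]

/-- the product of reflections as an element of the isometry group -/
noncomputable def PO (x : ℕ → ι → F) (s : ℕ) : ↥(Cfsg.isometryGroup F Q) :=
  ⟨P hQ x s, P_mem hQ x s⟩

theorem rank_PO (x : ℕ → ι → F) (n : ℕ) (hQx : ∀ i < n, Q (x i) ≠ 0)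
    (hli : LinearIndependent F (fun i : Fin n => x i)) (s : ℕ) (hs : s ≤ n) :
    ((((PO hQ x s : ↥(Cfsg.isometryGroup F Q)) : GL ι F) : Matrix ι ι F) - 1).rank = s :=
  rank_P hQ x n hQx hli s hs

theorem orderOf_PO (x : ℕ → ι → F) (n : ℕ) (hQx : ∀ i < n, Q (x i) ≠ 0)
    (hli : LinearIndependent F (fun i : Fin n => x i))
    (horth : ∀ i < n, ∀ j < n, i ≠ j → pol Q (x i) (x j) = 0) (s : ℕ) (hs : s ≤ n)
    (hs1 : 1 ≤ s) : orderOf (PO hQ x s) = 2 := by
  apply orderOf_eq_prime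
  · rw [pow_two]
    apply Subtype.ext
    rw [Subgroup.coe_mul, Subgroup.coe_one]
    exact P_sq hQ x n horth s hs
  · intro h1
    have hr := rank_PO hQ x n hQx hli s hs
    rw [h1] at hr
    simp at hr
    omega

theorem PO_nonalt [CharP F 2] (x : ℕ → ι → F) (n : ℕ) (hQx : ∀ i < n, Q (x i) ≠ 0)
    (hli : LinearIndependent F (fun i : Fin n => x i)) (s : ℕ) (hs : s ≤ n) (hs1 : 1 ≤ s) :
    ¬ IsAltQ Q (PO hQ x s) := by
  intro halt
  have hts := imS_ts_of_alt (PO hQ x s) ((isAltQ_iff _).1 halt)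
  -- `imS = Sp x s` by dimension
  have hle := imS_P_le hQ x s
  have hfr : Module.finrank F (Sp (F := F) x s) ≤ s := by
    have h1 : Sp (F := F) x s = Submodule.span F (Set.range (fun i : Fin s => x i)) := by
      unfold Sp
      congr 1
      ext v
      constructor
      · rintro ⟨i, hi, rfl⟩
        exact ⟨⟨i, hi⟩, rfl⟩
      · rintro ⟨i, rfl⟩
        exact ⟨i, i.2, rfl⟩
    rw [h1]
    have := finrank_range_le_card (R := F) (fun i : Fin s => x i)
    rw [Fintype.card_fin] at this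
    exact this
  have heq : imS (P hQ x s) = Sp x s := by
    apply Submodule.eq_of_le_of_finrank_le hle
    rw [← rank_eq, rank_P hQ x n hQx hli s hs]
    exact hfr
  have h0 : x 0 ∈ imS (P hQ x s) := by
    rw [heq]
    exact mem_Sp x (by omega)
  exact hQx 0 (by omega) (hts _ h0)

end Cfsg.Agent.Lib.Helper8.RefProd
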