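import Mathlib
import Cfsg.Agent.Lib.Helper8.RefProd
import Cfsg.Agent.Lib.Helper8.MinusTS
import Cfsg.Agent.S2595

/-! # Representatives of the involution classes of `O^-_{2k+2}(F)`, `F` of characteristic two
(helper8) -/

set_option autoImplicit false
open Cfsg

namespace Cfsg.Agent.Lib.Helper8.MinusReps

open Matrix Cfsg.Agent.H9.Orth Cfsg.Agent.Lib.Helper8.SpInv Cfsg.Agent.S2593
  Cfsg.Agent.Lib.Helper5.Symp Cfsg.Agent.Lib.Helper5.OrthPM Cfsg.Agent.Lib.Helper8.RefProd

theorem rank_fromBlocks_zero {n o : Type*} [Fintype n] [Fintype o] [DecidableEq n]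
    [DecidableEq o] {F : Type*} [Field F] (X : Matrix n n F) :
    (fromBlocks X (0 : Matrix n o F) (0 : Matrix o n F) (0 : Matrix o o F)).rank = X.rank := by
  apply le_antisymm
  · have e : fromBlocks X (0 : Matrix n o F) (0 : Matrix o n F) (0 : Matrix o o F) =
        fromRows (1 : Matrix n n F) (0 : Matrix o n F) * X *
          fromCols (1 : Matrix n n F) (0 : Matrix n o F) := by
      rw [fromRows_mul, fromRows_mul_fromCols]
      simp
    rw [e]
    exact (Matrix.rank_mul_le_left _ _).trans (Matrix.rank_mul_le_right _ _)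
  · have e : X = fromCols (1 : Matrix n n F) (0 : Matrix n o F) *
        fromBlocks X (0 : Matrix n o F) (0 : Matrix o n F) (0 : Matrix o o F) *
        fromRows (1 : Matrix n n F) (0 : Matrix o n F) := by
      ext i j
      simp [Matrix.mul_apply, Fintype.sum_sum_type, Matrix.one_apply]
    conv_lhs => rw [e]
    exact (Matrix.rank_mul_le_left _ _).trans (Matrix.rank_mul_le_right _ _)

variable {F : Type*} [Field F] (k : ℕ) (a b : F)

/-- the index type of the minus-type form -/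
abbrev I (k : ℕ) : Type := (Fin k ⊕ Fin k) ⊕ Fin 2

theorem Qm_eq (v : I k → F) :
    Cfsg.quadFormMinus k F a b v = Cfsg.quadFormPlus k F (v ∘ Sum.inl) +
      (v (Sum.inr 0) ^ 2 + a * v (Sum.inr 0) * v (Sum.inr 1) + b * v (Sum.inr 1) ^ 2) := rfl

/-! ## The alternating-type representatives -/

/-- the block matrix `Amat ⊕ 1` -/
def Bmat (F : Type*) [Field F] (k s : ℕ) : Matrix (I k) (I k) F :=
  fromBlocks (Amat F (rv k s) s) 0 0 1

theorem Bmat_sq (h2 : (2 : F) = 0) (s : ℕ) : Bmat F k s * Bmat F k s = 1 := by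
  unfold Bmat
  rw [fromBlocks_multiply]
  rw [Amat_sq h2]
  have e : (1 : Matrix (I k) (I k) F) = fromBlocks 1 0 0 1 := fromBlocks_one.symm
  rw [e]
  congr 1 <;> simp

theorem Bmat_mulVec (s : ℕ) (v : I k → F) :
    Bmat F k s *ᵥ v = Sum.elim (Amat F (rv k s) s *ᵥ (v ∘ Sum.inl)) (v ∘ Sum.inr) := by
  unfold Bmat
  rw [fromBlocks_mulVec]
  simp

theorem Q_Bmat (h2 : (2 : F) = 0) {s : ℕ} (hs : s ≤ k) (hev : Even s) (v : I k → F) :
    Cfsg.quadFormMinus k F a b (Bmat F k s *ᵥ v) = Cfsg.quadFormMinus k F a b v := by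
  rw [Qm_eq, Qm_eq, Bmat_mulVec]
  have e : (Sum.elim (Amat F (rv k s) s *ᵥ (v ∘ Sum.inl)) (v ∘ Sum.inr) : I k → F) ∘ Sum.inl =
      Amat F (rv k s) s *ᵥ (v ∘ Sum.inl) := rfl
  rw [e, Cfsg.Agent.S2595.Q_Amat]
  have := rep_rv_alt h2 hs hev (v ∘ Sum.inl)
  change sympForm k F (v ∘ Sum.inl) (Amat F (rv k s) s *ᵥ (v ∘ Sum.inl)) = 0 at this
  rw [this, add_zero]
  rfl

/-- an involutory matrix as an element of `GL` -/
def glOfSq' {ι : Type} [Fintype ι] [DecidableEq ι] (A : Matrix ι ι F) (h : A * A = 1) :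
    GL ι F := ⟨A, A, h, h⟩

/-- the alternating-type representative of rank `s` -/
def repB (F : Type*) [Field F] (k s : ℕ) (a b : F) (h2 : (2 : F) = 0) (hs : s ≤ k)
    (hev : Even s) : ↥(Cfsg.isometryGroup F (Cfsg.quadFormMinus k F a b)) :=
  ⟨glOfSq' (Bmat F k s) (Bmat_sq k h2 s), by
    rw [mem_isometryGroup_iff]
    intro v
    exact Q_Bmat k a b h2 hs hev v⟩

theorem repB_alt [CharP F 2] (h2 : (2 : F) = 0) {s : ℕ} (hs : s ≤ k) (hev : Even s) :
    IsAltQ (Cfsg.quadFormMinus k F a b) (repB F k s a b h2 hs hev) := by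
  rw [isAltQ_iff]
  intro v
  show Cfsg.quadFormMinus k F a b (v + Bmat F k s *ᵥ v) = 0
  rw [Qm_eq, Bmat_mulVec]
  have e1 : (v + Sum.elim (Amat F (rv k s) s *ᵥ (v ∘ Sum.inl)) (v ∘ Sum.inr) : I k → F) ∘
      Sum.inl = (v ∘ Sum.inl) + Amat F (rv k s) s *ᵥ (v ∘ Sum.inl) := rfl
  have e2 : ∀ j : Fin 2, (v + Sum.elim (Amat F (rv k s) s *ᵥ (v ∘ Sum.inl)) (v ∘ Sum.inr) :
      I k → F) (Sum.inr j) = 0 := by
    intro j
    show v (Sum.inr j) + v (Sum.inr j) = 0
    linear_combination (v (Sum.inr j)) * h2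
  rw [e1, e2, e2]
  have h3 := (isAltQ_iff _).1 (Cfsg.Agent.S2595.repA_alt (F := F) (m := k) h2 hs hev) (v ∘ Sum.inl)
  change Cfsg.quadFormPlus k F ((v ∘ Sum.inl) + Amat F (rv k s) s *ᵥ (v ∘ Sum.inl)) = 0 at h3
  rw [h3]
  ring

theorem rank_repB (h2 : (2 : F) = 0) {s : ℕ} (hs : s ≤ k) (hev : Even s) :
    ((((repB F k s a b h2 hs hev : ↥(Cfsg.isometryGroup F (Cfsg.quadFormMinus k F a b))) :
      GL (I k) F) : Matrix (I k) (I k) F) - 1).rank = s := by
  show (Bmat F k s - 1).rank = s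
  have e : Bmat F k s - 1 = fromBlocks (Amat F (rv k s) s - 1) 0 0 0 := by
    unfold Bmat
    ext i j
    rcases i with i | i <;> rcases j with j | j <;>
      simp [Matrix.sub_apply, Matrix.one_apply]
  rw [e, rank_fromBlocks_zero]
  exact rank_Amat (rv_good hs) hs

theorem orderOf_repB (h2 : (2 : F) = 0) {s : ℕ} (hs : s ≤ k) (hev : Even s) (hs1 : 1 ≤ s) :
    orderOf (repB F k s a b h2 hs hev) = 2 := by
  apply orderOf_eq_prime
  · rw [pow_two]
    apply Subtype.ext
    apply Units.ext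
    rw [Subgroup.coe_mul, Units.val_mul, Subgroup.coe_one, Units.val_one]
    exact Bmat_sq k h2 s
  · intro h1
    have hr := rank_repB k a b h2 hs hev
    rw [h1] at hr
    simp at hr
    omega

/-! ## The non-alternating representatives: products of commuting reflections -/

/-- the orthogonal family of nonsingular vectors `e_i + f_i` (`i < k`) and `z₁` -/
def xv (F : Type*) [Field F] (k : ℕ) (i : ℕ) : I k → F :=
  if h : i < k then Pi.single (Sum.inl (Sum.inl ⟨i, h⟩)) 1 + Pi.single (Sum.inl (Sum.inr ⟨i, h⟩)) 1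
  else Pi.single (Sum.inr 0) 1

theorem Q_xv (i : ℕ) : Cfsg.quadFormMinus k F a b (xv F k i) = 1 := by
  unfold xv
  by_cases h : i < k
  · rw [dif_pos h]
    unfold Cfsg.quadFormMinus
    simp only [Pi.add_apply, Pi.single_apply, Sum.inl.injEq, reduceCtorEq, if_false, add_zero,
      zero_add, Sum.inr.injEq]
    rw [Finset.sum_eq_single ⟨i, h⟩]
    · simp
    · intro j _ hj
      simp [hj]
    · intro hi
      exact absurd (Finset.mem_univ _) hi
  · rw [dif_neg h]
    unfold Cfsg.quadFormMinus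
    simp

/-- the coordinate detecting `xv i` -/
def cx (k : ℕ) (i : ℕ) : I k := if h : i < k then Sum.inl (Sum.inl ⟨i, h⟩) else Sum.inr 0

theorem xv_cx (i j : ℕ) (hi : i ≤ k) (hj : j ≤ k) :
    xv F k j (cx k i) = if i = j then 1 else 0 := by
  unfold xv cx
  by_cases h1 : i < k <;> by_cases h2 : j < k
  · rw [dif_pos h1, dif_pos h2]
    simp only [Pi.add_apply, Pi.single_apply, Sum.inl.injEq, reduceCtorEq, if_false, add_zero,
      Fin.mk.injEq]
  · rw [dif_pos h1, dif_neg h2]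
    have : i ≠ j := by omega
    simp [this]
  · rw [dif_neg h1, dif_pos h2]
    have : i ≠ j := by omega
    simp [this]
  · rw [dif_neg h1, dif_neg h2]
    have : i = j := by omega
    simp [this]

theorem xv_li : LinearIndependent F (fun i : Fin (k + 1) => xv F k i) := by
  rw [Fintype.linearIndependent_iff]
  intro g hg i
  have h1 := congrFun hg (cx k i)
  rw [Finset.sum_apply] at h1
  simp only [Pi.smul_apply, smul_eq_mul, Pi.zero_apply] at h1
  rw [Finset.sum_eq_single i] at h1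
  · rw [xv_cx k i i (by omega) (by omega), if_pos rfl, mul_one] at h1
    exact h1
  · intro j _ hj
    rw [xv_cx k i j (by omega) (by omega), if_neg (fun h => hj (Fin.ext h.symm)), mul_zero]
  · intro hi
    exact absurd (Finset.mem_univ _) hi

theorem xv_orth (h2 : (2 : F) = 0) (i j : ℕ) (hij : i ≠ j) :
    pol (Cfsg.quadFormMinus k F a b) (xv F k i) (xv F k j) = 0 := by
  show QuadraticMap.polar (Cfsg.quadFormMinus k F a b) _ _ = 0
  rw [Cfsg.Agent.Lib.Helper5.OrthPM.polar_quadFormMinus]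
  unfold xv
  by_cases h1 : i < k <;> by_cases h3 : j < k
  · rw [dif_pos h1, dif_pos h3]
    have hne : ∀ l : Fin k, ¬ (l = ⟨i, h1⟩ ∧ l = ⟨j, h3⟩) := by
      rintro l ⟨rfl, h⟩
      exact hij (Fin.mk.inj_iff.1 h)
    simp only [Pi.add_apply, Pi.single_apply, Sum.inl.injEq, reduceCtorEq, if_false, add_zero,
      zero_add, mul_zero, zero_mul, Sum.inr.injEq]
    apply Finset.sum_eq_zero
    intro l _
    by_cases hl1 : l = ⟨i, h1⟩ <;> by_cases hl2 : l = ⟨j, h3⟩
    · exact absurd ⟨hl1, hl2⟩ (hne l)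
    · have hji : ¬ i = j := hij
      simp [hl1, hji]
    · have hji : ¬ j = i := fun h => hij h.symm
      simp [hl2, hji]
    · simp [hl1, hl2]
  · rw [dif_pos h1, dif_neg h3]
    simp
  · rw [dif_neg h1, dif_pos h3]
    simp
  · rw [dif_neg h1, dif_neg h3]
    simp only [Pi.single_apply, reduceCtorEq, if_false, mul_zero, zero_mul, add_zero,
      Finset.sum_const_zero, zero_add, Sum.inr.injEq, if_true, mul_one, Fin.reduceEq]
    exact h2

end Cfsg.Agent.Lib.Helper8.MinusReps
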