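import Mathlib
import Cfsg.Prelude.Def_Characters
import Cfsg.Agent.Lib.helper3.Irr7
import Cfsg.Agent.Lib.helper3.Inflate2
import Cfsg.Agent.Lib.helper3.MackeyLin

/-!
# S4756, piece P1 (part A): Lemma K (vanishing of nonlinear characters versus centralizer order)
and Lemma F (the Frobenius coset trick).
-/

set_option autoImplicit false
set_option linter.style.haveILetI false
set_option linter.unusedSectionVars false
set_option linter.unusedVariables false

namespace Cfsg.Agent.Lib.Helper8.Mult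

open Cfsg Cfsg.Agent.Lib.helper3.Irr Cfsg.Agent.Lib.helper3.CharBasic
open scoped ComplexConjugate

universe u

section K

variable {G : Type u} [Group G] [Fintype G]

/-- the sum of `|χ(g)|²` over the nonlinear irreducible characters -/
theorem sum_nonlinear (g : G) :
    ∑ χ ∈ (Finset.univ.filter (fun χ : IrrCharacter G => ¬ (χ : G → ℂ) 1 = 1)),
        ((Complex.normSq ((χ : G → ℂ) g) : ℝ) : ℂ) =
      (Nat.card (Subgroup.centralizer ({g} : Set G)) : ℂ) - ((commutator G).index : ℂ) := by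
  classical
  have h1 := (column_orthogonality g g).1 (IsConj.refl g)
  rw [← Finset.sum_filter_add_sum_filter_not Finset.univ
    (fun χ : IrrCharacter G => (χ : G → ℂ) 1 = 1)] at h1
  have h2 : ∑ χ ∈ (Finset.univ.filter (fun χ : IrrCharacter G => (χ : G → ℂ) 1 = 1)),
      (χ : G → ℂ) g * conj ((χ : G → ℂ) g) = ((commutator G).index : ℂ) := by
    rw [Finset.sum_congr rfl (fun χ hχ =>
      Cfsg.Agent.Lib.helper3.MackeyLin.mul_conj_eq_one_of_linear
        (isCharacter_of_isIrrCharacter χ.2) (Finset.mem_filter.mp hχ).2 g)]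
    rw [Finset.sum_const, nsmul_eq_mul, mul_one, ← card_linear_eq_index_commutator,
      Nat.card_eq_fintype_card, Fintype.card_subtype]
  rw [h2] at h1
  rw [← h1]
  rw [add_sub_cancel_left]
  apply Finset.sum_congr rfl
  intro χ _
  rw [Complex.mul_conj]

/-- **Lemma K**: if `|C_G(g)| ≤ |G : G'|` then every nonlinear irreducible character vanishes at
`g`. -/
theorem vanish_of_card_centralizer_le (g : G)
    (h : Nat.card (Subgroup.centralizer ({g} : Set G)) ≤ (commutator G).index)
    (χ : IrrCharacter G) (hχ : (χ : G → ℂ) 1 ≠ 1) : (χ : G → ℂ) g = 0 := by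
  classical
  have h1 := sum_nonlinear g
  have h2 : ∑ χ ∈ (Finset.univ.filter (fun χ : IrrCharacter G => ¬ (χ : G → ℂ) 1 = 1)),
      (Complex.normSq ((χ : G → ℂ) g) : ℝ) =
      (Nat.card (Subgroup.centralizer ({g} : Set G)) : ℝ) - ((commutator G).index : ℝ) := by
    apply Complex.ofReal_injective
    push_cast
    exact h1
  have h3 : ∑ χ ∈ (Finset.univ.filter (fun χ : IrrCharacter G => ¬ (χ : G → ℂ) 1 = 1)),
      (Complex.normSq ((χ : G → ℂ) g) : ℝ) ≤ 0 := by
    rw [h2]
    have : (Nat.card (Subgroup.centralizer ({g} : Set G)) : ℝ) ≤ ((commutator G).index : ℝ) := by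
      exact_mod_cast h
    linarith
  have h4 : ∑ χ ∈ (Finset.univ.filter (fun χ : IrrCharacter G => ¬ (χ : G → ℂ) 1 = 1)),
      (Complex.normSq ((χ : G → ℂ) g) : ℝ) = 0 :=
    le_antisymm h3 (Finset.sum_nonneg (fun χ _ => Complex.normSq_nonneg _))
  have h5 := (Finset.sum_eq_zero_iff_of_nonneg (fun χ _ => Complex.normSq_nonneg _)).mp h4 χ
    (Finset.mem_filter.mpr ⟨Finset.mem_univ _, hχ⟩)
  exact Complex.normSq_eq_zero.mp h5

/-- **Lemma K**, converse: if every nonlinear irreducible character vanishes at `g` then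
`|C_G(g)| = |G : G'|`. -/
theorem card_centralizer_eq_of_vanish (g : G)
    (h : ∀ χ : IrrCharacter G, (χ : G → ℂ) 1 ≠ 1 → (χ : G → ℂ) g = 0) :
    Nat.card (Subgroup.centralizer ({g} : Set G)) = (commutator G).index := by
  classical
  have h1 := sum_nonlinear g
  rw [Finset.sum_eq_zero] at h1
  · have h2 : ((commutator G).index : ℂ) = (Nat.card (Subgroup.centralizer ({g} : Set G)) : ℂ) := by
      linear_combination h1
    exact_mod_cast h2.symm
  · intro χ hχ
    rw [h χ (Finset.mem_filter.mp hχ).2]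
    simp

end K

section F

variable {G : Type u} [Group G] [Finite G]

/-- **Lemma F** (Frobenius coset trick): if `t` has no nontrivial fixed point in the normal
subgroup `D` then neither has `d * t`, for every `d ∈ D`. -/
theorem centralizer_mul_trivial (D : Subgroup G) [D.Normal] (t : G)
    (ht : ∀ z ∈ D, z * t = t * z → z = 1) (d : G) (hd : d ∈ D) :
    ∀ z ∈ D, z * (d * t) = (d * t) * z → z = 1 := by
  classical
  -- the map `z ↦ z * t * z⁻¹ * t⁻¹` on `D` is injective, hence surjective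
  let f : D → D := fun z => ⟨(z : G) * t * (z : G)⁻¹ * t⁻¹, by
    have h1 : t * (z : G)⁻¹ * t⁻¹ ∈ D := Subgroup.Normal.conj_mem inferInstance _ (D.inv_mem z.2) t
    have h2 : (z : G) * (t * (z : G)⁻¹ * t⁻¹) ∈ D := D.mul_mem z.2 h1
    have : (z : G) * t * (z : G)⁻¹ * t⁻¹ = (z : G) * (t * (z : G)⁻¹ * t⁻¹) := by group
    rw [this]; exact h2⟩
  have hf : Function.Injective f := by
    intro z z' h
    have h1 : (z : G) * t * (z : G)⁻¹ * t⁻¹ = (z' : G) * t * (z' : G)⁻¹ * t⁻¹ :=
      congrArg Subtype.val h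
    have h2 : ((z' : G)⁻¹ * (z : G)) * t = t * ((z' : G)⁻¹ * (z : G)) := by
      have h3 : (z : G) * t * (z : G)⁻¹ = (z' : G) * t * (z' : G)⁻¹ := mul_right_cancel h1
      calc ((z' : G)⁻¹ * (z : G)) * t = (z' : G)⁻¹ * ((z : G) * t * (z : G)⁻¹) * (z : G) := by group
        _ = (z' : G)⁻¹ * ((z' : G) * t * (z' : G)⁻¹) * (z : G) := by rw [h3]
        _ = t * ((z' : G)⁻¹ * (z : G)) := by group
    have h4 := ht _ (D.mul_mem (D.inv_mem z'.2) z.2) h2
    apply Subtype.ext
    have : (z : G) = (z' : G) * ((z' : G)⁻¹ * (z : G)) := by group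
    rw [this, h4, mul_one]
  have hs : Function.Surjective f := Finite.injective_iff_surjective.mp hf
  obtain ⟨w, hw⟩ := hs ⟨d, hd⟩
  have hw' : (w : G) * t * (w : G)⁻¹ * t⁻¹ = d := congrArg Subtype.val hw
  -- so `d * t = w * t * w⁻¹`
  have hdt : d * t = (w : G) * t * (w : G)⁻¹ := by
    rw [← hw']; group
  intro z hz hcomm
  rw [hdt] at hcomm
  -- `w⁻¹ z w` commutes with `t`
  have h1 : ((w : G)⁻¹ * z * (w : G)) * t = t * ((w : G)⁻¹ * z * (w : G)) := by
    calc ((w : G)⁻¹ * z * (w : G)) * t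
        = (w : G)⁻¹ * (z * ((w : G) * t * (w : G)⁻¹)) * (w : G) := by group
      _ = (w : G)⁻¹ * (((w : G) * t * (w : G)⁻¹) * z) * (w : G) := by rw [hcomm]
      _ = t * ((w : G)⁻¹ * z * (w : G)) := by group
  have h2 : (w : G)⁻¹ * z * (w : G) ∈ D := by
    have := Subgroup.Normal.conj_mem (inferInstance : D.Normal) z hz (w : G)⁻¹
    simpa using this
  have h3 := ht _ h2 h1
  have : z = (w : G) * ((w : G)⁻¹ * z * (w : G)) * (w : G)⁻¹ := by group
  rw [this, h3]
  group

end F

end Cfsg.Agent.Lib.Helper8.Mult
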