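import Mathlib
import Cfsg.Prelude.Def_Characters
import Cfsg.Agent.Lib.helper3.Irr10
import Cfsg.Agent.Lib.helper3.Lin
import Cfsg.Agent.Lib.Helper8.MultA

/-!
# S4756, piece P1 (part B): the direction (2) ⇒ (1).
-/

set_option autoImplicit false
set_option linter.style.haveILetI false
set_option linter.unusedSectionVars false
set_option linter.unusedVariables false

namespace Cfsg.Agent.Lib.Helper8.Mult

open Cfsg Cfsg.Agent.Lib.helper3.Irr Cfsg.Agent.Lib.helper3.CharBasic
open scoped ComplexConjugate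

universe u

section general

variable {G : Type u} [Group G]

/-- a nontrivial `r`-element of a `p`-subgroup forces `r = p` -/
theorem prime_eq_of_mem_sylow [Finite G] (p : ℕ) [hp : Fact p.Prime] (P : Sylow p G) (x : G)
    (hx : x ∈ (P : Subgroup G)) (hx1 : x ≠ 1) (r a : ℕ) (hr : r.Prime) (ho : orderOf x = r ^ a) :
    r = p := by
  obtain ⟨k, hk⟩ := IsPGroup.iff_orderOf.mp P.isPGroup' ⟨x, hx⟩
  rw [Subgroup.orderOf_mk] at hk
  have ha : a ≠ 0 := by
    rintro rfl
    rw [pow_zero, orderOf_eq_one_iff] at ho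
    exact hx1 ho
  have h1 : r ∣ p ^ k := by
    rw [← hk, ho]
    exact dvd_pow_self r ha
  exact (Nat.prime_dvd_prime_iff_eq hr hp.out).mp (hr.dvd_of_dvd_pow h1)

/-- if `x ∉ N` and the orders of `x`, `y` are coprime then `x * y ∉ N` -/
theorem mul_not_mem_left (N : Subgroup G) [N.Normal] (x y : G) (hx : x ∉ N)
    (hcop : (orderOf x).Coprime (orderOf y)) : x * y ∉ N := by
  intro hxy
  apply hx
  have h1 : (QuotientGroup.mk' N) (x * y) = 1 := (QuotientGroup.eq_one_iff _).mpr hxy
  rw [map_mul] at h1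
  have h2 : (QuotientGroup.mk' N) x = ((QuotientGroup.mk' N) y)⁻¹ := eq_inv_of_mul_eq_one_left h1
  have h3 : orderOf ((QuotientGroup.mk' N) x) ∣ orderOf x := orderOf_map_dvd _ x
  have h4 : orderOf ((QuotientGroup.mk' N) x) ∣ orderOf y := by
    rw [h2, orderOf_inv]
    exact orderOf_map_dvd _ y
  have h5 : orderOf ((QuotientGroup.mk' N) x) = 1 :=
    Nat.eq_one_of_dvd_coprimes hcop h3 h4
  rw [orderOf_eq_one_iff] at h5
  exact (QuotientGroup.eq_one_iff _).mp h5

theorem mul_not_mem_right (N : Subgroup G) [N.Normal] (x y : G) (hy : y ∉ N)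
    (hcop : (orderOf x).Coprime (orderOf y)) : x * y ∉ N := by
  intro hxy
  apply hy
  have h1 : (QuotientGroup.mk' N) (x * y) = 1 := (QuotientGroup.eq_one_iff _).mpr hxy
  rw [map_mul] at h1
  have h2 : (QuotientGroup.mk' N) y = ((QuotientGroup.mk' N) x)⁻¹ := eq_inv_of_mul_eq_one_right h1
  have h3 : orderOf ((QuotientGroup.mk' N) y) ∣ orderOf y := orderOf_map_dvd _ y
  have h4 : orderOf ((QuotientGroup.mk' N) y) ∣ orderOf x := by
    rw [h2, orderOf_inv]
    exact orderOf_map_dvd _ x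
  have h5 : orderOf ((QuotientGroup.mk' N) y) = 1 :=
    Nat.eq_one_of_dvd_coprimes hcop h4 h3
  rw [orderOf_eq_one_iff] at h5
  exact (QuotientGroup.eq_one_iff _).mp h5

end general

section structure_case

variable {G : Type u} [Group G] [Fintype G]

/-- In the structure case every nonlinear irreducible character vanishes outside `P`. -/
theorem vanish_outside (p : ℕ) [hp : Fact p.Prime] (P : Sylow p G) (A : Subgroup G)
    (hPn : (P : Subgroup G).Normal) (hcop : (Nat.card ↥A).Coprime p)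
    (hAP : A ⊔ (P : Subgroup G) = ⊤)
    (hAcomm : ∀ a ∈ A, ∀ a' ∈ A, a * a' = a' * a)
    (hC : ∀ c ∈ (P : Subgroup G) ⊓ Subgroup.centralizer (A : Set G),
      ∀ c' ∈ (P : Subgroup G) ⊓ Subgroup.centralizer (A : Set G), c * c' = c' * c)
    (hDn : (⁅A, (P : Subgroup G)⁆).Normal)
    (hCD : ((P : Subgroup G) ⊓ Subgroup.centralizer (A : Set G)) ⊔ ⁅A, (P : Subgroup G)⁆ =
      (P : Subgroup G))
    (hfpf : ∀ a ∈ A, a ≠ 1 → ∀ d ∈ ⁅A, (P : Subgroup G)⁆, a * d = d * a → d = 1)
    (g : G) (hg : g ∉ (P : Subgroup G)) (χ : IrrCharacter G) (hχ : (χ : G → ℂ) 1 ≠ 1) :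
    (χ : G → ℂ) g = 0 := by
  classical
  haveI := hPn
  haveI := hDn
  obtain ⟨C, hCdef⟩ : ∃ C : Subgroup G, C = (P : Subgroup G) ⊓ Subgroup.centralizer (A : Set G) :=
    ⟨_, rfl⟩
  obtain ⟨D, hDdef⟩ : ∃ D : Subgroup G, D = ⁅A, (P : Subgroup G)⁆ := ⟨_, rfl⟩
  rw [← hCdef] at hC hCD
  rw [← hDdef] at hCD hfpf hDn
  haveI : D.Normal := hDn
  have hCP : C ≤ (P : Subgroup G) := by rw [hCdef]; exact inf_le_left
  have hDP : D ≤ (P : Subgroup G) := by rw [← hCD]; exact le_sup_right
  have hCA : ∀ c ∈ C, ∀ a ∈ A, a * c = c * a := by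
    intro c hc a ha
    rw [hCdef] at hc
    exact (Subgroup.mem_centralizer_iff.mp hc.2) a ha
  -- decomposition
  have hdec : ∀ g : G, ∃ a ∈ A, ∃ c ∈ C, ∃ d ∈ D, g = a * c * d := by
    intro g
    have hg : g ∈ A ⊔ (P : Subgroup G) := by rw [hAP]; exact Subgroup.mem_top g
    obtain ⟨a, ha, u, hu, rfl⟩ := Subgroup.mem_sup_of_normal_right.mp hg
    rw [← hCD] at hu
    obtain ⟨c, hc, d, hd, rfl⟩ := Subgroup.mem_sup_of_normal_right.mp hu
    exact ⟨a, ha, c, hc, d, hd, by rw [mul_assoc]⟩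
  -- `G' ≤ D`
  have hGD : commutator G ≤ D := by
    rw [commutator_def, Subgroup.commutator_le]
    intro g₁ _ g₂ _
    obtain ⟨a, ha, c, hc, d, hd, rfl⟩ := hdec g₁
    obtain ⟨a', ha', c', hc', d', hd', rfl⟩ := hdec g₂
    rw [← QuotientGroup.eq_one_iff, ← QuotientGroup.mk'_apply, map_commutatorElement,
      commutatorElement_eq_one_iff_commute]
    have hd1 : (QuotientGroup.mk' D) d = 1 := (QuotientGroup.eq_one_iff _).mpr hd
    have hd1' : (QuotientGroup.mk' D) d' = 1 := (QuotientGroup.eq_one_iff _).mpr hd'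
    rw [map_mul, map_mul, map_mul, map_mul, hd1, hd1', mul_one, mul_one]
    have e1 : Commute a a' := hAcomm a ha a' ha'
    have e2 : Commute a c' := hCA c' hc' a ha
    have e3 : Commute c a' := (hCA c hc a' ha').symm
    have e4 : Commute c c' := hC c hc c' hc'
    exact ((e1.map (QuotientGroup.mk' D)).mul_right (e2.map _)).mul_left
      ((e3.map (QuotientGroup.mk' D)).mul_right (e4.map _))
  -- fixed points
  have hfix : ∀ z ∈ D, z * g = g * z → z = 1 := by
    obtain ⟨a, ha, c, hc, d, hd, rfl⟩ := hdec g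
    have ha1 : a ≠ 1 := by
      rintro rfl
      apply hg
      rw [one_mul]
      exact Subgroup.mul_mem _ (hCP hc) (hDP hd)
    have hac : Commute a c := hCA c hc a ha
    -- `t = a * c` has no fixed points on `D`
    have ht : ∀ z ∈ D, z * (a * c) = (a * c) * z → z = 1 := by
      intro z hz hzt
      obtain ⟨k, hk⟩ := IsPGroup.iff_orderOf.mp P.isPGroup' ⟨c, hCP hc⟩
      rw [Subgroup.orderOf_mk] at hk
      have hpow : (a * c) ^ (p ^ k) = a ^ (p ^ k) := by
        rw [hac.mul_pow, ← hk, pow_orderOf_eq_one, mul_one]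
      have han : a ^ (p ^ k) ≠ 1 := by
        intro h
        apply ha1
        have h1 : orderOf a ∣ p ^ k := orderOf_dvd_of_pow_eq_one h
        have h2 : orderOf a ∣ Nat.card ↥A := by
          have := orderOf_dvd_natCard (⟨a, ha⟩ : A)
          rwa [Subgroup.orderOf_mk] at this
        have h3 : orderOf a = 1 :=
          Nat.eq_one_of_dvd_coprimes (Nat.Coprime.pow_right k hcop) h2 h1
        exact orderOf_eq_one_iff.mp h3
      have hzc : Commute z (a * c) := hzt
      have hzc2 : Commute z (a ^ (p ^ k)) := by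
        rw [← hpow]
        exact hzc.pow_right _
      exact hfpf _ (A.pow_mem ha _) han z hz hzc2.symm.eq
    -- `a * c * d = (t d t⁻¹) * t`
    have hd'' : (a * c) * d * (a * c)⁻¹ ∈ D := Subgroup.Normal.conj_mem inferInstance d hd _
    have hF := centralizer_mul_trivial D (a * c) ht _ hd''
    have heq : (a * c) * d * (a * c)⁻¹ * (a * c) = a * c * d := by group
    rw [heq] at hF
    exact hF
  -- `|C_G(g)|` divides `|G : G'|`
  have hdisj : Disjoint D (Subgroup.centralizer ({g} : Set G)) := by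
    rw [Subgroup.disjoint_def]
    intro z hzD hzC
    apply hfix z hzD
    have := Subgroup.mem_centralizer_iff.mp hzC g (Set.mem_singleton g)
    exact this.symm
  have hcard : Nat.card (Subgroup.centralizer ({g} : Set G)) ∣ (commutator G).index := by
    have h1 : D.relIndex (Subgroup.centralizer ({g} : Set G)) =
        Nat.card (Subgroup.centralizer ({g} : Set G)) := by
      rw [Subgroup.relIndex, Subgroup.subgroupOf_eq_bot.mpr hdisj, Subgroup.index_bot]
    rw [← h1]
    exact (Subgroup.relIndex_dvd_index_of_normal D _).trans (Subgroup.index_dvd_of_le hGD)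
  have hle : Nat.card (Subgroup.centralizer ({g} : Set G)) ≤ (commutator G).index :=
    Nat.le_of_dvd (Nat.pos_of_ne_zero Subgroup.index_ne_zero_of_finite) hcard
  exact vanish_of_card_centralizer_le g hle χ hχ

end structure_case

/-- **S4756, direction (2) ⇒ (1)**. -/
theorem mult_of_structure {G : Type u} [Group G] [Finite G]
    (h : (∃ p : ℕ, p.Prime ∧ IsPGroup p G) ∨ IsMulCommutative G ∨
      ∃ (p : ℕ) (_ : Fact p.Prime) (P : Sylow p G) (A : Subgroup G),
        (P : Subgroup G).Normal ∧ IsCyclic ↥A ∧ A ≠ ⊥ ∧ (Nat.card ↥A).Coprime p ∧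
        A ⊔ (P : Subgroup G) = ⊤ ∧
        IsMulCommutative ↥((P : Subgroup G) ⊓ Subgroup.centralizer (A : Set G)) ∧
        (⁅A, (P : Subgroup G)⁆).Normal ∧
        ((P : Subgroup G) ⊓ Subgroup.centralizer (A : Set G)) ⊔ ⁅A, (P : Subgroup G)⁆ =
          (P : Subgroup G) ∧
        ((P : Subgroup G) ⊓ Subgroup.centralizer (A : Set G)) ⊓ ⁅A, (P : Subgroup G)⁆ = ⊥ ∧
        ∀ a ∈ A, a ≠ 1 → ∀ d ∈ ⁅A, (P : Subgroup G)⁆, a * d = d * a → d = 1) :
    ∀ (x y : G) (χ : Cfsg.IrrCharacter G), x ≠ 1 → y ≠ 1 →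
      (∃ p q a b : ℕ, p.Prime ∧ q.Prime ∧ p ≠ q ∧ orderOf x = p ^ a ∧ orderOf y = q ^ b) →
      (χ : G → ℂ) (x * y) = (χ : G → ℂ) x * (χ : G → ℂ) y := by
  classical
  cases nonempty_fintype G
  intro x y χ hx1 hy1 ⟨r, s, a, b, hr, hs, hrs, hox, hoy⟩
  have hχc := isCharacter_of_isIrrCharacter χ.2
  rcases h with ⟨p, hp, hG⟩ | hcomm | ⟨p, hp, P, A, hPn, hAcyc, hA1, hcop, hAP, hCc, hDn, hCD, _, hfpf⟩
  · -- `p`-group: vacuous
    exfalso
    haveI : Fact p.Prime := ⟨hp⟩
    have key : ∀ (z : G) (t e : ℕ), z ≠ 1 → t.Prime → orderOf z = t ^ e → t = p := by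
      intro z t e hz1 ht hoz
      obtain ⟨k, hk⟩ := IsPGroup.iff_orderOf.mp hG z
      have he : e ≠ 0 := by
        rintro rfl
        rw [pow_zero, orderOf_eq_one_iff] at hoz
        exact hz1 hoz
      have h1 : t ∣ p ^ k := by
        rw [← hk, hoz]
        exact dvd_pow_self t he
      exact (Nat.prime_dvd_prime_iff_eq ht hp).mp (ht.dvd_of_dvd_pow h1)
    exact hrs ((key x r a hx1 hr hox).trans (key y s b hy1 hs hoy).symm)
  · -- commutative: all characters linear
    have h1 : (χ : G → ℂ) 1 = 1 :=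
      apply_one_eq_one_of_comm (fun a b => (isMulCommutative_iff.mp hcomm) a b) χ.2
    exact Cfsg.Agent.Lib.helper3.Lin.map_mul_of_apply_one_eq_one hχc h1 x y
  · -- the structure case
    by_cases hlin : (χ : G → ℂ) 1 = 1
    · exact Cfsg.Agent.Lib.helper3.Lin.map_mul_of_apply_one_eq_one hχc hlin x y
    · haveI := hPn
      haveI := hp
      have hAcomm : ∀ a ∈ A, ∀ a' ∈ A, a * a' = a' * a := by
        intro a ha a' ha'
        haveI := hAcyc
        have := (IsCyclic.commGroup (α := A)).mul_comm ⟨a, ha⟩ ⟨a', ha'⟩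
        exact congrArg Subtype.val this
      have hCc' : ∀ c ∈ (P : Subgroup G) ⊓ Subgroup.centralizer (A : Set G),
          ∀ c' ∈ (P : Subgroup G) ⊓ Subgroup.centralizer (A : Set G), c * c' = c' * c := by
        intro c hc c' hc'
        have := (isMulCommutative_iff.mp hCc) ⟨c, hc⟩ ⟨c', hc'⟩
        exact congrArg Subtype.val this
      have hvan := vanish_outside p P A hPn hcop hAP hAcomm hCc' hDn hCD hfpf
      have hcopo : (orderOf x).Coprime (orderOf y) := by
        rw [hox, hoy]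
        exact Nat.Coprime.pow _ _ ((Nat.coprime_primes hr hs).mpr hrs)
      by_cases hrp : r = p
      · -- then `s ≠ p`, `y ∉ P`
        have hyP : y ∉ (P : Subgroup G) := by
          intro hy
          have := prime_eq_of_mem_sylow p P y hy hy1 s b hs hoy
          exact hrs (hrp.trans this.symm)
        rw [hvan y hyP χ hlin, hvan (x * y) (mul_not_mem_right _ x y hyP hcopo) χ hlin, mul_zero]
      · have hxP : x ∉ (P : Subgroup G) := by
          intro hx
          exact hrp (prime_eq_of_mem_sylow p P x hx hx1 r a hr hox)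
        rw [hvan x hxP χ hlin, hvan (x * y) (mul_not_mem_left _ x y hxP hcopo) χ hlin, zero_mul]

end Cfsg.Agent.Lib.Helper8.Mult
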