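import Mathlib

set_option autoImplicit false

/-!
# The covering step for normal subgroups with two class sizes

`cover`: if `W = C ⊓ N` is a common centralizer trace containing noncentral elements of two
different prime power orders, then every noncentral element of `N` is conjugate into `W`.
-/

namespace Cfsg.Agent.Lib.Helper8.NClassB

open MulAction

section Gen

variable {H X : Type*} [Group H] [MulAction H X]

/-- an invariant finite set all of whose orbits have `k` elements has cardinality divisible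
by `k` -/
theorem dvd_card_of_orbits [DecidableEq X] (k : ℕ) :
    ∀ (n : ℕ) (S : Finset X), S.card = n → (∀ x ∈ S, ∀ h : H, h • x ∈ S) →
      (∀ x ∈ S, (orbit H x).ncard = k) → k ∣ S.card := by
  intro n
  induction n using Nat.strong_induction_on with
  | _ n ih =>
    intro S hn hS hk
    rcases S.eq_empty_or_nonempty with rfl | ⟨x, hx⟩
    · simp
    · have hsub : orbit H x ⊆ (S : Set X) := by
        rintro _ ⟨h, rfl⟩
        exact hS x hx h
      have hfin : (orbit H x).Finite := S.finite_toSet.subset hsub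
      obtain ⟨O, hO⟩ : ∃ O : Finset X, O = hfin.toFinset := ⟨_, rfl⟩
      have hmemO : ∀ y, y ∈ O ↔ y ∈ orbit H x := by
        intro y
        rw [hO, Set.Finite.mem_toFinset]
      have hOS : O ⊆ S := fun y hy => hsub ((hmemO y).mp hy)
      have hOcard : O.card = k := by
        rw [← hk x hx, Set.ncard_eq_toFinset_card _ hfin, hO]
      have hxO : x ∈ O := (hmemO x).mpr (mem_orbit_self x)
      have hS' : ∀ y ∈ S \ O, ∀ h : H, h • y ∈ S \ O := by
        intro y hy h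
        rw [Finset.mem_sdiff] at hy ⊢
        refine ⟨hS y hy.1 h, fun hc => hy.2 ?_⟩
        rw [hmemO] at hc ⊢
        obtain ⟨g, hg⟩ := hc
        have hg' : g • x = h • y := hg
        refine ⟨h⁻¹ * g, ?_⟩
        change (h⁻¹ * g) • x = y
        rw [mul_smul, hg', inv_smul_smul]
      have hk' : ∀ y ∈ S \ O, (orbit H y).ncard = k :=
        fun y hy => hk y (Finset.mem_sdiff.mp hy).1
      have hcard : (S \ O).card + O.card = S.card := Finset.card_sdiff_add_card_eq_card hOS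
      have hlt : (S \ O).card < n := by
        have : 0 < O.card := Finset.card_pos.mpr ⟨x, hxO⟩
        omega
      have h1 := ih _ hlt (S \ O) rfl hS' hk'
      rw [← hcard, hOcard]
      exact Dvd.dvd.add h1 (dvd_refl k)

/-- counting modulo the common orbit size -/
theorem card_eq_of_orbits [Finite X] (k : ℕ) (F : Set X)
    (hF : ∀ x ∈ F, ∀ h : H, h • x = x)
    (hk : ∀ x, x ∉ F → (orbit H x).ncard = k) :
    ∃ t : ℕ, Nat.card X = F.ncard + k * t := by
  classical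
  have := Fintype.ofFinite X
  obtain ⟨S, hS⟩ : ∃ S : Finset X, S = Finset.univ.filter (fun x => x ∉ F) := ⟨_, rfl⟩
  have hmemS : ∀ x, x ∈ S ↔ x ∉ F := by
    intro x
    rw [hS, Finset.mem_filter]
    simp
  have hinv : ∀ x ∈ S, ∀ h : H, h • x ∈ S := by
    intro x hx h
    rw [hmemS] at hx ⊢
    intro hc
    apply hx
    have h2 := hF _ hc h⁻¹
    rw [inv_smul_smul] at h2
    rw [h2]
    exact hc
  have hdvd := dvd_card_of_orbits (H := H) k S.card S rfl hinv
    (fun x hx => hk x ((hmemS x).mp hx))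
  obtain ⟨t, ht⟩ := hdvd
  refine ⟨t, ?_⟩
  have hF' : F = ((Finset.univ.filter (fun x => x ∈ F) : Finset X) : Set X) := by
    ext x
    simp
  have h1 : F.ncard = (Finset.univ.filter (fun x => x ∈ F) : Finset X).card := by
    conv_lhs => rw [hF']
    exact Set.ncard_coe_finset _
  have h2 := Finset.card_filter_add_card_filter_not (s := (Finset.univ : Finset X))
    (fun x => x ∈ F)
  rw [Nat.card_eq_fintype_card, ← Finset.card_univ, ← h2, ← hS, h1, ht]

end Gen

section Conj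

variable {G : Type*} [Group G]

/-- conjugation action of a subgroup on an invariant set -/
@[reducible] def conjOn (H : Subgroup G) (S : Set G)
    (hS : ∀ h ∈ H, ∀ s ∈ S, h * s * h⁻¹ ∈ S) : MulAction H S where
  smul h s := ⟨(h : G) * (s : G) * (h : G)⁻¹, hS h h.2 s s.2⟩
  one_smul s := by
    apply Subtype.ext
    change ((1 : H) : G) * (s : G) * ((1 : H) : G)⁻¹ = s
    simp
  mul_smul h h' s := by
    apply Subtype.ext
    change ((h * h' : H) : G) * (s : G) * ((h * h' : H) : G)⁻¹ =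
      (h : G) * ((h' : G) * (s : G) * (h' : G)⁻¹) * (h : G)⁻¹
    simp [mul_assoc]

theorem conjOn_smul_coe (H : Subgroup G) (S : Set G)
    (hS : ∀ h ∈ H, ∀ s ∈ S, h * s * h⁻¹ ∈ S) (h : H) (s : S) :
    letI := conjOn H S hS
    ((h • s : S) : G) = (h : G) * (s : G) * (h : G)⁻¹ := rfl

/-- orbit sizes of the conjugation action -/
theorem orbit_ncard (H : Subgroup G) (S : Set G)
    (hS : ∀ h ∈ H, ∀ s ∈ S, h * s * h⁻¹ ∈ S) (s : S) :
    letI := conjOn H S hS
    (orbit H s).ncard = (Subgroup.centralizer ({(s : G)} : Set G)).relIndex H := by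
  let _ := conjOn H S hS
  rw [← MulAction.index_stabilizer, Subgroup.relIndex]
  congr 1
  ext h
  rw [MulAction.mem_stabilizer_iff, Subgroup.mem_subgroupOf,
    Subgroup.mem_centralizer_singleton_iff]
  constructor
  · intro hh
    have h1 : (h : G) * (s : G) * (h : G)⁻¹ = s := congrArg Subtype.val hh
    rw [mul_inv_eq_iff_eq_mul] at h1
    exact h1
  · intro hh
    apply Subtype.ext
    change (h : G) * (s : G) * (h : G)⁻¹ = s
    rw [mul_inv_eq_iff_eq_mul]
    exact hh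

/-- the size of a conjugacy class -/
theorem card_class [Finite G] (v : G) :
    Nat.card {u : G | ∃ g : G, u = g * v * g⁻¹} =
      (Subgroup.centralizer ({v} : Set G)).index := by
  have hS : ∀ h ∈ (⊤ : Subgroup G), ∀ s ∈ {u : G | ∃ g : G, u = g * v * g⁻¹},
      h * s * h⁻¹ ∈ {u : G | ∃ g : G, u = g * v * g⁻¹} := by
    rintro h - _ ⟨g, rfl⟩
    exact ⟨h * g, by group⟩
  let _ := conjOn (⊤ : Subgroup G) _ hS
  have hv : v ∈ {u : G | ∃ g : G, u = g * v * g⁻¹} := ⟨1, by group⟩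
  have h1 := orbit_ncard (⊤ : Subgroup G) _ hS ⟨v, hv⟩
  rw [Subgroup.relIndex_top_right] at h1
  rw [← h1]
  have h2 : orbit (⊤ : Subgroup G) (⟨v, hv⟩ : {u : G | ∃ g : G, u = g * v * g⁻¹}) = Set.univ := by
    ext ⟨u, g, rfl⟩
    simp only [Set.mem_univ, iff_true]
    exact ⟨⟨g, Subgroup.mem_top g⟩, rfl⟩
  rw [h2, Set.ncard_univ]

end Conj

section Main

variable {G : Type*} [Group G]

/-- the elements of an abelian subgroup killed by `n` -/
def Wp (W : Subgroup G) (hWab : ∀ a ∈ W, ∀ b ∈ W, a * b = b * a) (n : ℕ) : Subgroup G where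
  carrier := {w | w ∈ W ∧ w ^ n = 1}
  mul_mem' := by
    rintro a b ⟨ha, ha'⟩ ⟨hb, hb'⟩
    refine ⟨W.mul_mem ha hb, ?_⟩
    have hc : Commute a b := hWab a ha b hb
    rw [hc.mul_pow, ha', hb', one_mul]
  one_mem' := ⟨W.one_mem, one_pow n⟩
  inv_mem' := by
    rintro a ⟨ha, ha'⟩
    exact ⟨W.inv_mem ha, by rw [inv_pow, ha', inv_one]⟩

theorem mem_Wp {W : Subgroup G} {hWab : ∀ a ∈ W, ∀ b ∈ W, a * b = b * a} {n : ℕ} {w : G} :
    w ∈ Wp W hWab n ↔ w ∈ W ∧ w ^ n = 1 := Iff.rfl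

theorem Wp_le (W : Subgroup G) (hWab : ∀ a ∈ W, ∀ b ∈ W, a * b = b * a) (n : ℕ) :
    Wp W hWab n ≤ W := fun _ hw => hw.1

theorem isPGroup_Wp (W : Subgroup G) (hWab : ∀ a ∈ W, ∀ b ∈ W, a * b = b * a) (p b : ℕ) :
    IsPGroup p (Wp W hWab (p ^ b)) := by
  rintro ⟨w, hw⟩
  exact ⟨b, Subtype.ext hw.2⟩

/-- one half of the squeeze -/
theorem half [Finite G] (N W : Subgroup G) [N.Normal] (m : ℕ) (hWN : W ≤ N)
    (hm : ∀ v ∈ N, v ∉ Subgroup.center G → (Subgroup.centralizer ({v} : Set G)).index = m)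
    (hWab : ∀ a ∈ W, ∀ b ∈ W, a * b = b * a)
    (hself : ∀ w ∈ W, w ∉ Subgroup.center G → ∀ v ∈ N, v * w = w * v → v ∈ W)
    (v0 : G) (hv0N : v0 ∈ N) (hv0Z : v0 ∉ Subgroup.center G) (hv0 : ∀ g : G, g * v0 * g⁻¹ ∉ W)
    {q r : ℕ} (hq : q.Prime) (hr : r.Prime) (hqr : q ≠ r) (a b : ℕ)
    (y : G) (hy : y ∈ W) (hyZ : y ∉ Subgroup.center G) (hyq : y ^ (q ^ b) = 1) :
    (Subgroup.center G).relIndex (Wp W hWab (r ^ a)) + 1 ≤
      (Subgroup.center G).relIndex (Wp W hWab (q ^ b)) := by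
  have : Fact q.Prime := ⟨hq⟩
  have : Fact r.Prime := ⟨hr⟩
  obtain ⟨Kr, hKr⟩ : ∃ K : Subgroup G, K = Wp W hWab (r ^ a) := ⟨_, rfl⟩
  obtain ⟨Kq, hKq⟩ : ∃ K : Subgroup G, K = Wp W hWab (q ^ b) := ⟨_, rfl⟩
  rw [← hKr, ← hKq]
  have hKrW : Kr ≤ W := hKr ▸ Wp_le W hWab _
  have hKqW : Kq ≤ W := hKq ▸ Wp_le W hWab _
  obtain ⟨ρ, hρ⟩ : ∃ ρ : ℕ, ρ = (Subgroup.center G).relIndex Kr := ⟨_, rfl⟩
  obtain ⟨κ, hκ⟩ : ∃ κ : ℕ, κ = (Subgroup.center G).relIndex Kq := ⟨_, rfl⟩
  rw [← hρ, ← hκ]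
  -- stabilizers of elements outside `W`
  have hstab : ∀ v' ∈ N, v' ∉ W →
      (Subgroup.centralizer ({v'} : Set G)).relIndex Kr = ρ := by
    intro v' hv'N hv'W
    rw [hρ, Subgroup.relIndex, Subgroup.relIndex]
    congr 1
    ext k
    rw [Subgroup.mem_subgroupOf, Subgroup.mem_subgroupOf,
      Subgroup.mem_centralizer_singleton_iff]
    constructor
    · intro hk
      by_contra hkZ
      exact hv'W (hself k (hKrW k.2) hkZ v' hv'N hk.symm)
    · intro hk
      exact (Subgroup.mem_center_iff.mp hk v').symm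
  -- (i) `ρ ∣ m`
  have h_i : ρ ∣ m := by
    have hS0 : ∀ h ∈ Kr, ∀ s ∈ {u : G | ∃ g : G, u = g * v0 * g⁻¹},
        h * s * h⁻¹ ∈ {u : G | ∃ g : G, u = g * v0 * g⁻¹} := by
      rintro h - _ ⟨g, rfl⟩
      exact ⟨h * g, by group⟩
    let _ := conjOn Kr _ hS0
    obtain ⟨t, ht⟩ := card_eq_of_orbits (H := Kr) (X := {u : G | ∃ g : G, u = g * v0 * g⁻¹})
      ρ ∅ (by simp) (by
        intro s _
        rw [orbit_ncard Kr _ hS0 s]
        obtain ⟨u, g, rfl⟩ := s
        exact hstab _ (Subgroup.Normal.conj_mem inferInstance v0 hv0N g) (hv0 g))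
    rw [card_class, hm v0 hv0N hv0Z, Set.ncard_empty, zero_add] at ht
    exact ⟨t, ht⟩
  -- the set of noncentral elements of `N` killed by `q ^ b`
  obtain ⟨A, hAdef⟩ : ∃ A : Set G,
      A = {v : G | v ∈ N ∧ v ∉ Subgroup.center G ∧ v ^ (q ^ b) = 1} := ⟨_, rfl⟩
  have hAmem : ∀ v : G, v ∈ A ↔ v ∈ N ∧ v ∉ Subgroup.center G ∧ v ^ (q ^ b) = 1 := by
    intro v
    rw [hAdef]
    rfl
  have hA : ∀ h : G, ∀ s ∈ A, h * s * h⁻¹ ∈ A := by
    intro h s hs
    rw [hAdef] at hs ⊢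
    obtain ⟨hsN, hsZ, hsq⟩ := hs
    refine ⟨Subgroup.Normal.conj_mem inferInstance s hsN h, ?_, ?_⟩
    · intro hc
      apply hsZ
      have h1 := (Subgroup.center G).normal_of_characteristic.conj_mem _ hc h⁻¹
      simpa [mul_assoc] using h1
    · rw [conj_pow, hsq, mul_one, mul_inv_cancel]
  -- (ii) `m ∣ |A|`
  have h_ii : m ∣ Nat.card A := by
    have hA' : ∀ h ∈ (⊤ : Subgroup G), ∀ s ∈ A, h * s * h⁻¹ ∈ A := fun h _ s hs => hA h s hs
    let _ := conjOn (⊤ : Subgroup G) A hA'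
    obtain ⟨t, ht⟩ := card_eq_of_orbits (H := (⊤ : Subgroup G)) (X := A) m ∅ (by simp) (by
      intro s _
      rw [orbit_ncard ⊤ A hA' s, Subgroup.relIndex_top_right]
      have hs := (hAmem _).mp s.2
      exact hm s hs.1 hs.2.1)
    rw [Set.ncard_empty, zero_add] at ht
    exact ⟨t, ht⟩
  -- (iii) `Kr` acting on `A`
  obtain ⟨F, hFdef⟩ : ∃ F : Set A, F = {s : A | (s : G) ∈ W} := ⟨_, rfl⟩
  have h_iii : ∃ t : ℕ, Nat.card A = F.ncard + ρ * t := by
    have hA'' : ∀ h ∈ Kr, ∀ s ∈ A, h * s * h⁻¹ ∈ A := fun h _ s hs => hA h s hs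
    let _ := conjOn Kr A hA''
    apply card_eq_of_orbits (H := Kr) (X := A) ρ F
    · intro s hs h
      rw [hFdef] at hs
      apply Subtype.ext
      change (h : G) * (s : G) * (h : G)⁻¹ = s
      rw [mul_inv_eq_iff_eq_mul]
      exact hWab _ (hKrW h.2) _ hs
    · intro s hs
      rw [orbit_ncard Kr A hA'' s]
      have hs2 := (hAmem _).mp s.2
      apply hstab _ hs2.1
      intro hc
      apply hs
      rw [hFdef]
      exact hc
  -- the fixed points are the noncentral elements of `Kq`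
  obtain ⟨zq, hzq⟩ : ∃ zq : ℕ, zq = Nat.card ((Subgroup.center G).subgroupOf Kq) := ⟨_, rfl⟩
  have hFcard : F.ncard + zq = Nat.card Kq := by
    have h1 := Set.ncard_add_ncard_compl
      (((Subgroup.center G).subgroupOf Kq : Subgroup Kq) : Set Kq)
    have h2 : (((Subgroup.center G).subgroupOf Kq : Subgroup Kq) : Set Kq).ncard = zq := by
      rw [hzq]
      exact (Nat.card_coe_set_eq _).symm
    have h3 : F.ncard =
        ((((Subgroup.center G).subgroupOf Kq : Subgroup Kq) : Set Kq)ᶜ).ncard := by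
      rw [← Set.ncard_image_of_injective F Subtype.val_injective,
        ← Set.ncard_image_of_injective _ Subtype.val_injective]
      congr 1
      ext w
      constructor
      · rintro ⟨⟨s, hsA⟩, hsF, rfl⟩
        rw [hFdef] at hsF
        have hsA' := hsA
        rw [hAdef] at hsA'
        have hsK : s ∈ Kq := by
          rw [hKq]
          exact ⟨hsF, hsA'.2.2⟩
        refine ⟨⟨s, hsK⟩, ?_, rfl⟩
        intro hc
        exact hsA'.2.1 (Subgroup.mem_subgroupOf.mp hc)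
      · rintro ⟨⟨s, hsK⟩, hsZ, rfl⟩
        have hsK' := hsK
        rw [hKq] at hsK'
        have hsZ' : s ∉ Subgroup.center G := fun hc => hsZ (Subgroup.mem_subgroupOf.mpr hc)
        have hsA : s ∈ A := by
          rw [hAdef]
          exact ⟨hWN hsK'.1, hsZ', hsK'.2⟩
        refine ⟨⟨s, hsA⟩, ?_, rfl⟩
        rw [hFdef]
        exact hsK'.1
    rw [h3, ← h2, add_comm]
    exact h1
  have hcardKq : zq * κ = Nat.card Kq := by
    rw [hzq, hκ]
    exact ((Subgroup.center G).subgroupOf Kq).card_mul_index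
  -- prime powers
  have hρpow : ∃ i : ℕ, ρ = r ^ i := by
    have h1 : ρ ∣ Nat.card Kr := hρ ▸ Subgroup.relIndex_dvd_card _ _
    have h2 : IsPGroup r Kr := hKr ▸ isPGroup_Wp W hWab r a
    obtain ⟨n, hn⟩ := IsPGroup.iff_card.mp h2
    rw [hn] at h1
    obtain ⟨i, -, hi⟩ := (Nat.dvd_prime_pow hr).mp h1
    exact ⟨i, hi⟩
  have hzqpow : ∃ j : ℕ, zq = q ^ j := by
    have h2 : IsPGroup q Kq := hKq ▸ isPGroup_Wp W hWab q b
    have h3 : IsPGroup q ((Subgroup.center G).subgroupOf Kq) := h2.to_subgroup _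
    obtain ⟨n, hn⟩ := IsPGroup.iff_card.mp h3
    exact ⟨n, hzq ▸ hn⟩
  have hκ1 : κ ≠ 1 := by
    rw [hκ]
    intro hc
    rw [Subgroup.relIndex_eq_one] at hc
    apply hyZ
    apply hc
    rw [hKq]
    exact ⟨hy, hyq⟩
  have hκ0 : κ ≠ 0 := by
    rw [hκ]
    exact Subgroup.index_ne_zero_of_finite
  -- arithmetic
  obtain ⟨i, hi⟩ := hρpow
  obtain ⟨j, hj⟩ := hzqpow
  obtain ⟨t1, ht1⟩ := h_ii
  obtain ⟨t2, ht2⟩ := h_iii
  obtain ⟨t0, ht0⟩ := h_i
  have hFz : F.ncard = zq * (κ - 1) := by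
    have : zq * κ = zq * (κ - 1) + zq := by
      obtain ⟨κ', rfl⟩ : ∃ κ', κ = κ' + 1 := ⟨κ - 1, by omega⟩
      simp [mul_add]
    omega
  have hdvd : ρ ∣ zq * (κ - 1) := by
    rw [← hFz]
    have h1 : ρ ∣ Nat.card A := by
      rw [ht1, ht0]
      exact ⟨t0 * t1, by ring⟩
    have h2 : ρ ∣ ρ * t2 := ⟨t2, rfl⟩
    have h3 : F.ncard = Nat.card A - ρ * t2 := by omega
    rw [h3]
    exact Nat.dvd_sub h1 h2
  have hcop : Nat.Coprime ρ zq := by
    rw [hi, hj]
    exact Nat.Coprime.pow _ _ ((Nat.coprime_primes hr hq).mpr (Ne.symm hqr))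
  have hdvd' : ρ ∣ κ - 1 := hcop.dvd_of_dvd_mul_left hdvd
  have hle := Nat.le_of_dvd (by omega) hdvd'
  omega

/-- **Covering**: every noncentral element of `N` is conjugate into `W = C ⊓ N`. -/
theorem cover [Finite G] (N C : Subgroup G) [N.Normal] (m : ℕ)
    (hm : ∀ v ∈ N, v ∉ Subgroup.center G → (Subgroup.centralizer ({v} : Set G)).index = m)
    (hC : ∀ w ∈ C ⊓ N, w ∉ Subgroup.center G → Subgroup.centralizer ({w} : Set G) = C)
    {q r : ℕ} (hq : q.Prime) (hr : r.Prime) (hqr : q ≠ r) (x y : G) (a b : ℕ)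
    (hx : x ∈ C ⊓ N) (hy : y ∈ C ⊓ N) (hxZ : x ∉ Subgroup.center G)
    (hyZ : y ∉ Subgroup.center G) (hxr : x ^ (r ^ a) = 1) (hyq : y ^ (q ^ b) = 1) :
    ∀ v ∈ N, v ∉ Subgroup.center G → ∃ g : G, g * v * g⁻¹ ∈ C ⊓ N := by
  intro v0 hv0N hv0Z
  by_contra hno
  push Not at hno
  have hWab : ∀ a ∈ C ⊓ N, ∀ b ∈ C ⊓ N, a * b = b * a := by
    intro a ha b hb
    by_cases haZ : a ∈ Subgroup.center G
    · exact (Subgroup.mem_center_iff.mp haZ b).symm
    · have h1 : b ∈ Subgroup.centralizer ({a} : Set G) := by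
        rw [hC a ha haZ]
        exact hb.1
      rw [Subgroup.mem_centralizer_singleton_iff] at h1
      exact h1.symm
  have hself : ∀ w ∈ C ⊓ N, w ∉ Subgroup.center G → ∀ v ∈ N, v * w = w * v → v ∈ C ⊓ N := by
    intro w hw hwZ v hvN hvw
    refine ⟨?_, hvN⟩
    rw [← hC w hw hwZ]
    exact Subgroup.mem_centralizer_singleton_iff.mpr hvw
  have h1 := half N (C ⊓ N) m inf_le_right hm hWab hself v0 hv0N hv0Z hno hq hr hqr a b
    y hy hyZ hyq
  have h2 := half N (C ⊓ N) m inf_le_right hm hWab hself v0 hv0N hv0Z hno hr hq hqr.symm b a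
    x hx hxZ hxr
  omega

end Main

end Cfsg.Agent.Lib.Helper8.NClassB
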