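import Mathlib
import Cfsg.Agent.Lib.Helper8.SelfRecC
import Cfsg.Agent.Lib.Helper8.SelfRecB
import Cfsg.Agent.H9.QuadFin

/-!
# An invariant quadratic form on `K[X]/(f)` for a self-reciprocal polynomial `f` (helper8)

For a monic palindromic polynomial `f` of even degree with `f(1) ≠ 0 ≠ f(-1)` over any field,
the algebra `K[X]/(f)` carries a quadratic form with nondegenerate polar form which is invariant
under the multiplication by the root (all characteristics).
-/

set_option autoImplicit false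
set_option linter.unusedSectionVars false

namespace Cfsg.Agent.Lib.Helper8.OrPrime

open Polynomial QuadraticMap Cfsg.Agent.Lib.Helper8.SelfRec Cfsg.Agent.H9.QuadFin

universe u

variable {K : Type u} [Field K] {f : K[X]}

/-- a polynomial coprime to `f` is invertible modulo `f` -/
theorem exists_mul_eq_one_of_eval_ne_zero (a : K) (ha : f.eval a ≠ 0) :
    ∃ c : AdjoinRoot f, c * (AdjoinRoot.root f - AdjoinRoot.of f a) = 1 := by
  have hirr : Irreducible (X - C a : K[X]) := irreducible_X_sub_C a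
  have hnd : ¬ (X - C a : K[X]) ∣ f := by
    rw [dvd_iff_isRoot]
    exact ha
  obtain ⟨s, t, hst⟩ := (hirr.coprime_iff_not_dvd.2 hnd)
  refine ⟨AdjoinRoot.mk f s, ?_⟩
  have := congrArg (AdjoinRoot.mk f) hst
  rw [map_add, map_mul, map_mul, AdjoinRoot.mk_self, mul_zero, add_zero, map_sub, AdjoinRoot.mk_X,
    AdjoinRoot.mk_C, map_one] at this
  exact this

section Form

variable (hf : IsSR (RingHom.id K) f) (k : ℕ)

/-- `B0` as a bilinear form when the twist is trivial -/
noncomputable def B0bil : LinearMap.BilinForm K (AdjoinRoot f) :=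
  LinearMap.mk₂ K (fun a b => B0 hf k a b) (B0_add_left hf k)
    (fun x a b => by
      rw [← of_mul_eq_smul, B0_smul_left, smul_eq_mul])
    (B0_add_right hf k)
    (fun x a b => by
      rw [← of_mul_eq_smul, B0_smul_right, smul_eq_mul, RingHom.id_apply])

theorem B0bil_apply (a b : AdjoinRoot f) : B0bil hf k a b = B0 hf k a b := rfl

/-- the quadratic form `a ↦ B0 (u a) (c a)` -/
noncomputable def qf (u c : AdjoinRoot f) : QuadraticForm K (AdjoinRoot f) :=
  LinearMap.BilinMap.toQuadraticMap
    ((B0bil hf k).compl₁₂ (LinearMap.mulLeft K u) (LinearMap.mulLeft K c))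

theorem qf_apply (u c a : AdjoinRoot f) : qf hf k u c a = B0 hf k (u * a) (c * a) := rfl

theorem qf_root (u c a : AdjoinRoot f) :
    qf hf k u c (AdjoinRoot.root f * a) = qf hf k u c a := by
  rw [qf_apply, qf_apply]
  have e1 : u * (AdjoinRoot.root f * a) = AdjoinRoot.root f * (u * a) := by ring
  have e2 : c * (AdjoinRoot.root f * a) = AdjoinRoot.root f * (c * a) := by ring
  rw [e1, e2, B0_root]

theorem polar_qf (hN : f.natDegree = 2 * k + 2) (h0 : f.coeff 0 = 1) (u c : AdjoinRoot f)
    (hu : sig hf u = -u) (hc : c + sig hf c = 1) (a b : AdjoinRoot f) :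
    polar (qf hf k u c) a b = B0 hf k (u * a) b := by
  have hswap : ∀ x y : AdjoinRoot f, B0 hf k y x = - B0 hf k x y := by
    intro x y
    rw [B0_swap (fun _ => rfl) hf k hN, h0, inv_one, RingHom.id_apply]
    ring
  unfold polar
  rw [qf_apply, qf_apply, qf_apply]
  have e1 : B0 hf k (u * (a + b)) (c * (a + b)) =
      B0 hf k (u * a) (c * a) + B0 hf k (u * a) (c * b) + B0 hf k (u * b) (c * a) +
        B0 hf k (u * b) (c * b) := by
    rw [mul_add, mul_add, B0_add_left, B0_add_right, B0_add_right]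
    ring
  rw [e1]
  have e2 : B0 hf k (u * b) (c * a) = B0 hf k (u * a) (sig hf c * b) := by
    rw [hswap (c * a) (u * b)]
    unfold B0
    rw [← map_neg]
    congr 1
    rw [map_mul, map_mul, hu, sig_sig (fun _ => rfl) hf]
    ring
  have e3 : B0 hf k (u * a) (c * b) + B0 hf k (u * a) (sig hf c * b) = B0 hf k (u * a) b := by
    rw [← B0_add_right, ← add_mul, hc, one_mul]
  rw [e2]
  linear_combination e3

end Form

/-- the invariant quadratic form on `K[X]/(f)` -/
theorem exists_invariant_quadratic (hf : IsSR (RingHom.id K) f) (k : ℕ)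
    (hN : f.natDegree = 2 * k + 2) (h0 : f.coeff 0 = 1) (h1 : f.eval 1 ≠ 0)
    (hm1 : f.eval (-1) ≠ 0) :
    ∃ Q : QuadraticForm K (AdjoinRoot f), (polarBilin Q).Nondegenerate ∧
      ∀ a, Q (AdjoinRoot.root f * a) = Q a := by
  set ζ := AdjoinRoot.root f with hζ
  have hf0 : f.coeff 0 ≠ 0 := hf.2.1
  obtain ⟨c₁, hc₁⟩ := exists_mul_eq_one_of_eval_ne_zero (f := f) 1 h1
  obtain ⟨c₂, hc₂⟩ := exists_mul_eq_one_of_eval_ne_zero (f := f) (-1) hm1
  rw [map_one] at hc₁
  rw [map_neg, map_one, sub_neg_eq_add] at hc₂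
  -- the skew unit
  set u := ζ - ainv f with hu
  have hsu : sig hf u = -u := by
    rw [hu, map_sub, sig_root, sig_ainv]
    ring
  have hunit : (c₁ * c₂ * ζ) * u = 1 := by
    have : ζ * u = (ζ - 1) * (ζ + 1) := by
      rw [hu, mul_sub, root_mul_ainv hf0]
      ring
    calc (c₁ * c₂ * ζ) * u = c₁ * c₂ * (ζ * u) := by ring
      _ = (c₁ * (ζ - 1)) * (c₂ * (ζ + 1)) := by rw [this]; ring
      _ = 1 := by rw [hc₁, hc₂, one_mul]
  -- the element `c = (1 - ζ)⁻¹`
  set c := -c₁ with hc
  have hc1 : c * (1 - ζ) = 1 := by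
    rw [hc]
    linear_combination hc₁
  have hsc : sig hf c = -ζ * c := by
    have h2 : sig hf c * (1 - ainv f) = 1 := by
      have := congrArg (sig hf) hc1
      rw [map_mul, map_sub, map_one, sig_root] at this
      exact this
    have h3 : (-ζ * c) * (1 - ainv f) = 1 := by
      calc (-ζ * c) * (1 - ainv f) = c * (ζ * ainv f) - ζ * c := by ring
        _ = c * (1 - ζ) := by rw [root_mul_ainv hf0]; ring
        _ = 1 := hc1
    calc sig hf c = sig hf c * ((-ζ * c) * (1 - ainv f)) := by rw [h3, mul_one]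
      _ = (sig hf c * (1 - ainv f)) * (-ζ * c) := by ring
      _ = -ζ * c := by rw [h2, one_mul]
  have hcc : c + sig hf c = 1 := by
    rw [hsc]
    linear_combination hc1
  refine ⟨qf hf k u c, ?_, fun a => qf_root hf k u c a⟩
  rw [nondeg_iff]
  intro a ha
  have h3 : u * a = 0 := by
    apply B0_nondeg (fun _ => rfl) hf k
    intro b
    rw [← polar_qf hf k hN h0 u c hsu hcc]
    exact ha b
  calc a = ((c₁ * c₂ * ζ) * u) * a := by rw [hunit, one_mul]
    _ = (c₁ * c₂ * ζ) * (u * a) := by ring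
    _ = 0 := by rw [h3, mul_zero]

end Cfsg.Agent.Lib.Helper8.OrPrime
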