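import Mathlib
import Cfsg.Agent.Lib.Helper8.QTypeE

/-!
# Isometries of prime order without fixed vectors: the zero count and totally singular kernels
(helper8)
-/

set_option autoImplicit false
set_option linter.unusedSectionVars false

namespace Cfsg.Agent.Lib.Helper8.OrPrime

open Polynomial QuadraticMap Module Cfsg.Agent.Lib.Helper8.QType Cfsg.Agent.H9.QuadFin

universe u v

variable {F : Type v} [Field F]

section Count

variable [Fintype F] {V : Type u} [AddCommGroup V] [Module F V] [FiniteDimensional F V]

/-- an isometry of prime order `r` without non-zero fixed vectors: the number of singular vectors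
is `1` modulo `r` -/
theorem nc_zero_modEq (Q : QuadraticForm F V) (g : V →ₗ[F] V) (hg : ∀ v, Q (g v) = Q v)
    (r : ℕ) [hr : Fact r.Prime] (hgr : ∀ v, (⇑g)^[r] v = v) (hfix : ∀ v, g v = v → v = 0) :
    nc Q 0 ≡ 1 [MOD r] := by
  classical
  have : Finite V := finite_of_fd F V
  have : Fintype V := Fintype.ofFinite V
  let f : Function.End {v : V // Q v = 0} := fun v => ⟨g v.1, by rw [hg]; exact v.2⟩
  have hpow : ∀ (n : ℕ) (v : {v : V // Q v = 0}), ((f ^ n) v).1 = g^[n] v.1 := by
    intro n
    induction n with
    | zero => intro v; rfl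
    | succ n ih =>
      intro v
      have e : (f ^ (n + 1)) v = (f ^ n) (f v) := by rw [pow_succ]; rfl
      rw [e, ih, Function.iterate_succ_apply]
  have hf : f ^ r ^ 1 = 1 := by
    rw [pow_one]
    funext v
    apply Subtype.ext
    rw [hpow, hgr]
    rfl
  have h1 := Equiv.Perm.card_fixedPoints_modEq (p := r) (n := 1) hf
  have h2 : Fintype.card (Function.fixedPoints f) = 1 := by
    rw [Fintype.card_eq_one_iff]
    refine ⟨⟨⟨0, QuadraticMap.map_zero Q⟩, ?_⟩, ?_⟩
    · change f _ = _
      apply Subtype.ext
      change g 0 = 0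
      exact map_zero g
    · rintro ⟨v, hv⟩
      apply Subtype.ext
      apply Subtype.ext
      have : g v.1 = v.1 := congrArg Subtype.val hv
      exact hfix _ this
  unfold nc
  rw [Nat.card_eq_fintype_card]
  rw [h2] at h1
  exact h1

end Count

section TS

variable {V : Type u} [AddCommGroup V] [Module F V]

theorem polar_inv' (Q : QuadraticForm F V) (E : Module.End F V) (hE : ∀ v, Q (E v) = Q v)
    (x y : V) : polarBilin Q (E x) (E y) = polarBilin Q x y := by
  rw [polarBilin_apply_apply, polarBilin_apply_apply, polar, polar, ← map_add, hE, hE, hE]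

theorem polar_self'' (Q : QuadraticForm F V) (x : V) : polarBilin Q x x = 2 * Q x := by
  rw [polarBilin_apply_apply, polar_self, two_smul, two_mul]

theorem Q_sub' (Q : QuadraticForm F V) (a b : V) :
    Q (a - b) = Q a + Q b - polarBilin Q a b := by
  have h1 := polar_neg_right Q a b
  have h2 : polar Q a (-b) = Q (a + -b) - Q a - Q (-b) := rfl
  rw [h2, QuadraticMap.map_neg] at h1
  rw [polarBilin_apply_apply, sub_eq_add_neg a b]
  linear_combination h1

theorem polar_pow_inv (Q : QuadraticForm F V) (g : Module.End F V) (hg : ∀ v, Q (g v) = Q v)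
    (n : ℕ) (x y : V) : polarBilin Q ((g ^ n) x) ((g ^ n) y) = polarBilin Q x y := by
  induction n with
  | zero => simp
  | succ n ih =>
    rw [pow_succ', Module.End.mul_apply, Module.End.mul_apply,
      polar_inv' Q g hg, ih]

/-- the adjoint of `(rev a)(g)` with respect to an invariant form -/
theorem polar_aeval_reverse (Q : QuadraticForm F V) (g : Module.End F V)
    (hg : ∀ v, Q (g v) = Q v) (a : F[X]) (x y : V) :
    polarBilin Q x (aeval g a.reverse y) =
      polarBilin Q (aeval g a x) ((g ^ a.natDegree) y) := by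
  set d := a.natDegree with hd
  have h1 : aeval g a.reverse = ∑ j ∈ Finset.range (d + 1), a.reverse.coeff j • g ^ j :=
    aeval_eq_sum_range' (Nat.lt_succ_of_le (reverse_natDegree_le a)) g
  have h2 : aeval g a = ∑ j ∈ Finset.range (d + 1), a.coeff j • g ^ j :=
    aeval_eq_sum_range' (Nat.lt_succ_self _) g
  rw [h1, h2, LinearMap.sum_apply, LinearMap.sum_apply, map_sum, map_sum, LinearMap.sum_apply]
  rw [← Finset.sum_range_reflect (fun j => (polarBilin Q) ((a.coeff j • g ^ j) x) ((g ^ d) y))]
  apply Finset.sum_congr rfl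
  intro j hj
  have hjd : j ≤ d := Nat.lt_succ_iff.1 (Finset.mem_range.1 hj)
  have e1 : d + 1 - 1 - j = d - j := by omega
  rw [e1, coeff_reverse, revAt_le hjd, LinearMap.smul_apply, LinearMap.smul_apply, map_smul,
    map_smul, LinearMap.smul_apply]
  congr 1
  have e2 : (g ^ d) y = (g ^ (d - j)) ((g ^ j) y) := by
    rw [← Module.End.mul_apply, ← pow_add]
    congr 2
    omega
  rw [e2, polar_pow_inv Q g hg]

theorem aeval_comm_apply (g : Module.End F V) (a b : F[X]) (v : V) :
    aeval g a (aeval g b v) = aeval g b (aeval g a v) := by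
  rw [← Module.End.mul_apply, ← Module.End.mul_apply, ← map_mul, ← map_mul, mul_comm]

/-- the kernel of `a(g)` is totally isotropic when `a` is coprime to its reverse -/
theorem polar_ker_eq_zero (Q : QuadraticForm F V) (g : Module.End F V)
    (hg : ∀ v, Q (g v) = Q v) (a : F[X]) (hcop : IsCoprime a a.reverse) (v w : V)
    (hv : aeval g a v = 0) (hw : aeval g a w = 0) : polarBilin Q v w = 0 := by
  obtain ⟨m, n, hmn⟩ := hcop
  have h1 : w = aeval g a.reverse (aeval g n w) := by
    have := congrArg (fun p : F[X] => aeval g p w) hmn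
    simp only [map_add, map_mul, map_one, LinearMap.add_apply, Module.End.mul_apply,
      Module.End.one_apply] at this
    rw [hw, map_zero, zero_add, aeval_comm_apply] at this
    exact this.symm
  rw [h1, polar_aeval_reverse Q g hg, hv, map_zero, LinearMap.zero_apply]

/-- the kernel of `a(g)` is totally singular when `a` is coprime to its reverse and to `X - 1` -/
theorem Q_ker_eq_zero (Q : QuadraticForm F V) (g : Module.End F V)
    (hg : ∀ v, Q (g v) = Q v) (a : F[X]) (hcop : IsCoprime a a.reverse)
    (h1 : IsCoprime a (X - 1)) (v : V) (hv : aeval g a v = 0) : Q v = 0 := by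
  obtain ⟨m, n, hmn⟩ := h1
  set w := aeval g n v with hw
  have hwk : aeval g a w = 0 := by
    rw [hw, aeval_comm_apply, hv, map_zero]
  have hgwk : aeval g a (g w) = 0 := by
    have : g w = aeval g (X : F[X]) w := by rw [aeval_X]
    rw [this, aeval_comm_apply, hwk, map_zero]
  have hvw : v = g w - w := by
    have := congrArg (fun p : F[X] => aeval g p v) hmn
    simp only [map_add, map_mul, map_one, map_sub, aeval_X, LinearMap.add_apply,
      Module.End.mul_apply, Module.End.one_apply, LinearMap.sub_apply] at this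
    rw [hv, map_zero, zero_add] at this
    rw [← this, hw]
    have e : g ((aeval g n) v) = aeval g n (g v) := by
      have h2 : ∀ x, g x = aeval g (X : F[X]) x := fun x => by rw [aeval_X]
      rw [h2 ((aeval g n) v), h2 v, aeval_comm_apply]
    rw [e]
  rw [hvw, Q_sub', hg, polar_ker_eq_zero Q g hg a hcop _ _ hgwk hwk,
    sub_zero]
  have h2 := polar_self'' Q w
  rw [polar_ker_eq_zero Q g hg a hcop _ _ hwk hwk] at h2
  linear_combination -h2

end TS

section Half

variable [Fintype F] {V : Type u} [AddCommGroup V] [Module F V] [FiniteDimensional F V]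

/-- a space with a totally singular subspace of half the dimension has plus type -/
theorem eq_one_of_ts {Q : QuadraticForm F V} {l : ℕ} {ε : ℤ} (h : HasType Q l ε)
    (U : Submodule F V) (hU : ∀ u ∈ U, Q u = 0) (hdim : finrank F U = l + 1) : ε = 1 := by
  rcases h.2.2.1 with h1 | h1
  · exact h1
  · exfalso
    subst h1
    obtain ⟨ζ, hζ, ⟨e⟩⟩ := h.equiv_QM
    let U' : Submodule F ((Fin l ⊕ Fin l) ⊕ Fin 2 → F) := U.map e.toLinearEquiv.toLinearMap
    have hU' : ∀ u ∈ U', Cfsg.quadFormMinus l F 1 ζ u = 0 := by
      rintro u ⟨w, hw, rfl⟩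
      have := e.map_app w
      rw [Cfsg.Agent.S0288.QM_apply] at this
      change Cfsg.quadFormMinus l F 1 ζ (e w) = 0
      rw [this]
      exact hU w hw
    have hfin : finrank F U' = l + 1 :=
      (LinearEquiv.finrank_map_eq e.toLinearEquiv U).trans hdim
    have h3 : finrank F U' ≤ l + 1 - 1 :=
      Cfsg.Agent.S2562.minus_bound (F := F) (l + 1) (by omega) ζ hζ U' hU'
    rw [hfin] at h3
    omega

/-- an isometry whose characteristic polynomial splits into two coprime factors, each coprime to
its reverse and to `X - 1`, lives on a space of plus type -/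
theorem eq_one_of_factor {Q : QuadraticForm F V} {l : ℕ} {ε : ℤ} (h : HasType Q l ε)
    (g : Module.End F V) (hg : ∀ v, Q (g v) = Q v) (a a' : F[X])
    (hc : g.charpoly = a * a') (hcop : IsCoprime a a') (ha : IsCoprime a a.reverse)
    (ha' : IsCoprime a' a'.reverse) (h1 : IsCoprime a (X - 1)) (h1' : IsCoprime a' (X - 1)) :
    ε = 1 := by
  set U := LinearMap.ker (aeval g a) with hU
  set U' := LinearMap.ker (aeval g a') with hU'
  have hts : ∀ u ∈ U, Q u = 0 := fun u hu =>
    Q_ker_eq_zero Q g hg a ha h1 u (LinearMap.mem_ker.1 hu)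
  have hts' : ∀ u ∈ U', Q u = 0 := fun u hu =>
    Q_ker_eq_zero Q g hg a' ha' h1' u (LinearMap.mem_ker.1 hu)
  have hsup : U ⊔ U' = ⊤ := by
    rw [hU, hU', Polynomial.sup_ker_aeval_eq_ker_aeval_mul_of_coprime g hcop, ← hc,
      LinearMap.aeval_self_charpoly, LinearMap.ker_zero]
  have hle := Cfsg.Agent.H9.QuadHalf.two_mul_finrank_le Q h.2.1 U hts
  have hle' := Cfsg.Agent.H9.QuadHalf.two_mul_finrank_le Q h.2.1 U' hts'
  have hsum := Submodule.finrank_add_le_finrank_add_finrank U U'
  rw [hsup, finrank_top, h.1] at hsum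
  rw [h.1] at hle hle'
  exact eq_one_of_ts h U hts (by omega)

end Half

end Cfsg.Agent.Lib.Helper8.OrPrime
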