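import Mathlib
import Cfsg.Agent.Lib.Helper8.OrPrimeB
import Cfsg.Agent.Lib.Helper8.PrimeOrdH

/-!
# The type of a quadratic space carrying an isometry of prime order without fixed vectors (helper8)
-/

set_option autoImplicit false
set_option linter.unusedSectionVars false

namespace Cfsg.Agent.Lib.Helper8.OrPrime

open Polynomial QuadraticMap Module Cfsg.Agent.Lib.Helper8.QType Cfsg.Agent.H9.QuadFin
  Cfsg.Agent.Lib.Helper8.PrimeOrd Cfsg.Agent.Lib.Helper8.SelfRec

universe u v w

section NT

/-- the number theory behind the type of a sum of elliptic blocks -/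
theorem eps_even {r q : ℕ} [hr : Fact r.Prime] (hr2 : r ≠ 2) (d k l : ℕ)
    (hi : orderOf (q : ZMod r) = 2 * d) (hd : 0 < d) (hl : l + 1 = d * k) (ε : ℤ)
    (hε : ε = 1 ∨ ε = -1)
    (hdiv : (r : ℤ) ∣ (q : ℤ) ^ (2 * l + 1) + ε * ((q : ℤ) - 1) * (q : ℤ) ^ l - 1) :
    ε = (-1) ^ k := by
  set x : ZMod r := (q : ZMod r) with hx
  have h2 : (2 : ZMod r) ≠ 0 := by
    intro h
    have h' : ((2 : ℕ) : ZMod r) = 0 := by exact_mod_cast h
    rw [ZMod.natCast_eq_zero_iff] at h'
    exact hr2 ((Nat.prime_dvd_prime_iff_eq hr.out Nat.prime_two).1 h')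
  have hx1 : x ≠ 1 := by
    intro h
    rw [h, orderOf_one] at hi
    omega
  have hxd : x ^ d = -1 := by
    have h1 : x ^ d * x ^ d = 1 := by
      rw [← pow_add, ← two_mul, ← hi, pow_orderOf_eq_one]
    rcases mul_self_eq_one_iff.1 h1 with h | h
    · exfalso
      exact pow_ne_one_of_lt_orderOf hd.ne' (by rw [hi]; omega) h
    · exact h
  have hxl : x ^ (l + 1) = (-1) ^ k := by
    rw [hl, pow_mul, hxd]
  have heq : x ^ (2 * l + 1) + (ε : ZMod r) * (x - 1) * x ^ l - 1 = 0 := by
    have := (ZMod.intCast_zmod_eq_zero_iff_dvd _ r).2 hdiv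
    push_cast at this
    exact this
  have hsplit : x ^ (2 * l + 1) = x ^ (l + 1) * x ^ l := by
    rw [← pow_add]
    congr 1
    omega
  rcases hε with rfl | rfl
  · rcases Nat.even_or_odd k with hk | hk
    · rw [hk.neg_one_pow]
    · exfalso
      rw [hk.neg_one_pow] at hxl
      have h3 : (-2 : ZMod r) * (x ^ l + 1) = 0 := by
        have e1 : x ^ l * x = -1 := by rw [← pow_succ]; exact hxl
        rw [hsplit, hxl] at heq
        push_cast at heq
        linear_combination heq - e1
      have h4 : x ^ l + 1 = 0 := by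
        rcases mul_eq_zero.1 h3 with h | h
        · exfalso
          apply h2
          linear_combination -h
        · exact h
      have h5 : x = 1 := by
        have e1 : x ^ l * x = -1 := by rw [← pow_succ]; exact hxl
        have e2 : x ^ l = -1 := by linear_combination h4
        rw [e2] at e1
        linear_combination -e1
      exact hx1 h5
  · rcases Nat.even_or_odd k with hk | hk
    · exfalso
      rw [hk.neg_one_pow] at hxl
      have e1 : x ^ l * x = 1 := by rw [← pow_succ]; exact hxl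
      have h3 : (2 : ZMod r) * (x ^ l - 1) = 0 := by
        rw [hsplit, hxl] at heq
        push_cast at heq
        linear_combination heq + e1
      have h4 : x ^ l - 1 = 0 := (mul_eq_zero.1 h3).resolve_left h2
      have h5 : x = 1 := by
        have e2 : x ^ l = 1 := by linear_combination h4
        rw [e2] at e1
        linear_combination e1
      exact hx1 h5
    · rw [hk.neg_one_pow]

end NT

section Fam

variable {K : Type u} [Field K] {ι : Type w} [Fintype ι] [DecidableEq ι] {P : ι → K[X]}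

theorem isCoprime_fe (hP : IsFam P) (e₁ e₂ : ι → ℕ) (hdisj : ∀ j, e₁ j = 0 ∨ e₂ j = 0) :
    IsCoprime (fe P e₁) (fe P e₂) := by
  unfold fe
  apply IsCoprime.prod_left
  intro j _
  apply IsCoprime.prod_right
  intro k _
  by_cases hjk : j = k
  · subst hjk
    rcases hdisj j with h | h
    · rw [h, pow_zero]; exact isCoprime_one_left
    · rw [h, pow_zero]; exact isCoprime_one_right
  · exact (isCoprime_of_ne hP hjk).pow

end Fam

section Cyc

variable {F : Type v} [Field F] [Fintype F] [DecidableEq F] {r : ℕ} [hr : Fact r.Prime]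

theorem eval_one_fe_ne_zero (hrF : (r : F) ≠ 0) (e : ↥(cycFactors F r) → ℕ) :
    (fe (PP F r) e).eval 1 ≠ 0 := by
  unfold fe
  rw [eval_prod]
  apply Finset.prod_ne_zero_iff.2
  intro j _
  rw [eval_pow]
  exact pow_ne_zero _ (PP_eval_one hrF j)

theorem isCoprime_fe_X_sub_one (hrF : (r : F) ≠ 0) (e : ↥(cycFactors F r) → ℕ) :
    IsCoprime (fe (PP F r) e) (X - 1) := by
  have hirr : Irreducible (X - C (1 : F)) := irreducible_X_sub_C 1
  rw [C_1] at hirr
  apply IsCoprime.symm
  rw [hirr.coprime_iff_not_dvd]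
  intro hd
  have : (X - C (1 : F)) ∣ fe (PP F r) e := by rw [C_1]; exact hd
  rw [dvd_iff_isRoot] at this
  exact eval_one_fe_ne_zero hrF e this

variable {V : Type u} [AddCommGroup V] [Module F V] [FiniteDimensional F V]

/-- odd `i`: the space is of plus type -/
theorem type_of_isometry_odd {Q : QuadraticForm F V} {l : ℕ} {ε : ℤ} (h : HasType Q l ε)
    (g : Module.End F V) (hg : ∀ v, Q (g v) = Q v) (hrF : (r : F) ≠ 0)
    (hfp : ∀ j, sIdx (RingHom.id F) (fun _ => rfl) hrF j ≠ j)
    (e : ↥(cycFactors F r) → ℕ) (hc : g.charpoly = fe (PP F r) e) : ε = 1 := by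
  classical
  set s := sIdx (RingHom.id F) (fun _ => rfl) hrF with hs
  have hsinv : Function.Involutive s := sIdx_involutive _ _ hrF
  set T := trv s with hT
  set e₁ : ↥(cycFactors F r) → ℕ := fun j => if j ∈ T then e j else 0 with he₁
  set e₂ : ↥(cycFactors F r) → ℕ := fun j => if j ∈ T then 0 else e j with he₂
  have hsum : e₁ + e₂ = e := by
    funext j
    simp only [Pi.add_apply, he₁, he₂]
    by_cases hj : j ∈ T
    · rw [if_pos hj, if_pos hj, add_zero]
    · rw [if_neg hj, if_neg hj, zero_add]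
  have hrev : ∀ e' : ↥(cycFactors F r) → ℕ, ∃ c : F, c ≠ 0 ∧
      (fe (PP F r) e').reverse = C c * fe (PP F r) (e' ∘ s) := by
    intro e'
    have h1 := rv_fe (RingHom.id F) PP_coeff_zero s hsinv
      (fun j => (PP_sIdx (RingHom.id F) (fun _ => rfl) hrF j).symm) e'
    unfold rv at h1
    rw [Polynomial.map_id] at h1
    refine ⟨_, ?_, h1⟩
    apply Finset.prod_ne_zero_iff.2
    intro j _
    exact pow_ne_zero _ (PP_coeff_zero j)
  have hcopr : ∀ e' : ↥(cycFactors F r) → ℕ, (∀ j, e' j = 0 ∨ e' (s j) = 0) →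
      IsCoprime (fe (PP F r) e') (fe (PP F r) e').reverse := by
    intro e' hdis
    obtain ⟨c, hc0, hce⟩ := hrev e'
    rw [hce, isCoprime_mul_unit_left_right (Polynomial.isUnit_C.2 (IsUnit.mk0 c hc0))]
    exact isCoprime_fe isFam_PP _ _ hdis
  apply eq_one_of_factor h g hg (fe (PP F r) e₁) (fe (PP F r) e₂)
  · rw [hc, ← fe_add, hsum]
  · apply isCoprime_fe isFam_PP
    intro j
    simp only [he₁, he₂]
    by_cases hj : j ∈ T
    · right; rw [if_pos hj]
    · left; rw [if_neg hj]
  · apply hcopr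
    intro j
    simp only [he₁]
    by_cases hj : j ∈ T
    · right
      have : s j ∉ T := by
        rw [hT, s_mem_trv_iff hsinv hfp]; exact not_not.2 hj
      rw [if_neg this]
    · left; rw [if_neg hj]
  · apply hcopr
    intro j
    simp only [he₂]
    by_cases hj : j ∈ T
    · left; rw [if_pos hj]
    · right
      have : s j ∈ T := by
        rw [hT, s_mem_trv_iff hsinv hfp]; exact hj
      rw [if_pos this]
  · exact isCoprime_fe_X_sub_one hrF e₁
  · exact isCoprime_fe_X_sub_one hrF e₂

/-- even `i = 2d`: the type is `(-1) ^ (number of blocks)` -/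
theorem type_of_isometry_even {Q : QuadraticForm F V} {l : ℕ} {ε : ℤ} (h : HasType Q l ε)
    (g : Module.End F V) (hg : ∀ v, Q (g v) = Q v) (hgr : ∀ v, (⇑g)^[r] v = v)
    (hrF : (r : F) ≠ 0) (hr2 : r ≠ 2) (d : ℕ) (hd : 0 < d)
    (hi : orderOf ((Fintype.card F : ℕ) : ZMod r) = 2 * d)
    (hdeg : ∀ j : ↥(cycFactors F r), (PP F r j).natDegree = 2 * d)
    (e : ↥(cycFactors F r) → ℕ) (hc : g.charpoly = fe (PP F r) e) :
    ε = (-1) ^ (∑ j, e j) := by
  have hdim : 2 * l + 2 = 2 * d * ∑ j, e j := by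
    rw [← h.1, ← LinearMap.charpoly_natDegree g, hc, natDegree_fe isFam_PP, Finset.mul_sum]
    apply Finset.sum_congr rfl
    intro j _
    rw [hdeg, mul_comm]
  have hfix : ∀ v, g v = v → v = 0 := by
    intro v hv
    by_contra hv0
    have hev : g.HasEigenvalue 1 := by
      apply Module.End.hasEigenvalue_of_hasEigenvector (x := v)
      refine ⟨?_, hv0⟩
      rw [Module.End.mem_eigenspace_iff, hv, one_smul]
    rw [Module.End.hasEigenvalue_iff_isRoot_charpoly, hc] at hev
    exact eval_one_fe_ne_zero hrF e hev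
  have h1 := nc_zero_modEq Q g hg r hgr hfix
  have h2 : (r : ℤ) ∣ (nc Q 0 : ℤ) - 1 := by
    have := (Nat.modEq_iff_dvd.1 h1.symm)
    simpa using this
  rw [h.2.2.2] at h2
  exact eps_even hr2 d (∑ j, e j) l hi hd (by
    have : 2 * (l + 1) = 2 * (d * ∑ j, e j) := by rw [← mul_assoc]; omega
    omega) ε h.2.2.1 h2

end Cyc

end Cfsg.Agent.Lib.Helper8.OrPrime
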