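import Mathlib
import Cfsg.Agent.Lib.Helper8.SpSSA

/-!
# Semisimple isometries of symmetric forms without eigenvalues `±1` (odd characteristic):
basics, gluing, peeling (helper8)

`IsOrOp B A`: `A` is a semisimple isometry of the nondegenerate symmetric form `B`, `2 ≠ 0`, and
`A² x = x` only for `x = 0`.
-/

set_option autoImplicit false
set_option linter.unusedSectionVars false

namespace Cfsg.Agent.Lib.Helper8.OrSS

open Module Cfsg.Agent.H9.IrredOp Cfsg.Agent.H9.SemisimpleConj Cfsg.Agent.Lib.Helper8.SpSS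

universe u v w

variable {K : Type v} [Field K]

/-- a semisimple isometry, without eigenvalues `±1`, of a nondegenerate symmetric form -/
structure IsOrOp {V : Type*} [AddCommGroup V] [Module K V] (B : LinearMap.BilinForm K V)
    (A : Module.End K V) : Prop where
  symm : ∀ x y, B x y = B y x
  two : (2 : K) ≠ 0
  sep : ∀ x, (∀ y, B x y = 0) → x = 0
  inv : ∀ x y, B (A x) (A y) = B x y
  ss : A.IsSemisimple
  nopm : ∀ x, A (A x) = x → x = 0

section Basic

variable {V : Type*} [AddCommGroup V] [Module K V] [FiniteDimensional K V]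
  {B : LinearMap.BilinForm K V} {A : Module.End K V}

theorem IsOrOp.swap (h : IsOrOp B A) (x y : V) : B y x = B x y := h.symm y x

theorem IsOrOp.isRefl (h : IsOrOp B A) : B.IsRefl := fun x y hxy => by rw [h.swap]; exact hxy

theorem IsOrOp.nondeg (h : IsOrOp B A) : B.Nondegenerate :=
  LinearMap.BilinForm.Nondegenerate.ofSeparatingLeft h.sep

theorem IsOrOp.injective (h : IsOrOp B A) : Function.Injective A := by
  rw [← LinearMap.ker_eq_bot, LinearMap.ker_eq_bot']
  intro x hx
  apply h.sep
  intro y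
  rw [← h.inv x y, hx, map_zero, LinearMap.zero_apply]

theorem IsOrOp.surjective (h : IsOrOp B A) : Function.Surjective A :=
  LinearMap.injective_iff_surjective.1 h.injective

theorem IsOrOp.orth_invt (h : IsOrOp B A) {W : Submodule K V} (hW : W ≤ W.comap A) :
    B.orthogonal W ≤ (B.orthogonal W).comap A := by
  intro y hy
  rw [Submodule.mem_comap, LinearMap.BilinForm.mem_orthogonal_iff]
  intro w hw
  have hw2 : w ∈ W.map A := by rw [map_eq_of_invt h.injective hW]; exact hw
  obtain ⟨w', hw', rfl⟩ := hw2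
  rw [h.inv]
  exact hy w' hw'

theorem IsOrOp.isCompl (h : IsOrOp B A) {P : Submodule K V}
    (hd : Disjoint P (B.orthogonal P)) : IsCompl P (B.orthogonal P) :=
  (LinearMap.BilinForm.isCompl_orthogonal_iff_disjoint h.isRefl).2 hd

/-- the restriction to the orthogonal complement of a nondegenerate invariant subspace -/
theorem IsOrOp.restrict_orth (h : IsOrOp B A) {P : Submodule K V} (hP : P ≤ P.comap A)
    (hd : Disjoint P (B.orthogonal P)) :
    IsOrOp (B.restrict (B.orthogonal P)) (A.restrict (h.orth_invt hP)) := by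
  refine ⟨fun x y => ?_, h.two, fun x hx => ?_, fun x y => ?_, ?_, fun x hx => ?_⟩
  · exact h.symm (x : V) (y : V)
  · have h1 : (x : V) ∈ B.orthogonal (B.orthogonal P) := by
      rw [LinearMap.BilinForm.mem_orthogonal_iff]
      intro y hy
      rw [h.swap]
      exact hx ⟨y, hy⟩
    rw [LinearMap.BilinForm.orthogonal_orthogonal h.nondeg h.isRefl] at h1
    have h2 : (x : V) ∈ P ⊓ B.orthogonal P := ⟨h1, x.2⟩
    rw [hd.eq_bot, Submodule.mem_bot] at h2
    exact Subtype.ext h2
  · exact h.inv (x : V) (y : V)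
  · exact h.ss.restrict ((Module.End.mem_invtSubmodule A).2 (h.orth_invt hP))
  · apply Subtype.ext
    apply h.nopm
    exact congrArg Subtype.val hx

end Basic

section Glue

variable {V V' : Type*} [AddCommGroup V] [Module K V] [AddCommGroup V'] [Module K V']

theorem glue_conj [FiniteDimensional K V] [FiniteDimensional K V']
    {B : LinearMap.BilinForm K V} {B' : LinearMap.BilinForm K V'}
    {A : Module.End K V} {A' : Module.End K V'} (h : IsOrOp B A) (h' : IsOrOp B' A')
    {P : Submodule K V} {P' : Submodule K V'} (hP : P ≤ P.comap A)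
    (hd : Disjoint P (B.orthogonal P)) (hd' : Disjoint P' (B'.orthogonal P'))
    (φ₁ : P ≃ₗ[K] P') (φ₂ : B.orthogonal P ≃ₗ[K] B'.orthogonal P')
    (h1 : ∀ p : P, (φ₁ (A.restrict hP p) : V') = A' (φ₁ p))
    (h1' : ∀ p q : P, B' (φ₁ p) (φ₁ q) = B p q)
    (h2 : ∀ p, (φ₂ (A.restrict (h.orth_invt hP) p) : V') = A' (φ₂ p))
    (h2' : ∀ p q : B.orthogonal P, B' (φ₂ p) (φ₂ q) = B p q) : Conj B B' A A' := by
  have hc := h.isCompl hd
  have hc' := h'.isCompl hd'
  refine ⟨glue hc hc' φ₁ φ₂, fun x => ?_, fun x y => ?_⟩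
  · obtain ⟨p, q, rfl⟩ := exists_decomp hc x
    have e1 : A ((p : V) + (q : V)) =
        ((A.restrict hP p : P) : V) + ((A.restrict (h.orth_invt hP) q : B.orthogonal P) : V) := by
      rw [map_add]; rfl
    rw [e1, glue_apply, glue_apply, map_add, h1, h2]
  · obtain ⟨p, q, rfl⟩ := exists_decomp hc x
    obtain ⟨p₁, q₁, rfl⟩ := exists_decomp hc y
    rw [glue_apply, glue_apply]
    have c1 : ∀ (a : P') (b : B'.orthogonal P'), B' (a : V') (b : V') = 0 := fun a b =>
      (LinearMap.BilinForm.mem_orthogonal_iff.1 b.2) a a.2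
    have c2 : ∀ (a : P') (b : B'.orthogonal P'), B' (b : V') (a : V') = 0 := fun a b => by
      rw [h'.swap, c1]
    have d1 : ∀ (a : P) (b : B.orthogonal P), B (a : V) (b : V) = 0 := fun a b =>
      (LinearMap.BilinForm.mem_orthogonal_iff.1 b.2) a a.2
    have d2 : ∀ (a : P) (b : B.orthogonal P), B (b : V) (a : V) = 0 := fun a b => by
      rw [h.swap, d1]
    simp only [map_add, LinearMap.add_apply]
    rw [c1, c2, d1, d2, h1', h2']

end Glue

/-- the induction hypothesis of the main theorem -/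
def IH (K : Type v) [Field K] (n : ℕ) : Prop :=
  ∀ m < n, ∀ (V V' : Type u) [AddCommGroup V] [Module K V] [FiniteDimensional K V]
    [AddCommGroup V'] [Module K V'] [FiniteDimensional K V']
    (B : LinearMap.BilinForm K V) (B' : LinearMap.BilinForm K V')
    (A : Module.End K V) (A' : Module.End K V'), finrank K V = m → IsOrOp B A → IsOrOp B' A' →
    A.charpoly = A'.charpoly → Conj B B' A A'

/-- peeling off a common nondegenerate invariant piece -/
theorem peel {n : ℕ} (ih : IH.{u} K n) {V V' : Type u} [AddCommGroup V] [Module K V]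
    [FiniteDimensional K V] [AddCommGroup V'] [Module K V'] [FiniteDimensional K V']
    {B : LinearMap.BilinForm K V} {B' : LinearMap.BilinForm K V'}
    {A : Module.End K V} {A' : Module.End K V'} (hn : finrank K V = n) (h : IsOrOp B A)
    (h' : IsOrOp B' A') (hc : A.charpoly = A'.charpoly)
    {X : Type w} [AddCommGroup X] [Module K X] [FiniteDimensional K X] [Nontrivial X]
    (aX : Module.End K X) (j : X →ₗ[K] V) (j' : X →ₗ[K] V')
    (hj : ∀ x, A (j x) = j (aX x)) (hj' : ∀ x, A' (j' x) = j' (aX x))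
    (hiso : ∀ x y, B (j x) (j y) = B' (j' x) (j' y))
    (hnd : ∀ x, (∀ y, B (j x) (j y) = 0) → x = 0) : Conj B B' A A' := by
  have hnd' : ∀ x, (∀ y, B' (j' x) (j' y) = 0) → x = 0 := fun x hx =>
    hnd x (fun y => by rw [hiso]; exact hx y)
  have hjinj : Function.Injective j := by
    rw [← LinearMap.ker_eq_bot, LinearMap.ker_eq_bot']
    intro x hx
    apply hnd
    intro y
    rw [hx, map_zero, LinearMap.zero_apply]
  have hjinj' : Function.Injective j' := by
    rw [← LinearMap.ker_eq_bot, LinearMap.ker_eq_bot']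
    intro x hx
    apply hnd'
    intro y
    rw [hx, map_zero, LinearMap.zero_apply]
  set P := LinearMap.range j with hPdef
  set P' := LinearMap.range j' with hP'def
  have hP : P ≤ P.comap A := by
    rintro _ ⟨x, rfl⟩
    exact ⟨aX x, (hj x).symm⟩
  have hP' : P' ≤ P'.comap A' := by
    rintro _ ⟨x, rfl⟩
    exact ⟨aX x, (hj' x).symm⟩
  have hd : Disjoint P (B.orthogonal P) := by
    rw [Submodule.disjoint_def]
    rintro _ ⟨x, rfl⟩ hv
    have hx0 : x = 0 := hnd x (fun y => by
      rw [h.swap]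
      exact (LinearMap.BilinForm.mem_orthogonal_iff.1 hv) (j y) ⟨y, rfl⟩)
    rw [hx0, map_zero]
  have hd' : Disjoint P' (B'.orthogonal P') := by
    rw [Submodule.disjoint_def]
    rintro _ ⟨x, rfl⟩ hv
    have hx0 : x = 0 := hnd' x (fun y => by
      rw [h'.swap]
      exact (LinearMap.BilinForm.mem_orthogonal_iff.1 hv) (j' y) ⟨y, rfl⟩)
    rw [hx0, map_zero]
  let e₁ : X ≃ₗ[K] P := LinearEquiv.ofInjective j hjinj
  let e₁' : X ≃ₗ[K] P' := LinearEquiv.ofInjective j' hjinj'
  have he₁ : ∀ x, (e₁ x : V) = j x := fun x => rfl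
  have he₁' : ∀ x, (e₁' x : V') = j' x := fun x => rfl
  let φ₁ : P ≃ₗ[K] P' := e₁.symm ≪≫ₗ e₁'
  have hφ₁ : ∀ x, φ₁ (e₁ x) = e₁' x := fun x => by
    change e₁' (e₁.symm (e₁ x)) = e₁' x
    rw [LinearEquiv.symm_apply_apply]
  have hcP : (A.restrict hP).charpoly = aX.charpoly :=
    charpoly_eq_of_equiv aX (A.restrict hP) e₁ (fun v => Subtype.ext (hj v))
  have hcP' : (A'.restrict hP').charpoly = aX.charpoly :=
    charpoly_eq_of_equiv aX (A'.restrict hP') e₁' (fun v => Subtype.ext (hj' v))
  have hsplit : A.charpoly =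
      (A.restrict hP).charpoly * (A.restrict (h.orth_invt hP)).charpoly :=
    split_charpoly (Submodule.prodEquivOfIsCompl P _ (h.isCompl hd)) (by
      rintro ⟨p, q⟩
      rw [LinearMap.prodMap_apply, Submodule.coe_prodEquivOfIsCompl',
        Submodule.coe_prodEquivOfIsCompl', map_add]
      rfl)
  have hsplit' : A'.charpoly =
      (A'.restrict hP').charpoly * (A'.restrict (h'.orth_invt hP')).charpoly :=
    split_charpoly (Submodule.prodEquivOfIsCompl P' _ (h'.isCompl hd')) (by
      rintro ⟨p, q⟩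
      rw [LinearMap.prodMap_apply, Submodule.coe_prodEquivOfIsCompl',
        Submodule.coe_prodEquivOfIsCompl', map_add]
      rfl)
  have hcq : (A.restrict (h.orth_invt hP)).charpoly =
      (A'.restrict (h'.orth_invt hP')).charpoly := by
    have h3 : aX.charpoly * (A.restrict (h.orth_invt hP)).charpoly =
        aX.charpoly * (A'.restrict (h'.orth_invt hP')).charpoly := by
      rw [← hcP, ← hsplit, hc, hsplit', hcP', hcP]
    exact mul_left_cancel₀ (LinearMap.charpoly_monic aX).ne_zero h3
  have hfr : finrank K P + finrank K (B.orthogonal P) = finrank K V :=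
    Submodule.finrank_add_eq_of_isCompl (h.isCompl hd)
  have hPpos : 0 < finrank K P := by
    rw [← e₁.finrank_eq]
    exact Module.finrank_pos
  obtain ⟨φ₂, h2, h2'⟩ := ih (finrank K (B.orthogonal P)) (by omega) (B.orthogonal P)
    (B'.orthogonal P') (B.restrict _) (B'.restrict _) (A.restrict (h.orth_invt hP))
    (A'.restrict (h'.orth_invt hP')) rfl (h.restrict_orth hP hd) (h'.restrict_orth hP' hd') hcq
  refine glue_conj h h' hP hd hd' φ₁ φ₂ ?_ ?_ ?_ ?_
  · intro p
    obtain ⟨x, rfl⟩ := e₁.surjective p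
    have e2 : A.restrict hP (e₁ x) = e₁ (aX x) := Subtype.ext (hj x)
    rw [e2, hφ₁, hφ₁, he₁', he₁', hj']
  · intro p q
    obtain ⟨x, rfl⟩ := e₁.surjective p
    obtain ⟨y, rfl⟩ := e₁.surjective q
    rw [hφ₁, hφ₁, he₁', he₁', he₁, he₁, hiso]
  · intro p
    have := congrArg Subtype.val (h2 p)
    exact this
  · intro p q
    exact h2' p q

end Cfsg.Agent.Lib.Helper8.OrSS
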