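import Mathlib
import Cfsg.Agent.Lib.Helper8.OrSSA
import Cfsg.Agent.Lib.Helper8.SpSSB

/-!
# Semisimple isometries of symmetric forms (odd characteristic): irreducible pieces (helper8)
-/

set_option autoImplicit false
set_option linter.unusedSectionVars false

namespace Cfsg.Agent.Lib.Helper8.OrSS

open Module Cfsg.Agent.H9.IrredOp Cfsg.Agent.H9.SemisimpleConj Cfsg.Agent.Lib.Helper8.SpSS

universe u v w

variable {K : Type v} [Field K]

section Irr

variable {V : Type*} [AddCommGroup V] [Module K V] [FiniteDimensional K V]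
  {B : LinearMap.BilinForm K V} {A : Module.End K V}
  {W₀ : Type*} [AddCommGroup W₀] [Module K W₀] [FiniteDimensional K W₀] {a₀ : Module.End K W₀}

/-- the dual partner of an embedded module -/
theorem exists_partner (h : IsOrOp B A) (ι : W₀ →ₗ[K] V) (hinj : Function.Injective ι)
    (hι : ∀ w, A (ι w) = ι (a₀ w)) (a₀i : Module.End K W₀) (hai : ∀ w, a₀ (a₀i w) = w) :
    ∃ (U : Submodule K V) (hU : U ≤ U.comap A) (δ : U ≃ₗ[K] Module.Dual K W₀),
      IsCompl (B.orthogonal (LinearMap.range ι)) U ∧ (∀ u x, δ u x = B (ι x) u) ∧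
      (∀ u, δ (A.restrict hU u) = a₀i.dualMap (δ u)) := by
  set W := LinearMap.range ι with hWdef
  have hW : W ≤ W.comap A := by
    rintro _ ⟨x, rfl⟩
    exact ⟨a₀ x, (hι x).symm⟩
  obtain ⟨U, hUinv, hc⟩ := Module.End.isSemisimple_iff.1 h.ss _
    ((Module.End.mem_invtSubmodule A).2 (h.orth_invt hW))
  rw [Module.End.mem_invtSubmodule] at hUinv
  let δ₀ : U →ₗ[K] Module.Dual K W₀ := (LinearMap.lcomp K K ι) ∘ₗ B.flip ∘ₗ U.subtype
  have hδ₀ : ∀ (u : U) (x : W₀), δ₀ u x = B (ι x) u := fun u x => rfl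
  have hδinj : Function.Injective δ₀ := by
    rw [← LinearMap.ker_eq_bot, LinearMap.ker_eq_bot']
    intro u hu
    have h1 : (u : V) ∈ B.orthogonal W := by
      rw [LinearMap.BilinForm.mem_orthogonal_iff]
      rintro _ ⟨x, rfl⟩
      have h3 := LinearMap.congr_fun hu x
      rw [hδ₀] at h3
      exact h3
    have h2 : (u : V) ∈ B.orthogonal W ⊓ U := ⟨h1, u.2⟩
    rw [hc.inf_eq_bot, Submodule.mem_bot] at h2
    exact Subtype.ext h2
  have hdim : finrank K U = finrank K (Module.Dual K W₀) := by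
    rw [Subspace.dual_finrank_eq]
    have h1 := Submodule.finrank_add_eq_of_isCompl hc
    have h2 := LinearMap.BilinForm.finrank_orthogonal h.nondeg W
    have h3 : finrank K W = finrank K W₀ := LinearMap.finrank_range_of_inj hinj
    have h4 : finrank K W ≤ finrank K V := Submodule.finrank_le W
    omega
  refine ⟨U, hUinv, LinearMap.linearEquivOfInjective δ₀ hδinj hdim, hc, fun u x => ?_,
    fun u => ?_⟩
  · rw [LinearMap.linearEquivOfInjective_apply, hδ₀]
  · apply LinearMap.ext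
    intro x
    rw [LinearMap.linearEquivOfInjective_apply, LinearMap.linearEquivOfInjective_apply,
      LinearMap.dualMap_apply, hδ₀, hδ₀]
    change B (ι x) (A (u : V)) = _
    conv_lhs => rw [← hai x, ← hι]
    exact h.inv _ _

/-- the partner of an irreducible embedded module is irreducible -/
theorem partner_irred (h : IsOrOp B A) (hirr : Irred a₀) (ι : W₀ →ₗ[K] V)
    (hinj : Function.Injective ι) (hι : ∀ w, A (ι w) = ι (a₀ w)) {U : Submodule K V}
    (hU : U ≤ U.comap A) (hc : IsCompl (B.orthogonal (LinearMap.range ι)) U) :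
    Irred (A.restrict hU) := by
  set W := LinearMap.range ι with hWdef
  have hWdim : finrank K W = finrank K W₀ := LinearMap.finrank_range_of_inj hinj
  have hUdim : finrank K U = finrank K W := by
    have h1 := Submodule.finrank_add_eq_of_isCompl hc
    have h2 := LinearMap.BilinForm.finrank_orthogonal h.nondeg W
    have h4 : finrank K W ≤ finrank K V := Submodule.finrank_le W
    omega
  have hnt : Nontrivial W₀ := hirr.1
  have hW₀pos : 0 < finrank K W₀ := Module.finrank_pos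
  refine ⟨?_, ?_⟩
  · apply Module.nontrivial_of_finrank_pos (R := K)
    omega
  · intro U₁ hU₁
    by_cases h0 : U₁ = ⊥
    · left; exact h0
    right
    set U₁' : Submodule K V := U₁.map U.subtype with hU₁'def
    have hU₁'le : U₁' ≤ U := Submodule.map_subtype_le U U₁
    have hU₁'inv : U₁' ≤ U₁'.comap A := by
      rintro _ ⟨u, hu, rfl⟩
      rw [Submodule.mem_comap]
      exact ⟨A.restrict hU u, hU₁ hu, rfl⟩
    have hU₁'ne : U₁' ≠ ⊥ := by
      intro hb
      apply h0
      rw [Submodule.eq_bot_iff]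
      intro u hu
      have h3 : (U.subtype u) ∈ U₁' := ⟨u, hu, rfl⟩
      rw [hb, Submodule.mem_bot] at h3
      exact Subtype.ext h3
    set R : Submodule K W₀ := (B.orthogonal U₁').comap ι with hRdef
    have hRinv : R ≤ R.comap a₀ := by
      intro x hx
      rw [Submodule.mem_comap, hRdef, Submodule.mem_comap, ← hι]
      exact h.orth_invt hU₁'inv hx
    rcases hirr.2 R hRinv with hR | hR
    · have hdisj : W ⊓ B.orthogonal U₁' = ⊥ := by
        rw [Submodule.eq_bot_iff]
        rintro _ ⟨⟨x, rfl⟩, hx2⟩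
        have h3 : x ∈ R := hx2
        rw [hR, Submodule.mem_bot] at h3
        rw [h3, map_zero]
      have hd1 := Submodule.finrank_sup_add_finrank_inf_eq W (B.orthogonal U₁')
      rw [hdisj, finrank_bot, add_zero] at hd1
      have hd2 := LinearMap.BilinForm.finrank_orthogonal h.nondeg U₁'
      have hd3 : finrank K ↥(W ⊔ B.orthogonal U₁') ≤ finrank K V := Submodule.finrank_le _
      have hd4 : finrank K U₁' ≤ finrank K U := Submodule.finrank_mono hU₁'le
      have hd5 : finrank K U₁' ≤ finrank K V := Submodule.finrank_le _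
      have heq : U₁' = U := Submodule.eq_of_le_of_finrank_le hU₁'le (by omega)
      rw [eq_top_iff]
      intro u _
      have h3 : (u : V) ∈ U₁' := by rw [heq]; exact u.2
      obtain ⟨u', hu', hu''⟩ := h3
      have h4 : u' = u := Subtype.ext hu''
      rw [← h4]
      exact hu'
    · exfalso
      apply hU₁'ne
      rw [Submodule.eq_bot_iff]
      intro v hv
      have h1 : v ∈ B.orthogonal W := by
        rw [LinearMap.BilinForm.mem_orthogonal_iff]
        rintro _ ⟨x, rfl⟩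
        have hx : x ∈ R := by rw [hR]; exact Submodule.mem_top
        have h3 := (LinearMap.BilinForm.mem_orthogonal_iff.1 hx) v hv
        rw [h.swap, h3]
      have h2 : v ∈ B.orthogonal W ⊓ U := ⟨h1, hU₁'le hv⟩
      rw [hc.inf_eq_bot] at h2
      exact (Submodule.mem_bot K).1 h2

/-- a hyperbolic piece around a totally isotropic irreducible embedded module -/
theorem exists_hyp (h : IsOrOp B A) (hirr : Irred a₀) (ι : W₀ →ₗ[K] V)
    (hinj : Function.Injective ι) (hι : ∀ w, A (ι w) = ι (a₀ w)) (a₀i : Module.End K W₀)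
    (hai : ∀ w, a₀ (a₀i w) = w) (hti : ∀ x y, B (ι x) (ι y) = 0)
    (hB : ∀ (U : Submodule K V) (hU : U ≤ U.comap A), Irred (A.restrict hU) →
      ∀ x ∈ U, ∀ y ∈ U, B x y = 0) :
    ∃ j : W₀ × Module.Dual K W₀ →ₗ[K] V, (∀ p, A (j p) = j (a₀.prodMap a₀i.dualMap p)) ∧
      ∀ p q, B (j p) (j q) = q.2 p.1 + p.2 q.1 := by
  obtain ⟨U, hU, δ, hc, hδ, hδA⟩ := exists_partner h ι hinj hι a₀i hai
  have hUirr := partner_irred h hirr ι hinj hι hU hc
  have hUti := hB U hU hUirr
  let j : W₀ × Module.Dual K W₀ →ₗ[K] V :=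
    ι.coprod (U.subtype ∘ₗ (δ.symm : Module.Dual K W₀ →ₗ[K] U))
  have hj : ∀ x ξ, j (x, ξ) = ι x + ((δ.symm ξ : U) : V) := fun x ξ => by
    simp only [j, LinearMap.coprod_apply, LinearMap.comp_apply, LinearEquiv.coe_coe,
      Submodule.subtype_apply]
  refine ⟨j, ?_, ?_⟩
  · rintro ⟨x, ξ⟩
    rw [LinearMap.prodMap_apply, hj, hj, map_add, hι]
    congr 1
    have e1 := hδA (δ.symm ξ)
    rw [LinearEquiv.apply_symm_apply] at e1
    have e2 := congrArg δ.symm e1
    rw [LinearEquiv.symm_apply_apply] at e2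
    exact congrArg Subtype.val e2
  · rintro ⟨x, ξ⟩ ⟨y, η⟩
    rw [hj, hj]
    simp only [map_add, LinearMap.add_apply]
    rw [hti, hUti _ (δ.symm ξ).2 _ (δ.symm η).2]
    have e1 : B (ι x) ((δ.symm η : U) : V) = η x := by
      rw [← hδ, LinearEquiv.apply_symm_apply]
    have e2 : B ((δ.symm ξ : U) : V) (ι y) = ξ y := by
      rw [h.swap, ← hδ, LinearEquiv.apply_symm_apply]
    rw [e1, e2]
    ring

end Irr

section Emb

variable {W₀ : Type*} [AddCommGroup W₀] [Module K W₀] [FiniteDimensional K W₀]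
  {a₀ : Module.End K W₀}
  {V' : Type u} [AddCommGroup V'] [Module K V'] [FiniteDimensional K V']
  {B' : LinearMap.BilinForm K V'} {A' : Module.End K V'}

/-- if an irreducible module carrying a nondegenerate invariant alternating form embeds, then it
embeds nondegenerately -/
theorem exists_nondeg_emb (h' : IsOrOp B' A') {B₀ : LinearMap.BilinForm K W₀}
    (h₀ : IsOrOp B₀ a₀) (hirr : Irred a₀) (ι₁ : W₀ →ₗ[K] V') (hinj : Function.Injective ι₁)
    (hι₁ : ∀ w, A' (ι₁ w) = ι₁ (a₀ w)) :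
    ∃ ι' : W₀ →ₗ[K] V', (∀ w, A' (ι' w) = ι' (a₀ w)) ∧
      ∀ x, (∀ y, B' (ι' x) (ι' y) = 0) → x = 0 := by
  have hsurj := h₀.surjective
  rcases rad_dichotomy h'.inv hirr hsurj ι₁ hι₁ with hti₁ | hnd
  swap
  · exact ⟨ι₁, hι₁, hnd⟩
  let a₀e : W₀ ≃ₗ[K] W₀ := LinearEquiv.ofBijective a₀ ⟨h₀.injective, hsurj⟩
  let a₀i : Module.End K W₀ := (a₀e.symm : W₀ →ₗ[K] W₀)
  have hai : ∀ w, a₀ (a₀i w) = w := fun w => a₀e.apply_symm_apply w
  have hia : ∀ w, a₀i (a₀ w) = w := fun w => a₀e.symm_apply_apply w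
  obtain ⟨U, hU, δ, hc, hδ, hδA⟩ := exists_partner h' ι₁ hinj hι₁ a₀i hai
  let ρ₀ : W₀ →ₗ[K] Module.Dual K W₀ := B₀.flip
  have hρ₀ : ∀ x y, ρ₀ y x = B₀ x y := fun x y => rfl
  let ι₂ : W₀ →ₗ[K] V' := U.subtype ∘ₗ (δ.symm : Module.Dual K W₀ →ₗ[K] U) ∘ₗ ρ₀
  have hι₂def : ∀ y, ι₂ y = ((δ.symm (ρ₀ y) : U) : V') := fun y => rfl
  have hι₂B : ∀ x y, B' (ι₁ x) (ι₂ y) = B₀ x y := by
    intro x y
    rw [hι₂def, ← hδ, LinearEquiv.apply_symm_apply, hρ₀]
  have hι₂ : ∀ w, A' (ι₂ w) = ι₂ (a₀ w) := by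
    intro w
    rw [hι₂def, hι₂def]
    have e1 := hδA (δ.symm (ρ₀ w))
    rw [LinearEquiv.apply_symm_apply] at e1
    have e2 : a₀i.dualMap (ρ₀ w) = ρ₀ (a₀ w) := by
      apply LinearMap.ext
      intro x
      rw [LinearMap.dualMap_apply, hρ₀, hρ₀]
      conv_rhs => rw [← hai x]
      rw [h₀.inv]
    rw [e2] at e1
    have e3 := congrArg δ.symm e1
    rw [LinearEquiv.symm_apply_apply] at e3
    exact congrArg Subtype.val e3
  rcases rad_dichotomy h'.inv hirr hsurj ι₂ hι₂ with hti₂ | hnd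
  swap
  · exact ⟨ι₂, hι₂, hnd⟩
  set ι₃ : W₀ →ₗ[K] V' := ι₁ + ι₂ with hι₃def
  have hι₃ : ∀ w, A' (ι₃ w) = ι₃ (a₀ w) := by
    intro w
    simp only [hι₃def, LinearMap.add_apply, map_add]
    rw [hι₁, hι₂]
  have hform : ∀ x y, B' (ι₃ x) (ι₃ y) = B₀ x y + B₀ y x := by
    intro x y
    simp only [hι₃def, LinearMap.add_apply, map_add]
    rw [hti₁, hti₂, hι₂B, h'.swap, hι₂B]
    ring
  have hnt : Nontrivial W₀ := hirr.1
  rcases rad_dichotomy h'.inv hirr hsurj ι₃ hι₃ with hti₃ | hnd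
  · exfalso
    obtain ⟨w, hw⟩ := exists_ne (0 : W₀)
    apply hw
    apply h₀.sep
    intro y
    have h3 := hti₃ w y
    rw [hform, h₀.swap w y, ← two_mul] at h3
    rcases mul_eq_zero.1 h3 with h5 | h5
    · exact absurd h5 h₀.two
    · exact h5
  · exact ⟨ι₃, hι₃, hnd⟩

end Emb

end Cfsg.Agent.Lib.Helper8.OrSS
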