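import Mathlib
import Cfsg.Agent.Lib.Helper8.OrSSB
import Cfsg.Agent.Lib.Helper8.SpSSC

/-!
# Semisimple isometries of symmetric forms (odd characteristic): two invariant forms on an
irreducible module are equivalent under the centraliser (helper8)
-/

set_option autoImplicit false
set_option linter.unusedSectionVars false

namespace Cfsg.Agent.Lib.Helper8.OrSS

open Module Polynomial Cfsg.Agent.H9.IrredOp Cfsg.Agent.H9.SemisimpleConj
  Cfsg.Agent.Lib.Helper8.SpSS

universe u v w

variable {K : Type v} [Field K]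

section Adjust

variable {W₀ : Type*} [AddCommGroup W₀] [Module K W₀] [FiniteDimensional K W₀]
  {a₀ : Module.End K W₀}

/-- two invariant nondegenerate symmetric forms on an irreducible module are equivalent under
the centraliser of the operator -/
theorem exists_adjust [Finite K] (hirr : Irred a₀) {B₁ B₂ : LinearMap.BilinForm K W₀}
    (h₁ : IsOrOp B₁ a₀) (h₂ : IsOrOp B₂ a₀) :
    ∃ t : W₀ ≃ₗ[K] W₀, (∀ w, t (a₀ w) = a₀ (t w)) ∧ ∀ x y, B₁ (t x) (t y) = B₂ x y := by
  have hnt : Nontrivial W₀ := hirr.1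
  have hsq : a₀ * a₀ ≠ 1 := by
    intro h0
    obtain ⟨w, hw⟩ := exists_ne (0 : W₀)
    apply hw
    apply h₁.nopm
    have h3 := LinearMap.congr_fun h0 w
    rw [Module.End.mul_apply, Module.End.one_apply] at h3
    exact h3
  have hirrF : Fact (Irreducible (minpoly K a₀)) := ⟨hirr.minpoly_irreducible⟩
  have hsurj := h₁.surjective
  let a₀e : W₀ ≃ₗ[K] W₀ := LinearEquiv.ofBijective a₀ ⟨h₁.injective, hsurj⟩
  let a₀i : Module.End K W₀ := (a₀e.symm : W₀ →ₗ[K] W₀)
  have hai : ∀ w, a₀ (a₀i w) = w := fun w => a₀e.apply_symm_apply w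
  have hia : ∀ w, a₀i (a₀ w) = w := fun w => a₀e.symm_apply_apply w
  have hrsep : ∀ z, (∀ x, B₁ x z = 0) → z = 0 := fun z hz =>
    h₁.sep z (fun x => by rw [h₁.swap, hz])
  have hadj : ∀ x y, B₁ (a₀ x) y = B₁ x (a₀i y) := by
    intro x y
    conv_lhs => rw [← hai y]
    rw [h₁.inv]
  have hadj2 : ∀ x y, B₂ (a₀ x) y = B₂ x (a₀i y) := by
    intro x y
    conv_lhs => rw [← hai y]
    rw [h₂.inv]
  set L := KK a₀ with hL
  set r : L := AdjoinRoot.root (minpoly K a₀) with hr
  have hrho_r : rho a₀ r = a₀ := rho_root a₀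
  have hr0 : r ≠ 0 := by
    intro h0
    have h3 : a₀ = 0 := by rw [← hrho_r, h0, map_zero]
    obtain ⟨w, hw⟩ := exists_ne (0 : W₀)
    apply hw
    apply h₁.injective
    rw [h3, LinearMap.zero_apply, LinearMap.zero_apply]
  have hrho_ri : rho a₀ r⁻¹ = a₀i := by
    have e1 : rho a₀ r⁻¹ * rho a₀ r = 1 := by
      rw [← map_mul, inv_mul_cancel₀ hr0, map_one]
    rw [hrho_r] at e1
    apply LinearMap.ext
    intro w
    have e2 := LinearMap.congr_fun e1 (a₀i w)
    rw [Module.End.mul_apply, hai, Module.End.one_apply] at e2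
    exact e2
  have hroot : eval₂ (Algebra.ofId K L) r⁻¹ (minpoly K a₀) = 0 := by
    apply hirr.rho_injective
    rw [map_zero]
    have e1 : eval₂ (Algebra.ofId K L) r⁻¹ (minpoly K a₀) = aeval r⁻¹ (minpoly K a₀) := rfl
    rw [e1, ← aeval_algHom_apply, hrho_ri]
    apply LinearMap.ext
    intro y
    apply hrsep
    intro x
    rw [← adj_aeval hadj, minpoly.aeval]
    simp
  let τ : L →ₐ[K] L := AdjoinRoot.liftAlgHom (minpoly K a₀) (Algebra.ofId K L) r⁻¹ hroot
  have hτr : τ r = r⁻¹ := AdjoinRoot.liftAlgHom_root _ _ _ _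
  have hττ : τ.comp τ = AlgHom.id K L := by
    apply AdjoinRoot.algHom_ext
    rw [AlgHom.comp_apply, hτr, map_inv₀, hτr, inv_inv]
    rfl
  let σ : L ≃+* L := (AlgEquiv.ofAlgHom τ τ hττ hττ).toRingEquiv
  have hσ : ∀ κ, σ κ = τ κ := fun κ => rfl
  have hσσ : ∀ κ : L, σ (σ κ) = κ := by
    intro κ
    rw [hσ, hσ]
    exact AlgHom.congr_fun hττ κ
  have hkey : ∀ (κ : L) (x y : W₀), B₁ (rho a₀ κ x) y = B₁ x (rho a₀ (τ κ) y) := by
    intro κ x y
    obtain ⟨p, rfl⟩ := AdjoinRoot.mk_surjective κ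
    have e1 : τ (AdjoinRoot.mk _ p) = aeval r⁻¹ p := rfl
    rw [rho_mk, e1, ← aeval_algHom_apply, hrho_ri]
    exact adj_aeval hadj p x y
  -- the comparison endomorphism
  set s : Module.End K W₀ := LinearMap.BilinForm.symmCompOfNondegenerate B₂ B₁ h₁.nondeg with hs
  have hsB : ∀ w v, B₁ (s w) v = B₂ w v := fun w v =>
    LinearMap.BilinForm.symmCompOfNondegenerate_left_apply B₂ h₁.nondeg v w
  have hsB' : ∀ x y, B₁ x (s y) = B₂ x y := by
    intro x y
    rw [h₁.swap, hsB, h₂.swap]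
  have hscomm : Commute s a₀ := by
    apply LinearMap.ext
    intro w
    rw [Module.End.mul_apply, Module.End.mul_apply]
    have e0 : s (a₀ w) - a₀ (s w) = 0 := by
      apply h₁.sep
      intro v
      rw [map_sub, LinearMap.sub_apply, hsB, hadj2, hadj, hsB, sub_self]
    exact sub_eq_zero.1 e0
  obtain ⟨κs, hκs⟩ := hirr.exists_rho_eq hscomm
  have hτκs : τ κs = κs := by
    apply hirr.rho_injective
    apply LinearMap.ext
    intro y
    have e0 : rho a₀ (τ κs) y - rho a₀ κs y = 0 := by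
      apply hrsep
      intro x
      rw [map_sub, ← hkey, hκs, hsB, hsB', sub_self]
    exact sub_eq_zero.1 e0
  have hσne : σ ≠ RingEquiv.refl L := by
    intro h0
    have e1 : σ r = r := by rw [h0]; rfl
    rw [hσ, hτr] at e1
    apply hsq
    have e2 : r * r = 1 := by
      nth_rewrite 1 [← e1]
      exact inv_mul_cancel₀ hr0
    have e3 : rho a₀ (r * r) = a₀ * a₀ := by rw [map_mul, hrho_r]
    rw [← e3, e2, map_one]
  have hfin : Finite L := finite_KK a₀
  have hfint : Fintype L := Fintype.ofFinite L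
  obtain ⟨κt, hκt⟩ := Cfsg.Agent.Lib.Helper8.Unitary.norm_surj hσne hσσ κs (by rw [hσ, hτκs])
  have hs0 : s ≠ 0 := by
    intro h0
    obtain ⟨w, hw⟩ := exists_ne (0 : W₀)
    apply hw
    apply h₂.sep
    intro y
    rw [← hsB, h0, LinearMap.zero_apply, map_zero, LinearMap.zero_apply]
  have hκt0 : κt ≠ 0 := by
    intro h0
    apply hs0
    rw [← hκs, ← hκt, h0, zero_mul, map_zero]
  have ht0 : rho a₀ κt ≠ 0 := by
    intro h0
    apply hκt0
    apply hirr.rho_injective
    rw [h0, map_zero]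
  have htbij := hirr.bijective_of_commute (commute_rho a₀ κt) ht0
  refine ⟨LinearEquiv.ofBijective (rho a₀ κt) htbij, fun w => ?_, fun x y => ?_⟩
  · have e1 := LinearMap.congr_fun (commute_rho a₀ κt).eq w
    rw [Module.End.mul_apply, Module.End.mul_apply] at e1
    exact e1
  · change B₁ (rho a₀ κt x) (rho a₀ κt y) = B₂ x y
    rw [hkey, ← Module.End.mul_apply, ← map_mul, ← hσ, mul_comm, hκt, hκs, hsB']

end Adjust

end Cfsg.Agent.Lib.Helper8.OrSS
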