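import Mathlib
import Cfsg.Agent.Lib.Helper8.OrSSC
import Cfsg.Agent.Lib.Helper8.SpSSD

/-!
# Semisimple isometries (without eigenvalues `±1`) of nondegenerate symmetric forms over a finite
field of odd characteristic with the same characteristic polynomial are conjugate by an isometry
(helper8)
-/

set_option autoImplicit false
set_option linter.unusedSectionVars false

namespace Cfsg.Agent.Lib.Helper8.OrSS

open Module Polynomial Cfsg.Agent.H9.IrredOp Cfsg.Agent.H9.SemisimpleConj
  Cfsg.Agent.Lib.Helper8.SpSS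

universe u v w

variable {K : Type v} [Field K]

/-- there is a nondegenerately embedded irreducible module -/
def CaseA {V : Type u} [AddCommGroup V] [Module K V] (B : LinearMap.BilinForm K V)
    (A : Module.End K V) : Prop :=
  ∃ (W₀ : Type u) (_ : AddCommGroup W₀) (_ : Module K W₀) (_ : FiniteDimensional K W₀)
    (a₀ : Module.End K W₀) (ι : W₀ →ₗ[K] V),
    Irred a₀ ∧ (∀ w, A (ι w) = ι (a₀ w)) ∧ ∀ x, (∀ y, B (ι x) (ι y) = 0) → x = 0

section Steps

variable {V V' : Type u} [AddCommGroup V] [Module K V] [FiniteDimensional K V]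
  [AddCommGroup V'] [Module K V'] [FiniteDimensional K V']
  {B : LinearMap.BilinForm K V} {B' : LinearMap.BilinForm K V'}
  {A : Module.End K V} {A' : Module.End K V'}

theorem pullback_isOrOp (h : IsOrOp B A) {W₀ : Type*} [AddCommGroup W₀] [Module K W₀]
    [FiniteDimensional K W₀] {a₀ : Module.End K W₀} (hirr : Irred a₀) (ι : W₀ →ₗ[K] V)
    (hι : ∀ w, A (ι w) = ι (a₀ w)) (hnd : ∀ x, (∀ y, B (ι x) (ι y) = 0) → x = 0) :
    IsOrOp (B.compl₁₂ ι ι) a₀ := by
  have hinj : Function.Injective ι := by
    rw [← LinearMap.ker_eq_bot, LinearMap.ker_eq_bot']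
    intro x hx
    apply hnd
    intro y
    rw [hx, map_zero, LinearMap.zero_apply]
  refine ⟨fun x y => ?_, h.two, fun x hx => hnd x (fun y => ?_), fun x y => ?_,
    isSemisimple_of_irred hirr, fun x hx => ?_⟩
  · rw [LinearMap.compl₁₂_apply, LinearMap.compl₁₂_apply]
    exact h.symm (ι x) (ι y)
  · have := hx y
    rw [LinearMap.compl₁₂_apply] at this
    exact this
  · rw [LinearMap.compl₁₂_apply, LinearMap.compl₁₂_apply, ← hι, ← hι, h.inv]
  · apply hinj
    rw [map_zero]
    apply h.nopm
    rw [hι, hι, hx]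

theorem step_A [Finite K] {n : ℕ} (ih : IH.{u} K n) (hn : finrank K V = n) (h : IsOrOp B A)
    (h' : IsOrOp B' A') (hc : A.charpoly = A'.charpoly) (hA : CaseA B A) : Conj B B' A A' := by
  obtain ⟨W₀, _, _, _, a₀, ι, hirr, hι, hnd⟩ := hA
  have hinj : Function.Injective ι := by
    rw [← LinearMap.ker_eq_bot, LinearMap.ker_eq_bot']
    intro x hx
    apply hnd
    intro y
    rw [hx, map_zero, LinearMap.zero_apply]
  have hnt : Nontrivial W₀ := hirr.1
  have h₀ := pullback_isOrOp h hirr ι hι hnd
  have hdvd : minpoly K a₀ ∣ A'.charpoly := by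
    rw [← hc]
    exact minpoly_dvd_charpoly_of_emb ι hinj hι
  obtain ⟨ι₁, hinj₁, hι₁⟩ := exists_emb hirr h'.ss hdvd
  obtain ⟨ι', hι', hnd'⟩ := exists_nondeg_emb h' h₀ hirr ι₁ hinj₁ hι₁
  have h₂ := pullback_isOrOp h' hirr ι' hι' hnd'
  obtain ⟨t, ht, htB⟩ := exists_adjust hirr h₀ h₂
  have htB' : ∀ x y, B (ι (t x)) (ι (t y)) = B' (ι' x) (ι' y) := fun x y => by
    have := htB x y
    rw [LinearMap.compl₁₂_apply, LinearMap.compl₁₂_apply] at this
    exact this
  refine peel ih hn h h' hc a₀ (ι ∘ₗ (t : W₀ →ₗ[K] W₀)) ι' ?_ hι' ?_ ?_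
  · intro x
    change A (ι (t x)) = ι (t (a₀ x))
    rw [hι, ht]
  · intro x y
    exact htB' x y
  · intro x hx
    apply hnd'
    intro y
    rw [← htB']
    exact hx y

theorem ti_of_not_caseA (h : IsOrOp B A) (hA : ¬ CaseA B A) {W₁ : Type u} [AddCommGroup W₁]
    [Module K W₁] [FiniteDimensional K W₁] {a₁ : Module.End K W₁} (hirr : Irred a₁)
    (ι : W₁ →ₗ[K] V) (hinj : Function.Injective ι) (hι : ∀ w, A (ι w) = ι (a₁ w)) :
    ∀ x y, B (ι x) (ι y) = 0 := by
  have ha₁inj : Function.Injective a₁ := fun x y hxy => by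
    apply hinj
    apply h.injective
    rw [hι, hι, hxy]
  have hsurj : Function.Surjective a₁ := LinearMap.injective_iff_surjective.1 ha₁inj
  rcases rad_dichotomy h.inv hirr hsurj ι hι with hti | hnd
  · exact hti
  · exfalso
    exact hA ⟨W₁, inferInstance, inferInstance, inferInstance, a₁, ι, hirr, hι, hnd⟩

theorem step_B {n : ℕ} (ih : IH.{u} K n) (hn : finrank K V = n) (hpos : 0 < n)
    (h : IsOrOp B A) (h' : IsOrOp B' A') (hc : A.charpoly = A'.charpoly) (hA : ¬ CaseA B A)
    (hA' : ¬ CaseA B' A') : Conj B B' A A' := by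
  have hV : Nontrivial V := (Module.finrank_pos_iff (R := K)).1 (by omega)
  obtain ⟨W, hW, hirr⟩ := exists_irred_invt A hV
  set a₀ : Module.End K W := A.restrict hW with ha₀
  set ι : W →ₗ[K] V := W.subtype with hιdef
  have hι : ∀ w, A (ι w) = ι (a₀ w) := fun w => rfl
  have hinj : Function.Injective ι := W.injective_subtype
  have ha₀inj : Function.Injective a₀ := fun x y hxy => by
    apply hinj
    apply h.injective
    rw [hι, hι, hxy]
  have hsurj : Function.Surjective a₀ := LinearMap.injective_iff_surjective.1 ha₀inj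
  let a₀e : W ≃ₗ[K] W := LinearEquiv.ofBijective a₀ ⟨ha₀inj, hsurj⟩
  let a₀i : Module.End K W := (a₀e.symm : W →ₗ[K] W)
  have hai : ∀ w, a₀ (a₀i w) = w := fun w => a₀e.apply_symm_apply w
  have hnt : Nontrivial W := hirr.1
  have hdvd : minpoly K a₀ ∣ A'.charpoly := by
    rw [← hc]
    exact minpoly_dvd_charpoly_of_emb ι hinj hι
  obtain ⟨ι', hinj', hι'⟩ := exists_emb hirr h'.ss hdvd
  have hti := ti_of_not_caseA h hA hirr ι hinj hι
  have hti' := ti_of_not_caseA h' hA' hirr ι' hinj' hι'
  have hB : ∀ (U : Submodule K V) (hU : U ≤ U.comap A), Irred (A.restrict hU) →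
      ∀ x ∈ U, ∀ y ∈ U, B x y = 0 := fun U hU hUirr x hx y hy =>
    ti_of_not_caseA h hA hUirr U.subtype U.injective_subtype (fun w => rfl) ⟨x, hx⟩ ⟨y, hy⟩
  have hB' : ∀ (U : Submodule K V') (hU : U ≤ U.comap A'), Irred (A'.restrict hU) →
      ∀ x ∈ U, ∀ y ∈ U, B' x y = 0 := fun U hU hUirr x hx y hy =>
    ti_of_not_caseA h' hA' hUirr U.subtype U.injective_subtype (fun w => rfl) ⟨x, hx⟩ ⟨y, hy⟩
  obtain ⟨j, hj, hjB⟩ := exists_hyp h hirr ι hinj hι a₀i hai hti hB
  obtain ⟨j', hj', hjB'⟩ := exists_hyp h' hirr ι' hinj' hι' a₀i hai hti' hB'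
  refine peel ih hn h h' hc (a₀.prodMap a₀i.dualMap) j j' hj hj' ?_ ?_
  · intro p q
    rw [hjB, hjB']
  · rintro ⟨x, ξ⟩ hp
    have h1 : ξ = 0 := by
      apply LinearMap.ext
      intro y
      have := hp (y, 0)
      rw [hjB] at this
      simp only [LinearMap.zero_apply, zero_add] at this
      exact this
    have h2 : x = 0 := by
      rw [← Module.forall_dual_apply_eq_zero_iff K x]
      intro η
      have := hp (0, η)
      rw [hjB] at this
      simp only [map_zero, add_zero] at this
      exact this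
    rw [h1, h2]
    rfl

end Steps

theorem main_aux [Finite K] (n : ℕ) : ∀ (V V' : Type u) [AddCommGroup V] [Module K V]
    [FiniteDimensional K V] [AddCommGroup V'] [Module K V'] [FiniteDimensional K V']
    (B : LinearMap.BilinForm K V) (B' : LinearMap.BilinForm K V')
    (A : Module.End K V) (A' : Module.End K V'), finrank K V = n → IsOrOp B A → IsOrOp B' A' →
    A.charpoly = A'.charpoly → Conj B B' A A' := by
  induction n using Nat.strong_induction_on with
  | _ n ih =>
    intro V V' _ _ _ _ _ _ B B' A A' hn h h' hc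
    have ihn : IH.{u} K n := fun m hm V V' _ _ _ _ _ _ B B' A A' hm' =>
      ih m hm V V' B B' A A' hm'
    have hn' : finrank K V' = n := by
      rw [← LinearMap.charpoly_natDegree A', ← hc, LinearMap.charpoly_natDegree, hn]
    rcases Nat.eq_zero_or_pos n with h0 | hpos
    · have h1 : Subsingleton V := Module.finrank_zero_iff.1 (hn.trans h0)
      have h2 : Subsingleton V' := Module.finrank_zero_iff.1 (hn'.trans h0)
      refine ⟨LinearEquiv.ofFinrankEq V V' (hn.trans hn'.symm), fun v => Subsingleton.elim _ _,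
        fun x y => ?_⟩
      rw [Subsingleton.elim x 0]
      simp
    by_cases hA : CaseA B A
    · exact step_A ihn hn h h' hc hA
    by_cases hA' : CaseA B' A'
    · exact (step_A ihn hn' h' h hc.symm hA').symm
    · exact step_B ihn hn hpos h h' hc hA hA'

/-- semisimple isometries of nondegenerate symmetric forms over a finite field with the same
characteristic polynomial are conjugate by an isometry -/
theorem main [Finite K] {V V' : Type u} [AddCommGroup V] [Module K V]
    [FiniteDimensional K V] [AddCommGroup V'] [Module K V'] [FiniteDimensional K V']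
    {B : LinearMap.BilinForm K V} {B' : LinearMap.BilinForm K V'}
    {A : Module.End K V} {A' : Module.End K V'} (h : IsOrOp B A) (h' : IsOrOp B' A')
    (hc : A.charpoly = A'.charpoly) : Conj B B' A A' :=
  main_aux (finrank K V) V V' B B' A A' rfl h h' hc

end Cfsg.Agent.Lib.Helper8.OrSS
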