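import Mathlib
import Cfsg.Agent.Lib.Helper8.OrSSD
import Cfsg.Agent.S0750

/-!
# Semisimple isometries of odd order of a nondegenerate quadratic form over a finite field:
linear conjugacy implies conjugacy by an isometry (helper8)
-/

set_option autoImplicit false
set_option linter.unusedSectionVars false

namespace Cfsg.Agent.Lib.Helper8.OrSS

open Module Polynomial QuadraticMap Cfsg.Agent.H9.IrredOp Cfsg.Agent.H9.SemisimpleConj
  Cfsg.Agent.Lib.Helper8.SpSS

universe u v w

variable {K : Type v} [Field K]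

section One

variable {V : Type*} [AddCommGroup V] [Module K V] [FiniteDimensional K V]
  (Q : QuadraticForm K V) (E : Module.End K V)

theorem polar_inv (hE : ∀ v, Q (E v) = Q v) (x y : V) :
    polarBilin Q (E x) (E y) = polarBilin Q x y := by
  rw [polarBilin_apply_apply, polarBilin_apply_apply, polar, polar, ← map_add, hE, hE, hE]

theorem polar_symm (x y : V) : polarBilin Q x y = polarBilin Q y x := by
  rw [polarBilin_apply_apply, polarBilin_apply_apply, polar_comm]

theorem polar_self' (x : V) : polarBilin Q x x = 2 * Q x := by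
  rw [polarBilin_apply_apply, polar_self, two_smul, two_mul]

theorem Q_sub (a b : V) : Q (a - b) = Q a + Q b - polarBilin Q a b := by
  have h1 := polar_neg_right Q a b
  have h2 : polar Q a (-b) = Q (a + -b) - Q a - Q (-b) := rfl
  rw [h2, QuadraticMap.map_neg] at h1
  rw [polarBilin_apply_apply, sub_eq_add_neg a b]
  linear_combination h1

theorem isSemisimple_of_pow (k : ℕ) (hk : (k : K) ≠ 0) (hEk : E ^ k = 1) : E.IsSemisimple := by
  apply Module.End.isSemisimple_of_squarefree_aeval_eq_zero (p := (X : K[X]) ^ k - C 1)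
  · exact (separable_X_pow_sub_C (1 : K) hk one_ne_zero).squarefree
  · rw [map_sub, map_pow, aeval_X, aeval_C, hEk, map_one, sub_self]

theorem ker_inf_range (hss : E.IsSemisimple) :
    LinearMap.ker (E - 1) ⊓ LinearMap.range (E - 1) = ⊥ := by
  have hN : (E - 1).IsSemisimple := by
    have h0 := (Module.End.isSemisimple_sub_algebraMap_iff (f := E) (μ := (1 : K))).2 hss
    rwa [map_one] at h0
  have hkinv : LinearMap.ker (E - 1) ∈ Module.End.invtSubmodule (E - 1) := by
    rw [Module.End.mem_invtSubmodule]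
    intro x hx
    rw [Submodule.mem_comap, LinearMap.mem_ker.1 hx]
    exact Submodule.zero_mem _
  obtain ⟨C, hCinv, hc⟩ := Module.End.isSemisimple_iff.1 hN _ hkinv
  rw [Module.End.mem_invtSubmodule] at hCinv
  rw [Submodule.eq_bot_iff]
  rintro x ⟨hx1, ⟨y, rfl⟩⟩
  obtain ⟨k, c, rfl⟩ := exists_decomp hc y
  have e1 : (E - 1) ((k : V) + (c : V)) = (E - 1) (c : V) := by
    rw [map_add, LinearMap.mem_ker.1 k.2, zero_add]
  rw [e1] at hx1 ⊢
  have hNc : (E - 1) (c : V) ∈ C := hCinv c.2
  have h2 : (E - 1) (c : V) ∈ LinearMap.ker (E - 1) ⊓ C := ⟨hx1, hNc⟩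
  rw [hc.inf_eq_bot] at h2
  exact (Submodule.mem_bot K).1 h2

theorem ker_eq_orth (hQ : (polarBilin Q).Nondegenerate) (hE : ∀ v, Q (E v) = Q v) :
    LinearMap.ker (E - 1) = LinearMap.BilinForm.orthogonal (polarBilin Q) (LinearMap.range (E - 1)) := by
  apply Submodule.eq_of_le_of_finrank_eq
  · intro y hy
    rw [LinearMap.BilinForm.mem_orthogonal_iff]
    rintro _ ⟨x, rfl⟩
    have hy' : E y = y := by
      have h0 := LinearMap.mem_ker.1 hy
      rw [LinearMap.sub_apply, Module.End.one_apply, sub_eq_zero] at h0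
      exact h0
    change polarBilin Q ((E - 1) x) y = 0
    rw [LinearMap.sub_apply, Module.End.one_apply, map_sub, LinearMap.sub_apply]
    nth_rewrite 1 [← hy']
    rw [polar_inv Q E hE, sub_self]
  · have h1 := LinearMap.finrank_range_add_finrank_ker (E - 1)
    have h2 := LinearMap.BilinForm.finrank_orthogonal hQ (LinearMap.range (E - 1))
    have h3 : finrank K (LinearMap.range (E - 1)) ≤ finrank K V := Submodule.finrank_le _
    omega

theorem range_invt : LinearMap.range (E - 1) ≤ (LinearMap.range (E - 1)).comap E := by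
  rintro _ ⟨x, rfl⟩
  refine ⟨E x, ?_⟩
  simp only [LinearMap.sub_apply, Module.End.one_apply, map_sub]

theorem disjoint_range (hQ : (polarBilin Q).Nondegenerate) (hE : ∀ v, Q (E v) = Q v)
    (hss : E.IsSemisimple) :
    Disjoint (LinearMap.range (E - 1)) (LinearMap.BilinForm.orthogonal (polarBilin Q) (LinearMap.range (E - 1))) := by
  rw [← ker_eq_orth Q E hQ hE, disjoint_iff, inf_comm]
  exact ker_inf_range E hss

theorem Q_range (hE : ∀ v, Q (E v) = Q v) (y : V) :
    Q ((E - 1) y) = - polarBilin Q ((E - 1) y) y := by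
  rw [LinearMap.sub_apply, Module.End.one_apply, Q_sub, hE, map_sub, LinearMap.sub_apply,
    polar_self']
  ring

theorem exists_preimage_range (hss : E.IsSemisimple) (x : V) (hx : x ∈ LinearMap.range (E - 1)) :
    ∃ y ∈ LinearMap.range (E - 1), (E - 1) y = x := by
  have hR : LinearMap.range (E - 1) ≤ (LinearMap.range (E - 1)).comap (E - 1) := by
    intro z _
    exact ⟨z, rfl⟩
  set Nr : Module.End K (LinearMap.range (E - 1)) := (E - 1).restrict hR with hNr
  have hinj : Function.Injective Nr := by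
    rw [← LinearMap.ker_eq_bot, LinearMap.ker_eq_bot']
    intro z hz
    have h1 : (E - 1) (z : V) = 0 := congrArg Subtype.val hz
    have h2 : (z : V) ∈ LinearMap.ker (E - 1) ⊓ LinearMap.range (E - 1) :=
      ⟨LinearMap.mem_ker.2 h1, z.2⟩
    rw [ker_inf_range E hss] at h2
    exact Subtype.ext ((Submodule.mem_bot K).1 h2)
  obtain ⟨y, hy⟩ := (LinearMap.injective_iff_surjective.1 hinj) ⟨x, hx⟩
  exact ⟨y, y.2, congrArg Subtype.val hy⟩

theorem pow_apply_of_neg {x : V} (hx : E x = -x) (j : ℕ) : (E ^ j) x = (-1 : K) ^ j • x := by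
  induction j with
  | zero => simp
  | succ j ih =>
    rw [pow_succ, Module.End.mul_apply, hx, map_neg, ih, pow_succ]
    simp

theorem nopm_range (hss : E.IsSemisimple) (h2 : (2 : K) ≠ 0) (k : ℕ) (hkodd : Odd k)
    (hEk : E ^ k = 1) (x : V) (hx : x ∈ LinearMap.range (E - 1)) (hxx : E (E x) = x) : x = 0 := by
  have h1 : (E - 1) (E x + x) = 0 := by
    rw [LinearMap.sub_apply, Module.End.one_apply, map_add, hxx]
    abel
  have h3 : E x + x ∈ LinearMap.ker (E - 1) ⊓ LinearMap.range (E - 1) :=
    ⟨LinearMap.mem_ker.2 h1, Submodule.add_mem _ (range_invt E hx) hx⟩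
  rw [ker_inf_range E hss] at h3
  have h4 : E x = -x := eq_neg_of_add_eq_zero_left ((Submodule.mem_bot K).1 h3)
  have h5 := pow_apply_of_neg E h4 k
  rw [hEk, Module.End.one_apply, hkodd.neg_one_pow, neg_smul, one_smul] at h5
  have h6 : (2 : K) • x = 0 := by
    rw [two_smul]
    nth_rewrite 1 [h5]
    exact neg_add_cancel x
  rcases smul_eq_zero.1 h6 with h7 | h7
  · exact absurd h7 h2
  · exact h7

end One

section Main

variable [Finite K] {V : Type u} [AddCommGroup V] [Module K V] [FiniteDimensional K V]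

theorem isSpOp_range (Q : QuadraticForm K V) (hQ : (polarBilin Q).Nondegenerate)
    (E : Module.End K V) (hE : ∀ v, Q (E v) = Q v) (hss : E.IsSemisimple) (h2 : (2 : K) = 0) :
    IsSpOp (LinearMap.BilinForm.restrict (polarBilin Q) (LinearMap.range (E - 1)))
      (E.restrict (range_invt E)) := by
  have hrefl : LinearMap.BilinForm.IsRefl (polarBilin Q) := fun x y hxy => by
    rw [polar_symm]; exact hxy
  have hnd := LinearMap.BilinForm.nondegenerate_restrict_of_disjoint_orthogonal (polarBilin Q)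
    hrefl (disjoint_range Q E hQ hE hss)
  refine ⟨fun x => ?_, fun x hx => hnd.1 x hx, fun x y => ?_, ?_⟩
  · change polarBilin Q (x : V) (x : V) = 0
    rw [polar_self', h2, zero_mul]
  · exact polar_inv Q E hE (x : V) (y : V)
  · exact hss.restrict ((Module.End.mem_invtSubmodule E).2 (range_invt E))

theorem isOrOp_range (Q : QuadraticForm K V) (hQ : (polarBilin Q).Nondegenerate)
    (E : Module.End K V) (hE : ∀ v, Q (E v) = Q v) (hss : E.IsSemisimple) (h2 : (2 : K) ≠ 0)
    (k : ℕ) (hkodd : Odd k) (hEk : E ^ k = 1) :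
    IsOrOp (LinearMap.BilinForm.restrict (polarBilin Q) (LinearMap.range (E - 1)))
      (E.restrict (range_invt E)) := by
  have hrefl : LinearMap.BilinForm.IsRefl (polarBilin Q) := fun x y hxy => by
    rw [polar_symm]; exact hxy
  have hnd := LinearMap.BilinForm.nondegenerate_restrict_of_disjoint_orthogonal (polarBilin Q)
    hrefl (disjoint_range Q E hQ hE hss)
  refine ⟨fun x y => ?_, h2, fun x hx => hnd.1 x hx, fun x y => ?_, ?_, fun x hx => ?_⟩
  · exact polar_symm Q (x : V) (y : V)
  · exact polar_inv Q E hE (x : V) (y : V)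
  · exact hss.restrict ((Module.End.mem_invtSubmodule E).2 (range_invt E))
  · apply Subtype.ext
    exact nopm_range E hss h2 k hkodd hEk (x : V) x.2 (congrArg Subtype.val hx)

/-- odd order semisimple isometries of a nondegenerate quadratic form over a finite field that are
linearly conjugate are conjugate by an isometry -/
theorem conj_abstract (Q : QuadraticForm K V) (hQ : (polarBilin Q).Nondegenerate)
    (EA EB : Module.End K V) (hEA : ∀ v, Q (EA v) = Q v) (hEB : ∀ v, Q (EB v) = Q v)
    (k : ℕ) (hkodd : Odd k) (hk : (k : K) ≠ 0) (hAk : EA ^ k = 1)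
    (P : V ≃ₗ[K] V) (hP : ∀ v, P (EA v) = EB (P v)) :
    ∃ ψ : V ≃ₗ[K] V, (∀ v, Q (ψ v) = Q v) ∧ ∀ v, ψ (EA v) = EB (ψ v) := by
  have hBk : EB ^ k = 1 := by
    apply LinearMap.ext
    intro v
    obtain ⟨w, rfl⟩ := P.surjective v
    have h0 := pow_intertwine EA EB (P : V →ₗ[K] V) (fun v => (hP v).symm) k w
    rw [LinearEquiv.coe_coe] at h0
    rw [h0, hAk, Module.End.one_apply, Module.End.one_apply]
  have hssA := isSemisimple_of_pow EA k hk hAk
  have hssB := isSemisimple_of_pow EB k hk hBk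
  have hrefl : LinearMap.BilinForm.IsRefl (polarBilin Q) := fun x y hxy => by
    rw [polar_symm]; exact hxy
  set RA := LinearMap.range (EA - 1) with hRA
  set RB := LinearMap.range (EB - 1) with hRB
  have hdA := disjoint_range Q EA hQ hEA hssA
  have hdB := disjoint_range Q EB hQ hEB hssB
  have hPR : ∀ x, x ∈ RA → P x ∈ RB := by
    rintro _ ⟨y, rfl⟩
    refine ⟨P y, ?_⟩
    simp only [LinearMap.sub_apply, Module.End.one_apply, map_sub, hP]
  have hPR' : ∀ x, x ∈ RB → P.symm x ∈ RA := by
    rintro _ ⟨y, rfl⟩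
    refine ⟨P.symm y, ?_⟩
    apply P.injective
    simp only [LinearMap.sub_apply, Module.End.one_apply, map_sub, hP,
      LinearEquiv.apply_symm_apply]
  let PR : RA ≃ₗ[K] RB :=
    { toFun := fun x => ⟨P x, hPR x x.2⟩
      invFun := fun y => ⟨P.symm y, hPR' y y.2⟩
      map_add' := fun x y => Subtype.ext (by simp)
      map_smul' := fun c x => Subtype.ext (by simp)
      left_inv := fun x => Subtype.ext (by simp)
      right_inv := fun y => Subtype.ext (by simp) }
  have hcp : (EA.restrict (range_invt EA)).charpoly = (EB.restrict (range_invt EB)).charpoly :=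
    (charpoly_eq_of_equiv (EA.restrict (range_invt EA)) (EB.restrict (range_invt EB)) PR
      (fun v => Subtype.ext (hP v).symm)).symm
  have hconj : Conj (LinearMap.BilinForm.restrict (polarBilin Q) RA)
      (LinearMap.BilinForm.restrict (polarBilin Q) RB)
      (EA.restrict (range_invt EA)) (EB.restrict (range_invt EB)) := by
    by_cases h2 : (2 : K) = 0
    · exact Cfsg.Agent.Lib.Helper8.SpSS.main (isSpOp_range Q hQ EA hEA hssA h2)
        (isSpOp_range Q hQ EB hEB hssB h2) hcp
    · exact Cfsg.Agent.Lib.Helper8.OrSS.main (isOrOp_range Q hQ EA hEA hssA h2 k hkodd hAk)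
        (isOrOp_range Q hQ EB hEB hssB h2 k hkodd hBk) hcp
  obtain ⟨φ, hφ1, hφ2⟩ := hconj
  have hφ1' : ∀ x : RA, ((φ (EA.restrict (range_invt EA) x) : RB) : V) = EB (φ x : V) :=
    fun x => congrArg Subtype.val (hφ1 x)
  have hφ2' : ∀ x y : RA, polarBilin Q (φ x : V) (φ y : V) = polarBilin Q (x : V) (y : V) :=
    fun x y => hφ2 x y
  have hφQ : ∀ x : RA, Q (φ x : V) = Q (x : V) := by
    intro x
    obtain ⟨y, hyR, hy⟩ := exists_preimage_range EA hssA (x : V) x.2
    have e1 : Q (x : V) = - polarBilin Q (x : V) y := by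
      rw [← hy]
      exact Q_range Q EA hEA y
    have e2 : x = EA.restrict (range_invt EA) ⟨y, hyR⟩ - ⟨y, hyR⟩ := by
      apply Subtype.ext
      rw [← hy]
      rfl
    have e3 : (φ x : V) = (EB - 1) (φ ⟨y, hyR⟩ : V) := by
      rw [e2, map_sub, LinearMap.sub_apply, Module.End.one_apply, ← hφ1']
      rfl
    have e4 : Q (φ x : V) = - polarBilin Q (φ x : V) (φ ⟨y, hyR⟩ : V) := by
      rw [e3]
      exact Q_range Q EB hEB _
    rw [e4, hφ2', e1]
  obtain ⟨ψ, hψQ, hψφ⟩ := Cfsg.Agent.S0750.result Q hQ RA RB φ hφQ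
  have hψβ : ∀ x y, polarBilin Q (ψ x) (ψ y) = polarBilin Q x y :=
    polar_inv Q (ψ : V →ₗ[K] V) hψQ
  have hcA : IsCompl RA (LinearMap.BilinForm.orthogonal (polarBilin Q) RA) :=
    (LinearMap.BilinForm.isCompl_orthogonal_iff_disjoint hrefl).2 hdA
  refine ⟨ψ, hψQ, fun v => ?_⟩
  obtain ⟨r, c, rfl⟩ := exists_decomp hcA v
  have h1 : ψ (EA (r : V)) = EB (ψ (r : V)) := by
    have e1 : EA (r : V) = ((EA.restrict (range_invt EA) r : RA) : V) := rfl
    rw [e1, hψφ, hψφ, hφ1']
  have hc1 : EA (c : V) = c := by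
    have h0 : (c : V) ∈ LinearMap.ker (EA - 1) := by
      rw [ker_eq_orth Q EA hQ hEA]
      exact c.2
    have h3 := LinearMap.mem_ker.1 h0
    rw [LinearMap.sub_apply, Module.End.one_apply, sub_eq_zero] at h3
    exact h3
  have h2 : EB (ψ (c : V)) = ψ (c : V) := by
    have h0 : ψ (c : V) ∈ LinearMap.ker (EB - 1) := by
      rw [ker_eq_orth Q EB hQ hEB, LinearMap.BilinForm.mem_orthogonal_iff]
      intro z hz
      obtain ⟨x', hx'⟩ := φ.surjective ⟨z, hz⟩
      have e1 : z = ψ (x' : V) := by
        rw [hψφ, hx']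
      change polarBilin Q z (ψ (c : V)) = 0
      rw [e1, hψβ]
      exact (LinearMap.BilinForm.mem_orthogonal_iff.1 c.2) x' x'.2
    have h3 := LinearMap.mem_ker.1 h0
    rw [LinearMap.sub_apply, Module.End.one_apply, sub_eq_zero] at h3
    exact h3
  rw [map_add, map_add, map_add, map_add, h1, hc1, h2]

end Main

end Cfsg.Agent.Lib.Helper8.OrSS
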