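import Mathlib
import Cfsg.Prelude.Def_Classical
import Cfsg.Agent.Lib.Helper8.OrSSE
import Cfsg.Agent.H9.SemisimpleConj
import Cfsg.Agent.Lib.Helper8.SUSSE

/-!
# Isometry groups of quadratic forms on `ι → F`: matrices, characteristic polynomials, semisimple
conjugacy (helper8)
-/

set_option autoImplicit false
set_option linter.unusedSectionVars false

namespace Cfsg.Agent.Lib.Helper8.OrPrime

open Polynomial QuadraticMap Module Matrix

universe v

variable {F : Type v} [Field F] {ι : Type} [Fintype ι] [DecidableEq ι]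

local notation "Mt" => Matrix ι ι F

/-- the matrix of an element of the isometry group -/
abbrev omat {Q : (ι → F) → F} (g : ↥(Cfsg.isometryGroup F Q)) : Mt :=
  ((g : Matrix.GeneralLinearGroup ι F) : Mt)

section Basic

variable {Q : (ι → F) → F}

theorem omat_mul (g h : ↥(Cfsg.isometryGroup F Q)) : omat (g * h) = omat g * omat h := rfl

theorem omat_one : omat (1 : ↥(Cfsg.isometryGroup F Q)) = 1 := rfl

theorem omat_pow (g : ↥(Cfsg.isometryGroup F Q)) (k : ℕ) : omat (g ^ k) = omat g ^ k := by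
  induction k with
  | zero => rfl
  | succ k ih => rw [pow_succ, pow_succ, omat_mul, ih]

theorem omat_injective : Function.Injective (omat : ↥(Cfsg.isometryGroup F Q) → Mt) := by
  intro g h hgh
  apply Subtype.ext
  apply Units.ext
  exact hgh

theorem omat_isom (g : ↥(Cfsg.isometryGroup F Q)) (v : ι → F) : Q (omat g *ᵥ v) = Q v :=
  g.2 v v

theorem omat_charpoly_eq_of_isConj {g h : ↥(Cfsg.isometryGroup F Q)} (hc : IsConj g h) :
    (omat g).charpoly = (omat h).charpoly := by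
  obtain ⟨x, hx⟩ := isConj_iff.1 hc
  rw [← hx, omat_mul, omat_mul, Matrix.mul_assoc, Matrix.charpoly_mul_comm, Matrix.mul_assoc,
    ← omat_mul, inv_mul_cancel, omat_one, Matrix.mul_one]

theorem omat_charpoly_natDegree (g : ↥(Cfsg.isometryGroup F Q)) :
    (omat g).charpoly.natDegree = Fintype.card ι := by
  rw [Matrix.charpoly_natDegree_eq_dim]

/-- a matrix preserving `Q` gives an element of the isometry group -/
theorem exists_of_matrix (A : Mt) (hdet : A.det ≠ 0) (hA : ∀ v, Q (A *ᵥ v) = Q v) :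
    ∃ g : ↥(Cfsg.isometryGroup F Q), omat g = A := by
  set kG : GL ι F := Matrix.GeneralLinearGroup.mkOfDetNeZero A hdet with hkG
  have hk : kG ∈ Cfsg.isometryGroup F Q := fun u _ => hA u
  exact ⟨⟨kG, hk⟩, rfl⟩

end Basic

section Finite

variable [Fintype F] {Q : (ι → F) → F}

theorem omat_charpoly_pow_card_pow (g : ↥(Cfsg.isometryGroup F Q)) (M : ℕ) :
    (omat (g ^ (Fintype.card F ^ M))).charpoly = (omat g).charpoly := by
  induction M with
  | zero => simp
  | succ M ih =>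
    rw [pow_succ, pow_mul, omat_pow, FiniteField.Matrix.charpoly_pow_card, ih]

theorem exists_coprime_same_charpoly (p : ℕ) [Fact p.Prime] [CharP F p]
    (g : ↥(Cfsg.isometryGroup F Q)) :
    ∃ h : ↥(Cfsg.isometryGroup F Q), (orderOf h).Coprime p ∧
      (omat h).charpoly = (omat g).charpoly := by
  have hp : p.Prime := Fact.out
  obtain ⟨e, -, hqe⟩ := FiniteField.card F p
  have hm0 : orderOf g ≠ 0 := (orderOf_pos g).ne'
  obtain ⟨a, m', hpm', hm⟩ := Nat.exists_eq_pow_mul_and_not_dvd hm0 p hp.ne_one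
  refine ⟨g ^ (Fintype.card F ^ a), ?_, omat_charpoly_pow_card_pow g a⟩
  have h1 : (g ^ (Fintype.card F ^ a)) ^ m' = 1 := by
    rw [← pow_mul]
    apply orderOf_dvd_iff_pow_eq_one.1
    rw [hm, hqe, ← pow_mul]
    apply Nat.mul_dvd_mul_right
    apply pow_dvd_pow
    have : 1 ≤ (e : ℕ) := e.pos
    nlinarith
  have h2 := orderOf_dvd_of_pow_eq_one h1
  have h3 : m'.Coprime p := ((Nat.Prime.coprime_iff_not_dvd hp).2 hpm').symm
  exact Nat.Coprime.coprime_dvd_left h2 h3

theorem isSemisimple_of_orderOf_coprime (p : ℕ) [Fact p.Prime] [CharP F p]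
    (g : ↥(Cfsg.isometryGroup F Q)) (hg : (orderOf g).Coprime p) :
    Module.End.IsSemisimple (Matrix.toLin' (omat g)) := by
  apply Cfsg.Agent.H9.SemisimpleConj.isSemisimple_of_pow_eq_one _ (orderOf g)
    (Cfsg.Agent.Lib.Helper8.SUSS.natCast_ne_zero_of_coprime p _ hg)
  rw [← omat_pow, pow_orderOf_eq_one, omat_one]

end Finite

section Conj

variable [Fintype F]

/-- odd order semisimple elements of a finite orthogonal group with the same characteristic
polynomial are conjugate -/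
theorem isConj_of_charpoly_eq (p : ℕ) [Fact p.Prime] [CharP F p] (Q : QuadraticForm F (ι → F))
    (hQ : (QuadraticMap.polarBilin Q).Nondegenerate) (A B : ↥(Cfsg.isometryGroup F ⇑Q))
    (hodd : Odd (orderOf A)) (hA : (orderOf A).Coprime p) (hB : (orderOf B).Coprime p)
    (hc : (omat A).charpoly = (omat B).charpoly) : IsConj A B := by
  have hk : ((orderOf A : ℕ) : F) ≠ 0 :=
    Cfsg.Agent.Lib.Helper8.SUSS.natCast_ne_zero_of_coprime p _ hA
  obtain ⟨c, hc⟩ := Cfsg.Agent.H9.SemisimpleConj.exists_gl_conj (omat A) (omat B)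
    (isSemisimple_of_orderOf_coprime p A hA) (isSemisimple_of_orderOf_coprime p B hB) hc
  set Am : Mt := omat A with hAm
  set Bm : Mt := omat B with hBm
  have hEA : ∀ v, Q (Matrix.toLin' Am v) = Q v := by
    intro v
    rw [Matrix.toLin'_apply]
    exact omat_isom A v
  have hEB : ∀ v, Q (Matrix.toLin' Bm v) = Q v := by
    intro v
    rw [Matrix.toLin'_apply]
    exact omat_isom B v
  have hAk : Matrix.toLin' Am ^ orderOf A = 1 := by
    rw [← Matrix.toLin'_pow]
    have h1 : Am ^ orderOf A = 1 := by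
      rw [hAm, ← omat_pow, pow_orderOf_eq_one, omat_one]
    rw [h1, Matrix.toLin'_one]
    rfl
  let P : (ι → F) ≃ₗ[F] (ι → F) :=
    LinearEquiv.ofLinearMap (Matrix.toLin' (c : Mt))
      (Matrix.toLin' ((c⁻¹ : (Mt)ˣ) : Mt))
      (by rw [← Matrix.toLin'_mul, Units.mul_inv, Matrix.toLin'_one])
      (by rw [← Matrix.toLin'_mul, Units.inv_mul, Matrix.toLin'_one])
  have hP : ∀ v, P (Matrix.toLin' Am v) = Matrix.toLin' Bm (P v) := by
    intro v
    change Matrix.toLin' (c : Mt) (Matrix.toLin' Am v) =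
      Matrix.toLin' Bm (Matrix.toLin' (c : Mt) v)
    rw [← LinearMap.comp_apply, ← LinearMap.comp_apply, ← Matrix.toLin'_mul, ← Matrix.toLin'_mul,
      hc]
  obtain ⟨ψ, hψQ, hψ⟩ := Cfsg.Agent.Lib.Helper8.OrSS.conj_abstract Q hQ (Matrix.toLin' Am)
    (Matrix.toLin' Bm) hEA hEB (orderOf A) hodd hk hAk P hP
  have h1 : LinearMap.toMatrix' (ψ : (ι → F) →ₗ[F] (ι → F)) *
      LinearMap.toMatrix' (ψ.symm : (ι → F) →ₗ[F] (ι → F)) = 1 := by
    rw [← LinearMap.toMatrix'_comp, LinearEquiv.comp_symm, LinearMap.toMatrix'_id]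
  have h2 : LinearMap.toMatrix' (ψ.symm : (ι → F) →ₗ[F] (ι → F)) *
      LinearMap.toMatrix' (ψ : (ι → F) →ₗ[F] (ι → F)) = 1 := by
    rw [← LinearMap.toMatrix'_comp, LinearEquiv.symm_comp, LinearMap.toMatrix'_id]
  set g : Matrix.GeneralLinearGroup ι F :=
    ⟨LinearMap.toMatrix' (ψ : (ι → F) →ₗ[F] (ι → F)),
      LinearMap.toMatrix' (ψ.symm : (ι → F) →ₗ[F] (ι → F)), h1, h2⟩ with hg
  have hgv : ∀ v, (g : Mt) *ᵥ v = ψ v := by
    intro v
    change LinearMap.toMatrix' (ψ : (ι → F) →ₗ[F] (ι → F)) *ᵥ v = ψ v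
    rw [← Matrix.toLin'_apply, Matrix.toLin'_toMatrix']
    rfl
  have hgmem : g ∈ Cfsg.isometryGroup F ⇑Q := by
    intro u v
    change Q ((g : Mt) *ᵥ u) = Q u
    rw [hgv, hψQ]
  have hcomm : (g : Mt) * Am = Bm * (g : Mt) := by
    apply Matrix.toLin'.injective
    apply LinearMap.ext
    intro v
    rw [Matrix.toLin'_mul, Matrix.toLin'_mul, LinearMap.comp_apply, LinearMap.comp_apply,
      Matrix.toLin'_apply (g : Mt), Matrix.toLin'_apply (g : Mt), hgv, hgv, hψ]
  rw [isConj_iff]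
  refine ⟨⟨g, hgmem⟩, ?_⟩
  rw [mul_inv_eq_iff_eq_mul]
  apply Subtype.ext
  apply Units.ext
  exact hcomm

end Conj

section Rev

/-- the Gram matrix of the polar form -/
theorem exists_gram (Q : QuadraticForm F (ι → F))
    (hQ : (QuadraticMap.polarBilin Q).Nondegenerate) :
    ∃ S : Mt, IsUnit S.det ∧ ∀ A : ↥(Cfsg.isometryGroup F ⇑Q), (omat A)ᵀ * S * omat A = S := by
  set S : Mt := LinearMap.toMatrix₂' F (QuadraticMap.polarBilin Q) with hS
  have hSB : Matrix.toLinearMap₂' F S = QuadraticMap.polarBilin Q := by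
    rw [hS]
    exact Matrix.toLinearMap₂'_toMatrix' _
  have hSapp : ∀ x y, x ⬝ᵥ S.mulVec y = QuadraticMap.polar Q x y := by
    intro x y
    rw [← Matrix.toLinearMap₂'_apply', hSB, QuadraticMap.polarBilin_apply_apply]
  refine ⟨S, ?_, ?_⟩
  · rw [isUnit_iff_ne_zero, ← LinearMap.nondegenerate_toLinearMap₂'_iff_det_ne_zero, hSB]
    exact hQ
  · intro A
    have hentry : ∀ (M : Mt) (i j : ι),
        M i j = (Pi.single i 1 : ι → F) ⬝ᵥ M.mulVec (Pi.single j 1) := by
      intro M i j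
      simp
    ext i j
    rw [hentry ((omat A)ᵀ * S * omat A) i j, hentry S i j]
    generalize (Pi.single i 1 : ι → F) = x
    generalize (Pi.single j 1 : ι → F) = y
    have hdm : ∀ (R M : Mt) (x y : ι → F),
        (R.mulVec x) ⬝ᵥ M.mulVec (R.mulVec y) = x ⬝ᵥ (Rᵀ * M * R).mulVec y := by
      intro R M x y
      rw [← Matrix.mulVec_mulVec, ← Matrix.mulVec_mulVec, Matrix.dotProduct_mulVec x Rᵀ,
        Matrix.vecMul_transpose]
    rw [← hdm, hSapp, hSapp]
    have hA : ∀ u, Q (omat A *ᵥ u) = Q u := omat_isom A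
    rw [QuadraticMap.polar, QuadraticMap.polar, ← Matrix.mulVec_add, hA, hA, hA]

/-- the characteristic polynomial of an isometry is self-reciprocal up to a scalar -/
theorem omat_charpoly_reverse (Q : QuadraticForm F (ι → F))
    (hQ : (QuadraticMap.polarBilin Q).Nondegenerate) (A : ↥(Cfsg.isometryGroup F ⇑Q)) :
    ∃ c : F, (omat A).charpoly.reverse = C c * (omat A).charpoly := by
  obtain ⟨S, hS, hinv⟩ := exists_gram Q hQ
  have hAu : IsUnit (omat A) := by
    rw [Matrix.isUnit_iff_isUnit_det]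
    exact (Matrix.isUnits_det_units (A : Matrix.GeneralLinearGroup ι F))
  have hSu : IsUnit S := (Matrix.isUnit_iff_isUnit_det _).2 hS
  -- `A⁻¹ = S⁻¹ Aᵀ S`
  have h1 : (omat A)⁻¹ = S⁻¹ * (omat A)ᵀ * S := by
    have h2 : S⁻¹ * (omat A)ᵀ * S * omat A = 1 := by
      rw [Matrix.mul_assoc, Matrix.mul_assoc, ← Matrix.mul_assoc (omat A)ᵀ, hinv A,
        Matrix.nonsing_inv_mul _ hS]
    exact Matrix.inv_eq_left_inv h2
  have h3 : ((omat A)⁻¹).charpoly = (omat A).charpoly := by
    rw [h1, Matrix.mul_assoc, Matrix.charpoly_mul_comm, Matrix.mul_assoc,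
      Matrix.mul_nonsing_inv _ hS, Matrix.mul_one, Matrix.charpoly_transpose]
  rw [Matrix.charpoly_inv _ hAu, ← Matrix.reverse_charpoly] at h3
  have hdet : (omat A).det ≠ 0 := (Matrix.isUnit_iff_isUnit_det _).1 hAu |>.ne_zero
  refine ⟨(-1) ^ Fintype.card ι * (omat A).det, ?_⟩
  rw [Ring.inverse_eq_inv'] at h3
  have e1 : (C ((-1 : F) ^ Fintype.card ι * (omat A).det)) *
      ((-1 : F[X]) ^ Fintype.card ι * C ((omat A).det)⁻¹) = 1 := by
    rw [map_mul, map_pow, map_neg, map_one]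
    calc (-1 : F[X]) ^ Fintype.card ι * C (omat A).det *
          ((-1) ^ Fintype.card ι * C ((omat A).det)⁻¹)
        = ((-1 : F[X]) ^ Fintype.card ι * (-1) ^ Fintype.card ι) *
          (C (omat A).det * C ((omat A).det)⁻¹) := by ring
      _ = 1 := by
        rw [← mul_pow, neg_one_mul, neg_neg, one_pow, ← map_mul, mul_inv_cancel₀ hdet, map_one,
          one_mul]
  calc (omat A).charpoly.reverse = 1 * (omat A).charpoly.reverse := (one_mul _).symm
    _ = (C ((-1 : F) ^ Fintype.card ι * (omat A).det)) *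
      ((-1 : F[X]) ^ Fintype.card ι * C ((omat A).det)⁻¹) * (omat A).charpoly.reverse := by
        rw [e1]
    _ = C ((-1 : F) ^ Fintype.card ι * (omat A).det) * (omat A).charpoly := by
        rw [mul_assoc, h3]

end Rev

end Cfsg.Agent.Lib.Helper8.OrPrime
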