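import Mathlib
import Cfsg.Agent.Lib.Helper8.OrPrimeC
import Cfsg.Agent.Lib.Helper8.OrPrimeD

/-!
# Elements of prime order of the isometry group of a quadratic form: multiplicity functions and
semisimple parts (helper8)
-/

set_option autoImplicit false
set_option linter.unusedSectionVars false

namespace Cfsg.Agent.Lib.Helper8.OrPrime

open Polynomial QuadraticMap Module Matrix Cfsg.Agent.Lib.Helper8.QType
  Cfsg.Agent.Lib.Helper8.PrimeOrd Cfsg.Agent.Lib.Helper8.SelfRec

universe u v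

section Conv

variable {F : Type v} [Field F] {ι : Type} [Fintype ι] [DecidableEq ι]

/-- a linear isometry of `ι → F` gives an element of the isometry group -/
theorem exists_of_linearEquiv {Q : (ι → F) → F} (g : (ι → F) ≃ₗ[F] (ι → F))
    (hg : ∀ v, Q (g v) = Q v) :
    ∃ h : ↥(Cfsg.isometryGroup F Q), (∀ v, omat h *ᵥ v = g v) ∧
      (omat h).charpoly = (g : (ι → F) →ₗ[F] (ι → F)).charpoly := by
  set A : Matrix ι ι F := LinearMap.toMatrix' (g : (ι → F) →ₗ[F] (ι → F)) with hA
  set B : Matrix ι ι F := LinearMap.toMatrix' (g.symm : (ι → F) →ₗ[F] (ι → F)) with hB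
  have hAB : A * B = 1 := by
    rw [hA, hB, ← LinearMap.toMatrix'_comp, LinearEquiv.comp_symm, LinearMap.toMatrix'_id]
  have hdet : A.det ≠ 0 := by
    have := congrArg Matrix.det hAB
    rw [Matrix.det_mul, Matrix.det_one] at this
    exact left_ne_zero_of_mul_eq_one this
  have hAv : ∀ v, A *ᵥ v = g v := by
    intro v
    rw [← Matrix.toLin'_apply, hA, Matrix.toLin'_toMatrix']
    rfl
  obtain ⟨h, hh⟩ := exists_of_matrix (Q := Q) A hdet (fun v => by rw [hAv, hg])
  refine ⟨h, fun v => by rw [hh, hAv], ?_⟩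
  rw [hh, ← Matrix.charpoly_toLin', hA, Matrix.toLin'_toMatrix']

end Conv

variable {F : Type v} [Field F] [Fintype F] [DecidableEq F] {r : ℕ} [hr : Fact r.Prime]

section Grp

variable {ι : Type} [Fintype ι] [DecidableEq ι]

theorem exists_mult_o {Q : (ι → F) → F} (g : ↥(Cfsg.isometryGroup F Q)) (hg : g ^ r = 1) :
    ∃ e' : Option ↥(cycFactors F r) → ℕ, (omat g).charpoly = fe (PPo F r) e' := by
  have hM : (omat g) ^ r = 1 := by
    rw [← omat_pow, hg, omat_one]
  apply exists_fe (PPo F r) _ _ rfl (Matrix.charpoly_monic _)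
  intro h hm hi hd
  exact exists_PPo hm hi (dvd_X_pow_sub_one _ r hM hi hd)

theorem mult_symm_o (hrF : (r : F) ≠ 0) (Q : QuadraticForm F (ι → F))
    (hQ : (QuadraticMap.polarBilin Q).Nondegenerate) (g : ↥(Cfsg.isometryGroup F ⇑Q))
    (e' : Option ↥(cycFactors F r) → ℕ) (he : (omat g).charpoly = fe (PPo F r) e') :
    e' ∘ Option.map (sIdx (RingHom.id F) (fun _ => rfl) hrF) = e' := by
  obtain ⟨c, hc⟩ := omat_charpoly_reverse Q hQ g
  apply comp_eq_of_rv_fe (RingHom.id F) (isFam_PPo hrF) PPo_coeff_zero _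
    (optionMap_involutive _ _ hrF) (PPo_rc _ _ hrF) e' c
  rw [← he]
  unfold rv
  rw [Polynomial.map_id]
  exact hc

/-- the semisimple part: an element with the same characteristic polynomial and `r`-th power
one -/
theorem exists_pow_eq_one (p : ℕ) [Fact p.Prime] [CharP F p] {Q : (ι → F) → F}
    (g : ↥(Cfsg.isometryGroup F Q)) (e' : Option ↥(cycFactors F r) → ℕ)
    (he : (omat g).charpoly = fe (PPo F r) e') :
    ∃ h : ↥(Cfsg.isometryGroup F Q), h ^ r = 1 ∧ (omat h).charpoly = fe (PPo F r) e' := by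
  obtain ⟨h, hcop, hch⟩ := exists_coprime_same_charpoly p g
  have hss := isSemisimple_of_orderOf_coprime p h hcop
  refine ⟨h, ?_, by rw [hch, he]⟩
  apply omat_injective
  rw [omat_pow, omat_one]
  apply pow_eq_one_of_semisimple (omat h) hss r (∑ o, e' o)
  rw [hch, he]
  exact fe_PPo_dvd e'

theorem orderOf_eq_of_mult (hrF : (r : F) ≠ 0) {Q : (ι → F) → F}
    (h : ↥(Cfsg.isometryGroup F Q)) (hpow : h ^ r = 1) (e' : Option ↥(cycFactors F r) → ℕ)
    (he : (omat h).charpoly = fe (PPo F r) e') (hne : ∃ j, e' (some j) ≠ 0) : orderOf h = r := by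
  apply orderOf_eq_prime hpow
  intro h1
  obtain ⟨j, hj⟩ := hne
  have h2 : (omat h).charpoly = (X - 1) ^ Fintype.card ι := by
    rw [h1, omat_one]
    exact Matrix.charpoly_one
  rw [he, ← fe_PPo_single (F := F) (r := r)] at h2
  have h3 := fe_injective (isFam_PPo hrF) h2
  have := congrFun h3 (some j)
  exact hj (by simpa using this)

/-- a linear isometry of `ι → F` with the right characteristic polynomial gives an element of
order `r` of the isometry group -/
theorem exists_orderOf_eq (p : ℕ) [Fact p.Prime] [CharP F p] (hrF : (r : F) ≠ 0)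
    {Q : (ι → F) → F} (g : (ι → F) ≃ₗ[F] (ι → F)) (hg : ∀ v, Q (g v) = Q v)
    (e' : Option ↥(cycFactors F r) → ℕ)
    (he : (g : (ι → F) →ₗ[F] (ι → F)).charpoly = fe (PPo F r) e')
    (hne : ∃ j, e' (some j) ≠ 0) :
    ∃ h : ↥(Cfsg.isometryGroup F Q), orderOf h = r ∧ (omat h).charpoly = fe (PPo F r) e' := by
  obtain ⟨h₀, -, hc₀⟩ := exists_of_linearEquiv (Q := Q) g hg
  obtain ⟨h, hpow, hc⟩ := exists_pow_eq_one p h₀ e' (by rw [hc₀, he])
  exact ⟨h, orderOf_eq_of_mult hrF h hpow e' hc hne, hc⟩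

end Grp

section Abs

variable {V : Type u} [AddCommGroup V] [Module F V] [FiniteDimensional F V]

/-- the semisimple part of an isometry of an abstract quadratic space -/
theorem exists_pow_eq_one_abstract (p : ℕ) [Fact p.Prime] [CharP F p] (Q : QuadraticForm F V)
    (g : V ≃ₗ[F] V) (hg : ∀ v, Q (g v) = Q v) (e' : Option ↥(cycFactors F r) → ℕ)
    (he : (g : V →ₗ[F] V).charpoly = fe (PPo F r) e') :
    ∃ g₁ : Module.End F V, (∀ v, Q (g₁ v) = Q v) ∧ (∀ v, (⇑g₁)^[r] v = v) ∧
      g₁.charpoly = fe (PPo F r) e' := by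
  set n := finrank F V with hn
  let b : Basis (Fin n) F V := Module.finBasis F V
  let φ : V ≃ₗ[F] (Fin n → F) := b.equivFun
  let Qs : (Fin n → F) → F := fun v => Q (φ.symm v)
  let G : (Fin n → F) ≃ₗ[F] (Fin n → F) := (φ.symm.trans g).trans φ
  have hG : ∀ v, Qs (G v) = Qs v := by
    intro v
    change Q (φ.symm (φ (g (φ.symm v)))) = Q (φ.symm v)
    rw [LinearEquiv.symm_apply_apply, hg]
  have hGc : (G : (Fin n → F) →ₗ[F] (Fin n → F)).charpoly = fe (PPo F r) e' := by
    rw [← he]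
    exact Cfsg.Agent.H9.SemisimpleConj.charpoly_eq_of_equiv (g : V →ₗ[F] V)
      (G : (Fin n → F) →ₗ[F] (Fin n → F)) φ (fun v => by
        change φ (g (φ.symm (φ v))) = φ (g v)
        rw [LinearEquiv.symm_apply_apply])
  obtain ⟨h₀, -, hc₀⟩ := exists_of_linearEquiv (Q := Qs) G hG
  obtain ⟨h, hpow, hc⟩ := exists_pow_eq_one p h₀ e' (by rw [hc₀, hGc])
  set A : Matrix (Fin n) (Fin n) F := omat h with hA
  have hAr : A ^ r = 1 := by
    rw [hA, ← omat_pow, hpow, omat_one]
  let g₁ : Module.End F V := (φ.symm : (Fin n → F) →ₗ[F] V) ∘ₗ Matrix.toLin' A ∘ₗ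
    (φ : V →ₗ[F] (Fin n → F))
  have hg₁ : ∀ v, g₁ v = φ.symm (A *ᵥ φ v) := by
    intro v
    change φ.symm (Matrix.toLin' A (φ v)) = _
    rw [Matrix.toLin'_apply]
  have hiter : ∀ (k : ℕ) (v : V), (⇑g₁)^[k] v = φ.symm ((A ^ k) *ᵥ φ v) := by
    intro k
    induction k with
    | zero =>
      intro v
      rw [pow_zero, Matrix.one_mulVec, LinearEquiv.symm_apply_apply]
      rfl
    | succ k ih =>
      intro v
      rw [Function.iterate_succ_apply', ih, hg₁, LinearEquiv.apply_symm_apply,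
        Matrix.mulVec_mulVec, ← pow_succ']
  refine ⟨g₁, ?_, ?_, ?_⟩
  · intro v
    rw [hg₁]
    have := omat_isom h (φ v)
    change Q (φ.symm (omat h *ᵥ φ v)) = Q (φ.symm (φ v)) at this
    rw [LinearEquiv.symm_apply_apply] at this
    exact this
  · intro v
    rw [hiter, hAr, Matrix.one_mulVec, LinearEquiv.symm_apply_apply]
  · rw [← hc, ← Matrix.charpoly_toLin']
    exact Cfsg.Agent.H9.SemisimpleConj.charpoly_eq_of_equiv (Matrix.toLin' A) g₁ φ.symm
      (fun v => by
        change φ.symm (Matrix.toLin' A (φ (φ.symm v))) = _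
        rw [LinearEquiv.apply_symm_apply])

end Abs

end Cfsg.Agent.Lib.Helper8.OrPrime
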