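import Mathlib
import Cfsg.Agent.Lib.Helper8.OrPrimeE

/-!
# Classes of elements of prime order `r ≠ p` in a finite orthogonal group: the bijection with
admissible symmetric multiplicity functions (helper8)
-/

set_option autoImplicit false
set_option linter.unusedSectionVars false

namespace Cfsg.Agent.Lib.Helper8.OrPrime

open Polynomial QuadraticMap Module Matrix Cfsg.Agent.Lib.Helper8.QType
  Cfsg.Agent.Lib.Helper8.PrimeOrd Cfsg.Agent.Lib.Helper8.SelfRec

universe v

variable {F : Type v} [Field F] [Fintype F] [DecidableEq F] {r : ℕ} [hr : Fact r.Prime]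
  {ι : Type} [Fintype ι] [DecidableEq ι]

/-- the classes of elements of order `r` in the isometry group of `Q` correspond to the non-zero
admissible symmetric multiplicity functions, provided admissibility (`R`) is necessary and
sufficient for existence -/
theorem o_classes_card (p : ℕ) [Fact p.Prime] [CharP F p] (hrp : r ≠ p) (hr2 : r ≠ 2)
    (Q : QuadraticForm F (ι → F)) (hQ : (QuadraticMap.polarBilin Q).Nondegenerate)
    (i : ℕ) (hipos : 0 < i) (hdeg : ∀ j : ↥(cycFactors F r), (PP F r j).natDegree = i)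
    (hrF : (r : F) ≠ 0) (R : (↥(cycFactors F r) → ℕ) → Prop) (hR0 : R 0)
    (hnec : ∀ (g : ↥(Cfsg.isometryGroup F ⇑Q)) (e' : Option ↥(cycFactors F r) → ℕ),
      orderOf g = r → (omat g).charpoly = fe (PPo F r) e' → R (fun j => e' (some j)))
    (hex : ∀ e : ↥(cycFactors F r) → ℕ,
      e ∘ sIdx (RingHom.id F) (fun _ => rfl) hrF = e → i * ∑ j, e j ≤ Fintype.card ι → e ≠ 0 →
      R e → ∃ h : ↥(Cfsg.isometryGroup F ⇑Q), orderOf h = r ∧
        (omat h).charpoly =
          fe (PPo F r) (fun o => Option.elim o (Fintype.card ι - i * ∑ j, e j) e)) :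
    Nat.card {C : ConjClasses ↥(Cfsg.isometryGroup F ⇑Q) //
      ∃ g : ↥(Cfsg.isometryGroup F ⇑Q), ConjClasses.mk g = C ∧ orderOf g = r} + 1 =
    Nat.card {e : ↥(cycFactors F r) → ℕ //
      e ∘ sIdx (RingHom.id F) (fun _ => rfl) hrF = e ∧ i * ∑ j, e j ≤ Fintype.card ι ∧ R e} := by
  classical
  set s := sIdx (RingHom.id F) (fun _ => rfl) hrF with hs_def
  set N := Fintype.card ι with hN
  have hcop : r.Coprime p := (Nat.coprime_primes hr.out Fact.out).2 hrp
  have hrodd : Odd r := hr.out.odd_of_ne_two hr2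
  let 𝒞 := {C : ConjClasses ↥(Cfsg.isometryGroup F ⇑Q) //
      ∃ g : ↥(Cfsg.isometryGroup F ⇑Q), ConjClasses.mk g = C ∧ orderOf g = r}
  let D₀ := {e : ↥(cycFactors F r) → ℕ // e ∘ s = e ∧ i * ∑ j, e j ≤ N ∧ R e}
  let rep : 𝒞 → ↥(Cfsg.isometryGroup F ⇑Q) := fun c => Classical.choose c.2
  have hrep : ∀ c : 𝒞, ConjClasses.mk (rep c) = c.1 ∧ orderOf (rep c) = r :=
    fun c => Classical.choose_spec c.2
  have hreppow : ∀ c : 𝒞, (rep c) ^ r = 1 := fun c => by
    have := pow_orderOf_eq_one (rep c)
    rwa [(hrep c).2] at this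
  have hrepcop : ∀ c : 𝒞, (orderOf (rep c)).Coprime p := fun c => by
    rw [(hrep c).2]; exact hcop
  have hss : ∀ c : 𝒞, Module.End.IsSemisimple (Matrix.toLin' (omat (rep c))) :=
    fun c => isSemisimple_of_orderOf_coprime p _ (hrepcop c)
  let E' : 𝒞 → (Option ↥(cycFactors F r) → ℕ) :=
    fun c => Classical.choose (exists_mult_o (rep c) (hreppow c))
  have hE' : ∀ c : 𝒞, (omat (rep c)).charpoly = fe (PPo F r) (E' c) :=
    fun c => Classical.choose_spec (exists_mult_o (rep c) (hreppow c))
  have hdegc : ∀ c : 𝒞, E' c none + i * ∑ j, E' c (some j) = N := by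
    intro c
    rw [← natDegree_fe_PPo hrF i hdeg, ← hE' c, omat_charpoly_natDegree]
  have hΦmem : ∀ c : 𝒞, (fun j => E' c (some j)) ∘ s = (fun j => E' c (some j)) ∧
      i * ∑ j, E' c (some j) ≤ N ∧ R (fun j => E' c (some j)) := by
    intro c
    refine ⟨?_, ?_, ?_⟩
    · have := mult_symm_o hrF Q hQ (rep c) (E' c) (hE' c)
      funext j
      exact congrFun this (some j)
    · have := hdegc c
      omega
    · exact hnec (rep c) (E' c) (hrep c).2 (hE' c)
  let z : D₀ := ⟨0, rfl, by simp, hR0⟩
  have hΦne : ∀ c : 𝒞, (⟨fun j => E' c (some j), hΦmem c⟩ : D₀) ≠ z := by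
    intro c hz
    have h0 : ∀ j, E' c (some j) = 0 := by
      intro j
      have := congrArg (fun x : D₀ => x.1 j) hz
      exact this
    have h1 : (omat (rep c)).charpoly = (X - 1) ^ (E' c none) := by
      rw [hE' c, fe_PPo]
      have : (fun j => E' c (some j)) = (0 : ↥(cycFactors F r) → ℕ) := funext h0
      rw [this, fe_zero, mul_one]
    have h2 := eq_one_of_semisimple _ (hss c) (E' c none) (by rw [h1])
    have h3 : rep c = 1 := omat_injective (by rw [h2, omat_one])
    have h4 := (hrep c).2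
    rw [h3, orderOf_one] at h4
    exact hr.out.one_lt.ne h4
  let Φ : 𝒞 → {x : D₀ // x ≠ z} := fun c => ⟨⟨fun j => E' c (some j), hΦmem c⟩, hΦne c⟩
  have hinj : Function.Injective Φ := by
    intro c c' hcc
    have h1 : ∀ j, E' c (some j) = E' c' (some j) := by
      intro j
      have := congrArg (fun x : {x : D₀ // x ≠ z} => x.1.1 j) hcc
      exact this
    have h2 : E' c = E' c' := by
      funext o
      cases o with
      | none =>
        have e1 := hdegc c
        have e2 := hdegc c'
        have : ∑ j, E' c (some j) = ∑ j, E' c' (some j) :=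
          Finset.sum_congr rfl (fun j _ => h1 j)
        rw [this] at e1
        omega
      | some j => exact h1 j
    have hc : (omat (rep c)).charpoly = (omat (rep c')).charpoly := by
      rw [hE' c, hE' c', h2]
    have hconj := isConj_of_charpoly_eq p Q hQ (rep c) (rep c')
      (by rw [(hrep c).2]; exact hrodd) (hrepcop c) (hrepcop c') hc
    apply Subtype.ext
    rw [← (hrep c).1, ← (hrep c').1]
    exact ConjClasses.mk_eq_mk_iff_isConj.2 hconj
  have hsurj : Function.Surjective Φ := by
    rintro ⟨⟨e, he, hle, hRe⟩, hne⟩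
    have hne' : e ≠ 0 := by
      intro h0
      apply hne
      apply Subtype.ext
      exact h0
    obtain ⟨h, hord, hch⟩ := hex e he hle hne' hRe
    let c : 𝒞 := ⟨ConjClasses.mk h, h, rfl, hord⟩
    refine ⟨c, ?_⟩
    have hconj : IsConj (rep c) h := ConjClasses.mk_eq_mk_iff_isConj.1 (hrep c).1
    have h1 : fe (PPo F r) (E' c) =
        fe (PPo F r) (fun o => Option.elim o (N - i * ∑ j, e j) e) := by
      rw [← hE' c, omat_charpoly_eq_of_isConj hconj, hch]
    have h2 := fe_injective (isFam_PPo hrF) h1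
    apply Subtype.ext
    apply Subtype.ext
    funext j
    exact congrFun h2 (some j)
  have hbij : Function.Bijective Φ := ⟨hinj, hsurj⟩
  have hfin : Finite D₀ := by
    apply Finite.of_injective (fun (x : D₀) (j : ↥(cycFactors F r)) =>
      (⟨x.1 j, by
        have h1 : x.1 j ≤ ∑ k, x.1 k :=
          Finset.single_le_sum (f := x.1) (fun _ _ => Nat.zero_le _) (Finset.mem_univ j)
        have h2 := x.2.2.1
        have h3 : ∑ k, x.1 k ≤ i * ∑ k, x.1 k := Nat.le_mul_of_pos_left _ hipos
        omega⟩ : Fin (N + 1)))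
    intro x y hxy
    apply Subtype.ext
    funext j
    have := congrFun hxy j
    exact Fin.mk.inj_iff.1 this
  change Nat.card 𝒞 + 1 = Nat.card D₀
  rw [Nat.card_eq_of_bijective Φ hbij, ← Nat.card_congr (Equiv.optionSubtypeNe z),
    Finite.card_option]

end Cfsg.Agent.Lib.Helper8.OrPrime
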