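import Mathlib
import Cfsg.Agent.Lib.Helper8.OrPrimeF
import Cfsg.Agent.Lib.Helper8.OrPrimeA
import Cfsg.Agent.Lib.Helper8.QTypeE

/-!
# Existence of isometries of prime order with prescribed multiplicities (helper8)
-/

set_option autoImplicit false
set_option linter.unusedSectionVars false

namespace Cfsg.Agent.Lib.Helper8.OrPrime

open Polynomial QuadraticMap Module Matrix Cfsg.Agent.Lib.Helper8.QType
  Cfsg.Agent.Lib.Helper8.PrimeOrd Cfsg.Agent.Lib.Helper8.SelfRec

universe u v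

variable {F : Type v} [Field F] [Fintype F] [DecidableEq F] {r : ℕ} [hr : Fact r.Prime]

instance finite_adjoinRoot_fe (e : ↥(cycFactors F r) → ℕ) :
    Module.Finite F (AdjoinRoot (fe (PP F r) e)) :=
  (fe_monic isFam_PP e).finite_adjoinRoot

theorem PP_eval_neg_one (hrF : (r : F) ≠ 0) (hrodd : Odd r) (j : ↥(cycFactors F r)) :
    (PP F r j).eval (-1) ≠ 0 := by
  intro h0
  obtain ⟨u, hu⟩ := PP_dvd j
  have h1 := congrArg (eval (-1)) hu
  rw [eval_mul, h0, zero_mul, eval_sub, eval_pow, eval_X, eval_one, hrodd.neg_one_pow] at h1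
  have h2 : (-1 : F) = 1 := by linear_combination h1
  rw [h2] at h0
  exact PP_eval_one hrF j h0

theorem eval_neg_one_fe_ne_zero (hrF : (r : F) ≠ 0) (hrodd : Odd r) (e : ↥(cycFactors F r) → ℕ) :
    (fe (PP F r) e).eval (-1) ≠ 0 := by
  unfold fe
  rw [eval_prod]
  apply Finset.prod_ne_zero_iff.2
  intro j _
  rw [eval_pow]
  exact pow_ne_zero _ (PP_eval_neg_one hrF hrodd j)

/-- the model: `F[X]/(f)` with an invariant nondegenerate quadratic form -/
theorem exists_model (hrF : (r : F) ≠ 0) (hrodd : Odd r) (e : ↥(cycFactors F r) → ℕ)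
    (he : e ∘ sIdx (RingHom.id F) (fun _ => rfl) hrF = e) (hpos : 0 < (fe (PP F r) e).natDegree) :
    ∃ (k : ℕ) (Q' : QuadraticForm F (AdjoinRoot (fe (PP F r) e)))
      (g' : AdjoinRoot (fe (PP F r) e) ≃ₗ[F] AdjoinRoot (fe (PP F r) e)) (ε' : ℤ),
      HasType Q' k ε' ∧ (fe (PP F r) e).natDegree = 2 * k + 2 ∧ (∀ v, Q' (g' v) = Q' v) ∧
      (g' : AdjoinRoot (fe (PP F r) e) →ₗ[F] AdjoinRoot (fe (PP F r) e)).charpoly =
        fe (PP F r) e := by
  set f := fe (PP F r) e with hf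
  have hfm : f.Monic := fe_monic isFam_PP e
  obtain ⟨hrev, heven⟩ := fe_PP_pal hrF hrodd e he
  have h0 : f.coeff 0 = 1 := by
    have := coeff_zero_reverse f
    rw [hrev, hfm.leadingCoeff] at this
    exact this
  have hsr : IsSR (RingHom.id F) f := by
    refine ⟨hfm, by rw [h0]; exact one_ne_zero, ?_⟩
    rw [Polynomial.map_id, hrev, h0, RingHom.id_apply, C_1, one_mul]
  obtain ⟨k, hk⟩ : ∃ k, f.natDegree = 2 * k + 2 := by
    obtain ⟨a, ha⟩ := heven
    have ha' : f.natDegree = a + a := ha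
    have hpos' : 0 < f.natDegree := hpos
    exact ⟨a - 1, by omega⟩
  obtain ⟨Q', hQ', hinv⟩ := exists_invariant_quadratic hsr k hk h0 (eval_one_fe_ne_zero hrF e)
    (eval_neg_one_fe_ne_zero hrF hrodd e)
  have hfin : finrank F (AdjoinRoot f) = 2 * k + 2 := by
    rw [finrank_adjoinRoot hfm, hk]
  obtain ⟨ε', hε'⟩ := exists_hasType Q' hQ' k hfin
  have hc0 : f.coeff 0 ≠ 0 := by rw [h0]; exact one_ne_zero
  let L : AdjoinRoot f →ₗ[F] AdjoinRoot f := Algebra.lmul F (AdjoinRoot f) (AdjoinRoot.root f)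
  let L' : AdjoinRoot f →ₗ[F] AdjoinRoot f := Algebra.lmul F (AdjoinRoot f) (ainv f)
  have h1 : L.comp L' = LinearMap.id := by
    apply LinearMap.ext
    intro v
    change AdjoinRoot.root f * (ainv f * v) = v
    rw [← mul_assoc, root_mul_ainv hc0, one_mul]
  have h2 : L'.comp L = LinearMap.id := by
    apply LinearMap.ext
    intro v
    change ainv f * (AdjoinRoot.root f * v) = v
    rw [← mul_assoc, ainv_mul_root hc0, one_mul]
  refine ⟨k, Q', LinearEquiv.ofLinearMap L L' h1 h2, ε', hε', hk, fun v => hinv v, ?_⟩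
  exact charpoly_lmul_root hfm

section Abs

variable {V : Type u} [AddCommGroup V] [Module F V] [FiniteDimensional F V]

/-- even `i`: the type of a space carrying an isometry with characteristic polynomial `fe PP e` -/
theorem type_even_of_equiv (p : ℕ) [Fact p.Prime] [CharP F p] {Q : QuadraticForm F V} {l : ℕ}
    {ε : ℤ} (h : HasType Q l ε) (g : V ≃ₗ[F] V) (hg : ∀ v, Q (g v) = Q v)
    (hrF : (r : F) ≠ 0) (hr2 : r ≠ 2) (d : ℕ) (hd : 0 < d)
    (hi : orderOf ((Fintype.card F : ℕ) : ZMod r) = 2 * d)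
    (hdeg : ∀ j : ↥(cycFactors F r), (PP F r j).natDegree = 2 * d)
    (e : ↥(cycFactors F r) → ℕ) (hc : (g : V →ₗ[F] V).charpoly = fe (PP F r) e) :
    ε = (-1) ^ (∑ j, e j) := by
  have hc' : (g : V →ₗ[F] V).charpoly = fe (PPo F r) (fun o => Option.elim o 0 e) := by
    rw [hc, fe_PPo]
    simp only [Option.elim_none, Option.elim_some, pow_zero, one_mul]
  obtain ⟨g₁, hg₁, hgr, hc₁⟩ := exists_pow_eq_one_abstract p Q g hg _ hc'
  rw [← hc', hc] at hc₁
  exact type_of_isometry_even h g₁ hg₁ hgr hrF hr2 d hd hi hdeg e hc₁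

end Abs

section Ex

variable {ι : Type} [Fintype ι] [DecidableEq ι]
  {V' : Type u} [AddCommGroup V'] [Module F V'] [FiniteDimensional F V']

/-- an isometry of a model space of smaller dimension, or of the same dimension and type, gives an
element of order `r` of the isometry group -/
theorem exists_of_model (p : ℕ) [Fact p.Prime] [CharP F p] (hrF : (r : F) ≠ 0)
    (Q : QuadraticForm F (ι → F)) {l : ℕ} {ε : ℤ} (h : HasType Q l ε)
    (Q' : QuadraticForm F V') {k : ℕ} {ε' : ℤ} (h' : HasType Q' k ε') (g' : V' ≃ₗ[F] V')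
    (hg' : ∀ v, Q' (g' v) = Q' v) (e : ↥(cycFactors F r) → ℕ) (hne : e ≠ 0)
    (hc : (g' : V' →ₗ[F] V').charpoly = fe (PP F r) e)
    (hkl : k < l ∨ (k = l ∧ ε' = ε)) :
    ∃ x : ↥(Cfsg.isometryGroup F ⇑Q), orderOf x = r ∧
      (omat x).charpoly = fe (PPo F r) (fun o => Option.elim o (2 * (l - k)) e) := by
  have hne' : ∃ j, (fun o => Option.elim o (2 * (l - k)) e) (some j) ≠ 0 := by
    by_contra hcon
    apply hne
    funext j
    by_contra hj
    exact hcon ⟨j, hj⟩
  have key : ∃ g : (ι → F) ≃ₗ[F] (ι → F), (∀ v, Q (g v) = Q v) ∧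
      (g : (ι → F) →ₗ[F] (ι → F)).charpoly =
        fe (PPo F r) (fun o => Option.elim o (2 * (l - k)) e) := by
    rcases hkl with hlt | ⟨rfl, rfl⟩
    · obtain ⟨g, hg1, hg2⟩ := extend_of_lt h' h hlt g' hg'
      refine ⟨g, hg1, ?_⟩
      rw [hg2, hc, fe_PPo]
      simp only [Option.elim_none, Option.elim_some]
      rw [mul_comm]
    · obtain ⟨g, hg1, hg2⟩ := extend_of_eq h' h g' hg'
      refine ⟨g, hg1, ?_⟩
      rw [hg2, hc, fe_PPo]
      simp only [Option.elim_none, Option.elim_some, Nat.sub_self, mul_zero, pow_zero, one_mul]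
  obtain ⟨g, hg1, hg2⟩ := key
  exact exists_orderOf_eq p hrF g hg1 _ hg2 hne'

end Ex

end Cfsg.Agent.Lib.Helper8.OrPrime
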