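import Mathlib
import Cfsg.Agent.Lib.Helper8.OrPrimeG

/-!
# Classes of elements of prime order `r ≠ p` in the even-dimensional finite orthogonal groups
(helper8)
-/

set_option autoImplicit false
set_option linter.unusedSectionVars false

namespace Cfsg.Agent.Lib.Helper8.OrPrime

open Polynomial QuadraticMap Module Matrix Cfsg.Agent.Lib.Helper8.QType
  Cfsg.Agent.Lib.Helper8.PrimeOrd Cfsg.Agent.Lib.Helper8.SelfRec

universe v

variable {F : Type v} [Field F] [Fintype F] [DecidableEq F] {r : ℕ} [hr : Fact r.Prime]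

theorem natDegree_fe_PP (i : ℕ) (hdeg : ∀ j : ↥(cycFactors F r), (PP F r j).natDegree = i)
    (e : ↥(cycFactors F r) → ℕ) : (fe (PP F r) e).natDegree = i * ∑ j, e j := by
  rw [natDegree_fe isFam_PP, Finset.mul_sum]
  apply Finset.sum_congr rfl
  intro j _
  rw [hdeg, mul_comm]

theorem sum_pos_of_ne_zero {α : Type*} [Fintype α] (e : α → ℕ) (hne : e ≠ 0) :
    0 < ∑ j, e j := by
  by_contra hcon
  apply hne
  funext j
  have h1 : e j ≤ ∑ k, e k :=
    Finset.single_le_sum (f := e) (fun _ _ => Nat.zero_le _) (Finset.mem_univ j)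
  simp only [Pi.zero_apply]
  omega

section Even

variable {ι : Type} [Fintype ι] [DecidableEq ι] (Q : QuadraticForm F (ι → F)) {l : ℕ} {ε : ℤ}

theorem card_of_hasType (h : HasType Q l ε) : Fintype.card ι = 2 * l + 2 := by
  rw [← h.1, Module.finrank_pi]

theorem toLin'_iterate (A : Matrix ι ι F) (k : ℕ) (v : ι → F) :
    (⇑(Matrix.toLin' A))^[k] v = (A ^ k) *ᵥ v := by
  induction k generalizing v with
  | zero => rw [pow_zero, Matrix.one_mulVec]; rfl
  | succ k ih =>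
    rw [Function.iterate_succ_apply', ih, Matrix.toLin'_apply, Matrix.mulVec_mulVec, ← pow_succ']

theorem nec_aux (hrF : (r : F) ≠ 0) (i : ℕ)
    (hdeg : ∀ j : ↥(cycFactors F r), (PP F r j).natDegree = i)
    (g : ↥(Cfsg.isometryGroup F ⇑Q)) (e' : Option ↥(cycFactors F r) → ℕ)
    (hc : (omat g).charpoly = fe (PPo F r) e')
    (hfull : i * ∑ j, e' (some j) = Fintype.card ι) :
    (Matrix.toLin' (omat g)).charpoly = fe (PP F r) (fun j => e' (some j)) := by
  have h1 : e' none + i * ∑ j, e' (some j) = Fintype.card ι := by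
    rw [← natDegree_fe_PPo hrF i hdeg, ← hc, omat_charpoly_natDegree]
  have h2 : e' none = 0 := by omega
  rw [Matrix.charpoly_toLin', hc, fe_PPo, h2, pow_zero, one_mul]

theorem nec_odd (h : HasType Q l ε) (hrF : (r : F) ≠ 0)
    (hfp : ∀ j, sIdx (RingHom.id F) (fun _ => rfl) hrF j ≠ j) (i : ℕ)
    (hdeg : ∀ j : ↥(cycFactors F r), (PP F r j).natDegree = i)
    (g : ↥(Cfsg.isometryGroup F ⇑Q)) (e' : Option ↥(cycFactors F r) → ℕ)
    (hc : (omat g).charpoly = fe (PPo F r) e')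
    (hfull : i * ∑ j, e' (some j) = Fintype.card ι) : ε = 1 :=
  type_of_isometry_odd h (Matrix.toLin' (omat g))
    (fun v => by rw [Matrix.toLin'_apply]; exact omat_isom g v) hrF hfp _
    (nec_aux Q hrF i hdeg g e' hc hfull)

theorem nec_even (h : HasType Q l ε) (hrF : (r : F) ≠ 0) (hr2 : r ≠ 2) (d : ℕ) (hd : 0 < d)
    (hi : orderOf ((Fintype.card F : ℕ) : ZMod r) = 2 * d)
    (hdeg : ∀ j : ↥(cycFactors F r), (PP F r j).natDegree = 2 * d)
    (g : ↥(Cfsg.isometryGroup F ⇑Q)) (hg : g ^ r = 1) (e' : Option ↥(cycFactors F r) → ℕ)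
    (hc : (omat g).charpoly = fe (PPo F r) e')
    (hfull : 2 * d * ∑ j, e' (some j) = Fintype.card ι) : ε = (-1) ^ (∑ j, e' (some j)) :=
  type_of_isometry_even h (Matrix.toLin' (omat g))
    (fun v => by rw [Matrix.toLin'_apply]; exact omat_isom g v)
    (fun v => by rw [toLin'_iterate, ← omat_pow, hg, omat_one, Matrix.one_mulVec])
    hrF hr2 d hd hi hdeg _ (nec_aux Q hrF (2 * d) hdeg g e' hc hfull)

/-- existence, `i` odd -/
theorem ex_odd (p : ℕ) [Fact p.Prime] [CharP F p] (h : HasType Q l ε) (hrF : (r : F) ≠ 0)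
    (hr2 : r ≠ 2) (hfp : ∀ j, sIdx (RingHom.id F) (fun _ => rfl) hrF j ≠ j) (i : ℕ)
    (hipos : 0 < i) (hdeg : ∀ j : ↥(cycFactors F r), (PP F r j).natDegree = i)
    (e : ↥(cycFactors F r) → ℕ) (he : e ∘ sIdx (RingHom.id F) (fun _ => rfl) hrF = e)
    (hle : i * ∑ j, e j ≤ Fintype.card ι) (hne : e ≠ 0)
    (hty : i * ∑ j, e j = Fintype.card ι → ε = 1) :
    ∃ x : ↥(Cfsg.isometryGroup F ⇑Q), orderOf x = r ∧
      (omat x).charpoly =
        fe (PPo F r) (fun o => Option.elim o (Fintype.card ι - i * ∑ j, e j) e) := by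
  have hrodd : Odd r := hr.out.odd_of_ne_two hr2
  have hcard := card_of_hasType Q h
  have hnd := natDegree_fe_PP i hdeg e
  have hpos : 0 < (fe (PP F r) e).natDegree := by
    rw [hnd]
    exact Nat.mul_pos hipos (sum_pos_of_ne_zero e hne)
  obtain ⟨k, Q', g', ε', h', hk, hg', hc'⟩ := exists_model hrF hrodd e he hpos
  have hε' : ε' = 1 := type_of_isometry_odd h'
    (g' : AdjoinRoot (fe (PP F r) e) →ₗ[F] AdjoinRoot (fe (PP F r) e)) hg' hrF hfp e hc'
  rw [hnd] at hk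
  have hkl : k < l ∨ (k = l ∧ ε' = ε) := by
    rcases Nat.lt_or_ge k l with hlt | hge
    · exact Or.inl hlt
    · have hkl' : k = l := by omega
      refine Or.inr ⟨hkl', ?_⟩
      rw [hε', hty (by omega)]
  obtain ⟨x, hx1, hx2⟩ := exists_of_model p hrF Q h Q' h' g' hg' e hne hc' hkl
  refine ⟨x, hx1, ?_⟩
  rw [hx2]
  have : 2 * (l - k) = Fintype.card ι - i * ∑ j, e j := by omega
  rw [this]

/-- existence, `i` even -/
theorem ex_even (p : ℕ) [Fact p.Prime] [CharP F p] (h : HasType Q l ε) (hrF : (r : F) ≠ 0)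
    (hr2 : r ≠ 2) (d : ℕ) (hd : 0 < d)
    (hi : orderOf ((Fintype.card F : ℕ) : ZMod r) = 2 * d)
    (hdeg : ∀ j : ↥(cycFactors F r), (PP F r j).natDegree = 2 * d)
    (e : ↥(cycFactors F r) → ℕ) (he : e ∘ sIdx (RingHom.id F) (fun _ => rfl) hrF = e)
    (hle : 2 * d * ∑ j, e j ≤ Fintype.card ι) (hne : e ≠ 0)
    (hty : 2 * d * ∑ j, e j = Fintype.card ι → ε = (-1) ^ (∑ j, e j)) :
    ∃ x : ↥(Cfsg.isometryGroup F ⇑Q), orderOf x = r ∧
      (omat x).charpoly =
        fe (PPo F r) (fun o => Option.elim o (Fintype.card ι - 2 * d * ∑ j, e j) e) := by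
  have hrodd : Odd r := hr.out.odd_of_ne_two hr2
  have hcard := card_of_hasType Q h
  have hnd := natDegree_fe_PP (2 * d) hdeg e
  have hpos : 0 < (fe (PP F r) e).natDegree := by
    rw [hnd]
    exact Nat.mul_pos (by omega) (sum_pos_of_ne_zero e hne)
  obtain ⟨k, Q', g', ε', h', hk, hg', hc'⟩ := exists_model hrF hrodd e he hpos
  have hε' : ε' = (-1) ^ (∑ j, e j) :=
    type_even_of_equiv p h' g' hg' hrF hr2 d hd hi hdeg e hc'
  rw [hnd] at hk
  have hkl : k < l ∨ (k = l ∧ ε' = ε) := by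
    rcases Nat.lt_or_ge k l with hlt | hge
    · exact Or.inl hlt
    · have hkl' : k = l := by omega
      refine Or.inr ⟨hkl', ?_⟩
      rw [hε', hty (by omega)]
  obtain ⟨x, hx1, hx2⟩ := exists_of_model p hrF Q h Q' h' g' hg' e hne hc' hkl
  refine ⟨x, hx1, ?_⟩
  rw [hx2]
  have : 2 * (l - k) = Fintype.card ι - 2 * d * ∑ j, e j := by omega
  rw [this]

/-- the class count, `i` odd -/
theorem classes_card_odd_i (p : ℕ) [Fact p.Prime] [CharP F p] (hrp : r ≠ p) (hr2 : r ≠ 2)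
    (h : HasType Q l ε) (hrF : (r : F) ≠ 0)
    (hfp : ∀ j, sIdx (RingHom.id F) (fun _ => rfl) hrF j ≠ j) (i : ℕ)
    (hipos : 0 < i) (hdeg : ∀ j : ↥(cycFactors F r), (PP F r j).natDegree = i) :
    Nat.card {C : ConjClasses ↥(Cfsg.isometryGroup F ⇑Q) //
      ∃ g : ↥(Cfsg.isometryGroup F ⇑Q), ConjClasses.mk g = C ∧ orderOf g = r} + 1 =
    Nat.card {e : ↥(cycFactors F r) → ℕ //
      e ∘ sIdx (RingHom.id F) (fun _ => rfl) hrF = e ∧ i * ∑ j, e j ≤ Fintype.card ι ∧
        (i * ∑ j, e j = Fintype.card ι → ε = 1)} := by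
  apply o_classes_card p hrp hr2 Q h.2.1 i hipos hdeg hrF
    (fun e => i * ∑ j, e j = Fintype.card ι → ε = 1)
  · intro h0
    exfalso
    have := card_of_hasType Q h
    simp at h0
    omega
  · intro g e' _ hc hfull
    exact nec_odd Q h hrF hfp i hdeg g e' hc hfull
  · intro e he hle hne hty
    exact ex_odd Q p h hrF hr2 hfp i hipos hdeg e he hle hne hty

/-- the class count, `i` even -/
theorem classes_card_even_i (p : ℕ) [Fact p.Prime] [CharP F p] (hrp : r ≠ p) (hr2 : r ≠ 2)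
    (h : HasType Q l ε) (hrF : (r : F) ≠ 0) (d : ℕ) (hd : 0 < d)
    (hi : orderOf ((Fintype.card F : ℕ) : ZMod r) = 2 * d)
    (hdeg : ∀ j : ↥(cycFactors F r), (PP F r j).natDegree = 2 * d) :
    Nat.card {C : ConjClasses ↥(Cfsg.isometryGroup F ⇑Q) //
      ∃ g : ↥(Cfsg.isometryGroup F ⇑Q), ConjClasses.mk g = C ∧ orderOf g = r} + 1 =
    Nat.card {e : ↥(cycFactors F r) → ℕ //
      e ∘ sIdx (RingHom.id F) (fun _ => rfl) hrF = e ∧ 2 * d * ∑ j, e j ≤ Fintype.card ι ∧
        (2 * d * ∑ j, e j = Fintype.card ι → ε = (-1) ^ (∑ j, e j))} := by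
  apply o_classes_card p hrp hr2 Q h.2.1 (2 * d) (by omega) hdeg hrF
    (fun e => 2 * d * ∑ j, e j = Fintype.card ι → ε = (-1) ^ (∑ j, e j))
  · intro h0
    exfalso
    have := card_of_hasType Q h
    simp at h0
    omega
  · intro g e' hg hc hfull
    have hgr : g ^ r = 1 := by
      rw [← hg]
      exact pow_orderOf_eq_one g
    exact nec_even Q h hrF hr2 d hd hi hdeg g hgr e' hc hfull
  · intro e he hle hne hty
    exact ex_even Q p h hrF hr2 d hd hi hdeg e he hle hne hty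

end Even

end Cfsg.Agent.Lib.Helper8.OrPrime
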