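import Mathlib
import Cfsg.Agent.Lib.Helper8.PrimeOrdF

/-!
# Counting symmetric multiplicity functions with a general bound (helper8)
-/

set_option autoImplicit false
set_option linter.unusedSectionVars false

namespace Cfsg.Agent.Lib.Helper8.PrimeOrd

universe u

variable {α : Type u} [Fintype α] [DecidableEq α] {s : α → α}

theorem card_symm_bounded' (hs : Function.Involutive s) (hfp : ∀ a, s a ≠ a) (i M : ℕ)
    (hi : 0 < i) :
    Nat.card {e : α → ℕ // e ∘ s = e ∧ i * ∑ a, e a ≤ M} =
      (M / (2 * i) + Fintype.card α / 2).choose (Fintype.card α / 2) := by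
  have hcard : Fintype.card ↥(trv s) = Fintype.card α / 2 := by
    rw [Fintype.card_coe, card_trv hs hfp]
    omega
  rw [← hcard, ← card_bounded ↥(trv s) (M / (2 * i))]
  apply Nat.card_congr
  refine (Equiv.subtypeSubtypeEquivSubtypeInter (fun e : α → ℕ => e ∘ s = e)
    (fun e => i * ∑ a, e a ≤ M)).symm.trans ?_
  apply (symEquiv hs hfp).subtypeEquiv
  intro e
  rw [sum_eq_two_mul hs hfp e.1 e.2, Nat.le_div_iff_mul_le (by omega)]
  have : ∑ a ∈ trv s, e.1 a = ∑ t : ↥(trv s), (symEquiv hs hfp e) t := by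
    rw [← Finset.sum_coe_sort]
    rfl
  rw [← this]
  constructor
  · intro h; nlinarith
  · intro h; nlinarith

end Cfsg.Agent.Lib.Helper8.PrimeOrd
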