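import Mathlib
import Cfsg.Agent.Lib.Helper8.PrimeOrdJ

/-!
# Counting multiplicity functions with a condition on those of full weight (helper8)
-/

set_option autoImplicit false
set_option linter.unusedSectionVars false

namespace Cfsg.Agent.Lib.Helper8.OrPrime

open Cfsg.Agent.Lib.Helper8.PrimeOrd

universe u

section Gen

theorem card_imp_eq_sub {β : Type u} (A B C : β → Prop) [Finite {x // A x}] :
    Nat.card {x // A x ∧ (B x → C x)} =
      Nat.card {x // A x} - Nat.card {x // A x ∧ B x ∧ ¬ C x} := by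
  classical
  have h1 : Nat.card {x // A x} =
      Nat.card {x // A x ∧ (B x → C x)} + Nat.card {x // A x ∧ B x ∧ ¬ C x} := by
    rw [Nat.card_congr (Equiv.sumCompl (fun y : {x // A x} => B y.1 → C y.1)).symm,
      Nat.card_sum]
    congr 1
    · apply Nat.card_congr
      exact Equiv.subtypeSubtypeEquivSubtypeInter A (fun x => B x → C x)
    · apply Nat.card_congr
      refine (Equiv.subtypeSubtypeEquivSubtypeInter A (fun x => ¬ (B x → C x))).trans ?_
      apply Equiv.subtypeEquivRight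
      intro x
      constructor
      · rintro ⟨ha, hbc⟩
        refine ⟨ha, ?_⟩
        by_cases hb : B x
        · exact ⟨hb, fun hc => hbc (fun _ => hc)⟩
        · exact absurd (fun hb' => absurd hb' hb) hbc
      · rintro ⟨ha, hb, hc⟩
        exact ⟨ha, fun h => hc (h hb)⟩
  omega

end Gen

section StarsBars

variable (α : Type u) [Fintype α] [DecidableEq α]

theorem card_sum_eq (hα : 0 < Fintype.card α) (M : ℕ) :
    Nat.card {e : α → ℕ // ∑ a, e a = M} =
      (M + Fintype.card α - 1).choose (Fintype.card α - 1) := by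
  rw [← Nat.card_congr (Sym.equivNatSumOfFintype α M), Nat.card_eq_fintype_card,
    Sym.card_sym_eq_choose]
  have h1 : Fintype.card α + M - 1 = M + (Fintype.card α - 1) := by omega
  have h2 : M + Fintype.card α - 1 = M + (Fintype.card α - 1) := by omega
  rw [h1, h2, Nat.choose_symm_add]

theorem card_mul_sum_eq_and (hα : 0 < Fintype.card α) (i M : ℕ) (hi : 0 < i) (P : ℕ → Prop)
    [Decidable (i ∣ M ∧ ¬ P (M / i))] :
    Nat.card {e : α → ℕ // i * ∑ a, e a = M ∧ ¬ P (∑ a, e a)} =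
      if i ∣ M ∧ ¬ P (M / i) then (M / i + Fintype.card α - 1).choose (Fintype.card α - 1)
      else 0 := by
  split_ifs with hd
  · obtain ⟨⟨c, rfl⟩, hP⟩ := hd
    rw [Nat.mul_div_cancel_left _ hi] at hP ⊢
    rw [← card_sum_eq α hα c]
    apply Nat.card_congr
    apply Equiv.subtypeEquivRight
    intro e
    constructor
    · intro h; exact Nat.eq_of_mul_eq_mul_left hi h.1
    · intro h; rw [h]; exact ⟨rfl, hP⟩
  · have : IsEmpty {e : α → ℕ // i * ∑ a, e a = M ∧ ¬ P (∑ a, e a)} := by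
      refine ⟨fun e => hd ⟨⟨_, e.2.1.symm⟩, ?_⟩⟩
      rw [← e.2.1, Nat.mul_div_cancel_left _ hi]
      exact e.2.2
    exact Nat.card_of_isEmpty

variable {α}

/-- all multiplicity functions (the involution is trivial) -/
theorem count_fixed {s : α → α} (hfix : ∀ a, s a = a) (hα : 0 < Fintype.card α) (i M : ℕ)
    (hi : 0 < i) (P : ℕ → Prop) [Decidable (i ∣ M ∧ ¬ P (M / i))] :
    Nat.card {e : α → ℕ // e ∘ s = e ∧ i * ∑ a, e a ≤ M ∧ (i * ∑ a, e a = M → P (∑ a, e a))} =
      (M / i + Fintype.card α).choose (Fintype.card α) -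
        (if i ∣ M ∧ ¬ P (M / i) then (M / i + Fintype.card α - 1).choose (Fintype.card α - 1)
          else 0) := by
  have hs : ∀ e : α → ℕ, e ∘ s = e := by
    intro e
    funext a
    simp only [Function.comp_apply, hfix a]
  have h1 : Nat.card {e : α → ℕ // e ∘ s = e ∧ i * ∑ a, e a ≤ M ∧
        (i * ∑ a, e a = M → P (∑ a, e a))} =
      Nat.card {e : α → ℕ // i * ∑ a, e a ≤ M ∧ (i * ∑ a, e a = M → P (∑ a, e a))} := by
    apply Nat.card_congr
    apply Equiv.subtypeEquivRight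
    intro e
    exact ⟨fun h => h.2, fun h => ⟨hs e, h⟩⟩
  have hfin : Finite {e : α → ℕ // i * ∑ a, e a ≤ M} := by
    apply Nat.finite_of_card_ne_zero
    rw [card_bounded_mul α i M hi]
    exact (Nat.choose_pos (Nat.le_add_left _ _)).ne'
  rw [h1, card_imp_eq_sub (fun e : α → ℕ => i * ∑ a, e a ≤ M) (fun e => i * ∑ a, e a = M)
    (fun e => P (∑ a, e a)), card_bounded_mul α i M hi, ← card_mul_sum_eq_and α hα i M hi P]
  congr 1
  apply Nat.card_congr
  apply Equiv.subtypeEquivRight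
  intro e
  exact ⟨fun h => h.2, fun h => ⟨h.1.le, h⟩⟩

/-- symmetric multiplicity functions for a fixed-point-free involution -/
theorem count_free {s : α → α} (hs : Function.Involutive s) (hfp : ∀ a, s a ≠ a)
    (hα : 0 < Fintype.card α) (i M : ℕ) (hi : 0 < i) (P : ℕ → Prop)
    [Decidable (2 * i ∣ M ∧ ¬ P (M / i))] :
    Nat.card {e : α → ℕ // e ∘ s = e ∧ i * ∑ a, e a ≤ M ∧ (i * ∑ a, e a = M → P (∑ a, e a))} =
      (M / (2 * i) + Fintype.card α / 2).choose (Fintype.card α / 2) -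
        (if 2 * i ∣ M ∧ ¬ P (M / i) then
          (M / (2 * i) + Fintype.card α / 2 - 1).choose (Fintype.card α / 2 - 1) else 0) := by
  have hcard : Fintype.card ↥(trv s) = Fintype.card α / 2 := by
    rw [Fintype.card_coe, card_trv hs hfp]
    omega
  have hTpos : 0 < Fintype.card ↥(trv s) := by
    rw [hcard]
    have := card_trv hs hfp
    omega
  have h1 : Nat.card {e : α → ℕ // e ∘ s = e ∧ i * ∑ a, e a ≤ M ∧
        (i * ∑ a, e a = M → P (∑ a, e a))} =
      Nat.card {e : α → ℕ // (e ∘ s = e ∧ i * ∑ a, e a ≤ M) ∧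
        (i * ∑ a, e a = M → P (∑ a, e a))} := by
    apply Nat.card_congr
    apply Equiv.subtypeEquivRight
    intro e
    exact ⟨fun h => ⟨⟨h.1, h.2.1⟩, h.2.2⟩, fun h => ⟨h.1.1, h.1.2, h.2⟩⟩
  have hfin : Finite {e : α → ℕ // e ∘ s = e ∧ i * ∑ a, e a ≤ M} := by
    apply Nat.finite_of_card_ne_zero
    rw [card_symm_bounded' hs hfp i M hi]
    exact (Nat.choose_pos (Nat.le_add_left _ _)).ne'
  rw [h1, card_imp_eq_sub (fun e : α → ℕ => e ∘ s = e ∧ i * ∑ a, e a ≤ M)
    (fun e => i * ∑ a, e a = M) (fun e => P (∑ a, e a)), card_symm_bounded' hs hfp i M hi]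
  congr 1
  -- the excluded functions
  have h2 : Nat.card {e : α → ℕ // (e ∘ s = e ∧ i * ∑ a, e a ≤ M) ∧ i * ∑ a, e a = M ∧
        ¬ P (∑ a, e a)} =
      Nat.card {e' : ↥(trv s) → ℕ // 2 * i * ∑ t, e' t = M ∧ ¬ P (2 * ∑ t, e' t)} := by
    apply Nat.card_congr
    have e1 : {e : α → ℕ // (e ∘ s = e ∧ i * ∑ a, e a ≤ M) ∧ i * ∑ a, e a = M ∧
        ¬ P (∑ a, e a)} ≃ {e : α → ℕ // e ∘ s = e ∧ (i * ∑ a, e a = M ∧ ¬ P (∑ a, e a))} := by
      apply Equiv.subtypeEquivRight
      intro e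
      exact ⟨fun h => ⟨h.1.1, h.2⟩, fun h => ⟨⟨h.1, h.2.1.le⟩, h.2⟩⟩
    refine e1.trans ?_
    refine (Equiv.subtypeSubtypeEquivSubtypeInter (fun e : α → ℕ => e ∘ s = e)
      (fun e => i * ∑ a, e a = M ∧ ¬ P (∑ a, e a))).symm.trans ?_
    apply (symEquiv hs hfp).subtypeEquiv
    intro e
    rw [sum_eq_two_mul hs hfp e.1 e.2]
    have : ∑ a ∈ trv s, e.1 a = ∑ t : ↥(trv s), (symEquiv hs hfp e) t := by
      rw [← Finset.sum_coe_sort]
      rfl
    rw [← this]
    constructor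
    · rintro ⟨h, hP⟩
      exact ⟨by rw [← h]; ring, hP⟩
    · rintro ⟨h, hP⟩
      exact ⟨by rw [← h]; ring, hP⟩
  rw [h2]
  have h4 : (2 * i ∣ M ∧ ¬ P (2 * (M / (2 * i)))) ↔ (2 * i ∣ M ∧ ¬ P (M / i)) := by
    constructor
    · rintro ⟨⟨c, rfl⟩, hP⟩
      refine ⟨⟨c, rfl⟩, ?_⟩
      rw [Nat.mul_div_cancel_left _ (by omega : 0 < 2 * i)] at hP
      have : 2 * i * c / i = 2 * c := by
        rw [mul_comm 2 i, mul_assoc, Nat.mul_div_cancel_left _ hi]
      rw [this]
      exact hP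
    · rintro ⟨⟨c, rfl⟩, hP⟩
      refine ⟨⟨c, rfl⟩, ?_⟩
      rw [Nat.mul_div_cancel_left _ (by omega : 0 < 2 * i)]
      have : 2 * i * c / i = 2 * c := by
        rw [mul_comm 2 i, mul_assoc, Nat.mul_div_cancel_left _ hi]
      rw [this] at hP
      exact hP
  have : Decidable (2 * i ∣ M ∧ ¬ (fun n => P (2 * n)) (M / (2 * i))) :=
    decidable_of_iff _ h4.symm
  have h3 := card_mul_sum_eq_and ↥(trv s) hTpos (2 * i) M (by omega) (fun n => P (2 * n))
  rw [hcard] at h3
  rw [h3]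
  split_ifs with h5 h6 h6
  · rfl
  · exact absurd (h4.1 h5) h6
  · exact absurd (h4.2 h6) h5
  · rfl

end StarsBars

end Cfsg.Agent.Lib.Helper8.OrPrime
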