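import Mathlib
import Cfsg.Agent.Lib.Helper8.OrPrimeH
import Cfsg.Agent.Lib.Helper8.OrPrimeI

/-!
# The number of classes of elements of odd prime order `r ≠ p` in the even-dimensional finite
orthogonal groups (helper8)
-/

set_option autoImplicit false
set_option linter.unusedSectionVars false

namespace Cfsg.Agent.Lib.Helper8.OrPrime

open Polynomial QuadraticMap Module Matrix Cfsg.Agent.Lib.Helper8.QType
  Cfsg.Agent.Lib.Helper8.PrimeOrd Cfsg.Agent.Lib.Helper8.SelfRec

universe v

variable {F : Type v} [Field F] [Fintype F] [DecidableEq F] {r : ℕ} [hr : Fact r.Prime]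

section Setup

theorem natCast_r_ne_zero (p : ℕ) [Fact p.Prime] [CharP F p] (hrp : r ≠ p) : (r : F) ≠ 0 := by
  have hp : p.Prime := Fact.out
  intro h0
  rw [CharP.cast_eq_zero_iff F p] at h0
  exact hrp ((Nat.prime_dvd_prime_iff_eq hp hr.out).1 h0).symm

/-- `i` odd: no factor of the cyclotomic polynomial is self-reciprocal -/
theorem sIdx_ne_of_odd (hrF : (r : F) ≠ 0) (hr2 : r ≠ 2) (i : ℕ)
    (hdeg : ∀ j : ↥(cycFactors F r), (PP F r j).natDegree = i) (hodd : Odd i) :
    ∀ j, sIdx (RingHom.id F) (fun _ => rfl) hrF j ≠ j := by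
  intro j hj
  have h1 : rc (RingHom.id F) (PP F r j) = PP F r j := by
    rw [← PP_sIdx (RingHom.id F) (fun _ => rfl) hrF j, hj]
  exact rc_ne_self_of_odd (hr.out.odd_of_ne_two hr2) (PP_monic j) (PP_dvd j) (PP_coeff_zero j)
    (PP_eval_one hrF j) (by rw [hdeg]; exact hodd) h1

/-- `i` even: all factors of the cyclotomic polynomial are self-reciprocal -/
theorem sIdx_eq_of_even (hrF : (r : F) ≠ 0) (d : ℕ) (hd : 0 < d)
    (hi : orderOf ((Fintype.card F : ℕ) : ZMod r) = 2 * d) :
    ∀ j, sIdx (RingHom.id F) (fun _ => rfl) hrF j = j := by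
  have hdvd : r ∣ Fintype.card F ^ d + 1 := by
    set x : ZMod r := ((Fintype.card F : ℕ) : ZMod r) ^ d with hx
    have hx2 : x * x = 1 := by
      rw [hx, ← pow_add, ← two_mul, ← hi]
      exact pow_orderOf_eq_one _
    have hx1 : x ≠ 1 := by
      rw [hx]
      apply pow_ne_one_of_lt_orderOf hd.ne'
      rw [hi]
      omega
    have hxm : x = -1 := (mul_self_eq_one_iff.1 hx2).resolve_left hx1
    rw [← ZMod.natCast_eq_zero_iff]
    push_cast
    rw [← hx, hxm]
    ring
  intro j
  apply Subtype.ext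
  exact rc_eq_self_of_pow_eq_neg_one (PP_monic j) (PP_irred j) (PP_dvd j) (PP_coeff_zero j)
    d hdvd

end Setup

section Main

variable {ι : Type} [Fintype ι] [DecidableEq ι]

/-- the class count in terms of the type `ε` of the space -/
theorem even_dim_count (p : ℕ) [Fact p.Prime] [CharP F p] (hrp : r ≠ p) (hr2 : r ≠ 2)
    (Q : QuadraticForm F (ι → F)) {l : ℕ} {ε : ℤ} (h : HasType Q l ε) {q : ℕ}
    (hF : Fintype.card F = q) (i t : ℕ) (hi : i = orderOf (q : ZMod r)) (ht : t * i = r - 1) :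
    Nat.card {C : ConjClasses ↥(Cfsg.isometryGroup F ⇑Q) //
      ∃ g : ↥(Cfsg.isometryGroup F ⇑Q), ConjClasses.mk g = C ∧ orderOf g = r} + 1 =
    if Odd i then
      ((l + 1) / i + t / 2).choose (t / 2) -
        (if i ∣ (l + 1) ∧ ¬ ε = 1 then ((l + 1) / i + t / 2 - 1).choose (t / 2 - 1) else 0)
    else
      ((2 * l + 2) / i + t).choose t -
        (if i ∣ (2 * l + 2) ∧ ¬ ε = (-1) ^ ((2 * l + 2) / i) then
          ((2 * l + 2) / i + t - 1).choose (t - 1) else 0) := by
  classical
  have hp : p.Prime := Fact.out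
  obtain ⟨f, -, hcard⟩ := FiniteField.card F p
  have hcop : p.Coprime r := (Nat.coprime_primes hp hr.out).2 (Ne.symm hrp)
  have hrF : (r : F) ≠ 0 := natCast_r_ne_zero p hrp
  have hr3 : 2 ≤ r := hr.out.two_le
  have hipos : 0 < i := by
    rcases Nat.eq_zero_or_pos i with h0 | h0
    · subst h0
      omega
    · exact h0
  have htpos : 0 < t := by
    rcases Nat.eq_zero_or_pos t with h0 | h0
    · subst h0
      omega
    · exact h0
  have hdeg : ∀ j : ↥(cycFactors F r), (PP F r j).natDegree = i := fun j => by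
    rw [natDegree_PP hcard hcop j, hi, hF]
  have hcardα : Fintype.card ↥(cycFactors F r) = t := by
    rw [card_cycFactors hcard hcop, hF, ← hi, ← ht]
    exact Nat.mul_div_cancel _ hipos
  have hαpos : 0 < Fintype.card ↥(cycFactors F r) := by rw [hcardα]; exact htpos
  have hsinv := sIdx_involutive (RingHom.id F) (fun _ => rfl) hrF
  have hcardι := card_of_hasType Q h
  by_cases hodd : Odd i
  · rw [if_pos hodd]
    have hfp := sIdx_ne_of_odd hrF hr2 i hdeg hodd
    rw [classes_card_odd_i Q p hrp hr2 h hrF hfp i hipos hdeg,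
      count_free hsinv hfp hαpos i (Fintype.card ι) hipos (fun _ => ε = 1), hcardα, hcardι]
    have e1 : (2 * l + 2) / (2 * i) = (l + 1) / i := by
      have : 2 * l + 2 = 2 * (l + 1) := by ring
      rw [this, Nat.mul_div_mul_left _ _ (by omega : 0 < 2)]
    have e2 : (2 * i ∣ 2 * l + 2) ↔ i ∣ (l + 1) := by
      have : 2 * l + 2 = 2 * (l + 1) := by ring
      rw [this, Nat.mul_dvd_mul_iff_left (by omega : 0 < 2)]
    rw [e1]
    simp only [e2]
  · rw [if_neg hodd]
    have heven : Even i := Nat.not_odd_iff_even.1 hodd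
    obtain ⟨d, hd2⟩ := heven
    have hd : 0 < d := by omega
    have hi2 : i = 2 * d := by omega
    have hi' : orderOf ((Fintype.card F : ℕ) : ZMod r) = 2 * d := by
      rw [hF, ← hi, hi2]
    have hdeg' : ∀ j : ↥(cycFactors F r), (PP F r j).natDegree = 2 * d := fun j => by
      rw [hdeg j, hi2]
    have hfix := sIdx_eq_of_even hrF d hd hi'
    rw [classes_card_even_i Q p hrp hr2 h hrF d hd hi' hdeg',
      count_fixed hfix hαpos (2 * d) (Fintype.card ι) (by omega) (fun n => ε = (-1) ^ n),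
      hcardα, hcardι, ← hi2]

end Main

end Cfsg.Agent.Lib.Helper8.OrPrime
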