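import Mathlib
import Cfsg.Agent.Lib.Helper8.OrPrimeJ

/-!
# Nonsingular points of finite orthogonal spaces: counting, and fixed-point-free isometries of
odd prime order (helper8)
-/

set_option autoImplicit false
set_option linter.unusedSectionVars false

namespace Cfsg.Agent.Lib.Helper8.NonsingPt

open Polynomial Module QuadraticMap Cfsg.Agent.Lib.Helper8.PrimeOrd Cfsg.Agent.Lib.Helper8.OrPrime
  Cfsg.Agent.Lib.Helper8.QType

universe u v

section Count

variable {F : Type v} [Field F] [Fintype F] {V : Type u} [AddCommGroup V] [Module F V]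
  [FiniteDimensional F V]

/-- the nonsingular vectors are the nonzero vectors of the nonsingular points -/
theorem card_nsp_mul (Q : V → F) (hsm : ∀ (c : F) (v : V), Q (c • v) = c ^ 2 * Q v) :
    Nat.card {W : Submodule F V // finrank F W = 1 ∧ ∃ v ∈ W, Q v ≠ 0} * (Fintype.card F - 1) =
      Nat.card {v : V // Q v ≠ 0} := by
  classical
  have hfin : Finite V := Module.finite_of_finite F
  have hQ0 : Q 0 = 0 := by
    have := hsm 0 0
    rw [zero_smul] at this
    rw [this]
    ring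
  have hne0 : ∀ v : V, Q v ≠ 0 → v ≠ 0 := fun v hv h0 => hv (by rw [h0, hQ0])
  let φ : {v : V // Q v ≠ 0} →
      {W : Submodule F V // finrank F W = 1 ∧ ∃ v ∈ W, Q v ≠ 0} := fun v =>
    ⟨F ∙ v.1, finrank_span_singleton (hne0 v.1 v.2), v.1, Submodule.mem_span_singleton_self v.1, v.2⟩
  have : Fintype {W : Submodule F V // finrank F W = 1 ∧ ∃ v ∈ W, Q v ≠ 0} := Fintype.ofFinite _
  rw [← Nat.card_congr (Equiv.sigmaFiberEquiv φ), Nat.card_sigma]
  have hfib : ∀ W : {W : Submodule F V // finrank F W = 1 ∧ ∃ v ∈ W, Q v ≠ 0},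
      Nat.card {x : {v : V // Q v ≠ 0} // φ x = W} = Fintype.card F - 1 := by
    rintro ⟨W, hW1, v0, hv0W, hv0⟩
    have hWspan : ∀ w ∈ W, w ≠ 0 → F ∙ w = W := by
      intro w hw hw0
      apply Submodule.eq_of_le_of_finrank_eq
      · rwa [Submodule.span_singleton_le_iff_mem]
      · rw [finrank_span_singleton hw0, hW1]
    have hns : ∀ w ∈ W, w ≠ 0 → Q w ≠ 0 := by
      intro w hw hw0 hQw
      have : v0 ∈ F ∙ w := by rw [hWspan w hw hw0]; exact hv0W
      obtain ⟨c, rfl⟩ := Submodule.mem_span_singleton.1 this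
      apply hv0
      rw [hsm, hQw, mul_zero]
    have e : {x : {v : V // Q v ≠ 0} // φ x = ⟨W, hW1, v0, hv0W, hv0⟩} ≃ {w : ↥W // w ≠ 0} :=
      { toFun := fun x => ⟨⟨x.1.1, by
            have := congrArg Subtype.val x.2
            change F ∙ x.1.1 = W at this
            have h' : x.1.1 ∈ F ∙ x.1.1 := Submodule.mem_span_singleton_self _
            rwa [this] at h'⟩, by
            intro h
            exact hne0 x.1.1 x.1.2 (congrArg Subtype.val h)⟩
        invFun := fun w => ⟨⟨w.1.1, hns w.1.1 w.1.2 (fun h => w.2 (Subtype.ext h))⟩,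
          Subtype.ext (hWspan w.1.1 w.1.2 (fun h => w.2 (Subtype.ext h)))⟩
        left_inv := fun x => rfl
        right_inv := fun w => rfl }
    rw [Nat.card_congr e]
    have : Fintype ↥W := Fintype.ofFinite _
    rw [Nat.card_eq_fintype_card, Fintype.card_subtype_compl (fun w : ↥W => w = 0),
      Fintype.card_subtype_eq, Module.card_eq_pow_finrank (K := F) (V := ↥W), hW1, pow_one]
  rw [Finset.sum_congr rfl (fun W _ => hfib W), Finset.sum_const, Finset.card_univ, smul_eq_mul,
    Nat.card_eq_fintype_card]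

/-- the number of nonsingular points of an even-dimensional space of type `ε` -/
theorem card_nsp (Q : QuadraticForm F V) {l : ℕ} {ε : ℤ} (h : HasType Q l ε) :
    (Nat.card {W : Submodule F V // finrank F W = 1 ∧ ∃ v ∈ W, Q v ≠ 0} : ℤ) =
      (Fintype.card F : ℤ) ^ l * ((Fintype.card F : ℤ) ^ (l + 1) - ε) := by
  classical
  have hfin : Finite V := Module.finite_of_finite F
  have h1 := card_nsp_mul (F := F) (fun v => Q v) (fun c v => by
    show Q (c • v) = c ^ 2 * Q v
    rw [QuadraticMap.map_smul, smul_eq_mul]; ring)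
  have h2 : Nat.card {v : V // Q v ≠ 0} + nc Q 0 = Fintype.card F ^ (2 * l + 2) := by
    unfold nc
    rw [add_comm, ← Nat.card_sum, Nat.card_congr (Equiv.sumCompl (fun v : V => Q v = 0)),
      Module.natCard_eq_pow_finrank (K := F) (V := V), h.1, Nat.card_eq_fintype_card]
  have h3 := h.2.2.2
  have hq : (1 : ℤ) < (Fintype.card F : ℤ) := one_lt_card
  have hq1 : 1 ≤ Fintype.card F := Fintype.card_pos
  have h1' : (Nat.card {W : Submodule F V // finrank F W = 1 ∧ ∃ v ∈ W, Q v ≠ 0} : ℤ) *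
      ((Fintype.card F : ℤ) - 1) = (Nat.card {v : V // Q v ≠ 0} : ℤ) := by
    rw [← h1]
    push_cast [Nat.cast_sub hq1]
    ring
  have h2' : (Nat.card {v : V // Q v ≠ 0} : ℤ) + (nc Q 0 : ℤ) =
      (Fintype.card F : ℤ) ^ (2 * l + 2) := by
    exact_mod_cast h2
  have hne : ((Fintype.card F : ℤ) - 1) ≠ 0 := by omega
  apply mul_right_cancel₀ hne
  rw [h1']
  have : (Nat.card {v : V // Q v ≠ 0} : ℤ) = (Fintype.card F : ℤ) ^ (2 * l + 2) - (nc Q 0 : ℤ) := by
    linarith
  rw [this, h3]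
  ring

/-- a prime `r ≠ p` dividing the number of nonsingular points divides `q ^ (l + 1) - ε` -/
theorem hdiv_of_dvd (p : ℕ) [Fact p.Prime] [CharP F p] {r : ℕ} [hr : Fact r.Prime] (hrp : r ≠ p)
    (Q : QuadraticForm F V) {l : ℕ} {ε : ℤ} (h : HasType Q l ε)
    (hdvd : r ∣ Nat.card {W : Submodule F V // finrank F W = 1 ∧ ∃ v ∈ W, Q v ≠ 0}) :
    (ε = 1 ∧ r ∣ Fintype.card F ^ (l + 1) - 1) ∨ (ε = -1 ∧ r ∣ Fintype.card F ^ (l + 1) + 1) := by
  have hp : p.Prime := Fact.out
  obtain ⟨f, -, hcard⟩ := FiniteField.card F p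
  have hc := card_nsp Q h
  have hdvd' : (r : ℤ) ∣ (Fintype.card F : ℤ) ^ l * ((Fintype.card F : ℤ) ^ (l + 1) - ε) := by
    rw [← hc]
    exact_mod_cast hdvd
  have hrq : ¬ (r : ℤ) ∣ (Fintype.card F : ℤ) ^ l := by
    intro hcon
    have h1 : r ∣ Fintype.card F ^ l := by exact_mod_cast hcon
    have h2 : r ∣ Fintype.card F := hr.out.dvd_of_dvd_pow h1
    rw [hcard] at h2
    have h3 : r ∣ p := hr.out.dvd_of_dvd_pow h2
    exact hrp ((Nat.prime_dvd_prime_iff_eq hr.out hp).1 h3)
  have hrI : Prime (r : ℤ) := Nat.prime_iff_prime_int.1 hr.out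
  have h4 : (r : ℤ) ∣ (Fintype.card F : ℤ) ^ (l + 1) - ε :=
    (hrI.dvd_or_dvd hdvd').resolve_left hrq
  have hq1 : 1 ≤ Fintype.card F ^ (l + 1) := Nat.one_le_pow _ _ Fintype.card_pos
  rcases h.2.2.1 with he | he
  · left
    refine ⟨he, ?_⟩
    rw [he] at h4
    have : ((Fintype.card F ^ (l + 1) - 1 : ℕ) : ℤ) = (Fintype.card F : ℤ) ^ (l + 1) - 1 := by
      push_cast [Nat.cast_sub hq1]
      ring
    rw [← this] at h4
    exact_mod_cast h4
  · right
    refine ⟨he, ?_⟩
    rw [he] at h4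
    have : ((Fintype.card F ^ (l + 1) + 1 : ℕ) : ℤ) = (Fintype.card F : ℤ) ^ (l + 1) - (-1) := by
      push_cast
      ring
    rw [← this] at h4
    exact_mod_cast h4

end Count

section Fixed

variable {F : Type v} [Field F] {ι : Type} [Fintype ι] [DecidableEq ι]

/-- in characteristic two an isometry stabilising a nonsingular point fixes a nonsingular vector
of it -/
theorem fixed_of_nsp [CharP F 2] {Q : (ι → F) → F}
    (hsm : ∀ (c : F) (v : ι → F), Q (c • v) = c ^ 2 * Q v) (M : Matrix ι ι F)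
    (hM : ∀ v, Q (M.mulVec v) = Q v) (W : Submodule F (ι → F)) (hW1 : finrank F W = 1)
    (hW2 : ∃ v ∈ W, Q v ≠ 0) (hWM : W.map (Matrix.toLin' M) ≤ W) :
    ∃ v ∈ W, Q v ≠ 0 ∧ M.mulVec v = v := by
  obtain ⟨v, hvW, hv⟩ := hW2
  have hQ0 : Q 0 = 0 := by
    have := hsm 0 0
    rw [zero_smul] at this
    rw [this]
    ring
  have hv0 : v ≠ 0 := fun h0 => hv (by rw [h0, hQ0])
  refine ⟨v, hvW, hv, ?_⟩
  have hWspan : F ∙ v = W := by
    apply Submodule.eq_of_le_of_finrank_eq
    · rwa [Submodule.span_singleton_le_iff_mem]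
    · rw [finrank_span_singleton hv0, hW1]
  have hMv : M.mulVec v ∈ W := by
    apply hWM
    refine ⟨v, hvW, ?_⟩
    rw [Matrix.toLin'_apply]
  rw [← hWspan] at hMv
  obtain ⟨c, hc⟩ := Submodule.mem_span_singleton.1 hMv
  have h1 := hM v
  rw [← hc, hsm] at h1
  have h2 : c ^ 2 = 1 := by
    have : (c ^ 2 - 1) * Q v = 0 := by linear_combination h1
    rcases mul_eq_zero.1 this with h | h
    · linear_combination h
    · exact absurd h hv
  have h3 : c = 1 := by
    have h2' : (2 : F) = 0 := CharTwo.two_eq_zero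
    have : (c - 1) ^ 2 = 0 := by linear_combination h2 - c * h2' + h2'
    have := pow_eq_zero_iff (two_ne_zero) |>.1 this
    linear_combination this
  rw [← hc, h3, one_smul]

/-- a fixed nonsingular vector spans a stabilised nonsingular point -/
theorem nsp_of_fixed {Q : (ι → F) → F} (hQ0 : Q 0 = 0) (M : Matrix ι ι F) (v : ι → F)
    (hv : Q v ≠ 0) (hMv : M.mulVec v = v) :
    ∃ W : Submodule F (ι → F), (finrank F W = 1 ∧ ∃ v ∈ W, Q v ≠ 0) ∧
      W.map (Matrix.toLin' M) ≤ W := by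
  have hv0 : v ≠ 0 := fun h0 => hv (by rw [h0, hQ0])
  refine ⟨F ∙ v, ⟨finrank_span_singleton hv0, v, Submodule.mem_span_singleton_self v, hv⟩, ?_⟩
  rw [Submodule.map_span, Set.image_singleton, Matrix.toLin'_apply, hMv]

/-- the fixed space of an involution `M` (with `(M - 1)² = 0`) has at least half the dimension,
and exactly `card ι - rank (M - 1)` -/
theorem finrank_ker_of_sq_zero (N : Matrix ι ι F) (hN : N * N = 0) :
    finrank F (LinearMap.ker (Matrix.toLin' N)) + N.rank = Fintype.card ι ∧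
      N.rank ≤ finrank F (LinearMap.ker (Matrix.toLin' N)) := by
  have h1 := LinearMap.finrank_range_add_finrank_ker (Matrix.toLin' N)
  rw [Module.finrank_pi, Matrix.toLin'_apply'] at h1
  have h2 : N.rank = finrank F (LinearMap.range N.mulVecLin) := rfl
  rw [Matrix.toLin'_apply']
  refine ⟨by omega, ?_⟩
  rw [h2]
  apply Submodule.finrank_mono
  rintro _ ⟨w, rfl⟩
  rw [LinearMap.mem_ker, Matrix.mulVecLin_apply, Matrix.mulVecLin_apply, Matrix.mulVec_mulVec, hN,
    Matrix.zero_mulVec]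

/-- an involutory isometry whose fixed space is too large to be totally singular fixes a
nonsingular vector -/
theorem exists_fixed_nonsing {Q : (ι → F) → F} (M : Matrix ι ι F) (t : ℕ)
    (hts : ∀ U : Submodule F (ι → F), (∀ u ∈ U, Q u = 0) → finrank F U ≤ t)
    (hrk : t + (M - 1).rank < Fintype.card ι) (hN : (M - 1) * (M - 1) = 0) :
    ∃ v, Q v ≠ 0 ∧ M.mulVec v = v := by
  by_contra hcon
  push Not at hcon
  have h1 := (finrank_ker_of_sq_zero (M - 1) hN).1
  have h2 := hts (LinearMap.ker (Matrix.toLin' (M - 1))) (by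
    intro u hu
    by_contra hQu
    apply hcon u hQu
    rw [LinearMap.mem_ker, Matrix.toLin'_apply, Matrix.sub_mulVec, Matrix.one_mulVec] at hu
    exact sub_eq_zero.1 hu)
  omega

end Fixed

end Cfsg.Agent.Lib.Helper8.NonsingPt
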