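import Mathlib
import Cfsg.Agent.Lib.Helper8.NonsingPtA

/-!
# Fixed-point-free isometries of odd prime order filling an even-dimensional orthogonal space
(helper8)
-/

set_option autoImplicit false
set_option linter.unusedSectionVars false

namespace Cfsg.Agent.Lib.Helper8.NonsingPt

open Polynomial Module QuadraticMap Matrix Cfsg.Agent.Lib.Helper8.PrimeOrd
  Cfsg.Agent.Lib.Helper8.OrPrime Cfsg.Agent.Lib.Helper8.QType

universe v

variable {F : Type v} [Field F] [Fintype F] [DecidableEq F] {r : ℕ} [hr : Fact r.Prime]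
variable {ι : Type} [Fintype ι] [DecidableEq ι]

/-- if `r ∣ q ^ (l + 1) - ε` for the type `ε` of the space, some isometry of order `r` has no
eigenvalue `1` -/
theorem exists_fpf (p : ℕ) [Fact p.Prime] [CharP F p] (hrp : r ≠ p) (hr2 : r ≠ 2)
    (Q : QuadraticForm F (ι → F)) {l : ℕ} {ε : ℤ} (h : HasType Q l ε)
    (hdiv : (ε = 1 ∧ r ∣ Fintype.card F ^ (l + 1) - 1) ∨
      (ε = -1 ∧ r ∣ Fintype.card F ^ (l + 1) + 1)) :
    ∃ x : ↥(Cfsg.isometryGroup F ⇑Q), orderOf x = r ∧ (omat x).charpoly.eval 1 ≠ 0 := by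
  classical
  have hp : p.Prime := Fact.out
  obtain ⟨f, -, hcard⟩ := FiniteField.card F p
  have hcop : p.Coprime r := (Nat.coprime_primes hp hr.out).2 (Ne.symm hrp)
  have hrF : (r : F) ≠ 0 := natCast_r_ne_zero p hrp
  have hr3 : 2 ≤ r := hr.out.two_le
  set x : ZMod r := ((Fintype.card F : ℕ) : ZMod r) with hx
  set i := orderOf x with hi
  have hx0 : x ≠ 0 := by
    rw [hx, Ne, ZMod.natCast_eq_zero_iff]
    intro hcon
    rw [hcard] at hcon
    have h3 : r ∣ p := hr.out.dvd_of_dvd_pow hcon
    exact hrp ((Nat.prime_dvd_prime_iff_eq hr.out hp).1 h3)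
  have hidvd : i ∣ r - 1 := orderOf_dvd_of_pow_eq_one (ZMod.pow_card_sub_one_eq_one hx0)
  have hipos : 0 < i := Nat.pos_of_dvd_of_pos hidvd (by omega)
  have hdeg : ∀ j : ↥(cycFactors F r), (PP F r j).natDegree = i := fun j => by
    rw [natDegree_PP hcard hcop j]
  have hcardα : Fintype.card ↥(cycFactors F r) = (r - 1) / i := card_cycFactors hcard hcop
  have hαpos : 0 < Fintype.card ↥(cycFactors F r) := by
    rw [hcardα]
    exact Nat.div_pos (Nat.le_of_dvd (by omega) hidvd) hipos
  obtain ⟨j₀⟩ : Nonempty ↥(cycFactors F r) := Fintype.card_pos_iff.1 hαpos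
  have hsinv := sIdx_involutive (RingHom.id F) (fun _ => rfl) hrF
  have hcardι := card_of_hasType Q h
  set D := l + 1 with hD
  -- the conclusion from the characteristic polynomial
  have hfin : ∀ (e : ↥(cycFactors F r) → ℕ) (N : ℕ), N = 0 →
      (∃ y : ↥(Cfsg.isometryGroup F ⇑Q), orderOf y = r ∧ (omat y).charpoly =
        fe (PPo F r) (fun o => Option.elim o N e)) →
      ∃ y : ↥(Cfsg.isometryGroup F ⇑Q), orderOf y = r ∧ (omat y).charpoly.eval 1 ≠ 0 := by
    rintro e N rfl ⟨y, hy1, hy2⟩
    refine ⟨y, hy1, ?_⟩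
    rw [hy2, fe_PPo]
    simp only [Option.elim_none, Option.elim_some, pow_zero, one_mul]
    exact eval_one_fe_ne_zero hrF e
  -- the even case, common to both types
  have heven : ∀ d' : ℕ, 0 < d' → i = 2 * d' → d' ∣ D → ε = (-1) ^ (D / d') →
      ∃ y : ↥(Cfsg.isometryGroup F ⇑Q), orderOf y = r ∧ (omat y).charpoly.eval 1 ≠ 0 := by
    intro d' hd' hi2 hdD hε
    have hi' : orderOf ((Fintype.card F : ℕ) : ZMod r) = 2 * d' := by rw [← hx, ← hi, hi2]
    have hdeg' : ∀ j : ↥(cycFactors F r), (PP F r j).natDegree = 2 * d' := fun j => by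
      rw [hdeg j, hi2]
    have hfix := sIdx_eq_of_even hrF d' hd' hi'
    set e : ↥(cycFactors F r) → ℕ := fun j => if j = j₀ then D / d' else 0 with he
    have hsum : ∑ j, e j = D / d' := by
      rw [he]
      rw [Finset.sum_ite_eq' Finset.univ j₀ (fun _ => D / d')]
      simp
    have hDd : d' * (D / d') = D := Nat.mul_div_cancel' hdD
    have hfull : 2 * d' * ∑ j, e j = Fintype.card ι := by
      rw [hsum, hcardι, mul_assoc, hDd, hD]
      ring
    have hne : e ≠ 0 := by
      intro hcon
      have := congrFun hcon j₀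
      rw [he] at this
      simp only [if_true, Pi.zero_apply] at this
      rw [this, mul_zero] at hDd
      omega
    apply hfin e (Fintype.card ι - 2 * d' * ∑ j, e j) (by omega)
    exact ex_even Q p h hrF hr2 d' hd' hi' hdeg' e
      (by funext j; simp only [Function.comp_apply, hfix j]) (by omega) hne
      (fun _ => by rw [hsum]; exact hε)
  rcases hdiv with ⟨hε, hdvd⟩ | ⟨hε, hdvd⟩
  · -- plus type: `i ∣ D`
    have hxD : x ^ D = 1 := by
      have h1 : ((Fintype.card F ^ D - 1 : ℕ) : ZMod r) = 0 := (ZMod.natCast_eq_zero_iff _ _).2 hdvd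
      have hq1 : 1 ≤ Fintype.card F ^ D := Nat.one_le_pow _ _ Fintype.card_pos
      rw [Nat.cast_sub hq1, Nat.cast_pow, Nat.cast_one, ← hx] at h1
      exact sub_eq_zero.1 h1
    have hiD : i ∣ D := orderOf_dvd_of_pow_eq_one hxD
    by_cases hodd : Odd i
    · have hfp := sIdx_ne_of_odd hrF hr2 i hdeg hodd
      set s := sIdx (RingHom.id F) (fun _ => rfl) hrF with hs
      set e : ↥(cycFactors F r) → ℕ :=
        fun j => if j ∈ ({j₀, s j₀} : Finset ↥(cycFactors F r)) then D / i else 0 with he
      have hsum : ∑ j, e j = 2 * (D / i) := by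
        rw [he, Finset.sum_ite_mem, Finset.univ_inter, Finset.sum_const,
          Finset.card_pair (Ne.symm (hfp j₀)), smul_eq_mul]
      have hDd : i * (D / i) = D := Nat.mul_div_cancel' hiD
      have hfull : i * ∑ j, e j = Fintype.card ι := by
        rw [hsum, hcardι, ← mul_assoc, mul_comm i 2, mul_assoc, hDd, hD]
        ring
      have hne : e ≠ 0 := by
        intro hcon
        have := congrFun hcon j₀
        rw [he] at this
        simp only [Finset.mem_insert, true_or, if_true, Pi.zero_apply] at this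
        rw [this, mul_zero] at hDd
        omega
      have hes : e ∘ s = e := by
        funext j
        simp only [Function.comp_apply, he, Finset.mem_insert, Finset.mem_singleton]
        have h1 : s j = j₀ ↔ j = s j₀ := by
          constructor
          · intro h'; rw [← h', hsinv j]
          · intro h'; rw [h', hsinv j₀]
        have h2 : s j = s j₀ ↔ j = j₀ := hsinv.injective.eq_iff
        exact if_congr (by rw [h1, h2, or_comm]) rfl rfl
      apply hfin e (Fintype.card ι - i * ∑ j, e j) (by omega)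
      exact ex_odd Q p h hrF hr2 hfp i hipos hdeg e hes (by omega) hne (fun _ => hε)
    · obtain ⟨d', hd2⟩ := Nat.not_odd_iff_even.1 hodd
      have hd' : 0 < d' := by omega
      have hi2 : i = 2 * d' := by omega
      have hdD : d' ∣ D := Dvd.dvd.trans ⟨2, by omega⟩ hiD
      apply heven d' hd' hi2 hdD
      rw [hε]
      obtain ⟨t, ht⟩ := hiD
      have : D / d' = 2 * t := by
        rw [ht, hi2, mul_assoc, mul_comm 2, mul_assoc, Nat.mul_div_cancel_left _ hd']
        ring
      rw [this, pow_mul]
      norm_num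
  · -- minus type: `i ∣ 2 D`, `i ∤ D`
    have hxD : x ^ D = -1 := by
      have h1 : ((Fintype.card F ^ D + 1 : ℕ) : ZMod r) = 0 := (ZMod.natCast_eq_zero_iff _ _).2 hdvd
      rw [Nat.cast_add, Nat.cast_pow, Nat.cast_one, ← hx] at h1
      exact eq_neg_of_add_eq_zero_left h1
    have hx2D : x ^ (2 * D) = 1 := by
      rw [mul_comm, pow_mul, hxD]
      norm_num
    have hi2D : i ∣ 2 * D := orderOf_dvd_of_pow_eq_one hx2D
    have hniD : ¬ i ∣ D := by
      intro hcon
      have h1 : x ^ D = 1 := orderOf_dvd_iff_pow_eq_one.1 hcon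
      rw [hxD] at h1
      have h2 : (2 : ZMod r) = 0 := by linear_combination -h1
      have h3 : ((2 : ℕ) : ZMod r) = 0 := by exact_mod_cast h2
      rw [ZMod.natCast_eq_zero_iff] at h3
      have := Nat.le_of_dvd (by omega) h3
      omega
    have hev : Even i := by
      by_contra hne
      have hodd : Odd i := Nat.not_even_iff_odd.1 hne
      have hcop2 : Nat.Coprime i 2 := Nat.Coprime.symm (Nat.coprime_primes Nat.prime_two
        hr.out |>.2 hr2.symm |> fun _ => (Nat.Prime.coprime_iff_not_dvd Nat.prime_two).2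
          (fun h2 => by
            obtain ⟨k, hk⟩ := hodd
            omega))
      exact hniD (hcop2.dvd_of_dvd_mul_left hi2D)
    obtain ⟨d', hd2⟩ := hev
    have hd' : 0 < d' := by omega
    have hi2 : i = 2 * d' := by omega
    have hdD : d' ∣ D := by
      rw [hi2] at hi2D
      exact (Nat.mul_dvd_mul_iff_left (by omega : 0 < 2)).1 hi2D
    apply heven d' hd' hi2 hdD
    rw [hε]
    have hoddq : Odd (D / d') := by
      by_contra hne
      obtain ⟨t, ht⟩ := Nat.not_odd_iff_even.1 hne
      apply hniD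
      have hDd : d' * (D / d') = D := Nat.mul_div_cancel' hdD
      refine ⟨t, ?_⟩
      rw [← hDd, ht, hi2]
      ring
    rw [hoddq.neg_one_pow]

end Cfsg.Agent.Lib.Helper8.NonsingPt
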