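import Mathlib
import Cfsg.Agent.S0904
import Cfsg.Agent.Lib.Helper4.Sylow
import Cfsg.Agent.Lib.Helper4.Simple
import Cfsg.Agent.Lib.Helper4.SylowPrime

/-! Order 4320 (helper8, for S0977): basic facts.

* `centralizer_five`: an element of order 5 commutes only with its powers (S0904);
* `not_normalizes`: an element of order 5 normalises no non-trivial 3-subgroup;
* `five_not_dvd_of_le_normalizer`, `five_not_dvd_of_le_centralizer`: 3-local subgroups are
  `{2,3}`-groups;
* `card_sylow_ge`: Sylow counting inside a `{2,3}`-subgroup.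
-/

set_option autoImplicit false
set_option linter.unusedSectionVars false
set_option linter.style.haveILetI false

namespace Cfsg.Agent.Lib.Helper8.O4320

open Cfsg.Agent.Lib.Helper4.Sylow Cfsg.Agent.Lib.Helper4.Simple

section
variable {G : Type*} [Group G] [Finite G] [IsSimpleGroup G]

theorem card_sylow3 (hn : Nat.card G = 4320) [Fact (Nat.Prime 3)] (P : Sylow 3 G) :
    Nat.card (P : Subgroup G) = 27 := by
  have hn' : Nat.card G = 3 ^ 3 * 160 := by rw [hn]; norm_num
  exact card_sylow_of_card_eq hn' (by decide) P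

theorem card_sylow5 (hn : Nat.card G = 4320) [Fact (Nat.Prime 5)] (P : Sylow 5 G) :
    Nat.card (P : Subgroup G) = 5 := by
  have hn' : Nat.card G = 5 ^ 1 * 864 := by rw [hn]; norm_num
  have := card_sylow_of_card_eq hn' (by decide) P
  rwa [pow_one] at this

/-- An element of order 5 commutes only with its own powers. -/
theorem centralizer_five (hn : Nat.card G = 4320) (x : G) (hx : orderOf x = 5) (g : G)
    (hg : g * x = x * g) : g ∈ Subgroup.zpowers x := by
  have : Fact (Nat.Prime 5) := ⟨by norm_num⟩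
  have hzc : Nat.card (Subgroup.zpowers x) = 5 ^ 1 := by rw [Nat.card_zpowers, hx, pow_one]
  obtain ⟨P, hP⟩ : ∃ P : Sylow 5 G, (P : Subgroup G) = Subgroup.zpowers x := by
    have hc : Nat.card (Subgroup.zpowers x) = 5 ^ (Nat.card G).factorization 5 := by
      rw [hzc, hn]
      have : (4320 : ℕ).factorization 5 = 1 := by
        have h4320 : (4320 : ℕ) = 5 ^ 1 * 864 := by norm_num
        rw [h4320, Nat.factorization_mul (by norm_num) (by norm_num)]
        simp [Nat.Prime.factorization_self (by norm_num : Nat.Prime 5),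
          Nat.factorization_eq_zero_of_not_dvd (by decide : ¬ 5 ∣ 864)]
      rw [this]
    exact ⟨Sylow.ofCard (Subgroup.zpowers x) hc, Sylow.coe_ofCard _ hc⟩
  have hC : Subgroup.centralizer ((P : Subgroup G) : Set G) = (P : Subgroup G) :=
    Cfsg.Agent.S0904.result 2 3 5 5 3 (by norm_num) (by norm_num) (by norm_num) (by norm_num)
      (by norm_num) (by rw [hn]; norm_num) P
  rw [← hP, ← hC, Subgroup.mem_centralizer_iff]
  intro w hw
  rw [SetLike.mem_coe, hP, Subgroup.mem_zpowers_iff] at hw
  obtain ⟨k, rfl⟩ := hw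
  exact ((Commute.zpow_right (show Commute g x from hg) k).eq).symm

/-- the conjugation action of a subgroup `K` of the normalizer of `A` on `A`. -/
@[reducible] def conjAct (A K : Subgroup G) (hK : K ≤ Subgroup.normalizer (A : Set G)) : MulAction K A where
  smul k a := ⟨(k : G) * a * (k : G)⁻¹, (Subgroup.mem_normalizer_iff.1 (hK k.2) a).1 a.2⟩
  one_smul a := by
    apply Subtype.ext
    show ((1 : K) : G) * a * ((1 : K) : G)⁻¹ = a
    simp
  mul_smul k l a := by
    apply Subtype.ext
    show ((k * l : K) : G) * a * ((k * l : K) : G)⁻¹ = (k : G) * ((l : G) * a * (l : G)⁻¹) * (k : G)⁻¹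
    simp only [Subgroup.coe_mul, mul_inv_rev]
    group

/-- An element of order 5 normalises no non-trivial 3-subgroup. -/
theorem not_normalizes (hn : Nat.card G = 4320) (A : Subgroup G) (hA : IsPGroup 3 A) (hA1 : A ≠ ⊥)
    (x : G) (hx : orderOf x = 5) (hxA : x ∈ Subgroup.normalizer (A : Set G)) : False := by
  classical
  have : Fact (Nat.Prime 5) := ⟨by norm_num⟩
  have : Fact (Nat.Prime 3) := ⟨by norm_num⟩
  have hK : Subgroup.zpowers x ≤ Subgroup.normalizer (A : Set G) := by
    rw [Subgroup.zpowers_le]; exact hxA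
  letI := conjAct A (Subgroup.zpowers x) hK
  have hsm : ∀ (k : Subgroup.zpowers x) (a : A), ((k • a : A) : G) = (k : G) * a * (k : G)⁻¹ :=
    fun _ _ => rfl
  have hKp : IsPGroup 5 (Subgroup.zpowers x) := by
    apply IsPGroup.of_card (n := 1)
    rw [Nat.card_zpowers, hx, pow_one]
  have hmod := hKp.card_modEq_card_fixedPoints (α := A)
  -- the order of `A`
  obtain ⟨k, hk⟩ := hA.exists_card_eq
  have hk3 : k ≤ 3 := by
    have hd : 3 ^ k ∣ 4320 := by rw [← hk, ← hn]; exact Subgroup.card_subgroup_dvd_card A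
    by_contra hcon
    push Not at hcon
    have : 3 ^ 4 ∣ 4320 := dvd_trans (pow_dvd_pow 3 hcon) hd
    norm_num at this
  have hk0 : k ≠ 0 := by
    rintro rfl
    rw [pow_zero] at hk
    exact hA1 (Subgroup.card_eq_one.1 hk)
  -- a non-trivial fixed point
  have hfix : 1 < Nat.card (MulAction.fixedPoints (Subgroup.zpowers x) A) := by
    have h1 : 0 < Nat.card (MulAction.fixedPoints (Subgroup.zpowers x) A) := by
      apply Nat.card_pos_iff.2
      refine ⟨⟨⟨1, ?_⟩⟩, inferInstance⟩
      intro k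
      apply Subtype.ext
      rw [hsm]
      simp
    by_contra hcon
    have h2 : Nat.card (MulAction.fixedPoints (Subgroup.zpowers x) A) = 1 := by omega
    rw [h2, hk] at hmod
    unfold Nat.ModEq at hmod
    interval_cases k <;> simp_all
  obtain ⟨a, b, hab⟩ := (Finite.one_lt_card_iff_nontrivial.1 hfix).exists_pair_ne
  -- one of them is not `1`
  obtain ⟨c, hc1, hcfix⟩ : ∃ c : A, c ≠ 1 ∧ c ∈ MulAction.fixedPoints (Subgroup.zpowers x) A := by
    by_cases ha : (a : A) = 1
    · refine ⟨b, ?_, b.2⟩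
      intro hb
      apply hab
      apply Subtype.ext
      rw [ha, hb]
    · exact ⟨a, ha, a.2⟩
  have hcx : (c : G) * x = x * c := by
    have := hcfix ⟨x, Subgroup.mem_zpowers x⟩
    have h2 := congrArg (Subtype.val) this
    rw [hsm] at h2
    simp only at h2
    calc (c : G) * x = (x * c * x⁻¹) * x := by rw [h2]
      _ = x * c := by group
  have hcz := centralizer_five hn x hx c hcx
  -- `c` has order dividing 5 and a power of 3
  have h5 : (c : G) ^ 5 = 1 := by
    obtain ⟨m, hm⟩ := Subgroup.mem_zpowers_iff.1 hcz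
    rw [← hm, ← zpow_natCast, ← zpow_mul, mul_comm, zpow_mul, zpow_natCast, ← hx, pow_orderOf_eq_one,
      one_zpow]
  obtain ⟨j, hj⟩ := hA c
  have hj' : (c : G) ^ 3 ^ j = 1 := by
    have := congrArg Subtype.val hj
    simpa using this
  have hcop : Nat.Coprime 5 (3 ^ j) := by
    apply Nat.Coprime.pow_right
    norm_num
  have : (c : G) = 1 := by
    have h1 : orderOf (c : G) ∣ 5 := orderOf_dvd_of_pow_eq_one h5
    have h2 : orderOf (c : G) ∣ 3 ^ j := orderOf_dvd_of_pow_eq_one hj'
    have := Nat.dvd_gcd h1 h2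
    rw [hcop.gcd_eq_one, Nat.dvd_one] at this
    exact orderOf_eq_one_iff.1 this
  exact hc1 (Subtype.ext this)

/-- A subgroup of the normalizer of a non-trivial 3-subgroup has order prime to 5. -/
theorem five_not_dvd_of_le_normalizer (hn : Nat.card G = 4320) (A : Subgroup G) (hA : IsPGroup 3 A)
    (hA1 : A ≠ ⊥) (H : Subgroup G) (hH : H ≤ Subgroup.normalizer (A : Set G)) :
    ¬ 5 ∣ Nat.card H := by
  intro h5
  have : Fact (Nat.Prime 5) := ⟨by norm_num⟩
  obtain ⟨x, hx⟩ := exists_prime_orderOf_dvd_card' (G := H) 5 h5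
  refine not_normalizes hn A hA hA1 (x : G) ?_ (hH x.2)
  rw [← hx, Subgroup.orderOf_coe]

/-- A subgroup of order prime to 5 has order dividing 864. -/
theorem card_dvd_864 (hn : Nat.card G = 4320) (H : Subgroup G) (h5 : ¬ 5 ∣ Nat.card H) :
    Nat.card H ∣ 864 := by
  have h1 : Nat.card H ∣ 5 * 864 := by
    have := Subgroup.card_subgroup_dvd_card H
    rwa [hn] at this
  have hcop : Nat.Coprime (Nat.card H) 5 := by
    rw [Nat.coprime_comm]
    exact (Nat.Prime.coprime_iff_not_dvd (by norm_num)).2 h5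
  exact hcop.dvd_of_dvd_mul_left h1


/-- Sylow 3-subgroups of `G` contained in `H` inject into the Sylow 3-subgroups of `H`. -/
theorem card_le_card_sylow [Fact (Nat.Prime 3)] (H : Subgroup G) (S : Finset (Sylow 3 G))
    (hS : ∀ R ∈ S, (R : Subgroup G) ≤ H) : S.card ≤ Nat.card (Sylow 3 H) := by
  classical
  have hfin : Finite (Sylow 3 H) := inferInstance
  let f : S → Sylow 3 H := fun R => (R : Sylow 3 G).subtype (hS R R.2)
  have hf : Function.Injective f := by
    intro R R' h
    apply Subtype.ext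
    apply Sylow.ext
    have h1 : ((f R : Sylow 3 H) : Subgroup H) = ((f R' : Sylow 3 H) : Subgroup H) := by rw [h]
    have h2 : ∀ R : S, ((f R : Sylow 3 H) : Subgroup H) = ((R : Sylow 3 G) : Subgroup G).subgroupOf H :=
      fun R => rfl
    rw [h2, h2] at h1
    have h3 := congrArg (Subgroup.map H.subtype) h1
    rwa [Subgroup.map_subgroupOf_eq_of_le (hS R R.2), Subgroup.map_subgroupOf_eq_of_le (hS R' R'.2)]
      at h3
  have := Nat.card_le_card_of_injective f hf
  rwa [Nat.card_eq_fintype_card, Fintype.card_coe] at this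

/-- Sylow counting in a subgroup of order prime to 5 containing a Sylow 3-subgroup. -/
theorem card_sylow_sub (hn : Nat.card G = 4320) [Fact (Nat.Prime 3)] (H : Subgroup G)
    (h5 : ¬ 5 ∣ Nat.card H) (P : Sylow 3 G) (hP : (P : Subgroup G) ≤ H) :
    (Nat.card (Sylow 3 H) = 1 ∨ Nat.card (Sylow 3 H) = 4 ∨ Nat.card (Sylow 3 H) = 16) ∧
      27 * Nat.card (Sylow 3 H) ∣ Nat.card H := by
  have h864 := card_dvd_864 hn H h5
  set Q : Sylow 3 H := P.subtype hP with hQ
  have hQc : Nat.card (Q : Subgroup H) = 27 := by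
    have h1 : ((Q : Sylow 3 H) : Subgroup H) = (P : Subgroup G).subgroupOf H := rfl
    rw [h1, ← card_sylow3 hn P]
    exact Nat.card_congr (Subgroup.subgroupOfEquivOfLe hP).toEquiv
  have h1 := card_sylow_mul_card_normalizer Q
  have h2 : 27 ∣ Nat.card (Subgroup.normalizer ((Q : Subgroup H) : Set H)) := by
    rw [← hQc]
    exact Subgroup.card_dvd_of_le Subgroup.le_normalizer
  have h3 : 27 * Nat.card (Sylow 3 H) ∣ Nat.card H := by
    rw [← h1, mul_comm]
    exact Nat.mul_dvd_mul_left _ h2
  refine ⟨?_, h3⟩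
  have h4 : 27 * Nat.card (Sylow 3 H) ∣ 27 * 32 := dvd_trans h3 h864
  have h5 : Nat.card (Sylow 3 H) ∣ 32 := Nat.dvd_of_mul_dvd_mul_left (by norm_num) h4
  have h6 : Nat.card (Sylow 3 H) ≡ 1 [MOD 3] := card_sylow_modEq_one 3 H
  unfold Nat.ModEq at h6
  have h7 : Nat.card (Sylow 3 H) ≤ 32 := Nat.le_of_dvd (by norm_num) h5
  generalize Nat.card (Sylow 3 H) = m at *
  interval_cases m <;> simp_all <;> omega

/-- two distinct Sylow 3-subgroups in a subgroup of order prime to 5: at least four of them,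
and the order is divisible by 108. -/
theorem card_of_two_sylow (hn : Nat.card G = 4320) [Fact (Nat.Prime 3)] (H : Subgroup G)
    (h5 : ¬ 5 ∣ Nat.card H) (P R : Sylow 3 G) (hPR : P ≠ R) (hP : (P : Subgroup G) ≤ H)
    (hR : (R : Subgroup G) ≤ H) : 4 ≤ Nat.card (Sylow 3 H) ∧ 108 ∣ Nat.card H := by
  classical
  have h1 := card_le_card_sylow H {P, R} (by
    intro T hT
    rcases Finset.mem_insert.1 hT with h | h
    · rw [h]; exact hP
    · rw [Finset.mem_singleton.1 h]; exact hR)
  rw [Finset.card_pair hPR] at h1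
  obtain ⟨h2, h3⟩ := card_sylow_sub hn H h5 P hP
  have h4 : 4 ≤ Nat.card (Sylow 3 H) := by omega
  refine ⟨h4, ?_⟩
  have h5 : 4 ∣ Nat.card (Sylow 3 H) := by
    rcases h2 with h | h | h
    · omega
    · rw [h]
    · rw [h]; norm_num
  exact dvd_trans (by simpa using Nat.mul_dvd_mul_left 27 h5) h3

/-- five distinct Sylow 3-subgroups in a subgroup of order prime to 5: order at least 432. -/
theorem card_of_five_sylow (hn : Nat.card G = 4320) [Fact (Nat.Prime 3)] (H : Subgroup G)
    (h5 : ¬ 5 ∣ Nat.card H) (S : Finset (Sylow 3 G)) (hS : ∀ R ∈ S, (R : Subgroup G) ≤ H)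
    (h5S : 5 ≤ S.card) : 432 ∣ Nat.card H := by
  have h1 := card_le_card_sylow H S hS
  have hne : S.Nonempty := by
    rw [← Finset.card_pos]; omega
  obtain ⟨P, hPS⟩ := hne
  obtain ⟨h2, h3⟩ := card_sylow_sub hn H h5 P (hS P hPS)
  have h4 : Nat.card (Sylow 3 H) = 16 := by omega
  rw [h4] at h3
  exact h3

end

end Cfsg.Agent.Lib.Helper8.O4320
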