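import Mathlib
import Cfsg.Agent.S2807
import Cfsg.Agent.Lib.Helper8.O4320A

/-! Order 4320 (helper8, for S0977): Yoshida's theorem (S2807) and `n₃ = 40`. -/

set_option autoImplicit false
set_option linter.unusedSectionVars false
set_option linter.style.haveILetI false

namespace Cfsg.Agent.Lib.Helper8.O4320

open Cfsg.Agent.Lib.Helper4.Sylow Cfsg.Agent.Lib.Helper4.Simple
open scoped commutatorElement

section
variable {G : Type*} [Group G] [Finite G] [IsSimpleGroup G]

theorem commutator_eq_top (hn : Nat.card G = 4320) : commutator G = ⊤ := by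
  rcases (inferInstance : (commutator G).Normal).eq_bot_or_eq_top with h | h
  · exfalso
    have hcomm : ∀ a b : G, a * b = b * a := by
      intro a b
      have h1 : ⁅a, b⁆ ∈ commutator G := by
        rw [commutator_def]
        exact Subgroup.commutator_mem_commutator (Subgroup.mem_top a) (Subgroup.mem_top b)
      rw [h, Subgroup.mem_bot] at h1
      exact (commutatorElement_eq_one_iff_mul_comm.mp h1)
    letI : CommGroup G := { ‹Group G› with mul_comm := hcomm }
    have hp : (Nat.card G).Prime := IsSimpleGroup.prime_card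
    rw [hn] at hp
    norm_num at hp
  · exact h

/-- Yoshida (S2807): a Sylow 3-subgroup (order 27 < 81) lies in the derived subgroup of its
normalizer. -/
theorem sylow3_le_commutator_normalizer (hn : Nat.card G = 4320) [Fact (Nat.Prime 3)]
    (P : Sylow 3 G) :
    (P : Subgroup G) ≤ ⁅Subgroup.normalizer ((P : Subgroup G) : Set G),
      Subgroup.normalizer ((P : Subgroup G) : Set G)⁆ := by
  by_contra hcon
  have hne : (P : Subgroup G) ⊓ commutator G ≠ (P : Subgroup G) ⊓
      ⁅Subgroup.normalizer ((P : Subgroup G) : Set G),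
        Subgroup.normalizer ((P : Subgroup G) : Set G)⁆ := by
    rw [commutator_eq_top hn, inf_top_eq]
    intro h
    exact hcon (h.le.trans inf_le_right)
  obtain ⟨Q, f, hf⟩ := Cfsg.Agent.S2807.result P hne
  have hQ : Nat.card (Q : Subgroup (Equiv.Perm (Fin (3 ^ 2)))) = 3 ^ 4 := by
    apply card_sylow_of_card_eq (m := 4480) _ (by decide) Q
    rw [Nat.card_perm, Nat.card_eq_fintype_card, Fintype.card_fin]
    decide
  have h1 := Nat.card_le_card_of_surjective f hf
  rw [hQ, card_sylow3 hn P] at h1
  norm_num at h1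

/-- a Sylow 3-subgroup is not self-normalizing. -/
theorem card_normalizer_ne_27 (hn : Nat.card G = 4320) [Fact (Nat.Prime 3)] (P : Sylow 3 G) :
    Nat.card (Subgroup.normalizer ((P : Subgroup G) : Set G)) ≠ 27 := by
  intro h
  have hle : (P : Subgroup G) ≤ Subgroup.normalizer ((P : Subgroup G) : Set G) :=
    Subgroup.le_normalizer
  have heq : Subgroup.normalizer ((P : Subgroup G) : Set G) = (P : Subgroup G) := by
    symm
    apply Subgroup.eq_of_le_of_card_ge hle
    rw [h, card_sylow3 hn P]
  have h1 := sylow3_le_commutator_normalizer hn P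
  rw [heq] at h1
  -- `P ≤ ⁅P, P⁆` is impossible for a nontrivial `3`-group
  have hnil : Group.IsNilpotent (P : Subgroup G) := P.2.isNilpotent
  have hnt : Nontrivial (P : Subgroup G) := by
    rw [← Finite.one_lt_card_iff_nontrivial, card_sylow3 hn P]
    norm_num
  have h2 : commutator (P : Subgroup G) < ⊤ := Group.IsSolvable.commutator_lt_top_of_nontrivial _
  apply h2.ne
  rw [eq_top_iff]
  intro x _
  have hx : (x : G) ∈ ⁅(P : Subgroup G), (P : Subgroup G)⁆ := h1 x.2
  have h3 : Subgroup.map (P : Subgroup G).subtype (commutator (P : Subgroup G)) =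
      ⁅(P : Subgroup G), (P : Subgroup G)⁆ := by
    rw [commutator_def, Subgroup.map_commutator, ← MonoidHom.range_eq_map,
      Subgroup.range_subtype]
  rw [← h3] at hx
  obtain ⟨y, hy, hyx⟩ := hx
  have : y = x := Subtype.ext hyx
  rwa [← this]


theorem aux_dvd_160 (m : ℕ) (h1 : m ∣ 160) (h2 : m % 3 = 1) :
    m = 1 ∨ m = 4 ∨ m = 10 ∨ m = 16 ∨ m = 40 ∨ m = 160 := by
  have hm : m ∈ Nat.divisors 160 := Nat.mem_divisors.2 ⟨h1, by norm_num⟩
  have hd : Nat.divisors 160 = {1, 2, 4, 5, 8, 10, 16, 20, 32, 40, 80, 160} := by decide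
  rw [hd] at hm
  simp only [Finset.mem_insert, Finset.mem_singleton] at hm
  omega

/-- `n₃ = 40` and `|N(P)| = 108`, given that there is no subgroup of order 432. -/
theorem card_sylow3_eq (hn : Nat.card G = 4320) (h432 : ∀ L : Subgroup G, Nat.card L = 432 → False)
    [Fact (Nat.Prime 3)] (P : Sylow 3 G) :
    Nat.card (Sylow 3 G) = 40 ∧
      Nat.card (Subgroup.normalizer ((P : Subgroup G) : Set G)) = 108 := by
  have hn' : Nat.card G = 3 ^ 3 * 160 := by rw [hn]; norm_num
  have h1 : Nat.card (Sylow 3 G) ∣ 160 := card_sylow_dvd_of_card_eq hn' (by decide)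
  have h2 : Nat.card (Sylow 3 G) ≡ 1 [MOD 3] := card_sylow_modEq_one 3 G
  have h3 := card_sylow_mul_card_normalizer P
  rw [hn] at h3
  have h4 : Nat.card (Sylow 3 G) ≠ 1 :=
    card_sylow_ne_one_of_simple P (by rw [card_sylow3 hn P]; norm_num)
      (by rw [card_sylow3 hn P, hn]; norm_num)
  have h5 := card_normalizer_ne_27 hn P
  have h6 : ¬ 5 ∣ Nat.card (Subgroup.normalizer ((P : Subgroup G) : Set G)) := by
    apply five_not_dvd_of_le_normalizer hn (P : Subgroup G) P.2 _ _ le_rfl
    intro h
    have := card_sylow3 hn P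
    rw [h, Subgroup.card_bot] at this
    norm_num at this
  have h7 : Nat.card (Subgroup.normalizer ((P : Subgroup G) : Set G)) ≠ 1080 := by
    intro h
    have hne : Subgroup.normalizer ((P : Subgroup G) : Set G) ≠ ⊤ := by
      intro ht
      rw [ht, Subgroup.card_top, hn] at h
      norm_num at h
    have hidx : (Subgroup.normalizer ((P : Subgroup G) : Set G)).index = 4 := by
      have := (Subgroup.normalizer ((P : Subgroup G) : Set G)).card_mul_index
      rw [h, hn] at this
      omega
    have := card_dvd_factorial_of_simple _ hne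
    rw [hidx, hn] at this
    norm_num [Nat.factorial] at this
  have h8 := h432 (Subgroup.normalizer ((P : Subgroup G) : Set G))
  unfold Nat.ModEq at h2
  have hm := aux_dvd_160 _ h1 (by rw [h2])
  generalize Nat.card (Sylow 3 G) = m at *
  generalize Nat.card (Subgroup.normalizer ((P : Subgroup G) : Set G)) = k at *
  rcases hm with rfl | rfl | rfl | rfl | rfl | rfl
  · exact absurd rfl h4
  · exact absurd (by omega : k = 1080) h7
  · exact absurd (by omega : k = 432) (fun h => h8 h)
  · have : k = 270 := by omega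
    rw [this] at h6
    norm_num at h6
  · exact ⟨rfl, by omega⟩
  · exact absurd (by omega : k = 27) h5

end

end Cfsg.Agent.Lib.Helper8.O4320
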