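import Mathlib
import Cfsg.Agent.Lib.Helper8.O4320B

/-! Order 4320 (helper8, for S0977): the case `n₃ = 40`, general lemmas and the abelian case. -/

set_option autoImplicit false
set_option linter.unusedSectionVars false
set_option linter.style.haveILetI false
set_option linter.unnecessarySeqFocus false

namespace Cfsg.Agent.Lib.Helper8.O4320

open Cfsg.Agent.Lib.Helper4.Sylow Cfsg.Agent.Lib.Helper4.Simple
open Cfsg.Agent.Lib.Helper4.SylowPrime

section
variable {G : Type*} [Group G] [Finite G] [IsSimpleGroup G]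

theorem no_card_864 (hn : Nat.card G = 4320) (L : Subgroup G) (hL : Nat.card L = 864) : False := by
  have hne : L ≠ ⊤ := by
    intro ht
    rw [ht, Subgroup.card_top, hn] at hL
    norm_num at hL
  have hidx : L.index = 5 := by
    have := L.card_mul_index
    rw [hL, hn] at this
    omega
  have := card_dvd_factorial_of_simple _ hne
  rw [hidx, hn] at this
  norm_num [Nat.factorial] at this

/-- no subgroup of order prime to 5 and divisible by 432. -/
theorem no_big (hn : Nat.card G = 4320) (h432 : ∀ L : Subgroup G, Nat.card L = 432 → False)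
    (H : Subgroup G) (h5 : ¬ 5 ∣ Nat.card H) (h : 432 ∣ Nat.card H) : False := by
  have h1 := card_dvd_864 hn H h5
  obtain ⟨k, hk⟩ := h
  rw [hk] at h1
  have h2 : k ∣ 2 := by
    have : 432 * k ∣ 432 * 2 := by simpa using h1
    exact Nat.dvd_of_mul_dvd_mul_left (by norm_num) this
  have h3 : k ≤ 2 := Nat.le_of_dvd (by norm_num) h2
  interval_cases k
  · simp at hk
    have := Nat.card_pos (α := H)
    omega
  · exact h432 H (by rw [hk])
  · exact no_card_864 hn H (by rw [hk])

/-- a subgroup of order 9 of a Sylow 3-subgroup is normal in it. -/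
theorem le_normalizer_of_card_nine (hn : Nat.card G = 4320) [Fact (Nat.Prime 3)] (P : Sylow 3 G)
    (D : Subgroup G) (hD : D ≤ (P : Subgroup G)) (hDc : Nat.card D = 9) :
    (P : Subgroup G) ≤ Subgroup.normalizer (D : Set G) := by
  rw [← Subgroup.normal_subgroupOf_iff_le_normalizer hD]
  apply Subgroup.normal_of_index_eq_minFac_card
  have h1 := (D.subgroupOf (P : Subgroup G)).card_mul_index
  have h2 : Nat.card (D.subgroupOf (P : Subgroup G)) = 9 := by
    rw [← hDc]
    exact Nat.card_congr (Subgroup.subgroupOfEquivOfLe hD).toEquiv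
  have h3 : Nat.card (P : Subgroup G) = 27 := card_sylow3 hn P
  rw [h2, h3] at h1
  rw [h3]
  have : Nat.minFac 27 = 3 := by norm_num
  rw [this]
  omega

/-- a `{2,3}`-subgroup containing the normalizer of a Sylow 3-subgroup has no other Sylow
3-subgroup. -/
theorem no_big_local (hn : Nat.card G = 4320) (h432 : ∀ L : Subgroup G, Nat.card L = 432 → False)
    [Fact (Nat.Prime 3)] (H : Subgroup G) (h5 : ¬ 5 ∣ Nat.card H) (P R : Sylow 3 G) (hPR : P ≠ R)
    (hP : (P : Subgroup G) ≤ H) (hR : (R : Subgroup G) ≤ H)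
    (hN : Subgroup.normalizer ((P : Subgroup G) : Set G) ≤ H) : False := by
  obtain ⟨h1, -⟩ := card_of_two_sylow hn H h5 P R hPR hP hR
  obtain ⟨h2, -⟩ := card_sylow_sub hn H h5 P hP
  have h3 := card_sylow_mul_card_normalizer (P.subtype hP)
  have h4 : Nat.card (Subgroup.normalizer (((P.subtype hP : Sylow 3 H) : Subgroup H) : Set H)) =
      108 := by
    have e1 : ((P.subtype hP : Sylow 3 H) : Subgroup H) = (P : Subgroup G).subgroupOf H := rfl
    rw [e1, ← Subgroup.subgroupOf_normalizer_eq hP, ← (card_sylow3_eq hn h432 P).2]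
    exact Nat.card_congr (Subgroup.subgroupOfEquivOfLe hN).toEquiv
  rw [h4] at h3
  apply no_big hn h432 H h5
  rw [← h3]
  rcases h2 with h | h | h
  · omega
  · rw [h]
  · rw [h]; norm_num

/-- two Sylow 3-subgroups meeting in a subgroup of order 9. -/
theorem exists_tame (hn : Nat.card G = 4320) (h432 : ∀ L : Subgroup G, Nat.card L = 432 → False)
    [Fact (Nat.Prime 3)] :
    ∃ P R : Sylow 3 G, P ≠ R ∧ Nat.card ((P : Subgroup G) ⊓ (R : Subgroup G) : Subgroup G) = 9 := by
  obtain ⟨P₀⟩ : Nonempty (Sylow 3 G) := inferInstance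
  have h40 := (card_sylow3_eq hn h432 P₀).1
  obtain ⟨P, R, hPR, hidx⟩ := exists_sylow_index_le (G := G) 3 2 (by
    rw [h40]; decide)
  refine ⟨P, R, hPR, ?_⟩
  have h1 := ((R : Subgroup G).subgroupOf (P : Subgroup G)).card_mul_index
  have h2 : Nat.card ((R : Subgroup G).subgroupOf (P : Subgroup G)) =
      Nat.card ((P : Subgroup G) ⊓ (R : Subgroup G) : Subgroup G) := by
    rw [← Subgroup.inf_subgroupOf_right, inf_comm]
    exact Nat.card_congr (Subgroup.subgroupOfEquivOfLe inf_le_left).toEquiv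
  rw [h2, card_sylow3 hn P] at h1
  have h3 : ((R : Subgroup G).subgroupOf (P : Subgroup G)).index ≠ 1 := by
    intro h
    rw [Subgroup.index_eq_one, Subgroup.subgroupOf_eq_top] at h
    apply hPR
    apply Sylow.ext
    apply Subgroup.eq_of_le_of_card_ge h
    rw [card_sylow3 hn P, card_sylow3 hn R]
  have h4 : ((R : Subgroup G).subgroupOf (P : Subgroup G)).index ≠ 0 := by
    intro h
    rw [h] at h1
    omega
  simp only [Nat.add_one_sub_one, pow_one] at hidx
  generalize ((R : Subgroup G).subgroupOf (P : Subgroup G)).index = i at *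
  interval_cases i <;> omega


/-- the setup of a tame intersection: `D = P ∩ R` of order 9, and an element of `N(P)` outside
`N(D)`. -/
theorem tame_facts (hn : Nat.card G = 4320) (h432 : ∀ L : Subgroup G, Nat.card L = 432 → False)
    [Fact (Nat.Prime 3)] (P R : Sylow 3 G) (hPR : P ≠ R)
    (hD : Nat.card ((P : Subgroup G) ⊓ (R : Subgroup G) : Subgroup G) = 9) :
    (P : Subgroup G) ≤ Subgroup.normalizer (((P : Subgroup G) ⊓ (R : Subgroup G) : Subgroup G) : Set G) ∧
    (R : Subgroup G) ≤ Subgroup.normalizer (((P : Subgroup G) ⊓ (R : Subgroup G) : Subgroup G) : Set G) ∧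
    (¬ 5 ∣ Nat.card (Subgroup.normalizer (((P : Subgroup G) ⊓ (R : Subgroup G) : Subgroup G) : Set G))) ∧
    ∃ n ∈ Subgroup.normalizer ((P : Subgroup G) : Set G),
      n ∉ Subgroup.normalizer (((P : Subgroup G) ⊓ (R : Subgroup G) : Subgroup G) : Set G) := by
  have hP := le_normalizer_of_card_nine hn P _ inf_le_left hD
  have hR := le_normalizer_of_card_nine hn R _ inf_le_right hD
  have hD3 : IsPGroup 3 ((P : Subgroup G) ⊓ (R : Subgroup G) : Subgroup G) := P.2.to_le inf_le_left
  have hD1 : ((P : Subgroup G) ⊓ (R : Subgroup G) : Subgroup G) ≠ ⊥ := by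
    intro h
    rw [h, Subgroup.card_bot] at hD
    norm_num at hD
  have h5 := five_not_dvd_of_le_normalizer hn _ hD3 hD1 _ le_rfl
  refine ⟨hP, hR, h5, ?_⟩
  by_contra hcon
  push Not at hcon
  exact no_big_local hn h432 _ h5 P R hPR hP hR hcon

/-- all Sylow 3-subgroups are abelian if one is. -/
theorem abelian_of_abelian [Fact (Nat.Prime 3)] (P T : Sylow 3 G)
    (hab : ∀ a ∈ (P : Subgroup G), ∀ b ∈ (P : Subgroup G), a * b = b * a) :
    ∀ a ∈ (T : Subgroup G), ∀ b ∈ (T : Subgroup G), a * b = b * a := by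
  obtain ⟨g, rfl⟩ := MulAction.exists_smul_eq G P T
  intro a ha b hb
  have ha' := (mem_smul_sylow_iff P g a).1 ha
  have hb' := (mem_smul_sylow_iff P g b).1 hb
  have := hab _ ha' _ hb'
  have h1 : a * b = g * ((g⁻¹ * a * g) * (g⁻¹ * b * g)) * g⁻¹ := by group
  have h2 : b * a = g * ((g⁻¹ * b * g) * (g⁻¹ * a * g)) * g⁻¹ := by group
  rw [h1, h2, this]


/-- conjugating a Sylow subgroup by an element of the normalizer of `P` cannot give `P`. -/
theorem ne_smul_of_mem_normalizer [Fact (Nat.Prime 3)] (P R : Sylow 3 G) (hPR : P ≠ R) (g : G)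
    (hg : g ∈ Subgroup.normalizer ((P : Subgroup G) : Set G)) : P ≠ g • R := by
  intro h
  have h1 : g • P = P := Sylow.smul_eq_iff_mem_normalizer.2 hg
  rw [← h1] at h
  exact hPR (MulAction.injective g h)

/-- **The abelian case.** -/
theorem abelian_case (hn : Nat.card G = 4320) (h432 : ∀ L : Subgroup G, Nat.card L = 432 → False)
    [Fact (Nat.Prime 3)] (P R : Sylow 3 G) (hPR : P ≠ R)
    (hD : Nat.card ((P : Subgroup G) ⊓ (R : Subgroup G) : Subgroup G) = 9)
    (hab : ∀ a ∈ (P : Subgroup G), ∀ b ∈ (P : Subgroup G), a * b = b * a) : False := by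
  classical
  obtain ⟨hPN, hRN, h5N, n, hnP, hnD⟩ := tame_facts hn h432 P R hPR hD
  obtain ⟨D, hDdef⟩ : ∃ D : Subgroup G, D = (P : Subgroup G) ⊓ (R : Subgroup G) := ⟨_, rfl⟩
  rw [← hDdef] at hD hPN hRN h5N hnD
  have hDP : D ≤ (P : Subgroup G) := by rw [hDdef]; exact inf_le_left
  have hDR : D ≤ (R : Subgroup G) := by rw [hDdef]; exact inf_le_right
  -- the conjugate `D₂`
  obtain ⟨D₂, hD₂def⟩ : ∃ D₂ : Subgroup G, D₂ = D.map (MulAut.conj n).toMonoidHom := ⟨_, rfl⟩
  have hD₂c : Nat.card D₂ = 9 := by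
    rw [hD₂def, Subgroup.card_map_of_injective (MulAut.conj n).injective, hD]
  have hmemD₂ : ∀ x, x ∈ D₂ ↔ ∃ d ∈ D, n * d * n⁻¹ = x := by
    intro x
    rw [hD₂def, Subgroup.mem_map]
    rfl
  have hD₂P : D₂ ≤ (P : Subgroup G) := by
    intro x hx
    obtain ⟨d, hd, rfl⟩ := (hmemD₂ x).1 hx
    exact (Subgroup.mem_normalizer_iff.1 hnP d).1 (hDP hd)
  have hD₂R : ∀ x ∈ D₂, x ∈ n • R := by
    intro x hx
    obtain ⟨d, hd, rfl⟩ := (hmemD₂ x).1 hx
    apply (mem_smul_sylow_iff R n _).2
    have : n⁻¹ * (n * d * n⁻¹) * n = d := by group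
    rw [this]
    exact hDR hd
  have hne : D₂ ≠ D := by
    intro h
    apply hnD
    rw [Subgroup.mem_normalizer_iff]
    intro x
    constructor
    · intro hx
      rw [← h]
      exact (hmemD₂ _).2 ⟨x, hx, rfl⟩
    · intro hx
      rw [← h] at hx
      obtain ⟨d, hd, hdx⟩ := (hmemD₂ _).1 hx
      have : d = x := by
        have h1 : n⁻¹ * (n * d * n⁻¹) * n = n⁻¹ * (n * x * n⁻¹) * n := by rw [hdx]
        have h2 : n⁻¹ * (n * d * n⁻¹) * n = d := by group
        have h3 : n⁻¹ * (n * x * n⁻¹) * n = x := by group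
        rw [h2, h3] at h1
        exact h1
      rwa [← this]
  -- a non-trivial element of `D ⊓ D₂`
  obtain ⟨d, hdD, hdD₂, hd1⟩ : ∃ d, d ∈ D ∧ d ∈ D₂ ∧ d ≠ 1 := by
    by_contra hcon
    push Not at hcon
    have hdisj : Disjoint D D₂ := by
      rw [Subgroup.disjoint_def]
      intro x hx hx'
      exact hcon x hx hx'
    have hinj := Subgroup.mul_injective_of_disjoint hdisj
    let f : D × D₂ → (P : Subgroup G) :=
      fun x => ⟨(x.1 : G) * (x.2 : G), mul_mem (hDP x.1.2) (hD₂P x.2.2)⟩
    have hf : Function.Injective f := fun x y h => hinj (congrArg Subtype.val h)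
    have := Nat.card_le_card_of_injective f hf
    rw [Nat.card_prod, hD, hD₂c, card_sylow3 hn P] at this
    omega
  -- an element of `P` outside `D`
  obtain ⟨p, hpP, hpD⟩ : ∃ p ∈ (P : Subgroup G), p ∉ D := by
    by_contra hcon
    push Not at hcon
    have := Subgroup.card_le_of_le (show (P : Subgroup G) ≤ D from hcon)
    rw [card_sylow3 hn P, hD] at this
    omega
  have hpN : p ∈ Subgroup.normalizer ((P : Subgroup G) : Set G) := Subgroup.le_normalizer hpP
  have hpiN : p⁻¹ ∈ Subgroup.normalizer ((P : Subgroup G) : Set G) := inv_mem hpN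
  have hpND : p ∈ Subgroup.normalizer (D : Set G) := hPN hpP
  -- `P ∩ N(R) = D`
  have hPNR : ∀ g ∈ (P : Subgroup G), g • R = R → g ∈ D := by
    intro g hg h
    have h1 : g ∈ Subgroup.normalizer ((R : Subgroup G) : Set G) :=
      Sylow.smul_eq_iff_mem_normalizer.1 h
    have h2 := (P.2.inf_normalizer_sylow R).le ⟨hg, h1⟩
    rw [hDdef]
    exact h2
  -- the five Sylow subgroups
  have e1 : P ≠ R := hPR
  have e2 : P ≠ p • R := ne_smul_of_mem_normalizer P R hPR p hpN
  have e3 : P ≠ p⁻¹ • R := ne_smul_of_mem_normalizer P R hPR p⁻¹ hpiN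
  have e4 : P ≠ n • R := ne_smul_of_mem_normalizer P R hPR n hnP
  have e5 : R ≠ p • R := fun h => hpD (hPNR p hpP h.symm)
  have e6 : R ≠ p⁻¹ • R := by
    intro h
    apply hpD
    have := hPNR p⁻¹ (inv_mem hpP) h.symm
    simpa using inv_mem this
  have e7 : R ≠ n • R := by
    intro h
    apply hnD
    have h1 : n ∈ Subgroup.normalizer ((R : Subgroup G) : Set G) :=
      Sylow.smul_eq_iff_mem_normalizer.1 h.symm
    have := Subgroup.inf_normalizer_le_normalizer_inf (H := (P : Subgroup G)) (K := (R : Subgroup G))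
      ⟨hnP, h1⟩
    rw [hDdef]
    exact this
  have e8 : p • R ≠ p⁻¹ • R := by
    intro h
    apply hpD
    have h1 : (p * p) • R = R := by
      rw [mul_smul, h, smul_inv_smul]
    have h2 := hPNR (p * p) (mul_mem hpP hpP) h1
    have h3 : p ^ 27 = 1 := by
      have := pow_card_eq_one' (G := (P : Subgroup G)) (x := ⟨p, hpP⟩)
      rw [card_sylow3 hn P] at this
      simpa using congrArg Subtype.val this
    have h4 : p = (p * p) ^ 14 := by
      have : (p * p) ^ 14 = p ^ 27 * p := by rw [← pow_two, ← pow_mul, ← pow_succ]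
      rw [this, h3, one_mul]
    rw [h4]
    exact pow_mem h2 14
  -- a Sylow subgroup containing `D` and `D₂` is `P`
  have hDD₂ : ∀ T : Sylow 3 G, D ≤ (T : Subgroup G) → (∀ x ∈ D₂, x ∈ T) → P = T := by
    intro T h1 h2
    have h3 : D ⊔ D₂ ≤ (P : Subgroup G) ⊓ (T : Subgroup G) :=
      sup_le (le_inf hDP h1) (le_inf hD₂P h2)
    have h4 : D < D ⊔ D₂ := by
      apply lt_of_le_of_ne le_sup_left
      intro h
      apply hne
      have h5 : D₂ ≤ D := by rw [h]; exact le_sup_right
      exact Subgroup.eq_of_le_of_card_ge h5 (by rw [hD, hD₂c])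
    have h5 : Nat.card (D ⊔ D₂ : Subgroup G) ∣ 27 := by
      rw [← card_sylow3 hn P]
      exact Subgroup.card_dvd_of_le (h3.trans inf_le_left)
    have h6 : 9 ∣ Nat.card (D ⊔ D₂ : Subgroup G) := by
      rw [← hD]
      exact Subgroup.card_dvd_of_le le_sup_left
    have h7 : Nat.card (D ⊔ D₂ : Subgroup G) ≠ 9 := by
      intro h
      apply h4.ne
      exact Subgroup.eq_of_le_of_card_ge le_sup_left (by rw [hD, h])
    have h8 : Nat.card (D ⊔ D₂ : Subgroup G) = 27 := by
      have hle : Nat.card (D ⊔ D₂ : Subgroup G) ≤ 27 := Nat.le_of_dvd (by norm_num) h5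
      generalize Nat.card (D ⊔ D₂ : Subgroup G) = m at *
      obtain ⟨k, rfl⟩ := h6
      have : k ≤ 3 := by omega
      interval_cases k
      · simp at h5
      · omega
      · norm_num at h5
      · rfl
    have h9 : (P : Subgroup G) ≤ (T : Subgroup G) := by
      have : D ⊔ D₂ = (P : Subgroup G) :=
        Subgroup.eq_of_le_of_card_ge (h3.trans inf_le_left) (by rw [h8, card_sylow3 hn P])
      rw [← this]
      exact h3.trans inf_le_right
    apply Sylow.ext
    exact Subgroup.eq_of_le_of_card_ge h9 (by rw [card_sylow3 hn P, card_sylow3 hn T])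
  have hDpR : D ≤ ((p • R : Sylow 3 G) : Subgroup G) := by
    intro x hx
    apply (mem_smul_sylow_iff R p x).2
    apply hDR
    have := (Subgroup.mem_normalizer_iff.1 (inv_mem hpND) x).1 hx
    simpa using this
  have hDpiR : D ≤ ((p⁻¹ • R : Sylow 3 G) : Subgroup G) := by
    intro x hx
    apply (mem_smul_sylow_iff R p⁻¹ x).2
    apply hDR
    have := (Subgroup.mem_normalizer_iff.1 hpND x).1 hx
    simpa using this
  have e9 : p • R ≠ n • R := by
    intro h
    apply e2
    apply hDD₂ (p • R) hDpR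
    rw [h]
    exact hD₂R
  have e10 : p⁻¹ • R ≠ n • R := by
    intro h
    apply e3
    apply hDD₂ (p⁻¹ • R) hDpiR
    rw [h]
    exact hD₂R
  -- all five lie in the centralizer of `d`
  have hdP : d ∈ (P : Subgroup G) := hDP hdD
  have hz3 : IsPGroup 3 (Subgroup.zpowers d) := P.2.to_le (by rw [Subgroup.zpowers_le]; exact hdP)
  have hz1 : Subgroup.zpowers d ≠ ⊥ := by
    rw [Ne, Subgroup.zpowers_eq_bot]
    exact hd1
  have h5C : ¬ 5 ∣ Nat.card (Subgroup.centralizer ((Subgroup.zpowers d : Subgroup G) : Set G)) :=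
    five_not_dvd_of_le_normalizer hn _ hz3 hz1 _ (Subgroup.centralizer_le_normalizer _)
  have hcent : ∀ T : Sylow 3 G, d ∈ T →
      (T : Subgroup G) ≤ Subgroup.centralizer ((Subgroup.zpowers d : Subgroup G) : Set G) := by
    intro T hdT t ht
    rw [Subgroup.mem_centralizer_iff]
    intro h hh
    rw [SetLike.mem_coe, Subgroup.mem_zpowers_iff] at hh
    obtain ⟨k, rfl⟩ := hh
    have := abelian_of_abelian P T hab d hdT t ht
    exact ((Commute.zpow_left (show Commute d t from this) k).eq)
  have hS : ∀ T ∈ ({P, R, p • R, p⁻¹ • R, n • R} : Finset (Sylow 3 G)),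
      (T : Subgroup G) ≤ Subgroup.centralizer ((Subgroup.zpowers d : Subgroup G) : Set G) := by
    intro T hT
    simp only [Finset.mem_insert, Finset.mem_singleton] at hT
    rcases hT with rfl | rfl | rfl | rfl | rfl
    · exact hcent _ hdP
    · exact hcent _ (hDR hdD)
    · exact hcent _ (hDpR hdD)
    · exact hcent _ (hDpiR hdD)
    · exact hcent _ (hD₂R d hdD₂)
  have hcard : ({P, R, p • R, p⁻¹ • R, n • R} : Finset (Sylow 3 G)).card = 5 := by
    rw [Finset.card_insert_of_notMem, Finset.card_insert_of_notMem, Finset.card_insert_of_notMem,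
      Finset.card_pair e10]
    · simp only [Finset.mem_insert, Finset.mem_singleton, not_or]
      exact ⟨e8, e9⟩
    · simp only [Finset.mem_insert, Finset.mem_singleton, not_or]
      exact ⟨e5, e6, e7⟩
    · simp only [Finset.mem_insert, Finset.mem_singleton, not_or]
      exact ⟨e1, e2, e3, e4⟩
  exact no_big hn h432 _ h5C (card_of_five_sylow hn _ h5C _ hS (by rw [hcard]))

end

end Cfsg.Agent.Lib.Helper8.O4320
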