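import Mathlib
import Cfsg.Agent.Lib.Helper8.O4320C

/-! Order 4320 (helper8, for S0977): the case `n₃ = 40`, non-abelian Sylow 3-subgroups. -/

set_option autoImplicit false
set_option linter.unusedSectionVars false
set_option linter.style.haveILetI false
set_option linter.unnecessarySeqFocus false

namespace Cfsg.Agent.Lib.Helper8.O4320

open Cfsg.Agent.Lib.Helper4.Sylow Cfsg.Agent.Lib.Helper4.Simple
open Cfsg.Agent.Lib.Helper4.SylowPrime

section
variable {G : Type*} [Group G] [Finite G] [IsSimpleGroup G]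

/-- `z` generates the centre of the non-abelian group `T` of order 27, and the commutators of
`T` are powers of `z`. -/
def IsCenterGen (T : Subgroup G) (z : G) : Prop :=
  z ∈ T ∧ z ≠ 1 ∧ z ^ 3 = 1 ∧ (∀ a ∈ T, a * z = z * a) ∧
  (∀ y ∈ T, (∀ a ∈ T, a * y = y * a) → y ∈ Subgroup.zpowers z) ∧
  (∀ a ∈ T, ∀ b ∈ T, a * b * a⁻¹ * b⁻¹ ∈ Subgroup.zpowers z)

theorem card_zpowers_of_pow_three {z : G} (hz1 : z ≠ 1) (hz3 : z ^ 3 = 1) :
    Nat.card (Subgroup.zpowers z) = 3 := by
  rw [Nat.card_zpowers]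
  exact orderOf_eq_prime hz3 hz1

/-- a non-trivial element of `⟨z⟩` generates it. -/
theorem zpowers_eq_of_mem {z c : G} (hz1 : z ≠ 1) (hz3 : z ^ 3 = 1) (hc : c ∈ Subgroup.zpowers z)
    (hc1 : c ≠ 1) : Subgroup.zpowers c = Subgroup.zpowers z := by
  have hc3 : c ^ 3 = 1 := by
    obtain ⟨k, rfl⟩ := Subgroup.mem_zpowers_iff.1 hc
    rw [← zpow_natCast, ← zpow_mul, mul_comm, zpow_mul, zpow_natCast, hz3, one_zpow]
  apply Subgroup.eq_of_le_of_card_ge
  · rw [Subgroup.zpowers_le]; exact hc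
  · rw [card_zpowers_of_pow_three hz1 hz3, card_zpowers_of_pow_three hc1 hc3]

/-- elements of `⟨z⟩` are central in `T`. -/
theorem IsCenterGen.comm {T : Subgroup G} {z : G} (h : IsCenterGen T z) {c : G}
    (hc : c ∈ Subgroup.zpowers z) {a : G} (ha : a ∈ T) : a * c = c * a := by
  obtain ⟨k, rfl⟩ := Subgroup.mem_zpowers_iff.1 hc
  exact (Commute.zpow_right (show Commute a z from h.2.2.2.1 a ha) k).eq

theorem IsCenterGen.zpowers_le {T : Subgroup G} {z : G} (h : IsCenterGen T z) :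
    Subgroup.zpowers z ≤ T := by
  rw [Subgroup.zpowers_le]; exact h.1

/-- two subgroups of a Sylow 3-subgroup, one of order 9 and the other not contained in it,
generate it. -/
theorem sup_eq_sylow (hn : Nat.card G = 4320) [Fact (Nat.Prime 3)] (P : Sylow 3 G)
    (D E : Subgroup G) (hDP : D ≤ (P : Subgroup G)) (hEP : E ≤ (P : Subgroup G))
    (hD : Nat.card D = 9) (hED : ¬ E ≤ D) : D ⊔ E = (P : Subgroup G) := by
  have h3 : D ⊔ E ≤ (P : Subgroup G) := sup_le hDP hEP
  have h5 : Nat.card (D ⊔ E : Subgroup G) ∣ 27 := by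
    rw [← card_sylow3 hn P]
    exact Subgroup.card_dvd_of_le h3
  have h6 : 9 ∣ Nat.card (D ⊔ E : Subgroup G) := by
    rw [← hD]
    exact Subgroup.card_dvd_of_le le_sup_left
  have h7 : Nat.card (D ⊔ E : Subgroup G) ≠ 9 := by
    intro h
    apply hED
    have : D = D ⊔ E := Subgroup.eq_of_le_of_card_ge le_sup_left (by rw [hD, h])
    rw [this]
    exact le_sup_right
  have h8 : Nat.card (D ⊔ E : Subgroup G) = 27 := by
    have hle : Nat.card (D ⊔ E : Subgroup G) ≤ 27 := Nat.le_of_dvd (by norm_num) h5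
    generalize Nat.card (D ⊔ E : Subgroup G) = m at *
    obtain ⟨k, rfl⟩ := h6
    have : k ≤ 3 := by omega
    interval_cases k
    · simp at h5
    · omega
    · norm_num at h5
    · rfl
  exact Subgroup.eq_of_le_of_card_ge h3 (by rw [h8, card_sylow3 hn P])


/-- an element inverting or centralizing `z` normalizes `⟨z⟩`. -/
theorem mem_normalizer_zpowers {g z : G} (h : g * z * g⁻¹ ∈ Subgroup.zpowers z)
    (h' : g⁻¹ * z * g ∈ Subgroup.zpowers z) :
    g ∈ Subgroup.normalizer ((Subgroup.zpowers z : Subgroup G) : Set G) := by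
  have key : ∀ (u : G), u * z * u⁻¹ ∈ Subgroup.zpowers z →
      ∀ x ∈ Subgroup.zpowers z, u * x * u⁻¹ ∈ Subgroup.zpowers z := by
    intro u hu x hx
    obtain ⟨k, rfl⟩ := Subgroup.mem_zpowers_iff.1 hx
    have : u * z ^ k * u⁻¹ = (u * z * u⁻¹) ^ k := by
      rw [← MulAut.conj_apply, map_zpow, MulAut.conj_apply]
    rw [this]
    exact zpow_mem hu k
  rw [Subgroup.mem_normalizer_iff]
  intro x
  constructor
  · exact key g h x
  · intro hx
    have := key g⁻¹ (by simpa using h') _ hx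
    have e : g⁻¹ * (g * x * g⁻¹) * g⁻¹⁻¹ = x := by group
    rwa [e] at this

/-- `N(⟨z⟩) ≤ N(P)` for a generator `z` of the centre of `P`. -/
theorem normalizer_zpowers_le (hn : Nat.card G = 4320)
    (h432 : ∀ L : Subgroup G, Nat.card L = 432 → False) [Fact (Nat.Prime 3)] (P : Sylow 3 G)
    (z : G) (hz : IsCenterGen (P : Subgroup G) z) :
    Subgroup.normalizer ((Subgroup.zpowers z : Subgroup G) : Set G) ≤
      Subgroup.normalizer ((P : Subgroup G) : Set G) := by
  obtain ⟨hzP, hz1, hz3, hzc, hzu, hzk⟩ := hz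
  have hz' : IsCenterGen (P : Subgroup G) z := ⟨hzP, hz1, hz3, hzc, hzu, hzk⟩
  -- `N(P) ≤ N(⟨z⟩)`
  have hconj : ∀ g ∈ Subgroup.normalizer ((P : Subgroup G) : Set G),
      g * z * g⁻¹ ∈ Subgroup.zpowers z := by
    intro g hg
    have h1 : g * z * g⁻¹ ∈ (P : Subgroup G) := (Subgroup.mem_normalizer_iff.1 hg z).1 hzP
    apply hzu _ h1
    intro a ha
    have h2 : g⁻¹ * a * g ∈ (P : Subgroup G) := by
      have := (Subgroup.mem_normalizer_iff.1 (inv_mem hg) a).1 ha
      simpa using this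
    have h3 := hzc _ h2
    have e1 : a * (g * z * g⁻¹) = g * ((g⁻¹ * a * g) * z) * g⁻¹ := by group
    have e2 : g * z * g⁻¹ * a = g * (z * (g⁻¹ * a * g)) * g⁻¹ := by group
    rw [e1, e2, h3]
  have hNle : Subgroup.normalizer ((P : Subgroup G) : Set G) ≤
      Subgroup.normalizer ((Subgroup.zpowers z : Subgroup G) : Set G) := by
    intro g hg
    apply mem_normalizer_zpowers (hconj g hg)
    have := hconj g⁻¹ (inv_mem hg)
    simpa using this
  have hz3g : IsPGroup 3 (Subgroup.zpowers z) := P.2.to_le hz'.zpowers_le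
  have hzb : Subgroup.zpowers z ≠ ⊥ := by
    rw [Ne, Subgroup.zpowers_eq_bot]; exact hz1
  have h5 := five_not_dvd_of_le_normalizer hn _ hz3g hzb _ le_rfl
  intro h hh
  by_contra hcon
  have hne : P ≠ h • P := by
    intro heq
    exact hcon (Sylow.smul_eq_iff_mem_normalizer.1 heq.symm)
  have hPle : (P : Subgroup G) ≤ Subgroup.normalizer ((Subgroup.zpowers z : Subgroup G) : Set G) :=
    Subgroup.le_normalizer.trans hNle
  refine no_big_local hn h432 _ h5 P (h • P) hne hPle ?_ hNle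
  intro x hx
  have hx' := (mem_smul_sylow_iff P h x).1 hx
  have e : x = h * (h⁻¹ * x * h) * h⁻¹ := by group
  rw [e]
  exact mul_mem (mul_mem hh (hPle hx')) (inv_mem hh)

/-- distinct Sylow 3-subgroups have distinct centres. -/
theorem center_ne (hn : Nat.card G = 4320)
    (h432 : ∀ L : Subgroup G, Nat.card L = 432 → False) [Fact (Nat.Prime 3)] (P R : Sylow 3 G)
    (hPR : P ≠ R) (z z' : G) (hz : IsCenterGen (P : Subgroup G) z)
    (hz' : IsCenterGen (R : Subgroup G) z') : z' ∉ Subgroup.zpowers z := by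
  intro hmem
  have heq := zpowers_eq_of_mem hz.2.1 hz.2.2.1 hmem hz'.2.1
  have h1 := normalizer_zpowers_le hn h432 P z hz
  rw [← heq] at h1
  -- `R ≤ N(⟨z'⟩)`
  have h2 : (R : Subgroup G) ≤ Subgroup.normalizer ((P : Subgroup G) : Set G) := by
    intro r hr
    apply h1
    have hc : r * z' = z' * r := hz'.2.2.2.1 r hr
    apply mem_normalizer_zpowers
    · have : r * z' * r⁻¹ = z' := by rw [hc]; group
      rw [this]; exact Subgroup.mem_zpowers z'
    · have : r⁻¹ * z' * r = z' := by rw [mul_assoc, ← hc]; group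
      rw [this]; exact Subgroup.mem_zpowers z'
  have h3 : (R : Subgroup G) ≤ (P : Subgroup G) := fun r hr =>
    mem_sylow_of_mem_normalizer P r (h2 hr) (R : Subgroup G) R.2 hr
  apply hPR
  symm
  apply Sylow.ext
  exact Subgroup.eq_of_le_of_card_ge h3 (by rw [card_sylow3 hn P, card_sylow3 hn R])

/-- the centre of `P` lies in every subgroup of order 9 of `P`. -/
theorem center_le (hn : Nat.card G = 4320) [Fact (Nat.Prime 3)] (P : Sylow 3 G) (z : G)
    (hz : IsCenterGen (P : Subgroup G) z) (D : Subgroup G) (hDP : D ≤ (P : Subgroup G))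
    (hD : Nat.card D = 9) : z ∈ D := by
  by_contra hzD
  have hsup := sup_eq_sylow hn P D (Subgroup.zpowers z) hDP hz.zpowers_le hD (by
    rw [Subgroup.zpowers_le]; exact hzD)
  have hDab : ∀ a b : D, a * b = b * a :=
    IsPGroup.commutative_of_card_eq_prime_sq (p := 3) (by rw [hD]; norm_num)
  -- every element of `D` is central in `P`
  have hcen : ∀ d ∈ D, d ∈ Subgroup.zpowers z := by
    intro d hd
    apply hz.2.2.2.2.1 d (hDP hd)
    have hle : (P : Subgroup G) ≤ Subgroup.centralizer ({d} : Set G) := by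
      rw [← hsup]
      apply sup_le
      · intro a ha
        rw [Subgroup.mem_centralizer_singleton_iff]
        have := hDab ⟨a, ha⟩ ⟨d, hd⟩
        exact congrArg Subtype.val this
      · rw [Subgroup.zpowers_le, Subgroup.mem_centralizer_singleton_iff]
        exact (hz.2.2.2.1 d (hDP hd)).symm
    intro a ha
    have := hle ha
    rw [Subgroup.mem_centralizer_singleton_iff] at this
    exact this
  have := Subgroup.card_le_of_le (show D ≤ Subgroup.zpowers z from hcen)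
  rw [hD, card_zpowers_of_pow_three hz.2.1 hz.2.2.1] at this
  omega


/-- for `y ∈ D` non-central and `s ≠ 1` central there is `p ∈ P ∖ D` with `p y p⁻¹ = s y`. -/
theorem exists_shear (hn : Nat.card G = 4320) [Fact (Nat.Prime 3)] (P : Sylow 3 G) (z : G)
    (hz : IsCenterGen (P : Subgroup G) z) (D : Subgroup G) (hDP : D ≤ (P : Subgroup G))
    (hD : Nat.card D = 9) (y : G) (hyD : y ∈ D) (hy : y ∉ Subgroup.zpowers z) (s : G)
    (hs : s ∈ Subgroup.zpowers z) (hs1 : s ≠ 1) :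
    ∃ p ∈ (P : Subgroup G), p ∉ D ∧ p * y * p⁻¹ = s * y := by
  obtain ⟨p₀, hp₀P, hp₀D⟩ : ∃ p ∈ (P : Subgroup G), p ∉ D := by
    by_contra hcon
    push Not at hcon
    have := Subgroup.card_le_of_le (show (P : Subgroup G) ≤ D from hcon)
    rw [card_sylow3 hn P, hD] at this
    omega
  have hDab : ∀ a b : D, a * b = b * a :=
    IsPGroup.commutative_of_card_eq_prime_sq (p := 3) (by rw [hD]; norm_num)
  obtain ⟨c, hcdef⟩ : ∃ c : G, c = p₀ * y * p₀⁻¹ * y⁻¹ := ⟨_, rfl⟩
  have hcz : c ∈ Subgroup.zpowers z := by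
    rw [hcdef]; exact hz.2.2.2.2.2 p₀ hp₀P y (hDP hyD)
  have h1 : p₀ * y * p₀⁻¹ = c * y := by rw [hcdef]; group
  have hc1 : c ≠ 1 := by
    intro hc
    apply hy
    apply hz.2.2.2.2.1 y (hDP hyD)
    have hsup := sup_eq_sylow hn P D (Subgroup.zpowers p₀) hDP
      (by rw [Subgroup.zpowers_le]; exact hp₀P) hD (by rw [Subgroup.zpowers_le]; exact hp₀D)
    have hle : (P : Subgroup G) ≤ Subgroup.centralizer ({y} : Set G) := by
      rw [← hsup]
      apply sup_le
      · intro a ha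
        rw [Subgroup.mem_centralizer_singleton_iff]
        exact congrArg Subtype.val (hDab ⟨a, ha⟩ ⟨y, hyD⟩)
      · rw [Subgroup.zpowers_le, Subgroup.mem_centralizer_singleton_iff]
        rw [hc, one_mul] at h1
        calc p₀ * y = (p₀ * y * p₀⁻¹) * p₀ := by group
          _ = y * p₀ := by rw [h1]
    intro a ha
    have := hle ha
    rwa [Subgroup.mem_centralizer_singleton_iff] at this
  have hc3 : c ^ 3 = 1 := by
    obtain ⟨k, rfl⟩ := Subgroup.mem_zpowers_iff.1 hcz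
    rw [← zpow_natCast, ← zpow_mul, mul_comm, zpow_mul, zpow_natCast, hz.2.2.1, one_zpow]
  have heq := zpowers_eq_of_mem hz.2.1 hz.2.2.1 hcz hc1
  have hsc : s ∈ Subgroup.zpowers c := by rw [heq]; exact hs
  have hord : orderOf c = 3 := orderOf_eq_prime hc3 hc1
  obtain ⟨k, hk⟩ := Subgroup.mem_zpowers_iff.1 hsc
  have hk' : c ^ (k % 3) = s := by
    have := zpow_mod_orderOf c k
    rw [hord] at this
    rw [← hk]
    exact this
  have hm0 : 0 ≤ k % 3 := Int.emod_nonneg _ (by norm_num)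
  have hm3 : k % 3 < 3 := Int.emod_lt_of_pos _ (by norm_num)
  obtain ⟨m, hm⟩ : ∃ m : ℤ, m = k % 3 := ⟨_, rfl⟩
  rw [← hm] at hk' hm0 hm3
  interval_cases m
  · exfalso
    apply hs1
    rw [← hk']
    simp
  · refine ⟨p₀, hp₀P, hp₀D, ?_⟩
    rw [h1, ← hk']
    simp
  · refine ⟨p₀⁻¹, inv_mem hp₀P, fun h => hp₀D (by simpa using inv_mem h), ?_⟩
    have hcomm : p₀⁻¹ * c⁻¹ = c⁻¹ * p₀⁻¹ :=
      hz.comm (inv_mem hcz) (inv_mem hp₀P)
    have hci : c⁻¹ = c ^ (2 : ℤ) := by
      have : c ^ (2 : ℤ) * c = 1 := by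
        rw [← zpow_add_one]
        norm_num
        exact_mod_cast hc3
      exact (eq_inv_of_mul_eq_one_left this).symm
    rw [← hk', ← hci, inv_inv]
    calc p₀⁻¹ * y * p₀ = p₀⁻¹ * (c⁻¹ * (c * y)) * p₀ := by group
      _ = p₀⁻¹ * (c⁻¹ * (p₀ * y * p₀⁻¹)) * p₀ := by rw [h1]
      _ = (p₀⁻¹ * c⁻¹) * p₀ * y := by group
      _ = (c⁻¹ * p₀⁻¹) * p₀ * y := by rw [hcomm]
      _ = c⁻¹ * y := by group

/-- the word `(prp)²` inverts `z` and `z'`. -/
theorem invert_of_shears (z z' p r : G) (hzz' : z * z' = z' * z) (hpz : p * z * p⁻¹ = z)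
    (hpz' : p * z' * p⁻¹ = z * z') (hrz' : r * z' * r⁻¹ = z') (hrz : r * z * r⁻¹ = z'⁻¹ * z) :
    (p * r * p * (p * r * p)) * z * (p * r * p * (p * r * p))⁻¹ = z⁻¹ ∧
      (p * r * p * (p * r * p)) * z' * (p * r * p * (p * r * p))⁻¹ = z'⁻¹ := by
  have h1 : (p * r * p) * z * (p * r * p)⁻¹ = z'⁻¹ := by
    calc (p * r * p) * z * (p * r * p)⁻¹ = p * (r * (p * z * p⁻¹) * r⁻¹) * p⁻¹ := by group
      _ = p * (z'⁻¹ * z) * p⁻¹ := by rw [hpz, hrz]
      _ = (p * z' * p⁻¹)⁻¹ * (p * z * p⁻¹) := by group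
      _ = z'⁻¹ := by rw [hpz, hpz']; group
  have h2 : (p * r * p) * z' * (p * r * p)⁻¹ = z := by
    have e : z'⁻¹ * z * z' = z := by rw [mul_assoc, hzz']; group
    calc (p * r * p) * z' * (p * r * p)⁻¹ = p * (r * (p * z' * p⁻¹) * r⁻¹) * p⁻¹ := by group
      _ = p * (r * (z * z') * r⁻¹) * p⁻¹ := by rw [hpz']
      _ = p * ((r * z * r⁻¹) * (r * z' * r⁻¹)) * p⁻¹ := by group
      _ = p * (z'⁻¹ * z * z') * p⁻¹ := by rw [hrz, hrz']
      _ = z := by rw [e, hpz]
  constructor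
  · calc (p * r * p * (p * r * p)) * z * (p * r * p * (p * r * p))⁻¹
        = (p * r * p) * ((p * r * p) * z * (p * r * p)⁻¹) * (p * r * p)⁻¹ := by group
      _ = ((p * r * p) * z' * (p * r * p)⁻¹)⁻¹ := by rw [h1]; group
      _ = z⁻¹ := by rw [h2]
  · calc (p * r * p * (p * r * p)) * z' * (p * r * p * (p * r * p))⁻¹
        = (p * r * p) * ((p * r * p) * z' * (p * r * p)⁻¹) * (p * r * p)⁻¹ := by group
      _ = z'⁻¹ := by rw [h2, h1]

/-- an element inverting two independent elements of an abelian group of order 9 inverts it. -/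
theorem inverts_of_two (D : Subgroup G) (hD : Nat.card D = 9) (z z' g : G) (hzD : z ∈ D)
    (hz1 : z ≠ 1) (hz3 : z ^ 3 = 1) (hz'D : z' ∈ D) (hz' : z' ∉ Subgroup.zpowers z)
    (hgz : g * z * g⁻¹ = z⁻¹) (hgz' : g * z' * g⁻¹ = z'⁻¹) : ∀ d ∈ D, g * d * g⁻¹ = d⁻¹ := by
  have : Fact (Nat.Prime 3) := ⟨by norm_num⟩
  have hDab : ∀ a b : D, a * b = b * a :=
    IsPGroup.commutative_of_card_eq_prime_sq (p := 3) (by rw [hD]; norm_num)
  let I : Subgroup G :=
    { carrier := {d | d ∈ D ∧ g * d * g⁻¹ = d⁻¹}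
      one_mem' := ⟨one_mem D, by simp⟩
      mul_mem' := by
        rintro a b ⟨ha, ha'⟩ ⟨hb, hb'⟩
        refine ⟨mul_mem ha hb, ?_⟩
        have hab : a * b = b * a := congrArg Subtype.val (hDab ⟨a, ha⟩ ⟨b, hb⟩)
        calc g * (a * b) * g⁻¹ = (g * a * g⁻¹) * (g * b * g⁻¹) := by group
          _ = a⁻¹ * b⁻¹ := by rw [ha', hb']
          _ = (b * a)⁻¹ := by group
          _ = (a * b)⁻¹ := by rw [hab]
      inv_mem' := by
        rintro a ⟨ha, ha'⟩
        refine ⟨inv_mem ha, ?_⟩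
        calc g * a⁻¹ * g⁻¹ = (g * a * g⁻¹)⁻¹ := by group
          _ = a⁻¹⁻¹ := by rw [ha'] }
  have hID : I ≤ D := fun d hd => hd.1
  have hzI : Subgroup.zpowers z ≤ I := by
    rw [Subgroup.zpowers_le]; exact ⟨hzD, hgz⟩
  have hz'I : z' ∈ I := ⟨hz'D, hgz'⟩
  have h1 : Nat.card I ∣ 9 := by rw [← hD]; exact Subgroup.card_dvd_of_le hID
  have h2 : 3 ∣ Nat.card I := by
    rw [← card_zpowers_of_pow_three hz1 hz3]; exact Subgroup.card_dvd_of_le hzI
  have h3 : Nat.card I ≠ 3 := by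
    intro h
    apply hz'
    have : Subgroup.zpowers z = I :=
      Subgroup.eq_of_le_of_card_ge hzI (by rw [h, card_zpowers_of_pow_three hz1 hz3])
    rw [this]; exact hz'I
  have h4 : Nat.card I = 9 := by
    have hle : Nat.card I ≤ 9 := Nat.le_of_dvd (by norm_num) h1
    generalize Nat.card I = m at *
    obtain ⟨k, rfl⟩ := h2
    have : k ≤ 3 := by omega
    interval_cases k
    · simp at h1
    · omega
    · norm_num at h1
    · rfl
  have hIeq : I = D := Subgroup.eq_of_le_of_card_ge hID (by rw [h4, hD])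
  intro d hd
  rw [← hIeq] at hd
  exact hd.2

end

end Cfsg.Agent.Lib.Helper8.O4320
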