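import Mathlib
import Cfsg.Agent.Lib.Helper8.O4320D
import Cfsg.Agent.Lib.Helper5.O4320F

/-! Order 4320 (helper8, for S0977): the non-abelian case, end of the proof. -/

set_option autoImplicit false
set_option linter.unusedSectionVars false
set_option linter.style.haveILetI false
set_option linter.unnecessarySeqFocus false

namespace Cfsg.Agent.Lib.Helper8.O4320

open Cfsg.Agent.Lib.Helper4.Sylow Cfsg.Agent.Lib.Helper4.Simple
open Cfsg.Agent.Lib.Helper4.SylowPrime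

section
variable {G : Type*} [Group G] [Finite G] [IsSimpleGroup G]

theorem exists_center_gen (hn : Nat.card G = 4320) [Fact (Nat.Prime 3)] (T : Sylow 3 G)
    (hnab : ¬ ∀ a ∈ (T : Subgroup G), ∀ b ∈ (T : Subgroup G), a * b = b * a) :
    ∃ z, IsCenterGen (T : Subgroup G) z := by
  have hT : Nat.card (T : Subgroup G) = 27 := card_sylow3 hn T
  have hnab' : ¬ ∀ a b : (T : Subgroup G), a * b = b * a := by
    intro h
    apply hnab
    intro a ha b hb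
    exact congrArg Subtype.val (h ⟨a, ha⟩ ⟨b, hb⟩)
  obtain ⟨z, hz1, hz3, hzc, hzu, hzk⟩ := Cfsg.Agent.Lib.Helper5.O4320.center_of_card_27 hT hnab'
  have hpow : ∀ (w : (T : Subgroup G)), w ∈ Subgroup.zpowers z →
      (w : G) ∈ Subgroup.zpowers (z : G) := by
    intro w hw
    obtain ⟨k, hk⟩ := Subgroup.mem_zpowers_iff.1 hw
    rw [Subgroup.mem_zpowers_iff]
    refine ⟨k, ?_⟩
    have := congrArg Subtype.val hk
    simpa using this
  refine ⟨(z : G), z.2, ?_, ?_, ?_, ?_, ?_⟩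
  · intro h
    exact hz1 (Subtype.ext h)
  · have := congrArg Subtype.val hz3
    simpa using this
  · intro a ha
    exact congrArg Subtype.val (hzc ⟨a, ha⟩)
  · intro y hy hyc
    exact hpow ⟨y, hy⟩ (hzu ⟨y, hy⟩ (fun a => Subtype.ext (hyc a a.2)))
  · intro a ha b hb
    exact hpow _ (hzk ⟨a, ha⟩ ⟨b, hb⟩)

/-- `N(P)/P` has order 4, hence is abelian. -/
theorem commutator_mem_sylow (hn : Nat.card G = 4320)
    (h432 : ∀ L : Subgroup G, Nat.card L = 432 → False) [Fact (Nat.Prime 3)] (P : Sylow 3 G)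
    (x y : G) (hx : x ∈ Subgroup.normalizer ((P : Subgroup G) : Set G))
    (hy : y ∈ Subgroup.normalizer ((P : Subgroup G) : Set G)) :
    x * y * x⁻¹ * y⁻¹ ∈ (P : Subgroup G) := by
  have : Fact (Nat.Prime 2) := ⟨by norm_num⟩
  let N := Subgroup.normalizer ((P : Subgroup G) : Set G)
  let P' : Subgroup N := (P : Subgroup G).subgroupOf N
  have hP'n : P'.Normal := Subgroup.normal_in_normalizer
  have hcP' : Nat.card P' = 27 := by
    rw [← card_sylow3 hn P]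
    exact Nat.card_congr (Subgroup.subgroupOfEquivOfLe Subgroup.le_normalizer).toEquiv
  have hcN : Nat.card N = 108 := (card_sylow3_eq hn h432 P).2
  have hq : Nat.card (N ⧸ P') = 2 ^ 2 := by
    have := Subgroup.card_eq_card_quotient_mul_card_subgroup P'
    rw [hcN, hcP'] at this
    omega
  have hab : ∀ a b : N ⧸ P', a * b = b * a := IsPGroup.commutative_of_card_eq_prime_sq hq
  have h1 : (QuotientGroup.mk' P') (⟨x, hx⟩ * ⟨y, hy⟩ * ⟨x, hx⟩⁻¹ * ⟨y, hy⟩⁻¹) = 1 := by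
    rw [map_mul, map_mul, map_mul, map_inv, map_inv, hab (QuotientGroup.mk' P' ⟨x, hx⟩)]
    group
  have h2 : (⟨x, hx⟩ * ⟨y, hy⟩ * ⟨x, hx⟩⁻¹ * ⟨y, hy⟩⁻¹ : N) ∈ P' := by
    rwa [← QuotientGroup.eq_one_iff]
  exact h2


/-- **The non-abelian case.** -/
theorem nonabelian_case (hn : Nat.card G = 4320)
    (h432 : ∀ L : Subgroup G, Nat.card L = 432 → False)
    [Fact (Nat.Prime 3)] (P R : Sylow 3 G) (hPR : P ≠ R)
    (hD : Nat.card ((P : Subgroup G) ⊓ (R : Subgroup G) : Subgroup G) = 9)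
    (hnab : ¬ ∀ a ∈ (P : Subgroup G), ∀ b ∈ (P : Subgroup G), a * b = b * a) : False := by
  classical
  obtain ⟨hPN, hRN, h5N, n, hnP, hnD⟩ := tame_facts hn h432 P R hPR hD
  obtain ⟨D, hDdef⟩ : ∃ D : Subgroup G, D = (P : Subgroup G) ⊓ (R : Subgroup G) := ⟨_, rfl⟩
  rw [← hDdef] at hD hPN hRN h5N hnD
  have hDP : D ≤ (P : Subgroup G) := by rw [hDdef]; exact inf_le_left
  have hDR : D ≤ (R : Subgroup G) := by rw [hDdef]; exact inf_le_right
  have hnabR : ¬ ∀ a ∈ (R : Subgroup G), ∀ b ∈ (R : Subgroup G), a * b = b * a :=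
    fun h => hnab (abelian_of_abelian R P h)
  obtain ⟨z, hz⟩ := exists_center_gen hn P hnab
  obtain ⟨z', hz'⟩ := exists_center_gen hn R hnabR
  have hzz' : z' ∉ Subgroup.zpowers z := center_ne hn h432 P R hPR z z' hz hz'
  have hz'z : z ∉ Subgroup.zpowers z' := center_ne hn h432 R P hPR.symm z' z hz' hz
  have hzD : z ∈ D := center_le hn P z hz D hDP hD
  have hz'D : z' ∈ D := center_le hn R z' hz' D hDR hD
  have hDab : ∀ a b : D, a * b = b * a :=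
    IsPGroup.commutative_of_card_eq_prime_sq (p := 3) (by rw [hD]; norm_num)
  have hcomm : z * z' = z' * z := congrArg Subtype.val (hDab ⟨z, hzD⟩ ⟨z', hz'D⟩)
  -- the shears
  obtain ⟨p, hpP, -, hp⟩ := exists_shear hn P z hz D hDP hD z' hz'D hzz' z
    (Subgroup.mem_zpowers z) hz.2.1
  obtain ⟨r, hrR, -, hr⟩ := exists_shear hn R z' hz' D hDR hD z hzD hz'z z'⁻¹
    (inv_mem (Subgroup.mem_zpowers z')) (inv_ne_one.2 hz'.2.1)
  have hpz : p * z * p⁻¹ = z := by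
    rw [hz.2.2.2.1 p hpP]; group
  have hrz' : r * z' * r⁻¹ = z' := by
    rw [hz'.2.2.2.1 r hrR]; group
  obtain ⟨hgz, hgz'⟩ := invert_of_shears z z' p r hcomm hpz hp hrz' hr
  obtain ⟨g, hgdef⟩ : ∃ g : G, g = p * r * p * (p * r * p) := ⟨_, rfl⟩
  rw [← hgdef] at hgz hgz'
  -- `g` normalizes `P`
  have hgN : g ∈ Subgroup.normalizer ((P : Subgroup G) : Set G) := by
    apply normalizer_zpowers_le hn h432 P z hz
    apply mem_normalizer_zpowers
    · rw [hgz]; exact inv_mem (Subgroup.mem_zpowers z)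
    · have e1 : g⁻¹ * (g * z * g⁻¹) * g = z := by group
      rw [hgz] at e1
      have e2 : g⁻¹ * z * g = (g⁻¹ * z⁻¹ * g)⁻¹ := by group
      rw [e2, e1]
      exact inv_mem (Subgroup.mem_zpowers z)
  -- `g` inverts `D`
  have hgD := inverts_of_two D hD z z' g hzD hz.2.1 hz.2.2.1 hz'D hzz' hgz hgz'
  -- the conjugate `D' = n D n⁻¹`
  obtain ⟨D₂, hD₂def⟩ : ∃ D₂ : Subgroup G, D₂ = D.map (MulAut.conj n).toMonoidHom := ⟨_, rfl⟩
  have hD₂c : Nat.card D₂ = 9 := by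
    rw [hD₂def, Subgroup.card_map_of_injective (MulAut.conj n).injective, hD]
  have hmemD₂ : ∀ x, x ∈ D₂ ↔ ∃ d ∈ D, n * d * n⁻¹ = x := by
    intro x
    rw [hD₂def, Subgroup.mem_map]
    rfl
  have hD₂P : D₂ ≤ (P : Subgroup G) := by
    intro x hx
    obtain ⟨d, hd, rfl⟩ := (hmemD₂ x).1 hx
    exact (Subgroup.mem_normalizer_iff.1 hnP d).1 (hDP hd)
  have hne : ¬ D₂ ≤ D := by
    intro hle
    have h : D₂ = D := Subgroup.eq_of_le_of_card_ge hle (by rw [hD, hD₂c])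
    apply hnD
    rw [Subgroup.mem_normalizer_iff]
    intro x
    constructor
    · intro hx
      rw [← h]
      exact (hmemD₂ _).2 ⟨x, hx, rfl⟩
    · intro hx
      rw [← h] at hx
      obtain ⟨d, hd, hdx⟩ := (hmemD₂ _).1 hx
      have : d = x := by
        have h1 : n⁻¹ * (n * d * n⁻¹) * n = n⁻¹ * (n * x * n⁻¹) * n := by rw [hdx]
        have h2 : n⁻¹ * (n * d * n⁻¹) * n = d := by group
        have h3 : n⁻¹ * (n * x * n⁻¹) * n = x := by group
        rw [h2, h3] at h1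
        exact h1
      rwa [← this]
  have hsup := sup_eq_sylow hn P D D₂ hDP hD₂P hD hne
  -- a non-trivial commutator
  obtain ⟨a, haD, a', ha'D₂, hk1⟩ : ∃ a ∈ D, ∃ a' ∈ D₂, a * a' * a⁻¹ * a'⁻¹ ≠ 1 := by
    by_contra hcon
    push Not at hcon
    have hcen : ∀ d ∈ D, d ∈ Subgroup.zpowers z := by
      intro d hd
      apply hz.2.2.2.2.1 d (hDP hd)
      have hle : (P : Subgroup G) ≤ Subgroup.centralizer ({d} : Set G) := by
        rw [← hsup]
        apply sup_le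
        · intro a ha
          rw [Subgroup.mem_centralizer_singleton_iff]
          exact congrArg Subtype.val (hDab ⟨a, ha⟩ ⟨d, hd⟩)
        · intro a' ha'
          rw [Subgroup.mem_centralizer_singleton_iff]
          have := hcon d hd a' ha'
          calc a' * d = (d * a' * d⁻¹ * a'⁻¹)⁻¹ * (d * a') := by group
            _ = d * a' := by rw [this]; group
      intro a ha
      have := hle ha
      rwa [Subgroup.mem_centralizer_singleton_iff] at this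
    have := Subgroup.card_le_of_le (show D ≤ Subgroup.zpowers z from hcen)
    rw [hD, card_zpowers_of_pow_three hz.2.1 hz.2.2.1] at this
    omega
  obtain ⟨a₀, ha₀D, rfl⟩ := (hmemD₂ a').1 ha'D₂
  obtain ⟨a', ha'def⟩ : ∃ a' : G, a' = n * a₀ * n⁻¹ := ⟨_, rfl⟩
  rw [← ha'def] at hk1 ha'D₂
  have haP : a ∈ (P : Subgroup G) := hDP haD
  have ha'P : a' ∈ (P : Subgroup G) := hD₂P ha'D₂
  obtain ⟨k, hkdef⟩ : ∃ k : G, k = a * a' * a⁻¹ * a'⁻¹ := ⟨_, rfl⟩
  rw [← hkdef] at hk1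
  have hkz : k ∈ Subgroup.zpowers z := by
    rw [hkdef]; exact hz.2.2.2.2.2 a haP a' ha'P
  -- `t = g` and `p₁`
  obtain ⟨p₁, hp₁def⟩ : ∃ p₁ : G, p₁ = n * g * n⁻¹ * g⁻¹ := ⟨_, rfl⟩
  have hp₁P : p₁ ∈ (P : Subgroup G) := by
    rw [hp₁def]; exact commutator_mem_sylow hn h432 P n g hnP hgN
  have hta : g * a * g⁻¹ = a⁻¹ := hgD a haD
  have hta₀ : g * a₀ * g⁻¹ = a₀⁻¹ := hgD a₀ ha₀D
  have htk : g * k * g⁻¹ = k⁻¹ := hgD k (by
    have : Subgroup.zpowers z ≤ D := by rw [Subgroup.zpowers_le]; exact hzD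
    exact this hkz)
  -- `(n g n⁻¹)` inverts `a'`
  have h1 : (n * g * n⁻¹) * a' * (n * g * n⁻¹)⁻¹ = a'⁻¹ := by
    rw [ha'def]
    calc (n * g * n⁻¹) * (n * a₀ * n⁻¹) * (n * g * n⁻¹)⁻¹ = n * (g * a₀ * g⁻¹) * n⁻¹ := by group
      _ = (n * a₀ * n⁻¹)⁻¹ := by rw [hta₀]; group
  -- `g a' g⁻¹ = p₁⁻¹ a'⁻¹ p₁`
  have h2 : g * a' * g⁻¹ = p₁⁻¹ * a'⁻¹ * p₁ := by
    have e : n * g * n⁻¹ = p₁ * g := by rw [hp₁def]; group
    rw [e] at h1
    calc g * a' * g⁻¹ = p₁⁻¹ * ((p₁ * g) * a' * (p₁ * g)⁻¹) * p₁ := by group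
      _ = p₁⁻¹ * a'⁻¹ * p₁ := by rw [h1]
  -- `ζ`
  obtain ⟨ζ, hζdef⟩ : ∃ ζ : G, ζ = a' * p₁⁻¹ * a'⁻¹ * p₁⁻¹⁻¹ := ⟨_, rfl⟩
  have hζz : ζ ∈ Subgroup.zpowers z := by
    rw [hζdef]; exact hz.2.2.2.2.2 a' ha'P p₁⁻¹ (inv_mem hp₁P)
  have hζa : a * ζ = ζ * a := hz.comm hζz haP
  have hb : p₁⁻¹ * a'⁻¹ * p₁ = a'⁻¹ * ζ := by rw [hζdef]; group
  -- `g k g⁻¹ = k`
  have hka : (a⁻¹ * a'⁻¹) * k = k * (a⁻¹ * a'⁻¹) :=
    hz.comm hkz (mul_mem (inv_mem haP) (inv_mem ha'P))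
  have h3 : g * k * g⁻¹ = k := by
    calc g * k * g⁻¹ = (g * a * g⁻¹) * (g * a' * g⁻¹) * (g * a * g⁻¹)⁻¹ * (g * a' * g⁻¹)⁻¹ := by
          rw [hkdef]; group
      _ = a⁻¹ * (a'⁻¹ * ζ) * a⁻¹⁻¹ * (a'⁻¹ * ζ)⁻¹ := by rw [hta, h2, hb]
      _ = a⁻¹ * a'⁻¹ * (ζ * a) * ζ⁻¹ * a' := by group
      _ = a⁻¹ * a'⁻¹ * (a * ζ) * ζ⁻¹ * a' := by rw [hζa]
      _ = (a⁻¹ * a'⁻¹) * (a * a') := by group
      _ = (a⁻¹ * a'⁻¹) * (k * (a' * a)) := by rw [hkdef]; group
      _ = ((a⁻¹ * a'⁻¹) * k) * (a' * a) := by group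
      _ = (k * (a⁻¹ * a'⁻¹)) * (a' * a) := by rw [hka]
      _ = k := by group
  -- hence `k = 1`
  have hk3 : k ^ 3 = 1 := by
    obtain ⟨j, rfl⟩ := Subgroup.mem_zpowers_iff.1 hkz
    rw [← zpow_natCast, ← zpow_mul, mul_comm, zpow_mul, zpow_natCast, hz.2.2.1, one_zpow]
  have hk2 : k * k = 1 := by
    rw [htk] at h3
    have : k * k⁻¹ = 1 := mul_inv_cancel k
    rwa [h3] at this
  apply hk1
  calc k = k ^ 3 * (k * k)⁻¹ := by group
    _ = 1 := by rw [hk3, hk2]; group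

/-- **No simple group of order 4320**, given that there is no subgroup of order 432. -/
theorem final (hn : Nat.card G = 4320) (h432 : ∀ L : Subgroup G, Nat.card L = 432 → False) :
    False := by
  have : Fact (Nat.Prime 3) := ⟨by norm_num⟩
  obtain ⟨P, R, hPR, hD⟩ := exists_tame hn h432
  by_cases hab : ∀ a ∈ (P : Subgroup G), ∀ b ∈ (P : Subgroup G), a * b = b * a
  · exact abelian_case hn h432 P R hPR hD hab
  · exact nonabelian_case hn h432 P R hPR hD hab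

end

end Cfsg.Agent.Lib.Helper8.O4320
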