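import Mathlib
import Cfsg.Agent.Lib.Helper4.SylowPrime

/-!
# Tools for excluding simple groups of a given order (helper8, for S0983)

* `transfer_kill`, `transfer_kill_of_fixed`: an isolated element of a commutative subgroup of
  coprime index gives a non-trivial transfer homomorphism;
* `card_fixedBy_modEq_inter`: `|Fix c| ≡ |Fix c ∩ Fix x| mod p` for `x` of order `p` commuting
  with `c`;
* `card_orderOf_ge`, `card_orderOf_three_le`: counting elements of prime order.
-/

set_option autoImplicit false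

namespace Cfsg.Agent.Lib.Helper8.OrdTools

open MulAction
open scoped IsMulCommutative

/-- **Transfer kill.**  In a finite simple group there is no commutative proper subgroup `Q` and
element `z` with `z ^ [G : Q] ≠ 1` all of whose conjugates (of powers) lying in `Q` are trivial
conjugates. -/
theorem transfer_kill {G : Type*} [Group G] [Finite G] [IsSimpleGroup G]
    (Q : Subgroup G) (hQcomm : ∀ a ∈ Q, ∀ b ∈ Q, a * b = b * a) (hQ : Q ≠ ⊤)
    (z : G) (hz : z ^ Q.index ≠ 1)
    (key : ∀ (k : ℕ) (g₀ : G), g₀⁻¹ * z ^ k * g₀ ∈ Q → g₀⁻¹ * z ^ k * g₀ = z ^ k) : False := by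
  have hc : IsMulCommutative Q := ⟨⟨fun a b => Subtype.ext (hQcomm a a.2 b b.2)⟩⟩
  let f := MonoidHom.transfer (MonoidHom.id Q)
  have hfz : f z = ⟨z ^ Q.index, MonoidHom.transfer_eq_pow_aux z key⟩ :=
    MonoidHom.transfer_eq_pow (MonoidHom.id Q) z key
  have hfz1 : f z ≠ 1 := by
    rw [hfz]
    intro h
    exact hz (congrArg Subtype.val h)
  rcases f.normal_ker.eq_bot_or_eq_top with hb | ht
  · -- `f` injective: `G` commutative
    have hinj : Function.Injective f := (MonoidHom.ker_eq_bot_iff f).1 hb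
    have hcomm : ∀ a b : G, a * b = b * a := by
      intro a b
      apply hinj
      rw [map_mul, map_mul]
      exact hc.is_comm.comm _ _
    have hn : Q.Normal := ⟨fun n hn g => by rw [hcomm g n, mul_inv_cancel_right]; exact hn⟩
    rcases hn.eq_bot_or_eq_top with h | h
    · apply hz
      rw [h, Subgroup.index_bot]
      exact pow_card_eq_one'
    · exact hQ h
  · apply hfz1
    have : z ∈ f.ker := by rw [ht]; exact Subgroup.mem_top z
    exact MonoidHom.mem_ker.1 this

/-- If `z` has exactly one fixed point on `G ⧸ H` and `z ∈ H`, then `g⁻¹ z g ∈ H` forces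
`g ∈ H`. -/
theorem mem_of_conj_mem_of_card_fixedBy_eq_one {G : Type*} [Group G] (H : Subgroup G) (z : G)
    (hzH : z ∈ H) (hfix : Nat.card (fixedBy (G ⧸ H) z) = 1) (g : G)
    (hg : z • (g : G ⧸ H) = (g : G ⧸ H)) : g ∈ H := by
  obtain ⟨hsub, _⟩ := Nat.card_eq_one_iff_unique.1 hfix
  have h1 : z • ((1 : G) : G ⧸ H) = ((1 : G) : G ⧸ H) := by
    rw [MulAction.Quotient.smul_coe, smul_eq_mul, mul_one]
    exact (QuotientGroup.eq.2 (by simpa using hzH)).symm
  have h2 := hsub.elim ⟨(g : G ⧸ H), hg⟩ ⟨((1 : G) : G ⧸ H), h1⟩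
  have h3 : (g : G ⧸ H) = ((1 : G) : G ⧸ H) := congrArg Subtype.val h2
  have h4 := QuotientGroup.eq.1 h3
  simpa using H.inv_mem h4

/-- **Transfer kill through a unique fixed point.** `z` of prime order `p` in a commutative
subgroup `Q ≤ H` of index prime to `p`, `H ≤ C(z)`, and `z` has exactly one fixed point on
`G ⧸ H`: impossible in a simple group. -/
theorem transfer_kill_of_fixed {G : Type*} [Group G] [Finite G] [IsSimpleGroup G] (p : ℕ)
    [hp : Fact p.Prime] (H Q : Subgroup G) (hQH : Q ≤ H)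
    (hQcomm : ∀ a ∈ Q, ∀ b ∈ Q, a * b = b * a) (hQtop : Q ≠ ⊤)
    (z : G) (hzQ : z ∈ Q) (hz : orderOf z = p) (hidx : ¬ p ∣ Q.index)
    (hHz : ∀ h ∈ H, h * z = z * h)
    (hfix : Nat.card (fixedBy (G ⧸ H) z) = 1) : False := by
  apply transfer_kill Q hQcomm hQtop z
  · intro h
    apply hidx
    rw [← hz]
    exact orderOf_dvd_of_pow_eq_one h
  · intro k g₀ hmem
    by_cases hk : z ^ k = 1
    · rw [hk]; group
    · have hcop : Nat.Coprime k (orderOf z) := by
        rw [hz]
        apply Nat.Coprime.symm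
        rw [Nat.Prime.coprime_iff_not_dvd hp.out]
        intro hd
        apply hk
        rw [← hz] at hd
        exact orderOf_dvd_iff_pow_eq_one.1 hd
      obtain ⟨j, hj⟩ := exists_pow_eq_self_of_coprime hcop
      have h1 : (z ^ k) • (g₀ : G ⧸ H) = (g₀ : G ⧸ H) := by
        rw [MulAction.Quotient.smul_coe, smul_eq_mul]
        apply (QuotientGroup.eq.2 _).symm
        have := hQH hmem
        rwa [mul_assoc] at this
      have h2 : z • (g₀ : G ⧸ H) = (g₀ : G ⧸ H) := by
        have h3 : ((z ^ k) ^ j) • (g₀ : G ⧸ H) = (g₀ : G ⧸ H) := by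
          clear hj
          induction j with
          | zero => simp
          | succ n ih => rw [pow_succ, mul_smul, h1, ih]
        rwa [hj] at h3
      have hg₀ : g₀ ∈ H :=
        mem_of_conj_mem_of_card_fixedBy_eq_one H z (hQH hzQ) hfix g₀ h2
      have hc : Commute g₀ z := hHz g₀ hg₀
      have hc' : Commute g₀ (z ^ k) := hc.pow_right k
      rw [mul_assoc, ← hc'.eq, inv_mul_cancel_left]

/-- The fixed-point set of `c` is invariant under an element `x` of order `p` commuting with `c`:
`|Fix c| ≡ |Fix c ∩ Fix x| mod p`. -/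
theorem card_fixedBy_modEq_inter {G X : Type*} [Group G] [MulAction G X] [Finite X] (p : ℕ)
    [hp : Fact p.Prime] (x c : G) (hx : x ^ p = 1) (hcomm : c * x = x * c) :
    Nat.card (fixedBy X c) ≡ Nat.card {a : X // c • a = a ∧ x • a = a} [MOD p] := by
  classical
  have hcommZ : ∀ g ∈ Subgroup.zpowers x, c * g = g * c := by
    intro g hg
    obtain ⟨k, rfl⟩ := Subgroup.mem_zpowers_iff.1 hg
    exact ((Commute.zpow_right (show Commute c x from hcomm) k)).eq
  let S : SubMulAction (Subgroup.zpowers x) X :=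
    { carrier := fixedBy X c
      smul_mem' := by
        rintro ⟨g, hg⟩ a ha
        rw [mem_fixedBy] at ha ⊢
        show c • (g • a) = g • a
        rw [smul_smul, hcommZ g hg, ← smul_smul, ha] }
  have hSmem : ∀ a : X, a ∈ S ↔ c • a = a := fun a => Iff.rfl
  have hPG : IsPGroup p (Subgroup.zpowers x) := by
    rintro ⟨g, hg⟩
    refine ⟨1, ?_⟩
    obtain ⟨k, rfl⟩ := Subgroup.mem_zpowers_iff.1 hg
    apply Subtype.ext
    simp only [pow_one, Subgroup.coe_pow, Subgroup.coe_one]
    rw [← zpow_natCast, ← zpow_mul, mul_comm, zpow_mul, zpow_natCast, hx, one_zpow]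
  have hfinS : Finite S := Finite.of_injective (fun s : S => (s : X)) Subtype.val_injective
  have h := hPG.card_modEq_card_fixedPoints S
  have hcardS : Nat.card S = Nat.card (fixedBy X c) := by
    apply Nat.card_congr
    exact Equiv.subtypeEquivRight (fun a => by rw [hSmem, mem_fixedBy])
  have hfix : Nat.card (fixedPoints (Subgroup.zpowers x) S) =
      Nat.card {a : X // c • a = a ∧ x • a = a} := by
    apply Nat.card_congr
    refine ⟨fun a => ⟨a.1.1, (hSmem _).1 a.1.2, ?_⟩, fun a => ⟨⟨a.1, (hSmem _).2 a.2.1⟩, ?_⟩,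
      fun a => rfl, fun a => rfl⟩
    · have h3 := (mem_fixedPoints.1 a.2) ⟨x, Subgroup.mem_zpowers x⟩
      exact congrArg Subtype.val h3
    · rw [mem_fixedPoints]
      rintro ⟨g, hg⟩
      apply Subtype.ext
      show g • a.1 = a.1
      have hle : Subgroup.zpowers x ≤ stabilizer G a.1 :=
        Subgroup.zpowers_le.2 (mem_stabilizer_iff.2 a.2.2)
      exact mem_stabilizer_iff.1 (hle hg)
  rw [hfix, hcardS] at h
  exact h

/-- If the Sylow `p`-subgroups have order `p`, there are at least `n_p (p - 1)` elements of order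
`p`. -/
theorem card_orderOf_ge {G : Type*} [Group G] [Finite G] (p : ℕ) [hp : Fact p.Prime]
    (hS : ∀ Q : Sylow p G, Nat.card (Q : Subgroup G) = p) :
    Nat.card (Sylow p G) * (p - 1) ≤ Nat.card {g : G // orderOf g = p} := by
  classical
  have : Fintype (Sylow p G) := Fintype.ofFinite _
  have hord : ∀ (Q : Sylow p G) (x : (Q : Subgroup G)), x ≠ 1 → orderOf (x : G) = p := by
    intro Q x hx
    have h1 : orderOf x ∣ p := by
      have := orderOf_dvd_natCard x
      rwa [hS Q] at this
    rw [Subgroup.orderOf_coe]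
    rcases (Nat.dvd_prime hp.out).1 h1 with h | h
    · exact absurd (orderOf_eq_one_iff.1 h) hx
    · exact h
  let f : (Σ Q : Sylow p G, {x : (Q : Subgroup G) // x ≠ 1}) → {g : G // orderOf g = p} :=
    fun a => ⟨(a.2.1 : G), hord a.1 a.2.1 a.2.2⟩
  have hf : Function.Injective f := by
    rintro ⟨Q, x, hx⟩ ⟨Q', x', hx'⟩ h
    have h1 : (x : G) = (x' : G) := congrArg Subtype.val h
    have hQ : Q = Q' := by
      apply Cfsg.Agent.Lib.Helper4.SylowPrime.sylow_eq_of_mem Q Q' (hS Q) (x : G)
      · intro h2; exact hx (Subtype.ext h2)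
      · exact x.2
      · rw [h1]; exact x'.2
    subst hQ
    have : x = x' := Subtype.ext h1
    subst this
    rfl
  have hcard := Nat.card_le_card_of_injective f hf
  have hfib : ∀ Q : Sylow p G, Nat.card {x : (Q : Subgroup G) // x ≠ 1} = p - 1 := by
    intro Q
    have : Fintype (Q : Subgroup G) := Fintype.ofFinite _
    rw [Nat.card_eq_fintype_card, Fintype.card_subtype_compl, Fintype.card_subtype_eq,
      ← Nat.card_eq_fintype_card, hS Q]
  rw [Nat.card_sigma] at hcard
  simp only [hfib, Finset.sum_const, Finset.card_univ, smul_eq_mul] at hcard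
  rwa [← Nat.card_eq_fintype_card] at hcard

/-- Elements of three different orders. -/
theorem card_orderOf_three_le {G : Type*} [Group G] [Finite G] (p q r : ℕ) (hpq : p ≠ q)
    (hpr : p ≠ r) (hqr : q ≠ r) :
    Nat.card {g : G // orderOf g = p} + Nat.card {g : G // orderOf g = q} +
      Nat.card {g : G // orderOf g = r} ≤ Nat.card G := by
  let f : ({g : G // orderOf g = p} ⊕ {g : G // orderOf g = q}) ⊕ {g : G // orderOf g = r} → G :=
    fun a => Sum.elim (Sum.elim (fun x => x.1) (fun x => x.1)) (fun x => x.1) a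
  have hf : Function.Injective f := by
    rintro ((⟨a, ha⟩ | ⟨a, ha⟩) | ⟨a, ha⟩) ((⟨b, hb⟩ | ⟨b, hb⟩) | ⟨b, hb⟩) h <;>
      simp only [f, Sum.elim_inl, Sum.elim_inr] at h <;> subst h
    · rfl
    · exact absurd (ha.symm.trans hb) hpq
    · exact absurd (ha.symm.trans hb) hpr
    · exact absurd (hb.symm.trans ha) hpq
    · rfl
    · exact absurd (ha.symm.trans hb) hqr
    · exact absurd (hb.symm.trans ha) hpr
    · exact absurd (hb.symm.trans ha) hqr
    · rfl
  have h := Nat.card_le_card_of_injective f hf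
  rwa [Nat.card_sum, Nat.card_sum] at h

end Cfsg.Agent.Lib.Helper8.OrdTools
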