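import Mathlib
import Cfsg.Agent.Lib.Helper5.Ord2.Kit3
import Cfsg.Agent.Lib.Helper8.OrdTools

/-!
# No simple group of order `4620 = 2² · 3 · 5 · 7 · 11`

(helper8, for S0983)  The fixed-point kill `k3` gives `n₁₁ = 210`, `n₇ = 330` and
`n₅ ∈ {66, 231}`; for `n₅ = 66` an element of order `7` centralizes a Sylow `5`-subgroup, so
`5 ∣ |N(P₇)| = 14`.  Hence `n₅ = 231` and there are `2100 + 1980 + 924 > 4620` elements of
order `11`, `7`, `5`.
-/

set_option autoImplicit false

namespace Cfsg.Agent.Lib.Helper8.O4620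

open MulAction
open Cfsg.Agent.Lib.Helper5.O5040 Cfsg.Agent.Lib.Helper5.OrdKit Cfsg.Agent.Lib.Helper8.OrdTools

theorem arith11 (k : ℕ) (h1 : k ∣ 420) (h2 : k % 11 = 1) (h3 : k ≠ 1) :
    k = 12 ∨ k = 210 := by
  have hle : k ≤ 420 := Nat.le_of_dvd (by norm_num) h1
  obtain ⟨j, rfl⟩ : ∃ j, k = 11 * j + 1 := ⟨k / 11, by omega⟩
  have hj : j ≤ 38 := by omega
  interval_cases j <;> first | omega | (exfalso; revert h1; decide)

theorem arith7 (k : ℕ) (h1 : k ∣ 660) (h2 : k % 7 = 1) (h3 : k ≠ 1) :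
    k = 15 ∨ k = 22 ∨ k = 330 := by
  have hle : k ≤ 660 := Nat.le_of_dvd (by norm_num) h1
  obtain ⟨j, rfl⟩ : ∃ j, k = 7 * j + 1 := ⟨k / 7, by omega⟩
  have hj : j ≤ 94 := by omega
  interval_cases j <;> first | omega | (exfalso; revert h1; decide)

theorem arith5 (k : ℕ) (h1 : k ∣ 924) (h2 : k % 5 = 1) (h3 : k ≠ 1) :
    k = 6 ∨ k = 11 ∨ k = 21 ∨ k = 66 ∨ k = 231 := by
  have hle : k ≤ 924 := Nat.le_of_dvd (by norm_num) h1
  obtain ⟨j, rfl⟩ : ∃ j, k = 5 * j + 1 := ⟨k / 5, by omega⟩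
  have hj : j ≤ 184 := by omega
  interval_cases j <;> first | omega | (exfalso; revert h1; decide)

variable {G : Type*} [Group G] [Finite G] [IsSimpleGroup G]

/-- `n₁₁ = 210`. -/
theorem index11 (hn : Nat.card G = 4620) [Fact (Nat.Prime 11)] (P : Sylow 11 G) :
    (Subgroup.normalizer ((P : Subgroup G) : Set G)).index = 210 := by
  have hp7 : Fact (Nat.Prime 7) := ⟨by norm_num⟩
  have hlt : 11 < Nat.card G := by rw [hn]; norm_num
  have hn11 : Nat.card G = 11 * 420 := by rw [hn]
  have hP := card_sylow_prime 420 hn11 (by norm_num) P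
  obtain ⟨k, hk1, hk2, hk3, hk4, hk5⟩ := sylow_count 420 hn11 (by norm_num) (by norm_num) P
  obtain ⟨d, hd, hNC⟩ := card_normalizer_eq_mul P hP
  have hdle : d ≤ 10 := Nat.le_of_dvd (by norm_num) hd
  rw [hn] at hk4
  rcases arith11 k hk1 hk2 hk3 with rfl | rfl
  · exfalso
    have hN : Nat.card (Subgroup.normalizer ((P : Subgroup G) : Set G)) = 385 := by omega
    rw [hN] at hNC
    have h7C : 7 ∣ Nat.card (Subgroup.centralizer ((P : Subgroup G) : Set G)) := by
      interval_cases d <;> omega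
    obtain ⟨f, hf1, hf2, hf3⟩ := k3 P hP hlt 7 h7C
    rw [hk5] at hf2 hf3
    omega
  · exact hk5

/-- `n₇ = 330`. -/
theorem index7 (hn : Nat.card G = 4620) [Fact (Nat.Prime 7)] (P : Sylow 7 G) :
    (Subgroup.normalizer ((P : Subgroup G) : Set G)).index = 330 := by
  have hp11 : Fact (Nat.Prime 11) := ⟨by norm_num⟩
  have hp5 : Fact (Nat.Prime 5) := ⟨by norm_num⟩
  have hlt : 7 < Nat.card G := by rw [hn]; norm_num
  have hn7 : Nat.card G = 7 * 660 := by rw [hn]
  have hP := card_sylow_prime 660 hn7 (by norm_num) P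
  obtain ⟨k, hk1, hk2, hk3, hk4, hk5⟩ := sylow_count 660 hn7 (by norm_num) (by norm_num) P
  obtain ⟨d, hd, hNC⟩ := card_normalizer_eq_mul P hP
  have hdle : d ≤ 6 := Nat.le_of_dvd (by norm_num) hd
  rw [hn] at hk4
  rcases arith7 k hk1 hk2 hk3 with rfl | rfl | rfl
  · exfalso
    have hN : Nat.card (Subgroup.normalizer ((P : Subgroup G) : Set G)) = 308 := by omega
    rw [hN] at hNC
    have h11C : 11 ∣ Nat.card (Subgroup.centralizer ((P : Subgroup G) : Set G)) := by
      interval_cases d <;> omega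
    obtain ⟨f, hf1, hf2, hf3⟩ := k3 P hP hlt 11 h11C
    rw [hk5] at hf2 hf3
    omega
  · exfalso
    have hN : Nat.card (Subgroup.normalizer ((P : Subgroup G) : Set G)) = 210 := by omega
    rw [hN] at hNC
    have h5C : 5 ∣ Nat.card (Subgroup.centralizer ((P : Subgroup G) : Set G)) := by
      interval_cases d <;> omega
    obtain ⟨f, hf1, hf2, hf3⟩ := k3 P hP hlt 5 h5C
    rw [hk5] at hf2 hf3
    omega
  · exact hk5

/-- `n₅ = 231`. -/
theorem index5 (hn : Nat.card G = 4620) [Fact (Nat.Prime 5)] (P : Sylow 5 G) :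
    (Subgroup.normalizer ((P : Subgroup G) : Set G)).index = 231 := by
  have hp11 : Fact (Nat.Prime 11) := ⟨by norm_num⟩
  have hp7 : Fact (Nat.Prime 7) := ⟨by norm_num⟩
  have h2G : 2 < Nat.card G := by rw [hn]; norm_num
  have hlt : 5 < Nat.card G := by rw [hn]; norm_num
  have hn5 : Nat.card G = 5 * 924 := by rw [hn]
  have hn7 : Nat.card G = 7 * 660 := by rw [hn]
  have hP := card_sylow_prime 924 hn5 (by norm_num) P
  obtain ⟨k, hk1, hk2, hk3, hk4, hk5⟩ := sylow_count 924 hn5 (by norm_num) (by norm_num) P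
  obtain ⟨d, hd, hNC⟩ := card_normalizer_eq_mul P hP
  have hdle : d ≤ 4 := Nat.le_of_dvd (by norm_num) hd
  have hNtop := normalizer_ne_top P hP hlt
  rw [hn] at hk4
  rcases arith5 k hk1 hk2 hk3 with rfl | rfl | rfl | rfl | rfl
  · exfalso
    have := index_bound h2G _ hNtop 6 hk5
    rw [hn] at this
    revert this
    decide
  · exfalso
    have hN : Nat.card (Subgroup.normalizer ((P : Subgroup G) : Set G)) = 420 := by omega
    rw [hN] at hNC
    have h7C : 7 ∣ Nat.card (Subgroup.centralizer ((P : Subgroup G) : Set G)) := by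
      interval_cases d <;> omega
    obtain ⟨f, hf1, hf2, hf3⟩ := k3 P hP hlt 7 h7C
    rw [hk5] at hf2 hf3
    omega
  · exfalso
    have hN : Nat.card (Subgroup.normalizer ((P : Subgroup G) : Set G)) = 220 := by omega
    rw [hN] at hNC
    have h11C : 11 ∣ Nat.card (Subgroup.centralizer ((P : Subgroup G) : Set G)) := by
      interval_cases d <;> omega
    obtain ⟨f, hf1, hf2, hf3⟩ := k3 P hP hlt 11 h11C
    rw [hk5] at hf2 hf3
    omega
  · exfalso
    have hN : Nat.card (Subgroup.normalizer ((P : Subgroup G) : Set G)) = 70 := by omega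
    rw [hN] at hNC
    have h7C : 7 ∣ Nat.card (Subgroup.centralizer ((P : Subgroup G) : Set G)) := by
      interval_cases d <;> omega
    obtain ⟨Q, hQc, h5CQ⟩ := exists_sylow_dvd_centralizer P hP 660 hn7 (by norm_num) h7C
    have hidx := index7 hn Q
    have hNQ : Nat.card (Subgroup.normalizer ((Q : Subgroup G) : Set G)) = 14 := by
      have := (Subgroup.normalizer ((Q : Subgroup G) : Set G)).card_mul_index
      rw [hidx, hn] at this
      omega
    have hle : Subgroup.centralizer ((Q : Subgroup G) : Set G) ≤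
        Subgroup.normalizer ((Q : Subgroup G) : Set G) := Subgroup.centralizer_le_normalizer _
    have h5N : 5 ∣ 14 := by
      rw [← hNQ]
      exact h5CQ.trans (Subgroup.card_dvd_of_le hle)
    omega
  · exact hk5

theorem no_simple_4620 (hn : Nat.card G = 4620) : False := by
  have hp11 : Fact (Nat.Prime 11) := ⟨by norm_num⟩
  have hp7 : Fact (Nat.Prime 7) := ⟨by norm_num⟩
  have hp5 : Fact (Nat.Prime 5) := ⟨by norm_num⟩
  have hn11 : Nat.card G = 11 * 420 := by rw [hn]
  have hn7 : Nat.card G = 7 * 660 := by rw [hn]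
  have hn5 : Nat.card G = 5 * 924 := by rw [hn]
  obtain ⟨P11⟩ : Nonempty (Sylow 11 G) := inferInstance
  obtain ⟨P7⟩ : Nonempty (Sylow 7 G) := inferInstance
  obtain ⟨P5⟩ : Nonempty (Sylow 5 G) := inferInstance
  have h11 : Nat.card (Sylow 11 G) = 210 := by
    rw [P11.card_eq_index_normalizer]; exact index11 hn P11
  have h7 : Nat.card (Sylow 7 G) = 330 := by
    rw [P7.card_eq_index_normalizer]; exact index7 hn P7
  have h5 : Nat.card (Sylow 5 G) = 231 := by
    rw [P5.card_eq_index_normalizer]; exact index5 hn P5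
  have c11 := card_orderOf_ge (G := G) 11 (fun Q => card_sylow_prime 420 hn11 (by norm_num) Q)
  have c7 := card_orderOf_ge (G := G) 7 (fun Q => card_sylow_prime 660 hn7 (by norm_num) Q)
  have c5 := card_orderOf_ge (G := G) 5 (fun Q => card_sylow_prime 924 hn5 (by norm_num) Q)
  have hsum := card_orderOf_three_le (G := G) 11 7 5 (by norm_num) (by norm_num) (by norm_num)
  rw [h11] at c11
  rw [h7] at c7
  rw [h5] at c5
  rw [hn] at hsum
  omega

end Cfsg.Agent.Lib.Helper8.O4620
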