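import Mathlib
import Cfsg.Prelude.Def_Characters
import Cfsg.Agent.Lib.helper3.CharBasic

/-!
# Order 5040, part A: character values at involutions modulo 4 in a perfect group
-/

set_option autoImplicit false
set_option linter.unusedSectionVars false

namespace Cfsg.Agent.Lib.Helper8.O5040

open Cfsg Module

section det

variable {V : Type*} [AddCommGroup V] [Module ℂ V] [FiniteDimensional ℂ V]

/-- Determinant of a diagonalised endomorphism. -/
theorem det_eq_prod_of_eigenbasis {I : Type*} [Fintype I] [DecidableEq I] (v : Basis I ℂ V)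
    (μ : I → ℂ) (f : Module.End ℂ V) (hf : ∀ i, f (v i) = μ i • v i) :
    LinearMap.det f = ∏ i, μ i := by
  rw [← LinearMap.det_toMatrix v]
  have h : LinearMap.toMatrix v v f = Matrix.diagonal μ := by
    ext i j
    rw [LinearMap.toMatrix_apply, hf, Matrix.diagonal_apply]
    by_cases hij : i = j
    · subst hij
      simp
    · rw [if_neg hij]
      simp [Ne.symm hij]
  rw [h, Matrix.det_diagonal]

end det

variable {G : Type*} [Group G]

/-- In a perfect group every representation has determinant one. -/
theorem det_rep_eq_one (hperf : commutator G = ⊤) {V : Type*} [AddCommGroup V] [Module ℂ V]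
    (ρ : Representation ℂ G V) (g : G) : LinearMap.det (ρ g) = 1 := by
  let φ : G →* ℂ := LinearMap.det.comp ρ
  have h1 : commutator G ≤ φ.toHomUnits.ker := Abelianization.commutator_subset_ker _
  have h2 : g ∈ φ.toHomUnits.ker := h1 (by rw [hperf]; exact Subgroup.mem_top g)
  rw [MonoidHom.mem_ker] at h2
  have h3 := congrArg (fun x : ℂˣ => (x : ℂ)) h2
  simpa [φ] using h3

/-- In a finite perfect group, the value of a character at an involution is an integer congruent
to the degree modulo 4. -/
theorem character_involution_mod_four [Finite G] (hperf : commutator G = ⊤) {χ : G → ℂ}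
    (hχ : IsCharacter G χ) (u : G) (hu : u ^ 2 = 1) :
    ∃ (n : ℕ) (k : ℤ), χ 1 = n ∧ χ u = k ∧ (4 : ℤ) ∣ (n : ℤ) - k := by
  classical
  obtain ⟨d, ρ, rfl⟩ := hχ
  obtain ⟨I, _, v, μ, hf, -⟩ := Cfsg.Agent.Lib.helper3.CharBasic.exists_eigenbasis ρ u
  have hμ : ∀ i, μ i = 1 ∨ μ i = -1 := by
    intro i
    have h1 := Cfsg.Agent.Lib.helper3.CharBasic.rho_pow_apply_eigen ρ u v μ hf 2 i
    rw [hu, map_one, Module.End.one_apply] at h1
    have hne : v i ≠ 0 := v.ne_zero i
    have h2 : ((μ i) ^ 2 - 1) • v i = 0 := by rw [sub_smul, one_smul, ← h1, sub_self]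
    rcases smul_eq_zero.mp h2 with h | h
    · have h3 : (μ i - 1) * (μ i + 1) = 0 := by linear_combination h
      rcases mul_eq_zero.mp h3 with h | h
      · left; linear_combination h
      · right; linear_combination h
    · exact absurd h hne
  have hdet : ∏ i, μ i = 1 := by
    rw [← det_eq_prod_of_eigenbasis v μ (ρ u) hf]
    exact det_rep_eq_one hperf ρ u
  -- the number of eigenvalues `-1`
  set m : ℕ := (Finset.univ.filter fun i => μ i = -1).card with hm
  have hprod : ∏ i, μ i = (-1 : ℂ) ^ m := by
    rw [hm, ← Finset.prod_const, Finset.prod_filter]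
    apply Finset.prod_congr rfl
    intro i _
    rcases hμ i with h | h
    · rw [h, if_neg (by norm_num)]
    · rw [h, if_pos rfl]
  have hsum : ∑ i, μ i = (Fintype.card I : ℂ) - 2 * m := by
    have h1 : ∀ i, μ i = 1 - 2 * (if μ i = -1 then (1 : ℂ) else 0) := by
      intro i
      rcases hμ i with h | h
      · rw [h, if_neg (by norm_num)]; ring
      · rw [h, if_pos rfl]; ring
    rw [Finset.sum_congr rfl (fun i _ => h1 i), Finset.sum_sub_distrib, ← Finset.mul_sum,
      Finset.sum_boole, hm]
    simp
  have heven : Even m := by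
    rw [hprod] at hdet
    by_contra hodd
    rw [Nat.not_even_iff_odd] at hodd
    rw [hodd.neg_one_pow] at hdet
    norm_num at hdet
  obtain ⟨j, hj⟩ := heven
  have hdeg : ρ.character 1 = (Fintype.card I : ℂ) := by
    rw [Representation.char_one, Cfsg.Agent.Lib.helper3.CharBasic.card_eq_finrank_of_basis v]
  refine ⟨Fintype.card I, (Fintype.card I : ℤ) - 2 * m, hdeg, ?_, ?_⟩
  · rw [Cfsg.Agent.Lib.helper3.CharBasic.character_eq_sum_of_eigenbasis ρ u v μ hf, hsum]
    push_cast
    ring
  · refine ⟨j, ?_⟩
    rw [hj]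
    push_cast
    ring

end Cfsg.Agent.Lib.Helper8.O5040
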