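import Mathlib

/-!
# Order 5040, part C: the arithmetic endgame
-/

set_option autoImplicit false

namespace Cfsg.Agent.Lib.Helper8.O5040

/-- Summation by type. -/
theorem sum_by_type {ι κ : Type*} [DecidableEq κ] (S : Finset ι) (τ : ι → κ) (T : Finset κ)
    (hmap : ∀ i ∈ S, τ i ∈ T) (F : κ → ℤ) :
    ∑ i ∈ S, F (τ i) = ∑ k ∈ T, ((S.filter fun i => τ i = k).card : ℤ) * F k := by
  rw [← Finset.sum_fiberwise_of_maps_to hmap]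
  apply Finset.sum_congr rfl
  intro k _
  rw [Finset.sum_congr rfl (fun i hi => by rw [(Finset.mem_filter.1 hi).2] :
    ∀ i ∈ S.filter (fun i => τ i = k), F (τ i) = F k), Finset.sum_const, nsmul_eq_mul]

/-- The possible degrees. -/
theorem deg_cases (f : ℕ) (z : ℤ) (hz : z = 1 ∨ z = -1 ∨ z = 2 ∨ z = -2) (h7 : (7 : ℤ) ∣ f - z)
    (hd : f ∣ 5040) (hle : f ≤ 70) :
    (z = 1 ∧ (f = 1 ∨ f = 8 ∨ f = 15 ∨ f = 36)) ∨ (z = -1 ∧ (f = 6 ∨ f = 20 ∨ f = 48)) ∨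
    (z = 2 ∧ (f = 2 ∨ f = 9 ∨ f = 16 ∨ f = 30)) ∨ (z = -2 ∧ (f = 5 ∨ f = 12 ∨ f = 40)) := by
  have hpos : 0 < f := Nat.pos_of_dvd_of_pos hd (by norm_num)
  rcases hz with rfl | rfl | rfl | rfl <;> interval_cases f <;> simp_all

/-- The normal types `(z, f, v)`. -/
def typesN : Finset (ℤ × ℤ × ℤ) :=
  {(1, 8, 0), (1, 15, 3), (1, 15, -1), (1, 36, -4), (1, 36, 0), (1, 36, 4), (-1, 20, 0),
   (-1, 48, -4), (-1, 48, 0), (-1, 48, 4)}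

/-- The exceptional types `(z, f, v)`. -/
def typesW : Finset (ℤ × ℤ × ℤ) :=
  {(2, 2, 2), (2, 2, -2), (2, 9, 1), (2, 9, -3), (2, 16, -4), (2, 16, 0), (2, 16, 4),
   (2, 30, -6), (2, 30, -2), (2, 30, 2), (2, 30, 6), (-2, 12, 0), (-2, 40, -4), (-2, 40, 0),
   (-2, 40, 4)}

theorem type_cases (f : ℕ) (z v : ℤ) (hz : z = 1 ∨ z = -1 ∨ z = 2 ∨ z = -2)
    (h7 : (7 : ℤ) ∣ f - z) (hd : f ∣ 5040) (hle : f ≤ 70) (hf1 : f ≠ 1)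
    (h4 : (4 : ℤ) ∣ f - v) (hv1 : 7 * v ≤ f + 6 * z) (hv2 : -(7 * v) ≤ f + 6 * z) :
    ((z = 1 ∨ z = -1) ∧ (z, (f : ℤ), v) ∈ typesN) ∨
      ((z = 2 ∨ z = -2) ∧ (z, (f : ℤ), v) ∈ typesW) := by
  have h := deg_cases f z hz h7 hd hle
  have hvb : -10 ≤ v ∧ v ≤ 10 := by
    constructor <;> omega
  obtain ⟨hv3, hv4⟩ := hvb
  rcases h with ⟨rfl, h⟩ | ⟨rfl, h⟩ | ⟨rfl, h⟩ | ⟨rfl, h⟩
  · rcases h with rfl | rfl | rfl | rfl
    · exact absurd rfl hf1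
    all_goals (interval_cases v <;> first | omega | (left; decide))
  · rcases h with rfl | rfl | rfl
    all_goals (interval_cases v <;> first | omega | (left; decide))
  · rcases h with rfl | rfl | rfl | rfl
    all_goals (interval_cases v <;> first | omega | (right; decide))
  · rcases h with rfl | rfl | rfl
    all_goals (interval_cases v <;> first | omega | (right; decide))

theorem sum_typesN (F : ℤ × ℤ × ℤ → ℤ) :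
    ∑ k ∈ typesN, F k = F (1, 8, 0) + F (1, 15, 3) + F (1, 15, -1) + F (1, 36, -4) + F (1, 36, 0)
      + F (1, 36, 4) + F (-1, 20, 0) + F (-1, 48, -4) + F (-1, 48, 0) + F (-1, 48, 4) := by
  unfold typesN
  repeat rw [Finset.sum_insert (by decide)]
  rw [Finset.sum_singleton]
  ring

theorem normal_AB (a b g d h : ℕ) (hA : a + b + g + d + h = 6)
    (hB : (8 : ℤ) * a + 15 * b + 36 * g - 20 * d - 48 * h = -1) : b = 1 ∧ g ≤ 2 ∧ h ≤ 2 := by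
  omega

theorem weird_AB (a b g d h : ℕ) (Bw : ℤ) (hA : a + b + g + d + h = 2)
    (hB : (8 : ℤ) * a + 15 * b + 36 * g - 20 * d - 48 * h + Bw = -1)
    (hBw : Bw = 4 ∨ Bw = 18 ∨ Bw = 32 ∨ Bw = 60 ∨ Bw = -24 ∨ Bw = -80) :
    (Bw = 4 ∧ b = 1 ∧ d = 1 ∧ a = 0 ∧ g = 0 ∧ h = 0) ∨
    (Bw = 32 ∧ b = 1 ∧ h = 1 ∧ a = 0 ∧ g = 0 ∧ d = 0) ∨
    (Bw = -24 ∧ a = 1 ∧ b = 1 ∧ g = 0 ∧ d = 0 ∧ h = 0) := by
  rcases hBw with rfl | rfl | rfl | rfl | rfl | rfl <;> omega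

theorem not_sq (m : ℤ) (e : ℕ) (hm : m = (e : ℤ) ^ 2) (hlo : 17 ≤ m) (hhi : m ≤ 255)
    (h : m ≠ 25 ∧ m ≠ 36 ∧ m ≠ 49 ∧ m ≠ 64 ∧ m ≠ 81 ∧ m ≠ 100 ∧ m ≠ 121 ∧ m ≠ 144 ∧ m ≠ 169 ∧
      m ≠ 196 ∧ m ≠ 225) : False := by
  have he : e ≤ 15 := by
    by_contra hcon
    have h1 : (16 : ℤ) ≤ e := by omega
    have h2 : (16 : ℤ) * 16 ≤ (e : ℤ) * e := mul_le_mul h1 h1 (by norm_num) (by omega)
    rw [pow_two] at hm
    omega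
  interval_cases e <;> omega

theorem four_dvd_of_sq (c : ℕ) (m : ℤ) (h : (c : ℤ) ^ 2 = 16 * m) : ∃ e : ℕ, c = 4 * e := by
  have h1 : (4 : ℤ) ^ 2 ∣ (c : ℤ) ^ 2 := ⟨m, by rw [h]; norm_num⟩
  have h2 := (Int.pow_dvd_pow_iff two_ne_zero).1 h1
  have h3 : 4 ∣ c := by exact_mod_cast h2
  exact h3

/-- The final contradiction in terms of counts of types. -/
theorem counts_kill (a b₁ b₂ g₁ g₂ g₃ d h₁ h₂ h₃ N c : ℕ) (Bw Dw : ℤ)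
    (hN : a + b₁ + b₂ + g₁ + g₂ + g₃ + d + h₁ + h₂ + h₃ = N)
    (hB : (8 : ℤ) * a + 15 * b₁ + 15 * b₂ + 36 * g₁ + 36 * g₂ + 36 * g₃ - 20 * d - 48 * h₁
      - 48 * h₂ - 48 * h₃ + Bw = -1)
    (hD : 7 * (c : ℤ) ^ 2 = 5040 + 3024 * b₁ + 336 * b₂ + 2240 * g₁ + 2240 * g₃ - 1680 * h₁
      - 1680 * h₃ + 7 * 16 * Dw)
    (hcase : (N = 6 ∧ Bw = 0 ∧ Dw = 0) ∨ (N = 2 ∧ ((Bw = 4 ∧ Dw = 180) ∨ (Bw = 18 ∧ Dw = 10) ∨
      (Bw = 18 ∧ Dw = 90) ∨ (Bw = 32 ∧ Dw = 90) ∨ (Bw = 32 ∧ Dw = 0) ∨ (Bw = 60 ∧ Dw = 108) ∨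
      (Bw = 60 ∧ Dw = 12) ∨ (Bw = -24 ∧ Dw = 0) ∨ (Bw = -80 ∧ Dw = -36) ∨
      (Bw = -80 ∧ Dw = 0)))) : False := by
  obtain ⟨b, hb⟩ : ∃ b : ℕ, b = b₁ + b₂ := ⟨_, rfl⟩
  obtain ⟨g, hg⟩ : ∃ g : ℕ, g = g₁ + g₂ + g₃ := ⟨_, rfl⟩
  obtain ⟨h, hh⟩ : ∃ h : ℕ, h = h₁ + h₂ + h₃ := ⟨_, rfl⟩
  have hN' : a + b + g + d + h = N := by rw [hb, hg, hh, ← hN]; ring
  have hB' : (8 : ℤ) * a + 15 * b + 36 * g - 20 * d - 48 * h + Bw = -1 := by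
    rw [hb, hg, hh]; push_cast; linear_combination hB
  have hc16 : (c : ℤ) ^ 2 = 16 * (45 + 27 * b₁ + 3 * b₂ + 20 * g₁ + 20 * g₃ - 15 * h₁ - 15 * h₃
      + Dw) := by
    apply mul_left_cancel₀ (by norm_num : (7 : ℤ) ≠ 0)
    linear_combination hD
  obtain ⟨e, rfl⟩ := four_dvd_of_sq c _ hc16
  have he : (45 + 27 * b₁ + 3 * b₂ + 20 * g₁ + 20 * g₃ - 15 * h₁ - 15 * h₃ + Dw : ℤ)
      = (e : ℤ) ^ 2 := by
    push_cast at hc16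
    apply mul_left_cancel₀ (by norm_num : (16 : ℤ) ≠ 0)
    linear_combination (-1 : ℤ) * hc16
  clear hc16 hD hB hN
  rcases hcase with ⟨rfl, rfl, rfl⟩ | ⟨rfl, hcase⟩
  · obtain ⟨hb1, hg2, hh2⟩ := normal_AB a b g d h hN' (by linear_combination hB')
    clear hB' hN'
    apply not_sq _ e he <;> omega
  · have hBw : Bw = 4 ∨ Bw = 18 ∨ Bw = 32 ∨ Bw = 60 ∨ Bw = -24 ∨ Bw = -80 := by
      rcases hcase with h | h | h | h | h | h | h | h | h | h <;> simp [h.1]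
    have hAB := weird_AB a b g d h Bw hN' hB' hBw
    clear hB' hN' hBw
    rcases hAB with ⟨rfl, hb1, hd1, ha0, hg0, hh0⟩ | ⟨rfl, hb1, hh1, ha0, hg0, hd0⟩ |
      ⟨rfl, ha1, hb1, hg0, hd0, hh0⟩
    · have hDw : Dw = 180 := by
        rcases hcase with h | h | h | h | h | h | h | h | h | h <;> first | exact h.2 | omega
      subst hDw
      apply not_sq _ e he <;> omega
    · have hDw : Dw = 90 ∨ Dw = 0 := by
        rcases hcase with h | h | h | h | h | h | h | h | h | h <;> omega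
      rcases hDw with rfl | rfl <;> apply not_sq _ e he <;> omega
    · have hDw : Dw = 0 := by
        rcases hcase with h | h | h | h | h | h | h | h | h | h <;> first | exact h.2 | omega
      subst hDw
      apply not_sq _ e he <;> omega

end Cfsg.Agent.Lib.Helper8.O5040
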