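import Mathlib
import Cfsg.Agent.Lib.Helper8.O5040C

/-!
# Order 5040, part D: from character data to counts of types
-/

set_option autoImplicit false

namespace Cfsg.Agent.Lib.Helper8.O5040

theorem abs_le_two_of_sq_le_six (z : ℤ) (h : z ^ 2 ≤ 6) (h0 : z ≠ 0) :
    z = 1 ∨ z = -1 ∨ z = 2 ∨ z = -2 := by
  have h1 : -2 ≤ z := by nlinarith
  have h2 : z ≤ 2 := by nlinarith
  interval_cases z <;> simp_all

theorem le_seventy_of_sq_le (f : ℕ) (h : f ^ 2 ≤ 5040) : f ≤ 70 := by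
  by_contra hcon
  have h1 : 71 ≤ f := by omega
  have h2 : 71 * 71 ≤ f * f := Nat.mul_le_mul h1 h1
  rw [pow_two] at h
  omega

/-- The arithmetic contradiction. -/
theorem arith_kill {ι : Type*} [Fintype ι] [DecidableEq ι] (t : ι) (z v : ι → ℤ) (f : ι → ℕ)
    (c : ℕ) (hzt : z t = 1) (hft : f t = 1) (hvt : v t = 1)
    (H1 : ∑ i, z i ^ 2 = 7)
    (H2 : ∑ i, z i * (f i : ℤ) = 0)
    (H4 : ∑ i, z i * v i ^ 2 * ((5040 : ℤ) / (f i : ℤ)) = 7 * (c : ℤ) ^ 2)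
    (H5 : ∀ i, (7 : ℤ) ∣ (f i : ℤ) - z i)
    (H6 : ∀ i, (4 : ℤ) ∣ (f i : ℤ) - v i)
    (H7 : ∀ i, 7 * v i ≤ f i + 6 * z i ∧ -(7 * v i) ≤ f i + 6 * z i)
    (H8 : ∀ i, f i ∣ 5040) (H9 : ∀ i, f i ^ 2 ≤ 5040) (H10 : ∀ i, f i = 1 → i = t) : False := by
  classical
  -- the support
  obtain ⟨S, hS⟩ : ∃ S : Finset ι, S = (Finset.univ.erase t).filter (fun i => z i ≠ 0) :=
    ⟨_, rfl⟩
  obtain ⟨τ, hτ⟩ : ∃ τ : ι → ℤ × ℤ × ℤ, ∀ i, τ i = (z i, (f i : ℤ), v i) := ⟨_, fun _ => rfl⟩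
  have hsplit : ∀ F : ι → ℤ, (∀ i, z i = 0 → F i = 0) → ∑ i, F i = F t + ∑ i ∈ S, F i := by
    intro F hF
    rw [← Finset.add_sum_erase Finset.univ F (Finset.mem_univ t), hS]
    congr 1
    symm
    apply Finset.sum_filter_of_ne
    intro i _ hi hz
    exact hi (hF i hz)
  have e1 := hsplit (fun i => z i ^ 2) (fun i hi => by simp [hi])
  have e2 := hsplit (fun i => z i * (f i : ℤ)) (fun i hi => by simp [hi])
  have e4 := hsplit (fun i => z i * v i ^ 2 * ((5040 : ℤ) / (f i : ℤ))) (fun i hi => by simp [hi])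
  simp only [hzt, hft, hvt] at e1 e2 e4
  rw [H1] at e1
  rw [H2] at e2
  rw [H4] at e4
  norm_num at e1 e2 e4
  have hS6 : ∑ i ∈ S, z i ^ 2 = 6 := by linarith
  -- membership facts
  have hmem : ∀ i ∈ S, i ≠ t ∧ z i ≠ 0 := by
    intro i hi
    rw [hS, Finset.mem_filter, Finset.mem_erase] at hi
    exact ⟨hi.1.1, hi.2⟩
  have hzi : ∀ i ∈ S, z i = 1 ∨ z i = -1 ∨ z i = 2 ∨ z i = -2 := by
    intro i hi
    apply abs_le_two_of_sq_le_six _ _ (hmem i hi).2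
    rw [← hS6]
    exact Finset.single_le_sum (f := fun j => z j ^ 2) (fun j _ => sq_nonneg (z j)) hi
  have htype : ∀ i ∈ S, ((z i = 1 ∨ z i = -1) ∧ τ i ∈ typesN) ∨
      ((z i = 2 ∨ z i = -2) ∧ τ i ∈ typesW) := by
    intro i hi
    rw [hτ]
    exact type_cases (f i) (z i) (v i) (hzi i hi) (H5 i) (H8 i) (le_seventy_of_sq_le _ (H9 i))
      (fun h => (hmem i hi).1 (H10 i h)) (H6 i) (H7 i).1 (H7 i).2
  -- the three functions on types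
  have hFA : ∀ i, z i ^ 2 = (fun k : ℤ × ℤ × ℤ => k.1 ^ 2) (τ i) := fun i => by rw [hτ]
  have hFB : ∀ i, z i * (f i : ℤ) = (fun k : ℤ × ℤ × ℤ => k.1 * k.2.1) (τ i) := fun i => by
    rw [hτ]
  have hFD : ∀ i, z i * v i ^ 2 * ((5040 : ℤ) / (f i : ℤ))
      = (fun k : ℤ × ℤ × ℤ => k.1 * k.2.2 ^ 2 * (5040 / k.2.1)) (τ i) := fun i => by rw [hτ]
  -- a general reduction for a subset consisting of normal types
  have key : ∀ (S' : Finset ι) (N : ℕ) (Bw Dw : ℤ), (∀ i ∈ S', τ i ∈ typesN) →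
      ∑ i ∈ S', z i ^ 2 = N → ∑ i ∈ S', z i * (f i : ℤ) + Bw = -1 →
      7 * (c : ℤ) ^ 2 = 5040 + ∑ i ∈ S', z i * v i ^ 2 * ((5040 : ℤ) / (f i : ℤ)) + 7 * 16 * Dw →
      ((N = 6 ∧ Bw = 0 ∧ Dw = 0) ∨ (N = 2 ∧ ((Bw = 4 ∧ Dw = 180) ∨ (Bw = 18 ∧ Dw = 10) ∨
      (Bw = 18 ∧ Dw = 90) ∨ (Bw = 32 ∧ Dw = 90) ∨ (Bw = 32 ∧ Dw = 0) ∨ (Bw = 60 ∧ Dw = 108) ∨
      (Bw = 60 ∧ Dw = 12) ∨ (Bw = -24 ∧ Dw = 0) ∨ (Bw = -80 ∧ Dw = -36) ∨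
      (Bw = -80 ∧ Dw = 0)))) → False := by
    intro S' N Bw Dw hmap hA hB hD hcase
    rw [Finset.sum_congr rfl (fun i _ => hFA i),
      sum_by_type S' τ typesN hmap (fun k : ℤ × ℤ × ℤ => k.1 ^ 2), sum_typesN] at hA
    rw [Finset.sum_congr rfl (fun i _ => hFB i),
      sum_by_type S' τ typesN hmap (fun k : ℤ × ℤ × ℤ => k.1 * k.2.1), sum_typesN] at hB
    rw [Finset.sum_congr rfl (fun i _ => hFD i),
      sum_by_type S' τ typesN hmap (fun k : ℤ × ℤ × ℤ => k.1 * k.2.2 ^ 2 * (5040 / k.2.1)),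
      sum_typesN] at hD
    norm_num at hA hB hD
    obtain ⟨n, hn⟩ : ∃ n : ℤ × ℤ × ℤ → ℕ, ∀ k, n k = (S'.filter fun i => τ i = k).card :=
      ⟨_, fun _ => rfl⟩
    simp only [← hn] at hA hB hD
    exact counts_kill (n (1, 8, 0)) (n (1, 15, 3)) (n (1, 15, -1)) (n (1, 36, -4)) (n (1, 36, 0))
      (n (1, 36, 4)) (n (-1, 20, 0)) (n (-1, 48, -4)) (n (-1, 48, 0)) (n (-1, 48, 4)) N c Bw Dw
      (by exact_mod_cast hA) (by linear_combination hB) (by linear_combination hD) hcase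
  by_cases hw : ∃ i₀ ∈ S, z i₀ = 2 ∨ z i₀ = -2
  · -- the exceptional case
    obtain ⟨i₀, hi₀, hz₀⟩ := hw
    have ht₀ : τ i₀ ∈ typesW := by
      rcases htype i₀ hi₀ with h | h
      · rcases h.1 with h1 | h1 <;> rcases hz₀ with h2 | h2 <;> rw [h1] at h2 <;> norm_num at h2
      · exact h.2
    have hz₀sq : z i₀ ^ 2 = 4 := by rcases hz₀ with h | h <;> rw [h] <;> norm_num
    have hA' : ∑ i ∈ S.erase i₀, z i ^ 2 = 2 := by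
      have : z i₀ ^ 2 + ∑ i ∈ S.erase i₀, z i ^ 2 = ∑ i ∈ S, z i ^ 2 :=
        Finset.add_sum_erase S (fun i => z i ^ 2) hi₀
      linarith
    have hB' : z i₀ * (f i₀ : ℤ) + ∑ i ∈ S.erase i₀, z i * (f i : ℤ) = ∑ i ∈ S, z i * (f i : ℤ) :=
      Finset.add_sum_erase S (fun i => z i * (f i : ℤ)) hi₀
    have hD' : z i₀ * v i₀ ^ 2 * ((5040 : ℤ) / (f i₀ : ℤ))
        + ∑ i ∈ S.erase i₀, z i * v i ^ 2 * ((5040 : ℤ) / (f i : ℤ))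
        = ∑ i ∈ S, z i * v i ^ 2 * ((5040 : ℤ) / (f i : ℤ)) :=
      Finset.add_sum_erase S (fun i => z i * v i ^ 2 * ((5040 : ℤ) / (f i : ℤ))) hi₀
    have hmap' : ∀ i ∈ S.erase i₀, τ i ∈ typesN := by
      intro i hi
      have hiS := Finset.mem_of_mem_erase hi
      rcases htype i hiS with h | h
      · exact h.2
      · exfalso
        have h1 : z i ^ 2 = 4 := by rcases h.1 with h | h <;> rw [h] <;> norm_num
        have h2 : z i ^ 2 ≤ 2 := by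
          rw [← hA']
          exact Finset.single_le_sum (f := fun j => z j ^ 2) (fun j _ => sq_nonneg (z j)) hi
        omega
    have hτ₀ := hτ i₀
    have hcases : (τ i₀ = (2, 2, 2) ∨ τ i₀ = (2, 2, -2) ∨ τ i₀ = (2, 9, 1) ∨ τ i₀ = (2, 9, -3) ∨
        τ i₀ = (2, 16, -4) ∨ τ i₀ = (2, 16, 0) ∨ τ i₀ = (2, 16, 4) ∨ τ i₀ = (2, 30, -6) ∨
        τ i₀ = (2, 30, -2) ∨ τ i₀ = (2, 30, 2) ∨ τ i₀ = (2, 30, 6) ∨ τ i₀ = (-2, 12, 0) ∨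
        τ i₀ = (-2, 40, -4) ∨ τ i₀ = (-2, 40, 0) ∨ τ i₀ = (-2, 40, 4)) := by
      simpa [typesW] using ht₀
    rw [hτ₀] at hcases
    simp only [Prod.mk.injEq] at hcases
    apply key (S.erase i₀) 2 (z i₀ * (f i₀ : ℤ))
      ((z i₀ * v i₀ ^ 2 * ((5040 : ℤ) / (f i₀ : ℤ))) / 112) hmap' hA' (by linarith)
    · rcases hcases with ⟨h1, h2, h3⟩ | ⟨h1, h2, h3⟩ | ⟨h1, h2, h3⟩ | ⟨h1, h2, h3⟩ |
        ⟨h1, h2, h3⟩ | ⟨h1, h2, h3⟩ | ⟨h1, h2, h3⟩ | ⟨h1, h2, h3⟩ | ⟨h1, h2, h3⟩ | ⟨h1, h2, h3⟩ |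
        ⟨h1, h2, h3⟩ | ⟨h1, h2, h3⟩ | ⟨h1, h2, h3⟩ | ⟨h1, h2, h3⟩ | ⟨h1, h2, h3⟩ <;>
      · rw [h1, h2, h3] at hD' ⊢
        norm_num at hD' ⊢
        linarith
    · right
      refine ⟨rfl, ?_⟩
      rcases hcases with ⟨h1, h2, h3⟩ | ⟨h1, h2, h3⟩ | ⟨h1, h2, h3⟩ | ⟨h1, h2, h3⟩ |
        ⟨h1, h2, h3⟩ | ⟨h1, h2, h3⟩ | ⟨h1, h2, h3⟩ | ⟨h1, h2, h3⟩ | ⟨h1, h2, h3⟩ | ⟨h1, h2, h3⟩ |
        ⟨h1, h2, h3⟩ | ⟨h1, h2, h3⟩ | ⟨h1, h2, h3⟩ | ⟨h1, h2, h3⟩ | ⟨h1, h2, h3⟩ <;>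
      · rw [h1, h2, h3]
        norm_num
  · -- the normal case
    have hmap : ∀ i ∈ S, τ i ∈ typesN := by
      intro i hi
      rcases htype i hi with h | h
      · exact h.2
      · exact absurd ⟨i, hi, h.1⟩ hw
    apply key S 6 0 0 hmap hS6 (by linarith) (by linarith)
    left
    exact ⟨rfl, rfl, rfl⟩

end Cfsg.Agent.Lib.Helper8.O5040
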