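import Cfsg.Agent.Lib.Helper8.O73MChk
import Cfsg.Agent.Lib.Helper8.FixCnt
import Cfsg.Agent.Lib.Helper6.CoxLift
import Cfsg.Agent.Lib.Helper6.Fi22Q8Simple
import Cfsg.Agent.Lib.Helper6.T3Gen

/-!
# The group `Ω₇(3)` on 351 points

The presented group `Q8` (simple of order 4585351680, isomorphic to `Ω₇(3)`) acts faithfully on the 351 points of norm
two; the group `P` of permutations, the codes of its generators, and the number of the fixed points of a permutation from
its code.
-/

set_option autoImplicit false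
set_option linter.constructorNameAsVariable false

namespace Cfsg.Agent.Lib.Helper8.O73M

open Cfsg.Agent.PG Cfsg.Spor Cfsg.Agent.Lib.Helper6 Cfsg.Agent.Lib.Helper6.TC Cfsg.Agent.Lib.Helper6.Fi22Sub
open Cfsg.Agent.Lib.Helper8.FixCnt

theorem hn : (351 : ℕ) ≤ 512 := by norm_num

theorem chk_code : ∀ x, codeOK 351 (cg x) (cg x) = true
  | 0 => chk_code0
  | 1 => chk_code1
  | 2 => chk_code2
  | 3 => chk_code3
  | 4 => chk_code4
  | 5 => chk_code5
  | 6 => chk_code6
  | 7 => chk_code7
  | _ + 8 => chk_code8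

theorem chk_sq : ∀ x, pmul 351 (cg x) (cg x) = pone 351
  | 0 => chk_sq0
  | 1 => chk_sq1
  | 2 => chk_sq2
  | 3 => chk_sq3
  | 4 => chk_sq4
  | 5 => chk_sq5
  | 6 => chk_sq6
  | 7 => chk_sq7
  | _ + 8 => chk_sq8

/-- the permutation of the generator `x` -/
noncomputable def gp (x : ℕ) : Equiv.Perm (Fin 351) := dec 351 (cg x)

theorem enc_gp (x : ℕ) : enc 351 (gp x) = cg x := enc_dec (isCode_of_codeOK hn (chk_code x))

theorem enc_mul {g h : Equiv.Perm (Fin 351)} {c d e : ℕ} (hg : enc 351 g = c) (hh : enc 351 h = d)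
    (he : pmul 351 c d = e) : enc 351 (g * h) = e := by
  rw [← pmul_enc hn, hg, hh, he]

theorem gp_mul_self (x : ℕ) : gp x * gp x = 1 := by
  apply enc_injective hn
  rw [enc_mul (enc_gp x) (enc_gp x) (chk_sq x), pone_eq]

/-- the images of the generators of the presentation -/
noncomputable def fgen (a : Q8.Gen) : Equiv.Perm (Fin 351) := gp (Fi22Q8oTC.code a)

theorem fgen_gen {x : ℕ} (hx : x < 8) : fgen (Fi22Q8oTC.gen x) = gp x := by
  interval_cases x <;> rfl

theorem wcode_nil : wcode [] = pone 351 := by rw [wcode]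

theorem wcode_cons (x : ℕ) (w : List ℕ) : wcode (x :: w) = pmul 351 (cg x) (wcode w) := by rw [wcode]

theorem enc_word (w : List ℕ) : enc 351 (w.map gp).prod = wcode w := by
  induction w with
  | nil =>
    rw [List.map_nil, List.prod_nil, wcode_nil, pone_eq]
  | cons x w ih =>
    rw [List.map_cons, List.prod_cons, wcode_cons]
    exact enc_mul (enc_gp x) ih rfl

theorem chk_words_lt : ((coxWordsL Q8.edges Fi22Q8oTC.gen 8 ++ Fi22Q8oTC.extraWords).all fun w =>
    w.all fun x => decide (x < 8)) = true := by decide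

theorem word_eq_one {w : List ℕ} (hw : w ∈ coxWordsL Q8.edges Fi22Q8oTC.gen 8 ++ Fi22Q8oTC.extraWords) :
    (w.map fun x => fgen (Fi22Q8oTC.gen x)).prod = 1 := by
  have h1 := List.all_eq_true.1 chk_words w hw
  have h2 := List.all_eq_true.1 chk_words_lt w hw
  have h4 : ∀ x ∈ w, x < 8 := fun x hx => of_decide_eq_true (List.all_eq_true.1 h2 x hx)
  have h3 : w.map (fun x => fgen (Fi22Q8oTC.gen x)) = w.map gp :=
    List.map_congr_left fun x hx => fgen_gen (h4 x hx)
  rw [h3]
  apply enc_injective hn
  rw [enc_word, Nat.eq_of_beq_eq_true h1, pone_eq]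

theorem fgen_mul_self (a : Q8.Gen) : fgen a * fgen a = 1 := gp_mul_self _

theorem lift_rel : ∀ r ∈ coxRelators Q8.edges ∪ {r | r ∈ Q8.extra}, FreeGroup.lift fgen r = 1 :=
  CoxLift.lift_eq_one_of_words Fi22Q8oTC.gen Fi22Q8oTC.code 8 Fi22Q8oTC.extraWords
    (by intro a; cases a <;> exact ⟨by decide, rfl⟩) fgen
    (Fi22Q8oTC.extra_iff fgen fgen_mul_self) fun _ hw => word_eq_one hw

/-- the action of the presented group on the 351 points -/
noncomputable def φ : Q8 →* Equiv.Perm (Fin 351) := PresentedGroup.toGroup lift_rel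

theorem φ_of (a : Q8.Gen) : φ (PresentedGroup.of a) = fgen a := PresentedGroup.toGroup.of _

/-- **the codes of the images of the generators** -/
theorem φ_gen (x : ℕ) (hx : x < 8) : enc 351 (φ (PresentedGroup.of (Fi22Q8oTC.gen x))) = cg x := by
  rw [φ_of, fgen_gen hx, enc_gp]

theorem φ_ne_one : φ (PresentedGroup.of (Fi22Q8oTC.gen 0)) ≠ 1 := by
  intro h
  have h1 := φ_gen 0 (by norm_num)
  rw [h, ← pone_eq] at h1
  have h2 : Nat.beq c0 (pone 351) = true := by
    rw [show c0 = pone 351 from h1.symm]
    exact Nat.beq_refl _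
  rw [chk_ne0] at h2
  exact absurd h2 (by simp)

instance simpleQ8 : IsSimpleGroup Q8 := Fi22Q8Simple.main.1

theorem φ_injective : Function.Injective φ := T3Gen.injective_of_simple _ φ_ne_one

/-- the permutation group on the 351 points -/
noncomputable def P : Subgroup (Equiv.Perm (Fin 351)) := φ.range

/-- the presented group is isomorphic to the permutation group -/
noncomputable def isoP : Q8 ≃* ↥P := MonoidHom.ofInjective φ_injective

theorem isoP_apply (q : Q8) : (isoP q : Equiv.Perm (Fin 351)) = φ q := rfl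

theorem card_P : Nat.card ↥P = 4585351680 := by
  rw [← Fi22Q8Simple.main.2]
  exact (Nat.card_congr isoP.toEquiv).symm

theorem simple_P : IsSimpleGroup ↥P := isoP.symm.isSimpleGroup

/-- the generators, in the permutation group -/
noncomputable def gP (x : ℕ) : ↥P := isoP (PresentedGroup.of (Fi22Q8oTC.gen x))

theorem enc_gP (x : ℕ) (hx : x < 8) : enc 351 (gP x).1 = cg x := φ_gen x hx

/-- the registers of the generators: the generator `x` is in the register `x` -/
noncomputable def gensP : List ↥P := [gP 0, gP 1, gP 2, gP 3, gP 4, gP 5, gP 6, gP 7]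

theorem regs_ok : RegsOK P gensP cgs :=
  List.Forall₂.cons (enc_gP 0 (by norm_num)) (List.Forall₂.cons (enc_gP 1 (by norm_num))
    (List.Forall₂.cons (enc_gP 2 (by norm_num)) (List.Forall₂.cons (enc_gP 3 (by norm_num))
    (List.Forall₂.cons (enc_gP 4 (by norm_num)) (List.Forall₂.cons (enc_gP 5 (by norm_num))
    (List.Forall₂.cons (enc_gP 6 (by norm_num)) (List.Forall₂.cons (enc_gP 7 (by norm_num))
    List.Forall₂.nil)))))))

/-! ### the number of the fixed points -/

/-- **the number of the fixed points of a permutation of the 351 points, from its code** -/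
theorem card_fixedPoints (g : Equiv.Perm (Fin 351)) :
    Fintype.card (Function.fixedPoints g) = cntFixG 351 (enc 351 g) := card_fixedPoints_pg hn g

end Cfsg.Agent.Lib.Helper8.O73M
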