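import Cfsg.Agent.Lib.Helper8.O73MData
import Cfsg.Agent.Lib.Helper6.Fi22Q8oTC

/-!
# The group `Ω₇(3)` on 351 points: the kernel checks
-/

set_option autoImplicit false
set_option maxRecDepth 100000

namespace Cfsg.Agent.Lib.Helper8.O73M

open Cfsg.Agent.PG Cfsg.Spor Cfsg.Agent.Lib.Helper6 Cfsg.Agent.Lib.Helper6.TC Cfsg.Agent.Lib.Helper6.Fi22Sub

/-- the code of the generator `x` -/
def cg : ℕ → ℕ
  | 0 => c0
  | 1 => c1
  | 2 => c2
  | 3 => c3
  | 4 => c4
  | 5 => c5
  | 6 => c6
  | 7 => c7
  | _ => pone 351

theorem chk_code0 : codeOK 351 c0 c0 = true := by decide +kernel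
theorem chk_code1 : codeOK 351 c1 c1 = true := by decide +kernel
theorem chk_code2 : codeOK 351 c2 c2 = true := by decide +kernel
theorem chk_code3 : codeOK 351 c3 c3 = true := by decide +kernel
theorem chk_code4 : codeOK 351 c4 c4 = true := by decide +kernel
theorem chk_code5 : codeOK 351 c5 c5 = true := by decide +kernel
theorem chk_code6 : codeOK 351 c6 c6 = true := by decide +kernel
theorem chk_code7 : codeOK 351 c7 c7 = true := by decide +kernel
theorem chk_code8 : codeOK 351 (pone 351) (pone 351) = true := by decide +kernel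

theorem chk_sq0 : pmul 351 c0 c0 = pone 351 := by decide +kernel
theorem chk_sq1 : pmul 351 c1 c1 = pone 351 := by decide +kernel
theorem chk_sq2 : pmul 351 c2 c2 = pone 351 := by decide +kernel
theorem chk_sq3 : pmul 351 c3 c3 = pone 351 := by decide +kernel
theorem chk_sq4 : pmul 351 c4 c4 = pone 351 := by decide +kernel
theorem chk_sq5 : pmul 351 c5 c5 = pone 351 := by decide +kernel
theorem chk_sq6 : pmul 351 c6 c6 = pone 351 := by decide +kernel
theorem chk_sq7 : pmul 351 c7 c7 = pone 351 := by decide +kernel
theorem chk_sq8 : pmul 351 (pone 351) (pone 351) = pone 351 := by decide +kernel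

theorem chk_ne0 : Nat.beq c0 (pone 351) = false := by decide +kernel

/-- the code of the permutation of a word in the generators -/
def wcode : List ℕ → ℕ
  | [] => pone 351
  | x :: w => pmul 351 (cg x) (wcode w)

/-- the words of the relators are trivial -/
theorem chk_words : ((coxWordsL Q8.edges Fi22Q8oTC.gen 8 ++ Fi22Q8oTC.extraWords).all fun w =>
    Nat.beq (wcode w) (pone 351)) = true := by decide +kernel

end Cfsg.Agent.Lib.Helper8.O73M
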