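import Cfsg.Agent.Lib.Helper8.O73PChk
import Cfsg.Agent.Lib.Helper6.CoxLift

/-!
# The group `Ω₇(3)` on 3159 points

The presented group `Q8` (isomorphic to `Ω₇(3)`) acts on 3159 points; the number of the fixed points of an element is
computed from the code of its permutation and is a class function.
-/

set_option autoImplicit false
set_option linter.constructorNameAsVariable false

namespace Cfsg.Agent.Lib.Helper8.O73P

open Cfsg.Agent.PL Cfsg.Spor Cfsg.Agent.Lib.Helper6 Cfsg.Agent.Lib.Helper6.TC Cfsg.Agent.Lib.Helper6.Fi22Sub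
open Cfsg.Agent.PG (allB allB_iff)

theorem hn : (3159 : ℕ) ≤ 4096 := by norm_num

theorem chk_code : ∀ x, codeOK 3159 (cg x) (cg x) = true
  | 0 => chk_code0
  | 1 => chk_code1
  | 2 => chk_code2
  | 3 => chk_code3
  | 4 => chk_code4
  | 5 => chk_code5
  | 6 => chk_code6
  | _ + 7 => chk_code7

theorem chk_sq : ∀ x, pmul 3159 (cg x) (cg x) = pone 3159
  | 0 => chk_sq0
  | 1 => chk_sq1
  | 2 => chk_sq2
  | 3 => chk_sq3
  | 4 => chk_sq4
  | 5 => chk_sq5
  | 6 => chk_sq6
  | _ + 7 => chk_sq7

/-- the permutation of the generator `x` -/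
noncomputable def gp (x : ℕ) : Equiv.Perm (Fin 3159) := dec 3159 (cg x)

theorem enc_gp (x : ℕ) : enc 3159 (gp x) = cg x := enc_dec (isCode_of_codeOK hn (chk_code x))

theorem acts_gp (x : ℕ) : Acts (gp x) (lk (cg x)) := Acts.of_enc hn (enc_gp x)

theorem enc_mul {g h : Equiv.Perm (Fin 3159)} {c d e : ℕ} (hg : enc 3159 g = c) (hh : enc 3159 h = d)
    (he : pmul 3159 c d = e) : enc 3159 (g * h) = e := by
  rw [← pmul_enc hn, hg, hh, he]

theorem gp_mul_self (x : ℕ) : gp x * gp x = 1 := by
  apply enc_injective hn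
  rw [enc_mul (enc_gp x) (enc_gp x) (chk_sq x), pone_eq]

/-- the images of the generators of the presentation -/
noncomputable def fgen (a : Q8.Gen) : Equiv.Perm (Fin 3159) := gp (Fi22Q8oTC.code a)

theorem fgen_gen : ∀ x : ℕ, fgen (Fi22Q8oTC.gen x) = gp x
  | 0 => rfl
  | 1 => rfl
  | 2 => rfl
  | 3 => rfl
  | 4 => rfl
  | 5 => rfl
  | 6 => rfl
  | _ + 7 => rfl

theorem acts_word (w : List ℕ) :
    Acts ((w.map fun x => fgen (Fi22Q8oTC.gen x)).prod) (fun q => w.foldr (fun x q => lk (cg x) q) q) := by
  induction w with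
  | nil => exact Acts.one
  | cons x w ih =>
    rw [List.map_cons, List.prod_cons, fgen_gen]
    exact (acts_gp x).mul ih

theorem word_eq_one {w : List ℕ} (hw : w ∈ coxWordsL Q8.edges Fi22Q8oTC.gen 8 ++ Fi22Q8oTC.extraWords) :
    (w.map fun x => fgen (Fi22Q8oTC.gen x)).prod = 1 := by
  have h1 := List.all_eq_true.1 chk_words w hw
  exact (acts_word w).eq_one fun q hq => Nat.eq_of_beq_eq_true (allB_iff.1 h1 q hq)

theorem fgen_mul_self (a : Q8.Gen) : fgen a * fgen a = 1 := gp_mul_self _

theorem lift_rel : ∀ r ∈ coxRelators Q8.edges ∪ {r | r ∈ Q8.extra}, FreeGroup.lift fgen r = 1 :=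
  CoxLift.lift_eq_one_of_words Fi22Q8oTC.gen Fi22Q8oTC.code 8 Fi22Q8oTC.extraWords
    (by intro a; cases a <;> exact ⟨by decide, rfl⟩) fgen
    (Fi22Q8oTC.extra_iff fgen fgen_mul_self) fun _ hw => word_eq_one hw

/-- the action of the presented group on the 3159 points -/
noncomputable def ρ : Q8 →* Equiv.Perm (Fin 3159) := PresentedGroup.toGroup lift_rel

theorem ρ_of (a : Q8.Gen) : ρ (PresentedGroup.of a) = fgen a := PresentedGroup.toGroup.of _

/-- the generator `x` of the presented group -/
noncomputable def qgen (x : ℕ) : Q8 := PresentedGroup.of (Fi22Q8oTC.gen x)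

theorem ρ_qgen (x : ℕ) : ρ (qgen x) = gp x := by rw [qgen, ρ_of, fgen_gen]

/-- **the codes of the images of the generators** -/
theorem enc_ρ_qgen (x : ℕ) : enc 3159 (ρ (qgen x)) = cg x := by rw [ρ_qgen, enc_gp]

/-! ### the number of the fixed points -/

/-- the number of `p < k` with `f p` -/
def cnt (f : ℕ → Bool) (k : ℕ) : ℕ := Nat.rec 0 (fun p acc => cond (f p) (Nat.succ acc) acc) k

theorem cnt_succ (f : ℕ → Bool) (k : ℕ) : cnt f (k + 1) = cond (f k) (Nat.succ (cnt f k)) (cnt f k) := rfl

theorem cnt_eq_card (f : ℕ → Bool) (k : ℕ) : cnt f k = ((Finset.range k).filter fun p => f p = true).card := by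
  induction k with
  | zero => rfl
  | succ k ih =>
    rw [cnt_succ, Finset.range_add_one, Finset.filter_insert]
    cases hf : f k with
    | false => simp [ih]
    | true =>
      rw [if_pos rfl, Finset.card_insert_of_notMem (by simp), ih]
      rfl

/-- the number of the fixed points of the permutation with the code `c` -/
def fixCount (c : ℕ) : ℕ := cnt (fun p => Nat.beq (lk c p) p) 3159

/-- **the number of the fixed points of a permutation, from its code** -/
theorem card_fixedPoints (g : Equiv.Perm (Fin 3159)) :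
    Fintype.card (Function.fixedPoints g) = fixCount (enc 3159 g) := by
  classical
  rw [fixCount, cnt_eq_card, Fintype.card_subtype]
  have h1 : ((Finset.range 3159).filter fun p => Nat.beq (lk (enc 3159 g) p) p = true) =
      ((Finset.univ : Finset (Fin 3159)).filter fun i => i ∈ Function.fixedPoints g).map Fin.valEmbedding := by
    ext p
    simp only [Finset.mem_filter, Finset.mem_range, Finset.mem_map, Finset.mem_univ, true_and,
      Fin.valEmbedding_apply, Function.mem_fixedPoints, Function.IsFixedPt]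
    constructor
    · rintro ⟨hp, h⟩
      refine ⟨⟨p, hp⟩, Fin.ext ?_, rfl⟩
      rw [← lk_enc_fin hn g ⟨p, hp⟩]
      exact Nat.eq_of_beq_eq_true h
    · rintro ⟨i, hi, rfl⟩
      refine ⟨i.2, ?_⟩
      rw [lk_enc_fin hn g i, hi]
      exact Nat.beq_refl _
  rw [h1, Finset.card_map]

/-- the number of the points of the 3159 that an element of the presented group fixes -/
noncomputable def nfix (q : Q8) : ℕ := Fintype.card (Function.fixedPoints (ρ q))

theorem nfix_eq (q : Q8) {c : ℕ} (h : enc 3159 (ρ q) = c) : nfix q = fixCount c := by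
  rw [nfix, card_fixedPoints, h]

/-- **the number of the fixed points is a class function** -/
theorem nfix_conj (q h : Q8) : nfix (q * h * q⁻¹) = nfix h := by
  classical
  rw [nfix, nfix, map_mul, map_mul, map_inv]
  refine (Fintype.card_congr (Equiv.subtypeEquiv (ρ q) fun a => ?_)).symm
  simp only [Function.mem_fixedPoints, Function.IsFixedPt, Equiv.Perm.mul_apply]
  rw [show (ρ q)⁻¹ (ρ q a) = a from by simp]
  exact (ρ q).injective.eq_iff.symm

theorem nfix_inv (h : Q8) : nfix h⁻¹ = nfix h := by
  classical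
  rw [nfix, nfix, map_inv]
  refine Fintype.card_congr (Equiv.subtypeEquiv (Equiv.refl _) fun a => ?_)
  simp only [Function.mem_fixedPoints, Function.IsFixedPt, Equiv.refl_apply]
  rw [Equiv.Perm.inv_eq_iff_eq]
  exact eq_comm

/-! ### codes of products -/

theorem enc_ρ_one : enc 3159 (ρ 1) = pone 3159 := by rw [map_one, pone_eq]

theorem enc_ρ_mul {a b : Q8} {c d e : ℕ} (ha : enc 3159 (ρ a) = c) (hb : enc 3159 (ρ b) = d)
    (he : pmul 3159 c d = e) : enc 3159 (ρ (a * b)) = e := by
  rw [map_mul]
  exact enc_mul ha hb he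

theorem enc_ρ_inv {a : Q8} {c : ℕ} (ha : enc 3159 (ρ a) = c) : enc 3159 (ρ a⁻¹) = pinv 3159 c := by
  rw [map_inv, ← pinv_enc hn, ha]

/-- the code of the permutation of a word in the generators -/
def wcode : List ℕ → ℕ
  | [] => pone 3159
  | x :: w => pmul 3159 (cg x) (wcode w)

theorem wcode_nil : wcode [] = pone 3159 := by rw [wcode]

theorem wcode_cons (x : ℕ) (w : List ℕ) : wcode (x :: w) = pmul 3159 (cg x) (wcode w) := by rw [wcode]

theorem enc_ρ_word (w : List ℕ) : enc 3159 (ρ (w.map qgen).prod) = wcode w := by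
  induction w with
  | nil =>
    rw [List.map_nil, List.prod_nil, wcode_nil]
    exact enc_ρ_one
  | cons x w ih =>
    rw [List.map_cons, List.prod_cons, wcode_cons]
    exact enc_ρ_mul (enc_ρ_qgen x) ih rfl

/-- **the number of the fixed points of a word in the generators** -/
theorem nfix_word (w : List ℕ) : nfix (w.map qgen).prod = fixCount (wcode w) := nfix_eq _ (enc_ρ_word w)

/-- elements with different numbers of fixed points are not conjugate, and neither are the groups they generate when
they have order three -/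
theorem not_conj_of_nfix_ne {a b : Q8} (h : nfix a ≠ nfix b) (g : Q8) : g * a * g⁻¹ ≠ b ∧ g * a * g⁻¹ ≠ b⁻¹ := by
  constructor
  · intro e
    exact h (by rw [← e, nfix_conj])
  · intro e
    exact h (by rw [← nfix_inv b, ← e, nfix_conj])

end Cfsg.Agent.Lib.Helper8.O73P
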