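import Cfsg.Agent.Lib.Helper8.O73PData
import Cfsg.Agent.Lib.Helper6.Fi22Q8oTC

/-!
# The group `Ω₇(3)` on 3159 points: the kernel checks
-/

set_option autoImplicit false
set_option maxRecDepth 100000

namespace Cfsg.Agent.Lib.Helper8.O73P

open Cfsg.Agent.PL Cfsg.Spor Cfsg.Agent.Lib.Helper6 Cfsg.Agent.Lib.Helper6.TC Cfsg.Agent.Lib.Helper6.Fi22Sub
open Cfsg.Agent.PG (allB)

/-- the code of the generator `x` -/
def cg : ℕ → ℕ
  | 0 => c0
  | 1 => c1
  | 2 => c2
  | 3 => c3
  | 4 => c4
  | 5 => c5
  | 6 => c6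
  | _ => c7

theorem chk_code0 : codeOK 3159 c0 c0 = true := by decide +kernel
theorem chk_code1 : codeOK 3159 c1 c1 = true := by decide +kernel
theorem chk_code2 : codeOK 3159 c2 c2 = true := by decide +kernel
theorem chk_code3 : codeOK 3159 c3 c3 = true := by decide +kernel
theorem chk_code4 : codeOK 3159 c4 c4 = true := by decide +kernel
theorem chk_code5 : codeOK 3159 c5 c5 = true := by decide +kernel
theorem chk_code6 : codeOK 3159 c6 c6 = true := by decide +kernel
theorem chk_code7 : codeOK 3159 c7 c7 = true := by decide +kernel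

theorem chk_sq0 : pmul 3159 c0 c0 = pone 3159 := by decide +kernel
theorem chk_sq1 : pmul 3159 c1 c1 = pone 3159 := by decide +kernel
theorem chk_sq2 : pmul 3159 c2 c2 = pone 3159 := by decide +kernel
theorem chk_sq3 : pmul 3159 c3 c3 = pone 3159 := by decide +kernel
theorem chk_sq4 : pmul 3159 c4 c4 = pone 3159 := by decide +kernel
theorem chk_sq5 : pmul 3159 c5 c5 = pone 3159 := by decide +kernel
theorem chk_sq6 : pmul 3159 c6 c6 = pone 3159 := by decide +kernel
theorem chk_sq7 : pmul 3159 c7 c7 = pone 3159 := by decide +kernel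

/-- the words of the relators fix all the points -/
theorem chk_words : ((coxWordsL Q8.edges Fi22Q8oTC.gen 8 ++ Fi22Q8oTC.extraWords).all fun w =>
    allB 3159 fun q => Nat.beq (w.foldr (fun x q => lk (cg x) q) q) q) = true := by decide +kernel

end Cfsg.Agent.Lib.Helper8.O73P
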