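import Cfsg.Agent.Lib.Helper8.O73RChk
import Cfsg.Agent.Lib.Helper8.FixCnt
import Cfsg.Agent.Lib.Helper6.Fi22Q8oTC

/-!
# The group `Ω₇(3)` on 3523 points

The presented group `Q8` (isomorphic to `Ω₇(3)`) acts on 3523 points: the 364 singular points and the 3159 cosets of
`Sp₆(2)`.  The number of the fixed points of an element is computed from the code of its permutation and is a class
function.
-/

set_option autoImplicit false
set_option linter.constructorNameAsVariable false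

namespace Cfsg.Agent.Lib.Helper8.O73R

open Cfsg.Agent.PL Cfsg.Spor Cfsg.Agent.Lib.Helper6 Cfsg.Agent.Lib.Helper6.TC Cfsg.Agent.Lib.Helper6.Fi22Sub
open Cfsg.Agent.PG (strict strict_eq)
open Cfsg.Agent.Lib.Helper8.FixCnt

theorem hn : (3523 : ℕ) ≤ 4096 := by norm_num

theorem chk_code : ∀ x, codeOK 3523 (ch x) (ch x) = true
  | 0 => chk_code0
  | 1 => chk_code1
  | 2 => chk_code2
  | 3 => chk_code3
  | 4 => chk_code4
  | 5 => chk_code5
  | 6 => chk_code6
  | _ + 7 => chk_code7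

theorem chk_sq : ∀ x, pmul 3523 (ch x) (ch x) = pone 3523
  | 0 => chk_sq0
  | 1 => chk_sq1
  | 2 => chk_sq2
  | 3 => chk_sq3
  | 4 => chk_sq4
  | 5 => chk_sq5
  | 6 => chk_sq6
  | _ + 7 => chk_sq7

/-- the permutation of the generator `x` -/
noncomputable def gp (x : ℕ) : Equiv.Perm (Fin 3523) := dec 3523 (ch x)

theorem enc_gp (x : ℕ) : enc 3523 (gp x) = ch x := enc_dec (isCode_of_codeOK hn (chk_code x))

theorem enc_mul {g h : Equiv.Perm (Fin 3523)} {c d e : ℕ} (hg : enc 3523 g = c) (hh : enc 3523 h = d)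
    (he : pmul 3523 c d = e) : enc 3523 (g * h) = e := by
  rw [← pmul_enc hn, hg, hh, he]

theorem gp_mul_self (x : ℕ) : gp x * gp x = 1 := by
  apply enc_injective hn
  rw [enc_mul (enc_gp x) (enc_gp x) (chk_sq x), pone_eq]

theorem gp_inv (x : ℕ) : (gp x)⁻¹ = gp x := inv_eq_of_mul_eq_one_left (gp_mul_self x)

theorem pow_two_of {x y : ℕ} (h : sq2 (ch x) (ch y) = pone 3523) : (gp x * gp y) ^ 2 = 1 := by
  apply enc_injective hn
  rw [sq2, strict_eq] at h
  rw [pow_two, enc_mul (enc_mul (enc_gp x) (enc_gp y) rfl) (enc_mul (enc_gp x) (enc_gp y) rfl) h, pone_eq]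

theorem pow_three_of {x y : ℕ} (h : cu3 (ch x) (ch y) = pone 3523) : (gp x * gp y) ^ 3 = 1 := by
  apply enc_injective hn
  rw [cu3, strict_eq] at h
  rw [pow_succ, pow_two, enc_mul (enc_mul (enc_mul (enc_gp x) (enc_gp y) rfl) (enc_mul (enc_gp x) (enc_gp y) rfl) rfl)
    (enc_mul (enc_gp x) (enc_gp y) rfl) h, pone_eq]

theorem pow_swap (x y m : ℕ) (h : (gp x * gp y) ^ m = 1) : (gp y * gp x) ^ m = 1 := by
  have e : gp y * gp x = (gp x * gp y)⁻¹ := by rw [mul_inv_rev, gp_inv, gp_inv]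
  rw [e, inv_pow, h, inv_one]

/-- the images of the generators of the presentation -/
noncomputable def fgen (a : Q8.Gen) : Equiv.Perm (Fin 3523) := gp (Fi22Q8oTC.code a)

theorem fgen_gen : ∀ x : ℕ, fgen (Fi22Q8oTC.gen x) = gp x
  | 0 => rfl
  | 1 => rfl
  | 2 => rfl
  | 3 => rfl
  | 4 => rfl
  | 5 => rfl
  | 6 => rfl
  | _ + 7 => rfl

theorem fgen_mul_self (a : Q8.Gen) : fgen a * fgen a = 1 := gp_mul_self _

/-- the relators of the Coxeter graph -/
theorem cox_rel : ∀ a b : Q8.Gen, (fgen a * fgen b) ^ coxLabel Q8.edges a b = 1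
  | .b, .b => by
    rw [show coxLabel Q8.edges Q8.Gen.b Q8.Gen.b = 1 from by decide, pow_one]
    exact fgen_mul_self _
  | .b, .c => by
    rw [show coxLabel Q8.edges Q8.Gen.b Q8.Gen.c = 3 from by decide]
    exact pow_three_of (x := 0) (y := 1) chk_cox_0_1
  | .b, .d => by
    rw [show coxLabel Q8.edges Q8.Gen.b Q8.Gen.d = 2 from by decide]
    exact pow_two_of (x := 0) (y := 2) chk_cox_0_2
  | .b, .e => by
    rw [show coxLabel Q8.edges Q8.Gen.b Q8.Gen.e = 2 from by decide]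
    exact pow_two_of (x := 0) (y := 3) chk_cox_0_3
  | .b, .f => by
    rw [show coxLabel Q8.edges Q8.Gen.b Q8.Gen.f = 2 from by decide]
    exact pow_two_of (x := 0) (y := 4) chk_cox_0_4
  | .b, .g => by
    rw [show coxLabel Q8.edges Q8.Gen.b Q8.Gen.g = 2 from by decide]
    exact pow_two_of (x := 0) (y := 5) chk_cox_0_5
  | .b, .h => by
    rw [show coxLabel Q8.edges Q8.Gen.b Q8.Gen.h = 2 from by decide]
    exact pow_two_of (x := 0) (y := 6) chk_cox_0_6
  | .b, .i => by
    rw [show coxLabel Q8.edges Q8.Gen.b Q8.Gen.i = 2 from by decide]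
    exact pow_two_of (x := 0) (y := 7) chk_cox_0_7
  | .c, .b => by
    rw [show coxLabel Q8.edges Q8.Gen.c Q8.Gen.b = 3 from by decide]
    exact pow_swap 0 1 3 (pow_three_of (x := 0) (y := 1) chk_cox_0_1)
  | .c, .c => by
    rw [show coxLabel Q8.edges Q8.Gen.c Q8.Gen.c = 1 from by decide, pow_one]
    exact fgen_mul_self _
  | .c, .d => by
    rw [show coxLabel Q8.edges Q8.Gen.c Q8.Gen.d = 3 from by decide]
    exact pow_three_of (x := 1) (y := 2) chk_cox_1_2
  | .c, .e => by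
    rw [show coxLabel Q8.edges Q8.Gen.c Q8.Gen.e = 2 from by decide]
    exact pow_two_of (x := 1) (y := 3) chk_cox_1_3
  | .c, .f => by
    rw [show coxLabel Q8.edges Q8.Gen.c Q8.Gen.f = 2 from by decide]
    exact pow_two_of (x := 1) (y := 4) chk_cox_1_4
  | .c, .g => by
    rw [show coxLabel Q8.edges Q8.Gen.c Q8.Gen.g = 2 from by decide]
    exact pow_two_of (x := 1) (y := 5) chk_cox_1_5
  | .c, .h => by
    rw [show coxLabel Q8.edges Q8.Gen.c Q8.Gen.h = 2 from by decide]
    exact pow_two_of (x := 1) (y := 6) chk_cox_1_6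
  | .c, .i => by
    rw [show coxLabel Q8.edges Q8.Gen.c Q8.Gen.i = 2 from by decide]
    exact pow_two_of (x := 1) (y := 7) chk_cox_1_7
  | .d, .b => by
    rw [show coxLabel Q8.edges Q8.Gen.d Q8.Gen.b = 2 from by decide]
    exact pow_swap 0 2 2 (pow_two_of (x := 0) (y := 2) chk_cox_0_2)
  | .d, .c => by
    rw [show coxLabel Q8.edges Q8.Gen.d Q8.Gen.c = 3 from by decide]
    exact pow_swap 1 2 3 (pow_three_of (x := 1) (y := 2) chk_cox_1_2)
  | .d, .d => by
    rw [show coxLabel Q8.edges Q8.Gen.d Q8.Gen.d = 1 from by decide, pow_one]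
    exact fgen_mul_self _
  | .d, .e => by
    rw [show coxLabel Q8.edges Q8.Gen.d Q8.Gen.e = 3 from by decide]
    exact pow_three_of (x := 2) (y := 3) chk_cox_2_3
  | .d, .f => by
    rw [show coxLabel Q8.edges Q8.Gen.d Q8.Gen.f = 2 from by decide]
    exact pow_two_of (x := 2) (y := 4) chk_cox_2_4
  | .d, .g => by
    rw [show coxLabel Q8.edges Q8.Gen.d Q8.Gen.g = 2 from by decide]
    exact pow_two_of (x := 2) (y := 5) chk_cox_2_5
  | .d, .h => by
    rw [show coxLabel Q8.edges Q8.Gen.d Q8.Gen.h = 3 from by decide]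
    exact pow_three_of (x := 2) (y := 6) chk_cox_2_6
  | .d, .i => by
    rw [show coxLabel Q8.edges Q8.Gen.d Q8.Gen.i = 2 from by decide]
    exact pow_two_of (x := 2) (y := 7) chk_cox_2_7
  | .e, .b => by
    rw [show coxLabel Q8.edges Q8.Gen.e Q8.Gen.b = 2 from by decide]
    exact pow_swap 0 3 2 (pow_two_of (x := 0) (y := 3) chk_cox_0_3)
  | .e, .c => by
    rw [show coxLabel Q8.edges Q8.Gen.e Q8.Gen.c = 2 from by decide]
    exact pow_swap 1 3 2 (pow_two_of (x := 1) (y := 3) chk_cox_1_3)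
  | .e, .d => by
    rw [show coxLabel Q8.edges Q8.Gen.e Q8.Gen.d = 3 from by decide]
    exact pow_swap 2 3 3 (pow_three_of (x := 2) (y := 3) chk_cox_2_3)
  | .e, .e => by
    rw [show coxLabel Q8.edges Q8.Gen.e Q8.Gen.e = 1 from by decide, pow_one]
    exact fgen_mul_self _
  | .e, .f => by
    rw [show coxLabel Q8.edges Q8.Gen.e Q8.Gen.f = 3 from by decide]
    exact pow_three_of (x := 3) (y := 4) chk_cox_3_4
  | .e, .g => by
    rw [show coxLabel Q8.edges Q8.Gen.e Q8.Gen.g = 2 from by decide]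
    exact pow_two_of (x := 3) (y := 5) chk_cox_3_5
  | .e, .h => by
    rw [show coxLabel Q8.edges Q8.Gen.e Q8.Gen.h = 2 from by decide]
    exact pow_two_of (x := 3) (y := 6) chk_cox_3_6
  | .e, .i => by
    rw [show coxLabel Q8.edges Q8.Gen.e Q8.Gen.i = 2 from by decide]
    exact pow_two_of (x := 3) (y := 7) chk_cox_3_7
  | .f, .b => by
    rw [show coxLabel Q8.edges Q8.Gen.f Q8.Gen.b = 2 from by decide]
    exact pow_swap 0 4 2 (pow_two_of (x := 0) (y := 4) chk_cox_0_4)
  | .f, .c => by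
    rw [show coxLabel Q8.edges Q8.Gen.f Q8.Gen.c = 2 from by decide]
    exact pow_swap 1 4 2 (pow_two_of (x := 1) (y := 4) chk_cox_1_4)
  | .f, .d => by
    rw [show coxLabel Q8.edges Q8.Gen.f Q8.Gen.d = 2 from by decide]
    exact pow_swap 2 4 2 (pow_two_of (x := 2) (y := 4) chk_cox_2_4)
  | .f, .e => by
    rw [show coxLabel Q8.edges Q8.Gen.f Q8.Gen.e = 3 from by decide]
    exact pow_swap 3 4 3 (pow_three_of (x := 3) (y := 4) chk_cox_3_4)
  | .f, .f => by
    rw [show coxLabel Q8.edges Q8.Gen.f Q8.Gen.f = 1 from by decide, pow_one]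
    exact fgen_mul_self _
  | .f, .g => by
    rw [show coxLabel Q8.edges Q8.Gen.f Q8.Gen.g = 3 from by decide]
    exact pow_three_of (x := 4) (y := 5) chk_cox_4_5
  | .f, .h => by
    rw [show coxLabel Q8.edges Q8.Gen.f Q8.Gen.h = 2 from by decide]
    exact pow_two_of (x := 4) (y := 6) chk_cox_4_6
  | .f, .i => by
    rw [show coxLabel Q8.edges Q8.Gen.f Q8.Gen.i = 2 from by decide]
    exact pow_two_of (x := 4) (y := 7) chk_cox_4_7
  | .g, .b => by
    rw [show coxLabel Q8.edges Q8.Gen.g Q8.Gen.b = 2 from by decide]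
    exact pow_swap 0 5 2 (pow_two_of (x := 0) (y := 5) chk_cox_0_5)
  | .g, .c => by
    rw [show coxLabel Q8.edges Q8.Gen.g Q8.Gen.c = 2 from by decide]
    exact pow_swap 1 5 2 (pow_two_of (x := 1) (y := 5) chk_cox_1_5)
  | .g, .d => by
    rw [show coxLabel Q8.edges Q8.Gen.g Q8.Gen.d = 2 from by decide]
    exact pow_swap 2 5 2 (pow_two_of (x := 2) (y := 5) chk_cox_2_5)
  | .g, .e => by
    rw [show coxLabel Q8.edges Q8.Gen.g Q8.Gen.e = 2 from by decide]
    exact pow_swap 3 5 2 (pow_two_of (x := 3) (y := 5) chk_cox_3_5)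
  | .g, .f => by
    rw [show coxLabel Q8.edges Q8.Gen.g Q8.Gen.f = 3 from by decide]
    exact pow_swap 4 5 3 (pow_three_of (x := 4) (y := 5) chk_cox_4_5)
  | .g, .g => by
    rw [show coxLabel Q8.edges Q8.Gen.g Q8.Gen.g = 1 from by decide, pow_one]
    exact fgen_mul_self _
  | .g, .h => by
    rw [show coxLabel Q8.edges Q8.Gen.g Q8.Gen.h = 2 from by decide]
    exact pow_two_of (x := 5) (y := 6) chk_cox_5_6
  | .g, .i => by
    rw [show coxLabel Q8.edges Q8.Gen.g Q8.Gen.i = 2 from by decide]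
    exact pow_two_of (x := 5) (y := 7) chk_cox_5_7
  | .h, .b => by
    rw [show coxLabel Q8.edges Q8.Gen.h Q8.Gen.b = 2 from by decide]
    exact pow_swap 0 6 2 (pow_two_of (x := 0) (y := 6) chk_cox_0_6)
  | .h, .c => by
    rw [show coxLabel Q8.edges Q8.Gen.h Q8.Gen.c = 2 from by decide]
    exact pow_swap 1 6 2 (pow_two_of (x := 1) (y := 6) chk_cox_1_6)
  | .h, .d => by
    rw [show coxLabel Q8.edges Q8.Gen.h Q8.Gen.d = 3 from by decide]
    exact pow_swap 2 6 3 (pow_three_of (x := 2) (y := 6) chk_cox_2_6)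
  | .h, .e => by
    rw [show coxLabel Q8.edges Q8.Gen.h Q8.Gen.e = 2 from by decide]
    exact pow_swap 3 6 2 (pow_two_of (x := 3) (y := 6) chk_cox_3_6)
  | .h, .f => by
    rw [show coxLabel Q8.edges Q8.Gen.h Q8.Gen.f = 2 from by decide]
    exact pow_swap 4 6 2 (pow_two_of (x := 4) (y := 6) chk_cox_4_6)
  | .h, .g => by
    rw [show coxLabel Q8.edges Q8.Gen.h Q8.Gen.g = 2 from by decide]
    exact pow_swap 5 6 2 (pow_two_of (x := 5) (y := 6) chk_cox_5_6)
  | .h, .h => by
    rw [show coxLabel Q8.edges Q8.Gen.h Q8.Gen.h = 1 from by decide, pow_one]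
    exact fgen_mul_self _
  | .h, .i => by
    rw [show coxLabel Q8.edges Q8.Gen.h Q8.Gen.i = 3 from by decide]
    exact pow_three_of (x := 6) (y := 7) chk_cox_6_7
  | .i, .b => by
    rw [show coxLabel Q8.edges Q8.Gen.i Q8.Gen.b = 2 from by decide]
    exact pow_swap 0 7 2 (pow_two_of (x := 0) (y := 7) chk_cox_0_7)
  | .i, .c => by
    rw [show coxLabel Q8.edges Q8.Gen.i Q8.Gen.c = 2 from by decide]
    exact pow_swap 1 7 2 (pow_two_of (x := 1) (y := 7) chk_cox_1_7)
  | .i, .d => by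
    rw [show coxLabel Q8.edges Q8.Gen.i Q8.Gen.d = 2 from by decide]
    exact pow_swap 2 7 2 (pow_two_of (x := 2) (y := 7) chk_cox_2_7)
  | .i, .e => by
    rw [show coxLabel Q8.edges Q8.Gen.i Q8.Gen.e = 2 from by decide]
    exact pow_swap 3 7 2 (pow_two_of (x := 3) (y := 7) chk_cox_3_7)
  | .i, .f => by
    rw [show coxLabel Q8.edges Q8.Gen.i Q8.Gen.f = 2 from by decide]
    exact pow_swap 4 7 2 (pow_two_of (x := 4) (y := 7) chk_cox_4_7)
  | .i, .g => by
    rw [show coxLabel Q8.edges Q8.Gen.i Q8.Gen.g = 2 from by decide]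
    exact pow_swap 5 7 2 (pow_two_of (x := 5) (y := 7) chk_cox_5_7)
  | .i, .h => by
    rw [show coxLabel Q8.edges Q8.Gen.i Q8.Gen.h = 3 from by decide]
    exact pow_swap 6 7 3 (pow_three_of (x := 6) (y := 7) chk_cox_6_7)
  | .i, .i => by
    rw [show coxLabel Q8.edges Q8.Gen.i Q8.Gen.i = 1 from by decide, pow_one]
    exact fgen_mul_self _

/-- the first of the further relators -/
theorem extra_one : (gp 2 * gp 1 * gp 0 * gp 2 * gp 3 * gp 4 * gp 2 * gp 6 * gp 7) ^ 10 = 1 := by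
  have e1 : enc 3523 (gp 2 * gp 1 * gp 0 * gp 2 * gp 3 * gp 4 * gp 2 * gp 6 * gp 7) = cu1 :=
    enc_mul (enc_mul (enc_mul (enc_mul (enc_mul (enc_mul (enc_mul (enc_mul (enc_gp 2) (enc_gp 1) rfl) (enc_gp 0) rfl)
      (enc_gp 2) rfl) (enc_gp 3) rfl) (enc_gp 4) rfl) (enc_gp 2) rfl) (enc_gp 6) rfl) (enc_gp 7) chk_u1
  generalize gp 2 * gp 1 * gp 0 * gp 2 * gp 3 * gp 4 * gp 2 * gp 6 * gp 7 = U at e1
  have e2 : enc 3523 (U * U) = cu1_2 := enc_mul e1 e1 chk_u1_2
  have e4 : enc 3523 (U * U * (U * U)) = cu1_4 := enc_mul e2 e2 chk_u1_4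
  have e5 : enc 3523 (U * U * (U * U) * U) = cu1_5 := enc_mul e4 e1 chk_u1_5
  have e10 : enc 3523 (U * U * (U * U) * U * (U * U * (U * U) * U)) = pone 3523 := enc_mul e5 e5 chk_u1_10
  rw [pone_eq] at e10
  have := enc_injective hn e10
  rw [← this]
  simp only [pow_succ, pow_zero, one_mul, mul_assoc]

/-- the second of the further relators -/
theorem extra_two : (gp 0 * gp 1 * gp 2 * gp 3 * gp 4 * gp 5 * gp 6) ^ 9 = 1 := by
  have e1 : enc 3523 (gp 0 * gp 1 * gp 2 * gp 3 * gp 4 * gp 5 * gp 6) = cu2 :=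
    enc_mul (enc_mul (enc_mul (enc_mul (enc_mul (enc_mul (enc_gp 0) (enc_gp 1) rfl) (enc_gp 2) rfl)
      (enc_gp 3) rfl) (enc_gp 4) rfl) (enc_gp 5) rfl) (enc_gp 6) chk_u2
  generalize gp 0 * gp 1 * gp 2 * gp 3 * gp 4 * gp 5 * gp 6 = U at e1
  have e2 : enc 3523 (U * U) = cu2_2 := enc_mul e1 e1 chk_u2_2
  have e4 : enc 3523 (U * U * (U * U)) = cu2_4 := enc_mul e2 e2 chk_u2_4
  have e8 : enc 3523 (U * U * (U * U) * (U * U * (U * U))) = cu2_8 := enc_mul e4 e4 chk_u2_8
  have e9 : enc 3523 (U * U * (U * U) * (U * U * (U * U)) * U) = pone 3523 := enc_mul e8 e1 chk_u2_9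
  rw [pone_eq] at e9
  have := enc_injective hn e9
  rw [← this]
  simp only [pow_succ, pow_zero, one_mul, mul_assoc]

theorem lift_rel : ∀ r ∈ coxRelators Q8.edges ∪ {r | r ∈ Q8.extra}, FreeGroup.lift fgen r = 1 := by
  intro r hr
  rcases hr with ⟨x, _, y, _, rfl⟩ | hr
  · rw [map_pow, map_mul, FreeGroup.lift_apply_of, FreeGroup.lift_apply_of]
    exact cox_rel x y
  · simp only [Q8.extra, Set.mem_setOf_eq, List.mem_cons, List.not_mem_nil, or_false] at hr
    rcases hr with rfl | rfl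
    · simp only [Q8.b, Q8.c, Q8.d, Q8.e, Q8.f, Q8.h, Q8.i, map_pow, map_mul, FreeGroup.lift_apply_of]
      exact extra_one
    · simp only [Q8.b, Q8.c, Q8.d, Q8.e, Q8.f, Q8.g, Q8.h, map_pow, map_mul, FreeGroup.lift_apply_of]
      exact extra_two

/-- the action of the presented group on the 3523 points -/
noncomputable def ρ : Q8 →* Equiv.Perm (Fin 3523) := PresentedGroup.toGroup lift_rel

theorem ρ_of (a : Q8.Gen) : ρ (PresentedGroup.of a) = fgen a := PresentedGroup.toGroup.of _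

/-- **the codes of the images of the generators** -/
theorem ρ_gen (x : ℕ) : enc 3523 (ρ (PresentedGroup.of (Fi22Q8oTC.gen x))) = ch x := by
  rw [ρ_of, fgen_gen, enc_gp]

/-- the group of the permutations of the 3523 points -/
noncomputable def R : Subgroup (Equiv.Perm (Fin 3523)) := ρ.range

/-- the generators, in the permutation group -/
noncomputable def gR (x : ℕ) : ↥R := ⟨ρ (PresentedGroup.of (Fi22Q8oTC.gen x)), MonoidHom.mem_range.2 ⟨_, rfl⟩⟩

/-- the registers of the generators: the generator `x` is in the register `x` -/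
noncomputable def gensR : List ↥R := [gR 0, gR 1, gR 2, gR 3, gR 4, gR 5, gR 6, gR 7]

theorem regs_ok : RegsOK R gensR chs :=
  List.Forall₂.cons (ρ_gen 0) (List.Forall₂.cons (ρ_gen 1) (List.Forall₂.cons (ρ_gen 2) (List.Forall₂.cons (ρ_gen 3)
    (List.Forall₂.cons (ρ_gen 4) (List.Forall₂.cons (ρ_gen 5) (List.Forall₂.cons (ρ_gen 6)
    (List.Forall₂.cons (ρ_gen 7) List.Forall₂.nil)))))))

/-! ### the number of the fixed points -/

/-- **the number of the fixed points of a permutation of the 3523 points, from its code** -/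
theorem card_fixedPoints (g : Equiv.Perm (Fin 3523)) :
    Fintype.card (Function.fixedPoints g) = cntFixL 3523 (enc 3523 g) := card_fixedPoints_pl hn g

/-- the number of the points of the 3523 that an element of the presented group fixes -/
noncomputable def nfix (q : Q8) : ℕ := Fintype.card (Function.fixedPoints (ρ q))

theorem nfix_eq (q : Q8) {c : ℕ} (h : enc 3523 (ρ q) = c) : nfix q = cntFixL 3523 c := by
  rw [nfix, card_fixedPoints, h]

/-- **the number of the fixed points is a class function** -/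
theorem nfix_conj (q h : Q8) : nfix (q * h * q⁻¹) = nfix h := by
  rw [nfix, nfix, map_mul, map_mul, map_inv]
  exact card_fixedPoints_conj (ρ q) (ρ h)

theorem nfix_inv (h : Q8) : nfix h⁻¹ = nfix h := by
  rw [nfix, nfix, map_inv]
  exact card_fixedPoints_inv (ρ h)

/-- elements with different numbers of fixed points are not conjugate, nor is one conjugate to the inverse of the
other -/
theorem not_conj_of_nfix_ne {a b : Q8} (h : nfix a ≠ nfix b) (g : Q8) : g * a * g⁻¹ ≠ b ∧ g * a * g⁻¹ ≠ b⁻¹ := by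
  constructor
  · intro e
    exact h (by rw [← e, nfix_conj])
  · intro e
    exact h (by rw [← nfix_inv b, ← e, nfix_conj])

end Cfsg.Agent.Lib.Helper8.O73R
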