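import Cfsg.Agent.Lib.Helper8.O73RData

/-!
# The group `Ω₇(3)` on 3523 points: the kernel checks

Each check is a theorem of its own, so that the memory of the kernel stays small.
-/

set_option autoImplicit false
set_option maxRecDepth 100000

namespace Cfsg.Agent.Lib.Helper8.O73R

open Cfsg.Agent.PL
open Cfsg.Agent.PG (strict)

/-- the code of the generator `x` -/
def ch : ℕ → ℕ
  | 0 => c0
  | 1 => c1
  | 2 => c2
  | 3 => c3
  | 4 => c4
  | 5 => c5
  | 6 => c6
  | _ => c7

/-- the code of the square of the product of two permutations -/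
def sq2 (a b : ℕ) : ℕ := strict (pmul 3523 a b) fun p => pmul 3523 p p

/-- the code of the cube of the product of two permutations -/
def cu3 (a b : ℕ) : ℕ := strict (pmul 3523 a b) fun p => pmul 3523 (pmul 3523 p p) p

theorem chk_code0 : codeOK 3523 c0 c0 = true := by decide +kernel
theorem chk_code1 : codeOK 3523 c1 c1 = true := by decide +kernel
theorem chk_code2 : codeOK 3523 c2 c2 = true := by decide +kernel
theorem chk_code3 : codeOK 3523 c3 c3 = true := by decide +kernel
theorem chk_code4 : codeOK 3523 c4 c4 = true := by decide +kernel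
theorem chk_code5 : codeOK 3523 c5 c5 = true := by decide +kernel
theorem chk_code6 : codeOK 3523 c6 c6 = true := by decide +kernel
theorem chk_code7 : codeOK 3523 c7 c7 = true := by decide +kernel

theorem chk_sq0 : pmul 3523 c0 c0 = pone 3523 := by decide +kernel
theorem chk_sq1 : pmul 3523 c1 c1 = pone 3523 := by decide +kernel
theorem chk_sq2 : pmul 3523 c2 c2 = pone 3523 := by decide +kernel
theorem chk_sq3 : pmul 3523 c3 c3 = pone 3523 := by decide +kernel
theorem chk_sq4 : pmul 3523 c4 c4 = pone 3523 := by decide +kernel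
theorem chk_sq5 : pmul 3523 c5 c5 = pone 3523 := by decide +kernel
theorem chk_sq6 : pmul 3523 c6 c6 = pone 3523 := by decide +kernel
theorem chk_sq7 : pmul 3523 c7 c7 = pone 3523 := by decide +kernel

theorem chk_cox_0_1 : cu3 c0 c1 = pone 3523 := by decide +kernel
theorem chk_cox_0_2 : sq2 c0 c2 = pone 3523 := by decide +kernel
theorem chk_cox_0_3 : sq2 c0 c3 = pone 3523 := by decide +kernel
theorem chk_cox_0_4 : sq2 c0 c4 = pone 3523 := by decide +kernel
theorem chk_cox_0_5 : sq2 c0 c5 = pone 3523 := by decide +kernel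
theorem chk_cox_0_6 : sq2 c0 c6 = pone 3523 := by decide +kernel
theorem chk_cox_0_7 : sq2 c0 c7 = pone 3523 := by decide +kernel
theorem chk_cox_1_2 : cu3 c1 c2 = pone 3523 := by decide +kernel
theorem chk_cox_1_3 : sq2 c1 c3 = pone 3523 := by decide +kernel
theorem chk_cox_1_4 : sq2 c1 c4 = pone 3523 := by decide +kernel
theorem chk_cox_1_5 : sq2 c1 c5 = pone 3523 := by decide +kernel
theorem chk_cox_1_6 : sq2 c1 c6 = pone 3523 := by decide +kernel
theorem chk_cox_1_7 : sq2 c1 c7 = pone 3523 := by decide +kernel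
theorem chk_cox_2_3 : cu3 c2 c3 = pone 3523 := by decide +kernel
theorem chk_cox_2_4 : sq2 c2 c4 = pone 3523 := by decide +kernel
theorem chk_cox_2_5 : sq2 c2 c5 = pone 3523 := by decide +kernel
theorem chk_cox_2_6 : cu3 c2 c6 = pone 3523 := by decide +kernel
theorem chk_cox_2_7 : sq2 c2 c7 = pone 3523 := by decide +kernel
theorem chk_cox_3_4 : cu3 c3 c4 = pone 3523 := by decide +kernel
theorem chk_cox_3_5 : sq2 c3 c5 = pone 3523 := by decide +kernel
theorem chk_cox_3_6 : sq2 c3 c6 = pone 3523 := by decide +kernel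
theorem chk_cox_3_7 : sq2 c3 c7 = pone 3523 := by decide +kernel
theorem chk_cox_4_5 : cu3 c4 c5 = pone 3523 := by decide +kernel
theorem chk_cox_4_6 : sq2 c4 c6 = pone 3523 := by decide +kernel
theorem chk_cox_4_7 : sq2 c4 c7 = pone 3523 := by decide +kernel
theorem chk_cox_5_6 : sq2 c5 c6 = pone 3523 := by decide +kernel
theorem chk_cox_5_7 : sq2 c5 c7 = pone 3523 := by decide +kernel
theorem chk_cox_6_7 : cu3 c6 c7 = pone 3523 := by decide +kernel

theorem chk_u1 : pmul 3523 (pmul 3523 (pmul 3523 (pmul 3523 (pmul 3523 (pmul 3523 (pmul 3523 (pmul 3523 c2 c1) c0) c2) c3) c4) c2) c6) c7 = cu1 := by decide +kernel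
theorem chk_u1_2 : pmul 3523 cu1 cu1 = cu1_2 := by decide +kernel
theorem chk_u1_4 : pmul 3523 cu1_2 cu1_2 = cu1_4 := by decide +kernel
theorem chk_u1_5 : pmul 3523 cu1_4 cu1 = cu1_5 := by decide +kernel
theorem chk_u1_10 : pmul 3523 cu1_5 cu1_5 = pone 3523 := by decide +kernel
theorem chk_u2 : pmul 3523 (pmul 3523 (pmul 3523 (pmul 3523 (pmul 3523 (pmul 3523 c0 c1) c2) c3) c4) c5) c6 = cu2 := by decide +kernel
theorem chk_u2_2 : pmul 3523 cu2 cu2 = cu2_2 := by decide +kernel
theorem chk_u2_4 : pmul 3523 cu2_2 cu2_2 = cu2_4 := by decide +kernel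
theorem chk_u2_8 : pmul 3523 cu2_4 cu2_4 = cu2_8 := by decide +kernel
theorem chk_u2_9 : pmul 3523 cu2_8 cu2 = pone 3523 := by decide +kernel

end Cfsg.Agent.Lib.Helper8.O73R
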