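import Cfsg.Agent.Lib.Helper8.O73R
import Cfsg.Agent.Lib.Lead.PL.Acts

/-!
# The group `Ω₇(3)` on 3523 points: the numbers of the fixed points of three words

The images of the points under a word in the generators are computed letter by letter; the points are counted in eight
ranges, each in a theorem of its own, so that the memory of the kernel stays small.
-/

set_option autoImplicit false
set_option maxRecDepth 100000

namespace Cfsg.Agent.Lib.Helper8.O73R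

open Cfsg.Agent.PL Cfsg.Spor Cfsg.Agent.Lib.Helper6 Cfsg.Agent.Lib.Helper6.Fi22Sub
open Cfsg.Agent.Lib.Helper8.FixCnt

/-- the element of the presented group of a word in the generators -/
noncomputable def wordQ (w : List ℕ) : Q8 := (w.map fun x => (PresentedGroup.of (Fi22Q8oTC.gen x) : Q8)).prod

/-- the image of a point under a word in the generators -/
def evW : List ℕ → ℕ → ℕ
  | [], p => p
  | x :: w, p => lk (ch x) (evW w p)

theorem evW_nil (p : ℕ) : evW [] p = p := by rw [evW]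

theorem evW_cons (x : ℕ) (w : List ℕ) (p : ℕ) : evW (x :: w) p = lk (ch x) (evW w p) := by rw [evW]

theorem acts_wordQ (w : List ℕ) : Acts (ρ (wordQ w)) (evW w) := by
  induction w with
  | nil =>
    intro q hq
    rw [wordQ, List.map_nil, List.prod_nil, map_one, evW_nil]
    rfl
  | cons x w ih =>
    have e : ρ (wordQ (x :: w)) = ρ (PresentedGroup.of (Fi22Q8oTC.gen x)) * ρ (wordQ w) := by
      rw [wordQ, List.map_cons, List.prod_cons, map_mul]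
      rfl
    rw [e]
    intro q hq
    rw [evW_cons]
    exact (Acts.of_enc hn (ρ_gen x)).mul ih q hq

/-- the number of `p < k` with `f (a + p)` -/
def cntFrom (f : ℕ → Bool) (a k : ℕ) : ℕ := cnt (fun p => f (Nat.add a p)) k

theorem cnt_add (f : ℕ → Bool) (a k : ℕ) : cnt f (a + k) = cnt f a + cntFrom f a k := by
  unfold cntFrom
  induction k with
  | zero => rfl
  | succ k ih =>
    rw [← Nat.add_assoc, cnt_succ, ih, cnt_succ]
    change cond (f (a + k)) _ _ = _ + cond (f (a + k)) _ _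
    cases f (a + k) with
    | false => rfl
    | true => exact (Nat.add_succ _ _).symm

/-- the count over the 3523 points from the counts over eight ranges -/
theorem cnt_total (f : ℕ → Bool) {n1 n2 n3 n4 n5 n6 n7 n8 : ℕ} (h1 : cntFrom f 0 440 = n1)
    (h2 : cntFrom f 440 440 = n2) (h3 : cntFrom f 880 440 = n3) (h4 : cntFrom f 1320 440 = n4)
    (h5 : cntFrom f 1760 440 = n5) (h6 : cntFrom f 2200 440 = n6) (h7 : cntFrom f 2640 440 = n7)
    (h8 : cntFrom f 3080 443 = n8) : cnt f 3523 = n1 + n2 + n3 + n4 + n5 + n6 + n7 + n8 := by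
  have e1 := cnt_add f 0 440
  have e2 := cnt_add f 440 440
  have e3 := cnt_add f 880 440
  have e4 := cnt_add f 1320 440
  have e5 := cnt_add f 1760 440
  have e6 := cnt_add f 2200 440
  have e7 := cnt_add f 2640 440
  have e8 := cnt_add f 3080 443
  have e0 : cnt f 0 = 0 := rfl
  rw [h1] at e1
  rw [h2] at e2
  rw [h3] at e3
  rw [h4] at e4
  rw [h5] at e5
  rw [h6] at e6
  rw [h7] at e7
  rw [h8] at e8
  norm_num at e1 e2 e3 e4 e5 e6 e7 e8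
  omega

/-- the number of the fixed points of the element of a word -/
theorem nfix_wordQ (w : List ℕ) : nfix (wordQ w) = cnt (fun p => Nat.beq (evW w p) p) 3523 := by
  rw [nfix]
  exact card_fixedPoints_eq_cnt (ρ (wordQ w)) (evW w) fun i => ((acts_wordQ w) i.1 i.2).symm

/-- the word `w0` -/
def w0 : List ℕ := [7, 3, 2, 6, 5, 4, 3, 2, 1, 2, 3, 4, 5, 6, 2, 3, 7, 6, 7, 6, 4, 2, 3, 1, 2, 6, 5, 4, 3, 2, 1, 0, 1, 2, 3, 4, 5, 6, 2, 1, 3, 2, 4, 6, 7, 6, 4, 3, 2, 1, 0, 1, 2, 3, 4, 2, 6, 7, 1, 2, 6, 3, 2, 1, 0, 1, 2, 3, 6, 2, 1, 7, 6, 2, 7, 6, 4, 2, 3, 1, 2, 6, 5, 4, 3, 2, 1, 0, 1, 2, 3, 4, 5, 6, 2, 1, 3, 2, 4, 6, 7, 3, 0, 1, 2, 6, 7, 4, 3, 2, 6, 5, 4, 3, 2, 1, 2, 3, 4, 5, 6, 2, 3, 4, 7, 6, 2, 1, 0, 2, 1, 2, 3, 6, 2, 6]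

/-- the word `w4` -/
def w4 : List ℕ := [6, 3, 4, 2, 3, 1, 2, 6, 5, 4, 3, 2, 1, 0, 1, 2, 3, 4, 5, 6, 2, 1, 3, 2, 4, 3, 6, 7, 6, 3, 2, 3, 6, 7, 4, 3, 2, 3, 4, 5, 2, 6, 7, 2, 3, 1, 2, 6, 4, 3, 2, 1, 0, 1, 2, 3, 4, 6, 2, 1, 3, 2, 7, 6, 2, 7, 6, 4, 3, 2, 1, 0, 1, 2, 3, 4, 6, 7, 4, 2, 3, 1, 2, 6, 5, 4, 3, 2, 1, 0, 1, 2, 3, 4, 5, 6, 2, 1, 3, 2, 4, 3, 2, 6, 7, 4, 3, 2, 6, 5, 4, 3, 2, 1, 2, 3, 4, 5, 6, 2, 3, 4, 7, 6, 2, 3]

/-- the word `w5` -/
def w5 : List ℕ := [6, 3, 4, 2, 3, 1, 2, 6, 5, 4, 3, 2, 1, 0, 1, 2, 3, 4, 5, 6, 2, 1, 3, 2, 4, 3, 6, 7, 6, 3, 2, 3, 6, 7, 4, 3, 2, 3, 4, 5, 6, 3, 4, 2, 3, 1, 2, 6, 5, 4, 3, 2, 1, 0, 1, 2, 3, 4, 5, 6, 2, 1, 3, 2, 4, 3, 6, 7, 6, 3, 2, 3, 6, 7, 4, 3, 2, 3, 4, 5, 2, 6, 7, 2, 3, 1, 2, 6, 4, 3, 2, 1, 0, 1, 2, 3, 4, 6, 2, 1, 3, 2, 7, 6, 2, 7, 6, 4, 3, 2, 1, 0, 1, 2, 3, 4, 6, 7, 4, 2, 3, 1, 2, 6, 5, 4, 3, 2, 1, 0, 1, 2, 3, 4, 5, 6, 2, 1, 3, 2, 4, 3, 2, 6, 7,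 4, 3, 2, 6, 5, 4, 3, 2, 1, 2, 3, 4, 5, 6, 2, 3, 4, 7, 6, 2, 3]

theorem chk_w0_0 : cntFrom (fun p => Nat.beq (evW w0 p) p) 0 440 = 4 := by
  decide +kernel
theorem chk_w0_1 : cntFrom (fun p => Nat.beq (evW w0 p) p) 440 440 = 0 := by
  decide +kernel
theorem chk_w0_2 : cntFrom (fun p => Nat.beq (evW w0 p) p) 880 440 = 0 := by
  decide +kernel
theorem chk_w0_3 : cntFrom (fun p => Nat.beq (evW w0 p) p) 1320 440 = 0 := by
  decide +kernel
theorem chk_w0_4 : cntFrom (fun p => Nat.beq (evW w0 p) p) 1760 440 = 0 := by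
  decide +kernel
theorem chk_w0_5 : cntFrom (fun p => Nat.beq (evW w0 p) p) 2200 440 = 0 := by
  decide +kernel
theorem chk_w0_6 : cntFrom (fun p => Nat.beq (evW w0 p) p) 2640 440 = 0 := by
  decide +kernel
theorem chk_w0_7 : cntFrom (fun p => Nat.beq (evW w0 p) p) 3080 443 = 0 := by
  decide +kernel

/-- **the element of the word `w0` fixes 4 of the 3523 points** -/
theorem nfix_w0 : nfix (wordQ w0) = 4 := by
  rw [nfix_wordQ, cnt_total _ chk_w0_0 chk_w0_1 chk_w0_2 chk_w0_3 chk_w0_4 chk_w0_5 chk_w0_6 chk_w0_7]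

theorem chk_w4_0 : cntFrom (fun p => Nat.beq (evW w4 p) p) 0 440 = 13 := by
  decide +kernel
theorem chk_w4_1 : cntFrom (fun p => Nat.beq (evW w4 p) p) 440 440 = 4 := by
  decide +kernel
theorem chk_w4_2 : cntFrom (fun p => Nat.beq (evW w4 p) p) 880 440 = 2 := by
  decide +kernel
theorem chk_w4_3 : cntFrom (fun p => Nat.beq (evW w4 p) p) 1320 440 = 4 := by
  decide +kernel
theorem chk_w4_4 : cntFrom (fun p => Nat.beq (evW w4 p) p) 1760 440 = 5 := by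
  decide +kernel
theorem chk_w4_5 : cntFrom (fun p => Nat.beq (evW w4 p) p) 2200 440 = 4 := by
  decide +kernel
theorem chk_w4_6 : cntFrom (fun p => Nat.beq (evW w4 p) p) 2640 440 = 4 := by
  decide +kernel
theorem chk_w4_7 : cntFrom (fun p => Nat.beq (evW w4 p) p) 3080 443 = 4 := by
  decide +kernel

/-- **the element of the word `w4` fixes 40 of the 3523 points** -/
theorem nfix_w4 : nfix (wordQ w4) = 40 := by
  rw [nfix_wordQ, cnt_total _ chk_w4_0 chk_w4_1 chk_w4_2 chk_w4_3 chk_w4_4 chk_w4_5 chk_w4_6 chk_w4_7]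

theorem chk_w5_0 : cntFrom (fun p => Nat.beq (evW w5 p) p) 0 440 = 13 := by
  decide +kernel
theorem chk_w5_1 : cntFrom (fun p => Nat.beq (evW w5 p) p) 440 440 = 0 := by
  decide +kernel
theorem chk_w5_2 : cntFrom (fun p => Nat.beq (evW w5 p) p) 880 440 = 0 := by
  decide +kernel
theorem chk_w5_3 : cntFrom (fun p => Nat.beq (evW w5 p) p) 1320 440 = 0 := by
  decide +kernel
theorem chk_w5_4 : cntFrom (fun p => Nat.beq (evW w5 p) p) 1760 440 = 0 := by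
  decide +kernel
theorem chk_w5_5 : cntFrom (fun p => Nat.beq (evW w5 p) p) 2200 440 = 0 := by
  decide +kernel
theorem chk_w5_6 : cntFrom (fun p => Nat.beq (evW w5 p) p) 2640 440 = 0 := by
  decide +kernel
theorem chk_w5_7 : cntFrom (fun p => Nat.beq (evW w5 p) p) 3080 443 = 0 := by
  decide +kernel

/-- **the element of the word `w5` fixes 13 of the 3523 points** -/
theorem nfix_w5 : nfix (wordQ w5) = 13 := by
  rw [nfix_wordQ, cnt_total _ chk_w5_0 chk_w5_1 chk_w5_2 chk_w5_3 chk_w5_4 chk_w5_5 chk_w5_6 chk_w5_7]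

end Cfsg.Agent.Lib.Helper8.O73R
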