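import Mathlib
import Cfsg.Agent.Lib.Helper8.SpInvH

/-! # Involution classes of `Ω` in characteristic two: generic tools (helper8) -/

set_option autoImplicit false
open Cfsg

namespace Cfsg.Agent.Lib.Helper8.OmegaInv

open Matrix Cfsg.Agent.H9.Orth Cfsg.Agent.Lib.Helper5.OrthPar Cfsg.Agent.Lib.Helper5.OrthTv
  Cfsg.Agent.Lib.Helper8.SpInv

/-- counting classes of involutions by representatives -/
theorem card_classes_of_reps {H : Type*} [Group H] {X : Type*} [Fintype X] (R : X → H)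
    (hR : ∀ x, orderOf (R x) = 2) (hinj : ∀ x y, IsConj (R x) (R y) → x = y)
    (hsurj : ∀ g : H, orderOf g = 2 → ∃ x, IsConj (R x) g) :
    Nat.card {C : ConjClasses H // ∃ g : H, ConjClasses.mk g = C ∧ orderOf g = 2} =
      Fintype.card X := by
  have hbij : Function.Bijective (fun x : X =>
      (⟨ConjClasses.mk (R x), R x, rfl, hR x⟩ :
        {C : ConjClasses H // ∃ g : H, ConjClasses.mk g = C ∧ orderOf g = 2})) := by
    constructor
    · intro x y hxy
      have h1 : ConjClasses.mk (R x) = ConjClasses.mk (R y) := congrArg Subtype.val hxy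
      rw [ConjClasses.mk_eq_mk_iff_isConj] at h1
      exact hinj x y h1
    · rintro ⟨C, g, hg, ho⟩
      obtain ⟨x, hx⟩ := hsurj g ho
      refine ⟨x, ?_⟩
      apply Subtype.ext
      show ConjClasses.mk (R x) = C
      rw [← hg, ConjClasses.mk_eq_mk_iff_isConj]
      exact hx
  rw [← Nat.card_congr (Equiv.ofBijective _ hbij), Nat.card_eq_fintype_card]

variable {ι : Type} [Fintype ι] [DecidableEq ι] {F : Type*} [Field F] {Q : (ι → F) → F}

theorem isConj_omega_iff (t s : ↥(Cfsg.Omega F Q)) :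
    IsConj t s ↔ ∃ g ∈ Cfsg.Omega F Q,
      g * (t : ↥(Cfsg.isometryGroup F Q)) * g⁻¹ = (s : ↥(Cfsg.isometryGroup F Q)) := by
  rw [isConj_iff]
  constructor
  · rintro ⟨c, hc⟩
    refine ⟨c, c.2, ?_⟩
    have := congrArg Subtype.val hc
    simpa using this
  · rintro ⟨g, hg, h⟩
    refine ⟨⟨g, hg⟩, Subtype.ext ?_⟩
    simpa using h

theorem isConj_of_omega (t s : ↥(Cfsg.Omega F Q)) (h : IsConj t s) :
    IsConj (t : ↥(Cfsg.isometryGroup F Q)) (s : ↥(Cfsg.isometryGroup F Q)) := by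
  obtain ⟨g, -, hg⟩ := (isConj_omega_iff t s).1 h
  exact isConj_iff.2 ⟨g, hg⟩

variable (hQ : Cfsg.Geo.IsNondegenerateQuadraticForm Q)

include hQ in
theorem omega_conj_of_odd_centralizer' (hgen : Cfsg.isometryGroup F Q ≤ RR hQ)
    (hΩ : ∀ t : ↥(Cfsg.isometryGroup F Q), t ∈ Cfsg.Omega F Q ↔ par (t : GL ι F))
    (t s : ↥(Cfsg.isometryGroup F Q)) (hconj : IsConj t s)
    (z : ↥(Cfsg.isometryGroup F Q)) (hz : z * t = t * z) (hzodd : ¬ par (z : GL ι F)) :
    ∃ g ∈ Cfsg.Omega F Q, g * t * g⁻¹ = s := by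
  obtain ⟨c, hc⟩ := isConj_iff.1 hconj
  by_cases hpc : par (c : GL ι F)
  · exact ⟨c, (hΩ c).2 hpc, hc⟩
  · refine ⟨c * z, ?_, ?_⟩
    · rw [hΩ]
      have := (par_mul_gen hQ hgen (c : GL ι F) (z : GL ι F) c.2 z.2).2
        ⟨fun h1 => absurd h1 hpc, fun h1 => absurd h1 hzodd⟩
      exact this
    · have hzt : z * t * z⁻¹ = t := by rw [hz]; group
      calc c * z * t * (c * z)⁻¹ = c * (z * t * z⁻¹) * c⁻¹ := by group
        _ = s := by rw [hzt, hc]

include hQ in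
/-- involutions with the same rank and type are conjugate under `Ω`, unless they are of
alternating type and maximal rank -/
theorem omega_conj_of_type [Fintype F] [CharP F 2] (hgen : Cfsg.isometryGroup F Q ≤ RR hQ)
    (hΩ : ∀ t : ↥(Cfsg.isometryGroup F Q), t ∈ Cfsg.Omega F Q ↔ par (t : GL ι F))
    (t s : ↥(Cfsg.isometryGroup F Q)) (ht : orderOf t = 2) (hs : orderOf s = 2)
    (hrank : (((t : GL ι F) : Matrix ι ι F) - 1).rank = (((s : GL ι F) : Matrix ι ι F) - 1).rank)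
    (htype : IsAltQ Q t ↔ IsAltQ Q s)
    (hcase : ¬ IsAltQ Q t ∨ 2 * (((t : GL ι F) : Matrix ι ι F) - 1).rank < Fintype.card ι) :
    ∃ g ∈ Cfsg.Omega F Q, g * t * g⁻¹ = s := by
  have hconj := conj_of_type_Q hQ t s ht hs hrank htype
  rcases hcase with hna | hlt
  · obtain ⟨z, hz1, hz2⟩ := exists_odd_centralizer_nonalt hQ t ht hna
    exact omega_conj_of_odd_centralizer' hQ hgen hΩ t s hconj z hz1 hz2
  · obtain ⟨z, hz1, hz2⟩ := exists_odd_centralizer_of_rank_lt hQ t hlt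
    exact omega_conj_of_odd_centralizer' hQ hgen hΩ t s hconj z hz1 hz2

include hQ in
/-- an involution of alternating type and maximal rank is not `Ω`-conjugate to its conjugate
under a reflection -/
theorem split_not_conj [Fintype F] [CharP F 2]
    (h : Fintype.card F ≠ 2 ∨ Fintype.card ι ≠ 4) (m : ℕ) (hm : Fintype.card ι = 2 * m)
    (t : ↥(Cfsg.isometryGroup F Q)) (htO : t ∈ Cfsg.Omega F Q)
    (hrank : (((t : GL ι F) : Matrix ι ι F) - 1).rank = m)
    (halt : ∀ v : ι → F, Q (v + act (t : GL ι F) v) = 0) (x : ι → F) (hx : Q x ≠ 0) :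
    ¬ ∃ g ∈ Cfsg.Omega F Q, g * t * g⁻¹ = R hQ x * t * (R hQ x)⁻¹ := by
  have hgen : Cfsg.isometryGroup F Q ≤ RR hQ := Cfsg.Agent.H9.Orth.iso_le_RR hQ h
  have hmev : Even m := by
    have := (mem_omega_iff_even_all hQ h t).1 htO
    rwa [hrank] at this
  rw [omega_conj_iff_of_maxTS hQ h m hm t _ htO (isConj_iff.2 ⟨R hQ x, rfl⟩) hrank halt,
    imS_conj hQ (R hQ x) t _ rfl]
  have hU : IsMaxTS Q (imS (t : GL ι F)) := by
    refine ⟨imS_ts_of_alt t halt, ?_⟩
    rw [← rank_eq, hrank, hm]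
  have h1 := family_parity hQ hgen _ m hm hU (rf hQ x) (rf_mem hQ x)
  have h2 := not_par_rf hQ x hx
  have hle : Module.finrank F ↥(imS (t : GL ι F) ⊓ mapS (rf hQ x) (imS (t : GL ι F))) ≤ m := by
    have := Submodule.finrank_mono (inf_le_left :
      imS (t : GL ι F) ⊓ mapS (rf hQ x) (imS (t : GL ι F)) ≤ imS (t : GL ι F))
    rw [← rank_eq, hrank] at this
    exact this
  intro hev
  apply h2
  apply h1.1
  rw [Nat.even_sub hle]
  exact ⟨fun _ => hev, fun _ => hmev⟩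

include hQ in
/-- every `O`-conjugate of `t` is `Ω`-conjugate to `t` or to its conjugate under a reflection -/
theorem split_cover [Fintype F] [CharP F 2]
    (h : Fintype.card F ≠ 2 ∨ Fintype.card ι ≠ 4)
    (t g : ↥(Cfsg.isometryGroup F Q)) (hconj : IsConj t g) (x : ι → F) (hx : Q x ≠ 0) :
    (∃ c ∈ Cfsg.Omega F Q, c * t * c⁻¹ = g) ∨
      ∃ c ∈ Cfsg.Omega F Q, c * (R hQ x * t * (R hQ x)⁻¹) * c⁻¹ = g := by
  have hgen : Cfsg.isometryGroup F Q ≤ RR hQ := Cfsg.Agent.H9.Orth.iso_le_RR hQ h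
  obtain ⟨c, hc⟩ := isConj_iff.1 hconj
  by_cases hpc : par (c : GL ι F)
  · exact Or.inl ⟨c, (mem_omega_iff_even_all hQ h c).2 hpc, hc⟩
  · right
    refine ⟨c * (R hQ x)⁻¹, ?_, ?_⟩
    · rw [mem_omega_iff_even_all hQ h]
      have h1 := (par_mul_gen hQ hgen (c : GL ι F) ((R hQ x)⁻¹ : ↥(Cfsg.isometryGroup F Q))
        c.2 (R hQ x)⁻¹.2).2
      apply h1
      rw [R_inv]
      exact ⟨fun h1 => absurd h1 hpc, fun h1 => absurd h1 (not_par_rf hQ x hx)⟩
    · rw [← hc]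
      group

end Cfsg.Agent.Lib.Helper8.OmegaInv
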