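import Mathlib
import Cfsg.Agent.Lib.Helper8.OmegaInv
import Cfsg.Agent.Lib.Helper8.MinusTS

/-! # `Ω` = even isometries in characteristic two, from abstract hypotheses; the case of
Witt index at most one over the field with two elements (helper8)

The proofs of `R_mul_R_mem'` and `mem_omega_iff_even'` follow helper5's
`R_mul_R_mem` and `mem_omega_iff_even_all`, with the hypothesis excluding `O₄(2)` replaced by the
two facts it is used for. -/

set_option autoImplicit false
set_option linter.unusedSectionVars false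
open Cfsg

namespace Cfsg.Agent.Lib.Helper8.OmegaGen

open Matrix Cfsg.Agent.H9.Orth Cfsg.Agent.Lib.Helper5.OrthPar Cfsg.Agent.Lib.Helper5.OrthTv
  Cfsg.Agent.Lib.Helper8.SpInv
open scoped commutatorElement

section CharTwo

variable {ι : Type} [Fintype ι] [DecidableEq ι] {F : Type*} [Field F] {Q : (ι → F) → F}
variable (hQ : Cfsg.Geo.IsNondegenerateQuadraticForm Q)
include hQ

/-- the hypothesis: a nonsingular vector not perpendicular to either of two perpendicular
independent nonsingular vectors -/
def HasNP (Q : (ι → F) → F) : Prop :=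
  ∀ x y : ι → F, Q x ≠ 0 → Q y ≠ 0 → pol Q x y = 0 → y ∉ Submodule.span F {x} →
    ∃ z, Q z ≠ 0 ∧ pol Q x z ≠ 0 ∧ pol Q y z ≠ 0

/-- in characteristic two the product of two reflections lies in `Ω` -/
theorem R_mul_R_mem' [Fintype F] [CharP F 2]
    (hnp : HasNP Q) (x y : ι → F) (hx : Q x ≠ 0) (hy : Q y ≠ 0) :
    R hQ x * R hQ y ∈ Cfsg.Omega F Q := by
  have h2 : (2 : F) = 0 := CharTwo.two_eq_zero
  -- normalised version
  have key : ∀ x y : ι → F, Q x = 1 → Q y = 1 → pol Q x y ≠ 0 →
      R hQ x * R hQ y ∈ Cfsg.Omega F Q := by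
    intro x y hx hy hxy
    apply R_mul_R_mem_of_swap hQ x y (by rw [hx, hy])
    rw [Q_sub hQ, hx, hy]
    intro h0
    apply hxy
    linear_combination h2 - h0
  have hF : ringChar F = 2 := ringChar.eq F 2
  have norm : ∀ x : ι → F, Q x ≠ 0 → ∃ a : F, a ≠ 0 ∧ Q (a • x) = 1 := by
    intro x hx
    obtain ⟨a, ha⟩ := FiniteField.isSquare_of_char_two hF (Q x)⁻¹
    have ha0 : a ≠ 0 := by
      rintro rfl
      rw [mul_zero] at ha
      exact hx (inv_eq_zero.1 ha)
    exact ⟨a, ha0, by rw [hQ.smul, pow_two, ← ha, inv_mul_cancel₀ hx]⟩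
  have hR : ∀ (a : F) (x : ι → F), a ≠ 0 → R hQ (a • x) = R hQ x := by
    intro a x ha
    apply Subtype.ext
    exact rf_smul hQ a ha x
  obtain ⟨a, ha, hax⟩ := norm x hx
  obtain ⟨b, hb, hby⟩ := norm y hy
  rw [← hR a x ha, ← hR b y hb]
  set x' := a • x
  set y' := b • y
  by_cases hxy : pol Q x' y' ≠ 0
  · exact key x' y' hax hby hxy
  push Not at hxy
  by_cases hind : y' ∈ Submodule.span F {x'}
  · obtain ⟨c, hc⟩ := Submodule.mem_span_singleton.1 hind
    have hc0 : c ≠ 0 := by
      rintro rfl
      rw [zero_smul] at hc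
      rw [← hc, Q_zero hQ] at hby
      exact zero_ne_one hby
    rw [← hc, hR c x' hc0, R_mul_self]
    exact one_mem _
  · obtain ⟨z, hz, hxz, hyz⟩ := hnp x' y'
      (by rw [hax]; exact one_ne_zero) (by rw [hby]; exact one_ne_zero) hxy hind
    obtain ⟨c, hc, hcz⟩ := norm z hz
    have h1 : R hQ x' * R hQ (c • z) ∈ Cfsg.Omega F Q := by
      apply key x' (c • z) hax hcz
      rw [pol_smul_right hQ]
      exact mul_ne_zero hc hxz
    have h3 : R hQ (c • z) * R hQ y' ∈ Cfsg.Omega F Q := by
      apply key (c • z) y' hcz hby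
      rw [pol_smul_left hQ, pol_comm]
      exact mul_ne_zero hc hyz
    have h4 : R hQ x' * R hQ y' = (R hQ x' * R hQ (c • z)) * (R hQ (c • z) * R hQ y') := by
      rw [mul_assoc, ← mul_assoc (R hQ (c • z)), R_mul_self, one_mul]
    rw [h4]
    exact mul_mem h1 h3

/-- in characteristic two, `Ω` is exactly the set of isometries with `rank (g - 1)` even -/
theorem mem_omega_iff_even' [Fintype F] [CharP F 2]
    (hgen : Cfsg.isometryGroup F Q ≤ RR hQ) (hnp : HasNP Q) (t : ↥(Cfsg.isometryGroup F Q)) :
    t ∈ Cfsg.Omega F Q ↔ par (t : GL ι F) := by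
  constructor
  · exact omega_par_gen hQ hgen t
  · intro ht
    set π := Abelianization.of (G := ↥(Cfsg.isometryGroup F Q)) with hπ
    have hker : ∀ g : ↥(Cfsg.isometryGroup F Q), π g = 1 ↔ g ∈ Cfsg.Omega F Q := by
      intro g
      rw [← MonoidHom.mem_ker, hπ, Abelianization.ker_of]
    by_cases hex : ∃ x0, Q x0 ≠ 0
    · obtain ⟨x0, hx0⟩ := hex
      have hρ : π (R hQ x0) * π (R hQ x0) = 1 := by rw [← map_mul, R_mul_self, map_one]
      have key : ∀ g : ↥(Cfsg.isometryGroup F Q), π g = 1 ∨ π g = π (R hQ x0) := by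
        intro g
        have hg : g ∈ Subgroup.closure {g : ↥(Cfsg.isometryGroup F Q) |
            ∃ x, Q x ≠ 0 ∧ (g : GL ι F) = rf hQ x} := by
          rw [closure_rf_eq_top_gen hQ hgen]; exact Subgroup.mem_top g
        induction hg using Subgroup.closure_induction with
        | mem g hgm =>
          right
          obtain ⟨x, hx, hgx⟩ := hgm
          have hg' : g = R hQ x := Subtype.ext hgx
          have h1 := (hker _).2 (R_mul_R_mem' hQ hnp x0 x hx0 hx)
          rw [map_mul] at h1
          rw [hg']
          have h2 : π (R hQ x) = (π (R hQ x0))⁻¹ := eq_inv_of_mul_eq_one_right h1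
          rw [h2]
          exact inv_eq_of_mul_eq_one_left hρ
        | one => left; exact map_one _
        | mul a b _ _ iha ihb =>
          rw [map_mul]
          rcases iha with ha | ha <;> rcases ihb with hb | hb <;> rw [ha, hb]
          · left; rw [one_mul]
          · right; rw [one_mul]
          · right; rw [mul_one]
          · left; exact hρ
        | inv a _ iha =>
          rw [map_inv]
          rcases iha with ha | ha <;> rw [ha]
          · left; rw [inv_one]
          · right; exact inv_eq_of_mul_eq_one_left hρ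
      rcases key t with h1 | h1
      · exact (hker t).1 h1
      · exfalso
        have h2 : π (R hQ x0 * t) = 1 := by rw [map_mul, h1, hρ]
        have h3 := omega_par_gen hQ hgen (R hQ x0 * t) ((hker _).1 h2)
        have h4 : ((R hQ x0 * t : ↥(Cfsg.isometryGroup F Q)) : GL ι F) =
            rf hQ x0 * (t : GL ι F) := rfl
        rw [h4, par_rf_mul hQ _ t.2 x0 hx0] at h3
        exact h3 ht
    · -- no nonsingular vectors: the group is trivial
      push Not at hex
      have htop : (⊤ : Subgroup ↥(Cfsg.isometryGroup F Q)) = ⊥ := by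
        rw [← closure_rf_eq_top_gen hQ hgen, Subgroup.closure_eq_bot_iff]
        rintro g ⟨x, hx, -⟩
        exact absurd (hex x) hx
      have : t ∈ (⊥ : Subgroup ↥(Cfsg.isometryGroup F Q)) := by
        rw [← htop]; exact Subgroup.mem_top t
      rw [Subgroup.mem_bot] at this
      rw [this]
      exact one_mem _

/-- two independent perpendicular singular vectors span a totally singular plane -/
theorem finrank_ts_pair (u v : ι → F) (hu : Q u = 0) (hv : Q v = 0) (huv : pol Q u v = 0)
    (hu0 : u ≠ 0) (hind : v ∉ Submodule.span F {u}) :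
    ∃ U : Submodule F (ι → F), Cfsg.Geo.IsTotallySingularQuad Q U ∧ Module.finrank F U = 2 := by
  refine ⟨Submodule.span F {u, v}, ?_, ?_⟩
  · intro w hw
    obtain ⟨a, b, rfl⟩ := Submodule.mem_span_pair.1 hw
    rw [Q_add Q, hQ.smul, hQ.smul, hu, hv, pol_smul_left hQ, pol_smul_right hQ, huv]
    ring
  · have hli : LinearIndependent F ![u, v] := by
      rw [LinearIndependent.pair_iff]
      intro s t hst
      by_cases ht : t = 0
      · subst ht
        rw [zero_smul, add_zero] at hst
        rcases smul_eq_zero.1 hst with h' | h'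
        · exact ⟨h', rfl⟩
        · exact absurd h' hu0
      · exfalso
        apply hind
        rw [Submodule.mem_span_singleton]
        refine ⟨-(t⁻¹ * s), ?_⟩
        have : t • v = -(s • u) := eq_neg_of_add_eq_zero_right hst
        have h5 : v = t⁻¹ • (t • v) := by rw [smul_smul, inv_mul_cancel₀ ht, one_smul]
        rw [h5, this]
        module
    have h6 : Set.range ![u, v] = {u, v} := by
      ext w; simp [eq_comm, or_comm]
    have := finrank_span_eq_card hli
    rw [h6] at this
    simpa using this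

/-- for Witt index at most one every Siegel transformation is a product of reflections -/
theorem sg_mem_RR_w1 [Fintype F]
    (hW : ∀ U : Submodule F (ι → F), Cfsg.Geo.IsTotallySingularQuad Q U →
      Module.finrank F U ≤ 1) (e w : ι → F) : sg hQ e w ∈ RR hQ := by
  classical
  by_cases h0 : Q e = 0 ∧ pol Q e w = 0
  swap
  · rw [sg_of_not hQ e w h0]; exact one_mem _
  obtain ⟨he, hew⟩ := h0
  by_cases hw : Q w ≠ 0
  · rw [sg_eq_rf_mul hQ e w he hew hw]
    exact mul_mem (rf_mem_RR hQ _) (rf_mem_RR hQ _)
  push Not at hw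
  by_cases he0 : e = 0
  · rw [he0, sg_zero_left]; exact one_mem _
  by_cases hwe : w ∈ Submodule.span F {e}
  · obtain ⟨c, rfl⟩ := Submodule.mem_span_singleton.1 hwe
    rw [sg_self]; exact one_mem _
  exfalso
  obtain ⟨U, hU1, hU2⟩ := finrank_ts_pair hQ e w he hw hew he0 hwe
  have := hW U hU1
  omega

theorem iso_le_RR_w1 [Fintype F]
    (hW : ∀ U : Submodule F (ι → F), Cfsg.Geo.IsTotallySingularQuad Q U →
      Module.finrank F U ≤ 1) : Cfsg.isometryGroup F Q ≤ RR hQ := by
  intro g hg
  refine mem_RR_of_fix hQ (sg_mem_RR_w1 hQ hW) _ ⊥ (by rw [bot_inf_eq]) rfl g hg ?_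
  intro u hu
  rw [Submodule.mem_bot] at hu
  rw [hu]
  exact act_zero g

/-- over the field with two elements and for Witt index at most one, the hypothesis `HasNP` -/
theorem hasNP_w1 [Fintype F] [CharP F 2] (hF : Fintype.card F = 2)
    (hW : ∀ U : Submodule F (ι → F), Cfsg.Geo.IsTotallySingularQuad Q U →
      Module.finrank F U ≤ 1) : HasNP Q := by
  classical
  have h2 : (2 : F) = 0 := CharTwo.two_eq_zero
  have hone : ∀ c : F, c ≠ 0 → c = 1 := by
    intro c hc
    by_contra hc1
    have hsub : ({0, 1, c} : Finset F) ⊆ Finset.univ := Finset.subset_univ _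
    have h1 := Finset.card_le_card hsub
    rw [Finset.card_univ, hF] at h1
    have h3 : ({0, 1, c} : Finset F).card = 3 := by
      rw [Finset.card_insert_of_notMem, Finset.card_insert_of_notMem, Finset.card_singleton]
      · simp only [Finset.mem_singleton]
        exact fun h => hc1 h.symm
      · simp only [Finset.mem_insert, Finset.mem_singleton]
        rintro (h | h)
        · exact zero_ne_one h
        · exact hc h.symm
    omega
  intro x y hx hy hxy hind
  have hx0 := ne_zero_of_Q_ne hQ x hx
  have hy0 := ne_zero_of_Q_ne hQ y hy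
  obtain ⟨z0, hxz, hyz⟩ := exists_not_perp2 hQ x y hx0 hy0
  by_cases hz0 : Q z0 ≠ 0
  · exact ⟨z0, hz0, hxz, hyz⟩
  push Not at hz0
  exfalso
  have hqx := hone _ hx
  have hqy := hone _ hy
  have hpx := hone _ hxz
  have hpy := hone _ hyz
  have hQu : Q (z0 + x) = 0 := by
    rw [Q_add Q, hz0, hqx, pol_comm, hpx]
    linear_combination h2
  have hQv : Q (z0 + y) = 0 := by
    rw [Q_add Q, hz0, hqy, pol_comm, hpy]
    linear_combination h2
  have huv : pol Q (z0 + x) (z0 + y) = 0 := by
    rw [pol_add_left hQ, pol_add_right hQ, pol_add_right hQ, pol_self_two hQ, hxy,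
      pol_comm z0 y, hpy, hpx]
    linear_combination h2
  have hu0 : z0 + x ≠ 0 := by
    intro h
    have : z0 = -x := eq_neg_of_add_eq_zero_left h
    rw [this, pol_neg_right hQ, pol_self_two hQ, neg_zero] at hxz
    exact hxz rfl
  have hindu : z0 + y ∉ Submodule.span F {z0 + x} := by
    intro hmem
    obtain ⟨c, hc⟩ := Submodule.mem_span_singleton.1 hmem
    by_cases hc0 : c = 0
    · rw [hc0, zero_smul] at hc
      have : z0 = -y := eq_neg_of_add_eq_zero_left hc.symm
      rw [this, pol_neg_right hQ, pol_self_two hQ, neg_zero] at hyz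
      exact hyz rfl
    · rw [hone c hc0, one_smul] at hc
      have hxy' : x = y := add_left_cancel hc
      apply hind
      rw [← hxy']
      exact Submodule.mem_span_singleton_self x
  obtain ⟨U, hU1, hU2⟩ := finrank_ts_pair hQ _ _ hQu hQv huv hu0 hindu
  have := hW U hU1
  omega

end CharTwo

end Cfsg.Agent.Lib.Helper8.OmegaGen
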