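import Mathlib
import Cfsg.Agent.Lib.Helper8.QTypeE

/-!
# Splitting off a nonsingular vector of a quadratic space, and the type of the orthogonal
hyperplane (helper8)
-/

set_option autoImplicit false
set_option linter.unusedSectionVars false

namespace Cfsg.Agent.Lib.Helper8.QType

open QuadraticMap Module Cfsg.Agent.H9.QuadFin

universe u v w

variable {F : Type v} [Field F]

section Split

variable {V : Type u} [AddCommGroup V] [Module F V]

/-- the hyperplane orthogonal to `w` -/
def perpH (Q : QuadraticForm F V) (w : V) : Submodule F V := LinearMap.ker (polarBilin Q w)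

theorem mem_perpH (Q : QuadraticForm F V) (w v : V) : v ∈ perpH Q w ↔ polar Q w v = 0 := by
  unfold perpH
  rw [LinearMap.mem_ker, polarBilin_apply_apply]

/-- the restriction of `Q` to the hyperplane -/
noncomputable def restrH (Q : QuadraticForm F V) (w : V) : QuadraticForm F ↥(perpH Q w) :=
  Q.comp (perpH Q w).subtype

theorem restrH_apply (Q : QuadraticForm F V) (w : V) (u : ↥(perpH Q w)) :
    restrH Q w u = Q (u : V) := rfl

/-- the one-dimensional form `a ↦ c a²` -/
noncomputable def oneForm (c : F) : QuadraticForm F F := c • QuadraticMap.sq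

theorem oneForm_apply (c a : F) : oneForm c a = c * (a * a) := by
  unfold oneForm
  rw [smul_apply, QuadraticMap.sq_apply, smul_eq_mul]

/-- the splitting map -/
noncomputable def splitMap (Q : QuadraticForm F V) (w : V) : (↥(perpH Q w) × F) →ₗ[F] V :=
  (perpH Q w).subtype.coprod (LinearMap.toSpanSingleton F V w)

theorem splitMap_apply (Q : QuadraticForm F V) (w : V) (x : ↥(perpH Q w) × F) :
    splitMap Q w x = (x.1 : V) + x.2 • w := by
  unfold splitMap
  rw [LinearMap.coprod_apply]
  rfl

theorem polar_self_eq (Q : QuadraticForm F V) (w : V) : polar Q w w = 2 * Q w := by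
  rw [polar_self, two_smul, two_mul]

theorem splitMap_bijective (Q : QuadraticForm F V) (w : V) (h2 : (2 : F) ≠ 0) (hw : Q w ≠ 0) :
    Function.Bijective (splitMap Q w) := by
  have hww : polar Q w w ≠ 0 := by
    rw [polar_self_eq]
    exact mul_ne_zero h2 hw
  constructor
  · rw [← LinearMap.ker_eq_bot, LinearMap.ker_eq_bot']
    rintro ⟨u, a⟩ hx
    rw [splitMap_apply] at hx
    have h1 := congrArg (fun v => polar Q w v) hx
    simp only at h1
    rw [polar_add_right, polar_smul_right, (mem_perpH Q w u).1 u.2, zero_add, smul_eq_mul] at h1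
    have h3 : polar Q w 0 = 0 := by
      have := polar_smul_right Q (0 : F) w (0 : V)
      rw [zero_smul, zero_smul] at this
      exact this
    rw [h3] at h1
    have ha : a = 0 := by
      rcases mul_eq_zero.1 h1 with h | h
      · exact h
      · exact absurd h hww
    rw [ha, zero_smul, add_zero] at hx
    apply Prod.ext
    · exact Subtype.ext hx
    · exact ha
  · intro v
    set c : F := (polar Q w w)⁻¹ * polar Q w v with hc
    have hmem : v - c • w ∈ perpH Q w := by
      rw [mem_perpH, sub_eq_add_neg, polar_add_right, polar_neg_right, polar_smul_right,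
        smul_eq_mul, hc]
      field_simp
      ring
    refine ⟨(⟨v - c • w, hmem⟩, c), ?_⟩
    rw [splitMap_apply]
    simp

/-- `Q` is the orthogonal sum of its restriction to `w^⊥` and `⟨Q w⟩` -/
noncomputable def splitIso (Q : QuadraticForm F V) (w : V) (h2 : (2 : F) ≠ 0) (hw : Q w ≠ 0) :
    ((restrH Q w).prod (oneForm (Q w))).IsometryEquiv Q where
  toLinearEquiv := LinearEquiv.ofBijective (splitMap Q w) (splitMap_bijective Q w h2 hw)
  map_app' := by
    rintro ⟨u, a⟩
    change Q (splitMap Q w (u, a)) = _
    rw [splitMap_apply, QuadraticMap.prod_apply, restrH_apply, oneForm_apply]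
    simp only
    rw [QuadraticMap.map_add Q, QuadraticMap.map_smul, polar_smul_right, polar_comm,
      (mem_perpH Q w u).1 u.2, smul_zero, add_zero, smul_eq_mul]
    ring

theorem splitIso_apply (Q : QuadraticForm F V) (w : V) (h2 : (2 : F) ≠ 0) (hw : Q w ≠ 0)
    (x : ↥(perpH Q w) × F) : splitIso Q w h2 hw x = (x.1 : V) + x.2 • w :=
  splitMap_apply Q w x

variable [FiniteDimensional F V]

theorem finrank_perpH (Q : QuadraticForm F V) (w : V) (h2 : (2 : F) ≠ 0) (hw : Q w ≠ 0) :
    finrank F ↥(perpH Q w) + 1 = finrank F V := by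
  have := LinearEquiv.finrank_eq (splitIso Q w h2 hw).toLinearEquiv
  rw [Module.finrank_prod, Module.finrank_self] at this
  exact this

theorem nondeg_restrH (Q : QuadraticForm F V) (hQ : (polarBilin Q).Nondegenerate) (w : V)
    (h2 : (2 : F) ≠ 0) (hw : Q w ≠ 0) : (polarBilin (restrH Q w)).Nondegenerate := by
  rw [nondeg_iff] at hQ ⊢
  intro u hu
  apply Subtype.ext
  apply hQ
  intro v
  obtain ⟨⟨u', a⟩, rfl⟩ := (splitMap_bijective Q w h2 hw).2 v
  rw [splitMap_apply]
  simp only
  have h1 := hu u'
  unfold restrH at h1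
  rw [polar_comp_lin] at h1
  rw [polar_add_right, polar_smul_right, polar_comm Q (u : V) w, (mem_perpH Q w u).1 u.2,
    smul_zero, add_zero]
  exact h1

end Split

section Count

variable [Fintype F] {V : Type u} [AddCommGroup V] [Module F V] [FiniteDimensional F V]
  {V₂ : Type w} [AddCommGroup V₂] [Module F V₂] [FiniteDimensional F V₂]

theorem nc_prod' (Q₁ : QuadraticForm F V) (Q₂ : QuadraticForm F V₂) (c : F) :
    nc (Q₁.prod Q₂) c = ∑ᶠ x : V₂, nc Q₁ (c - Q₂ x) := by
  have : Finite V := finite_of_fd F V
  have : Finite V₂ := finite_of_fd F V₂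
  have : Fintype V₂ := Fintype.ofFinite V₂
  rw [finsum_eq_sum_of_fintype]
  unfold nc
  let e : {v : V × V₂ // Q₁.prod Q₂ v = c} ≃ Σ x : V₂, {v : V // Q₁ v = c - Q₂ x} :=
    { toFun := fun v => ⟨v.1.2, ⟨v.1.1, by
        have := v.2
        rw [QuadraticMap.prod_apply] at this
        exact eq_sub_of_add_eq this⟩⟩
      invFun := fun x => ⟨(x.2.1, x.1), by
        rw [QuadraticMap.prod_apply, x.2.2]; ring⟩
      left_inv := fun v => rfl
      right_inv := fun x => rfl }
  rw [Nat.card_congr e, Nat.card_sigma]

/-- the number of vectors of norm `Q w` in terms of the type of the hyperplane `w^⊥` -/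
theorem nc_of_hyperplane (Q : QuadraticForm F V) (w : V) (h2 : (2 : F) ≠ 0) (hw : Q w ≠ 0)
    {l : ℕ} {ε : ℤ} (h : HasType (restrH Q w) l ε) :
    (nc Q (Q w) : ℤ) = (Fintype.card F : ℤ) ^ (2 * l + 2) + ε * (Fintype.card F : ℤ) ^ (l + 1) := by
  classical
  rw [nc_congr (splitIso Q w h2 hw) (Q w), nc_prod', finsum_eq_sum_of_fintype]
  have hne : (1 : F) ≠ -1 := by
    intro h1
    apply h2
    have : (1 : F) + 1 = 0 := by
      nth_rewrite 2 [h1]
      ring
    rw [← this]
    ring
  have hterm : ∀ a : F, nc (restrH Q w) (Q w - oneForm (Q w) a) =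
      if a = 1 ∨ a = -1 then nc (restrH Q w) 0 else nc (restrH Q w) 1 := by
    intro a
    rw [oneForm_apply]
    split_ifs with ha
    · have : Q w - Q w * (a * a) = 0 := by
        rcases ha with rfl | rfl <;> ring
      rw [this]
    · apply nc_eq_nc_one _ h.2.1 l h.1
      have : Q w - Q w * (a * a) = Q w * ((1 - a) * (1 + a)) := by ring
      rw [this]
      apply mul_ne_zero hw
      apply mul_ne_zero
      · intro h0
        apply ha
        left
        linear_combination -h0
      · intro h0
        apply ha
        right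
        linear_combination h0
  rw [Finset.sum_congr rfl (fun a _ => hterm a), Finset.sum_ite, Finset.sum_const,
    Finset.sum_const]
  have hfilt : (Finset.univ.filter (fun a : F => a = 1 ∨ a = -1)) = {1, -1} := by
    ext a
    simp
  have hc1 : (Finset.univ.filter (fun a : F => a = 1 ∨ a = -1)).card = 2 := by
    rw [hfilt, Finset.card_pair hne]
  have hc2 : (Finset.univ.filter (fun a : F => ¬ (a = 1 ∨ a = -1))).card =
      Fintype.card F - 2 := by
    rw [Finset.filter_not, Finset.card_sdiff_of_subset (Finset.filter_subset _ _), hc1,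
      Finset.card_univ]
  have hq2 : 2 ≤ Fintype.card F := by
    rw [← hc1]
    exact Finset.card_le_univ _
  rw [hc1, hc2, smul_eq_mul, smul_eq_mul]
  push_cast [Nat.cast_sub hq2]
  rw [h.2.2.2, h.nc_one]
  ring

end Count

end Cfsg.Agent.Lib.Helper8.QType
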