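import Mathlib
import Cfsg.Agent.Lib.Helper8.QTypeF
import Cfsg.Agent.S0286
import Cfsg.Agent.S0291

/-!
# The odd-dimensional standard quadratic form: hyperplanes of both types (helper8)
-/

set_option autoImplicit false
set_option linter.unusedSectionVars false

namespace Cfsg.Agent.Lib.Helper8.QType

open QuadraticMap Module Cfsg.Agent.H9.QuadFin Cfsg.Agent.S0286

universe v

variable {F : Type v} [Field F] [Fintype F]

/-- the number of vectors of norm `c` of the odd-dimensional standard form -/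
theorem nc_QO (m : ℕ) (c : F) :
    nc (QO (F := F) m) c = Fintype.card F * (Fintype.card F ^ m - 1) * Fintype.card F ^ (m - 1) +
      Nat.card {z : F // c - z ^ 2 = 0} * Fintype.card F ^ m := by
  classical
  unfold nc
  have e : {v : Unit ⊕ (Fin m ⊕ Fin m) → F // QO (F := F) m v = c} ≃
      {p : (Fin m → F) × (Fin m → F) × F // p.1 ⬝ᵥ p.2.1 = (fun z : F => c - z ^ 2) p.2.2} :=
    { toFun := fun v => ⟨(fun i => v.1 (Sum.inr (Sum.inl i)), fun i => v.1 (Sum.inr (Sum.inr i)),
          v.1 (Sum.inl ())), by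
        have := v.2
        rw [QO_apply] at this
        unfold Cfsg.quadFormOdd at this
        change (∑ i, v.1 (Sum.inr (Sum.inl i)) * v.1 (Sum.inr (Sum.inr i))) =
          c - (v.1 (Sum.inl ())) ^ 2
        linear_combination this⟩
      invFun := fun p => ⟨Sum.elim (fun _ => p.1.2.2) (Sum.elim p.1.1 p.1.2.1), by
        have := p.2
        rw [QO_apply]
        unfold Cfsg.quadFormOdd
        change p.1.2.2 ^ 2 + ∑ i, p.1.1 i * p.1.2.1 i = c
        change (∑ i, p.1.1 i * p.1.2.1 i) = c - (p.1.2.2) ^ 2 at this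
        linear_combination this⟩
      left_inv := fun v => by
        apply Subtype.ext
        funext i
        rcases i with i | i | i <;> rfl
      right_inv := fun p => by rfl }
  rw [Nat.card_congr e, Cfsg.Agent.Lib.Helper5.Count.card_triples m (fun z : F => c - z ^ 2)]

theorem nc_QO_int (l : ℕ) (c : F) :
    (nc (QO (F := F) (l + 1)) c : ℤ) = (Fintype.card F : ℤ) ^ (2 * l + 2) +
      ((Nat.card {z : F // c - z ^ 2 = 0} : ℤ) - 1) * (Fintype.card F : ℤ) ^ (l + 1) := by
  rw [nc_QO]
  have hq : 1 ≤ Fintype.card F ^ (l + 1) := Nat.one_le_pow _ _ Fintype.card_pos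
  simp only [Nat.add_sub_cancel]
  push_cast [Nat.cast_sub hq]
  ring

theorem card_sq_eq_one (h2 : (2 : F) ≠ 0) : Nat.card {z : F // (1 : F) - z ^ 2 = 0} = 2 := by
  classical
  have hne : (1 : F) ≠ -1 := by
    intro h1
    apply h2
    have : (1 : F) + 1 = 0 := by
      nth_rewrite 2 [h1]
      ring
    rw [← this]
    ring
  rw [Nat.card_eq_fintype_card, Fintype.card_subtype]
  have hfilt : (Finset.univ.filter (fun z : F => (1 : F) - z ^ 2 = 0)) = {1, -1} := by
    ext a
    simp only [Finset.mem_filter, Finset.mem_univ, true_and, Finset.mem_insert,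
      Finset.mem_singleton]
    constructor
    · intro h
      have h3 : (a - 1) * (a + 1) = 0 := by linear_combination -h
      rcases mul_eq_zero.1 h3 with h4 | h4
      · left; linear_combination h4
      · right; linear_combination h4
    · rintro (rfl | rfl) <;> ring
  rw [hfilt, Finset.card_pair hne]

theorem card_sq_eq_nonsquare (δ : F) (hδ : ¬ IsSquare δ) :
    Nat.card {z : F // δ - z ^ 2 = 0} = 0 := by
  have : IsEmpty {z : F // δ - z ^ 2 = 0} := by
    refine ⟨fun z => hδ ⟨z.1, ?_⟩⟩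
    have := z.2
    linear_combination this
  exact Nat.card_of_isEmpty

/-- hyperplanes of both types in the odd-dimensional standard quadratic space -/
theorem exists_hyperplane (h2 : (2 : F) ≠ 0) (l : ℕ) (ε : ℤ) (hε : ε = 1 ∨ ε = -1) :
    ∃ w : Unit ⊕ (Fin (l + 1) ⊕ Fin (l + 1)) → F, QO (F := F) (l + 1) w ≠ 0 ∧
      HasType (restrH (QO (F := F) (l + 1)) w) l ε := by
  classical
  have hq1 := one_lt_card (F := F)
  -- choose the norm
  obtain ⟨c, hc0, hcN⟩ : ∃ c : F, c ≠ 0 ∧ (Nat.card {z : F // c - z ^ 2 = 0} : ℤ) - 1 = ε := by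
    rcases hε with rfl | rfl
    · refine ⟨1, one_ne_zero, ?_⟩
      rw [card_sq_eq_one h2]
      norm_num
    · have hchar : ringChar F ≠ 2 := by
        intro h
        apply h2
        have := ringChar.Nat.cast_ringChar (R := F)
        rw [h] at this
        exact_mod_cast this
      obtain ⟨δ, hδ⟩ := FiniteField.exists_nonsquare hchar
      refine ⟨δ, ?_, ?_⟩
      · rintro rfl
        exact hδ ⟨0, by ring⟩
      · rw [card_sq_eq_nonsquare δ hδ]
        norm_num
  have hnc := nc_QO_int (F := F) l c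
  rw [hcN] at hnc
  -- a vector of norm `c`
  have hpos : 0 < nc (QO (F := F) (l + 1)) c := by
    have h3 : (0 : ℤ) < (nc (QO (F := F) (l + 1)) c : ℤ) := by
      rw [hnc]
      have h4 : (Fintype.card F : ℤ) ^ (2 * l + 2) =
          (Fintype.card F : ℤ) ^ (l + 1) * (Fintype.card F : ℤ) ^ (l + 1) := by
        rw [← pow_add]; congr 1; ring
      have h5 : (1 : ℤ) < (Fintype.card F : ℤ) ^ (l + 1) :=
        one_lt_pow₀ hq1 (by omega)
      rw [h4]
      rcases hε with rfl | rfl <;> nlinarith
    exact_mod_cast h3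
  have hne : Nonempty {v : Unit ⊕ (Fin (l + 1) ⊕ Fin (l + 1)) → F // QO (F := F) (l + 1) v = c} := by
    by_contra hcon
    rw [not_nonempty_iff] at hcon
    unfold nc at hpos
    rw [Nat.card_of_isEmpty] at hpos
    exact lt_irrefl _ hpos
  obtain ⟨⟨w, hw⟩⟩ := hne
  have hw0 : QO (F := F) (l + 1) w ≠ 0 := by rw [hw]; exact hc0
  refine ⟨w, hw0, ?_⟩
  have hfr := finrank_perpH (QO (F := F) (l + 1)) w h2 hw0
  have hdim : finrank F (Unit ⊕ (Fin (l + 1) ⊕ Fin (l + 1)) → F) = 2 * l + 3 := by
    rw [Module.finrank_pi, Fintype.card_sum, Fintype.card_sum, Fintype.card_fin]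
    simp
    ring
  rw [hdim] at hfr
  have hfr' : finrank F ↥(perpH (QO (F := F) (l + 1)) w) = 2 * l + 2 := by omega
  obtain ⟨ε', hε'⟩ := exists_hasType (restrH (QO (F := F) (l + 1)) w)
    (nondeg_restrH _ (Cfsg.Agent.S0286.nondegenerate (l + 1) h2) w h2 hw0) l hfr'
  have h6 := nc_of_hyperplane (QO (F := F) (l + 1)) w h2 hw0 hε'
  rw [hw, hnc] at h6
  have h7 : (Fintype.card F : ℤ) ^ (l + 1) ≠ 0 := by
    apply pow_ne_zero
    omega
  have h8 : ε * (Fintype.card F : ℤ) ^ (l + 1) = ε' * (Fintype.card F : ℤ) ^ (l + 1) := by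
    linear_combination h6
  have h9 : ε = ε' := mul_right_cancel₀ h7 h8
  rw [h9]
  exact hε'

end Cfsg.Agent.Lib.Helper8.QType
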