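import Mathlib
import Cfsg.Agent.Lib.Helper8.OrPrimeJ
import Cfsg.Agent.Lib.Helper8.QTypeG

/-!
# The number of classes of elements of odd prime order `r ≠ p` in the odd-dimensional finite
orthogonal groups (helper8)
-/

set_option autoImplicit false
set_option linter.unusedSectionVars false

namespace Cfsg.Agent.Lib.Helper8.OrPrime

open Polynomial QuadraticMap Module Matrix Cfsg.Agent.Lib.Helper8.QType
  Cfsg.Agent.Lib.Helper8.PrimeOrd Cfsg.Agent.Lib.Helper8.SelfRec Cfsg.Agent.S0286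

universe v

variable {F : Type v} [Field F] [Fintype F] [DecidableEq F] {r : ℕ} [hr : Fact r.Prime]

theorem card_idx_QO (m : ℕ) : Fintype.card (Unit ⊕ (Fin m ⊕ Fin m)) = 2 * m + 1 := by
  rw [Fintype.card_sum, Fintype.card_sum, Fintype.card_fin]
  simp
  ring

/-- existence in the odd-dimensional orthogonal group -/
theorem ex_QO (p : ℕ) [Fact p.Prime] [CharP F p] (h2 : (2 : F) ≠ 0) (m : ℕ)
    (hrF : (r : F) ≠ 0) (hr2 : r ≠ 2) (i : ℕ) (hipos : 0 < i)
    (hdeg : ∀ j : ↥(cycFactors F r), (PP F r j).natDegree = i)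
    (e : ↥(cycFactors F r) → ℕ) (he : e ∘ sIdx (RingHom.id F) (fun _ => rfl) hrF = e)
    (hle : i * ∑ j, e j ≤ Fintype.card (Unit ⊕ (Fin m ⊕ Fin m))) (hne : e ≠ 0) :
    ∃ x : ↥(Cfsg.isometryGroup F ⇑(QO (F := F) m)), orderOf x = r ∧
      (omat x).charpoly = fe (PPo F r) (fun o =>
        Option.elim o (Fintype.card (Unit ⊕ (Fin m ⊕ Fin m)) - i * ∑ j, e j) e) := by
  have hrodd : Odd r := hr.out.odd_of_ne_two hr2
  rw [card_idx_QO] at hle ⊢
  have hnd := natDegree_fe_PP i hdeg e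
  have hpos : 0 < (fe (PP F r) e).natDegree := by
    rw [hnd]
    exact Nat.mul_pos hipos (sum_pos_of_ne_zero e hne)
  obtain ⟨k, Q', g', ε', h', hk, hg', hc'⟩ := exists_model hrF hrodd e he hpos
  rw [hnd] at hk
  obtain ⟨l, rfl⟩ : ∃ l, m = l + 1 := ⟨m - 1, by omega⟩
  have hkl : k ≤ l := by omega
  obtain ⟨w, hw0, hU⟩ := exists_hyperplane (F := F) h2 l ε' h'.2.2.1
  have key : ∃ g₁ : ↥(perpH (QO (F := F) (l + 1)) w) ≃ₗ[F] ↥(perpH (QO (F := F) (l + 1)) w),
      (∀ v, restrH (QO (F := F) (l + 1)) w (g₁ v) = restrH (QO (F := F) (l + 1)) w v) ∧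
      (g₁ : ↥(perpH (QO (F := F) (l + 1)) w) →ₗ[F] ↥(perpH (QO (F := F) (l + 1)) w)).charpoly =
        fe (PP F r) e * (X - 1) ^ (2 * (l - k)) := by
    rcases Nat.lt_or_ge k l with hlt | hge
    · obtain ⟨g₁, hg1, hg2⟩ := extend_of_lt h' hU hlt g' hg'
      exact ⟨g₁, hg1, by rw [hg2, hc']⟩
    · have hkl' : k = l := by omega
      subst hkl'
      obtain ⟨g₁, hg1, hg2⟩ := extend_of_eq h' hU g' hg'
      refine ⟨g₁, hg1, ?_⟩
      rw [hg2, hc', Nat.sub_self, mul_zero, pow_zero, mul_one]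
  obtain ⟨g₁, hg1, hg2⟩ := key
  obtain ⟨g, hg, hgc⟩ := prod_extend (splitIso (QO (F := F) (l + 1)) w h2 hw0) g₁ hg1
  have hne' : ∃ j, (fun o => Option.elim o (2 * (l + 1) + 1 - i * ∑ j, e j) e) (some j) ≠ 0 := by
    by_contra hcon
    apply hne
    funext j
    by_contra hj
    exact hcon ⟨j, hj⟩
  apply exists_orderOf_eq p hrF g hg _ _ hne'
  rw [hgc, hg2, Module.finrank_self, fe_PPo]
  simp only [Option.elim_none, Option.elim_some]
  have : 2 * (l + 1) + 1 - i * ∑ j, e j = 2 * (l - k) + 1 := by omega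
  rw [this, pow_succ]
  ring

/-- the class count for the odd-dimensional orthogonal group -/
theorem classes_card_QO (p : ℕ) [Fact p.Prime] [CharP F p] (hrp : r ≠ p) (hr2 : r ≠ 2)
    (h2 : (2 : F) ≠ 0) (m : ℕ) (hrF : (r : F) ≠ 0) (i : ℕ)
    (hipos : 0 < i) (hdeg : ∀ j : ↥(cycFactors F r), (PP F r j).natDegree = i) :
    Nat.card {C : ConjClasses ↥(Cfsg.isometryGroup F ⇑(QO (F := F) m)) //
      ∃ g : ↥(Cfsg.isometryGroup F ⇑(QO (F := F) m)), ConjClasses.mk g = C ∧ orderOf g = r} + 1 =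
    Nat.card {e : ↥(cycFactors F r) → ℕ //
      e ∘ sIdx (RingHom.id F) (fun _ => rfl) hrF = e ∧
        i * ∑ j, e j ≤ Fintype.card (Unit ⊕ (Fin m ⊕ Fin m)) ∧
        (i * ∑ j, e j = Fintype.card (Unit ⊕ (Fin m ⊕ Fin m)) → True)} := by
  apply o_classes_card p hrp hr2 (QO (F := F) m) (Cfsg.Agent.S0286.nondegenerate m h2) i hipos
    hdeg hrF (fun e => i * ∑ j, e j = Fintype.card (Unit ⊕ (Fin m ⊕ Fin m)) → True)
  · intro _
    trivial
  · intro g e' _ _ _
    trivial
  · intro e he hle hne _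
    exact ex_QO p h2 m hrF hr2 i hipos hdeg e he hle hne

/-- the class count for the odd-dimensional orthogonal group, closed form -/
theorem odd_dim_count (p : ℕ) [Fact p.Prime] [CharP F p] (hrp : r ≠ p) (hr2 : r ≠ 2)
    (h2 : (2 : F) ≠ 0) (m : ℕ) {q : ℕ}
    (hF : Fintype.card F = q) (i t : ℕ) (hi : i = orderOf (q : ZMod r)) (ht : t * i = r - 1) :
    Nat.card {C : ConjClasses ↥(Cfsg.isometryGroup F ⇑(QO (F := F) m)) //
      ∃ g : ↥(Cfsg.isometryGroup F ⇑(QO (F := F) m)), ConjClasses.mk g = C ∧ orderOf g = r} + 1 =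
    if Odd i then (m / i + t / 2).choose (t / 2) else ((2 * m + 1) / i + t).choose t := by
  classical
  have hp : p.Prime := Fact.out
  obtain ⟨f, -, hcard⟩ := FiniteField.card F p
  have hcop : p.Coprime r := (Nat.coprime_primes hp hr.out).2 (Ne.symm hrp)
  have hrF : (r : F) ≠ 0 := natCast_r_ne_zero p hrp
  have hr3 : 2 ≤ r := hr.out.two_le
  have hipos : 0 < i := by
    rcases Nat.eq_zero_or_pos i with h0 | h0
    · subst h0
      omega
    · exact h0
  have htpos : 0 < t := by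
    rcases Nat.eq_zero_or_pos t with h0 | h0
    · subst h0
      omega
    · exact h0
  have hdeg : ∀ j : ↥(cycFactors F r), (PP F r j).natDegree = i := fun j => by
    rw [natDegree_PP hcard hcop j, hi, hF]
  have hcardα : Fintype.card ↥(cycFactors F r) = t := by
    rw [card_cycFactors hcard hcop, hF, ← hi, ← ht]
    exact Nat.mul_div_cancel _ hipos
  have hαpos : 0 < Fintype.card ↥(cycFactors F r) := by rw [hcardα]; exact htpos
  have hsinv := sIdx_involutive (RingHom.id F) (fun _ => rfl) hrF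
  rw [classes_card_QO p hrp hr2 h2 m hrF i hipos hdeg]
  by_cases hodd : Odd i
  · rw [if_pos hodd]
    have hfp := sIdx_ne_of_odd hrF hr2 i hdeg hodd
    rw [count_free hsinv hfp hαpos i _ hipos (fun _ => True), hcardα, card_idx_QO]
    have hc : ¬ (2 * i ∣ 2 * m + 1 ∧ ¬ True) := fun h => h.2 trivial
    rw [if_neg hc, Nat.sub_zero]
    congr 2
    rw [← Nat.div_div_eq_div_mul]
    congr 1
    omega
  · rw [if_neg hodd]
    have heven : Even i := Nat.not_odd_iff_even.1 hodd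
    obtain ⟨d, hd2⟩ := heven
    have hd : 0 < d := by omega
    have hi2 : i = 2 * d := by omega
    have hi' : orderOf ((Fintype.card F : ℕ) : ZMod r) = 2 * d := by
      rw [hF, ← hi, hi2]
    have hfix := sIdx_eq_of_even hrF d hd hi'
    rw [count_fixed hfix hαpos i _ hipos (fun _ => True), hcardα, card_idx_QO]
    have hc : ¬ (i ∣ 2 * m + 1 ∧ ¬ True) := fun h => h.2 trivial
    rw [if_neg hc, Nat.sub_zero]

end Cfsg.Agent.Lib.Helper8.OrPrime
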