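import Mathlib
import Cfsg.Agent.Lib.Helper8.OrSSE
import Cfsg.Prelude.Def_Classical

/-!
# Odd order semisimple elements of a finite orthogonal group: conjugacy in `GL` implies conjugacy
in the orthogonal group (helper8)
-/

set_option autoImplicit false
set_option linter.unusedSectionVars false

namespace Cfsg.Agent.Lib.Helper8.OrSS

open Module Matrix QuadraticMap

variable {F : Type*} [Field F] [Fintype F] {n : ℕ}

theorem isConj_of_matrix_conj (Q : QuadraticForm F (Fin n → F))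
    (hQ : (QuadraticMap.polarBilin Q).Nondegenerate) (A B : ↥(Cfsg.isometryGroup F ⇑Q))
    (hodd : Odd (orderOf A)) (hk : ((orderOf A : ℕ) : F) ≠ 0)
    (c : (Matrix (Fin n) (Fin n) F)ˣ)
    (hc : (c : Matrix (Fin n) (Fin n) F) *
      ((A : Matrix.GeneralLinearGroup (Fin n) F) : Matrix (Fin n) (Fin n) F) =
      ((B : Matrix.GeneralLinearGroup (Fin n) F) : Matrix (Fin n) (Fin n) F) *
        (c : Matrix (Fin n) (Fin n) F)) : IsConj A B := by
  set Am : Matrix (Fin n) (Fin n) F :=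
    ((A : Matrix.GeneralLinearGroup (Fin n) F) : Matrix (Fin n) (Fin n) F) with hAm
  set Bm : Matrix (Fin n) (Fin n) F :=
    ((B : Matrix.GeneralLinearGroup (Fin n) F) : Matrix (Fin n) (Fin n) F) with hBm
  have hEA : ∀ v, Q (Matrix.toLin' Am v) = Q v := by
    intro v
    rw [Matrix.toLin'_apply]
    exact A.2 v v
  have hEB : ∀ v, Q (Matrix.toLin' Bm v) = Q v := by
    intro v
    rw [Matrix.toLin'_apply]
    exact B.2 v v
  have hAk : Matrix.toLin' Am ^ orderOf A = 1 := by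
    rw [← Matrix.toLin'_pow]
    have h1 : Am ^ orderOf A = 1 := by
      rw [hAm, ← Units.val_pow_eq_pow_val, ← Subgroup.coe_pow, pow_orderOf_eq_one]
      rfl
    rw [h1, Matrix.toLin'_one]
    rfl
  let P : (Fin n → F) ≃ₗ[F] (Fin n → F) :=
    LinearEquiv.ofLinearMap (Matrix.toLin' (c : Matrix (Fin n) (Fin n) F))
      (Matrix.toLin' ((c⁻¹ : (Matrix (Fin n) (Fin n) F)ˣ) : Matrix (Fin n) (Fin n) F))
      (by rw [← Matrix.toLin'_mul, Units.mul_inv, Matrix.toLin'_one])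
      (by rw [← Matrix.toLin'_mul, Units.inv_mul, Matrix.toLin'_one])
  have hP : ∀ v, P (Matrix.toLin' Am v) = Matrix.toLin' Bm (P v) := by
    intro v
    change Matrix.toLin' (c : Matrix (Fin n) (Fin n) F) (Matrix.toLin' Am v) =
      Matrix.toLin' Bm (Matrix.toLin' (c : Matrix (Fin n) (Fin n) F) v)
    rw [← LinearMap.comp_apply, ← LinearMap.comp_apply, ← Matrix.toLin'_mul, ← Matrix.toLin'_mul,
      hc]
  obtain ⟨ψ, hψQ, hψ⟩ := conj_abstract Q hQ (Matrix.toLin' Am) (Matrix.toLin' Bm) hEA hEB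
    (orderOf A) hodd hk hAk P hP
  have h1 : LinearMap.toMatrix' (ψ : (Fin n → F) →ₗ[F] (Fin n → F)) *
      LinearMap.toMatrix' (ψ.symm : (Fin n → F) →ₗ[F] (Fin n → F)) = 1 := by
    rw [← LinearMap.toMatrix'_comp, LinearEquiv.comp_symm, LinearMap.toMatrix'_id]
  have h2 : LinearMap.toMatrix' (ψ.symm : (Fin n → F) →ₗ[F] (Fin n → F)) *
      LinearMap.toMatrix' (ψ : (Fin n → F) →ₗ[F] (Fin n → F)) = 1 := by
    rw [← LinearMap.toMatrix'_comp, LinearEquiv.symm_comp, LinearMap.toMatrix'_id]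
  set g : Matrix.GeneralLinearGroup (Fin n) F :=
    ⟨LinearMap.toMatrix' (ψ : (Fin n → F) →ₗ[F] (Fin n → F)),
      LinearMap.toMatrix' (ψ.symm : (Fin n → F) →ₗ[F] (Fin n → F)), h1, h2⟩ with hg
  have hgv : ∀ v, (g : Matrix (Fin n) (Fin n) F) *ᵥ v = ψ v := by
    intro v
    change LinearMap.toMatrix' (ψ : (Fin n → F) →ₗ[F] (Fin n → F)) *ᵥ v = ψ v
    rw [← Matrix.toLin'_apply, Matrix.toLin'_toMatrix']
    rfl
  have hgmem : g ∈ Cfsg.isometryGroup F ⇑Q := by
    intro u v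
    change Q ((g : Matrix (Fin n) (Fin n) F) *ᵥ u) = Q u
    rw [hgv, hψQ]
  have hcomm : (g : Matrix (Fin n) (Fin n) F) * Am = Bm * (g : Matrix (Fin n) (Fin n) F) := by
    apply Matrix.toLin'.injective
    apply LinearMap.ext
    intro v
    rw [Matrix.toLin'_mul, Matrix.toLin'_mul, LinearMap.comp_apply, LinearMap.comp_apply,
      Matrix.toLin'_apply (g : Matrix (Fin n) (Fin n) F),
      Matrix.toLin'_apply (g : Matrix (Fin n) (Fin n) F), hgv, hgv, hψ]
  rw [isConj_iff]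
  refine ⟨⟨g, hgmem⟩, ?_⟩
  rw [mul_inv_eq_iff_eq_mul]
  apply Subtype.ext
  apply Units.ext
  exact hcomm

end Cfsg.Agent.Lib.Helper8.OrSS
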