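import Mathlib
import Cfsg.Agent.Lib.Helper5.SympCount
import Cfsg.Agent.Lib.Helper8.SpInvF

/-! # Quadratic forms with a given polar form in characteristic two: transvections and the
Arf criterion (helper8) -/

set_option autoImplicit false
open Cfsg

namespace Cfsg.Agent.Lib.Helper8.OrbQ

universe u v

open Cfsg.Agent.Lib.Helper5.SympCount

section Generic

/-- counting a group by the fibres of a map constant on the right cosets of a subgroup -/
theorem card_eq_card_range_mul {G : Type*} {X : Type*} [Group G] (H : Subgroup G) (Φ : G → X)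
    (hΦ : ∀ g h : G, Φ g = Φ h ↔ g * h⁻¹ ∈ H) :
    Nat.card G = Nat.card (Set.range Φ) * Nat.card H := by
  rw [Subgroup.card_eq_card_quotient_mul_card_subgroup H]
  congr 1
  apply Nat.card_congr
  have hwd : ∀ a b : G, QuotientGroup.leftRel H a b → Φ a⁻¹ = Φ b⁻¹ := by
    intro a b hab
    rw [QuotientGroup.leftRel_apply] at hab
    rw [hΦ, inv_inv]
    exact hab
  refine Equiv.ofBijective
    (Quotient.lift (fun g : G => (⟨Φ g⁻¹, g⁻¹, rfl⟩ : Set.range Φ))
      (fun a b hab => Subtype.ext (hwd a b hab))) ⟨?_, ?_⟩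
  · intro a b
    refine Quotient.inductionOn₂ a b (fun a b hab => ?_)
    apply Quotient.sound
    show QuotientGroup.leftRel H a b
    rw [QuotientGroup.leftRel_apply]
    have h1 : Φ a⁻¹ = Φ b⁻¹ := congrArg Subtype.val hab
    rw [hΦ, inv_inv] at h1
    exact h1
  · rintro ⟨_, g, rfl⟩
    exact ⟨Quotient.mk _ g⁻¹, Subtype.ext (by simp)⟩

end Generic

section AS

variable {F : Type v} [Field F] [CharP F 2]

/-- the image of the Artin--Schreier map `b ↦ b² + b` -/
def IsAS (c : F) : Prop := ∃ b : F, b ^ 2 + b = c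

theorem isAS_zero : IsAS (0 : F) := ⟨0, by ring⟩

theorem isAS_self (b : F) : IsAS (b ^ 2 + b) := ⟨b, rfl⟩

theorem IsAS.add {a b : F} (ha : IsAS a) (hb : IsAS b) : IsAS (a + b) := by
  obtain ⟨x, rfl⟩ := ha
  obtain ⟨y, rfl⟩ := hb
  exact ⟨x + y, by rw [CharTwo.add_sq]; ring⟩

/-- the Artin--Schreier map as an additive map -/
def asHom (F : Type v) [Field F] [CharP F 2] : F →+ F where
  toFun b := b ^ 2 + b
  map_zero' := by ring
  map_add' x y := by rw [CharTwo.add_sq]; ring

theorem mem_range_asHom (c : F) : c ∈ (asHom F).range ↔ IsAS c := Iff.rfl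

theorem asHom_range_index [Finite F] : (asHom F).range.index = 2 := by
  have h1 : Nat.card (asHom F).ker = 2 := by
    have : ((asHom F).ker : Set F) = {0, 1} := by
      ext b
      simp only [SetLike.mem_coe, AddMonoidHom.mem_ker, Set.mem_insert_iff, Set.mem_singleton_iff]
      show b ^ 2 + b = 0 ↔ _
      constructor
      · intro h
        have : b * (b + 1) = 0 := by rw [← h]; ring
        rcases mul_eq_zero.1 this with h0 | h0
        · exact Or.inl h0
        · right
          have h3 := CharTwo.add_self_eq_zero (1 : F)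
          linear_combination h0 - h3
      · rintro (rfl | rfl)
        · ring
        · have h3 := CharTwo.add_self_eq_zero (1 : F)
          rw [one_pow]
          exact h3
    have e : Nat.card (asHom F).ker = Nat.card (({0, 1} : Set F)) := by
      rw [← this]
      rfl
    rw [e, Nat.card_coe_set_eq, Set.ncard_pair zero_ne_one]
  have h2 := AddSubgroup.card_mul_index (asHom F).ker
  have h3 := AddSubgroup.card_mul_index (asHom F).range
  rw [AddSubgroup.index_ker] at h2
  rw [h1] at h2
  have hpos : 0 < Nat.card (asHom F).range := Nat.card_pos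
  have : Nat.card (asHom F).range * (asHom F).range.index = Nat.card (asHom F).range * 2 := by
    rw [h3, ← h2, mul_comm]
  exact Nat.eq_of_mul_eq_mul_left hpos this

theorem exists_not_isAS [Finite F] : ∃ e : F, ¬ IsAS e := by
  have h := asHom_range_index (F := F)
  rw [AddSubgroup.index_eq_two_iff] at h
  obtain ⟨a, ha⟩ := h
  refine ⟨a, fun hcon => ?_⟩
  have h0 := ha 0
  rw [zero_add] at h0
  rcases h0 with ⟨_, h2⟩ | ⟨_, h2⟩
  · exact h2 (AddSubgroup.zero_mem _)
  · exact h2 hcon

theorem isAS_add_of_not [Finite F] {a b : F} (ha : ¬ IsAS a) (hb : ¬ IsAS b) : IsAS (a + b) := by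
  have h := asHom_range_index (F := F)
  rw [AddSubgroup.index_eq_two_iff] at h
  obtain ⟨e, he⟩ := h
  have h1 : IsAS (a + e) := by
    rcases he a with ⟨h2, _⟩ | ⟨h2, _⟩
    · exact h2
    · exact absurd h2 ha
  have h2 : IsAS (b + e) := by
    rcases he b with ⟨h2, _⟩ | ⟨h2, _⟩
    · exact h2
    · exact absurd h2 hb
  have h3 := h1.add h2
  have h4 : a + e + (b + e) = a + b := by
    have := CharTwo.add_self_eq_zero e
    linear_combination this
  rw [h4] at h3
  exact h3

theorem not_isAS_add [Finite F] {a b : F} (ha : IsAS a) (hb : ¬ IsAS b) : ¬ IsAS (a + b) := by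
  intro h
  apply hb
  have h3 := ha.add h
  have h4 : a + (a + b) = b := by
    have := CharTwo.add_self_eq_zero a
    linear_combination this
  rw [h4] at h3
  exact h3

end AS

section Quad

variable {F : Type v} [Field F] [CharP F 2] {V : Type u} [AddCommGroup V] [Module F V]
variable {B : LinearMap.BilinForm F V}

/-- `Q'` is a quadratic form with polar form `B` -/
structure IsQF (B : LinearMap.BilinForm F V) (Q' : V → F) : Prop where
  add : ∀ u v, Q' (u + v) = Q' u + Q' v + B u v
  smul : ∀ (c : F) (v : V), Q' (c • v) = c ^ 2 * Q' v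

/-- the form `Q' + B(w, ·)²` -/
def Qw (B : LinearMap.BilinForm F V) (Q' : V → F) (w : V) : V → F := fun v => Q' v + (B w v) ^ 2

theorem IsQF.zero {Q' : V → F} (h : IsQF B Q') : Q' 0 = 0 := by
  have := h.smul 0 0
  rw [zero_smul] at this
  rw [this]
  ring

theorem IsQF.qw {Q' : V → F} (h : IsQF B Q') (w : V) : IsQF B (Qw B Q' w) := by
  constructor
  · intro u v
    unfold Qw
    rw [h.add, map_add, CharTwo.add_sq]
    ring
  · intro c v
    unfold Qw
    rw [h.smul, map_smul, smul_eq_mul]
    ring

theorem Qw_Qw (Q' : V → F) (w u : V) : Qw B (Qw B Q' w) u = Qw B Q' (w + u) := by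
  funext v
  unfold Qw
  rw [map_add, LinearMap.add_apply, CharTwo.add_sq]
  ring

/-- the symplectic transvection -/
def tv (B : LinearMap.BilinForm F V) (w : V) (a : F) : V →ₗ[F] V :=
  LinearMap.id + (a • (B.flip w)).smulRight w

theorem tv_apply (w : V) (a : F) (v : V) : tv B w a v = v + (a * B v w) • w := by
  simp [tv, LinearMap.smulRight_apply]

theorem tv_iso (hA : ∀ v, B v v = 0) (hs : ∀ a b, B a b = B b a) (w : V) (a : F) (u v : V) :
    B (tv B w a u) (tv B w a v) = B u v := by
  rw [tv_apply, tv_apply]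
  simp only [map_add, map_smul, LinearMap.add_apply, LinearMap.smul_apply, smul_eq_mul, hA w,
    mul_zero, add_zero, hs w v]
  have h2 : (2 : F) = 0 := CharTwo.two_eq_zero
  linear_combination (a * B u w * B v w) * h2

theorem tv_tv (hA : ∀ v, B v v = 0) (w : V) (a : F) (v : V) : tv B w a (tv B w a v) = v := by
  rw [tv_apply, tv_apply]
  simp only [map_add, map_smul, LinearMap.add_apply, LinearMap.smul_apply, smul_eq_mul, hA w,
    mul_zero, add_zero]
  rw [add_assoc, ← add_smul]
  have : a * B v w + a * B v w = 0 := CharTwo.add_self_eq_zero _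
  rw [this, zero_smul, add_zero]

theorem Q_tv {Q' : V → F} (h : IsQF B Q') (w : V) (a : F) (v : V) :
    Q' (tv B w a v) = Q' v + (B v w) ^ 2 * (a ^ 2 * Q' w + a) := by
  rw [tv_apply, h.add, h.smul, map_smul, smul_eq_mul]
  ring

/-- transvections realize `Q' + B(w, ·)²` when `Q'(w)` is in the Artin--Schreier image -/
theorem exists_tv {Q' : V → F} (h : IsQF B Q') (hs : ∀ a b, B a b = B b a) (w : V)
    (hw : IsAS (Q' w)) : ∃ a : F, ∀ v, Q' (tv B w a v) = Qw B Q' w v := by
  by_cases h0 : Q' w = 0
  · refine ⟨1, fun v => ?_⟩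
    rw [Q_tv h, h0]
    unfold Qw
    rw [hs w v]
    ring
  · obtain ⟨b, hb⟩ := hw
    refine ⟨b / Q' w, fun v => ?_⟩
    rw [Q_tv h]
    unfold Qw
    rw [hs w v]
    have : (b / Q' w) ^ 2 * Q' w + b / Q' w = 1 := by
      field_simp
      rw [← hb]
      ring
    rw [this, mul_one]

end Quad

section Arf

variable {F : Type v} [Field F] [Finite F] [CharP F 2] {V : Type u} [AddCommGroup V] [Module F V]
  [FiniteDimensional F V]
variable {B : LinearMap.BilinForm F V}

/-- the number of zeros -/
noncomputable def Z (Q' : V → F) : ℕ := Nat.card {v : V // Q' v = 0}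

theorem Z_comp (Q' : V → F) (g : V → V) (hg : Function.Bijective g) :
    Z (fun v => Q' (g v)) = Z Q' := by
  unfold Z
  apply Nat.card_congr
  exact
    { toFun := fun v => ⟨g v.1, v.2⟩
      invFun := fun v => ⟨(Equiv.ofBijective g hg).symm v.1, by
        show Q' (g ((Equiv.ofBijective g hg).symm v.1)) = 0
        have := (Equiv.ofBijective g hg).apply_symm_apply v.1
        rw [Equiv.ofBijective_apply] at this
        rw [this]
        exact v.2⟩
      left_inv := fun v => Subtype.ext ((Equiv.ofBijective g hg).symm_apply_apply v.1)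
      right_inv := fun v => Subtype.ext ((Equiv.ofBijective g hg).apply_symm_apply v.1) }

theorem tv_bijective (hA : ∀ v, B v v = 0) (w : V) (a : F) : Function.Bijective (tv B w a) :=
  Function.bijective_iff_has_inverse.2 ⟨tv B w a, tv_tv hA w a, tv_tv hA w a⟩

/-- the total number of zeros of the forms `Q' + B(w, ·)²` -/
theorem sum_Z (hB : B.Nondegenerate) {Q' : V → F} (h : IsQF B Q') :
    Nat.card {p : V × V // Qw B Q' p.1 p.2 = 0} * Nat.card F =
      Nat.card V * Nat.card F + (Nat.card V - 1) * Nat.card V := by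
  classical
  have : Finite V := Module.finite_of_finite F
  have := Fintype.ofFinite V
  have e1 : {p : V × V // Qw B Q' p.1 p.2 = 0} ≃ {p : V × V // Qw B Q' p.2 p.1 = 0} :=
    Equiv.subtypeEquiv (Equiv.prodComm V V) (fun p => Iff.rfl)
  rw [Nat.card_congr e1,
    Nat.card_congr (Equiv.subtypeProdEquivSigmaSubtype (fun v w : V => Qw B Q' w v = 0)),
    Nat.card_sigma]
  have hfib : ∀ v : V, Nat.card {w : V // Qw B Q' w v = 0} * Nat.card F =
      if v = 0 then Nat.card V * Nat.card F else Nat.card V := by
    intro v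
    split_ifs with hv
    · subst hv
      congr 1
      have : ∀ w : V, Qw B Q' w 0 = 0 := by
        intro w
        unfold Qw
        rw [h.zero, map_zero]
        ring
      rw [Nat.card_congr (Equiv.subtypeUnivEquiv this)]
    · obtain ⟨l, hl⟩ := Cfsg.Agent.Lib.Helper8.SpInv.sq_surj' (CharTwo.two_eq_zero (R := F)) (Q' v)
      have hne : B.flip v ≠ 0 := by
        intro h0
        apply hv
        apply hB.2 v
        intro w
        have := LinearMap.congr_fun h0 w
        exact this
      rw [← card_fiber (B.flip v) hne l]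
      congr 1
      apply Nat.card_congr
      apply Equiv.subtypeEquivRight
      intro w
      unfold Qw
      show Q' v + (B w v) ^ 2 = 0 ↔ B w v = l
      rw [← hl, ← pow_two]
      constructor
      · intro h1
        have h2 : (B w v) ^ 2 = l ^ 2 := by
          have h3 := CharTwo.add_self_eq_zero (l ^ 2)
          linear_combination h1 - h3
        exact CharTwo.sq_inj.1 h2
      · intro h1
        rw [h1]
        exact CharTwo.add_self_eq_zero _
  rw [Finset.sum_mul, Finset.sum_congr rfl (fun v _ => hfib v),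
    ← Finset.add_sum_erase Finset.univ _ (Finset.mem_univ (0 : V)), if_pos rfl,
    Finset.sum_congr rfl (fun v hv => if_neg (Finset.ne_of_mem_erase hv)), Finset.sum_const,
    Finset.card_erase_of_mem (Finset.mem_univ _), Finset.card_univ, smul_eq_mul,
    ← Nat.card_eq_fintype_card]

/-- the Arf criterion: if `Q ∘ g = Q + B(w, ·)²` for a bijection `g`, then `Q(w) = b² + b` -/
theorem arf (hB : B.Nondegenerate) (hA : ∀ v, B v v = 0) (hs : ∀ a b, B a b = B b a)
    (hd : 0 < Module.finrank F V) {Q' : V → F} (h : IsQF B Q') (g : V → V)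
    (hg : Function.Bijective g) (w : V) (hgw : ∀ v, Q' (g v) = Qw B Q' w v) : IsAS (Q' w) := by
  classical
  by_contra hw
  have : Finite V := Module.finite_of_finite F
  have := Fintype.ofFinite V
  have hZ0 : Z (Qw B Q' w) = Z Q' := by
    rw [← Z_comp Q' g hg]
    congr 1
    funext v
    exact (hgw v).symm
  have hZ : ∀ u : V, Z (Qw B Q' u) = Z Q' := by
    intro u
    by_cases hu : IsAS (Q' u)
    · obtain ⟨a, ha⟩ := exists_tv h hs u hu
      rw [← Z_comp Q' (tv B u a) (tv_bijective hA u a)]
      congr 1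
      funext v
      exact (ha v).symm
    · have h1 : IsAS (Qw B Q' w (w + u)) := by
        unfold Qw
        rw [h.add, map_add, hA w, zero_add]
        have h3 := isAS_add_of_not hw hu
        have h4 := h3.add (isAS_self (B w u))
        have e : Q' w + Q' u + B w u + B w u ^ 2 = Q' w + Q' u + (B w u ^ 2 + B w u) := by ring
        rw [e]
        exact h4
      obtain ⟨a, ha⟩ := exists_tv (h.qw w) hs (w + u) h1
      have h5 : Qw B (Qw B Q' w) (w + u) = Qw B Q' u := by
        rw [Qw_Qw]
        congr 1
        rw [← add_assoc]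
        have : w + w = 0 := by
          rw [← two_smul F w, CharTwo.two_eq_zero, zero_smul]
        rw [this, zero_add]
      rw [← h5, ← hZ0, ← Z_comp (Qw B Q' w) (tv B (w + u) a) (tv_bijective hA (w + u) a)]
      congr 1
      funext v
      exact (ha v).symm
  have hsum := sum_Z hB h
  rw [Nat.card_congr (Equiv.subtypeProdEquivSigmaSubtype (fun w v : V => Qw B Q' w v = 0)),
    Nat.card_sigma] at hsum
  have hZ' : ∀ u : V, Nat.card {v : V // Qw B Q' u v = 0} = Z Q' := hZ
  rw [Finset.sum_congr rfl (fun u _ => hZ' u), Finset.sum_const, Finset.card_univ, smul_eq_mul,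
    ← Nat.card_eq_fintype_card] at hsum
  -- |V| Z q = |V| q + (|V| - 1) |V|
  have hVpos : 0 < Nat.card V := Nat.card_pos
  have hV : Nat.card V = Nat.card F ^ Module.finrank F V :=
    Module.natCard_eq_pow_finrank (K := F)
  have hqV : Nat.card F ∣ Nat.card V := by
    rw [hV]
    exact dvd_pow_self _ (by omega)
  have hq : 1 < Nat.card F := Finite.one_lt_card
  have h6 : Nat.card V * (Z Q' * Nat.card F) = Nat.card V * (Nat.card F + (Nat.card V - 1)) := by
    rw [← mul_assoc, hsum]
    ring
  have h7 := Nat.eq_of_mul_eq_mul_left hVpos h6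
  have h8 : Nat.card F ∣ Nat.card V - 1 := by
    have : Nat.card F ∣ Nat.card F + (Nat.card V - 1) := ⟨Z Q', by rw [← h7]; ring⟩
    exact (Nat.dvd_add_right (dvd_refl _)).1 this
  have h9 : Nat.card F ∣ 1 := by
    have : Nat.card V - 1 + 1 = Nat.card V := by omega
    have h10 : Nat.card F ∣ Nat.card V - 1 + 1 := by rw [this]; exact hqV
    exact (Nat.dvd_add_right h8).1 h10
  have := Nat.le_of_dvd one_pos h9
  omega

end Arf

section Riesz

variable {F : Type v} [Field F] {V : Type u} [AddCommGroup V] [Module F V]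
  [FiniteDimensional F V]
variable {B : LinearMap.BilinForm F V}

theorem exists_riesz (hB : B.Nondegenerate) (φ : V →ₗ[F] F) : ∃ w : V, ∀ v, B w v = φ v :=
  ⟨(B.toDual hB).symm φ, fun v => LinearMap.BilinForm.apply_toDual_symm_apply (hB := hB) φ v⟩

/-- an additive function which is semilinear for the Frobenius map is the square of a linear
functional -/
theorem exists_sqrt_form [Finite F] [CharP F 2] (hB : B.Nondegenerate) (δ : V → F)
    (hadd : ∀ u v, δ (u + v) = δ u + δ v) (hsmul : ∀ (c : F) v, δ (c • v) = c ^ 2 * δ v) :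
    ∃ w : V, ∀ v, (B w v) ^ 2 = δ v := by
  have h2 : (2 : F) = 0 := CharTwo.two_eq_zero
  choose sq hsq' using fun d : F => Cfsg.Agent.Lib.Helper8.SpInv.sq_surj' h2 d
  obtain ⟨φ, hφ⟩ : ∃ φ : V →ₗ[F] F, ∀ v, (φ v) ^ 2 = δ v := by
    refine ⟨{ toFun := fun v => sq (δ v), map_add' := ?_, map_smul' := ?_ }, ?_⟩
    · intro u v
      apply CharTwo.sq_inj.1
      rw [CharTwo.add_sq, pow_two, pow_two, pow_two, hsq', hsq', hsq', hadd]
    · intro c v
      apply CharTwo.sq_inj.1
      rw [RingHom.id_apply, smul_eq_mul, mul_pow, pow_two (sq _), pow_two (sq _), hsq', hsq',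
        hsmul]
    · intro v
      show (sq (δ v)) ^ 2 = δ v
      rw [pow_two, hsq']
  obtain ⟨w, hw⟩ := exists_riesz hB φ
  exact ⟨w, fun v => by rw [hw, hφ]⟩

end Riesz

end Cfsg.Agent.Lib.Helper8.OrbQ
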