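import Mathlib
import Cfsg.Agent.Lib.Helper8.OrbQA
import Cfsg.Agent.S2593

/-! # The centralizer of an involution of `O⁺` inside the centralizer in `Sp`, characteristic two
(helper8) -/

set_option autoImplicit false
open Cfsg

namespace Cfsg.Agent.Lib.Helper8.OrbQ

open Matrix Cfsg.Agent.Lib.Helper5.Symp Cfsg.Agent.S0245 Cfsg.Agent.Lib.Helper8.SpInv
  Cfsg.Agent.S2166 Cfsg.Agent.Lib.Helper5.SympCount

section Concrete

variable {F : Type*} [Field F] [CharP F 2] {m : ℕ}

theorem isQF_plus : IsQF (sympBilin (F := F) m) (quadFormPlus m F) := by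
  have h2 : (2 : F) = 0 := CharTwo.two_eq_zero
  constructor
  · intro u v
    rw [sympBilin_apply, sympForm_eq_sum]
    unfold quadFormPlus
    rw [← Finset.sum_add_distrib, ← Finset.sum_add_distrib]
    apply Finset.sum_congr rfl
    intro i _
    simp only [Pi.add_apply]
    linear_combination (u (Sum.inl i) * v (Sum.inr i)) * h2
  · intro c v
    unfold quadFormPlus
    rw [Finset.mul_sum]
    apply Finset.sum_congr rfl
    intro i _
    simp only [Pi.smul_apply, smul_eq_mul]
    ring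

theorem sympBilin_symm (a b : Fin m ⊕ Fin m → F) : sympBilin m a b = sympBilin m b a :=
  symm2 (sympBilin_isAlt m) CharTwo.two_eq_zero a b

/-- isometries of the quadratic form are symplectic -/
theorem symp_of_isometry (M : Matrix (Fin m ⊕ Fin m) (Fin m ⊕ Fin m) F)
    (hM : ∀ v, quadFormPlus m F (M *ᵥ v) = quadFormPlus m F v) :
    M ∈ Matrix.symplecticGroup (Fin m) F := by
  apply mem_of_sympForm
  intro u v
  have h2 : (2 : F) = 0 := CharTwo.two_eq_zero
  have h1 := (isQF_plus (F := F) (m := m)).add (M *ᵥ u) (M *ᵥ v)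
  have h3 := (isQF_plus (F := F) (m := m)).add u v
  rw [← Matrix.mulVec_add, hM, hM, hM, sympBilin_apply] at h1
  rw [sympBilin_apply] at h3
  linear_combination h3 - h1

variable [Fintype F]

/-- the orbit count: the centralizer in `Sp` against the centralizer in `O` -/
theorem card_centralizer_sp (hm : 1 ≤ m) (x' : ↥(Matrix.symplecticGroup (Fin m) F))
    (hx2 : x' * x' = 1)
    (hxQ : ∀ v, quadFormPlus m F ((x' : Matrix (Fin m ⊕ Fin m) (Fin m ⊕ Fin m) F) *ᵥ v) =
      quadFormPlus m F v) :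
    Nat.card ↥(Subgroup.centralizer ({x'} : Set ↥(Matrix.symplecticGroup (Fin m) F))) =
      Nat.card {w : Fin m ⊕ Fin m → F //
        ((x' : Matrix (Fin m ⊕ Fin m) (Fin m ⊕ Fin m) F) - 1) *ᵥ w = 0 ∧
          IsAS (quadFormPlus m F w)} *
      Nat.card {g : ↥(Subgroup.centralizer ({x'} : Set ↥(Matrix.symplecticGroup (Fin m) F))) //
        ∀ v, quadFormPlus m F
          (((g : ↥(Matrix.symplecticGroup (Fin m) F)) :
            Matrix (Fin m ⊕ Fin m) (Fin m ⊕ Fin m) F) *ᵥ v) = quadFormPlus m F v} := by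
  have h2 : (2 : F) = 0 := CharTwo.two_eq_zero
  have hqf := isQF_plus (F := F) (m := m)
  have hB := sympBilin_nondegenerate (F := F) m
  have hA : ∀ v : Fin m ⊕ Fin m → F, sympBilin m v v = 0 := sympBilin_isAlt m
  have hs := sympBilin_symm (F := F) (m := m)
  have hd : 0 < Module.finrank F (Fin m ⊕ Fin m → F) := by
    rw [Module.finrank_fintype_fun_eq_card, Fintype.card_sum, Fintype.card_fin]
    omega
  -- the matrix action
  have hmulinv : ∀ g : ↥(Matrix.symplecticGroup (Fin m) F), ∀ v,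
      (g : Matrix (Fin m ⊕ Fin m) (Fin m ⊕ Fin m) F) *ᵥ
        (((g⁻¹ : ↥(Matrix.symplecticGroup (Fin m) F)) :
          Matrix (Fin m ⊕ Fin m) (Fin m ⊕ Fin m) F) *ᵥ v) = v := by
    intro g v
    rw [Matrix.mulVec_mulVec, coe_mul_inv, Matrix.one_mulVec]
  have hinvmul : ∀ g : ↥(Matrix.symplecticGroup (Fin m) F), ∀ v,
      ((g⁻¹ : ↥(Matrix.symplecticGroup (Fin m) F)) :
          Matrix (Fin m ⊕ Fin m) (Fin m ⊕ Fin m) F) *ᵥ
        ((g : Matrix (Fin m ⊕ Fin m) (Fin m ⊕ Fin m) F) *ᵥ v) = v := by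
    intro g v
    rw [Matrix.mulVec_mulVec, coe_inv_mul, Matrix.one_mulVec]
  -- the subgroup of isometries
  let H : Subgroup ↥(Subgroup.centralizer ({x'} : Set ↥(Matrix.symplecticGroup (Fin m) F))) :=
    { carrier := {g | ∀ v, quadFormPlus m F
          (((g : ↥(Matrix.symplecticGroup (Fin m) F)) :
            Matrix (Fin m ⊕ Fin m) (Fin m ⊕ Fin m) F) *ᵥ v) = quadFormPlus m F v}
      mul_mem' := by
        intro a b ha hb v
        show quadFormPlus m F ((((a : ↥(Matrix.symplecticGroup (Fin m) F)) *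
          (b : ↥(Matrix.symplecticGroup (Fin m) F)) : ↥(Matrix.symplecticGroup (Fin m) F)) :
            Matrix (Fin m ⊕ Fin m) (Fin m ⊕ Fin m) F) *ᵥ v) = _
        rw [Submonoid.coe_mul, ← Matrix.mulVec_mulVec, ha, hb]
      one_mem' := by
        intro v
        show quadFormPlus m F (((1 : ↥(Matrix.symplecticGroup (Fin m) F)) :
            Matrix (Fin m ⊕ Fin m) (Fin m ⊕ Fin m) F) *ᵥ v) = _
        rw [Submonoid.coe_one, Matrix.one_mulVec]
      inv_mem' := by
        intro a ha v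
        show quadFormPlus m F ((((a : ↥(Matrix.symplecticGroup (Fin m) F))⁻¹ :
          ↥(Matrix.symplecticGroup (Fin m) F)) :
            Matrix (Fin m ⊕ Fin m) (Fin m ⊕ Fin m) F) *ᵥ v) = _
        have := ha ((((a : ↥(Matrix.symplecticGroup (Fin m) F))⁻¹ :
          ↥(Matrix.symplecticGroup (Fin m) F)) :
            Matrix (Fin m ⊕ Fin m) (Fin m ⊕ Fin m) F) *ᵥ v)
        rw [hmulinv] at this
        exact this.symm }
  -- the map to the quadratic forms
  obtain ⟨Φ, hΦdef⟩ : ∃ Φ : ↥(Subgroup.centralizer ({x'} :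
      Set ↥(Matrix.symplecticGroup (Fin m) F))) → (Fin m ⊕ Fin m → F) → F,
      ∀ g v, Φ g v = quadFormPlus m F (((g : ↥(Matrix.symplecticGroup (Fin m) F)) :
            Matrix (Fin m ⊕ Fin m) (Fin m ⊕ Fin m) F) *ᵥ v) := ⟨_, fun g v => rfl⟩
  have hΦ : ∀ g h, Φ g = Φ h ↔ g * h⁻¹ ∈ H := by
    intro g h
    constructor
    · intro hgh v
      show quadFormPlus m F ((((g : ↥(Matrix.symplecticGroup (Fin m) F)) *
          (h : ↥(Matrix.symplecticGroup (Fin m) F))⁻¹ : ↥(Matrix.symplecticGroup (Fin m) F)) :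
            Matrix (Fin m ⊕ Fin m) (Fin m ⊕ Fin m) F) *ᵥ v) = _
      rw [Submonoid.coe_mul, ← Matrix.mulVec_mulVec]
      have h1 := congrFun hgh ((((h : ↥(Matrix.symplecticGroup (Fin m) F))⁻¹ :
          ↥(Matrix.symplecticGroup (Fin m) F)) :
            Matrix (Fin m ⊕ Fin m) (Fin m ⊕ Fin m) F) *ᵥ v)
      rw [hΦdef, hΦdef, hmulinv] at h1
      exact h1
    · intro hgh
      funext v
      rw [hΦdef, hΦdef]
      have h1 := hgh (((h : ↥(Matrix.symplecticGroup (Fin m) F)) :
            Matrix (Fin m ⊕ Fin m) (Fin m ⊕ Fin m) F) *ᵥ v)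
      change quadFormPlus m F ((((g : ↥(Matrix.symplecticGroup (Fin m) F)) *
          (h : ↥(Matrix.symplecticGroup (Fin m) F))⁻¹ : ↥(Matrix.symplecticGroup (Fin m) F)) :
            Matrix (Fin m ⊕ Fin m) (Fin m ⊕ Fin m) F) *ᵥ _) = _ at h1
      rw [Submonoid.coe_mul, ← Matrix.mulVec_mulVec, hinvmul] at h1
      exact h1
  rw [card_eq_card_range_mul H Φ hΦ]
  congr 1
  -- the range
  obtain ⟨Ψ, hΨdef⟩ : ∃ Ψ : {w : Fin m ⊕ Fin m → F //
        ((x' : Matrix (Fin m ⊕ Fin m) (Fin m ⊕ Fin m) F) - 1) *ᵥ w = 0 ∧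
          IsAS (quadFormPlus m F w)} → (Fin m ⊕ Fin m → F) → F,
      ∀ w, Ψ w = Qw (sympBilin m) (quadFormPlus m F) w.1 := ⟨_, fun w => rfl⟩
  have hΨinj : Function.Injective Ψ := by
    intro w w' hww
    apply Subtype.ext
    rw [hΨdef, hΨdef] at hww
    have h3 : ∀ v, sympBilin m (w.1 - w'.1) v = 0 := by
      intro v
      have h4 := congrFun hww v
      unfold Qw at h4
      have h5 : (sympBilin m w.1 v) ^ 2 = (sympBilin m w'.1 v) ^ 2 := add_left_cancel h4
      rw [map_sub, LinearMap.sub_apply, CharTwo.sq_inj.1 h5, sub_self]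
    exact sub_eq_zero.1 (hB.1 _ h3)
  -- the adjoint of `x' - 1`
  have hN : ∀ v, ((x' : Matrix (Fin m ⊕ Fin m) (Fin m ⊕ Fin m) F) - 1).mulVecLin v =
      (x' : Matrix (Fin m ⊕ Fin m) (Fin m ⊕ Fin m) F).mulVecLin v - v := by
    intro v
    simp only [Matrix.mulVecLin_apply, Matrix.sub_mulVec, Matrix.one_mulVec]
  have hiso : ∀ u v, sympBilin m ((x' : Matrix (Fin m ⊕ Fin m) (Fin m ⊕ Fin m) F).mulVecLin u)
      ((x' : Matrix (Fin m ⊕ Fin m) (Fin m ⊕ Fin m) F).mulVecLin v) = sympBilin m u v := by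
    intro u v
    simp only [Matrix.mulVecLin_apply, sympBilin_apply]
    exact sympForm_of_mem m x'.2 u v
  have hsq : ∀ v, (x' : Matrix (Fin m ⊕ Fin m) (Fin m ⊕ Fin m) F).mulVecLin
      ((x' : Matrix (Fin m ⊕ Fin m) (Fin m ⊕ Fin m) F).mulVecLin v) = v := by
    intro v
    simp only [Matrix.mulVecLin_apply]
    have h3 : (x' : Matrix (Fin m ⊕ Fin m) (Fin m ⊕ Fin m) F) *
        (x' : Matrix (Fin m ⊕ Fin m) (Fin m ⊕ Fin m) F) = 1 := by
      rw [← Submonoid.coe_mul, hx2, Submonoid.coe_one]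
    rw [Matrix.mulVec_mulVec, h3, Matrix.one_mulVec]
  have hadj := N_adj (B := sympBilin (F := F) m) _ _ hN hiso hsq
  have hrange : Set.range Φ = Set.range Ψ := by
    ext f
    constructor
    · rintro ⟨g, rfl⟩
      -- the difference is the square of a linear functional
      obtain ⟨δ, hδ⟩ : ∃ δ : (Fin m ⊕ Fin m → F) → F,
          ∀ v, δ v = Φ g v + quadFormPlus m F v := ⟨_, fun v => rfl⟩
      have hgB : ∀ u v, sympBilin m
          (((g : ↥(Matrix.symplecticGroup (Fin m) F)) :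
            Matrix (Fin m ⊕ Fin m) (Fin m ⊕ Fin m) F) *ᵥ u)
          (((g : ↥(Matrix.symplecticGroup (Fin m) F)) :
            Matrix (Fin m ⊕ Fin m) (Fin m ⊕ Fin m) F) *ᵥ v) = sympBilin m u v := by
        intro u v
        rw [sympBilin_apply, sympBilin_apply]
        exact sympForm_of_mem m (g : ↥(Matrix.symplecticGroup (Fin m) F)).2 u v
      have hδadd : ∀ u v, δ (u + v) = δ u + δ v := by
        intro u v
        rw [hδ, hδ, hδ, hΦdef, hΦdef, hΦdef, Matrix.mulVec_add, hqf.add, hqf.add, hgB]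
        linear_combination (sympBilin m u v) * h2
      have hδsmul : ∀ (c : F) v, δ (c • v) = c ^ 2 * δ v := by
        intro c v
        rw [hδ, hδ, hΦdef, hΦdef, Matrix.mulVec_smul, hqf.smul, hqf.smul]
        ring
      obtain ⟨w, hw⟩ := exists_sqrt_form hB δ hδadd hδsmul
      have hΦw : ∀ v, Φ g v = Qw (sympBilin m) (quadFormPlus m F) w v := by
        intro v
        unfold Qw
        rw [hw, hδ]
        have := CharTwo.add_self_eq_zero (quadFormPlus m F v)
        linear_combination -this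
      -- `w` is fixed by `x'`
      have hgx : (g : ↥(Matrix.symplecticGroup (Fin m) F)) * x' =
          x' * (g : ↥(Matrix.symplecticGroup (Fin m) F)) :=
        Subgroup.mem_centralizer_singleton_iff.1 g.2
      have hgx' : ∀ v, ((g : ↥(Matrix.symplecticGroup (Fin m) F)) :
            Matrix (Fin m ⊕ Fin m) (Fin m ⊕ Fin m) F) *ᵥ
            ((x' : Matrix (Fin m ⊕ Fin m) (Fin m ⊕ Fin m) F) *ᵥ v) =
          (x' : Matrix (Fin m ⊕ Fin m) (Fin m ⊕ Fin m) F) *ᵥ
            (((g : ↥(Matrix.symplecticGroup (Fin m) F)) :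
            Matrix (Fin m ⊕ Fin m) (Fin m ⊕ Fin m) F) *ᵥ v) := by
        intro v
        rw [Matrix.mulVec_mulVec, Matrix.mulVec_mulVec, ← Submonoid.coe_mul, ← Submonoid.coe_mul,
          hgx]
      have hδx : ∀ v, δ ((x' : Matrix (Fin m ⊕ Fin m) (Fin m ⊕ Fin m) F) *ᵥ v) = δ v := by
        intro v
        rw [hδ, hδ, hΦdef, hΦdef, hgx', hxQ, hxQ]
      have hwx : ∀ v, sympBilin m w (((x' : Matrix (Fin m ⊕ Fin m) (Fin m ⊕ Fin m) F) - 1) *ᵥ v)
          = 0 := by
        intro v
        rw [Matrix.sub_mulVec, Matrix.one_mulVec, map_sub]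
        have h5 : (sympBilin m w ((x' : Matrix (Fin m ⊕ Fin m) (Fin m ⊕ Fin m) F) *ᵥ v)) ^ 2 =
            (sympBilin m w v) ^ 2 := by
          rw [hw, hw, hδx]
        rw [CharTwo.sq_inj.1 h5, sub_self]
      have hwK : ((x' : Matrix (Fin m ⊕ Fin m) (Fin m ⊕ Fin m) F) - 1) *ᵥ w = 0 := by
        apply hB.1
        intro v
        have := hadj w v
        rw [Matrix.mulVecLin_apply, Matrix.mulVecLin_apply] at this
        rw [this]
        exact hwx v
      have hAS : IsAS (quadFormPlus m F w) :=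
        arf hB hA hs hd hqf
          (fun v => ((g : ↥(Matrix.symplecticGroup (Fin m) F)) :
            Matrix (Fin m ⊕ Fin m) (Fin m ⊕ Fin m) F) *ᵥ v)
          (Function.bijective_iff_has_inverse.2
            ⟨fun v => (((g : ↥(Matrix.symplecticGroup (Fin m) F))⁻¹ :
              ↥(Matrix.symplecticGroup (Fin m) F)) :
              Matrix (Fin m ⊕ Fin m) (Fin m ⊕ Fin m) F) *ᵥ v,
              fun v => hinvmul _ v, fun v => hmulinv _ v⟩) w
          (fun v => by rw [← hΦdef]; exact hΦw v)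
      refine ⟨⟨w, hwK, hAS⟩, ?_⟩
      rw [hΨdef]
      funext v
      exact (hΦw v).symm
    · rintro ⟨⟨w, hwK, hAS⟩, rfl⟩
      obtain ⟨a, ha⟩ := exists_tv hqf hs w hAS
      have hxw : (x' : Matrix (Fin m ⊕ Fin m) (Fin m ⊕ Fin m) F) *ᵥ w = w := by
        rw [Matrix.sub_mulVec, Matrix.one_mulVec] at hwK
        exact sub_eq_zero.1 hwK
      have hT : ∀ v, sympTransvection m w a *ᵥ v = tv (sympBilin m) w a v := by
        intro v
        rw [sympTransvection_mulVec, tv_apply, sympBilin_apply]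
      have hTc : (⟨sympTransvection m w a, sympTransvection_mem m w a⟩ :
          ↥(Matrix.symplecticGroup (Fin m) F)) ∈
          Subgroup.centralizer ({x'} : Set ↥(Matrix.symplecticGroup (Fin m) F)) := by
        rw [Subgroup.mem_centralizer_singleton_iff]
        apply Subtype.ext
        rw [Submonoid.coe_mul, Submonoid.coe_mul]
        show sympTransvection m w a * (x' : Matrix (Fin m ⊕ Fin m) (Fin m ⊕ Fin m) F) =
          (x' : Matrix (Fin m ⊕ Fin m) (Fin m ⊕ Fin m) F) * sympTransvection m w a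
        rw [Matrix.ext_iff_mulVec]
        intro v
        rw [← Matrix.mulVec_mulVec, ← Matrix.mulVec_mulVec, sympTransvection_mulVec,
          sympTransvection_mulVec, Matrix.mulVec_add, Matrix.mulVec_smul, hxw]
        congr 3
        have := sympForm_of_mem m x'.2 v w
        rw [hxw] at this
        exact this
      refine ⟨⟨_, hTc⟩, ?_⟩
      rw [hΨdef]
      funext v
      rw [hΦdef]
      show quadFormPlus m F (sympTransvection m w a *ᵥ v) = _
      rw [hT, ha]
  rw [hrange]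
  exact Nat.card_range_of_injective hΨinj

end Concrete

end Cfsg.Agent.Lib.Helper8.OrbQ
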