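import Mathlib
import Cfsg.Agent.Lib.Helper8.OrbQB
import Cfsg.Agent.Lib.Helper8.OmegaInv
import Cfsg.Agent.S2595

/-! # Centralizers of involutions in `Ω⁺`, characteristic two: reduction to `Sp` (helper8) -/

set_option autoImplicit false
open Cfsg

namespace Cfsg.Agent.Lib.Helper8.OrbQ

open Matrix Cfsg.Agent.Lib.Helper5.Symp Cfsg.Agent.S0245 Cfsg.Agent.Lib.Helper8.SpInv
  Cfsg.Agent.S2166 Cfsg.Agent.Lib.Helper5.SympCount Cfsg.Agent.H9.Orth
  Cfsg.Agent.Lib.Helper5.OrthPar Cfsg.Agent.Lib.Helper5.OrthTv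

section Index

variable {ι : Type} [Fintype ι] [DecidableEq ι] {F : Type*} [Field F] {Q : (ι → F) → F}

/-- the centralizer in `Ω` has index two in the centralizer in `O` if the latter is not
contained in `Ω` -/
theorem card_centralizer_omega (hidx : (Cfsg.Omega F Q).index = 2)
    (x z : ↥(Cfsg.isometryGroup F Q)) (hz : z * x = x * z) (hzΩ : z ∉ Cfsg.Omega F Q) :
    Nat.card {g : ↥(Cfsg.isometryGroup F Q) // g * x = x * g} =
      2 * Nat.card {g : ↥(Cfsg.Omega F Q) // (g : ↥(Cfsg.isometryGroup F Q)) * x =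
        x * (g : ↥(Cfsg.isometryGroup F Q))} := by
  obtain ⟨C, hC⟩ : ∃ C : Subgroup ↥(Cfsg.isometryGroup F Q),
      C = Subgroup.centralizer ({x} : Set ↥(Cfsg.isometryGroup F Q)) := ⟨_, rfl⟩
  have hmem : ∀ g, g ∈ C ↔ g * x = x * g := by
    intro g
    rw [hC, Subgroup.mem_centralizer_singleton_iff]
  have e1 : Nat.card {g : ↥(Cfsg.isometryGroup F Q) // g * x = x * g} = Nat.card ↥C :=
    Nat.card_congr (Equiv.subtypeEquivRight (fun g => (hmem g).symm))
  have e2 : Nat.card {g : ↥(Cfsg.Omega F Q) // (g : ↥(Cfsg.isometryGroup F Q)) * x =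
        x * (g : ↥(Cfsg.isometryGroup F Q))} = Nat.card ↥((Cfsg.Omega F Q).subgroupOf C) := by
    apply Nat.card_congr
    exact
      { toFun := fun g => ⟨⟨g.1.1, (hmem _).2 g.2⟩, Subgroup.mem_subgroupOf.2 g.1.2⟩
        invFun := fun g => ⟨⟨g.1.1, Subgroup.mem_subgroupOf.1 g.2⟩, (hmem _).1 g.1.2⟩
        left_inv := fun g => rfl
        right_inv := fun g => rfl }
  rw [e1, e2]
  have h1 := Subgroup.card_mul_index ((Cfsg.Omega F Q).subgroupOf C)
  have h3 : ((Cfsg.Omega F Q).subgroupOf C).index = 2 := by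
    have h4 : (Cfsg.Omega F Q).relIndex C ∣ (Cfsg.Omega F Q).index :=
      Subgroup.relIndex_dvd_index_of_normal _ _
    rw [hidx] at h4
    have h5 : (Cfsg.Omega F Q).relIndex C ≠ 1 := by
      intro h6
      rw [Subgroup.relIndex_eq_one] at h6
      exact hzΩ (h6 ((hmem z).2 hz))
    have h6 := (Nat.dvd_prime Nat.prime_two).1 h4
    rcases h6 with h6 | h6
    · exact absurd h6 h5
    · exact h6
  rw [h3] at h1
  omega

end Index

section Concrete

variable {F : Type*} [Field F] [Fintype F] [CharP F 2] {m : ℕ}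

/-- the number of fixed vectors -/
theorem card_fixed (M : Matrix (Fin m ⊕ Fin m) (Fin m ⊕ Fin m) F) {s : ℕ} (hs : M.rank = s) :
    Nat.card {w : Fin m ⊕ Fin m → F // M *ᵥ w = 0} = Fintype.card F ^ (2 * m - s) := by
  have h1 := LinearMap.finrank_range_add_finrank_ker M.mulVecLin
  rw [Module.finrank_fintype_fun_eq_card, Fintype.card_sum, Fintype.card_fin] at h1
  have h3 : Module.finrank F (LinearMap.range M.mulVecLin) = s := by
    rw [← hs]
    rfl
  have e : Nat.card {w : Fin m ⊕ Fin m → F // M *ᵥ w = 0} =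
      Nat.card ↥(LinearMap.ker M.mulVecLin) :=
    Nat.card_congr (Equiv.subtypeEquivRight (fun w => by
      rw [LinearMap.mem_ker, Matrix.mulVecLin_apply]))
  rw [e, Module.natCard_eq_pow_finrank (K := F), Nat.card_eq_fintype_card]
  congr 1
  omega

/-- half of the fixed vectors of a non-alternating involution have norm in the Artin--Schreier
image -/
theorem two_card_asK_nonalt (x' : ↥(Matrix.symplecticGroup (Fin m) F)) (hx2 : x' * x' = 1)
    (hxQ : ∀ v, quadFormPlus m F ((x' : Matrix (Fin m ⊕ Fin m) (Fin m ⊕ Fin m) F) *ᵥ v) =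
      quadFormPlus m F v)
    (hna : ∃ v, quadFormPlus m F
      (((x' : Matrix (Fin m ⊕ Fin m) (Fin m ⊕ Fin m) F) - 1) *ᵥ v) ≠ 0) :
    2 * Nat.card {w : Fin m ⊕ Fin m → F //
        ((x' : Matrix (Fin m ⊕ Fin m) (Fin m ⊕ Fin m) F) - 1) *ᵥ w = 0 ∧
          IsAS (quadFormPlus m F w)} =
      Nat.card {w : Fin m ⊕ Fin m → F //
        ((x' : Matrix (Fin m ⊕ Fin m) (Fin m ⊕ Fin m) F) - 1) *ᵥ w = 0} := by
  classical
  have h2 : (2 : F) = 0 := CharTwo.two_eq_zero
  have hqf := isQF_plus (F := F) (m := m)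
  obtain ⟨N, hNdef⟩ : ∃ N : Matrix (Fin m ⊕ Fin m) (Fin m ⊕ Fin m) F,
      N = (x' : Matrix (Fin m ⊕ Fin m) (Fin m ⊕ Fin m) F) - 1 := ⟨_, rfl⟩
  rw [← hNdef]
  rw [← hNdef] at hna
  have hN : ∀ v, N.mulVecLin v =
      (x' : Matrix (Fin m ⊕ Fin m) (Fin m ⊕ Fin m) F).mulVecLin v - v := by
    intro v
    rw [hNdef]
    simp only [Matrix.mulVecLin_apply, Matrix.sub_mulVec, Matrix.one_mulVec]
  have hiso : ∀ u v, sympBilin m ((x' : Matrix (Fin m ⊕ Fin m) (Fin m ⊕ Fin m) F).mulVecLin u)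
      ((x' : Matrix (Fin m ⊕ Fin m) (Fin m ⊕ Fin m) F).mulVecLin v) = sympBilin m u v := by
    intro u v
    simp only [Matrix.mulVecLin_apply, sympBilin_apply]
    exact sympForm_of_mem m x'.2 u v
  have hsq : ∀ v, (x' : Matrix (Fin m ⊕ Fin m) (Fin m ⊕ Fin m) F).mulVecLin
      ((x' : Matrix (Fin m ⊕ Fin m) (Fin m ⊕ Fin m) F).mulVecLin v) = v := by
    intro v
    simp only [Matrix.mulVecLin_apply]
    have h3 : (x' : Matrix (Fin m ⊕ Fin m) (Fin m ⊕ Fin m) F) *
        (x' : Matrix (Fin m ⊕ Fin m) (Fin m ⊕ Fin m) F) = 1 := by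
      rw [← Submonoid.coe_mul, hx2, Submonoid.coe_one]
    rw [Matrix.mulVec_mulVec, h3, Matrix.one_mulVec]
  have hadj' := N_adj (B := sympBilin (F := F) m) _ _ hN hiso hsq
  have hNN' := N_sq h2 _ _ hN hsq
  have hadj : ∀ a b, sympBilin m (N *ᵥ a) b = sympBilin m a (N *ᵥ b) := by
    intro a b
    have := hadj' a b
    rw [Matrix.mulVecLin_apply, Matrix.mulVecLin_apply] at this
    exact this
  have hNN : ∀ a, N *ᵥ (N *ᵥ a) = 0 := by
    intro a
    have := hNN' a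
    rw [Matrix.mulVecLin_apply, Matrix.mulVecLin_apply] at this
    exact this
  obtain ⟨v0, hv0⟩ := hna
  obtain ⟨e, he⟩ := exists_not_isAS (F := F)
  obtain ⟨d, hd⟩ := sq_surj' h2 (e / quadFormPlus m F (N *ᵥ v0))
  -- the translation
  have hψK : ∀ w, N *ᵥ w = 0 → N *ᵥ (w + d • (N *ᵥ v0)) = 0 := by
    intro w hw
    rw [Matrix.mulVec_add, Matrix.mulVec_smul, hNN, hw, smul_zero, add_zero]
  have hψQ : ∀ w, N *ᵥ w = 0 →
      quadFormPlus m F (w + d • (N *ᵥ v0)) = quadFormPlus m F w + e := by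
    intro w hw
    rw [hqf.add, hqf.smul, map_smul, smul_eq_mul, sympBilin_symm, hadj, hw, map_zero, mul_zero,
      add_zero, pow_two, hd]
    rw [div_mul_cancel₀ _ hv0]
  have hψψ : ∀ w : Fin m ⊕ Fin m → F, w + d • (N *ᵥ v0) + d • (N *ᵥ v0) = w := by
    intro w
    rw [add_assoc, ← two_smul F (d • (N *ᵥ v0)), h2, zero_smul, add_zero]
  have e1 : {w : {w : Fin m ⊕ Fin m → F // N *ᵥ w = 0} // IsAS (quadFormPlus m F w.1)} ≃
      {w : {w : Fin m ⊕ Fin m → F // N *ᵥ w = 0} // ¬ IsAS (quadFormPlus m F w.1)} :=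
    { toFun := fun w => ⟨⟨w.1.1 + d • (N *ᵥ v0), hψK _ w.1.2⟩, by
        show ¬ IsAS (quadFormPlus m F (w.1.1 + d • (N *ᵥ v0)))
        rw [hψQ _ w.1.2]
        exact not_isAS_add w.2 he⟩
      invFun := fun w => ⟨⟨w.1.1 + d • (N *ᵥ v0), hψK _ w.1.2⟩, by
        show IsAS (quadFormPlus m F (w.1.1 + d • (N *ᵥ v0)))
        rw [hψQ _ w.1.2]
        exact isAS_add_of_not w.2 he⟩
      left_inv := fun w => Subtype.ext (Subtype.ext (hψψ _))
      right_inv := fun w => Subtype.ext (Subtype.ext (hψψ _)) }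
  have e2 := Nat.card_congr (Equiv.sumCompl
    (fun w : {w : Fin m ⊕ Fin m → F // N *ᵥ w = 0} => IsAS (quadFormPlus m F w.1)))
  rw [Nat.card_sum, ← Nat.card_congr e1] at e2
  have e3 : Nat.card {w : Fin m ⊕ Fin m → F // N *ᵥ w = 0 ∧ IsAS (quadFormPlus m F w)} =
      Nat.card {w : {w : Fin m ⊕ Fin m → F // N *ᵥ w = 0} // IsAS (quadFormPlus m F w.1)} :=
    Nat.card_congr (Equiv.subtypeSubtypeEquivSubtypeInter _ _).symm
  rw [e3]
  omega

/-- the isometries in the symplectic centralizer are the orthogonal centralizer -/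
theorem card_isoCentralizer (x : ↥(Cfsg.isometryGroup F (quadFormPlus m F)))
    (x' : ↥(Matrix.symplecticGroup (Fin m) F))
    (hxx : (x' : Matrix (Fin m ⊕ Fin m) (Fin m ⊕ Fin m) F) =
      ((x : GL (Fin m ⊕ Fin m) F) : Matrix (Fin m ⊕ Fin m) (Fin m ⊕ Fin m) F)) :
    Nat.card {g : ↥(Subgroup.centralizer ({x'} : Set ↥(Matrix.symplecticGroup (Fin m) F))) //
        ∀ v, quadFormPlus m F
          (((g : ↥(Matrix.symplecticGroup (Fin m) F)) :
            Matrix (Fin m ⊕ Fin m) (Fin m ⊕ Fin m) F) *ᵥ v) = quadFormPlus m F v} =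
      Nat.card {g : ↥(Cfsg.isometryGroup F (quadFormPlus m F)) // g * x = x * g} := by
  apply Nat.card_congr
  exact
    { toFun := fun g => ⟨⟨⟨(g.1.1 : Matrix (Fin m ⊕ Fin m) (Fin m ⊕ Fin m) F),
          ((g.1.1⁻¹ : ↥(Matrix.symplecticGroup (Fin m) F)) :
            Matrix (Fin m ⊕ Fin m) (Fin m ⊕ Fin m) F), coe_mul_inv _, coe_inv_mul _⟩,
          (mem_isometryGroup_iff _).2 g.2⟩, by
        have h1 := Subgroup.mem_centralizer_singleton_iff.1 g.1.2
        have h3 := congrArg (fun z : ↥(Matrix.symplecticGroup (Fin m) F) =>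
          (z : Matrix (Fin m ⊕ Fin m) (Fin m ⊕ Fin m) F)) h1
        simp only [Submonoid.coe_mul, hxx] at h3
        apply Subtype.ext
        apply Units.ext
        exact h3⟩
      invFun := fun g => ⟨⟨⟨((g.1 : GL (Fin m ⊕ Fin m) F) :
          Matrix (Fin m ⊕ Fin m) (Fin m ⊕ Fin m) F),
          symp_of_isometry _ ((mem_isometryGroup_iff _).1 g.1.2)⟩, by
        rw [Subgroup.mem_centralizer_singleton_iff]
        apply Subtype.ext
        rw [Submonoid.coe_mul, Submonoid.coe_mul, hxx]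
        have h1 := congrArg (fun z : ↥(Cfsg.isometryGroup F (quadFormPlus m F)) =>
          ((z : GL (Fin m ⊕ Fin m) F) : Matrix (Fin m ⊕ Fin m) (Fin m ⊕ Fin m) F)) g.2
        simpa using h1⟩, (mem_isometryGroup_iff _).1 g.1.2⟩
      left_inv := fun g => rfl
      right_inv := fun g => Subtype.ext (Subtype.ext (Units.ext rfl)) }

end Concrete

end Cfsg.Agent.Lib.Helper8.OrbQ
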