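import Mathlib
import Cfsg.Agent.Lib.Helper8.OrbQC
import Cfsg.Agent.Lib.Helper5.Orth.ParityTwoMain

/-! # Centralizers of non-alternating involutions in `Ω⁺`, characteristic two (helper8) -/

set_option autoImplicit false
open Cfsg

namespace Cfsg.Agent.Lib.Helper8.OrbQ

open Matrix Cfsg.Agent.Lib.Helper5.Symp Cfsg.Agent.S0245 Cfsg.Agent.Lib.Helper8.SpInv
  Cfsg.Agent.S2166 Cfsg.Agent.Lib.Helper5.SympCount Cfsg.Agent.H9.Orth
  Cfsg.Agent.Lib.Helper5.OrthPar Cfsg.Agent.Lib.Helper5.OrthTv Cfsg.Agent.S2595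
  Cfsg.Agent.Lib.Helper5.OrthPM

section Concrete

variable {F : Type*} [Field F] [Fintype F] [CharP F 2] {m : ℕ}

/-- the symplectic matrix of an isometry -/
def toSp (x : ↥(Cfsg.isometryGroup F (quadFormPlus m F))) :
    ↥(Matrix.symplecticGroup (Fin m) F) :=
  ⟨((x : GL (Fin m ⊕ Fin m) F) : Matrix (Fin m ⊕ Fin m) (Fin m ⊕ Fin m) F),
    symp_of_isometry _ ((mem_isometryGroup_iff _).1 x.2)⟩

theorem toSp_coe (x : ↥(Cfsg.isometryGroup F (quadFormPlus m F))) :
    (toSp x : Matrix (Fin m ⊕ Fin m) (Fin m ⊕ Fin m) F) =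
      ((x : GL (Fin m ⊕ Fin m) F) : Matrix (Fin m ⊕ Fin m) (Fin m ⊕ Fin m) F) := rfl

theorem toSp_sq (x : ↥(Cfsg.isometryGroup F (quadFormPlus m F))) (hx : x ^ 2 = 1) :
    toSp x * toSp x = 1 := by
  apply Subtype.ext
  rw [Submonoid.coe_mul, Submonoid.coe_one, toSp_coe]
  rw [pow_two] at hx
  have := congrArg (fun z : ↥(Cfsg.isometryGroup F (quadFormPlus m F)) =>
    ((z : GL (Fin m ⊕ Fin m) F) : Matrix (Fin m ⊕ Fin m) (Fin m ⊕ Fin m) F)) hx
  simpa using this

/-- the type of an isometry via the quadratic form on the image of `x - 1` -/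
theorem form_eq (x : ↥(Cfsg.isometryGroup F (quadFormPlus m F))) (v : Fin m ⊕ Fin m → F) :
    quadFormPlus m F ((((x : GL (Fin m ⊕ Fin m) F) :
      Matrix (Fin m ⊕ Fin m) (Fin m ⊕ Fin m) F) - 1) *ᵥ v) =
    sympForm m F v (((x : GL (Fin m ⊕ Fin m) F) :
      Matrix (Fin m ⊕ Fin m) (Fin m ⊕ Fin m) F) *ᵥ v) := by
  have h2 : (2 : F) = 0 := CharTwo.two_eq_zero
  have hqf := isQF_plus (F := F) (m := m)
  have hx := (mem_isometryGroup_iff _).1 x.2 v
  rw [act] at hx
  rw [Matrix.sub_mulVec, Matrix.one_mulVec, sub_eq_add_neg, hqf.add]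
  have h3 : quadFormPlus m F (-v) = quadFormPlus m F v := by
    have := hqf.smul (-1) v
    rw [neg_one_smul] at this
    rw [this]
    ring
  rw [h3, hx, map_neg, sympBilin_symm, sympBilin_apply]
  linear_combination (quadFormPlus m F v - sympForm m F v (((x : GL (Fin m ⊕ Fin m) F) :
      Matrix (Fin m ⊕ Fin m) (Fin m ⊕ Fin m) F) *ᵥ v)) * h2

/-- the centralizer in `Ω⁺` of a non-alternating involution against its centralizer in `Sp` -/
theorem card_cent_omega_nonalt (h : Fintype.card F ≠ 2 ∨ m ≠ 2)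
    (x : ↥(Cfsg.isometryGroup F (quadFormPlus m F))) (hx : x ^ 2 = 1) {s : ℕ}
    (hs : (((x : GL (Fin m ⊕ Fin m) F) : Matrix (Fin m ⊕ Fin m) (Fin m ⊕ Fin m) F) - 1).rank = s)
    (hna : ∃ v : Fin m ⊕ Fin m → F, quadFormPlus m F ((((x : GL (Fin m ⊕ Fin m) F) :
      Matrix (Fin m ⊕ Fin m) (Fin m ⊕ Fin m) F) - 1) *ᵥ v) ≠ 0) :
    Nat.card {g : ↥(Cfsg.Omega F (quadFormPlus m F)) //
      (g : ↥(Cfsg.isometryGroup F (quadFormPlus m F))) * x =
        x * (g : ↥(Cfsg.isometryGroup F (quadFormPlus m F)))} * Fintype.card F ^ (2 * m - s) =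
    Nat.card ↥(Subgroup.centralizer ({toSp x} : Set ↥(Matrix.symplecticGroup (Fin m) F))) := by
  have h2 : (2 : F) = 0 := CharTwo.two_eq_zero
  have hQ := quadFormPlus_nondeg (F := F) m
  have hm : 1 ≤ m := by
    by_contra hm0
    have hm0' : m = 0 := by omega
    subst hm0'
    obtain ⟨v, hv⟩ := hna
    apply hv
    unfold quadFormPlus
    simp
  have hcard : Fintype.card (Fin m ⊕ Fin m) = 2 * m := by
    rw [Fintype.card_sum, Fintype.card_fin]; ring
  have h' : Fintype.card F ≠ 2 ∨ Fintype.card (Fin m ⊕ Fin m) ≠ 4 := by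
    rcases h with h | h
    · exact Or.inl h
    · right
      rw [hcard]
      omega
  have : Nonempty (Fin m ⊕ Fin m) := ⟨Sum.inl ⟨0, hm⟩⟩
  have hidx := omega_index_two hQ h'
  have hx1 : x ≠ 1 := by
    intro h1
    obtain ⟨v, hv⟩ := hna
    apply hv
    rw [h1]
    simp only [OneMemClass.coe_one, Units.val_one, sub_self, Matrix.zero_mulVec]
    exact (isQF_plus (F := F) (m := m)).zero
  have ho : orderOf x = 2 := orderOf_eq_prime hx hx1
  have hnaQ : ¬ IsAltQ (quadFormPlus m F) x := by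
    rw [isAltQ_iff]
    intro hall
    obtain ⟨v, hv⟩ := hna
    apply hv
    have := hall v
    rw [act] at this
    rw [Matrix.sub_mulVec, Matrix.one_mulVec, ← this]
    congr 1
    have hvv : v + v = 0 := by rw [← two_smul F v, h2, zero_smul]
    have : -v = v := neg_eq_of_add_eq_zero_left hvv
    rw [sub_eq_add_neg, this, add_comm]
  obtain ⟨z, hz1, hz2⟩ := exists_odd_centralizer_nonalt hQ x ho hnaQ
  have hzΩ : z ∉ Cfsg.Omega F (quadFormPlus m F) := by
    intro hz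
    exact hz2 ((mem_omega_iff_even_all hQ h' z).1 hz)
  have hxQ : ∀ v, quadFormPlus m F
      ((toSp x : Matrix (Fin m ⊕ Fin m) (Fin m ⊕ Fin m) F) *ᵥ v) = quadFormPlus m F v :=
    (mem_isometryGroup_iff _).1 x.2
  have hA := card_centralizer_sp hm (toSp x) (toSp_sq x hx) hxQ
  have hB := two_card_asK_nonalt (toSp x) (toSp_sq x hx) hxQ hna
  have hC := card_fixed (F := F) (m := m) _ hs
  have hD := card_isoCentralizer x (toSp x) rfl
  have hE := card_centralizer_omega hidx x z hz1 hzΩ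
  simp only [toSp_coe] at hA hB
  rw [hA, hD, hE, ← hC, ← hB]
  ring

end Concrete

end Cfsg.Agent.Lib.Helper8.OrbQ
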