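import Mathlib
import Cfsg.Agent.Lib.Helper8.OrbQD

/-! # The quadratic character sum of a quadratic form in characteristic two (helper8) -/

set_option autoImplicit false
open Cfsg

namespace Cfsg.Agent.Lib.Helper8.OrbQ

universe u v

section Chi

variable {F : Type v} [Field F] [CharP F 2]

open Classical in
/-- the additive character of order two whose kernel is the Artin--Schreier image -/
noncomputable def chi (c : F) : ℤ := if IsAS c then 1 else -1

theorem chi_zero : chi (0 : F) = 1 := if_pos isAS_zero

theorem chi_of_isAS {c : F} (h : IsAS c) : chi c = 1 := if_pos h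

theorem chi_of_not {c : F} (h : ¬ IsAS c) : chi c = -1 := if_neg h

theorem chi_add [Finite F] (a b : F) : chi (a + b) = chi a * chi b := by
  by_cases ha : IsAS a <;> by_cases hb : IsAS b
  · rw [chi_of_isAS ha, chi_of_isAS hb, chi_of_isAS (ha.add hb)]; norm_num
  · rw [chi_of_isAS ha, chi_of_not hb, chi_of_not (not_isAS_add ha hb)]; norm_num
  · rw [chi_of_not ha, chi_of_isAS hb, chi_of_not (by rw [add_comm]; exact not_isAS_add hb ha)]
    norm_num
  · rw [chi_of_not ha, chi_of_not hb, chi_of_isAS (isAS_add_of_not ha hb)]; norm_num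

variable {V : Type u} [AddCommGroup V] [Module F V] [Fintype V]

/-- the character sum of a nonzero linear functional vanishes -/
theorem sum_chi_lin [Finite F] (f : V →ₗ[F] F) (hf : f ≠ 0) : ∑ v : V, chi (f v) = 0 := by
  obtain ⟨c0, hc0⟩ := exists_not_isAS (F := F)
  obtain ⟨u1, hu1⟩ : ∃ u1, f u1 ≠ 0 := by
    by_contra hcon
    push Not at hcon
    exact hf (LinearMap.ext hcon)
  have h1 : f ((c0 / f u1) • u1) = c0 := by
    rw [map_smul, smul_eq_mul, div_mul_cancel₀ _ hu1]
  have h2 : ∑ v : V, chi (f v) = ∑ v : V, chi (f (v + (c0 / f u1) • u1)) :=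
    (Equiv.sum_comp (Equiv.addRight ((c0 / f u1) • u1)) (fun v => chi (f v))).symm
  have h3 : ∑ v : V, chi (f (v + (c0 / f u1) • u1)) = - ∑ v : V, chi (f v) := by
    rw [← Finset.sum_neg_distrib]
    apply Finset.sum_congr rfl
    intro v _
    rw [map_add, h1, chi_add, chi_of_not hc0]
    ring
  omega

theorem sum_chi_zero : ∑ _v : V, chi (0 : F) = (Fintype.card V : ℤ) := by
  rw [chi_zero, Finset.sum_const, Finset.card_univ]
  simp

variable {B : LinearMap.BilinForm F V}

/-- the character sum over the kernel of a self-adjoint map with totally singular image equals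
the character sum over the whole space -/
theorem sum_chi_ker [Finite F] [DecidableEq V] (hB : B.Nondegenerate) {Q' : V → F}
    (h : IsQF B Q') (N : V →ₗ[F] V) (hN : ∀ v, Q' (N v) = 0)
    (hadj : ∀ u v, B (N u) v = B u (N v)) :
    ∑ v : V, (if N v = 0 then chi (Q' v) else 0) = ∑ v : V, chi (Q' v) := by
  have hT1 : ∑ v : V, ∑ v' : V, chi (Q' (v + N v')) =
      (Fintype.card V : ℤ) * ∑ v : V, chi (Q' v) := by
    rw [Finset.sum_comm]
    have : ∀ v' : V, ∑ v : V, chi (Q' (v + N v')) = ∑ v : V, chi (Q' v) := fun v' =>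
      Equiv.sum_comp (Equiv.addRight (N v')) (fun v => chi (Q' v))
    rw [Finset.sum_congr rfl (fun v' _ => this v'), Finset.sum_const, Finset.card_univ]
    simp
  have hT2 : ∑ v : V, ∑ v' : V, chi (Q' (v + N v')) =
      (Fintype.card V : ℤ) * ∑ v : V, (if N v = 0 then chi (Q' v) else 0) := by
    rw [Finset.mul_sum]
    apply Finset.sum_congr rfl
    intro v _
    have h1 : ∀ v' : V, chi (Q' (v + N v')) = chi (Q' v) * chi (B (N v) v') := by
      intro v'
      rw [h.add, hN, add_zero, ← hadj, chi_add]
    rw [Finset.sum_congr rfl (fun v' _ => h1 v'), ← Finset.mul_sum]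
    split_ifs with hv
    · rw [hv, map_zero]
      simp only [LinearMap.zero_apply]
      rw [sum_chi_zero]
      ring
    · rw [sum_chi_lin (B (N v)), mul_zero, mul_zero]
      intro h0
      apply hv
      apply hB.1 (N v)
      intro w
      rw [h0]
      rfl
  have hV : (Fintype.card V : ℤ) ≠ 0 := by
    have : 0 < Fintype.card V := Fintype.card_pos
    omega
  rw [hT1] at hT2
  exact (mul_left_cancel₀ hV hT2).symm

end Chi

end Cfsg.Agent.Lib.Helper8.OrbQ
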