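import Mathlib
import Cfsg.Agent.Lib.Helper8.OrbQE

/-! # Fixed vectors with norm in the Artin--Schreier image: involutions of alternating type
(helper8) -/

set_option autoImplicit false
open Cfsg

namespace Cfsg.Agent.Lib.Helper8.OrbQ

open Matrix Cfsg.Agent.Lib.Helper5.Symp Cfsg.Agent.S0245 Cfsg.Agent.Lib.Helper8.SpInv
  Cfsg.Agent.S2166 Cfsg.Agent.Lib.Helper5.SympCount

section Concrete

variable {F : Type*} [Field F] [CharP F 2] {m : ℕ}

/-- the dot product with a fixed vector -/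
def dotL (a : Fin m → F) : (Fin m → F) →ₗ[F] F where
  toFun b := ∑ i, a i * b i
  map_add' x y := by
    simp only [Pi.add_apply, mul_add, Finset.sum_add_distrib]
  map_smul' c x := by
    simp only [Pi.smul_apply, smul_eq_mul, RingHom.id_apply, Finset.mul_sum]
    apply Finset.sum_congr rfl
    intro i _
    ring

theorem dotL_apply (a b : Fin m → F) : dotL a b = ∑ i, a i * b i := rfl

theorem dotL_eq_zero (a : Fin m → F) (h : dotL a = 0) : a = 0 := by
  funext i
  have := LinearMap.congr_fun h (Pi.single i 1)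
  rw [dotL_apply] at this
  simpa [Pi.single_apply] using this

variable [Fintype F]

theorem sum_chi_plus :
    ∑ v : Fin m ⊕ Fin m → F, chi (quadFormPlus m F v) = (Fintype.card F : ℤ) ^ m := by
  classical
  rw [← Equiv.sum_comp (Equiv.sumArrowEquivProdArrow (Fin m) (Fin m) F).symm,
    Fintype.sum_prod_type]
  have h1 : ∀ a : Fin m → F, ∑ b : Fin m → F, chi (quadFormPlus m F
      ((Equiv.sumArrowEquivProdArrow (Fin m) (Fin m) F).symm (a, b))) =
      if a = 0 then (Fintype.card F : ℤ) ^ m else 0 := by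
    intro a
    have h2 : ∀ b : Fin m → F, quadFormPlus m F
        ((Equiv.sumArrowEquivProdArrow (Fin m) (Fin m) F).symm (a, b)) = dotL a b := by
      intro b
      rfl
    rw [Finset.sum_congr rfl (fun b _ => congrArg chi (h2 b))]
    split_ifs with ha
    · subst ha
      have h3 : ∀ b : Fin m → F, dotL (0 : Fin m → F) b = 0 := by
        intro b
        rw [dotL_apply]
        simp
      rw [Finset.sum_congr rfl (fun b _ => congrArg chi (h3 b)), sum_chi_zero]
      simp
    · exact sum_chi_lin _ (fun h0 => ha (dotL_eq_zero a h0))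
  rw [Finset.sum_congr rfl (fun a _ => h1 a), Finset.sum_ite_eq' Finset.univ (0 : Fin m → F)]
  simp

/-- the fixed vectors of an involution of alternating type with norm in the Artin--Schreier
image -/
theorem two_card_asK_alt (x' : ↥(Matrix.symplecticGroup (Fin m) F)) (hx2 : x' * x' = 1)
    (halt : ∀ v, quadFormPlus m F
      (((x' : Matrix (Fin m ⊕ Fin m) (Fin m ⊕ Fin m) F) - 1) *ᵥ v) = 0) :
    2 * Nat.card {w : Fin m ⊕ Fin m → F //
        ((x' : Matrix (Fin m ⊕ Fin m) (Fin m ⊕ Fin m) F) - 1) *ᵥ w = 0 ∧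
          IsAS (quadFormPlus m F w)} =
      Nat.card {w : Fin m ⊕ Fin m → F //
        ((x' : Matrix (Fin m ⊕ Fin m) (Fin m ⊕ Fin m) F) - 1) *ᵥ w = 0} +
        Fintype.card F ^ m := by
  classical
  have h2 : (2 : F) = 0 := CharTwo.two_eq_zero
  have hqf := isQF_plus (F := F) (m := m)
  obtain ⟨N, hNdef⟩ : ∃ N : Matrix (Fin m ⊕ Fin m) (Fin m ⊕ Fin m) F,
      N = (x' : Matrix (Fin m ⊕ Fin m) (Fin m ⊕ Fin m) F) - 1 := ⟨_, rfl⟩
  rw [← hNdef]
  rw [← hNdef] at halt
  have hN : ∀ v, N.mulVecLin v =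
      (x' : Matrix (Fin m ⊕ Fin m) (Fin m ⊕ Fin m) F).mulVecLin v - v := by
    intro v
    rw [hNdef]
    simp only [Matrix.mulVecLin_apply, Matrix.sub_mulVec, Matrix.one_mulVec]
  have hiso : ∀ u v, sympBilin m ((x' : Matrix (Fin m ⊕ Fin m) (Fin m ⊕ Fin m) F).mulVecLin u)
      ((x' : Matrix (Fin m ⊕ Fin m) (Fin m ⊕ Fin m) F).mulVecLin v) = sympBilin m u v := by
    intro u v
    simp only [Matrix.mulVecLin_apply, sympBilin_apply]
    exact sympForm_of_mem m x'.2 u v
  have hsq : ∀ v, (x' : Matrix (Fin m ⊕ Fin m) (Fin m ⊕ Fin m) F).mulVecLin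
      ((x' : Matrix (Fin m ⊕ Fin m) (Fin m ⊕ Fin m) F).mulVecLin v) = v := by
    intro v
    simp only [Matrix.mulVecLin_apply]
    have h3 : (x' : Matrix (Fin m ⊕ Fin m) (Fin m ⊕ Fin m) F) *
        (x' : Matrix (Fin m ⊕ Fin m) (Fin m ⊕ Fin m) F) = 1 := by
      rw [← Submonoid.coe_mul, hx2, Submonoid.coe_one]
    rw [Matrix.mulVec_mulVec, h3, Matrix.one_mulVec]
  have hadj := N_adj (B := sympBilin (F := F) m) _ _ hN hiso hsq
  have hker := sum_chi_ker (sympBilin_nondegenerate (F := F) m) hqf N.mulVecLin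
    (fun v => by rw [Matrix.mulVecLin_apply]; exact halt v) hadj
  rw [sum_chi_plus] at hker
  have hker' : (∑ v : Fin m ⊕ Fin m → F,
      if N *ᵥ v = 0 then chi (quadFormPlus m F v) else 0) = (Fintype.card F : ℤ) ^ m := by
    rw [← hker]
    refine Finset.sum_congr rfl (fun v _ => ?_)
    by_cases hv : N *ᵥ v = 0
    · rw [if_pos hv, if_pos (by rw [Matrix.mulVecLin_apply]; exact hv)]
    · rw [if_neg hv, if_neg (by rw [Matrix.mulVecLin_apply]; exact hv)]
  clear hker
  have h3 : ∀ v : Fin m ⊕ Fin m → F, (if N *ᵥ v = 0 then chi (quadFormPlus m F v) else 0) =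
      2 * (if N *ᵥ v = 0 ∧ IsAS (quadFormPlus m F v) then (1 : ℤ) else 0) -
        (if N *ᵥ v = 0 then (1 : ℤ) else 0) := by
    intro v
    by_cases hv : N *ᵥ v = 0
    · by_cases hv2 : IsAS (quadFormPlus m F v)
      · rw [if_pos hv, if_pos ⟨hv, hv2⟩, if_pos hv, chi_of_isAS hv2]; norm_num
      · rw [if_pos hv, if_neg (fun h => hv2 h.2), if_pos hv, chi_of_not hv2]; norm_num
    · rw [if_neg hv, if_neg (fun h => hv h.1), if_neg hv]; norm_num
  rw [Finset.sum_congr rfl (fun v _ => h3 v), Finset.sum_sub_distrib, ← Finset.mul_sum,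
    Finset.sum_boole, Finset.sum_boole] at hker'
  rw [Nat.card_eq_fintype_card, Nat.card_eq_fintype_card, Fintype.card_subtype,
    Fintype.card_subtype]
  have h4 : (2 * ((Finset.univ.filter (fun v : Fin m ⊕ Fin m → F =>
      N *ᵥ v = 0 ∧ IsAS (quadFormPlus m F v))).card : ℤ) : ℤ) =
      ((Finset.univ.filter (fun v : Fin m ⊕ Fin m → F => N *ᵥ v = 0)).card : ℤ) +
        (Fintype.card F : ℤ) ^ m := by
    linarith
  exact_mod_cast h4

end Concrete

end Cfsg.Agent.Lib.Helper8.OrbQ
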