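import Mathlib
import Cfsg.Agent.Lib.Helper8.OrbQF
import Cfsg.Agent.S2597

/-! # Centralizers of alternating involutions in `Ω⁺`, characteristic two (helper8) -/

set_option autoImplicit false
open Cfsg

namespace Cfsg.Agent.Lib.Helper8.OrbQ

open Matrix Cfsg.Agent.Lib.Helper5.Symp Cfsg.Agent.S0245 Cfsg.Agent.Lib.Helper8.SpInv
  Cfsg.Agent.S2166 Cfsg.Agent.Lib.Helper5.SympCount Cfsg.Agent.H9.Orth
  Cfsg.Agent.Lib.Helper5.OrthPar Cfsg.Agent.Lib.Helper5.OrthTv Cfsg.Agent.S2595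
  Cfsg.Agent.Lib.Helper5.OrthPM Cfsg.Agent.Lib.Helper8.OmegaInv

section Concrete

variable {F : Type*} [Field F] [Fintype F] [CharP F 2] {m : ℕ}

/-- the centralizer in `Ω⁺` of an alternating involution of non-maximal rank against its
centralizer in `Sp` -/
theorem card_cent_omega_alt_lt (h : Fintype.card F ≠ 2 ∨ m ≠ 2)
    (x : ↥(Cfsg.isometryGroup F (quadFormPlus m F))) (hx : x ^ 2 = 1) {s : ℕ}
    (hs : (((x : GL (Fin m ⊕ Fin m) F) : Matrix (Fin m ⊕ Fin m) (Fin m ⊕ Fin m) F) - 1).rank = s)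
    (hsm : s < m)
    (halt : ∀ v : Fin m ⊕ Fin m → F, quadFormPlus m F ((((x : GL (Fin m ⊕ Fin m) F) :
      Matrix (Fin m ⊕ Fin m) (Fin m ⊕ Fin m) F) - 1) *ᵥ v) = 0) :
    Nat.card {g : ↥(Cfsg.Omega F (quadFormPlus m F)) //
      (g : ↥(Cfsg.isometryGroup F (quadFormPlus m F))) * x =
        x * (g : ↥(Cfsg.isometryGroup F (quadFormPlus m F)))} *
        (Fintype.card F ^ (2 * m - s) + Fintype.card F ^ m) =
    Nat.card ↥(Subgroup.centralizer ({toSp x} : Set ↥(Matrix.symplecticGroup (Fin m) F))) := by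
  have h2 : (2 : F) = 0 := CharTwo.two_eq_zero
  have hQ := quadFormPlus_nondeg (F := F) m
  have hm : 1 ≤ m := by omega
  have hcard : Fintype.card (Fin m ⊕ Fin m) = 2 * m := by
    rw [Fintype.card_sum, Fintype.card_fin]; ring
  have h' : Fintype.card F ≠ 2 ∨ Fintype.card (Fin m ⊕ Fin m) ≠ 4 := by
    rcases h with h | h
    · exact Or.inl h
    · right
      rw [hcard]
      omega
  have : Nonempty (Fin m ⊕ Fin m) := ⟨Sum.inl ⟨0, hm⟩⟩
  have hidx := omega_index_two hQ h'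
  obtain ⟨z, hz1, hz2⟩ := exists_odd_centralizer_of_rank_lt hQ x (by rw [hs, hcard]; omega)
  have hzΩ : z ∉ Cfsg.Omega F (quadFormPlus m F) := by
    intro hz
    exact hz2 ((mem_omega_iff_even_all hQ h' z).1 hz)
  have hxQ : ∀ v, quadFormPlus m F
      ((toSp x : Matrix (Fin m ⊕ Fin m) (Fin m ⊕ Fin m) F) *ᵥ v) = quadFormPlus m F v :=
    (mem_isometryGroup_iff _).1 x.2
  have hA := card_centralizer_sp hm (toSp x) (toSp_sq x hx) hxQ
  have hB := two_card_asK_alt (toSp x) (toSp_sq x hx) halt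
  have hC := card_fixed (F := F) (m := m) _ hs
  have hD := card_isoCentralizer x (toSp x) rfl
  have hE := card_centralizer_omega hidx x z hz1 hzΩ
  simp only [toSp_coe] at hA hB
  rw [hA, hD, hE, ← hC]
  rw [hC] at hB ⊢
  have : Nat.card {g : ↥(Cfsg.Omega F (quadFormPlus m F)) //
      (g : ↥(Cfsg.isometryGroup F (quadFormPlus m F))) * x =
        x * (g : ↥(Cfsg.isometryGroup F (quadFormPlus m F)))} *
        (Fintype.card F ^ (2 * m - s) + Fintype.card F ^ m) =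
      (2 * Nat.card {w : Fin m ⊕ Fin m → F //
        (((x : GL (Fin m ⊕ Fin m) F) : Matrix (Fin m ⊕ Fin m) (Fin m ⊕ Fin m) F) - 1) *ᵥ w = 0 ∧
          IsAS (quadFormPlus m F w)}) * Nat.card {g : ↥(Cfsg.Omega F (quadFormPlus m F)) //
      (g : ↥(Cfsg.isometryGroup F (quadFormPlus m F))) * x =
        x * (g : ↥(Cfsg.isometryGroup F (quadFormPlus m F)))} := by
    rw [hB]
    ring
  rw [this]
  ring

/-- the centralizer in `O⁺` of an alternating involution of maximal rank lies in `Ω⁺` -/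
theorem cent_le_omega_of_alt_max (h : Fintype.card F ≠ 2 ∨ m ≠ 2)
    (x : ↥(Cfsg.isometryGroup F (quadFormPlus m F))) (hm : 1 ≤ m) (hev : Even m)
    (hs : (((x : GL (Fin m ⊕ Fin m) F) : Matrix (Fin m ⊕ Fin m) (Fin m ⊕ Fin m) F) - 1).rank = m)
    (halt : ∀ v : Fin m ⊕ Fin m → F, quadFormPlus m F ((((x : GL (Fin m ⊕ Fin m) F) :
      Matrix (Fin m ⊕ Fin m) (Fin m ⊕ Fin m) F) - 1) *ᵥ v) = 0)
    (z : ↥(Cfsg.isometryGroup F (quadFormPlus m F))) (hz : z * x = x * z) :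
    z ∈ Cfsg.Omega F (quadFormPlus m F) := by
  have h2 : (2 : F) = 0 := CharTwo.two_eq_zero
  have hQ := quadFormPlus_nondeg (F := F) m
  have hcard : Fintype.card (Fin m ⊕ Fin m) = 2 * m := by
    rw [Fintype.card_sum, Fintype.card_fin]; ring
  have h' : Fintype.card F ≠ 2 ∨ Fintype.card (Fin m ⊕ Fin m) ≠ 4 := by
    rcases h with h | h
    · exact Or.inl h
    · right
      rw [hcard]
      omega
  have hgen : Cfsg.isometryGroup F (quadFormPlus m F) ≤ RR hQ :=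
    Cfsg.Agent.H9.Orth.iso_le_RR hQ h'
  by_contra hzΩ
  have hzpar : ¬ par (z : GL (Fin m ⊕ Fin m) F) := by
    intro hp
    exact hzΩ ((mem_omega_iff_even_all hQ h' z).2 hp)
  have hxΩ : x ∈ Cfsg.Omega F (quadFormPlus m F) := by
    rw [mem_omega_iff_even_all hQ h', hs]
    exact hev
  have halt' : ∀ v : Fin m ⊕ Fin m → F,
      quadFormPlus m F (v + act (x : GL (Fin m ⊕ Fin m) F) v) = 0 := by
    intro v
    have := halt v
    rw [Matrix.sub_mulVec, Matrix.one_mulVec] at this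
    rw [← this, act]
    congr 1
    have hvv : v + v = 0 := by rw [← two_smul F v, h2, zero_smul]
    have : -v = v := neg_eq_of_add_eq_zero_left hvv
    rw [sub_eq_add_neg, this, add_comm]
  have hx0 : quadFormPlus m F (Cfsg.Agent.S2597.x0 F m hm) ≠ 0 := by
    rw [Cfsg.Agent.S2597.Q_x0]
    exact one_ne_zero
  apply split_not_conj hQ h' m hcard x hxΩ hs halt' (Cfsg.Agent.S2597.x0 F m hm) hx0
  refine ⟨R hQ (Cfsg.Agent.S2597.x0 F m hm) * z, ?_, ?_⟩
  · rw [mem_omega_iff_even_all hQ h']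
    have h1 := (par_mul_gen hQ hgen (R hQ (Cfsg.Agent.S2597.x0 F m hm) : GL (Fin m ⊕ Fin m) F)
      (z : GL (Fin m ⊕ Fin m) F) (R hQ (Cfsg.Agent.S2597.x0 F m hm)).2 z.2).2
    apply h1
    exact ⟨fun h1 => absurd h1 (not_par_rf hQ _ hx0), fun h1 => absurd h1 hzpar⟩
  · have hzt : z * x * z⁻¹ = x := by rw [hz]; group
    calc R hQ (Cfsg.Agent.S2597.x0 F m hm) * z * x * (R hQ (Cfsg.Agent.S2597.x0 F m hm) * z)⁻¹ =
        R hQ (Cfsg.Agent.S2597.x0 F m hm) * (z * x * z⁻¹) *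
          (R hQ (Cfsg.Agent.S2597.x0 F m hm))⁻¹ := by group
      _ = _ := by rw [hzt]

/-- the centralizer in `Ω⁺` of an alternating involution of maximal rank against its
centralizer in `Sp` -/
theorem card_cent_omega_alt_eq (h : Fintype.card F ≠ 2 ∨ m ≠ 2)
    (x : ↥(Cfsg.isometryGroup F (quadFormPlus m F))) (hx : x ^ 2 = 1) (hm : 1 ≤ m)
    (hev : Even m)
    (hs : (((x : GL (Fin m ⊕ Fin m) F) : Matrix (Fin m ⊕ Fin m) (Fin m ⊕ Fin m) F) - 1).rank = m)
    (halt : ∀ v : Fin m ⊕ Fin m → F, quadFormPlus m F ((((x : GL (Fin m ⊕ Fin m) F) :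
      Matrix (Fin m ⊕ Fin m) (Fin m ⊕ Fin m) F) - 1) *ᵥ v) = 0) :
    Nat.card {g : ↥(Cfsg.Omega F (quadFormPlus m F)) //
      (g : ↥(Cfsg.isometryGroup F (quadFormPlus m F))) * x =
        x * (g : ↥(Cfsg.isometryGroup F (quadFormPlus m F)))} * Fintype.card F ^ m =
    Nat.card ↥(Subgroup.centralizer ({toSp x} : Set ↥(Matrix.symplecticGroup (Fin m) F))) := by
  have hxQ : ∀ v, quadFormPlus m F
      ((toSp x : Matrix (Fin m ⊕ Fin m) (Fin m ⊕ Fin m) F) *ᵥ v) = quadFormPlus m F v :=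
    (mem_isometryGroup_iff _).1 x.2
  have hA := card_centralizer_sp hm (toSp x) (toSp_sq x hx) hxQ
  have hB := two_card_asK_alt (toSp x) (toSp_sq x hx) halt
  have hC := card_fixed (F := F) (m := m) _ hs
  have hD := card_isoCentralizer x (toSp x) rfl
  have hE : Nat.card {g : ↥(Cfsg.isometryGroup F (quadFormPlus m F)) // g * x = x * g} =
      Nat.card {g : ↥(Cfsg.Omega F (quadFormPlus m F)) //
        (g : ↥(Cfsg.isometryGroup F (quadFormPlus m F))) * x =
          x * (g : ↥(Cfsg.isometryGroup F (quadFormPlus m F)))} := by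
    apply Nat.card_congr
    exact
      { toFun := fun g => ⟨⟨g.1, cent_le_omega_of_alt_max h x hm hev hs halt g.1 g.2⟩, g.2⟩
        invFun := fun g => ⟨g.1.1, g.2⟩
        left_inv := fun g => rfl
        right_inv := fun g => rfl }
  simp only [toSp_coe] at hA hB
  rw [hA, hD, hE]
  rw [hC] at hB
  have e1 : 2 * m - m = m := by omega
  rw [e1] at hB
  have : Nat.card {w : Fin m ⊕ Fin m → F //
        (((x : GL (Fin m ⊕ Fin m) F) : Matrix (Fin m ⊕ Fin m) (Fin m ⊕ Fin m) F) - 1) *ᵥ w = 0 ∧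
          IsAS (quadFormPlus m F w)} = Fintype.card F ^ m := by omega
  rw [this]
  ring

end Concrete

end Cfsg.Agent.Lib.Helper8.OrbQ
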