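import Mathlib
import Cfsg.Agent.Lib.Helper8.GUOrth

/-! # The quadratic extension generated by a primitive cube root of unity (helper8) -/

set_option autoImplicit false

namespace Cfsg.Agent.Lib.Helper8.Ord3

open Polynomial Cfsg.Agent.Lib.Helper8.GUOrth

section Poly

variable (F : Type*) [Field F]

/-- the polynomial `X ^ 2 + X + 1` -/
noncomputable def f3 : F[X] := X ^ 2 + X + 1

theorem f3_monic : (f3 F).Monic := by
  unfold f3
  monicity!

theorem f3_natDegree : (f3 F).natDegree = 2 := by
  unfold f3
  compute_degree!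

theorem f3_degree : (f3 F).degree = 2 := by
  rw [degree_eq_natDegree (f3_monic F).ne_zero, f3_natDegree]
  rfl

theorem f3_ne_zero : f3 F ≠ 0 := (f3_monic F).ne_zero

variable {F}

/-- irreducibility over a field with `q ≡ 2 (mod 3)` elements -/
theorem f3_irreducible [Fintype F] {q : ℕ} (hF : Fintype.card F = q) (hq : q % 3 = 2) :
    Irreducible (f3 F) := by
  apply irreducible_of_degree_le_three_of_not_isRoot
  · rw [f3_natDegree]
    decide
  · intro a ha
    have h0 : a ^ 2 + a + 1 = 0 := by
      unfold f3 at ha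
      simpa [IsRoot] using ha
    have h3 : a ^ 3 = 1 := by linear_combination (a - 1) * h0
    have ha0 : a ≠ 0 := by
      intro h
      rw [h] at h0
      simp at h0
    have hq1 : a ^ (q - 1) = 1 := by
      rw [← hF]
      exact FiniteField.pow_card_sub_one_eq_one a ha0
    have hq3 : a ^ (q - 1) = a := by
      obtain ⟨j, hj⟩ : ∃ j, q - 1 = 3 * j + 1 := ⟨(q - 1) / 3, by omega⟩
      rw [hj, pow_succ, pow_mul, h3, one_pow, one_mul]
    have ha1 : a = 1 := by rw [← hq3, hq1]
    rw [ha1] at h0
    have h30 : (3 : F) = 0 := by linear_combination h0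
    have hq0 : (q : F) = 0 := by
      rw [← hF]
      exact FiniteField.cast_card_eq_zero F
    obtain ⟨j, hj⟩ : ∃ j, q = 3 * j + 2 := ⟨q / 3, by omega⟩
    rw [hj] at hq0
    push_cast at hq0
    have h20 : (2 : F) = 0 := by linear_combination hq0 - (j : F) * h30
    have : (1 : F) = 0 := by linear_combination h30 - h20
    exact one_ne_zero this

end Poly

section Field

variable (F : Type*) [Field F]

/-- the quadratic extension `F[ω]` -/
abbrev K3 : Type _ := AdjoinRoot (f3 F)

/-- the primitive cube root of unity -/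
noncomputable def om : K3 F := AdjoinRoot.root (f3 F)

variable {F}

theorem om_sq : om F ^ 2 + om F + 1 = 0 := by
  have h := AdjoinRoot.mk_self (f := f3 F)
  unfold f3 at h
  rw [map_add, map_add, map_pow, AdjoinRoot.mk_X, map_one] at h
  exact h

theorem om_cube : om F ^ 3 = 1 := by
  linear_combination (om F - 1) * om_sq (F := F)

/-- every element is `a + b ω` -/
theorem exists_repr (κ : K3 F) :
    ∃ a b : F, κ = algebraMap F (K3 F) a + algebraMap F (K3 F) b * om F := by
  induction κ using AdjoinRoot.induction_on with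
  | ih p =>
    have h1 : AdjoinRoot.mk (f3 F) p = AdjoinRoot.mk (f3 F) (p %ₘ f3 F) := by
      rw [AdjoinRoot.mk_eq_mk]
      have := modByMonic_add_div p (f3 F)
      exact ⟨p /ₘ f3 F, by linear_combination this.symm⟩
    have hne1 : f3 F ≠ 1 := by
      intro h
      have := f3_natDegree F
      rw [h, natDegree_one] at this
      omega
    have hdeg : (p %ₘ f3 F).natDegree ≤ 1 := by
      have := natDegree_modByMonic_lt p (f3_monic F) hne1
      rw [f3_natDegree] at this
      omega
    have h3 := eq_X_add_C_of_natDegree_le_one hdeg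
    refine ⟨(p %ₘ f3 F).coeff 0, (p %ₘ f3 F).coeff 1, ?_⟩
    rw [h1]
    conv_lhs => rw [h3]
    rw [map_add, map_mul, AdjoinRoot.mk_C, AdjoinRoot.mk_C, AdjoinRoot.mk_X]
    unfold om
    rw [add_comm]
    rfl

/-- `1, ω` are linearly independent -/
theorem repr_zero (a b : F) (h : algebraMap F (K3 F) a + algebraMap F (K3 F) b * om F = 0) :
    a = 0 ∧ b = 0 := by
  have h1 : AdjoinRoot.mk (f3 F) (C a + C b * X) = 0 := by
    rw [map_add, map_mul, AdjoinRoot.mk_C, AdjoinRoot.mk_C, AdjoinRoot.mk_X]
    exact h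
  rw [AdjoinRoot.mk_eq_zero] at h1
  have h3 : C a + C b * X = 0 := by
    apply eq_zero_of_dvd_of_degree_lt h1
    rw [f3_degree]
    have : (C a + C b * X).degree ≤ 1 := by
      compute_degree
    exact lt_of_le_of_lt this (by norm_num)
  have e0 := congrArg (fun p : F[X] => p.coeff 0) h3
  have e1 := congrArg (fun p : F[X] => p.coeff 1) h3
  simp at e0 e1
  exact ⟨e0, e1⟩

theorem repr_inj (a b a' b' : F)
    (h : algebraMap F (K3 F) a + algebraMap F (K3 F) b * om F =
      algebraMap F (K3 F) a' + algebraMap F (K3 F) b' * om F) : a = a' ∧ b = b' := by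
  have h1 : algebraMap F (K3 F) (a - a') + algebraMap F (K3 F) (b - b') * om F = 0 := by
    rw [map_sub, map_sub]
    linear_combination h
  obtain ⟨e1, e2⟩ := repr_zero _ _ h1
  exact ⟨sub_eq_zero.1 e1, sub_eq_zero.1 e2⟩

end Field

section Finite

variable {F : Type*} [Field F] [Fintype F] [Fact (Irreducible (f3 F))]

noncomputable instance : Fintype (K3 F) := by
  haveI : Module.Finite F (K3 F) := (AdjoinRoot.powerBasis (f3_ne_zero F)).finite
  haveI : Finite (K3 F) := Module.finite_of_finite F
  exact Fintype.ofFinite _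

theorem finrank_K3 : Module.finrank F (K3 F) = 2 := by
  rw [(AdjoinRoot.powerBasis (f3_ne_zero F)).finrank, AdjoinRoot.powerBasis_dim, f3_natDegree]

theorem card_K3 {q : ℕ} (hF : Fintype.card F = q) : Fintype.card (K3 F) = q ^ 2 := by
  haveI : Module.Finite F (K3 F) := (AdjoinRoot.powerBasis (f3_ne_zero F)).finite
  rw [Module.card_eq_pow_finrank (K := F) (V := K3 F), finrank_K3, hF]

/-- the conjugation of `F[ω]` -/
noncomputable def sg : K3 F →+* K3 F := conj F (K3 F)

theorem sg_apply {q : ℕ} (hF : Fintype.card F = q) (κ : K3 F) : sg κ = κ ^ q := conj_apply hF κ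

theorem sg_sg {q : ℕ} (hF : Fintype.card F = q) (κ : K3 F) : sg (sg κ) = κ :=
  conj_conj hF (card_K3 hF) κ

theorem sg_algebraMap (a : F) : sg (algebraMap F (K3 F) a) = algebraMap F (K3 F) a :=
  conj_algebraMap a

theorem sg_om {q : ℕ} (hF : Fintype.card F = q) (hq : q % 3 = 2) : sg (om F) = -1 - om F := by
  rw [sg_apply hF]
  obtain ⟨j, hj⟩ : ∃ j, q = 3 * j + 2 := ⟨q / 3, by omega⟩
  rw [hj, pow_add, pow_mul, om_cube, one_pow, one_mul]
  linear_combination om_sq (F := F)

theorem sg_ne_id {q : ℕ} (hF : Fintype.card F = q) (hq : q % 3 = 2) :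
    (sg : K3 F →+* K3 F) ≠ RingHom.id (K3 F) := by
  intro h
  have h1 := sg_om hF hq
  rw [h, RingHom.id_apply] at h1
  have h3 : algebraMap F (K3 F) 1 + algebraMap F (K3 F) 2 * om F = 0 := by
    rw [map_one, map_ofNat]
    linear_combination h1
  have := (repr_zero _ _ h3).1
  exact one_ne_zero this

theorem sg_repr {q : ℕ} (hF : Fintype.card F = q) (hq : q % 3 = 2) (a b : F) :
    sg (algebraMap F (K3 F) a + algebraMap F (K3 F) b * om F) =
      algebraMap F (K3 F) (a - b) + algebraMap F (K3 F) (-b) * om F := by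
  rw [map_add, map_mul, sg_algebraMap, sg_algebraMap, sg_om hF hq, map_sub, map_neg]
  ring

end Finite

end Cfsg.Agent.Lib.Helper8.Ord3
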