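import Mathlib
import Cfsg.Agent.Lib.Helper8.Ord3A
import Cfsg.Agent.Lib.Helper5.UnitaryCount
import Cfsg.Agent.S0277

/-! # The Hermitian space attached to a fixed-point-free isometry of order three of a symplectic
space (helper8) -/

set_option autoImplicit false

namespace Cfsg.Agent.Lib.Helper8.Ord3

open Polynomial Module

universe u

section ModK

variable {F : Type u} [Field F] {V : Type u} [AddCommGroup V] [Module F V]

/-- the type synonym carrying the `F[ω]`-structure -/
def Vx (_x : V →ₗ[F] V) : Type u := V

variable (x : V →ₗ[F] V)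

/-- the identity map into the synonym -/
def toVx (v : V) : Vx x := v

instance : AddCommGroup (Vx x) := inferInstanceAs (AddCommGroup V)

instance : Module F (Vx x) := inferInstanceAs (Module F V)

variable [hx : Fact (x * x + x + 1 = 0)]

/-- the algebra map `F[ω] → End V`, `ω ↦ x` -/
noncomputable def rho : K3 F →ₐ[F] Module.End F V :=
  Ideal.Quotient.liftₐ (Ideal.span {f3 F}) (Polynomial.aeval x) (by
    intro p hp
    obtain ⟨r, rfl⟩ := Ideal.mem_span_singleton.1 hp
    have h : Polynomial.aeval x (f3 F) = 0 := by
      unfold f3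
      rw [map_add, map_add, map_pow, aeval_X, map_one, pow_two]
      exact hx.out
    rw [map_mul, h, zero_mul])

theorem rho_mk (p : F[X]) : rho x (AdjoinRoot.mk (f3 F) p) = aeval x p := rfl

theorem rho_om : rho x (om F) = x := by
  have h : om F = AdjoinRoot.mk (f3 F) X := AdjoinRoot.mk_X.symm
  rw [h, rho_mk, aeval_X]

noncomputable instance : Module (K3 F) (Vx x) := Module.compHom V (rho x).toRingHom

theorem smul_def (κ : K3 F) (v : Vx x) : κ • v = (rho x κ : V →ₗ[F] V) v := rfl

instance : IsScalarTower F (K3 F) (Vx x) := by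
  constructor
  intro a κ v
  rw [smul_def, smul_def, map_smul]
  rfl

theorem om_smul (v : Vx x) : om F • v = toVx x (x v) := by
  rw [smul_def, rho_om]
  rfl

theorem algebraMap_smul' (a : F) (v : Vx x) : algebraMap F (K3 F) a • v = a • v := by
  rw [smul_def, AlgHom.commutes]
  rfl

theorem repr_smul (a b : F) (v : Vx x) :
    (algebraMap F (K3 F) a + algebraMap F (K3 F) b * om F) • v = a • v + b • toVx x (x v) := by
  rw [add_smul, mul_smul, algebraMap_smul', algebraMap_smul', om_smul]

end ModK

section Herm

variable {F : Type u} [Field F] {V : Type u} [AddCommGroup V] [Module F V]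
  (B : LinearMap.BilinForm F V) (x : V →ₗ[F] V)

/-- the Hermitian form, as a function -/
noncomputable def hf (u v : V) : K3 F :=
  algebraMap F (K3 F) (B u v + B u (x v)) + algebraMap F (K3 F) (B u v) * om F

theorem hf_add_left (u u' v : V) : hf B x (u + u') v = hf B x u v + hf B x u' v := by
  unfold hf
  simp only [map_add, LinearMap.add_apply]
  ring

theorem hf_add_right (u v v' : V) : hf B x u (v + v') = hf B x u v + hf B x u v' := by
  unfold hf
  simp only [map_add]
  ring

variable [hx : Fact (x * x + x + 1 = 0)]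

theorem x_sq_apply (v : V) : x (x v) = - v - x v := by
  have := congrArg (fun f : V →ₗ[F] V => f v) hx.out
  simp only [LinearMap.add_apply, Module.End.mul_apply, Module.End.one_apply,
    LinearMap.zero_apply] at this
  rw [eq_sub_iff_add_eq, eq_neg_iff_add_eq_zero]
  exact this

theorem x_cube_apply (v : V) : x (x (x v)) = v := by
  rw [x_sq_apply, x_sq_apply]
  abel

theorem hf_repr_right (a b : F) (u v : V) :
    hf B x u (a • v + b • x v) =
      (algebraMap F (K3 F) a + algebraMap F (K3 F) b * om F) * hf B x u v := by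
  unfold hf
  have e1 : B u (a • v + b • x v) = a * B u v + b * B u (x v) := by
    rw [map_add, map_smul, map_smul, smul_eq_mul, smul_eq_mul]
  have e2 : B u (x (a • v + b • x v)) = a * B u (x v) + b * (- B u v - B u (x v)) := by
    rw [map_add, map_smul, map_smul, x_sq_apply, map_add, map_smul, map_smul, map_sub, map_neg,
      smul_eq_mul, smul_eq_mul]
  rw [e1, e2]
  simp only [map_add, map_mul, map_sub, map_neg]
  linear_combination (-(algebraMap F (K3 F) b * algebraMap F (K3 F) (B u v))) * om_sq (F := F)

theorem hf_smul_right (κ : K3 F) (u v : Vx x) :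
    hf B x u (κ • v) = κ * hf B x u v := by
  obtain ⟨a, b, rfl⟩ := exists_repr κ
  rw [repr_smul]
  exact hf_repr_right B x a b u v

variable [Fintype F] [Fact (Irreducible (f3 F))] {q : ℕ} (hF : Fintype.card F = q)
  (hq : q % 3 = 2) (hskew : ∀ u v, B u v = - B v u) (hiso : ∀ u v, B (x u) (x v) = B u v)

include hF hq hskew hiso

theorem hf_symm (u v : V) : sg (hf B x u v) = hf B x v u := by
  unfold hf
  rw [sg_repr hF hq]
  have e1 : B v (x u) = B u v + B u (x v) := by
    rw [hskew v (x u)]
    have : B (x u) v = B (x u) (x (x (x v))) := by rw [x_cube_apply]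
    rw [this, hiso, x_sq_apply, map_sub, map_neg]
    ring
  rw [e1, hskew v u]
  simp only [map_add, map_sub, map_neg]
  ring

theorem hf_smul_left (κ : K3 F) (u v : Vx x) :
    hf B x (κ • u) v = sg κ * hf B x u v := by
  have h1 : sg (hf B x v (κ • u)) = hf B x (κ • u) v := hf_symm B x hF hq hskew hiso _ _
  rw [← h1, hf_smul_right, map_mul]
  have h2 : sg (hf B x v u) = hf B x u v := hf_symm B x hF hq hskew hiso _ _
  rw [h2]

/-- the Hermitian form -/
noncomputable def hB : Vx x →ₛₗ[(sg : K3 F →+* K3 F)] Vx x →ₗ[K3 F] K3 F :=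
  LinearMap.mk₂'ₛₗ sg (RingHom.id (K3 F)) (fun u v => hf B x u v)
    (fun u u' v => hf_add_left B x u u' v)
    (fun κ u v => hf_smul_left B x hF hq hskew hiso κ u v)
    (fun u v v' => hf_add_right B x u v v')
    (fun κ u v => hf_smul_right B x κ u v)

theorem hB_apply (u v : Vx x) : hB B x hF hq hskew hiso u v = hf B x u v := rfl

theorem hB_isSymm : (hB B x hF hq hskew hiso).IsSymm := by
  constructor
  intro u v
  exact hf_symm B x hF hq hskew hiso u v

theorem hB_sepLeft (hnd : ∀ u, (∀ v, B u v = 0) → u = 0) :
    (hB B x hF hq hskew hiso).SeparatingLeft := by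
  intro u hu
  apply hnd
  intro v
  have := hu (toVx x v)
  change hf B x u v = 0 at this
  unfold hf at this
  exact (repr_zero _ _ this).2

end Herm

end Cfsg.Agent.Lib.Helper8.Ord3
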