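import Mathlib
import Cfsg.Agent.Lib.Helper8.Ord3B

/-! # Counting the isometries commuting with a fixed-point-free isometry of order three
(helper8) -/

set_option autoImplicit false

namespace Cfsg.Agent.Lib.Helper8.Ord3

open Polynomial Module Cfsg.Agent.Lib.Helper5.UnitaryCount

universe u

section General

variable {K : Type*} [Field K] {σ : K →+* K} {U : Type*} [AddCommGroup U] [Module K U]

/-- a linear map sending an orthonormal basis to an orthonormal family is an isometry -/
theorem constr_isometry {n : ℕ} (B' : U →ₛₗ[σ] U →ₗ[K] K) (b : Basis (Fin n) K U)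
    (hb : ∀ i j, B' (b i) (b j) = if i = j then 1 else 0) (w : Fin n → U)
    (hw : ∀ i j, B' (w i) (w j) = if i = j then 1 else 0) (u v : U) :
    B' (b.constr K w u) (b.constr K w v) = B' u v := by
  classical
  have hu : u = ∑ i, b.equivFun u i • b i := (b.sum_equivFun u).symm
  have hv : v = ∑ i, b.equivFun v i • b i := (b.sum_equivFun v).symm
  have hcu : b.constr K w u = ∑ i, b.equivFun u i • w i := by
    rw [Basis.constr_apply_fintype]
  have hcv : b.constr K w v = ∑ i, b.equivFun v i • w i := by
    rw [Basis.constr_apply_fintype]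
  rw [hcu, hcv]
  conv_rhs => rw [hu, hv]
  simp only [map_sum, LinearMap.sum_apply, LinearMap.map_smulₛₗ₂, map_smul, hb, hw]

end General

section Count

variable {F : Type u} [Field F] [Fintype F] [Fact (Irreducible (f3 F))] {V : Type u}
  [AddCommGroup V] [Module F V] [FiniteDimensional F V]
  (B : LinearMap.BilinForm F V) (x : V →ₗ[F] V) [hx : Fact (x * x + x + 1 = 0)]

instance : Module.Finite F (Vx x) := inferInstanceAs (Module.Finite F V)

instance : Module.Finite (K3 F) (Vx x) := Module.Finite.of_restrictScalars_finite F (K3 F) (Vx x)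

theorem finrank_Vx {m : ℕ} (hV : finrank F V = 2 * m) : finrank (K3 F) (Vx x) = m := by
  have h1 := Module.finrank_mul_finrank F (K3 F) (Vx x)
  have h2 : finrank F (Vx x) = finrank F V := rfl
  rw [finrank_K3, h2, hV] at h1
  omega

theorem commute_apply (g : V →ₗ[F] V) (hc : Commute g x) (v : V) : x (g v) = g (x v) := by
  have := congrArg (fun f : V →ₗ[F] V => f v) hc.eq
  simp only [Module.End.mul_apply] at this
  exact this.symm

theorem hf_of_isometry (g : V →ₗ[F] V) (hc : Commute g x)
    (hg : ∀ u v, B (g u) (g v) = B u v) (u v : V) : hf B x (g u) (g v) = hf B x u v := by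
  unfold hf
  rw [commute_apply x g hc, hg, hg]

theorem constr_commute (f : Vx x →ₗ[K3 F] Vx x) (v : V) :
    f (toVx x (x v)) = toVx x (x (f (toVx x v))) := by
  have h := f.map_smul (om F) (toVx x v)
  rw [om_smul, om_smul] at h
  exact h

/-- a map commuting with `x` is linear over `F[ω]` -/
noncomputable def toK (g : V →ₗ[F] V) (hc : Commute g x) : Vx x →ₗ[K3 F] Vx x where
  toFun := fun v => toVx x (g v)
  map_add' := fun u v => map_add g u v
  map_smul' := fun κ v => by
    obtain ⟨a, b, rfl⟩ := exists_repr κ
    rw [repr_smul, RingHom.id_apply, repr_smul]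
    obtain ⟨v', hv'⟩ : ∃ v' : V, toVx x v' = v := ⟨v, rfl⟩
    subst hv'
    show g (a • v' + b • x v') = a • g v' + b • x (g v')
    rw [map_add, map_smul, map_smul, commute_apply x g hc]

theorem toK_apply (g : V →ₗ[F] V) (hc : Commute g x) (v : Vx x) : toK x g hc v = toVx x (g v) := rfl

variable {q : ℕ} (hF : Fintype.card F = q) (hq : q % 3 = 2) (hskew : ∀ u v, B u v = - B v u)
  (hiso : ∀ u v, B (x u) (x v) = B u v)

include hF hq hskew hiso

/-- the isometries commuting with `x` correspond to the orthonormal bases -/
theorem card_commuting_isometries {m : ℕ} (hV : finrank F V = 2 * m)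
    (hnd : ∀ u, (∀ v, B u v = 0) → u = 0) :
    Nat.card {g : V →ₗ[F] V // Commute g x ∧ ∀ u v, B (g u) (g v) = B u v} =
      ∏ i ∈ Finset.range m, (q ^ i * (if Even i then q ^ (i + 1) + 1 else q ^ (i + 1) - 1)) := by
  classical
  have hσ : (sg : K3 F →+* K3 F) ≠ RingHom.id (K3 F) := sg_ne_id hF hq
  have hσ2 : ∀ κ : K3 F, sg (sg κ) = κ := sg_sg hF
  have hS := hB_isSymm B x hF hq hskew hiso
  have hsep := hB_sepLeft B x hF hq hskew hiso hnd
  have hm := finrank_Vx x hV
  obtain ⟨b0, hb0⟩ := exists_basis hσ hσ2 hS hsep hm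
  have hcard := card_ON hσ hσ2 m (Vx x) (hB B x hF hq hskew hiso) hS hsep hm
  have hK : Fintype.card (K3 F) = q ^ 2 := card_K3 hF
  have hq2 : 2 ≤ q := by omega
  rw [Finset.prod_congr rfl (fun i _ =>
    (Cfsg.Agent.S0277.unitCount_eq hK sg (sg_apply hF) (i + 1)).trans
      (Cfsg.Agent.S0277.uz_formula hq2 i))] at hcard
  rw [← hcard]
  apply Nat.card_congr
  exact
    { toFun := fun g => ⟨fun i => toVx x (g.1 (b0 i)), by
        intro i j
        rw [← hb0 i j]
        exact hf_of_isometry B x g.1 g.2.1 g.2.2 (b0 i) (b0 j)⟩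
      invFun := fun w => ⟨((b0.constr (K3 F) w.1).restrictScalars F : Vx x →ₗ[F] Vx x), by
          apply LinearMap.ext
          intro v
          exact constr_commute x (b0.constr (K3 F) w.1) v, by
          intro u v
          have h1 := constr_isometry (hB B x hF hq hskew hiso) b0 hb0 w.1 w.2 (toVx x u) (toVx x v)
          rw [hB_apply, hB_apply] at h1
          unfold hf at h1
          exact (repr_inj _ _ _ _ h1).2⟩
      left_inv := by
        intro g
        apply Subtype.ext
        apply LinearMap.ext
        intro v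
        have h1 : b0.constr (K3 F) (fun i => toVx x (g.1 (b0 i))) = toK x g.1 g.2.1 := by
          apply b0.ext
          intro i
          rw [Basis.constr_basis, toK_apply]
        have h2 := congrArg (fun f : Vx x →ₗ[K3 F] Vx x => f (toVx x v)) h1
        exact h2
      right_inv := by
        intro w
        apply Subtype.ext
        funext i
        show b0.constr (K3 F) w.1 (b0 i) = w.1 i
        rw [Basis.constr_basis] }

end Count

end Cfsg.Agent.Lib.Helper8.Ord3
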