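import Mathlib
import Cfsg.Agent.Lib.Helper5.Grp.D8Recog

set_option autoImplicit false

/-!
A non-abelian group of order 8 is dihedral or quaternion (helper8).
-/

namespace Cfsg.Agent.Lib.Helper8.Order8

open Cfsg.Agent.Lib.Helper5.D8R

variable {G : Type*} [Group G]

lemma pow_mul_s (a s : G) (hsa : s⁻¹ * a * s = a⁻¹) (n : ℕ) :
    a ^ n * s = s * (a ^ n)⁻¹ := by
  have h1 : s⁻¹ * a ^ n * s = (a ^ n)⁻¹ := by
    have h2 : (s⁻¹ * a * s⁻¹⁻¹) ^ n = s⁻¹ * a ^ n * s⁻¹⁻¹ := conj_pow
    rw [inv_inv] at h2
    rw [← h2, hsa, inv_pow]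
  calc a ^ n * s = s * (s⁻¹ * a ^ n * s) := by group
    _ = s * (a ^ n)⁻¹ := by rw [h1]

/-- the homomorphism from the quaternion group of order 8 -/
def quatHom (a s : G) (ha : a ^ 4 = 1) (hs : s * s = a ^ 2) (hsa : s⁻¹ * a * s = a⁻¹) :
    QuaternionGroup 2 →* G where
  toFun x := match x with
    | QuaternionGroup.a i => a ^ (i : ZMod 4).val
    | QuaternionGroup.xa i => s * a ^ (i : ZMod 4).val
  map_one' := by
    show a ^ (0 : ZMod 4).val = 1
    simp
  map_mul' x y := by
    rcases x with i | i <;> rcases y with j | j
    · show a ^ ((i + j : ZMod 4)).val = a ^ (i : ZMod 4).val * a ^ (j : ZMod 4).val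
      exact pow_val_add a ha i j
    · show s * a ^ ((j - i : ZMod 4)).val = a ^ (i : ZMod 4).val * (s * a ^ (j : ZMod 4).val)
      rw [← mul_assoc, pow_mul_s a s hsa, mul_assoc, pow_val_sub a ha]
    · show s * a ^ ((i + j : ZMod 4)).val = s * a ^ (i : ZMod 4).val * a ^ (j : ZMod 4).val
      rw [pow_val_add a ha, mul_assoc]
    · show a ^ ((((2 : ℕ) : ZMod 4) + j - i : ZMod 4)).val
        = s * a ^ (i : ZMod 4).val * (s * a ^ (j : ZMod 4).val)
      have h2 : (((2 : ℕ) : ZMod 4) + j - i : ZMod 4) = (2 : ZMod 4) + (j - i) := by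
        rw [add_sub_assoc]; rfl
      rw [h2, pow_val_add a ha, pow_val_sub a ha]
      have h3 : (2 : ZMod 4).val = 2 := rfl
      rw [h3]
      calc a ^ 2 * ((a ^ (i : ZMod 4).val)⁻¹ * a ^ (j : ZMod 4).val)
          = (s * s) * ((a ^ (i : ZMod 4).val)⁻¹ * a ^ (j : ZMod 4).val) := by rw [hs]
        _ = s * (s * (a ^ (i : ZMod 4).val)⁻¹) * a ^ (j : ZMod 4).val := by group
        _ = s * (a ^ (i : ZMod 4).val * s) * a ^ (j : ZMod 4).val := by
            rw [pow_mul_s a s hsa]
        _ = s * a ^ (i : ZMod 4).val * (s * a ^ (j : ZMod 4).val) := by group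

lemma quatHom_a (a s : G) (ha : a ^ 4 = 1) (hs : s * s = a ^ 2) (hsa : s⁻¹ * a * s = a⁻¹)
    (i : ZMod 4) : quatHom a s ha hs hsa (QuaternionGroup.a i) = a ^ i.val := rfl

lemma quatHom_xa (a s : G) (ha : a ^ 4 = 1) (hs : s * s = a ^ 2) (hsa : s⁻¹ * a * s = a⁻¹)
    (i : ZMod 4) : quatHom a s ha hs hsa (QuaternionGroup.xa i) = s * a ^ i.val := rfl

/-- A non-abelian group of order 8 is dihedral or quaternion. -/
theorem d8_or_q8 {C : Type*} [Group C] (h8 : Nat.card C = 8)
    (hna : ¬ ∀ a b : C, a * b = b * a) :
    Nonempty (C ≃* DihedralGroup 4) ∨ Nonempty (C ≃* QuaternionGroup 2) := by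
  classical
  have hfin : Finite C := Nat.finite_of_card_ne_zero (by omega)
  by_cases hinv : ∃ t g : C, t * t = 1 ∧ g * t ≠ t * g
  · obtain ⟨t, g, ht, hgt⟩ := hinv
    obtain ⟨e⟩ := dihedral_of_card_eight h8 t g ht hgt
    exact Or.inl ⟨e.symm⟩
  · right
    push Not at hinv
    -- all involutions are central
    have hcen : ∀ t : C, t * t = 1 → ∀ g : C, g * t = t * g := fun t ht g => hinv t g ht
    -- an element of order four
    have hex : ∃ a : C, orderOf a = 4 := by
      by_contra hno
      push Not at hno
      apply hna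
      have hdiv : ∀ x : C, orderOf x = 1 ∨ orderOf x = 2 ∨ orderOf x = 8 := by
        intro x
        have h := orderOf_dvd_natCard x
        rw [h8] at h
        have h1 : orderOf x ∈ Nat.divisors 8 := Nat.mem_divisors.2 ⟨h, by norm_num⟩
        have hd : Nat.divisors 8 = {1, 2, 4, 8} := by decide
        rw [hd] at h1
        simp only [Finset.mem_insert, Finset.mem_singleton] at h1
        rcases h1 with h1 | h1 | h1 | h1
        · exact Or.inl h1
        · exact Or.inr (Or.inl h1)
        · exact absurd h1 (hno x)
        · exact Or.inr (Or.inr h1)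
      by_cases hc8 : ∃ x : C, orderOf x = 8
      · obtain ⟨x, hx⟩ := hc8
        have hc : IsCyclic C := isCyclic_of_orderOf_eq_card x (by rw [hx, h8])
        obtain ⟨c, hc'⟩ := hc.exists_generator
        intro u v
        obtain ⟨i, hi⟩ := Subgroup.mem_zpowers_iff.1 (hc' u)
        obtain ⟨j, hj⟩ := Subgroup.mem_zpowers_iff.1 (hc' v)
        rw [← hi, ← hj, ← zpow_add, ← zpow_add, add_comm]
      · push Not at hc8
        have hsq : ∀ x : C, x * x = 1 := by
          intro x
          have : orderOf x ∣ 2 := by
            rcases hdiv x with h | h | h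
            · rw [h]; norm_num
            · rw [h]
            · exact absurd h (hc8 x)
          have := orderOf_dvd_iff_pow_eq_one.1 this
          rw [← pow_two]; exact this
        intro u v
        exact (hcen v (hsq v) u)
    obtain ⟨a, ha⟩ := hex
    have ha4 : a ^ 4 = 1 := by rw [← ha]; exact pow_orderOf_eq_one a
    have ha2 : a ^ 2 ≠ 1 := pow_ne_one_of_lt_orderOf (by norm_num) (by rw [ha]; norm_num)
    have ha1 : a ≠ 1 := by
      intro h
      rw [h, orderOf_one] at ha
      omega
    set A := Subgroup.zpowers a with hA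
    have hAcard : Nat.card A = 4 := by rw [Nat.card_zpowers, ha]
    have hAidx : A.index = 2 := by
      have := A.card_mul_index
      rw [hAcard, h8] at this
      omega
    have hAn : A.Normal := Subgroup.normal_of_index_eq_two hAidx
    have memA : ∀ x, x ∈ A → x = 1 ∨ x = a ∨ x = a ^ 2 ∨ x = a ^ 3 := by
      intro x hx
      rw [hA, mem_zpowers_iff_mem_range_orderOf, ha] at hx
      simp only [Finset.mem_image, Finset.mem_range] at hx
      obtain ⟨k, hk, rfl⟩ := hx
      interval_cases k <;> simp
    -- an element outside A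
    have hexs : ∃ s : C, s ∉ A := by
      by_contra hno
      push Not at hno
      have : A = ⊤ := by
        rw [Subgroup.eq_top_iff']
        exact hno
      rw [this, Subgroup.index_top] at hAidx
      omega
    obtain ⟨s, hsA⟩ := hexs
    -- every element is in A or s * A
    have hcases : ∀ g : C, g ∈ A ∨ s⁻¹ * g ∈ A := by
      intro g
      by_cases hg : g ∈ A
      · exact Or.inl hg
      · right
        rw [Subgroup.mul_mem_iff_of_index_two hAidx, inv_mem_iff]
        tauto
    -- s does not commute with a
    have hsa_ne : s * a ≠ a * s := by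
      intro hcomm
      apply hna
      have hcommA : ∀ y ∈ A, y * s = s * y := by
        intro y hy
        obtain ⟨k, rfl⟩ := Subgroup.mem_zpowers_iff.1 hy
        have : Commute s a := hcomm
        exact (this.zpow_right k).eq.symm
      have hAA : ∀ y ∈ A, ∀ z ∈ A, y * z = z * y := by
        intro y hy z hz
        obtain ⟨k, rfl⟩ := Subgroup.mem_zpowers_iff.1 hy
        obtain ⟨l, rfl⟩ := Subgroup.mem_zpowers_iff.1 hz
        rw [← zpow_add, ← zpow_add, add_comm]
      -- every element is `s^e * y` with `y ∈ A`
      intro u v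
      rcases hcases u with hu | hu <;> rcases hcases v with hv | hv
      · exact hAA u hu v hv
      · have : v = s * (s⁻¹ * v) := by group
        rw [this]
        set w := s⁻¹ * v
        calc u * (s * w) = (u * s) * w := by group
          _ = s * u * w := by rw [hcommA u hu]
          _ = s * (u * w) := by group
          _ = s * (w * u) := by rw [hAA u hu w hv]
          _ = s * w * u := by group
      · have : u = s * (s⁻¹ * u) := by group
        rw [this]
        set w := s⁻¹ * u
        calc s * w * v = s * (w * v) := by group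
          _ = s * (v * w) := by rw [hAA w hu v hv]
          _ = (s * v) * w := by group
          _ = v * s * w := by rw [hcommA v hv]
          _ = v * (s * w) := by group
      · have e1 : u = s * (s⁻¹ * u) := by group
        have e2 : v = s * (s⁻¹ * v) := by group
        rw [e1, e2]
        set w := s⁻¹ * u
        set w' := s⁻¹ * v
        calc s * w * (s * w') = s * (w * s) * w' := by group
          _ = s * (s * w) * w' := by rw [hcommA w hu]
          _ = s * s * (w * w') := by group
          _ = s * s * (w' * w) := by rw [hAA w hu w' hv]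
          _ = s * (s * w') * w := by group
          _ = s * (w' * s) * w := by rw [hcommA w' hv]
          _ = s * w' * (s * w) := by group
    -- conjugation by s inverts a
    have hsa : s⁻¹ * a * s = a⁻¹ := by
      have h1 : s⁻¹ * a * s ∈ A := by
        have := hAn.conj_mem a (Subgroup.mem_zpowers a) s⁻¹
        rwa [inv_inv] at this
      rcases memA _ h1 with h | h | h | h
      · exfalso
        apply ha1
        have : a = s * (s⁻¹ * a * s) * s⁻¹ := by group
        rw [this, h]; group
      · exfalso
        apply hsa_ne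
        calc s * a = s * (s⁻¹ * a * s) := by rw [h]
          _ = a * s := by group
      · exfalso
        apply ha2
        have h2 : (s⁻¹ * a * s) ^ 2 = 1 := by rw [h, ← pow_mul, ha4]
        have h3 : (s⁻¹ * a * s⁻¹⁻¹) ^ 2 = s⁻¹ * a ^ 2 * s⁻¹⁻¹ := conj_pow
        rw [inv_inv] at h3
        rw [h3] at h2
        have : a ^ 2 = s * (s⁻¹ * a ^ 2 * s) * s⁻¹ := by group
        rw [this, h2]; group
      · rw [h]
        apply eq_inv_of_mul_eq_one_left
        rw [← pow_succ, ha4]
    -- s * s = a ^ 2
    have hss : s * s = a ^ 2 := by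
      have h1 : s * s ∈ A := by
        rw [Subgroup.mul_mem_iff_of_index_two hAidx]
      rcases memA _ h1 with h | h | h | h
      · exfalso
        exact hsa_ne (hcen s h a).symm
      · exfalso
        apply hsa_ne
        rw [← h]; group
      · exact h
      · exfalso
        apply hsa_ne
        have h3 : a = (s * s) ^ 3 := by
          rw [h, ← pow_mul]
          show a = a ^ 9
          rw [show 9 = 4 + 4 + 1 from rfl, pow_add, pow_add, ha4, one_mul, one_mul, pow_one]
        rw [h3]
        simp only [pow_succ, pow_zero, one_mul, mul_assoc]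
    -- the isomorphism
    set f := quatHom a s ha4 hss hsa with hf
    have hinj : Function.Injective f := by
      rw [injective_iff_map_eq_one]
      intro x hx
      rcases x with i | i
      · rw [hf] at hx
        change a ^ (i : ZMod 4).val = 1 at hx
        have h1 := orderOf_dvd_of_pow_eq_one hx
        rw [ha] at h1
        have h2 : (i : ZMod 4).val < 4 := ZMod.val_lt (i : ZMod 4)
        have h3 : (i : ZMod 4).val = 0 := by
          rcases h1 with ⟨c, hc⟩
          omega
        have h4 : (i : ZMod 4) = 0 := by
          rw [← ZMod.natCast_zmod_val (i : ZMod 4), h3]; rfl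
        show QuaternionGroup.a i = QuaternionGroup.a 0
        exact congrArg QuaternionGroup.a h4
      · exfalso
        rw [hf] at hx
        change s * a ^ (i : ZMod 4).val = 1 at hx
        apply hsA
        have : s = (a ^ (i : ZMod 4).val)⁻¹ := eq_inv_of_mul_eq_one_left hx
        rw [this]
        exact inv_mem (Subgroup.pow_mem _ (Subgroup.mem_zpowers a) _)
    have hbij : Function.Bijective f := by
      rw [Nat.bijective_iff_injective_and_card]
      refine ⟨hinj, ?_⟩
      rw [h8, Nat.card_eq_fintype_card, QuaternionGroup.card]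
    exact ⟨(MulEquiv.ofBijective f hbij).symm⟩

end Cfsg.Agent.Lib.Helper8.Order8
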