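import Mathlib
import Cfsg.Agent.Lib.Lead.Fi23Syl.Words

/-!
# Polycyclic normal words: the group generated by the list consists of the normal words

For a list `l = [a₀, …, a₍ₖ₋₁₎]` of elements of a finite group in which each `aᵢ ^ p` and each conjugate `aᵢ aⱼ aᵢ⁻¹`
(`i < j`) is a normal word in the later elements (`PCOKp p l`), every element of the group generated by the list is a
normal word `a₀ ^ d₀ ⋯ a₍ₖ₋₁₎ ^ d₍ₖ₋₁₎` with digits `dᵢ < p`; so that group has at most `p ^ k` elements.
-/

set_option autoImplicit false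

namespace Cfsg.Agent.Lib.Lead.Fi23Syl

variable {G : Type*} [Group G]

theorem h8_elP_nil (p : ℕ) (e : ℕ) : elP p ([] : List G) e = 1 := rfl

theorem h8_elP_cons (p : ℕ) (a : G) (l : List G) (e : ℕ) :
    elP p (a :: l) e = a ^ (e % p) * elP p l (e / p) := rfl

theorem elP_append (p : ℕ) (l₁ l₂ : List G) (e : ℕ) :
    elP p (l₁ ++ l₂) e = elP p l₁ (e % p ^ l₁.length) * elP p l₂ (e / p ^ l₁.length) := by
  induction l₁ generalizing e with
  | nil => simp [h8_elP_nil]
  | cons a l ih =>
    rw [List.cons_append, h8_elP_cons, h8_elP_cons, ih, List.length_cons, pow_succ',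
      Nat.mod_mod_of_dvd _ (dvd_mul_right p _), Nat.mod_mul_right_div_self, Nat.div_div_eq_div_mul, mul_assoc]

theorem elP_mem (p : ℕ) : ∀ (l : List G) (e : ℕ), elP p l e ∈ Subgroup.closure {g | g ∈ l}
  | [], _ => Subgroup.one_mem _
  | a :: l, e => by
    rw [h8_elP_cons]
    have ha : a ∈ Subgroup.closure {g | g ∈ a :: l} :=
      Subgroup.subset_closure (show a ∈ {g | g ∈ a :: l} from List.mem_cons_self)
    have hl : Subgroup.closure {g | g ∈ l} ≤ Subgroup.closure {g | g ∈ a :: l} :=
      Subgroup.closure_mono (fun g (hg : g ∈ l) => (List.mem_cons_of_mem _ hg : g ∈ a :: l))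
    exact Subgroup.mul_mem _ (Subgroup.pow_mem _ ha _) (hl (elP_mem p l (e / p)))

theorem h8_NFp_subset (p : ℕ) (l : List G) : NFp p l ⊆ Subgroup.closure {g | g ∈ l} := by
  rintro x ⟨e, _, rfl⟩
  exact elP_mem p l e

theorem h8_PCOKp_nil (p : ℕ) : PCOKp p ([] : List G) := trivial

theorem h8_PCOKp_cons (p : ℕ) (a : G) (l : List G) :
    PCOKp p (a :: l) ↔ a ^ p ∈ NFp p l ∧ (∀ b ∈ l, a * b * a⁻¹ ∈ NFp p l) ∧ PCOKp p l := Iff.rfl

theorem closure_subset_NFp [Finite G] (p : ℕ) (hp : 0 < p) (l : List G) :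
    PCOKp p l → ∀ x ∈ Subgroup.closure {g | g ∈ l}, x ∈ NFp p l := by
  induction l with
  | nil =>
    intro _ x hx
    have : {g : G | g ∈ ([] : List G)} = ∅ := by ext g; simp
    rw [this, Subgroup.closure_empty, Subgroup.mem_bot] at hx
    exact ⟨0, by simp, by rw [hx, h8_elP_nil]⟩
  | cons a l ih0 =>
    intro h x hx
    obtain ⟨hz0, hb0, hl⟩ := (h8_PCOKp_cons p a l).1 h
    have ih := ih0 hl
    set K' : Subgroup G := Subgroup.closure {g | g ∈ l} with hK'
    have hz : a ^ p ∈ K' := h8_NFp_subset p l hz0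
    have hb : ∀ b ∈ l, a * b * a⁻¹ ∈ K' := fun b hb => h8_NFp_subset p l (hb0 b hb)
    have hconj : ∀ w ∈ K', a * w * a⁻¹ ∈ K' := by
      intro w hw
      induction hw using Subgroup.closure_induction with
      | mem y hy => exact hb y hy
      | one => simp
      | mul y z _ _ hy hz' =>
        have : a * (y * z) * a⁻¹ = (a * y * a⁻¹) * (a * z * a⁻¹) := by group
        rw [this]; exact K'.mul_mem hy hz'
      | inv y _ hy =>
        have : a * y⁻¹ * a⁻¹ = (a * y * a⁻¹)⁻¹ := by group
        rw [this]; exact K'.inv_mem hy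
    have hconjpow : ∀ d : ℕ, ∀ w ∈ K', a ^ d * w * (a ^ d)⁻¹ ∈ K' := by
      intro d
      induction d with
      | zero => intro w hw; simpa using hw
      | succ d ihd =>
        intro w hw
        have : a ^ (d + 1) * w * (a ^ (d + 1))⁻¹ = a * (a ^ d * w * (a ^ d)⁻¹) * a⁻¹ := by
          rw [pow_succ']; group
        rw [this]
        exact hconj _ (ihd w hw)
    have hconj' : ∀ w ∈ K', a⁻¹ * w * a ∈ K' := by
      intro w hw
      obtain ⟨q, rfl⟩ : ∃ q, p = q + 1 := ⟨p - 1, by omega⟩
      have : a⁻¹ * w * a = (a ^ (q + 1))⁻¹ * (a ^ q * w * (a ^ q)⁻¹) * a ^ (q + 1) := by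
        rw [pow_succ']; group
      rw [this]
      exact K'.mul_mem (K'.mul_mem (K'.inv_mem hz) (hconjpow q w hw)) hz
    have hpow : ∀ d : ℕ, ∀ w ∈ K', (a ^ d)⁻¹ * w * a ^ d ∈ K' := by
      intro d
      induction d with
      | zero => intro w hw; simpa using hw
      | succ d ihd =>
        intro w hw
        have : (a ^ (d + 1))⁻¹ * w * a ^ (d + 1) = a⁻¹ * ((a ^ d)⁻¹ * w * a ^ d) * a := by
          rw [pow_succ]; group
        rw [this]
        exact hconj' _ (ihd w hw)
    let T : Set G := {x | ∃ d < p, ∃ w ∈ K', x = a ^ d * w}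
    have hT1 : (1 : G) ∈ T := ⟨0, hp, 1, K'.one_mem, by simp⟩
    have hTmul : ∀ g ∈ a :: l, ∀ t ∈ T, g * t ∈ T := by
      intro g hg t ht
      obtain ⟨d, hd, w, hw, rfl⟩ := ht
      rcases List.mem_cons.1 hg with rfl | hg
      · by_cases hd2 : d + 1 = p
        · subst hd2
          refine ⟨0, hp, g ^ (d + 1) * w, K'.mul_mem hz hw, ?_⟩
          rw [pow_succ']
          group
        · refine ⟨d + 1, by omega, w, hw, ?_⟩
          rw [pow_succ']
          group
      · have hgK : g ∈ K' := Subgroup.subset_closure hg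
        refine ⟨d, hd, ((a ^ d)⁻¹ * g * a ^ d) * w, K'.mul_mem (hpow d g hgK) hw, ?_⟩
        group
    have hS : ∀ g ∈ Submonoid.closure {g | g ∈ a :: l}, ∀ t ∈ T, g * t ∈ T := by
      let M : Submonoid G :=
        { carrier := {g | ∀ t ∈ T, g * t ∈ T}
          one_mem' := fun t ht => by rwa [one_mul]
          mul_mem' := fun {u v} hu hv t ht => by rw [mul_assoc]; exact hu _ (hv t ht) }
      have hM : Submonoid.closure {g | g ∈ a :: l} ≤ M := Submonoid.closure_le.2 fun g hg => hTmul g hg
      exact fun g hg => hM hg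
    have hxT : x ∈ T := by
      have hx' : x ∈ Submonoid.closure {g | g ∈ a :: l} := by
        rw [← Subgroup.closure_toSubmonoid_of_finite]; exact hx
      have := hS x hx' 1 hT1
      rwa [mul_one] at this
    obtain ⟨d, hd, w, hw, rfl⟩ := hxT
    obtain ⟨e', he', rfl⟩ := ih w hw
    refine ⟨d + p * e', ?_, ?_⟩
    · rw [List.length_cons, pow_succ']
      calc d + p * e' < p + p * e' := by omega
        _ = p * (e' + 1) := by ring
        _ ≤ p * p ^ l.length := Nat.mul_le_mul_left p he'
    · rw [h8_elP_cons]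
      have h1 : (d + p * e') % p = d := by
        rw [Nat.add_mul_mod_self_left, Nat.mod_eq_of_lt hd]
      have h2 : (d + p * e') / p = e' := by
        rw [Nat.add_mul_div_left _ _ hp, Nat.div_eq_of_lt hd, zero_add]
      rw [h1, h2]

/-- the group generated by the list has at most `p ^ k` elements -/
theorem card_closure_le_p [Finite G] (p : ℕ) (hp : 0 < p) (l : List G) (h : PCOKp p l) :
    Nat.card (Subgroup.closure {g | g ∈ l}) ≤ p ^ l.length := by
  classical
  have hsub : ((Subgroup.closure {g | g ∈ l} : Subgroup G) : Set G) ⊆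
      ((Finset.range (p ^ l.length)).image (elP p l) : Finset G) := by
    intro x hx
    obtain ⟨e, he, rfl⟩ := closure_subset_NFp p hp l h x hx
    rw [Finset.mem_coe, Finset.mem_image]
    exact ⟨e, Finset.mem_range.2 he, rfl⟩
  have h1 := Set.ncard_le_ncard hsub (Finset.finite_toSet _)
  rw [Set.ncard_coe_finset] at h1
  have h2 : Nat.card (Subgroup.closure {g | g ∈ l}) =
      ((Subgroup.closure {g | g ∈ l} : Subgroup G) : Set G).ncard :=
    Nat.card_coe_set_eq ((Subgroup.closure {g | g ∈ l} : Subgroup G) : Set G)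
  calc Nat.card (Subgroup.closure {g | g ∈ l}) = _ := h2
    _ ≤ _ := h1
    _ ≤ (Finset.range (p ^ l.length)).card := Finset.card_image_le
    _ = p ^ l.length := Finset.card_range _

end Cfsg.Agent.Lib.Lead.Fi23Syl
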