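import Mathlib
import Cfsg.Agent.Lib.Helper8.PF7A

set_option autoImplicit false
set_option linter.unusedVariables false
set_option linter.unusedSectionVars false
set_option linter.style.haveILetI false

namespace Cfsg.Agent.Lib.Helper8.PF7

namespace PartData

open Finset

variable {G : Type*} [Group G] [Fintype G] {ι : Type*} {L H : ι → Subgroup G}

open Classical in
/-- the finset `A i = H i ∖ {1}` -/
noncomputable def A (H : ι → Subgroup G) (i : ι) : Finset G :=
  univ.filter (fun x => x ∈ H i ∧ x ≠ 1)

theorem mem_A {i : ι} {x : G} : x ∈ A H i ↔ x ∈ H i ∧ x ≠ 1 := by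
  classical
  simp [A]

open Classical in
/-- the number of `g` conjugating `y` into `A i` -/
noncomputable def cnt (H : ι → Subgroup G) (i : ι) (y : G) : ℕ :=
  (univ.filter (fun g : G => g⁻¹ * y * g ∈ A H i)).card

theorem cnt_one (i : ι) : cnt H i 1 = 0 := by
  classical
  rw [cnt, Finset.card_eq_zero, Finset.filter_eq_empty_iff]
  intro g _ hg
  rw [mem_A] at hg
  apply hg.2
  group

/-- the fibre over `y ≠ 1`: exactly one index, with `|L i₀|` conjugating elements -/
theorem cnt_spec (P : PartData L H) {y : G} (hy : y ≠ 1) :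
    ∃ i₀, cnt H i₀ y = Nat.card (L i₀) ∧ ∀ i, i ≠ i₀ → cnt H i y = 0 := by
  classical
  obtain ⟨i₀, x₀, hx₀⟩ := P.hcover y hy
  have hz1 : x₀ * y * x₀⁻¹ ≠ 1 := by
    intro h
    apply hy
    calc y = x₀⁻¹ * (x₀ * y * x₀⁻¹) * x₀ := by group
      _ = 1 := by rw [h]; group
  refine ⟨i₀, ?_, ?_⟩
  · -- the set is `{g | x₀ * g ∈ L i₀}`
    have hset : univ.filter (fun g : G => g⁻¹ * y * g ∈ A H i₀)
        = univ.filter (fun g : G => x₀ * g ∈ L i₀) := by
      apply Finset.filter_congr
      intro g _
      have e : g⁻¹ * y * g = (x₀ * g)⁻¹ * (x₀ * y * x₀⁻¹) * (x₀ * g) := by group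
      rw [mem_A]
      constructor
      · intro h
        rw [e] at h
        exact P.mem_L_of_conj' hx₀ hz1 h.1
      · intro h
        refine ⟨?_, ?_⟩
        · rw [e]
          have := (P.conj_mem_iff (x := x₀ * y * x₀⁻¹) ((L i₀).inv_mem h)).mpr hx₀
          simpa using this
        · intro h1
          apply hy
          calc y = g * (g⁻¹ * y * g) * g⁻¹ := by group
            _ = 1 := by rw [h1]; group
    rw [cnt, hset]
    have hbij : (univ.filter (fun g : G => x₀ * g ∈ L i₀)).card
        = (univ.filter (fun g : G => g ∈ L i₀)).card := by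
      apply Finset.card_bij (fun g _ => x₀ * g)
      · intro g hg
        simpa using hg
      · intro a _ b _ hab
        exact mul_left_cancel hab
      · intro b hb
        refine ⟨x₀⁻¹ * b, ?_, by group⟩
        simp only [mem_filter, mem_univ, true_and] at hb ⊢
        simpa using hb
    rw [hbij, Nat.card_eq_fintype_card, Fintype.card_subtype]
  · intro i hi
    rw [cnt, Finset.card_eq_zero, Finset.filter_eq_empty_iff]
    intro g _ hg
    rw [mem_A] at hg
    -- `g⁻¹ y g ∈ H i` nonidentity and `x₀ y x₀⁻¹ ∈ H i₀`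
    have e : x₀ * y * x₀⁻¹ = (x₀ * g) * (g⁻¹ * y * g) * (x₀ * g)⁻¹ := by group
    rw [e] at hx₀
    exact hi (P.eq_of_conj_mem hg.1 hg.2 hx₀)

/-- double counting: `Σ_y cnt(i,y) f(y) = |G| Σ_{x ∈ A i} f(x)` for a class function `f`. -/
theorem sum_cnt {K : Type*} [Field K] (f : G → K)
    (hf : ∀ g x : G, f (g * x * g⁻¹) = f x) (i : ι) :
    ∑ y : G, (cnt H i y : K) * f y = (Fintype.card G : K) * ∑ x ∈ A H i, f x := by
  classical
  have h1 : ∀ y : G, (cnt H i y : K) * f y
      = ∑ g : G, if g⁻¹ * y * g ∈ A H i then f y else 0 := by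
    intro y
    rw [cnt, Finset.card_filter]
    push_cast
    rw [Finset.sum_mul]
    apply Finset.sum_congr rfl
    intro g _
    split_ifs <;> simp
  simp_rw [h1]
  rw [Finset.sum_comm]
  have h2 : ∀ g : G, (∑ y : G, if g⁻¹ * y * g ∈ A H i then f y else 0) = ∑ x ∈ A H i, f x := by
    intro g
    rw [← Finset.sum_filter]
    apply Finset.sum_bij (fun y _ => g⁻¹ * y * g)
    · intro y hy
      simpa using hy
    · intro a _ b _ hab
      calc a = g * (g⁻¹ * a * g) * g⁻¹ := by group
        _ = g * (g⁻¹ * b * g) * g⁻¹ := by rw [hab]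
        _ = b := by group
    · intro x hx
      refine ⟨g * x * g⁻¹, ?_, by group⟩
      simp only [mem_filter, mem_univ, true_and]
      have : g⁻¹ * (g * x * g⁻¹) * g = x := by group
      rw [this]; exact hx
    · intro y _
      have := hf g⁻¹ y
      rw [inv_inv] at this
      exact this.symm
  simp_rw [h2]
  rw [Finset.sum_const, Finset.card_univ, nsmul_eq_mul]

/-- **(0.4) Integration formula**: for a class function `f` of `G`,
`Σ_G f = f(1) + Σ_i |G : L i| Σ_{x ∈ H i ∖ 1} f(x)`. -/
theorem sum_eq [Fintype ι] (P : PartData L H) {K : Type*} [Field K] [CharZero K] (f : G → K)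
    (hf : ∀ g x : G, f (g * x * g⁻¹) = f x) :
    ∑ y : G, f y = f 1 + ∑ i, ((L i).index : K) * ∑ x ∈ A H i, f x := by
  classical
  have hLpos : ∀ i, (Nat.card (L i) : K) ≠ 0 := fun i =>
    Nat.cast_ne_zero.mpr Nat.card_pos.ne'
  -- pointwise identity
  have hpt : ∀ y : G, f y = (if y = 1 then f 1 else 0)
      + ∑ i, ((cnt H i y : K) / (Nat.card (L i) : K)) * f y := by
    intro y
    by_cases hy : y = 1
    · subst hy
      simp [cnt_one]
    · obtain ⟨i₀, h1, h2⟩ := P.cnt_spec hy
      rw [if_neg hy, zero_add, Finset.sum_eq_single i₀]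
      · rw [h1, div_self (hLpos i₀), one_mul]
      · intro i _ hi
        rw [h2 i hi]; simp
      · intro h; exact absurd (mem_univ _) h
  calc ∑ y : G, f y
      = ∑ y : G, ((if y = 1 then f 1 else 0)
          + ∑ i, ((cnt H i y : K) / (Nat.card (L i) : K)) * f y) :=
        Finset.sum_congr rfl (fun y _ => hpt y)
    _ = f 1 + ∑ i, ∑ y : G, ((cnt H i y : K) / (Nat.card (L i) : K)) * f y := by
        rw [Finset.sum_add_distrib, Finset.sum_ite_eq' univ (1 : G) (fun _ => f 1),
          if_pos (mem_univ _), Finset.sum_comm]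
    _ = f 1 + ∑ i, ((L i).index : K) * ∑ x ∈ A H i, f x := by
        congr 1
        apply Finset.sum_congr rfl
        intro i _
        have h3 : ∀ y : G, ((cnt H i y : K) / (Nat.card (L i) : K)) * f y
            = (1 / (Nat.card (L i) : K)) * ((cnt H i y : K) * f y) := by
          intro y; ring
        simp_rw [h3]
        rw [← Finset.mul_sum, sum_cnt f hf i]
        have h4 : (Fintype.card G : K) = ((L i).index : K) * (Nat.card (L i) : K) := by
          rw [← Nat.cast_mul, Subgroup.index_mul_card, Nat.card_eq_fintype_card]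
        rw [h4]
        field_simp

end PartData

end Cfsg.Agent.Lib.Helper8.PF7
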