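import Mathlib
import Cfsg.Agent.Lib.Helper8.PF7B

set_option autoImplicit false
set_option linter.unusedVariables false
set_option linter.unusedSectionVars false
set_option linter.style.haveILetI false

namespace Cfsg.Agent.Lib.Helper8.PF7

section general

variable {X : Type*} [Group X]

/-- `Σ_x |C_X(x)| = k(X) |X|` (Burnside). -/
theorem sum_card_centralizer [Fintype X] :
    ∑ x : X, Nat.card (Subgroup.centralizer ({x} : Set X)) =
      Nat.card (ConjClasses X) * Nat.card X := by
  classical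
  rw [← card_comm_eq_card_conjClasses_mul_card,
    Nat.card_congr (Equiv.subtypeProdEquivSigmaSubtype (Commute (S := X))), Nat.card_sigma]
  apply Finset.sum_congr rfl
  intro x _
  apply Nat.card_congr
  exact Equiv.subtypeEquivRight (fun y => by
    rw [Subgroup.mem_centralizer_singleton_iff]
    exact ⟨fun h => h.symm, fun h => h.eq.symm⟩)

theorem card_centralizer_conj' (g x : X) :
    Nat.card (Subgroup.centralizer ({g * x * g⁻¹} : Set X)) =
      Nat.card (Subgroup.centralizer ({x} : Set X)) := by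
  apply Nat.card_congr
  refine ⟨fun y => ⟨g⁻¹ * y.1 * g, ?_⟩, fun y => ⟨g * y.1 * g⁻¹, ?_⟩, ?_, ?_⟩
  · have := Subgroup.mem_centralizer_singleton_iff.mp y.2
    rw [Subgroup.mem_centralizer_singleton_iff]
    calc g⁻¹ * y.1 * g * x = g⁻¹ * (y.1 * (g * x * g⁻¹)) * g := by group
      _ = g⁻¹ * ((g * x * g⁻¹) * y.1) * g := by rw [this]
      _ = x * (g⁻¹ * y.1 * g) := by group
  · have := Subgroup.mem_centralizer_singleton_iff.mp y.2
    rw [Subgroup.mem_centralizer_singleton_iff]
    calc g * y.1 * g⁻¹ * (g * x * g⁻¹) = g * (y.1 * x) * g⁻¹ := by group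
      _ = g * (x * y.1) * g⁻¹ := by rw [this]
      _ = g * x * g⁻¹ * (g * y.1 * g⁻¹) := by group
  · intro y; apply Subtype.ext; simp only; group
  · intro y; apply Subtype.ext; simp only; group

/-- if `C_X(x) ≤ M` then `|C_X(x)| = |C_M(x)|`. -/
theorem card_centralizer_subtype {M : Subgroup X} (k : ↥M)
    (hle : Subgroup.centralizer ({(k : X)} : Set X) ≤ M) :
    Nat.card (Subgroup.centralizer ({k} : Set ↥M)) =
      Nat.card (Subgroup.centralizer ({(k : X)} : Set X)) := by
  apply Nat.card_congr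
  refine ⟨fun y => ⟨(y.1 : X), ?_⟩, fun y => ⟨⟨y.1, hle y.2⟩, ?_⟩, ?_, ?_⟩
  · have := Subgroup.mem_centralizer_singleton_iff.mp y.2
    rw [Subgroup.mem_centralizer_singleton_iff]
    exact congrArg Subtype.val this
  · have := Subgroup.mem_centralizer_singleton_iff.mp y.2
    rw [Subgroup.mem_centralizer_singleton_iff]
    exact Subtype.ext this
  · intro y; rfl
  · intro y; rfl

end general

namespace PartData

open Finset

variable {G : Type*} [Group G] {ι : Type*} {L H : ι → Subgroup G}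

/-- `e_i = |L i : H i|` -/
noncomputable def e (L H : ι → Subgroup G) (i : ι) : ℕ := (H i).relIndex (L i)
/-- `h_i = |H i|` -/
noncomputable def h (H : ι → Subgroup G) (i : ι) : ℕ := Nat.card (H i)
/-- `t_i = (h_i - 1)/e_i` -/
noncomputable def t (L H : ι → Subgroup G) (i : ι) : ℕ := (h H i - 1) / e L H i

theorem h_eq (P : PartData L H) [Finite G] (i : ι) : h H i = 1 + e L H i * t L H i :=
  P.card_H_eq i

theorem three_le_e (P : PartData L H) [Finite G] (hodd : Odd (Nat.card G)) (i : ι) :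
    3 ≤ e L H i := P.three_le_relIndex hodd i

theorem two_le_t' (P : PartData L H) [Finite G] (hodd : Odd (Nat.card G)) (i : ι) :
    2 ≤ t L H i := P.two_le_t hodd i

theorem even_t' (P : PartData L H) [Finite G] (hodd : Odd (Nat.card G)) (i : ι) :
    Even (t L H i) := P.even_t hodd i

theorem odd_e (P : PartData L H) (hodd : Odd (Nat.card G)) (i : ι) :
    Odd (e L H i) := P.odd_relIndex hodd i

theorem card_L_eq (P : PartData L H) (i : ι) : Nat.card (L i) = e L H i * h H i := P.card_L i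

theorem index_mul (P : PartData L H) (i : ι) :
    (L i).index * (e L H i * h H i) = Nat.card G := by
  rw [← P.card_L_eq i, Subgroup.index_mul_card]

variable [Fintype G]

theorem card_A (i : ι) : (A H i).card = h H i - 1 := by
  classical
  show _ = Nat.card (H i) - 1
  rw [← card_nonid (H := H) i, Nat.card_eq_fintype_card, Fintype.card_subtype]
  rfl

/-- sums over `A i` as sums over the subgroup `H i` -/
theorem sum_A_eq {K : Type*} [AddCommGroup K] (i : ι) [Fintype ↥(H i)] (F : G → K) :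
    ∑ x ∈ A H i, F x = (∑ x : ↥(H i), F x) - F 1 := by
  classical
  have h1 : ∑ x : ↥(H i), F x = ∑ x ∈ univ.filter (fun x : G => x ∈ H i), F x := by
    rw [Finset.sum_subtype (univ.filter (fun x : G => x ∈ H i)) (p := fun x => x ∈ H i)
      (by intro x; simp)]
  have h2 : A H i = (univ.filter (fun x : G => x ∈ H i)).erase 1 := by
    ext x
    rw [mem_A, Finset.mem_erase, Finset.mem_filter]
    simp [and_comm]
  have h3 : (1 : G) ∈ univ.filter (fun x : G => x ∈ H i) := by simp [(H i).one_mem]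
  rw [h1, h2, ← Finset.add_sum_erase _ F h3]
  abel

/-- **(P)**: `Σ_i t_i / h_i = 1 - 1/|G|`. -/
theorem sum_u [Fintype ι] (P : PartData L H) :
    ∑ i, ((t L H i : ℚ) / (1 + (e L H i : ℚ) * (t L H i : ℚ))) = 1 - 1 / (Nat.card G : ℚ) := by
  classical
  have hG : (Nat.card G : ℚ) ≠ 0 := Nat.cast_ne_zero.mpr Nat.card_pos.ne'
  have h1 := P.sum_eq (K := ℚ) (fun _ => (1 : ℚ)) (fun _ _ => rfl)
  simp only [Finset.sum_const, Finset.card_univ, nsmul_eq_mul, mul_one] at h1
  -- `|G| = 1 + Σ index_i (h_i - 1)`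
  have h2 : ∀ i, ((L i).index : ℚ) * ((A H i).card : ℚ)
      = (Nat.card G : ℚ) * ((t L H i : ℚ) / (1 + (e L H i : ℚ) * (t L H i : ℚ))) := by
    intro i
    have hh := P.h_eq i
    have hi := P.index_mul i
    have hhpos : (0 : ℚ) < 1 + (e L H i : ℚ) * (t L H i : ℚ) := by positivity
    have hepos : (e L H i : ℚ) ≠ 0 := by
      have := P.relIndex_ne_one i
      have h0 : e L H i ≠ 0 := by
        intro h0
        have := P.card_L_eq i
        rw [h0, zero_mul] at this
        exact (Nat.card_pos (α := ↥(L i))).ne' this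
      exact Nat.cast_ne_zero.mpr h0
    rw [card_A, ← hi, hh]
    have : 1 + e L H i * t L H i - 1 = e L H i * t L H i := by omega
    rw [this]
    push_cast
    field_simp
  rw [Nat.card_eq_fintype_card]
  have hG' : (Fintype.card G : ℚ) ≠ 0 := by rwa [Nat.card_eq_fintype_card] at hG
  have h3 : (Fintype.card G : ℚ)
      = 1 + (Fintype.card G : ℚ) * ∑ i, ((t L H i : ℚ) / (1 + (e L H i : ℚ) * (t L H i : ℚ))) := by
    rw [Finset.mul_sum]
    conv_lhs => rw [h1]
    congr 1
    apply Finset.sum_congr rfl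
    intro i _
    rw [h2 i, Nat.card_eq_fintype_card]
  obtain ⟨S, hS⟩ : ∃ S : ℚ, S = ∑ i, ((t L H i : ℚ) / (1 + (e L H i : ℚ) * (t L H i : ℚ))) :=
    ⟨_, rfl⟩
  rw [← hS] at h3 ⊢
  field_simp
  linarith

/-- **(0.5)** class number: `k(G) = 1 + Σ_i (k(H i) - 1)/e_i`. -/
theorem card_conjClasses [Fintype ι] (P : PartData L H) :
    (Nat.card (ConjClasses G) : ℚ)
      = 1 + ∑ i, ((Nat.card (ConjClasses ↥(H i)) : ℚ) - 1) / (e L H i : ℚ) := by
  classical
  have hG : (Nat.card G : ℚ) ≠ 0 := Nat.cast_ne_zero.mpr Nat.card_pos.ne'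
  have h1 := P.sum_eq (K := ℚ)
    (fun x => (Nat.card (Subgroup.centralizer ({x} : Set G)) : ℚ))
    (fun g x => by rw [card_centralizer_conj'])
  have h0 : ∑ y : G, (Nat.card (Subgroup.centralizer ({y} : Set G)) : ℚ)
      = (Nat.card (ConjClasses G) : ℚ) * (Nat.card G : ℚ) := by
    rw [← Nat.cast_mul, ← sum_card_centralizer, Nat.cast_sum]
  have hctop : ∀ {Y : Type _} [Group Y], Subgroup.centralizer ({(1 : Y)} : Set Y) = ⊤ := by
    intro Y _
    ext x
    rw [Subgroup.mem_centralizer_singleton_iff]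
    simp
  have hc1 : (Nat.card (Subgroup.centralizer ({(1 : G)} : Set G)) : ℚ) = (Nat.card G : ℚ) := by
    rw [hctop, Subgroup.card_top]
  have h2 : ∀ i, ((L i).index : ℚ) * ∑ x ∈ A H i, (Nat.card (Subgroup.centralizer ({x} : Set G)) : ℚ)
      = (Nat.card G : ℚ) * (((Nat.card (ConjClasses ↥(H i)) : ℚ) - 1) / (e L H i : ℚ)) := by
    intro i
    haveI : Fintype ↥(H i) := Fintype.ofFinite _
    have hA : ∑ x ∈ A H i, (Nat.card (Subgroup.centralizer ({x} : Set G)) : ℚ)
        = ∑ x ∈ A H i, (if hx : x ∈ H i then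
            (Nat.card (Subgroup.centralizer ({(⟨x, hx⟩ : ↥(H i))} : Set ↥(H i))) : ℚ) else 0) := by
      apply Finset.sum_congr rfl
      intro x hx
      rw [mem_A] at hx
      rw [dif_pos hx.1, card_centralizer_subtype ⟨x, hx.1⟩ (P.centralizer_le hx.1 hx.2)]
    rw [hA, sum_A_eq i (fun x => if hx : x ∈ H i then
            (Nat.card (Subgroup.centralizer ({(⟨x, hx⟩ : ↥(H i))} : Set ↥(H i))) : ℚ) else 0)]
    have h3 : ∑ x : ↥(H i), (if hx : (x : G) ∈ H i then
            (Nat.card (Subgroup.centralizer ({(⟨(x : G), hx⟩ : ↥(H i))} : Set ↥(H i))) : ℚ) else 0)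
        = (Nat.card (ConjClasses ↥(H i)) : ℚ) * (h H i : ℚ) := by
      have : ∀ x : ↥(H i), (if hx : (x : G) ∈ H i then
            (Nat.card (Subgroup.centralizer ({(⟨(x : G), hx⟩ : ↥(H i))} : Set ↥(H i))) : ℚ) else 0)
          = (Nat.card (Subgroup.centralizer ({x} : Set ↥(H i))) : ℚ) := by
        intro x
        rw [dif_pos x.2]
      simp_rw [this]
      rw [← Nat.cast_sum, sum_card_centralizer, Nat.cast_mul]
      rfl
    rw [h3, dif_pos (H i).one_mem]
    have h4 : (Nat.card (Subgroup.centralizer ({(⟨1, (H i).one_mem⟩ : ↥(H i))} : Set ↥(H i))) : ℚ)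
        = (h H i : ℚ) := by
      have : (⟨1, (H i).one_mem⟩ : ↥(H i)) = 1 := rfl
      rw [this, hctop, Subgroup.card_top]
      rfl
    rw [h4]
    have hi := P.index_mul i
    have hepos : (e L H i : ℚ) ≠ 0 := by
      have h0 : e L H i ≠ 0 := by
        intro h0
        have := P.card_L_eq i
        rw [h0, zero_mul] at this
        exact (Nat.card_pos (α := ↥(L i))).ne' this
      exact Nat.cast_ne_zero.mpr h0
    rw [← hi]
    push_cast
    field_simp
  rw [h0, hc1] at h1
  have h5 : (Nat.card (ConjClasses G) : ℚ) * (Nat.card G : ℚ)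
      = (Nat.card G : ℚ) * (1 + ∑ i, ((Nat.card (ConjClasses ↥(H i)) : ℚ) - 1) / (e L H i : ℚ)) := by
    rw [h1, mul_add, mul_one, Finset.mul_sum]
    congr 1
    apply Finset.sum_congr rfl
    intro i _
    exact h2 i
  rw [mul_comm] at h5
  exact mul_left_cancel₀ hG h5

end PartData

end Cfsg.Agent.Lib.Helper8.PF7
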