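import Mathlib

set_option autoImplicit false

namespace Cfsg.Agent.Lib.Helper8.PF7

open Finset

/-- `2c - t c² ≤ 0` for integers with `t ≥ 2`. -/
theorem delta_nonpos (t c : ℤ) (ht : 2 ≤ t) : 2 * c - t * c ^ 2 ≤ 0 := by
  have h1 : c ≤ c ^ 2 := by
    rcases le_or_gt c 0 with h | h
    · nlinarith [sq_nonneg c]
    · nlinarith
  nlinarith [sq_nonneg c]

/-- one-index bound: `(T+E)/(1+ET) + (E-1)/(2E+1) ≤ 1` for `E ≥ 3, T ≥ 2`, with a slack `δ ≤ 0`. -/
theorem key_ineq (E T δ : ℚ) (hE : 3 ≤ E) (hT : 2 ≤ T) (hδ : δ ≤ 0) :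
    (T + E + δ) / (1 + E * T) + (E - 1 + δ) / (2 * E + 1) ≤ 1 := by
  have h1 : (0 : ℚ) < 1 + E * T := by nlinarith
  have h2 : (0 : ℚ) < 2 * E + 1 := by linarith
  rw [div_add_div _ _ h1.ne' h2.ne', div_le_one (mul_pos h1 h2)]
  have h3 : 0 ≤ (E ^ 2 - 1) * (T - 2) := by
    apply mul_nonneg <;> nlinarith
  nlinarith [mul_nonneg (neg_nonneg.mpr hδ) h1.le, mul_nonneg (neg_nonneg.mpr hδ) h2.le]

/-- **Endgame** of Peterfalvi (7.11) (blueprint `notes/PF7_S1526_lead.md`, §8): the integer data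
`e, t, d, c, a` with the partition identity (P), the row relations (R), the column inequalities
(C), the parity consequence (PAR') and `d_i² ≥ 2` are contradictory. -/
theorem endgame {ι : Type*} [Fintype ι] [DecidableEq ι] [Nonempty ι]
    (e t d c : ι → ℤ) (a : ι → ι → ℤ) (N : ℚ) (hN : 0 < N)
    (he : ∀ i, 3 ≤ e i) (ht : ∀ i, 2 ≤ t i)
    (hP : ∑ i, ((t i : ℚ) / (1 + e i * t i)) = 1 - 1 / N)
    (hR : ∀ j, (d j : ℚ) ^ 2 / N
        + ∑ i ∈ univ.erase j, (a j i : ℚ) ^ 2 * ((t i : ℚ) / (1 + e i * t i))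
        + (c j : ℚ) ^ 2 * ((t j : ℚ) / (1 + e j * t j))
          = ((e j : ℚ) + 2 * c j) / (1 + e j * t j))
    (hC : ∀ i, 1 + ∑ j ∈ univ.erase i, t j * (a j i) ^ 2 + t i * (c i) ^ 2 ≤ e i + 2 * c i)
    (hPar : ∀ i l, i ≠ l → a i l ≠ 0 ∨ a l i ≠ 0)
    (hd : ∀ i, 2 ≤ (d i) ^ 2) : False := by
  classical
  obtain ⟨m, -, hm⟩ := Finset.exists_min_image (univ : Finset ι) e ⟨Classical.arbitrary ι, mem_univ _⟩
  have hm' : ∀ j, e m ≤ e j := fun j => hm j (mem_univ j)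
  set u : ι → ℚ := fun i => (t i : ℚ) / (1 + e i * t i) with hu
  have hpos : ∀ i, (0 : ℚ) < 1 + e i * t i := by
    intro i
    have h1 : (3 : ℚ) ≤ e i := by exact_mod_cast he i
    have h2 : (2 : ℚ) ≤ t i := by exact_mod_cast ht i
    nlinarith
  have hu0 : ∀ i, 0 ≤ u i := by
    intro i
    have h2 : (2 : ℚ) ≤ t i := by exact_mod_cast ht i
    exact div_nonneg (by linarith) (hpos i).le
  have hEm : (3 : ℚ) ≤ e m := by exact_mod_cast he m
  have hTm : (2 : ℚ) ≤ t m := by exact_mod_cast ht m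
  have h2e : (0 : ℚ) < 2 * e m + 1 := by linarith
  -- termwise bound for `j ≠ m`
  have hterm : ∀ j ∈ univ.erase m,
      u j ≤ (a m j : ℚ) ^ 2 * u j + ((t j * (a j m) ^ 2 : ℤ) : ℚ) / (2 * e m + 1) := by
    intro j hj
    have hjm : j ≠ m := (mem_erase.mp hj).1
    have htj : (2 : ℚ) ≤ t j := by exact_mod_cast ht j
    have hej : (e m : ℚ) ≤ e j := by exact_mod_cast hm' j
    by_cases h0 : a j m = 0
    · have h1 : a m j ≠ 0 := by
        rcases hPar m j (Ne.symm hjm) with h | h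
        · exact h
        · exact absurd h0 h
      have h2 : (1 : ℚ) ≤ (a m j : ℚ) ^ 2 := by
        have : (1 : ℤ) ≤ (a m j) ^ 2 := by
          have := sq_pos_of_ne_zero (a := a m j) h1 |> Int.add_one_le_iff.mpr
          simpa using this
        exact_mod_cast this
      have h3 : (0 : ℚ) ≤ ((t j * (a j m) ^ 2 : ℤ) : ℚ) / (2 * e m + 1) := by
        rw [h0]; simp
      nlinarith [hu0 j]
    · have h2 : (1 : ℚ) ≤ (a j m : ℚ) ^ 2 := by
        have : (1 : ℤ) ≤ (a j m) ^ 2 := by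
          have := sq_pos_of_ne_zero (a := a j m) h0 |> Int.add_one_le_iff.mpr
          simpa using this
        exact_mod_cast this
      have h3 : u j ≤ (t j : ℚ) / (2 * e m + 1) := by
        rw [hu]
        simp only
        rw [div_le_div_iff₀ (hpos j) h2e]
        have h6 : 2 * (e m : ℚ) ≤ e j * t j := by nlinarith
        nlinarith
      have h4 : (t j : ℚ) / (2 * e m + 1) ≤ ((t j * (a j m) ^ 2 : ℤ) : ℚ) / (2 * e m + 1) := by
        apply div_le_div_of_nonneg_right _ h2e.le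
        push_cast
        nlinarith
      have h5 : (0 : ℚ) ≤ (a m j : ℚ) ^ 2 * u j := mul_nonneg (sq_nonneg _) (hu0 j)
      linarith
  have hsum : ∑ j ∈ univ.erase m, u j
      ≤ ∑ j ∈ univ.erase m, (a m j : ℚ) ^ 2 * u j
        + ((∑ j ∈ univ.erase m, t j * (a j m) ^ 2 : ℤ) : ℚ) / (2 * e m + 1) := by
    calc ∑ j ∈ univ.erase m, u j
        ≤ ∑ j ∈ univ.erase m, ((a m j : ℚ) ^ 2 * u j
            + ((t j * (a j m) ^ 2 : ℤ) : ℚ) / (2 * e m + 1)) := Finset.sum_le_sum hterm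
      _ = _ := by
        rw [Finset.sum_add_distrib, ← Finset.sum_div]
        push_cast
        rfl
  -- the (C) bound
  have hCm : ((∑ j ∈ univ.erase m, t j * (a j m) ^ 2 : ℤ) : ℚ)
      ≤ (e m : ℚ) - 1 + (2 * c m - t m * (c m) ^ 2) := by
    have := hC m
    have h' : (∑ j ∈ univ.erase m, t j * (a j m) ^ 2 : ℤ) ≤ e m - 1 + (2 * c m - t m * (c m) ^ 2) := by
      linarith
    exact_mod_cast h'
  have hδ : (2 * (c m : ℚ) - t m * (c m : ℚ) ^ 2) ≤ 0 := by
    exact_mod_cast delta_nonpos (t m) (c m) (ht m)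
  -- the (R) identity
  have hRm := hR m
  have hsplit : ∑ i, u i = u m + ∑ j ∈ univ.erase m, u j := by
    rw [Finset.add_sum_erase _ _ (mem_univ m)]
  have hPm : ∑ i, u i = 1 - 1 / N := hP
  set δ : ℚ := (2 * (c m : ℚ) - t m * (c m : ℚ) ^ 2) with hδdef
  have hR' : ∑ i ∈ univ.erase m, (a m i : ℚ) ^ 2 * u i
      = ((e m : ℚ) + δ) / (1 + e m * t m) - (d m : ℚ) ^ 2 / N := by
    have hum : u m = (t m : ℚ) / (1 + e m * t m) := rfl
    have : ((e m : ℚ) + δ) / (1 + e m * t m)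
        = ((e m : ℚ) + 2 * c m) / (1 + e m * t m) - (c m : ℚ) ^ 2 * u m := by
      rw [hum, hδdef]
      field_simp
      ring
    rw [this]
    linarith
  have hkey := key_ineq (e m) (t m) δ hEm hTm hδ
  have hfinal : 1 - 1 / N ≤ 1 - (d m : ℚ) ^ 2 / N := by
    have hum : u m = (t m : ℚ) / (1 + e m * t m) := rfl
    have h1 : ∑ j ∈ univ.erase m, u j
        ≤ ((e m : ℚ) + δ) / (1 + e m * t m) - (d m : ℚ) ^ 2 / N
          + ((e m : ℚ) - 1 + δ) / (2 * e m + 1) := by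
      refine hsum.trans ?_
      rw [hR']
      have : ((∑ j ∈ univ.erase m, t j * (a j m) ^ 2 : ℤ) : ℚ) / (2 * e m + 1)
          ≤ ((e m : ℚ) - 1 + δ) / (2 * e m + 1) :=
        div_le_div_of_nonneg_right hCm h2e.le
      linarith
    have h2 : ((t m : ℚ) + e m + δ) / (1 + e m * t m)
        = u m + ((e m : ℚ) + δ) / (1 + e m * t m) := by
      rw [hum]; ring
    rw [← hPm, hsplit]
    linarith
  have hd2 : (2 : ℚ) ≤ (d m : ℚ) ^ 2 := by exact_mod_cast hd m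
  have h3 : (d m : ℚ) ^ 2 / N ≤ 1 / N := by linarith
  rw [div_le_div_iff_of_pos_right hN] at h3
  linarith

end Cfsg.Agent.Lib.Helper8.PF7
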