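import Mathlib
import Cfsg.Prelude.Def_OddOrderLocal
import Cfsg.Agent.Lib.Helper4.TypeP
import Cfsg.Agent.H2.FrobComplSylow

/-! Group theory for Peterfalvi (8.x) / statement S1542 (helper8): a finite group `M` with a normal
subgroup `K` containing the centralizer of each of its non-identity elements (a Frobenius kernel).
* `frob_mod_derived`: `M / K'` is again "Frobenius" with kernel `K / K'`;
* `index_dvd_exponent`: with a complement of odd order, `[M : K]` divides the exponent of `M / K`. -/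

set_option autoImplicit false
set_option linter.style.haveILetI false
set_option linter.unusedSectionVars false

namespace Cfsg.Agent.Lib.Helper8.PF8

section Frob

variable {M : Type*} [Group M] (K : Subgroup M) [hKn : K.Normal]

/-- For `x ∉ K` the commutator map `k ↦ x k x⁻¹ k⁻¹` is injective on `K`. -/
theorem comm_inj (hC : ∀ n ∈ K, n ≠ 1 → Subgroup.centralizer ({n} : Set M) ≤ K)
    {x : M} (hx : x ∉ K) {k k' : M} (hk : k ∈ K) (hk' : k' ∈ K)
    (h : x * k * x⁻¹ * k⁻¹ = x * k' * x⁻¹ * k'⁻¹) : k = k' := by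
  by_contra hne
  set n := k'⁻¹ * k with hn
  have hnK : n ∈ K := K.mul_mem (K.inv_mem hk') hk
  have hn1 : n ≠ 1 := by
    intro h1
    apply hne
    have : k = k' * n := by rw [hn]; group
    rw [this, h1, mul_one]
  have hcomm : x * n = n * x := by
    have h2 : k * x⁻¹ * k⁻¹ = k' * x⁻¹ * k'⁻¹ := by
      calc k * x⁻¹ * k⁻¹ = x⁻¹ * (x * k * x⁻¹ * k⁻¹) := by group
        _ = x⁻¹ * (x * k' * x⁻¹ * k'⁻¹) := by rw [h]
        _ = k' * x⁻¹ * k'⁻¹ := by group
    have h3 : n * x⁻¹ = x⁻¹ * n := by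
      rw [hn]
      calc k'⁻¹ * k * x⁻¹ = k'⁻¹ * (k * x⁻¹ * k⁻¹) * k := by group
        _ = k'⁻¹ * (k' * x⁻¹ * k'⁻¹) * k := by rw [h2]
        _ = x⁻¹ * (k'⁻¹ * k) := by group
    calc x * n = x * (n * x⁻¹) * x := by group
      _ = x * (x⁻¹ * n) * x := by rw [h3]
      _ = n * x := by group
  have hxc : x ∈ Subgroup.centralizer ({n} : Set M) := by
    rw [Subgroup.mem_centralizer_singleton_iff]
    exact hcomm
  exact hx (hC n hnK hn1 hxc)

/-- `M / K'` is a Frobenius group with kernel `K / K'`, in the form used by Peterfalvi (6.5). -/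
theorem frob_mod_derived [Finite M]
    (hC : ∀ n ∈ K, n ≠ 1 → Subgroup.centralizer ({n} : Set M) ≤ K) :
    ∀ k ∈ K, k ∉ ⁅K, K⁆ → ∀ x : M, x * k * x⁻¹ * k⁻¹ ∈ ⁅K, K⁆ → x ∈ K := by
  intro k hk hkD x hxk
  by_contra hx
  have hDK : ⁅K, K⁆ ≤ K := Subgroup.commutator_le_left K K
  haveI hDn : (⁅K, K⁆ : Subgroup M).Normal := Subgroup.commutator_normal K K
  let f : ↥(⁅K, K⁆ : Subgroup M) → ↥(⁅K, K⁆ : Subgroup M) := fun d =>
    ⟨x * (d : M) * x⁻¹ * (d : M)⁻¹,
      (⁅K, K⁆ : Subgroup M).mul_mem (hDn.conj_mem _ d.2 x) ((⁅K, K⁆ : Subgroup M).inv_mem d.2)⟩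
  have hf : Function.Injective f := by
    intro d d' hdd
    apply Subtype.ext
    exact comm_inj K hC hx (hDK d.2) (hDK d'.2) (congrArg Subtype.val hdd)
  obtain ⟨d, hd⟩ := Finite.surjective_of_injective hf ⟨x * k * x⁻¹ * k⁻¹, hxk⟩
  have hd' : x * (d : M) * x⁻¹ * (d : M)⁻¹ = x * k * x⁻¹ * k⁻¹ := congrArg Subtype.val hd
  have : (d : M) = k := comm_inj K hC hx (hDK d.2) hk hd'
  exact hkD (this ▸ d.2)

/-- A complement of a Frobenius kernel acts without fixed points. -/
theorem fpf_of_centralizer_le (hC : ∀ n ∈ K, n ≠ 1 → Subgroup.centralizer ({n} : Set M) ≤ K)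
    (U : Subgroup M) (hKU : K ⊓ U = ⊥) :
    ∀ h ∈ U, h ≠ 1 → K ⊓ Subgroup.centralizer {h} = ⊥ := by
  intro h hh hh1
  rw [eq_bot_iff]
  intro n hn
  rw [Subgroup.mem_bot]
  by_contra hn1
  have hhc : h ∈ Subgroup.centralizer ({n} : Set M) := by
    rw [Subgroup.mem_centralizer_singleton_iff]
    have := Subgroup.mem_centralizer_singleton_iff.mp hn.2
    exact this.symm
  have hhK : h ∈ K := hC n hn.1 hn1 hhc
  have : h ∈ K ⊓ U := ⟨hhK, hh⟩
  rw [hKU, Subgroup.mem_bot] at this
  exact hh1 this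

/-- If `K` is a nontrivial Frobenius kernel of the odd-order group `M` with complement `U`, then
`[M : K]` divides the exponent of `M / K` (the Sylow subgroups of `U` are cyclic). -/
theorem index_dvd_exponent [Finite M] (hodd : Odd (Nat.card M)) (hK1 : K ≠ ⊥)
    (hC : ∀ n ∈ K, n ≠ 1 → Subgroup.centralizer ({n} : Set M) ≤ K)
    (U : Subgroup M) (hc : Subgroup.IsComplement' K U) :
    K.index ∣ Monoid.exponent (M ⧸ K) := by
  classical
  have hKU : K ⊓ U = ⊥ := disjoint_iff.1 hc.disjoint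
  have hfpf := fpf_of_centralizer_le K hC U hKU
  have hidx : K.index = Nat.card U := hc.symm.index_eq_card
  rw [hidx]
  have hexp0 : Monoid.exponent (M ⧸ K) ≠ 0 := Monoid.exponent_ne_zero_of_finite
  have hU0 : Nat.card U ≠ 0 := Nat.card_pos.ne'
  rw [← Nat.factorization_le_iff_dvd hU0 hexp0]
  intro q
  by_cases hq : q.Prime
  · haveI : Fact q.Prime := ⟨hq⟩
    obtain ⟨P⟩ : Nonempty (Sylow q U) := inferInstance
    have hPcard : Nat.card P = q ^ (Nat.card U).factorization q := P.card_eq_multiplicity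
    have hcyc : IsCyclic P := by
      rcases Cfsg.Agent.H2.FCS.sylow_cyclic_or_quaternion K U hK1 hfpf q P with h | ⟨n, ⟨e⟩⟩
      · exact h
      · exfalso
        have h1 : Nat.card P = 4 * 2 ^ n := by
          rw [Nat.card_congr e.toEquiv]
          haveI : NeZero (2 ^ n) := ⟨by positivity⟩
          rw [Nat.card_eq_fintype_card, QuaternionGroup.card]
        have h2 : Nat.card P ∣ Nat.card M :=
          (Subgroup.card_subgroup_dvd_card (P : Subgroup U)).trans (Subgroup.card_subgroup_dvd_card U)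
        have h3 : Odd (Nat.card P) := Odd.of_dvd_nat hodd h2
        rw [h1] at h3
        exact (Nat.not_even_iff_odd.mpr h3) ⟨2 * 2 ^ n, by ring⟩
    obtain ⟨g, hg⟩ := hcyc.exists_generator
    have hord : orderOf g = Nat.card P := orderOf_eq_card_of_forall_mem_zpowers hg
    -- the image of g in M ⧸ K has the same order
    let φ : ↥(P : Subgroup U) →* M ⧸ K :=
      ((QuotientGroup.mk' K).comp U.subtype).comp (P : Subgroup U).subtype
    have hφ : Function.Injective φ := by
      rw [injective_iff_map_eq_one]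
      intro a ha
      have h1 : ((a : U) : M) ∈ K := by
        have : (QuotientGroup.mk' K) ((a : U) : M) = 1 := ha
        exact (QuotientGroup.eq_one_iff _).mp this
      have h2 : ((a : U) : M) ∈ K ⊓ U := ⟨h1, (a : U).2⟩
      rw [hKU, Subgroup.mem_bot] at h2
      apply Subtype.ext
      apply Subtype.ext
      exact h2
    have h4 : orderOf (φ g) = orderOf g := orderOf_injective φ hφ g
    have h5 : q ^ (Nat.card U).factorization q ∣ Monoid.exponent (M ⧸ K) := by
      rw [← hPcard, ← hord, ← h4]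
      exact Monoid.order_dvd_exponent _
    exact (hq.pow_dvd_iff_le_factorization hexp0).mp h5
  · rw [Nat.factorization_eq_zero_of_not_prime _ hq]
    exact Nat.zero_le _

end Frob

end Cfsg.Agent.Lib.Helper8.PF8
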