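import Mathlib
import Cfsg.Prelude.Def_OddOrder
import Cfsg.Prelude.Def_OddOrderLocal
import Cfsg.Agent.Lib.Helper4.TypeP
import Cfsg.Agent.Lib.Helper8.BGTenD
import Cfsg.Agent.Lib.Helper8.PF7P
import Cfsg.Agent.Lib.Helper8.PF8A

/-! Group theory at the level of `G` for statement S1542 (helper8): a maximal subgroup `L` of Type I
whose `H = L_F` contains `C_L(x)` for every non-identity `x ∈ H`. -/

set_option autoImplicit false
set_option linter.style.haveILetI false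
set_option linter.unusedSectionVars false
set_option linter.unusedVariables false

namespace Cfsg.Agent.Lib.Helper8.PF8

open Cfsg.Agent.Lib.Helper4.TypeP

section GLevel

variable {G : Type*} [Group G] (L : Subgroup G)

/-- the centralizer condition inside the group `↥L` -/
theorem hC_of_hfrob
    (hfrob : ∀ x ∈ Cfsg.fittingHallOf L, x ≠ 1 →
      L ⊓ Subgroup.centralizer ({x} : Set G) ≤ Cfsg.fittingHallOf L) :
    ∀ n ∈ Cfsg.fittingHall ↥L, n ≠ 1 →
      Subgroup.centralizer ({n} : Set ↥L) ≤ Cfsg.fittingHall ↥L := by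
  intro n hn hn1 y hy
  have hnH : (n : G) ∈ Cfsg.fittingHallOf L := Subgroup.mem_map_of_mem L.subtype hn
  have hn1' : (n : G) ≠ 1 := fun h => hn1 (Subtype.ext h)
  have hy' : y * n = n * y := Subgroup.mem_centralizer_singleton_iff.mp hy
  have hyc : (y : G) ∈ L ⊓ Subgroup.centralizer ({(n : G)} : Set G) := by
    refine ⟨y.2, ?_⟩
    show (y : G) ∈ Subgroup.centralizer ({(n : G)} : Set G)
    rw [Subgroup.mem_centralizer_singleton_iff]
    exact congrArg Subtype.val hy'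
  obtain ⟨z, hz, hzy⟩ := hfrob (n : G) hnH hn1' hyc
  have : z = y := Subtype.ext hzy
  exact this ▸ hz

/-- membership in `fittingHallOf L` for elements of `↥L` -/
theorem coe_mem_fittingHallOf_iff (x : ↥L) :
    (x : G) ∈ Cfsg.fittingHallOf L ↔ x ∈ Cfsg.fittingHall ↥L := by
  constructor
  · rintro ⟨z, hz, hzx⟩
    have : z = x := Subtype.ext hzx
    exact this ▸ hz
  · intro h
    exact Subgroup.mem_map_of_mem L.subtype h

/-- `A(L) = H ∖ {1}` for `L` of Type I with the centralizer condition. -/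
theorem typeA_eq (hI : Cfsg.IsOfTypeI L)
    (hfrob : ∀ x ∈ Cfsg.fittingHallOf L, x ≠ 1 →
      L ⊓ Subgroup.centralizer ({x} : Set G) ≤ Cfsg.fittingHallOf L) :
    Cfsg.typeA L = {a | a ∈ Cfsg.fittingHallOf L ∧ a ≠ 1} := by
  unfold Cfsg.typeA
  rw [if_pos hI]
  ext a
  simp only [Set.mem_ofPred_eq]
  constructor
  · rintro ⟨haL, ha1, x, hx, hx1, hax⟩
    refine ⟨hfrob x hx hx1 ⟨haL, ?_⟩, ha1⟩
    show a ∈ Subgroup.centralizer ({x} : Set G)
    rw [Subgroup.mem_centralizer_singleton_iff]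
    exact hax
  · rintro ⟨ha, ha1⟩
    exact ⟨fittingHallOf_le L ha, ha1, a, ha, ha1, rfl⟩

/-- for `x : ↥L`: `(x : G) ∈ A(L)` iff `x ∈ K ∖ {1}`. -/
theorem coe_mem_typeA_iff (hI : Cfsg.IsOfTypeI L)
    (hfrob : ∀ x ∈ Cfsg.fittingHallOf L, x ≠ 1 →
      L ⊓ Subgroup.centralizer ({x} : Set G) ≤ Cfsg.fittingHallOf L) (x : ↥L) :
    (x : G) ∈ Cfsg.typeA L ↔ x ∈ Cfsg.fittingHall ↥L ∧ x ≠ 1 := by
  rw [typeA_eq L hI hfrob]
  simp only [Set.mem_ofPred_eq]
  rw [coe_mem_fittingHallOf_iff]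
  constructor
  · rintro ⟨h1, h2⟩
    exact ⟨h1, fun h => h2 (by rw [h]; rfl)⟩
  · rintro ⟨h1, h2⟩
    exact ⟨h1, fun h => h2 (Subtype.ext h)⟩

/-- the alternatives (b), (c) of Type I give one of the "good" cases of Peterfalvi (6.5) -/
theorem hgood_of_typeI [Finite G] (hI : Cfsg.IsOfTypeI L)
    (hfrob : ∀ x ∈ Cfsg.fittingHallOf L, x ≠ 1 →
      L ⊓ Subgroup.centralizer ({x} : Set G) ≤ Cfsg.fittingHallOf L)
    (hnTI : ¬ Cfsg.IsTISubset (Cfsg.fittingHallOf L : Set G)) :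
    ⁅Cfsg.fittingHall ↥L, Cfsg.fittingHall ↥L⁆ ≤ (⊥ : Subgroup ↥L) ∨
    (¬ ∃ p m : ℕ, p.Prime ∧ Nat.card (Cfsg.fittingHall ↥L) = p ^ m) ∨
    (∃ p m : ℕ, p.Prime ∧ Nat.card (Cfsg.fittingHall ↥L) = p ^ m ∧
      (Cfsg.fittingHall ↥L).index ∣ p - 1) := by
  obtain ⟨⟨hsolv, hodd, hK1, hKt, U, hU1, hcompl, -, -⟩, hcases⟩ := hI
  have hC := hC_of_hfrob L hfrob
  rcases hcases with hTI | ⟨hab, -, -⟩ | ⟨hexp, -⟩
  · exact absurd hTI hnTI
  · left
    rw [Subgroup.commutator_le]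
    intro a ha b hb
    rw [Subgroup.mem_bot, commutatorElement_eq_one_iff_commute]
    have h1 := hab.is_comm.comm
      (⟨(a : G), (coe_mem_fittingHallOf_iff L a).mpr ha⟩ : ↥(Cfsg.fittingHallOf L))
      ⟨(b : G), (coe_mem_fittingHallOf_iff L b).mpr hb⟩
    have h2 : (a : G) * (b : G) = (b : G) * (a : G) := congrArg Subtype.val h1
    exact Subtype.ext h2
  · right
    by_cases hpp : ∃ p m : ℕ, p.Prime ∧ Nat.card (Cfsg.fittingHall ↥L) = p ^ m
    · right
      obtain ⟨p, m, hp, hpm⟩ := hpp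
      refine ⟨p, m, hp, hpm, ?_⟩
      have hm : m ≠ 0 := by
        intro hm
        rw [hm, pow_zero] at hpm
        exact hK1 (Subgroup.card_eq_one.mp hpm)
      have hpdvd : p ∣ Nat.card (Cfsg.fittingHallOf L) := by
        rw [card_fittingHallOf, hpm]
        exact dvd_pow_self p hm
      exact (index_dvd_exponent (Cfsg.fittingHall ↥L) hodd hK1 hC U hcompl).trans
        (hexp p hp hpdvd)
    · left
      exact hpp

/-- the data of S1524 (Sibley) in the TI case -/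
theorem s1524_data [Finite G] (hG : Cfsg.IsMinSimpleOddOrder G) (hL : IsCoatom L)
    (hI : Cfsg.IsOfTypeI L)
    (hfrob : ∀ x ∈ Cfsg.fittingHallOf L, x ≠ 1 →
      L ⊓ Subgroup.centralizer ({x} : Set G) ≤ Cfsg.fittingHallOf L)
    (hTI : Cfsg.IsTISubset (Cfsg.fittingHallOf L : Set G)) :
    Cfsg.Agent.Lib.Helper8.PF7.PairData L (Cfsg.fittingHallOf L) := by
  obtain ⟨⟨hsolv, hodd, hK1, hKt, -⟩, -⟩ := hI
  have hHL : Cfsg.fittingHallOf L ≤ L := fittingHallOf_le L
  have hH1 : Cfsg.fittingHallOf L ≠ ⊥ := by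
    intro h
    apply hK1
    unfold Cfsg.fittingHallOf at h
    exact (Subgroup.map_eq_bot_iff_of_injective _ L.subtype_injective).mp h
  have hHne : Cfsg.fittingHallOf L ≠ L := by
    intro h
    apply hKt
    rw [eq_top_iff]
    intro x _
    rw [← coe_mem_fittingHallOf_iff, h]
    exact x.2
  have hHt : Cfsg.fittingHallOf L ≠ ⊤ :=
    Cfsg.Agent.Lib.Helper8.BGTen.ne_top_of_le_coatom hL hHL
  have hNt := Cfsg.Agent.Lib.Helper8.BGTen.normalizer_ne_top' hG hH1 hHt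
  have hLN := le_normalizer_fittingHallOf L
  have hN : Subgroup.normalizer (Cfsg.fittingHallOf L : Set G) = L := by
    rcases eq_or_lt_of_le hLN with h | h
    · exact h.symm
    · exact absurd (hL.2 _ h) hNt
  refine ⟨lt_of_le_of_ne hHL hHne, hH1, ?_, hfrob, hTI, hN⟩
  intro x hx h hh
  have := hLN hx
  rw [Subgroup.mem_normalizer_iff] at this
  exact (this h).mp hh

end GLevel

end Cfsg.Agent.Lib.Helper8.PF8
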