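import Mathlib
import Cfsg.Prelude.Def_OddOrderChar
import Cfsg.Agent.H2.PF6.E
import Cfsg.Agent.Lib.helper3.Frob
import Cfsg.Agent.Lib.helper3.FP3
import Cfsg.Agent.Lib.helper3.Irr14
import Cfsg.Agent.Lib.helper3.Dade3
import Cfsg.Agent.Lib.helper3.IndFunTI
import Cfsg.Agent.Lib.Helper4.DadeE

/-! Character theory for statement S1542 (helper8): the set `S` of characters induced from the
non-principal irreducible characters of a Frobenius kernel `K ⊴ L`, and the Dade map on `ℤ[S, L^#]`. -/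

set_option autoImplicit false
set_option linter.style.haveILetI false
set_option linter.unusedSectionVars false
set_option linter.unusedVariables false

namespace Cfsg.Agent.Lib.Helper8.PF8

open Cfsg Cfsg.Agent.Lib.helper3.Irr Cfsg.Agent.Lib.helper3.IndFun Cfsg.Agent.Lib.helper3.FP
open Cfsg.Agent.Lib.helper3.Dade Cfsg.Agent.Lib.helper3.IndFunTI
open Cfsg.Agent.H2.PF6
open scoped ComplexConjugate

section chars

variable {L : Type*} [Group L] [Fintype L] (K : Subgroup L) [hK : K.Normal]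

theorem S_irr (hC : ∀ n ∈ K, n ≠ 1 → Subgroup.centralizer ({n} : Set L) ≤ K) :
    ∀ χ ∈ inducedIrrAbove K ⊥, IsIrrCharacter L χ := by
  rintro χ ⟨θ, hθ, hθ1, -, rfl⟩
  exact isIrrCharacter_indFun_of_centralizer_le K hC θ hθ hθ1

theorem S_nonempty (hsolv : Group.IsSolvable K) (hK1 : K ≠ ⊥) :
    (inducedIrrAbove K ⊥).Nonempty := by
  obtain ⟨θ, hθ, -⟩ := exists_linear_induced K hsolv ⊥ (bot_lt_iff_ne_bot.mpr hK1)
  exact ⟨indFun K (θ : K → ℂ), (mem_inducedIrrAbove K).mpr ⟨θ, hθ, rfl⟩⟩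

theorem S_vanish : ∀ χ ∈ inducedIrrAbove K ⊥, ∀ x : L, x ∉ K → χ x = 0 := by
  rintro χ ⟨θ, -, -, -, rfl⟩ x hx
  exact indFun_normal_apply_of_not_mem K θ hx

theorem S_ne_one : ∀ χ ∈ inducedIrrAbove K ⊥, χ ≠ fun _ => 1 := by
  rintro χ ⟨θ, hθ, hθ1, -, rfl⟩ h
  haveI : Fintype K := Fintype.ofFinite K
  have h1 : classInner (indFun K θ) (fun _ : L => (1 : ℂ)) = 1 := by
    rw [h]
    exact irr_classInner_self isIrrCharacter_one
  have hcf : IsClassFunction L (fun _ : L => (1 : ℂ)) := fun _ _ => rfl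
  rw [frobenius_reciprocity K θ _ hcf] at h1
  have h2 : classInner θ (fun _ : K => (1 : ℂ)) = 0 :=
    irr_classInner_eq_zero hθ isIrrCharacter_one hθ1
  rw [h2] at h1
  exact zero_ne_one h1

theorem S_conj (hodd : Odd (Nat.card L))
    (hC : ∀ n ∈ K, n ≠ 1 → Subgroup.centralizer ({n} : Set L) ≤ K) :
    ∀ χ ∈ inducedIrrAbove K ⊥, Cfsg.conjFun χ ∈ inducedIrrAbove K ⊥ ∧ Cfsg.conjFun χ ≠ χ := by
  intro χ hχ
  refine ⟨inducedIrrAbove_conj K hχ, ?_⟩
  intro h
  have hreal : ∀ g : L, (χ g).im = 0 := by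
    intro g
    have h2 : conj (χ g) = χ g := congrFun h g
    exact Complex.conj_eq_iff_im.mp h2
  have h1 : χ = fun _ => 1 := eq_one_of_real_of_odd hodd ⟨χ, S_irr K hC χ hχ⟩ hreal
  exact S_ne_one K χ hχ h1

theorem zspan_vanish : ∀ α ∈ zspan (inducedIrrAbove K ⊥), ∀ x : L, x ∉ K → α x = 0 := by
  intro α hα
  refine zspan_induction (fun α => ∀ x : L, x ∉ K → α x = 0) (fun x _ => rfl) (S_vanish K) ?_ ?_ hα
  · intro a b ha hb x hx
    rw [Pi.add_apply, ha x hx, hb x hx, add_zero]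
  · intro n a ha x hx
    rw [Pi.smul_apply, ha x hx, smul_zero]

theorem zspan_gen (hC : ∀ n ∈ K, n ≠ 1 → Subgroup.centralizer ({n} : Set L) ≤ K) :
    ∀ α ∈ zspan (inducedIrrAbove K ⊥), IsGeneralizedCharacter L α := by
  intro α hα
  exact zspan_induction (fun α => IsGeneralizedCharacter L α)
    Cfsg.Agent.Lib.helper3.GenChar.zero
    (fun χ hχ => Cfsg.Agent.Lib.helper3.GenChar.of_isIrrCharacter (S_irr K hC χ hχ))
    (fun a b ha hb => Cfsg.Agent.Lib.helper3.GenChar.add ha hb)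
    (fun n a ha => Cfsg.Agent.Lib.helper3.GenChar.zsmul ha n) hα

end chars

section dade

variable {G : Type*} [Group G] {A : Set G} {L : Subgroup G} {H : G → Subgroup G}

theorem dade_add (α β : ↥L → ℂ) :
    dadeIsometry A L H (α + β) = dadeIsometry A L H α + dadeIsometry A L H β := by
  funext g
  rw [Pi.add_apply]
  by_cases h : ∃ a : ↥L, (a : G) ∈ A ∧ ∃ x : G, ∃ u ∈ H (a : G), x * g * x⁻¹ = (a : G) * u
  · unfold Cfsg.dadeIsometry
    rw [dif_pos h, dif_pos h, dif_pos h]
    rfl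
  · unfold Cfsg.dadeIsometry
    rw [dif_neg h, dif_neg h, dif_neg h, add_zero]

theorem dade_zsmul (n : ℤ) (α : ↥L → ℂ) :
    dadeIsometry A L H (n • α) = n • dadeIsometry A L H α := by
  funext g
  rw [Pi.smul_apply]
  by_cases h : ∃ a : ↥L, (a : G) ∈ A ∧ ∃ x : G, ∃ u ∈ H (a : G), x * g * x⁻¹ = (a : G) * u
  · unfold Cfsg.dadeIsometry
    rw [dif_pos h, dif_pos h]
    rfl
  · unfold Cfsg.dadeIsometry
    rw [dif_neg h, dif_neg h, smul_zero]

variable [Fintype G] [Fintype L]

/-- The Dade map is a linear isometry on any set of generalized characters vanishing off `A`. -/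
theorem dade_isLinearIsometryOn (hD : DadeHypothesis A L H) (E : Set (↥L → ℂ))
    (hgen : ∀ α ∈ E, IsGeneralizedCharacter ↥L α)
    (hvan : ∀ α ∈ E, ∀ x : ↥L, (x : G) ∉ A → α x = 0) :
    IsLinearIsometryOn E (dadeIsometry A L H) := by
  refine ⟨fun α _ β _ => dade_add α β, fun α _ n => dade_zsmul n α, ?_, ?_⟩
  · intro α hα β hβ
    exact dade_isometry hD α β
      (Cfsg.Agent.Lib.Helper4.Dade.isClassFunction_of_isGeneralizedCharacter (hgen α hα))
      (hvan α hα)
      (Cfsg.Agent.Lib.Helper4.Dade.isClassFunction_of_isGeneralizedCharacter (hgen β hβ))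
  · intro α hα
    exact Cfsg.Agent.Lib.Helper4.Dade.dade_isGeneralizedCharacter hD (hgen α hα) (hvan α hα)

/-- When the centralizers of the elements of `A` lie in `L`, the Dade map is ordinary induction on
class functions vanishing off `A`. -/
theorem indFun_eq_dade (hD : DadeHypothesis A L H)
    (hcent : ∀ a ∈ A, Subgroup.centralizer ({a} : Set G) ≤ L)
    (α : ↥L → ℂ) (hα : IsClassFunction ↥L α) (hαA : ∀ x : ↥L, (x : G) ∉ A → α x = 0) :
    indFun L α = dadeIsometry A L H α := by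
  classical
  have hHbot : ∀ a ∈ A, H a = ⊥ := by
    intro a ha
    have h1 : H a ≤ L ⊓ Subgroup.centralizer ({a} : Set G) :=
      le_inf ((hD.le_centralizer a ha).trans (hcent a ha)) (hD.le_centralizer a ha)
    have h2 := hD.inf_eq_bot a ha
    rw [inf_of_le_left h1] at h2
    exact h2
  -- control of fusion
  have hfus : ∀ a ∈ A, ∀ g : G, g * a * g⁻¹ ∈ A → g ∈ L := by
    intro a ha g hg
    obtain ⟨x, hxL, hx⟩ := hD.fusion a ha g hg
    have hc : x⁻¹ * g ∈ Subgroup.centralizer ({a} : Set G) := by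
      rw [Subgroup.mem_centralizer_singleton_iff]
      calc x⁻¹ * g * a = x⁻¹ * (g * a * g⁻¹) * g := by group
        _ = x⁻¹ * (x * a * x⁻¹) * g := by rw [hx]
        _ = a * (x⁻¹ * g) := by group
    have h3 : x⁻¹ * g ∈ L := hcent a ha hc
    have : g = x * (x⁻¹ * g) := by group
    rw [this]
    exact L.mul_mem hxL h3
  funext g
  by_cases h : ∃ a : ↥L, (a : G) ∈ A ∧ ∃ x : G, ∃ u ∈ H (a : G), x * g * x⁻¹ = (a : G) * u
  · obtain ⟨a, ha, x, u, hu, hx⟩ := h
    rw [dade_apply hD α hα a ha hu hx]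
    have hu1 : u = 1 := by
      rw [hHbot (a : G) ha, Subgroup.mem_bot] at hu
      exact hu
    rw [hu1, mul_one] at hx
    have h1 : indFun L α g = indFun L α (a : G) := by
      rw [← hx]
      exact (indFun_isClassFunction L α g x).symm
    rw [h1]
    apply indFun_eq_of_forall L α hα a
    intro y hy
    by_cases hmem : y⁻¹ * (a : G) * y ∈ L
    · rw [extendByZero_mem L α hmem]
      apply hαA
      intro hA
      apply hy
      have h2 : y⁻¹ ∈ L := hfus (a : G) ha y⁻¹ (by rw [inv_inv]; exact hA)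
      have := L.inv_mem h2
      rwa [inv_inv] at this
    · exact extendByZero_not_mem L α hmem
  · rw [dade_zero α h, indFun_apply]
    have h0 : ∀ y : G, extendByZero L α (y⁻¹ * g * y) = 0 := by
      intro y
      by_cases hmem : y⁻¹ * g * y ∈ L
      · rw [extendByZero_mem L α hmem]
        apply hαA
        intro hA
        apply h
        refine ⟨⟨y⁻¹ * g * y, hmem⟩, hA, y⁻¹, 1, Subgroup.one_mem _, ?_⟩
        rw [inv_inv, mul_one]
      · exact extendByZero_not_mem L α hmem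
    rw [Finset.sum_congr rfl (fun y _ => h0 y), Finset.sum_const_zero, mul_zero]

end dade

end Cfsg.Agent.Lib.Helper8.PF8
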