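import Mathlib
import Cfsg.Prelude.Def_OddOrderChar
import Cfsg.Agent.Lib.Helper8.PF8B
import Cfsg.Agent.Lib.Helper8.PF8C
import Cfsg.Agent.H2.PF6.J
import Cfsg.Agent.S1514
import Cfsg.Agent.S1518
import Cfsg.Agent.S1537

/-! Assembly of statement S1542 (helper8), conditional on Sibley's theorem (S1524) in the
TI case. -/

set_option autoImplicit false
set_option linter.style.haveILetI false
set_option linter.unusedSectionVars false
set_option linter.unusedVariables false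

namespace Cfsg.Agent.Lib.Helper8.PF8

open Cfsg
open Cfsg.Agent.Lib.Helper4.TypeP

variable {G : Type*} [Group G] [Fintype G]

/-- members of `ℤ[S, L^#]` vanish off `A(L)` -/
theorem zspanOn_vanish (L : Subgroup G) [Fintype L] (hI : Cfsg.IsOfTypeI L)
    (hfrob : ∀ x ∈ Cfsg.fittingHallOf L, x ≠ 1 →
      L ⊓ Subgroup.centralizer ({x} : Set G) ≤ Cfsg.fittingHallOf L) :
    ∀ α ∈ zspanOn (inducedIrrAbove (Cfsg.fittingHall ↥L) ⊥) ({1}ᶜ : Set ↥L),
      ∀ x : ↥L, (x : G) ∉ Cfsg.typeA L → α x = 0 := by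
  intro α hα x hx
  rw [coe_mem_typeA_iff L hI hfrob] at hx
  by_cases hxK : x ∈ Cfsg.fittingHall ↥L
  · have hx1 : x = 1 := by
      by_contra h
      exact hx ⟨hxK, h⟩
    apply hα.2
    rw [hx1]
    simp
  · exact zspan_vanish (Cfsg.fittingHall ↥L) α hα.1 x hxK

/-- S1542, given Sibley's theorem (S1524) for the pair `(L_F, L)` in the TI case. -/
theorem s1542_of (hG : Cfsg.IsMinSimpleOddOrder G) (L : Subgroup G) [Fintype L]
    (hL : IsCoatom L) (hI : Cfsg.IsOfTypeI L)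
    (hfrob : ∀ x ∈ Cfsg.fittingHallOf L, x ≠ 1 →
      L ⊓ Subgroup.centralizer ({x} : Set G) ≤ Cfsg.fittingHallOf L)
    (hSib : Cfsg.IsTISubset (Cfsg.fittingHallOf L : Set G) →
      Cfsg.IsCoherent (Cfsg.inducedIrrAbove ((Cfsg.fittingHallOf L).subgroupOf L) ⊥) {1}ᶜ
        (fun α : ↥L → ℂ => Cfsg.indFun L α)) :
    (∀ χ ∈ Cfsg.inducedIrrAbove (Cfsg.fittingHall ↥L) ⊥, Cfsg.IsIrrCharacter ↥L χ) ∧
    Cfsg.IsCoherent (Cfsg.inducedIrrAbove (Cfsg.fittingHall ↥L) ⊥) {1}ᶜ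
      (Cfsg.dadeIsometry (Cfsg.typeA L) L (Cfsg.supportR L)) := by
  classical
  have hC := hC_of_hfrob L hfrob
  have hirr := S_irr (Cfsg.fittingHall ↥L) hC
  refine ⟨hirr, ?_⟩
  have hD : DadeHypothesis (Cfsg.typeA L) L (Cfsg.supportR L) :=
    (Cfsg.Agent.S1537.result hG L hL (Cfsg.typeA L) (Or.inr (Or.inl rfl))).2
  have hgen : ∀ α ∈ zspanOn (inducedIrrAbove (Cfsg.fittingHall ↥L) ⊥) ({1}ᶜ : Set ↥L),
      IsGeneralizedCharacter ↥L α := fun α hα => zspan_gen (Cfsg.fittingHall ↥L) hC α hα.1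
  have hvan := zspanOn_vanish L hI hfrob
  by_cases hTI : Cfsg.IsTISubset (Cfsg.fittingHallOf L : Set G)
  · -- the TI case: Sibley's theorem
    have hcoh := hSib hTI
    rw [subgroupOf_fittingHallOf L] at hcoh
    obtain ⟨hex, τ₁, hτ₁, hagree⟩ := hcoh
    refine ⟨hex, τ₁, hτ₁, ?_⟩
    intro α hα
    rw [hagree α hα]
    have hP := s1524_data L hG hL hI hfrob hTI
    apply indFun_eq_dade hD ?_ α
      (Cfsg.Agent.Lib.Helper4.Dade.isClassFunction_of_isGeneralizedCharacter (hgen α hα))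
      (hvan α hα)
    intro a ha
    rw [typeA_eq L hI hfrob] at ha
    exact (hP.centralizer_le ha.1 ha.2).trans (fittingHallOf_le L)
  · -- the other cases: Peterfalvi (6.5)
    have hI' := hI
    obtain ⟨⟨hsolv, hodd, hK1, hKt, -⟩, -⟩ := hI'
    haveI := hsolv
    have hsolvK : Group.IsSolvable ↥(Cfsg.fittingHall ↥L) := inferInstance
    have hτ := dade_isLinearIsometryOn hD _ hgen hvan
    have hτ1 : ∀ α ∈ zspanOn (inducedIrrAbove (Cfsg.fittingHall ↥L) ⊥) ({1}ᶜ : Set ↥L),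
        Cfsg.dadeIsometry (Cfsg.typeA L) L (Cfsg.supportR L) α 1 = 0 :=
      fun α _ => Cfsg.Agent.S1518.dade_apply_one hD α
    obtain ⟨R, hR⟩ := Cfsg.Agent.S1514.result (inducedIrrAbove (Cfsg.fittingHall ↥L) ⊥)
      (S_nonempty (Cfsg.fittingHall ↥L) hsolvK hK1) hirr
      (S_conj (Cfsg.fittingHall ↥L) hodd hC) _ hτ hτ1
    haveI : Group.IsNilpotent ↥(Cfsg.fittingHall ↥L) := fittingHall_nilpotent ↥L
    have hnil : Group.IsNilpotent
        (↥(Cfsg.fittingHall ↥L) ⧸ (⊥ : Subgroup ↥L).subgroupOf (Cfsg.fittingHall ↥L)) :=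
      Group.nilpotent_quotient_of_nilpotent _
    have hH₁K : ⁅Cfsg.fittingHall ↥L, Cfsg.fittingHall ↥L⁆ < Cfsg.fittingHall ↥L :=
      Group.IsSolvable.commutator_lt_of_ne_bot hK1
    have hgood := hgood_of_typeI L hI hfrob hTI
    have hbot : (⊥ : Subgroup ↥L).relIndex (Cfsg.fittingHall ↥L)
        = Nat.card (Cfsg.fittingHall ↥L) := Subgroup.relIndex_bot_left _
    exact Cfsg.Agent.H2.PF6.s1521 (Cfsg.fittingHall ↥L) hsolvK _ R hR hodd ⊥ bot_le hnil
      ⁅Cfsg.fittingHall ↥L, Cfsg.fittingHall ↥L⁆ (sup_bot_eq _).symm hH₁K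
      (frob_mod_derived (Cfsg.fittingHall ↥L) hC)
      (by
        rcases hgood with h | h | h
        · exact Or.inr (Or.inr (Or.inr (Or.inl h)))
        · refine Or.inr (Or.inr (Or.inl ?_))
          rw [hbot]
          exact h
        · refine Or.inr (Or.inr (Or.inr (Or.inr ?_)))
          rw [hbot]
          exact h)

end Cfsg.Agent.Lib.Helper8.PF8
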