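import Mathlib
import Cfsg.Agent.Lib.Helper8.AffSL2Four

/-!
# Powers of `2 × 2` matrices via Cayley–Hamilton (helper8)

If `M * M = t • M + d • 1` then `M ^ (n+1) = sX n • M + sY n • 1` for the recursively defined
sequences `sX`, `sY`.  Applications: element orders of `SL₂(8)` and `PSL₂(7)`.
-/

set_option autoImplicit false

namespace Cfsg.Agent.Lib.Helper8.SL2Lin

open Matrix Finset

section General

variable {K : Type*} [Field K] (M : Matrix (Fin 2) (Fin 2) K) (t d : K)

/-- `x • M + y • 1` -/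
def lin2 (x y : K) : Matrix (Fin 2) (Fin 2) K := x • M + y • (1 : Matrix (Fin 2) (Fin 2) K)

theorem lin2_mul (hCH : M * M = t • M + d • (1 : Matrix (Fin 2) (Fin 2) K)) (x y x' y' : K) :
    lin2 M x y * lin2 M x' y' = lin2 M (x * x' * t + x * y' + y * x') (x * x' * d + y * y') := by
  unfold lin2
  simp only [add_mul, mul_add, smul_mul_assoc, mul_smul_comm, Matrix.mul_one, Matrix.one_mul, hCH,
    smul_add, smul_smul]
  module

theorem lin2_zero (c : K) : lin2 M 0 c = c • (1 : Matrix (Fin 2) (Fin 2) K) := by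
  unfold lin2
  simp

/-- coefficient of `M` in `M ^ (n+1)` -/
def sX : ℕ → K
  | 0 => 1
  | (n + 1) => t * sX n + (match n with
      | 0 => 0
      | (m + 1) => d * sX m)

/-- coefficient of `1` in `M ^ (n+1)` -/
def sY : ℕ → K
  | 0 => 0
  | (n + 1) => d * sX t d n

theorem sX_succ (n : ℕ) : sX t d (n + 1) = t * sX t d n + sY t d n := by
  cases n with
  | zero => simp [sX, sY]
  | succ m => simp [sX, sY]

theorem pow_succ_lin2 (hCH : M * M = t • M + d • (1 : Matrix (Fin 2) (Fin 2) K)) (n : ℕ) :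
    M ^ (n + 1) = lin2 M (sX t d n) (sY t d n) := by
  induction n with
  | zero =>
    unfold lin2
    simp [sX, sY]
  | succ n ih =>
    have hM : M = lin2 M 1 0 := by unfold lin2; simp
    rw [pow_succ, ih]
    nth_rewrite 2 [hM]
    rw [lin2_mul M t d hCH, sX_succ]
    congr 1
    · ring
    · simp only [sY]
      ring

/-- Cayley–Hamilton for `SL₂` -/
theorem cayley_general (A : SpecialLinearGroup (Fin 2) K) :
    (A : Matrix (Fin 2) (Fin 2) K) * (A : Matrix (Fin 2) (Fin 2) K) =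
      (trace (A : Matrix (Fin 2) (Fin 2) K)) • (A : Matrix (Fin 2) (Fin 2) K) +
        (-1 : K) • (1 : Matrix (Fin 2) (Fin 2) K) := by
  have hdet : (A : Matrix (Fin 2) (Fin 2) K) 0 0 * (A : Matrix (Fin 2) (Fin 2) K) 1 1 -
      (A : Matrix (Fin 2) (Fin 2) K) 0 1 * (A : Matrix (Fin 2) (Fin 2) K) 1 0 = 1 := by
    rw [← Matrix.det_fin_two]
    exact A.2
  ext i j
  fin_cases i <;> fin_cases j <;>
    simp [Matrix.mul_apply, Fin.sum_univ_two, Matrix.trace_fin_two]
  · linear_combination (-1 : K) * hdet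
  · ring
  · ring
  · linear_combination (-1 : K) * hdet

end General

section Eight

open Cfsg.Agent.Lib.Helper8.AffSL2

variable {K : Type*} [Field K] [CharP K 2] {k : ℕ}

theorem cayley_two (A : SpecialLinearGroup (Fin 2) K) :
    (A : Matrix (Fin 2) (Fin 2) K) * (A : Matrix (Fin 2) (Fin 2) K) =
      (trace (A : Matrix (Fin 2) (Fin 2) K)) • (A : Matrix (Fin 2) (Fin 2) K) +
        (1 : K) • (1 : Matrix (Fin 2) (Fin 2) K) := by
  rw [one_smul]
  exact cayley A

theorem pow_seven_eq_one (A : SpecialLinearGroup (Fin 2) K)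
    (ht : trace (A : Matrix (Fin 2) (Fin 2) K) ^ 3 + trace (A : Matrix (Fin 2) (Fin 2) K) ^ 2 + 1 = 0) :
    A ^ 7 = 1 := by
  apply Subtype.ext
  rw [Matrix.SpecialLinearGroup.coe_pow, pow_succ_lin2 _ _ 1 (cayley_two A) 6]
  have h2 : (2 : K) = 0 := two_eq_zero'
  obtain ⟨t, htdef⟩ : ∃ t, t = trace (A : Matrix (Fin 2) (Fin 2) K) := ⟨_, rfl⟩
  rw [← htdef] at ht ⊢
  have hx : sX t 1 6 = 0 := by
    simp only [sX]
    linear_combination (-7 + 6 * t - t ^ 2 + t ^ 3) * ht + (4 - 3 * t + 7 * t ^ 2) * h2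
  have hy : sY t 1 6 = 1 := by
    simp only [sX, sY]
    linear_combination (5 - t + t ^ 2) * ht + (-3 + 2 * t - 3 * t ^ 2) * h2
  rw [hx, hy, lin2_zero, one_smul]
  rfl

theorem pow_nine_eq_one (A : SpecialLinearGroup (Fin 2) K)
    (ht : trace (A : Matrix (Fin 2) (Fin 2) K) ^ 3 + trace (A : Matrix (Fin 2) (Fin 2) K) + 1 = 0) :
    A ^ 9 = 1 := by
  apply Subtype.ext
  rw [Matrix.SpecialLinearGroup.coe_pow, pow_succ_lin2 _ _ 1 (cayley_two A) 8]
  have h2 : (2 : K) = 0 := two_eq_zero'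
  obtain ⟨t, htdef⟩ : ∃ t, t = trace (A : Matrix (Fin 2) (Fin 2) K) := ⟨_, rfl⟩
  rw [← htdef] at ht ⊢
  have hx : sX t 1 8 = 0 := by
    simp only [sX]
    linear_combination (-5 + 9 * t - t ^ 2 + 6 * t ^ 3 + t ^ 5) * ht + (3 - 2 * t + t ^ 2) * h2
  have hy : sY t 1 8 = 1 := by
    simp only [sX, sY]
    linear_combination (5 - t + 5 * t ^ 2 + t ^ 4) * ht + (-3 - 2 * t ^ 2) * h2
  rw [hx, hy, lin2_zero, one_smul]
  rfl

theorem cases8 (t : K) (h8 : t ^ 8 = t) :
    t = 0 ∨ t = 1 ∨ t ^ 3 + t + 1 = 0 ∨ t ^ 3 + t ^ 2 + 1 = 0 := by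
  have h2 : (2 : K) = 0 := two_eq_zero'
  have h : t * ((t - 1) * ((t ^ 3 + t + 1) * (t ^ 3 + t ^ 2 + 1))) = 0 := by
    linear_combination h8 + (t ^ 5 - t ^ 4) * h2
  rcases mul_eq_zero.1 h with h | h
  · exact Or.inl h
  · rcases mul_eq_zero.1 h with h | h
    · exact Or.inr (Or.inl (sub_eq_zero.1 h))
    · rcases mul_eq_zero.1 h with h | h
      · exact Or.inr (Or.inr (Or.inl h))
      · exact Or.inr (Or.inr (Or.inr h))

theorem sl8_pow_cases (hK : ∀ t : K, t ^ 8 = t) (A : SpecialLinearGroup (Fin 2) K) :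
    A ^ 2 = 1 ∨ A ^ 3 = 1 ∨ A ^ 7 = 1 ∨ A ^ 9 = 1 := by
  rcases cases8 _ (hK (trace (A : Matrix (Fin 2) (Fin 2) K))) with ht | ht | ht | ht
  · exact Or.inl (sq_eq_one_of_trace_eq_zero A ht)
  · exact Or.inr (Or.inl (pow_three_eq_one A ht))
  · exact Or.inr (Or.inr (Or.inr (pow_nine_eq_one A ht)))
  · exact Or.inr (Or.inr (Or.inl (pow_seven_eq_one A ht)))

/-- orders of elements of `K^(2k) ⋊ SL₂(K)`, `|K| = 8` -/
theorem orderOf_mem8 (hK : ∀ t : K, t ^ 8 = t) (g : Aff K k) :
    orderOf g ∈ ({1, 2, 3, 4, 7, 9} : Set ℕ) := by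
  simp only [Set.mem_insert_iff, Set.mem_singleton_iff]
  rcases pow_four_or_orderOf_eq g with h4 | h4
  · have hd : orderOf g ∣ 2 ^ 2 := orderOf_dvd_of_pow_eq_one h4
    obtain ⟨m, hm, hmo⟩ := (Nat.dvd_prime_pow Nat.prime_two).1 hd
    interval_cases m
    · left; exact hmo
    · right; left; exact hmo
    · right; right; right; left; exact hmo
  · rw [h4]
    rcases sl8_pow_cases hK g.A with h | h | h | h
    · have hd : orderOf g.A ∣ 2 := orderOf_dvd_of_pow_eq_one h
      rcases (Nat.dvd_prime Nat.prime_two).1 hd with h | h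
      · left; exact h
      · right; left; exact h
    · have hd : orderOf g.A ∣ 3 := orderOf_dvd_of_pow_eq_one h
      rcases (Nat.dvd_prime Nat.prime_three).1 hd with h | h
      · left; exact h
      · right; right; left; exact h
    · have hd : orderOf g.A ∣ 7 := orderOf_dvd_of_pow_eq_one h
      rcases (Nat.dvd_prime (by norm_num : Nat.Prime 7)).1 hd with h | h
      · left; exact h
      · right; right; right; right; left; exact h
    · have hd : orderOf g.A ∣ 3 ^ 2 := orderOf_dvd_of_pow_eq_one h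
      obtain ⟨m, hm, hmo⟩ := (Nat.dvd_prime_pow Nat.prime_three).1 hd
      interval_cases m
      · left; exact hmo
      · right; right; left; exact hmo
      · right; right; right; right; right; exact hmo

/-- a product of two distinct primes is none of `1, 2, 3, 4, 7, 9` -/
theorem mul_primes_not_mem {p q : ℕ} (hp : p.Prime) (hq : q.Prime) (hpq : p ≠ q) :
    p * q ∉ ({1, 2, 3, 4, 7, 9} : Set ℕ) := by
  simp only [Set.mem_insert_iff, Set.mem_singleton_iff]
  intro h
  have hp2 := hp.two_le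
  have hq2 := hq.two_le
  have h6 : p * q ≤ 9 := by omega
  have hp9 : p ≤ 4 := by nlinarith
  have hq9 : q ≤ 4 := by nlinarith
  interval_cases p <;> interval_cases q <;> simp_all

/-- diagonal matrices -/
def diagSL (a : K) (ha : a ≠ 0) : SpecialLinearGroup (Fin 2) K :=
  ⟨!![a, 0; 0, a⁻¹], by rw [Matrix.det_fin_two]; simp [ha]⟩

omit [CharP K 2] in
theorem diagSL_pow (a : K) (ha : a ≠ 0) (n : ℕ) :
    ((diagSL a ha ^ n : SpecialLinearGroup (Fin 2) K) : Matrix (Fin 2) (Fin 2) K) =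
      !![a ^ n, 0; 0, (a⁻¹) ^ n] := by
  induction n with
  | zero =>
    ext i j
    fin_cases i <;> fin_cases j <;> simp
  | succ n ih =>
    rw [pow_succ, Matrix.SpecialLinearGroup.coe_mul, ih]
    ext i j
    fin_cases i <;> fin_cases j <;> simp [diagSL, Matrix.mul_apply, Fin.sum_univ_two, pow_succ]

omit [CharP K 2] in
theorem orderOf_diagSL (a : K) (ha : a ≠ 0) (ha1 : a ≠ 1) (p : ℕ) (hp : p.Prime) (hap : a ^ p = 1) :
    orderOf (diagSL a ha) = p := by
  have hfp : Fact p.Prime := ⟨hp⟩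
  apply orderOf_eq_prime
  · apply Subtype.ext
    rw [diagSL_pow, inv_pow, hap]
    ext i j
    fin_cases i <;> fin_cases j <;> simp
  · intro h
    have := congrArg (fun A : SpecialLinearGroup (Fin 2) K => (A : Matrix (Fin 2) (Fin 2) K) 0 0) h
    simp [diagSL] at this
    exact ha1 this

/-- the primes dividing `|SL₂(K)|`, `|K| = 8` -/
theorem prime_dvd_card_sl8 [Finite K] (hK : ∀ t : K, t ^ 8 = t) (a : K) (ha : a ≠ 0) (ha1 : a ≠ 1)
    (p : ℕ) (hp : p.Prime) :
    p ∣ Nat.card (SpecialLinearGroup (Fin 2) K) ↔ (p = 2 ∨ p = 3 ∨ p = 7) := by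
  have hfp : Fact p.Prime := ⟨hp⟩
  constructor
  · intro h
    obtain ⟨A, hA⟩ := exists_prime_orderOf_dvd_card' p h
    rcases sl8_pow_cases hK A with h | h | h | h
    · left
      have : p ∣ 2 := hA ▸ orderOf_dvd_of_pow_eq_one h
      exact (Nat.prime_dvd_prime_iff_eq hp Nat.prime_two).1 this
    · right; left
      have : p ∣ 3 := hA ▸ orderOf_dvd_of_pow_eq_one h
      exact (Nat.prime_dvd_prime_iff_eq hp Nat.prime_three).1 this
    · right; right
      have : p ∣ 7 := hA ▸ orderOf_dvd_of_pow_eq_one h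
      exact (Nat.prime_dvd_prime_iff_eq hp (by norm_num)).1 this
    · right; left
      have : p ∣ 3 ^ 2 := hA ▸ orderOf_dvd_of_pow_eq_one h
      exact (Nat.prime_dvd_prime_iff_eq hp Nat.prime_three).1 (hp.dvd_of_dvd_pow this)
  · rintro (rfl | rfl | rfl)
    · have := orderOf_dvd_natCard (unip : SpecialLinearGroup (Fin 2) K)
      rwa [orderOf_unip] at this
    · have := orderOf_dvd_natCard (elt3 : SpecialLinearGroup (Fin 2) K)
      rwa [orderOf_elt3] at this
    · have h7 : a ^ 7 = 1 := by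
        have h8 := hK a
        have : a * a ^ 7 = a * 1 := by rw [mul_one, ← pow_succ']; exact h8
        exact mul_left_cancel₀ ha this
      have := orderOf_dvd_natCard (diagSL a ha)
      rwa [orderOf_diagSL a ha ha1 7 (by norm_num) h7] at this

end Eight

section Seven

variable {F : Type*} [Field F]

/-- if `A ^ (n+1)` is `± 1` then the image of `A` in `PSL₂` has order dividing `n + 1` -/
theorem mk_pow_eq_one (A : SpecialLinearGroup (Fin 2) F) (n : ℕ) (c : F) (hc : c ^ 2 = 1)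
    (hx : sX (trace (A : Matrix (Fin 2) (Fin 2) F)) (-1) n = 0)
    (hy : sY (trace (A : Matrix (Fin 2) (Fin 2) F)) (-1) n = c) :
    (QuotientGroup.mk A : Matrix.ProjectiveSpecialLinearGroup (Fin 2) F) ^ (n + 1) = 1 := by
  rw [← QuotientGroup.mk_pow, QuotientGroup.eq_one_iff, Matrix.SpecialLinearGroup.mem_center_iff]
  refine ⟨c, by rw [Fintype.card_fin]; exact hc, ?_⟩
  rw [Matrix.SpecialLinearGroup.coe_pow, pow_succ_lin2 _ _ (-1) (cayley_general A) n, hx, hy, lin2_zero]
  ext i j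
  simp [Matrix.scalar_apply, Matrix.diagonal_apply, Matrix.one_apply]

/-- non-scalar matrices are nontrivial in `PSL₂` -/
theorem mk_ne_one (A : SpecialLinearGroup (Fin 2) F) (h01 : (A : Matrix (Fin 2) (Fin 2) F) 0 1 ≠ 0) :
    (QuotientGroup.mk A : Matrix.ProjectiveSpecialLinearGroup (Fin 2) F) ≠ 1 := by
  intro h
  rw [QuotientGroup.eq_one_iff, Matrix.SpecialLinearGroup.mem_center_iff] at h
  obtain ⟨r, -, hr⟩ := h
  apply h01
  rw [← hr]
  simp [Matrix.scalar_apply]

variable [CharP F 7]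

theorem seven_eq_zero : (7 : F) = 0 := by
  have := CharP.cast_eq_zero F 7
  exact_mod_cast this

theorem cases7 (t : F) (h7 : t ^ 7 = t) :
    t = 0 ∨ t = 1 ∨ t = -1 ∨ t = 2 ∨ t = -2 ∨ t = 3 ∨ t = -3 := by
  have hs : (7 : F) = 0 := seven_eq_zero
  have h : t * ((t - 1) * ((t + 1) * ((t - 2) * ((t + 2) * ((t - 3) * (t + 3)))))) = 0 := by
    linear_combination h7 + (-2 * t ^ 5 + 7 * t ^ 3 - 5 * t) * hs
  rcases mul_eq_zero.1 h with h | h
  · exact Or.inl h
  rcases mul_eq_zero.1 h with h | h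
  · exact Or.inr (Or.inl (sub_eq_zero.1 h))
  rcases mul_eq_zero.1 h with h | h
  · exact Or.inr (Or.inr (Or.inl (eq_neg_of_add_eq_zero_left h)))
  rcases mul_eq_zero.1 h with h | h
  · exact Or.inr (Or.inr (Or.inr (Or.inl (sub_eq_zero.1 h))))
  rcases mul_eq_zero.1 h with h | h
  · exact Or.inr (Or.inr (Or.inr (Or.inr (Or.inl (eq_neg_of_add_eq_zero_left h)))))
  rcases mul_eq_zero.1 h with h | h
  · exact Or.inr (Or.inr (Or.inr (Or.inr (Or.inr (Or.inl (sub_eq_zero.1 h))))))
  · exact Or.inr (Or.inr (Or.inr (Or.inr (Or.inr (Or.inr (eq_neg_of_add_eq_zero_left h))))))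

omit [CharP F 7] in
theorem mk_pow_two (A : SpecialLinearGroup (Fin 2) F)
    (ht : trace (A : Matrix (Fin 2) (Fin 2) F) = 0) :
    (QuotientGroup.mk A : Matrix.ProjectiveSpecialLinearGroup (Fin 2) F) ^ 2 = 1 := by
  apply mk_pow_eq_one A 1 (-1) (by ring)
  · rw [ht]; simp [sX]
  · rw [ht]; simp [sX, sY]

omit [CharP F 7] in
theorem mk_pow_three (A : SpecialLinearGroup (Fin 2) F)
    (ht : trace (A : Matrix (Fin 2) (Fin 2) F) = 1 ∨ trace (A : Matrix (Fin 2) (Fin 2) F) = -1) :
    (QuotientGroup.mk A : Matrix.ProjectiveSpecialLinearGroup (Fin 2) F) ^ 3 = 1 := by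
  rcases ht with ht | ht
  · apply mk_pow_eq_one A 2 (-1) (by ring)
    · rw [ht]; simp [sX]
    · rw [ht]; simp [sX, sY]
  · apply mk_pow_eq_one A 2 1 (by ring)
    · rw [ht]; simp [sX]
    · rw [ht]; simp [sX, sY]

theorem mk_pow_four (A : SpecialLinearGroup (Fin 2) F)
    (ht : trace (A : Matrix (Fin 2) (Fin 2) F) = 3 ∨ trace (A : Matrix (Fin 2) (Fin 2) F) = -3) :
    (QuotientGroup.mk A : Matrix.ProjectiveSpecialLinearGroup (Fin 2) F) ^ 4 = 1 := by
  have hs : (7 : F) = 0 := seven_eq_zero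
  rcases ht with ht | ht
  · apply mk_pow_eq_one A 3 (-1) (by ring)
    · rw [ht]; simp only [sX]; linear_combination (3 : F) * hs
    · rw [ht]; simp only [sX, sY]; linear_combination (-1 : F) * hs
  · apply mk_pow_eq_one A 3 (-1) (by ring)
    · rw [ht]; simp only [sX]; linear_combination (-3 : F) * hs
    · rw [ht]; simp only [sX, sY]; linear_combination (-1 : F) * hs

theorem mk_pow_seven (A : SpecialLinearGroup (Fin 2) F)
    (ht : trace (A : Matrix (Fin 2) (Fin 2) F) = 2 ∨ trace (A : Matrix (Fin 2) (Fin 2) F) = -2) :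
    (QuotientGroup.mk A : Matrix.ProjectiveSpecialLinearGroup (Fin 2) F) ^ 7 = 1 := by
  have hs : (7 : F) = 0 := seven_eq_zero
  rcases ht with ht | ht
  · apply mk_pow_eq_one A 6 1 (by ring)
    · rw [ht]; simp only [sX]; linear_combination (1 : F) * hs
    · rw [ht]; simp only [sX, sY]; linear_combination (-1 : F) * hs
  · apply mk_pow_eq_one A 6 (-1) (by ring)
    · rw [ht]; simp only [sX]; linear_combination (1 : F) * hs
    · rw [ht]; simp only [sX, sY]; linear_combination (1 : F) * hs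

theorem psl7_pow (hF7 : ∀ t : F, t ^ 7 = t) (g : Matrix.ProjectiveSpecialLinearGroup (Fin 2) F) :
    g ^ 2 = 1 ∨ g ^ 3 = 1 ∨ g ^ 4 = 1 ∨ g ^ 7 = 1 := by
  obtain ⟨A, rfl⟩ := QuotientGroup.mk_surjective g
  rcases cases7 _ (hF7 (trace (A : Matrix (Fin 2) (Fin 2) F))) with h | h | h | h | h | h | h
  · exact Or.inl (mk_pow_two A h)
  · exact Or.inr (Or.inl (mk_pow_three A (Or.inl h)))
  · exact Or.inr (Or.inl (mk_pow_three A (Or.inr h)))
  · exact Or.inr (Or.inr (Or.inr (mk_pow_seven A (Or.inl h))))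
  · exact Or.inr (Or.inr (Or.inr (mk_pow_seven A (Or.inr h))))
  · exact Or.inr (Or.inr (Or.inl (mk_pow_four A (Or.inl h))))
  · exact Or.inr (Or.inr (Or.inl (mk_pow_four A (Or.inr h))))

/-- elements of `PSL₂(7)` have order 1, 2, 3, 4 or 7 -/
theorem psl7_orderOf_mem (hF7 : ∀ t : F, t ^ 7 = t) (g : Matrix.ProjectiveSpecialLinearGroup (Fin 2) F) :
    orderOf g ∈ ({1, 2, 3, 4, 7, 9} : Set ℕ) := by
  simp only [Set.mem_insert_iff, Set.mem_singleton_iff]
  rcases psl7_pow hF7 g with h | h | h | h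
  · have hd : orderOf g ∣ 2 := orderOf_dvd_of_pow_eq_one h
    rcases (Nat.dvd_prime Nat.prime_two).1 hd with h | h
    · left; exact h
    · right; left; exact h
  · have hd : orderOf g ∣ 3 := orderOf_dvd_of_pow_eq_one h
    rcases (Nat.dvd_prime Nat.prime_three).1 hd with h | h
    · left; exact h
    · right; right; left; exact h
  · have hd : orderOf g ∣ 2 ^ 2 := orderOf_dvd_of_pow_eq_one h
    obtain ⟨m, hm, hmo⟩ := (Nat.dvd_prime_pow Nat.prime_two).1 hd
    interval_cases m
    · left; exact hmo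
    · right; left; exact hmo
    · right; right; right; left; exact hmo
  · have hd : orderOf g ∣ 7 := orderOf_dvd_of_pow_eq_one h
    rcases (Nat.dvd_prime (by norm_num : Nat.Prime 7)).1 hd with h | h
    · left; exact h
    · right; right; right; right; left; exact h

/-- the primes dividing `|PSL₂(7)|` -/
theorem prime_dvd_card_psl7 [Finite F] (hF7 : ∀ t : F, t ^ 7 = t) (p : ℕ) (hp : p.Prime) :
    p ∣ Nat.card (Matrix.ProjectiveSpecialLinearGroup (Fin 2) F) ↔ (p = 2 ∨ p = 3 ∨ p = 7) := by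
  have hfp : Fact p.Prime := ⟨hp⟩
  constructor
  · intro h
    obtain ⟨g, hg⟩ := exists_prime_orderOf_dvd_card' p h
    rcases psl7_pow hF7 g with h | h | h | h
    · left
      have : p ∣ 2 := hg ▸ orderOf_dvd_of_pow_eq_one h
      exact (Nat.prime_dvd_prime_iff_eq hp Nat.prime_two).1 this
    · right; left
      have : p ∣ 3 := hg ▸ orderOf_dvd_of_pow_eq_one h
      exact (Nat.prime_dvd_prime_iff_eq hp Nat.prime_three).1 this
    · left
      have : p ∣ 2 ^ 2 := hg ▸ orderOf_dvd_of_pow_eq_one h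
      exact (Nat.prime_dvd_prime_iff_eq hp Nat.prime_two).1 (hp.dvd_of_dvd_pow this)
    · right; right
      have : p ∣ 7 := hg ▸ orderOf_dvd_of_pow_eq_one h
      exact (Nat.prime_dvd_prime_iff_eq hp (by norm_num)).1 this
  · have h2 : Fact (Nat.Prime 2) := ⟨Nat.prime_two⟩
    have h3 : Fact (Nat.Prime 3) := ⟨Nat.prime_three⟩
    have h7 : Fact (Nat.Prime 7) := ⟨by norm_num⟩
    rintro (rfl | rfl | rfl)
    · let A : SpecialLinearGroup (Fin 2) F := ⟨!![0, 1; -1, 0], by rw [Matrix.det_fin_two]; simp⟩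
      have ho : orderOf (QuotientGroup.mk A : Matrix.ProjectiveSpecialLinearGroup (Fin 2) F) = 2 := by
        apply orderOf_eq_prime
        · apply mk_pow_two
          rw [Matrix.trace_fin_two]
          simp [A]
        · apply mk_ne_one
          simp [A]
      have hdvd := orderOf_dvd_natCard (QuotientGroup.mk A : Matrix.ProjectiveSpecialLinearGroup (Fin 2) F)
      rwa [ho] at hdvd
    · let A : SpecialLinearGroup (Fin 2) F := ⟨!![0, 1; -1, -1], by rw [Matrix.det_fin_two]; simp⟩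
      have ho : orderOf (QuotientGroup.mk A : Matrix.ProjectiveSpecialLinearGroup (Fin 2) F) = 3 := by
        apply orderOf_eq_prime
        · apply mk_pow_three
          right
          rw [Matrix.trace_fin_two]
          simp [A]
        · apply mk_ne_one
          simp [A]
      have hdvd := orderOf_dvd_natCard (QuotientGroup.mk A : Matrix.ProjectiveSpecialLinearGroup (Fin 2) F)
      rwa [ho] at hdvd
    · let A : SpecialLinearGroup (Fin 2) F := ⟨!![1, 1; 0, 1], by rw [Matrix.det_fin_two]; simp⟩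
      have ho : orderOf (QuotientGroup.mk A : Matrix.ProjectiveSpecialLinearGroup (Fin 2) F) = 7 := by
        apply orderOf_eq_prime
        · apply mk_pow_seven
          left
          rw [Matrix.trace_fin_two]
          simp [A]
          norm_num
        · apply mk_ne_one
          simp [A]
      have hdvd := orderOf_dvd_natCard (QuotientGroup.mk A : Matrix.ProjectiveSpecialLinearGroup (Fin 2) F)
      rwa [ho] at hdvd

end Seven

end Cfsg.Agent.Lib.Helper8.SL2Lin
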