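import Mathlib
import Cfsg.Agent.H2.PGLOrderR2
import Cfsg.Agent.S0783
import Cfsg.Agent.Lib.Helper8.GUPrimeA
import Cfsg.Agent.Lib.Helper8.PrimeOrdC

/-!
# Elements of prime order `r ∣ q + 1` in `PGU_n(q)`: the centre, scalars and conjugacy (helper8)
-/

set_option autoImplicit false
set_option linter.unusedSectionVars false
set_option linter.unusedVariables false

namespace Cfsg.Agent.Lib.Helper8.PGUOrder

open Polynomial Cfsg Cfsg.Agent.H2.PGLOrderR Cfsg.Agent.H2.PGLInv Cfsg.Agent.S0278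
  Cfsg.Agent.S0783 Cfsg.Agent.Lib.Helper8.GUPrime

universe u

variable {K : Type u} [Field K] [Fintype K] [DecidableEq K] {q n : ℕ}

local notation "sc" => Matrix.GeneralLinearGroup.scalar (Fin n)

section Center

/-- a norm-one scalar as an element of `GU_n(q)` -/
def zc (u : ↥(N1 K q)) : ↥(Cfsg.GU n K q) := scalarGU n u.1 u.2

theorem coe_zc (u : ↥(N1 K q)) : ((zc (n := n) u : ↥(Cfsg.GU n K q)) : GL (Fin n) K) = sc (u : Kˣ) := by
  apply Units.ext
  change ((u : Kˣ) : K) • (1 : Matrix (Fin n) (Fin n) K) = _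
  rw [Matrix.GeneralLinearGroup.coe_scalar, Matrix.scalar_apply, Matrix.smul_one_eq_diagonal]

theorem zc_comm (u : ↥(N1 K q)) (x : ↥(Cfsg.GU n K q)) : zc u * x = x * zc u := by
  apply Subtype.ext
  rw [Subgroup.coe_mul, Subgroup.coe_mul, coe_zc]
  exact Matrix.GeneralLinearGroup.scalar_commute _ _

theorem zc_mem_center (u : ↥(N1 K q)) : zc (n := n) u ∈ (Subgroup.center ↥(Cfsg.GU n K q)) := by
  rw [Subgroup.mem_center_iff]
  intro x
  exact (zc_comm u x).symm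

theorem zc_mul (u v : ↥(N1 K q)) : zc (n := n) (u * v) = zc u * zc v := by
  apply Subtype.ext
  rw [Subgroup.coe_mul, coe_zc, coe_zc, coe_zc, Subgroup.coe_mul, map_mul]

theorem zc_one : zc (n := n) (1 : ↥(N1 K q)) = 1 := by
  apply Subtype.ext
  rw [coe_zc, Subgroup.coe_one, map_one]
  rfl

theorem zc_inv (u : ↥(N1 K q)) : zc (n := n) u⁻¹ = (zc u)⁻¹ := by
  apply eq_inv_of_mul_eq_one_left
  rw [← zc_mul, inv_mul_cancel, zc_one]

theorem zc_pow (u : ↥(N1 K q)) (k : ℕ) : zc (n := n) (u ^ k) = zc u ^ k := by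
  induction k with
  | zero => rw [pow_zero, pow_zero, zc_one]
  | succ k ih => rw [pow_succ, pow_succ, zc_mul, ih]

theorem mem_center_gu_iff (hK : Fintype.card K = q ^ 2) (hn : 1 ≤ n) (g : ↥(Cfsg.GU n K q)) :
    g ∈ (Subgroup.center ↥(Cfsg.GU n K q)) ↔ ∃ u : ↥(N1 K q), g = zc u := by
  constructor
  · intro hg
    obtain ⟨a, h1, ha⟩ := central_eq_scalar hK n hn g hg
    exact ⟨⟨a, h1⟩, ha⟩
  · rintro ⟨u, rfl⟩
    exact zc_mem_center u

/-- an element of `GU` whose matrix is scalar is central -/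
theorem mem_center_of_coe_eq_sc (g : ↥(Cfsg.GU n K q)) (a : Kˣ) (h : (g : GL (Fin n) K) = sc a) : g ∈ (Subgroup.center ↥(Cfsg.GU n K q)) := by
  rw [Subgroup.mem_center_iff]
  intro x
  apply Subtype.ext
  rw [Subgroup.coe_mul, Subgroup.coe_mul, h]
  exact (Matrix.GeneralLinearGroup.scalar_commute _ _).symm

theorem zc_injective (hn : 0 < n) : Function.Injective (zc (n := n) (K := K) (q := q)) := by
  intro a b hab
  have h1 := congrArg (fun x : ↥(Cfsg.GU n K q) => (x : GL (Fin n) K)) hab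
  simp only [coe_zc] at h1
  exact Subtype.ext (sc_injective hn h1)

theorem isConj_mk_gu_iff (hK : Fintype.card K = q ^ 2) (hn : 1 ≤ n) (g h : ↥(Cfsg.GU n K q)) :
    IsConj (g : ↥(Cfsg.GU n K q) ⧸ (Subgroup.center ↥(Cfsg.GU n K q))) (h : ↥(Cfsg.GU n K q) ⧸ (Subgroup.center ↥(Cfsg.GU n K q))) ↔ ∃ u : ↥(N1 K q), IsConj g (zc u * h) := by
  constructor
  · intro hc
    rw [isConj_iff] at hc
    obtain ⟨c, hc⟩ := hc
    obtain ⟨x, rfl⟩ := QuotientGroup.mk_surjective c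
    rw [← QuotientGroup.mk_inv, ← QuotientGroup.mk_mul, ← QuotientGroup.mk_mul,
      QuotientGroup.eq, mem_center_gu_iff hK hn] at hc
    obtain ⟨u, hu⟩ := hc
    refine ⟨u⁻¹, ?_⟩
    rw [isConj_iff]
    refine ⟨x, ?_⟩
    have h1 : h = x * g * x⁻¹ * zc u := by rw [← hu]; group
    rw [h1, ← zc_comm, ← mul_assoc, ← zc_mul, inv_mul_cancel, zc_one, one_mul]
  · rintro ⟨u, hc⟩
    rw [isConj_iff] at hc ⊢
    obtain ⟨x, hx⟩ := hc
    refine ⟨(x : ↥(Cfsg.GU n K q) ⧸ (Subgroup.center ↥(Cfsg.GU n K q))), ?_⟩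
    rw [← QuotientGroup.mk_inv, ← QuotientGroup.mk_mul, ← QuotientGroup.mk_mul, hx,
      QuotientGroup.mk_mul]
    have : ((zc u : ↥(Cfsg.GU n K q)) : ↥(Cfsg.GU n K q) ⧸ (Subgroup.center ↥(Cfsg.GU n K q))) = 1 := by
      rw [QuotientGroup.eq_one_iff]; exact zc_mem_center u
    rw [this, one_mul]

theorem orderOf_mk_gu_eq_prime (hK : Fintype.card K = q ^ 2) (hn : 1 ≤ n) {r : ℕ}
    (hr : r.Prime) (g : ↥(Cfsg.GU n K q)) :
    orderOf (g : ↥(Cfsg.GU n K q) ⧸ (Subgroup.center ↥(Cfsg.GU n K q))) = r ↔ g ∉ (Subgroup.center ↥(Cfsg.GU n K q)) ∧ ∃ l : ↥(N1 K q), g ^ r = zc l := by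
  have _ : Fact r.Prime := ⟨hr⟩
  rw [orderOf_eq_prime_iff, ← QuotientGroup.mk_pow, QuotientGroup.eq_one_iff,
    Ne, QuotientGroup.eq_one_iff, mem_center_gu_iff hK hn (g ^ r)]
  tauto

/-- conjugate elements have the same (scalar) `r`-th power -/
theorem pow_of_isConj_gu {r : ℕ} {g g' : ↥(Cfsg.GU n K q)} (hc : IsConj g g') {l : ↥(N1 K q)}
    (h : g' ^ r = zc l) : g ^ r = zc l := by
  rw [isConj_iff] at hc
  obtain ⟨c, rfl⟩ := hc
  rw [conj_pow] at h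
  have h1 : g ^ r = c⁻¹ * (c * g ^ r * c⁻¹) * c := by group
  rw [h1, h, mul_assoc, zc_comm l c, ← mul_assoc, inv_mul_cancel, one_mul]

theorem coe_pow_gu (g : ↥(Cfsg.GU n K q)) (k : ℕ) : ((g ^ k : ↥(Cfsg.GU n K q)) : GL (Fin n) K) = (g : GL (Fin n) K) ^ k :=
  Subgroup.coe_pow _ g k

theorem pow_zc_mul (r : ℕ) (u l : ↥(N1 K q)) (g : ↥(Cfsg.GU n K q)) (h : g ^ r = zc l) :
    (zc u * g) ^ r = zc (u ^ r * l) := by
  have hc : Commute (zc u : ↥(Cfsg.GU n K q)) g := zc_comm u g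
  rw [hc.mul_pow, h, ← zc_pow, ← zc_mul]

end Center

section NumberTheory

theorem card_sub_one (hK : Fintype.card K = q ^ 2) : Fintype.card K - 1 = (q - 1) * (q + 1) := by
  have hq := Cfsg.Agent.Lib.Helper5.Herm.one_lt_q hK
  rw [hK]
  obtain ⟨k, rfl⟩ : ∃ k, q = k + 1 := ⟨q - 1, by omega⟩
  simp only [Nat.add_sub_cancel]
  have : (k + 1) ^ 2 = k * (k + 1 + 1) + 1 := by ring
  rw [this, Nat.add_sub_cancel]

theorem dvd_card_sub_one (hK : Fintype.card K = q ^ 2) {r : ℕ} (hrq : r ∣ q + 1) :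
    r ∣ Fintype.card K - 1 := by
  rw [card_sub_one hK]
  exact Dvd.dvd.mul_left hrq _

theorem rootsOfUnity_mem_N1 {r : ℕ} (hrq : r ∣ q + 1) (c : ↥(rootsOfUnity r K)) :
    (c : Kˣ) ∈ N1 K q := by
  rw [mem_N1, ← Units.val_pow_eq_pow_val, Units.val_eq_one]
  obtain ⟨k, hk⟩ := hrq
  rw [hk, pow_mul, (mem_rootsOfUnity r (c : Kˣ)).mp c.2, one_pow]

theorem coprime_sub_one {r : ℕ} (hr : r.Prime) (hr2 : r ≠ 2) (hrq : r ∣ q + 1) (hq : 1 ≤ q) :
    r.Coprime (q - 1) := by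
  rw [Nat.Prime.coprime_iff_not_dvd hr]
  intro h
  have h2 : r ∣ (q + 1) - (q - 1) := Nat.dvd_sub hrq h
  have h3 : (q + 1) - (q - 1) = 2 := by omega
  rw [h3] at h2
  exact hr2 ((Nat.prime_dvd_prime_iff_eq hr Nat.prime_two).1 h2)

/-- an `r`-th root of a norm-one element has norm one -/
theorem mem_N1_of_pow (hK : Fintype.card K = q ^ 2) {r : ℕ} (hr : r.Prime) (hr2 : r ≠ 2)
    (hrq : r ∣ q + 1) (b : Kˣ) (l : ↥(N1 K q)) (hb : b ^ r = (l : Kˣ)) : b ∈ N1 K q := by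
  have hq := Cfsg.Agent.Lib.Helper5.Herm.one_lt_q hK
  set c : Kˣ := b ^ (q + 1) with hc
  have h1 : c ^ r = 1 := by
    rw [hc, ← pow_mul, mul_comm, pow_mul, hb]
    have := (mem_N1 (l : Kˣ)).1 l.2
    rw [← Units.val_pow_eq_pow_val, Units.val_eq_one] at this
    exact this
  have h2 : c ^ (q - 1) = 1 := by
    rw [hc, ← pow_mul, mul_comm, ← card_sub_one hK]
    exact units_pow_card_sub_one b
  have h3 := pow_gcd_eq_one.2 ⟨h1, h2⟩
  have h4 : Nat.gcd r (q - 1) = 1 := coprime_sub_one hr hr2 hrq (by omega)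
  rw [h4, pow_one] at h3
  rw [mem_N1, ← Units.val_pow_eq_pow_val, Units.val_eq_one]
  exact h3

end NumberTheory

section Conj

variable (p : ℕ) [Fact p.Prime] [CharP K p]

theorem coprime_of_pow_gu (hK : Fintype.card K = q ^ 2) {r : ℕ} (hrq : r ∣ q + 1) (g : ↥(Cfsg.GU n K q))
    (l : ↥(N1 K q)) (h : g ^ r = zc l) : (orderOf g).Coprime p := by
  rw [← Subgroup.orderOf_coe]
  apply coprime_of_pow p r (dvd_card_sub_one hK hrq) (g : GL (Fin n) K) (l : Kˣ)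
  rw [← coe_pow_gu, h, coe_zc]

theorem coprime_zc (u : ↥(N1 K q)) : (orderOf (zc (n := n) u)).Coprime p := by
  rw [← Subgroup.orderOf_coe, coe_zc]
  exact coprime_sc p _

/-- elements of `GU` of order prime to `p` with the same characteristic polynomial are
conjugate -/
theorem isConj_gu_of_charpoly (hK : Fintype.card K = q ^ 2) (g h : ↥(Cfsg.GU n K q))
    (hgc : (orderOf g).Coprime p) (hhc : (orderOf h).Coprime p)
    (hc : ((g : GL (Fin n) K) : Matrix (Fin n) (Fin n) K).charpoly =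
      ((h : GL (Fin n) K) : Matrix (Fin n) (Fin n) K).charpoly) : IsConj g h :=
  gu_isConj hK g h (gu_isSemisimple_of_orderOf_coprime p g hgc)
    (gu_isSemisimple_of_orderOf_coprime p h hhc) hc

theorem hasSpec_isConj_gu (hK : Fintype.card K = q ^ 2) (r : ℕ) {g h : ↥(Cfsg.GU n K q)} {μ : Kˣ}
    {s : Multiset ↥(rootsOfUnity r K)} (hg : HasSpec r (g : GL (Fin n) K) μ s)
    (hh : HasSpec r (h : GL (Fin n) K) μ s) (hgc : (orderOf g).Coprime p)
    (hhc : (orderOf h).Coprime p) : IsConj g h :=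
  isConj_gu_of_charpoly p hK g h hgc hhc (hg.2.trans hh.2.symm)

theorem hasSpec_conj_gu (r : ℕ) {g h : ↥(Cfsg.GU n K q)} {μ : Kˣ} {s : Multiset ↥(rootsOfUnity r K)}
    (hc : IsConj g h) (hg : HasSpec r (g : GL (Fin n) K) μ s) :
    HasSpec r (h : GL (Fin n) K) μ s :=
  ⟨hg.1, (gu_charpoly_eq_of_isConj hc) ▸ hg.2⟩

end Conj

end Cfsg.Agent.Lib.Helper8.PGUOrder
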