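import Mathlib
import Cfsg.Agent.Lib.Helper8.PGUOrderA
import Cfsg.Agent.Lib.Helper8.SUCountC

/-!
# Elements of prime order `r ∣ q + 1` in `PGU_n(q)`: existence of elements with prescribed
spectrum (helper8)
-/

set_option autoImplicit false
set_option linter.unusedSectionVars false
set_option linter.unusedVariables false

namespace Cfsg.Agent.Lib.Helper8.PGUOrder

open Polynomial Cfsg Cfsg.Agent.H2.PGLOrderR Cfsg.Agent.H2.PGLInv Cfsg.Agent.S0278
  Cfsg.Agent.S0783 Cfsg.Agent.Lib.Helper8.GUPrime Cfsg.Agent.Lib.Helper8.SelfRec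
  Cfsg.Agent.Lib.Helper8.SUCount

universe u

section SR

variable {K : Type u} [Field K] (θ : K →+* K)

theorem isSR_one : IsSR θ (1 : K[X]) := by
  refine ⟨monic_one, ?_, ?_⟩
  · rw [coeff_one_zero]; exact one_ne_zero
  · rw [Polynomial.map_one, coeff_one_zero, map_one, C_1, one_mul]
    have := reverse_C (1 : K)
    rw [C_1] at this
    exact this

theorem IsSR.mul {f g : K[X]} (hf : IsSR θ f) (hg : IsSR θ g) : IsSR θ (f * g) := by
  rw [isSR_iff] at hf hg ⊢
  refine ⟨hf.1.mul hg.1, ?_, ?_⟩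
  · rw [mul_coeff_zero]
    exact mul_ne_zero hf.2.1 hg.2.1
  · rw [rv_mul, hf.2.2, hg.2.2, mul_coeff_zero, map_mul, C_mul]
    ring

theorem IsSR.pow {f : K[X]} (hf : IsSR θ f) (m : ℕ) : IsSR θ (f ^ m) := by
  induction m with
  | zero => rw [pow_zero]; exact isSR_one θ
  | succ m ih => rw [pow_succ]; exact IsSR.mul θ ih hf

theorem isSR_multiset_prod (S : Multiset K[X]) (h : ∀ f ∈ S, IsSR θ f) : IsSR θ S.prod := by
  induction S using Multiset.induction_on with
  | empty => rw [Multiset.prod_zero]; exact isSR_one θ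
  | cons a S ih =>
    rw [Multiset.prod_cons]
    exact IsSR.mul θ (h a (Multiset.mem_cons_self a S))
      (ih (fun f hf => h f (Multiset.mem_cons_of_mem hf)))

theorem reverse_X_pow_sub_C (r : ℕ) (a : K) : (X ^ r - C a : K[X]).reverse = 1 - C a * X ^ r := by
  have h1 : (X ^ r - C a : K[X]) = X ^ r + C (-a) := by rw [C_neg, sub_eq_add_neg]
  have h2 : (X ^ r : K[X]).reverse = 1 := by
    have := reverse_mul_X_pow (1 : K[X]) r
    rw [one_mul] at this
    rw [this]
    have h3 := reverse_C (1 : K)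
    rw [C_1] at h3
    exact h3
  rw [h1, reverse_add_C, h2, natDegree_X_pow, C_neg]
  ring

/-- `X ^ r - l` is self-reciprocal when `θ l * l = 1` -/
theorem isSR_X_pow_sub_C (r : ℕ) (hr : 0 < r) (l : K) (hl : θ l * l = 1) :
    IsSR θ (X ^ r - C l : K[X]) := by
  have hc0 : (X ^ r - C l : K[X]).coeff 0 = -l := by
    rw [coeff_sub, coeff_X_pow, coeff_C_zero, if_neg hr.ne, zero_sub]
  have hl0 : l ≠ 0 := by
    intro h
    rw [h, mul_zero] at hl
    exact zero_ne_one hl
  refine ⟨monic_X_pow_sub_C l hr.ne', ?_, ?_⟩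
  · rw [hc0]
    exact neg_ne_zero.2 hl0
  · rw [hc0, Polynomial.map_sub, Polynomial.map_pow, Polynomial.map_X, Polynomial.map_C,
      reverse_X_pow_sub_C, map_neg, C_neg, neg_mul, mul_sub, ← C_mul, hl, C_1]
    ring

end SR

variable {K : Type u} [Field K] [Fintype K] [DecidableEq K] {q n : ℕ}

local notation "sc" => Matrix.GeneralLinearGroup.scalar (Fin n)

section Exist

variable (p : ℕ) [Fact p.Prime] [CharP K p]

theorem sg_mul_self_of_mem_N1 (hK : Fintype.card K = q ^ 2) (a : Kˣ) (ha : a ∈ N1 K q) :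
    sg hK (a : K) * (a : K) = 1 := by
  rw [sg_apply, ← pow_succ]
  exact (mem_N1 a).1 ha

/-- every self-reciprocal polynomial of degree `n` is the characteristic polynomial of an element
of `GU_n(q)` of order prime to `p` -/
theorem exists_gu_charpoly (hK : Fintype.card K = q ^ 2) (f : K[X]) (hf : IsSR (sg hK) f)
    (hN : f.natDegree = n) :
    ∃ g : ↥(Cfsg.GU n K q), (orderOf g).Coprime p ∧
      ((g : GL (Fin n) K) : Matrix (Fin n) (Fin n) K).charpoly = f := by
  obtain ⟨A, hA, hAc⟩ := real_all (sg_ne_id hK) (sg_sg hK) n f hf hN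
  obtain ⟨g₀, hg₀⟩ := exists_gu_of_unitary hK A hA
  obtain ⟨g, hgc, hg⟩ := gu_exists_coprime_same_charpoly p g₀
  refine ⟨g, hgc, ?_⟩
  change (mat g).charpoly = f
  rw [hg, hg₀, hAc]

/-- a semisimple element whose characteristic polynomial divides a power of `X ^ r - l` has
`r`-th power `l` -/
theorem pow_eq_zc_of_charpoly_dvd (g : ↥(Cfsg.GU n K q)) (hgc : (orderOf g).Coprime p) (r m : ℕ)
    (l : ↥(N1 K q))
    (hd : ((g : GL (Fin n) K) : Matrix (Fin n) (Fin n) K).charpoly ∣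
      (X ^ r - C (((l : Kˣ) : K))) ^ m) : g ^ r = zc l := by
  have hss := gu_isSemisimple_of_orderOf_coprime p g hgc
  have hsq := hss.minpoly_squarefree
  rw [Matrix.minpoly_toLin'] at hsq
  have h1 : minpoly K (mat g) ∣ (X ^ r - C (((l : Kˣ) : K))) ^ m :=
    (Matrix.minpoly_dvd_charpoly _).trans hd
  have h2 : minpoly K (mat g) ∣ X ^ r - C (((l : Kˣ) : K)) := by
    rcases Nat.eq_zero_or_pos m with h0 | hpos
    · rw [h0, pow_zero] at h1
      exact (isUnit_of_dvd_one h1).dvd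
    · exact (hsq.dvd_pow_iff_dvd hpos.ne').mp h1
  obtain ⟨c, hc⟩ := h2
  have h3 : aeval (mat g) (X ^ r - C (((l : Kˣ) : K)) : K[X]) = 0 := by
    rw [hc, map_mul, minpoly.aeval, zero_mul]
  rw [map_sub, map_pow, aeval_X, aeval_C, sub_eq_zero] at h3
  apply Subtype.ext
  rw [coe_pow_gu, coe_zc]
  apply Units.ext
  rw [Units.val_pow_eq_pow_val, Matrix.GeneralLinearGroup.coe_scalar]
  change (mat g) ^ r = _
  rw [h3]
  rfl

/-- every spectrum is realised in `GU_n(q)` -/
theorem exists_of_spec_gu (hK : Fintype.card K = q ^ 2) {r : ℕ} (hr : r.Prime)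
    (hrq : r ∣ q + 1) (s : Multiset ↥(rootsOfUnity r K)) (hcard : Multiset.card s = n) :
    ∃ g : ↥(Cfsg.GU n K q), (orderOf g).Coprime p ∧ g ^ r = zc ((1 : ↥(N1 K q)) ^ r) ∧
      HasSpec r (g : GL (Fin n) K) ((1 : ↥(N1 K q)) : Kˣ) s := by
  have hsr : IsSR (sg hK) (specPoly r ((1 : ↥(N1 K q)) : Kˣ) s) := by
    unfold specPoly
    apply isSR_multiset_prod
    intro f hf
    obtain ⟨c, -, rfl⟩ := Multiset.mem_map.mp hf
    unfold lin
    have h1 := isSR_X_pow_sub_C (sg hK) 1 one_pos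
      (((((1 : ↥(N1 K q)) : Kˣ) * (c : Kˣ) : Kˣ)) : K)
      (sg_mul_self_of_mem_N1 hK _ (by
        rw [Subgroup.coe_one, one_mul]
        exact rootsOfUnity_mem_N1 hrq c))
    rw [pow_one] at h1
    exact h1
  obtain ⟨g, hgc, hg⟩ := exists_gu_charpoly p hK _ hsr ((specPoly_natDegree r _ s).trans hcard)
  refine ⟨g, hgc, ?_, hcard, hg⟩
  apply pow_eq_zc_of_charpoly_dvd p g hgc r (Multiset.card s)
  rw [hg]
  unfold specPoly
  have key : ∀ S : Multiset K[X],
      (∀ f ∈ S, f ∣ (X ^ r - C ((((1 : ↥(N1 K q)) ^ r : ↥(N1 K q)) : Kˣ) : K) : K[X])) →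
        S.prod ∣ (X ^ r - C ((((1 : ↥(N1 K q)) ^ r : ↥(N1 K q)) : Kˣ) : K)) ^ Multiset.card S := by
    intro S
    induction S using Multiset.induction_on with
    | empty => intro _; simp
    | cons a S ih =>
      intro h
      rw [Multiset.prod_cons, Multiset.card_cons, pow_succ']
      exact mul_dvd_mul (h a (Multiset.mem_cons_self a S))
        (ih (fun f hf => h f (Multiset.mem_cons_of_mem hf)))
  have := key (s.map (lin r ((1 : ↥(N1 K q)) : Kˣ))) (by
    intro f hf
    obtain ⟨c, -, rfl⟩ := Multiset.mem_map.mp hf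
    unfold lin
    rw [dvd_iff_isRoot, IsRoot.def, eval_sub, eval_pow, eval_X, eval_C, one_pow,
      Subgroup.coe_one, one_mul, Units.val_one, ← Units.val_pow_eq_pow_val,
      (mem_rootsOfUnity r (c : Kˣ)).mp c.2, Units.val_one, sub_self])
  rwa [Multiset.card_map] at this

/-- elements of `GU_n(q)` whose `r`-th power is a prescribed norm-one scalar, `r ∣ n` -/
theorem exists_pow_gu (hK : Fintype.card K = q ^ 2) {r : ℕ} (hr : r.Prime) (hn : r ∣ n)
    (l : ↥(N1 K q)) : ∃ g : ↥(Cfsg.GU n K q), (orderOf g).Coprime p ∧ g ^ r = zc l := by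
  obtain ⟨m, hm⟩ := hn
  have hsr : IsSR (sg hK) ((X ^ r - C (((l : Kˣ) : K)) : K[X]) ^ m) :=
    IsSR.pow _ (isSR_X_pow_sub_C (sg hK) r hr.pos _ (sg_mul_self_of_mem_N1 hK _ l.2)) m
  have hdeg : ((X ^ r - C (((l : Kˣ) : K)) : K[X]) ^ m).natDegree = n := by
    rw [natDegree_pow, natDegree_X_pow_sub_C, hm, mul_comm]
  obtain ⟨g, hgc, hg⟩ := exists_gu_charpoly p hK _ hsr hdeg
  refine ⟨g, hgc, ?_⟩
  apply pow_eq_zc_of_charpoly_dvd p g hgc r m
  rw [hg]

end Exist

section Quot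

variable {C : Type*} [CommGroup C] (r : ℕ)

/-- the subgroup of `r`-th powers of a commutative group -/
def powR (C : Type*) [CommGroup C] (r : ℕ) : Subgroup C := (powMonoidHom r : C →* C).range

theorem mem_powR (l : C) : l ∈ powR C r ↔ ∃ b : C, b ^ r = l := by
  unfold powR
  rw [MonoidHom.mem_range]
  simp only [powMonoidHom_apply]

theorem mkR_eq_one_iff (l : C) : ((l : C) : C ⧸ powR C r) = 1 ↔ ∃ b : C, b ^ r = l := by
  rw [QuotientGroup.eq_one_iff, mem_powR]

theorem mkR_eq_mkR_iff (l l' : C) :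
    ((l : C) : C ⧸ powR C r) = (l' : C ⧸ powR C r) ↔ ∃ u : C, l = u ^ r * l' := by
  rw [QuotientGroup.eq, mem_powR]
  constructor
  · rintro ⟨b, hb⟩
    refine ⟨b⁻¹, ?_⟩
    rw [inv_pow, hb, mul_inv_rev, inv_inv, mul_comm l'⁻¹ l, mul_assoc, inv_mul_cancel, mul_one]
  · rintro ⟨u, rfl⟩
    refine ⟨u⁻¹, ?_⟩
    rw [inv_pow, mul_inv_rev, mul_comm l'⁻¹, mul_assoc, inv_mul_cancel, mul_one]

theorem card_quot_powR [Finite C] [IsCyclic C] (hr : r ∣ Nat.card C) :
    Nat.card (C ⧸ powR C r) = r := by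
  have h2 := Subgroup.index_ker (powMonoidHom r : C →* C)
  have h3 := Subgroup.card_mul_index (powMonoidHom r : C →* C).ker
  have h4 := Subgroup.card_mul_index (powR C r)
  rw [h2, IsCyclic.card_powMonoidHom_ker, Nat.gcd_eq_right hr] at h3
  unfold powR at h4 ⊢
  rw [← Subgroup.index_eq_card]
  have hpos : 0 < Nat.card ↥(powMonoidHom r : C →* C).range := Nat.card_pos
  have : Nat.card ↥(powMonoidHom r : C →* C).range * (powMonoidHom r : C →* C).range.index =
      Nat.card ↥(powMonoidHom r : C →* C).range * r := by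
    rw [h4, ← h3, mul_comm]
  exact Nat.eq_of_mul_eq_mul_left hpos this

end Quot

end Cfsg.Agent.Lib.Helper8.PGUOrder
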