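import Mathlib
import Cfsg.Agent.Lib.Helper8.PGUOrderB

/-!
# Elements of prime order `r ∣ q + 1` in `PGU_n(q)`: the classification and the count (helper8)
-/

set_option autoImplicit false
set_option linter.unusedSectionVars false
set_option linter.unusedVariables false

namespace Cfsg.Agent.Lib.Helper8.PGUOrder

open Polynomial Cfsg Cfsg.Agent.H2.PGLOrderR Cfsg.Agent.H2.PGLInv Cfsg.Agent.S0278
  Cfsg.Agent.S0783 Cfsg.Agent.Lib.Helper8.GUPrime Cfsg.Agent.Lib.Helper8.SelfRec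
  Cfsg.Agent.Lib.Helper8.SUCount

universe u

variable {K : Type u} [Field K] [Fintype K] [DecidableEq K] {q n : ℕ}

local notation "sc" => Matrix.GeneralLinearGroup.scalar (Fin n)

section main

variable (p : ℕ) [Fact p.Prime] [CharP K p] (r : ℕ)

attribute [local instance] symAction

/-- a root of unity as a norm-one element -/
def rU (hrq : r ∣ q + 1) (c : ↥(rootsOfUnity r K)) : ↥(N1 K q) := ⟨(c : Kˣ), rootsOfUnity_mem_N1 hrq c⟩

theorem coe_pow_eq_sc (g : ↥(Cfsg.GU n K q)) (l : ↥(N1 K q)) (h : g ^ r = zc l) :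
    (g : GL (Fin n) K) ^ r = sc (l : Kˣ) := by
  rw [← coe_pow_gu, h, coe_zc]

theorem coe_zc_mul (u : ↥(N1 K q)) (h : ↥(Cfsg.GU n K q)) :
    ((zc u * h : ↥(Cfsg.GU n K q)) : GL (Fin n) K) = sc (u : Kˣ) * (h : GL (Fin n) K) := by
  rw [Subgroup.coe_mul, coe_zc]

theorem not_pow_units (hK : Fintype.card K = q ^ 2) (hr : r.Prime) (hr2 : r ≠ 2)
    (hrq : r ∣ q + 1) (l : ↥(N1 K q)) (hlnp : ∀ b : ↥(N1 K q), b ^ r ≠ l) :
    ∀ b : Kˣ, b ^ r ≠ (l : Kˣ) := by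
  intro b hb
  have hbN := mem_N1_of_pow hK hr hr2 hrq b l hb
  exact hlnp ⟨b, hbN⟩ (Subtype.ext (by rw [Subgroup.coe_pow]; exact hb))

/-- the invariant of an element of `PGU_n` of order `r` -/
def NT (x : ↥(Cfsg.GU n K q) ⧸ (Subgroup.center ↥(Cfsg.GU n K q))) :
    (MulAction.orbitRel.Quotient ↥(rootsOfUnity r K) (Sym ↥(rootsOfUnity r K) n)) ⊕ (↥(N1 K q) ⧸ powR ↥(N1 K q) r) → Prop
  | Sum.inl o => ∃ (g : ↥(Cfsg.GU n K q)) (μ : ↥(N1 K q)) (s : Sym ↥(rootsOfUnity r K) n),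
      (g : ↥(Cfsg.GU n K q) ⧸ (Subgroup.center ↥(Cfsg.GU n K q))) = x ∧ g ^ r = zc (μ ^ r) ∧
      HasSpec r (g : GL (Fin n) K) (μ : Kˣ) (s : Multiset ↥(rootsOfUnity r K)) ∧ orb r s = o
  | Sum.inr t => ∃ (g : ↥(Cfsg.GU n K q)) (l : ↥(N1 K q)),
      (g : ↥(Cfsg.GU n K q) ⧸ (Subgroup.center ↥(Cfsg.GU n K q))) = x ∧ g ^ r = zc l ∧ (∀ b : ↥(N1 K q), b ^ r ≠ l) ∧
      ((l : ↥(N1 K q)) : ↥(N1 K q) ⧸ powR ↥(N1 K q) r) = t

/-- the invariants that occur -/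
def InI : (MulAction.orbitRel.Quotient ↥(rootsOfUnity r K) (Sym ↥(rootsOfUnity r K) n)) ⊕ (↥(N1 K q) ⧸ powR ↥(N1 K q) r) → Prop
  | Sum.inl o => o ≠ orb r (Sym.replicate n 1)
  | Sum.inr t => t ≠ 1 ∧ r ∣ n

include p

theorem exists_NT_gu (hK : Fintype.card K = q ^ 2) (hr : r.Prime) (hr2 : r ≠ 2)
    (hrq : r ∣ q + 1) (ζ : Kˣ) (hζ : orderOf ζ = r)
    (g : ↥(Cfsg.GU n K q)) (hgZ : g ∉ (Subgroup.center ↥(Cfsg.GU n K q))) (l : ↥(N1 K q)) (hl : g ^ r = zc l) :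
    ∃ a, InI (K := K) (q := q) r (n := n) a ∧ NT r (g : ↥(Cfsg.GU n K q) ⧸ (Subgroup.center ↥(Cfsg.GU n K q))) a := by
  have hcop := coprime_of_pow_gu p hK hrq g l hl
  have hcop' : (orderOf (g : GL (Fin n) K)).Coprime p := by
    rw [Subgroup.orderOf_coe]; exact hcop
  have hrq' := dvd_card_sub_one hK hrq
  by_cases h : ∃ μ : ↥(N1 K q), μ ^ r = l
  · obtain ⟨μ, rfl⟩ := h
    have hl' : (g : GL (Fin n) K) ^ r = sc ((μ : Kˣ) ^ r) := by
      rw [coe_pow_eq_sc r g _ hl, Subgroup.coe_pow]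
    obtain ⟨s, hs⟩ := exists_hasSpec p r hr hrq' ζ hζ (g : GL (Fin n) K) (μ : Kˣ) hl' hcop'
    refine ⟨Sum.inl (orb r ⟨s, hs.1⟩), ?_, g, μ, ⟨s, hs.1⟩, rfl, hl, hs, rfl⟩
    show orb r ⟨s, hs.1⟩ ≠ orb r (Sym.replicate n 1)
    intro heq
    obtain ⟨c, hc⟩ := (orb_eq_iff r _ _).mp heq
    rw [smul_replicate] at hc
    have hs' : s = Multiset.replicate n (c * 1) := by
      have := congrArg (fun t : Sym ↥(rootsOfUnity r K) n => (t : Multiset ↥(rootsOfUnity r K))) hc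
      simp only [Sym.coe_replicate] at this
      exact this.symm
    rw [hs'] at hs
    apply hgZ
    exact mem_center_of_coe_eq_sc g _ (eq_sc_of_hasSpec_replicate p r hs hcop')
  · have hlnp : ∀ b : ↥(N1 K q), b ^ r ≠ l := fun b hb => h ⟨b, hb⟩
    have hlnp' := not_pow_units r hK hr hr2 hrq l hlnp
    obtain ⟨hdvd, -⟩ := charpoly_of_pow_nonpow p r hr hrq' (g : GL (Fin n) K) (l : Kˣ) hlnp'
      (coe_pow_eq_sc r g l hl) hcop'
    refine ⟨Sum.inr ((l : ↥(N1 K q)) : ↥(N1 K q) ⧸ powR ↥(N1 K q) r), ⟨?_, hdvd⟩, g, l, rfl, hl, hlnp, rfl⟩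
    intro h1
    obtain ⟨b, hb⟩ := (mkR_eq_one_iff r l).mp h1
    exact hlnp b hb

theorem isConj_of_NT_gu (hK : Fintype.card K = q ^ 2) (hn : 1 ≤ n) (hr : r.Prime) (hr2 : r ≠ 2)
    (hrq : r ∣ q + 1) {x y : ↥(Cfsg.GU n K q) ⧸ (Subgroup.center ↥(Cfsg.GU n K q))}
    (a : (MulAction.orbitRel.Quotient ↥(rootsOfUnity r K) (Sym ↥(rootsOfUnity r K) n)) ⊕ (↥(N1 K q) ⧸ powR ↥(N1 K q) r))
    (hx : NT r x a) (hy : NT r y a) : IsConj x y := by
  have hrq' := dvd_card_sub_one hK hrq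
  rcases a with o | t
  · obtain ⟨g, μ, s, rfl, hg, hgs, ho⟩ := hx
    obtain ⟨h, ν, s', rfl, hh, hhs, ho'⟩ := hy
    obtain ⟨c, hc⟩ := (orb_eq_iff r s s').mp (ho.trans ho'.symm)
    rw [isConj_mk_gu_iff hK hn]
    refine ⟨μ * rU r hrq c * ν⁻¹, ?_⟩
    have h1 := hhs.smul r ((μ * rU r hrq c * ν⁻¹ : ↥(N1 K q)) : Kˣ)
    have e1 : ((μ * rU r hrq c * ν⁻¹ : ↥(N1 K q)) : Kˣ) * (ν : Kˣ) = (μ : Kˣ) * (c : Kˣ) := by
      rw [Subgroup.coe_mul, Subgroup.coe_mul, Subgroup.coe_inv, inv_mul_cancel_right]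
      rfl
    rw [e1] at h1
    have h2 := h1.shift r c
    have h3 : ((s' : Multiset ↥(rootsOfUnity r K)).map (fun x => c * x)) = (s : Multiset ↥(rootsOfUnity r K)) := by
      rw [← smul_coe, hc]
    rw [h3, ← coe_zc_mul] at h2
    exact hasSpec_isConj_gu p hK r hgs h2 (coprime_of_pow_gu p hK hrq g _ hg)
      (coprime_of_pow_gu p hK hrq _ _ (pow_zc_mul r _ _ h hh))
  · obtain ⟨g, l, rfl, hg, hlnp, ht⟩ := hx
    obtain ⟨h, l', rfl, hh, hlnp', ht'⟩ := hy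
    obtain ⟨u, hu⟩ := (mkR_eq_mkR_iff r l l').mp (ht.trans ht'.symm)
    rw [isConj_mk_gu_iff hK hn]
    refine ⟨u, ?_⟩
    have h1 := pow_zc_mul r u l' h hh
    rw [← hu] at h1
    have hlnpK := not_pow_units r hK hr hr2 hrq l hlnp
    have hcg := coprime_of_pow_gu p hK hrq g _ hg
    have hch := coprime_of_pow_gu p hK hrq _ _ h1
    have hcg' : (orderOf (g : GL (Fin n) K)).Coprime p := by
      rw [Subgroup.orderOf_coe]; exact hcg
    have hch' : (orderOf ((zc u * h : ↥(Cfsg.GU n K q)) : GL (Fin n) K)).Coprime p := by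
      rw [Subgroup.orderOf_coe]; exact hch
    have hc1 := charpoly_of_pow_nonpow p r hr hrq' (g : GL (Fin n) K) (l : Kˣ) hlnpK
      (coe_pow_eq_sc r g l hg) hcg'
    have hc2 := charpoly_of_pow_nonpow p r hr hrq' ((zc u * h : ↥(Cfsg.GU n K q)) : GL (Fin n) K) (l : Kˣ)
      hlnpK (coe_pow_eq_sc r _ l h1) hch'
    exact isConj_gu_of_charpoly p hK g (zc u * h) hcg hch (hc1.2.trans hc2.2.symm)

theorem NT_unique_gu (hK : Fintype.card K = q ^ 2) (hn : 1 ≤ n) {x y : ↥(Cfsg.GU n K q) ⧸ (Subgroup.center ↥(Cfsg.GU n K q))}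
    (a a' : (MulAction.orbitRel.Quotient ↥(rootsOfUnity r K) (Sym ↥(rootsOfUnity r K) n)) ⊕ (↥(N1 K q) ⧸ powR ↥(N1 K q) r))
    (hx : NT r x a) (hy : NT r y a') (hxy : IsConj x y) : a = a' := by
  have hn0 : 0 < n := hn
  rcases a with o | t
  · obtain ⟨g, μ, s, rfl, hg, hgs, ho⟩ := hx
    rcases a' with o' | t'
    · obtain ⟨h, ν, s', rfl, hh, hhs, ho'⟩ := hy
      obtain ⟨u, hu⟩ := (isConj_mk_gu_iff hK hn g h).mp hxy
      have h1 := pow_of_isConj_gu hu (pow_zc_mul r u _ h hh)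
      rw [hg] at h1
      have h2 : μ ^ r = u ^ r * ν ^ r := zc_injective hn0 h1
      have h2' : (μ : Kˣ) ^ r = (u : Kˣ) ^ r * (ν : Kˣ) ^ r := by
        have := congrArg (fun t : ↥(N1 K q) => (t : Kˣ)) h2
        simpa using this
      have hcmem : (μ : Kˣ)⁻¹ * ((u : Kˣ) * (ν : Kˣ)) ∈ rootsOfUnity r K := by
        rw [mem_rootsOfUnity, mul_pow, inv_pow, mul_pow, ← h2', inv_mul_cancel]
      have h3 : HasSpec r (g : GL (Fin n) K) ((u : Kˣ) * (ν : Kˣ)) (s' : Multiset ↥(rootsOfUnity r K)) := by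
        have h4 := hhs.smul r (u : Kˣ)
        rw [← coe_zc_mul] at h4
        exact hasSpec_conj_gu r hu.symm h4
      have h4 : (u : Kˣ) * (ν : Kˣ) =
          (μ : Kˣ) * ((⟨(μ : Kˣ)⁻¹ * ((u : Kˣ) * (ν : Kˣ)), hcmem⟩ : ↥(rootsOfUnity r K)) : Kˣ) := by
        show (u : Kˣ) * (ν : Kˣ) = (μ : Kˣ) * ((μ : Kˣ)⁻¹ * ((u : Kˣ) * (ν : Kˣ)))
        rw [mul_inv_cancel_left]
      rw [h4] at h3
      have h5 := h3.shift r ⟨(μ : Kˣ)⁻¹ * ((u : Kˣ) * (ν : Kˣ)), hcmem⟩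
      have h6 := hgs.unique r h5
      rw [← smul_coe] at h6
      have h7 := Sym.coe_injective h6
      congr 1
      rw [← ho, ← ho', orb_eq_iff]
      exact ⟨_, h7.symm⟩
    · exfalso
      obtain ⟨h, l', rfl, hh, hlnp', ht'⟩ := hy
      obtain ⟨u, hu⟩ := (isConj_mk_gu_iff hK hn g h).mp hxy
      have h1 := pow_of_isConj_gu hu (pow_zc_mul r u _ h hh)
      rw [hg] at h1
      have h2 : μ ^ r = u ^ r * l' := zc_injective hn0 h1
      apply hlnp' (u⁻¹ * μ)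
      rw [mul_pow, h2, inv_pow, inv_mul_cancel_left]
  · obtain ⟨g, l, rfl, hg, hlnp, ht⟩ := hx
    rcases a' with o' | t'
    · exfalso
      obtain ⟨h, ν, s', rfl, hh, hhs, ho'⟩ := hy
      obtain ⟨u, hu⟩ := (isConj_mk_gu_iff hK hn g h).mp hxy
      have h1 := pow_of_isConj_gu hu (pow_zc_mul r u _ h hh)
      rw [hg] at h1
      have h2 : l = u ^ r * ν ^ r := zc_injective hn0 h1
      apply hlnp (u * ν)
      rw [mul_pow, h2]
    · obtain ⟨h, l', rfl, hh, hlnp', ht'⟩ := hy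
      obtain ⟨u, hu⟩ := (isConj_mk_gu_iff hK hn g h).mp hxy
      have h1 := pow_of_isConj_gu hu (pow_zc_mul r u _ h hh)
      rw [hg] at h1
      have h2 : l = u ^ r * l' := zc_injective hn0 h1
      congr 1
      rw [← ht, ← ht', mkR_eq_mkR_iff]
      exact ⟨u, h2⟩

theorem exists_of_InI_gu (hK : Fintype.card K = q ^ 2) (hr : r.Prime) (hrq : r ∣ q + 1)
    (hn : 0 < n)
    (a : (MulAction.orbitRel.Quotient ↥(rootsOfUnity r K) (Sym ↥(rootsOfUnity r K) n)) ⊕ (↥(N1 K q) ⧸ powR ↥(N1 K q) r))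
    (ha : InI (K := K) (q := q) r (n := n) a) :
    ∃ g : ↥(Cfsg.GU n K q), g ∉ (Subgroup.center ↥(Cfsg.GU n K q)) ∧ (∃ l : ↥(N1 K q), g ^ r = zc l) ∧ NT r (g : ↥(Cfsg.GU n K q) ⧸ (Subgroup.center ↥(Cfsg.GU n K q))) a := by
  rcases a with o | t
  · obtain ⟨s, rfl⟩ := exists_orb r o
    obtain ⟨g, hgc, hg, hgs⟩ := exists_of_spec_gu p hK hr hrq (s : Multiset ↥(rootsOfUnity r K)) s.2
    refine ⟨g, ?_, ⟨_, hg⟩, g, 1, s, rfl, hg, hgs, rfl⟩
    intro hgZ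
    rw [mem_center_gu_iff hK hn] at hgZ
    obtain ⟨ν, rfl⟩ := hgZ
    rw [coe_zc] at hgs
    obtain ⟨c, hc⟩ := replicate_of_hasSpec_sc r hn hgs
    apply ha
    rw [orb_eq_iff]
    refine ⟨c, ?_⟩
    rw [smul_replicate, mul_one]
    apply Sym.coe_injective
    rw [Sym.coe_replicate, hc]
  · obtain ⟨ht1, hdvd⟩ := ha
    obtain ⟨l, rfl⟩ := QuotientGroup.mk_surjective t
    have hlnp : ∀ b : ↥(N1 K q), b ^ r ≠ l := by
      intro b hb
      exact ht1 ((mkR_eq_one_iff r l).mpr ⟨b, hb⟩)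
    obtain ⟨g, hgc, hg⟩ := exists_pow_gu p hK hr hdvd l
    refine ⟨g, ?_, ⟨_, hg⟩, g, l, rfl, hg, hlnp, rfl⟩
    intro hgZ
    rw [mem_center_gu_iff hK hn] at hgZ
    obtain ⟨c, rfl⟩ := hgZ
    rw [← zc_pow] at hg
    exact hlnp c (zc_injective hn hg)

end main

section final

variable (p : ℕ) [Fact p.Prime] [CharP K p] (r : ℕ)

attribute [local instance] symAction

include p

theorem card_classes_aux_gu (hK : Fintype.card K = q ^ 2) (hr : r.Prime) (hr2 : r ≠ 2)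
    (hrq : r ∣ q + 1) (hn : 2 ≤ n) :
    Nat.card {C : ConjClasses (↥(Cfsg.GU n K q) ⧸ (Subgroup.center ↥(Cfsg.GU n K q))) //
      ∃ x : ↥(Cfsg.GU n K q) ⧸ (Subgroup.center ↥(Cfsg.GU n K q)), ConjClasses.mk x = C ∧ orderOf x = r} =
      (Nat.card (MulAction.orbitRel.Quotient ↥(rootsOfUnity r K) (Sym ↥(rootsOfUnity r K) n)) - 1) +
        (if r ∣ n then r - 1 else 0) := by
  classical
  have hrq' := dvd_card_sub_one hK hrq
  obtain ⟨ζ, hζ, hR⟩ := exists_zeta p r hr hrq'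
  have _ : Fintype (MulAction.orbitRel.Quotient ↥(rootsOfUnity r K) (Sym ↥(rootsOfUnity r K) n)) := Fintype.ofFinite _
  have _ : Fintype (↥(N1 K q) ⧸ powR ↥(N1 K q) r) := Fintype.ofFinite _
  have hcyc : IsCyclic ↥(N1 K q) := inferInstance
  have hcardU : r ∣ Nat.card ↥(N1 K q) := by rw [card_N1 hK]; exact hrq
  set I : Finset ((MulAction.orbitRel.Quotient ↥(rootsOfUnity r K) (Sym ↥(rootsOfUnity r K) n)) ⊕ (↥(N1 K q) ⧸ powR ↥(N1 K q) r)) :=
    (Finset.univ.erase (orb r (Sym.replicate n 1))).disjSum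
      (if r ∣ n then Finset.univ.erase 1 else ∅) with hI
  have hmemI : ∀ a, a ∈ I ↔ InI (K := K) (q := q) r (n := n) a := by
    intro a
    rcases a with o | t
    · rw [hI, Finset.inl_mem_disjSum, Finset.mem_erase]
      show _ ↔ o ≠ orb r (Sym.replicate n 1)
      simp only [Finset.mem_univ, and_true]
    · rw [hI, Finset.inr_mem_disjSum]
      show _ ↔ t ≠ 1 ∧ r ∣ n
      split_ifs with hdvd
      · rw [Finset.mem_erase]
        simp only [Finset.mem_univ, and_true, hdvd]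
      · simp only [Finset.notMem_empty, hdvd, and_false]
  have hcardI : I.card =
      (Nat.card (MulAction.orbitRel.Quotient ↥(rootsOfUnity r K) (Sym ↥(rootsOfUnity r K) n)) - 1) +
        (if r ∣ n then r - 1 else 0) := by
    rw [hI, Finset.card_disjSum, Finset.card_erase_of_mem (Finset.mem_univ _), Finset.card_univ,
      ← Nat.card_eq_fintype_card]
    congr 1
    split_ifs with hdvd
    · rw [Finset.card_erase_of_mem (Finset.mem_univ _), Finset.card_univ,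
        ← Nat.card_eq_fintype_card, card_quot_powR r hcardU]
    · rfl
  rw [← hcardI]
  apply card_classes_of_inv (fun x => orderOf x = r) (NT r) I
  · intro x hx
    obtain ⟨g, rfl⟩ := QuotientGroup.mk_surjective x
    obtain ⟨hgZ, l, hl⟩ := (orderOf_mk_gu_eq_prime hK (by omega) hr g).mp hx
    obtain ⟨a, haI, ha⟩ := exists_NT_gu p r hK hr hr2 hrq ζ hζ g hgZ l hl
    exact ⟨a, (hmemI a).mpr haI, ha⟩
  · intro x y a _ _ hx hy
    exact isConj_of_NT_gu p r hK (by omega) hr hr2 hrq a hx hy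
  · intro x y a a' _ _ hx hy hxy
    exact NT_unique_gu p r hK (by omega) a a' hx hy hxy
  · intro a ha
    obtain ⟨g, hgZ, hl, hNT⟩ := exists_of_InI_gu p r hK hr hrq (by omega) a ((hmemI a).mp ha)
    exact ⟨(g : ↥(Cfsg.GU n K q) ⧸ (Subgroup.center ↥(Cfsg.GU n K q))), (orderOf_mk_gu_eq_prime hK (by omega) hr g).mpr ⟨hgZ, hl⟩, hNT⟩

/-- **Classes of elements of odd prime order `r ∣ q + 1` in `PGU_n(q)`.** -/
theorem card_order_r_classes_gu (hK : Fintype.card K = q ^ 2) (hr : r.Prime) (hr2 : r ≠ 2)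
    (hrq : r ∣ q + 1) (hn : 2 ≤ n) :
    Nat.card {C : ConjClasses (↥(Cfsg.GU n K q) ⧸ (Subgroup.center ↥(Cfsg.GU n K q))) //
      ∃ x : ↥(Cfsg.GU n K q) ⧸ (Subgroup.center ↥(Cfsg.GU n K q)), ConjClasses.mk x = C ∧ orderOf x = r} =
      (Nat.choose (n + r - 1) (r - 1) - r - (if r ∣ n then 1 else 0)) / r +
        r * (if r ∣ n then 1 else 0) := by
  have _ : Fact r.Prime := ⟨hr⟩
  have hrq' := dvd_card_sub_one hK hrq
  obtain ⟨ζ, hζ, hR⟩ := exists_zeta p r hr hrq'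
  rw [card_classes_aux_gu p r hK hr hr2 hrq hn]
  have horb := card_orbits (F := K) r n hR
  have hmc : Nat.multichoose r n = Nat.choose (n + r - 1) (r - 1) := by
    rw [Nat.multichoose_eq]
    have h1 : r + n - 1 = n + r - 1 := by omega
    rw [h1]
    have := Nat.choose_symm (n := n + r - 1) (k := n) (by have := hr.two_le; omega)
    rw [← this]
    congr 1
    have := hr.two_le
    omega
  rw [hmc] at horb
  have hb := choose_bound p r hr.two_le hn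
  have hrpos : 0 < r := hr.pos
  have hr2' := hr.two_le
  generalize Nat.card (MulAction.orbitRel.Quotient ↥(rootsOfUnity r K) (Sym ↥(rootsOfUnity r K) n)) = N at horb ⊢
  generalize Nat.choose (n + r - 1) (r - 1) = C at horb hb ⊢
  split_ifs with hdvd
  · rw [if_pos hdvd, mul_one] at horb
    have hN : 2 ≤ N := by
      by_contra hlt
      have : N * r ≤ 1 * r := Nat.mul_le_mul_right _ (by omega)
      omega
    obtain ⟨M, rfl⟩ : ∃ M, N = M + 2 := ⟨N - 2, by omega⟩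
    have h1 : C - r - 1 = M * r := by
      have : (M + 2) * r = M * r + 2 * r := by ring
      omega
    rw [h1, Nat.mul_div_cancel _ hrpos]
    omega
  · rw [if_neg hdvd, mul_zero, add_zero] at horb
    have hN : 1 ≤ N := by
      by_contra hlt
      have : N = 0 := by omega
      rw [this, zero_mul] at horb
      omega
    obtain ⟨M, rfl⟩ : ∃ M, N = M + 1 := ⟨N - 1, by omega⟩
    have h1 : C - r - 0 = M * r := by
      have : (M + 1) * r = M * r + r := by ring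
      omega
    rw [h1, Nat.mul_div_cancel _ hrpos]
    omega

end final

end Cfsg.Agent.Lib.Helper8.PGUOrder
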