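import Mathlib
import Cfsg.Agent.Lib.Helper8.InvSubD
import Cfsg.Agent.Lib.Helper8.DecStF

/-!
# An isometry of prime order with a small irreducible moving part fixes no polar pair (helper8)
-/

set_option autoImplicit false
set_option linter.unusedSectionVars false

namespace Cfsg.Agent.Lib.Helper8.Polar

open Polynomial Module Cfsg.Agent.Lib.Helper8.InvSub Cfsg.Agent.Lib.Helper8.SingerN
  Cfsg.Agent.Lib.Helper8.DecSt

section Orth

variable {F : Type*} [Field F] {V : Type*} [AddCommGroup V] [Module F V]

theorem form_pow_pow (B : LinearMap.BilinForm F V) (A : Module.End F V)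
    (hinv : ∀ x y, B (A x) (A y) = B x y) (k : ℕ) (x y : V) :
    B ((A ^ k) x) ((A ^ k) y) = B x y := by
  induction k with
  | zero => simp
  | succ k ih => rw [pow_succ', Module.End.mul_apply, Module.End.mul_apply, hinv, ih]

/-- the moving part of an isometry of order `r` is orthogonal to the fixed space -/
theorem form_moving_fixed (B : LinearMap.BilinForm F V) (A : Module.End F V)
    (hinv : ∀ x y, B (A x) (A y) = B x y) (r : ℕ) (hr0 : (r : F) ≠ 0) (v c : V)
    (hv : v ∈ LinearMap.ker (aeval A (geomPoly F r))) (hc : A c = c) : B v c = 0 := by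
  have hpow : ∀ k : ℕ, (A ^ k) c = c := by
    intro k
    induction k with
    | zero => simp
    | succ k ih => rw [pow_succ, Module.End.mul_apply, hc, ih]
  have h1 : B (aeval A (geomPoly F r) v) c = (r : F) * B v c := by
    rw [geomPoly, map_sum, LinearMap.sum_apply, map_sum, LinearMap.sum_apply]
    have : ∀ k ∈ Finset.range r, B ((aeval A (X ^ k : F[X])) v) c = B v c := by
      intro k _
      rw [map_pow, aeval_X]
      conv_lhs => rw [← hpow k]
      exact form_pow_pow B A hinv k v c
    rw [Finset.sum_congr rfl this, Finset.sum_const, Finset.card_range, nsmul_eq_mul]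
  rw [LinearMap.mem_ker.1 hv, map_zero, LinearMap.zero_apply] at h1
  rcases mul_eq_zero.1 h1.symm with h | h
  · exact absurd h hr0
  · exact h

/-- for `r` odd the square of an operator of order `r` has the same fixed space -/
theorem ker_sq_sub_one (A : Module.End F V) {r : ℕ} (hodd : Odd r) (hAr : A ^ r = 1) :
    LinearMap.ker (aeval (A ^ 2) (X - C (1 : F))) = LinearMap.ker (aeval A (X - C (1 : F))) := by
  ext v
  rw [mem_ker_X_sub_one, mem_ker_X_sub_one]
  constructor
  · intro h
    obtain ⟨k, hk⟩ := hodd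
    have h1 : ∀ j : ℕ, ((A ^ 2) ^ j) v = v := by
      intro j
      induction j with
      | zero => simp
      | succ j ih => rw [pow_succ, Module.End.mul_apply, h, ih]
    have h2 : (A ^ r) v = A v := by
      rw [hk, pow_succ, pow_mul, Module.End.mul_apply]
      have h3 : Commute ((A ^ 2) ^ k) A := (Commute.refl A).pow_left _ |>.pow_left _
      have h4 : ((A ^ 2) ^ k) (A v) = A (((A ^ 2) ^ k) v) := by
        rw [← Module.End.mul_apply, h3.eq, Module.End.mul_apply]
      rw [h4, h1]
    rw [hAr, Module.End.one_apply] at h2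
    exact h2.symm
  · intro h
    rw [pow_two, Module.End.mul_apply, h, h]

end Orth

section NoPair

variable {F : Type*} [Field F] [Fintype F] {V : Type*} [AddCommGroup V] [Module F V]
  [FiniteDimensional F V]

/-- one half of the argument: the moving part lies in `W`, which is totally isotropic -/
theorem no_invt_pair_aux {r : ℕ} (hr0 : (r : F) ≠ 0)
    (B : LinearMap.BilinForm F V) (hsep : ∀ x, (∀ y, B x y = 0) → x = 0)
    (A : Module.End F V) (hinv : ∀ x y, B (A x) (A y) = B x y) (hAr : A ^ r = 1)
    (W : Submodule F V) (hWt : ∀ u ∈ W, ∀ v ∈ W, B u v = 0)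
    (hDW : LinearMap.ker (aeval A (geomPoly F r)) ≤ W)
    (hD : LinearMap.ker (aeval A (geomPoly F r)) ≠ ⊥) : False := by
  obtain ⟨v, hv, hv0⟩ := Submodule.exists_mem_ne_zero_of_ne_bot hD
  apply hv0
  apply hsep
  intro y
  have hy : y ∈ (⊤ : Submodule F V) := Submodule.mem_top
  rw [← inf_sup_inf_eq A _ _ (isCoprime_X_sub_one_geomPoly r hr0)
    (aeval_X_sub_one_mul_geomPoly A r hAr) ⊤ (by intro v _; exact Submodule.mem_top),
    top_inf_eq, top_inf_eq] at hy
  obtain ⟨c, hc, d, hd, rfl⟩ := Submodule.mem_sup.1 hy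
  rw [map_add, form_moving_fixed B A hinv r hr0 v c hv ((mem_ker_X_sub_one A c).1 hc),
    hWt v (hDW hv) d (hDW hd), add_zero]

/-- an isometry of prime order `r` whose moving part has dimension `i = ord_r(q)` fixes no pair
of complementary totally isotropic subspaces -/
theorem no_invt_pair (p : ℕ) [Fact p.Prime] [CharP F p] {q r : ℕ} (hq : Fintype.card F = q)
    (hr : r.Prime) (hrp : r ≠ p) (hipos : 0 < orderOf (q : ZMod r))
    (B : LinearMap.BilinForm F V) (hsep : ∀ x, (∀ y, B x y = 0) → x = 0)
    (A : Module.End F V) (hinv : ∀ x y, B (A x) (A y) = B x y) (hAr : A ^ r = 1)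
    (hfix : finrank F (LinearMap.ker (aeval A (X - C (1 : F)))) + orderOf (q : ZMod r) =
      finrank F V)
    (U W : Submodule F V) (hc : IsCompl U W) (hU : U ∈ A.invtSubmodule)
    (hW : W ∈ A.invtSubmodule) (hUt : ∀ u ∈ U, ∀ v ∈ U, B u v = 0)
    (hWt : ∀ u ∈ W, ∀ v ∈ W, B u v = 0) : False := by
  have hr0 : (r : F) ≠ 0 := natCast_ne_zero_of' p hr hrp
  have hss := isSemisimple_of_pow_eq_one A r hr0 hAr
  have hΦ0 := geomPoly_ne_zero (F := F) r hr0
  have hall := allDeg_geomPoly (F := F) p hq hr hrp
  have hn := finrank_fixed_add A r hr0 hAr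
  set D := LinearMap.ker (aeval A (geomPoly F r)) with hDdef
  set i := orderOf (q : ZMod r) with hi
  have hDi : finrank F D = i := by omega
  have hDinv : D ∈ A.invtSubmodule := ker_aeval_mem_invt A _
  have hD0 : D ≠ ⊥ := by
    intro h
    rw [h, finrank_bot] at hDi
    omega
  have hadd := finrank_inf_ker_add A (geomPoly F r) U W ⊤ hU hW hc.inf_eq_bot hc.sup_eq_top
  rw [top_inf_eq, ← hDdef, hDi] at hadd
  obtain ⟨a, ha⟩ := dvd_finrank A hss (geomPoly F r) hΦ0 _ hall _ (U ⊓ D) rfl
    (inf_mem_invt A hU hDinv) inf_le_right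
  obtain ⟨b, hb⟩ := dvd_finrank A hss (geomPoly F r) hΦ0 _ hall _ (W ⊓ D) rfl
    (inf_mem_invt A hW hDinv) inf_le_right
  rw [ha, hb] at hadd
  have hab : a + b = 1 := by
    have : i * 1 = i * (a + b) := by rw [mul_one, mul_add]; exact hadd
    exact (Nat.eq_of_mul_eq_mul_left hipos this).symm
  rcases Nat.eq_zero_or_pos a with ha0 | hapos
  · -- `D ≤ W`
    have hb1 : b = 1 := by omega
    have hWD : W ⊓ D = D := by
      apply Submodule.eq_of_le_of_finrank_eq inf_le_right
      rw [hb, hb1, mul_one, hDi]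
    exact no_invt_pair_aux hr0 B hsep A hinv hAr W hWt (by rw [← hDdef, ← hWD]; exact inf_le_left)
      hD0
  · have ha1 : a = 1 := by omega
    have hUD : U ⊓ D = D := by
      apply Submodule.eq_of_le_of_finrank_eq inf_le_right
      rw [ha, ha1, mul_one, hDi]
    exact no_invt_pair_aux hr0 B hsep A hinv hAr U hUt (by rw [← hDdef, ← hUD]; exact inf_le_left)
      hD0

end NoPair

end Cfsg.Agent.Lib.Helper8.Polar
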