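import Mathlib
import Cfsg.Agent.Lib.Helper5.Symp
import Cfsg.Agent.Lib.Helper8.SympBasis
import Cfsg.Agent.Lib.Helper8.SpSSE

/-!
# The symplectic group acting on subspaces; matrices with prescribed columns (helper8)
-/

set_option autoImplicit false
set_option linter.unusedSectionVars false

namespace Cfsg.Agent.Lib.Helper8.Polar

open Module Matrix Cfsg Cfsg.Agent.Lib.Helper5.Symp Cfsg.Agent.Lib.Helper8.SpSS

variable {F : Type*} [Field F] {m : ℕ}

/-- the matrix with prescribed columns -/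
def colMatrix (w : Fin m ⊕ Fin m → (Fin m ⊕ Fin m → F)) :
    Matrix (Fin m ⊕ Fin m) (Fin m ⊕ Fin m) F :=
  Matrix.of fun a x => w x a

theorem colMatrix_mulVec (w : Fin m ⊕ Fin m → (Fin m ⊕ Fin m → F)) (v : Fin m ⊕ Fin m → F) :
    colMatrix w *ᵥ v = ∑ x, v x • w x := by
  funext a
  simp only [colMatrix, Matrix.mulVec, dotProduct, Matrix.of_apply, Finset.sum_apply,
    Pi.smul_apply, smul_eq_mul]
  apply Finset.sum_congr rfl
  intro x _
  ring

theorem colMatrix_mulVec_single (w : Fin m ⊕ Fin m → (Fin m ⊕ Fin m → F)) (x : Fin m ⊕ Fin m) :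
    colMatrix w *ᵥ Pi.single x 1 = w x := by
  rw [colMatrix_mulVec, Finset.sum_eq_single x]
  · simp
  · intro y _ hy
    simp [hy]
  · intro h
    exact absurd (Finset.mem_univ x) h

/-- a matrix whose columns form a symplectic family is symplectic -/
theorem colMatrix_mem (w : Fin m ⊕ Fin m → (Fin m ⊕ Fin m → F))
    (h : ∀ x y, sympForm m F (w x) (w y) = J (Fin m) F x y) :
    colMatrix w ∈ symplecticGroup (Fin m) F := by
  rw [SymplecticGroup.mem_iff']
  ext x y
  rw [← h x y]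
  simp only [sympForm, Matrix.mul_apply, Matrix.transpose_apply, colMatrix, Matrix.of_apply,
    dotProduct, Matrix.mulVec, Finset.sum_mul, Finset.mul_sum, mul_assoc]
  rw [Finset.sum_comm]

/-- the linear automorphism attached to a symplectic matrix -/
noncomputable def spEquiv (g : symplecticGroup (Fin m) F) :
    (Fin m ⊕ Fin m → F) ≃ₗ[F] (Fin m ⊕ Fin m → F) :=
  Matrix.toLin'OfInv
    (M := ((g⁻¹ : symplecticGroup (Fin m) F) : Matrix (Fin m ⊕ Fin m) (Fin m ⊕ Fin m) F))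
    (M' := (g : Matrix (Fin m ⊕ Fin m) (Fin m ⊕ Fin m) F))
    (by rw [← Submonoid.coe_mul, inv_mul_cancel]; rfl)
    (by rw [← Submonoid.coe_mul, mul_inv_cancel]; rfl)

theorem spEquiv_toLinearMap (g : symplecticGroup (Fin m) F) :
    (spEquiv g).toLinearMap =
      Matrix.toLin' (g : Matrix (Fin m ⊕ Fin m) (Fin m ⊕ Fin m) F) := rfl

theorem spEquiv_apply (g : symplecticGroup (Fin m) F) (v : Fin m ⊕ Fin m → F) :
    spEquiv g v = (g : Matrix (Fin m ⊕ Fin m) (Fin m ⊕ Fin m) F) *ᵥ v := by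
  change Matrix.toLin' _ v = _
  rw [Matrix.toLin'_apply]

theorem map_one_sp (U : Submodule F (Fin m ⊕ Fin m → F)) :
    U.map (Matrix.toLin'
      ((1 : symplecticGroup (Fin m) F) : Matrix (Fin m ⊕ Fin m) (Fin m ⊕ Fin m) F)) = U := by
  have : ((1 : symplecticGroup (Fin m) F) : Matrix (Fin m ⊕ Fin m) (Fin m ⊕ Fin m) F) = 1 := rfl
  rw [this, Matrix.toLin'_one]
  exact Submodule.map_id U

theorem map_mul_sp (g h : symplecticGroup (Fin m) F) (U : Submodule F (Fin m ⊕ Fin m → F)) :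
    U.map (Matrix.toLin'
      ((g * h : symplecticGroup (Fin m) F) : Matrix (Fin m ⊕ Fin m) (Fin m ⊕ Fin m) F)) =
    (U.map (Matrix.toLin' (h : Matrix (Fin m ⊕ Fin m) (Fin m ⊕ Fin m) F))).map
      (Matrix.toLin' (g : Matrix (Fin m ⊕ Fin m) (Fin m ⊕ Fin m) F)) := by
  have : ((g * h : symplecticGroup (Fin m) F) : Matrix (Fin m ⊕ Fin m) (Fin m ⊕ Fin m) F) =
      (g : Matrix (Fin m ⊕ Fin m) (Fin m ⊕ Fin m) F) *
        (h : Matrix (Fin m ⊕ Fin m) (Fin m ⊕ Fin m) F) := rfl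
  rw [this, Matrix.toLin'_mul]
  exact Submodule.map_comp _ _ U

theorem isCompl_map_sp (g : symplecticGroup (Fin m) F) {U W : Submodule F (Fin m ⊕ Fin m → F)}
    (hc : IsCompl U W) :
    IsCompl (U.map (Matrix.toLin' (g : Matrix (Fin m ⊕ Fin m) (Fin m ⊕ Fin m) F)))
      (W.map (Matrix.toLin' (g : Matrix (Fin m ⊕ Fin m) (Fin m ⊕ Fin m) F))) := by
  rw [← spEquiv_toLinearMap]
  exact (Submodule.orderIsoMapComap (spEquiv g)).isCompl hc

theorem finrank_map_sp (g : symplecticGroup (Fin m) F) (U : Submodule F (Fin m ⊕ Fin m → F)) :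
    finrank F (U.map (Matrix.toLin' (g : Matrix (Fin m ⊕ Fin m) (Fin m ⊕ Fin m) F))) =
      finrank F U := by
  rw [← spEquiv_toLinearMap]
  exact LinearEquiv.finrank_map_eq (spEquiv g) U

theorem ti_map_sp (g : symplecticGroup (Fin m) F) {U : Submodule F (Fin m ⊕ Fin m → F)}
    (hU : ∀ u ∈ U, ∀ v ∈ U, sympForm m F u v = 0) :
    ∀ u ∈ U.map (Matrix.toLin' (g : Matrix (Fin m ⊕ Fin m) (Fin m ⊕ Fin m) F)),
      ∀ v ∈ U.map (Matrix.toLin' (g : Matrix (Fin m ⊕ Fin m) (Fin m ⊕ Fin m) F)),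
        sympForm m F u v = 0 := by
  rintro _ ⟨u, hu, rfl⟩ _ ⟨v, hv, rfl⟩
  rw [Matrix.toLin'_apply, Matrix.toLin'_apply, sympForm_of_mem m g.2]
  exact hU u hu v hv

/-- two pairs of complements, one contained in the other, are equal -/
theorem eq_of_isCompl_of_le {V : Type*} [AddCommGroup V] [Module F V] {A B A' B' : Submodule F V}
    (h : IsCompl A B) (h' : IsCompl A' B') (hA : A ≤ A') (hB : B ≤ B') : A = A' := by
  apply le_antisymm hA
  intro x hx
  have hx' : x ∈ A ⊔ B := by rw [h.sup_eq_top]; exact Submodule.mem_top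
  obtain ⟨a, ha, b, hb, rfl⟩ := Submodule.mem_sup.1 hx'
  have hb' : b ∈ A' ⊓ B' := by
    refine Submodule.mem_inf.2 ⟨?_, hB hb⟩
    have : b = a + b - a := by abel
    rw [this]
    exact A'.sub_mem hx (hA ha)
  rw [h'.inf_eq_bot, Submodule.mem_bot] at hb'
  rw [hb', add_zero]
  exact ha

end Cfsg.Agent.Lib.Helper8.Polar
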