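import Mathlib
import Cfsg.Agent.Lib.Helper8.PolarB
import Cfsg.Agent.H9.SpLagD
import Cfsg.Agent.H2.LargePrimeSylowSp

/-!
# The symplectic group is transitive on polar pairs, with stabilizer `GL_m(q)` (helper8)
-/

set_option autoImplicit false
set_option linter.unusedSectionVars false
set_option linter.style.haveILetI false
set_option warn.classDefReducibility false

namespace Cfsg.Agent.Lib.Helper8.Polar

open Module Matrix Cfsg Cfsg.Agent.Lib.Helper5.Symp Cfsg.Agent.Lib.Helper8.SpSS
  Cfsg.Agent.H2.LargePrimeSylowSp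

variable {F : Type*} [Field F] {m : ℕ}

/-- vectors supported on the `inl` coordinates -/
def lagL (F : Type*) [Field F] (m : ℕ) : Submodule F (Fin m ⊕ Fin m → F) where
  carrier := {v | ∀ i, v (Sum.inr i) = 0}
  add_mem' := by
    intro a b ha hb i
    rw [Pi.add_apply, ha i, hb i, add_zero]
  zero_mem' := by
    intro i
    rfl
  smul_mem' := by
    intro c a ha i
    rw [Pi.smul_apply, ha i, smul_zero]

/-- vectors supported on the `inr` coordinates -/
def lagR (F : Type*) [Field F] (m : ℕ) : Submodule F (Fin m ⊕ Fin m → F) where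
  carrier := {v | ∀ i, v (Sum.inl i) = 0}
  add_mem' := by
    intro a b ha hb i
    rw [Pi.add_apply, ha i, hb i, add_zero]
  zero_mem' := by
    intro i
    rfl
  smul_mem' := by
    intro c a ha i
    rw [Pi.smul_apply, ha i, smul_zero]

theorem mem_lagL {v : Fin m ⊕ Fin m → F} : v ∈ lagL F m ↔ ∀ i, v (Sum.inr i) = 0 := Iff.rfl

theorem mem_lagR {v : Fin m ⊕ Fin m → F} : v ∈ lagR F m ↔ ∀ i, v (Sum.inl i) = 0 := Iff.rfl

theorem isCompl_lag : IsCompl (lagR F m) (lagL F m) := by
  constructor
  · rw [Submodule.disjoint_def]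
    intro x hR hL
    funext y
    rcases y with i | i
    · exact hR i
    · exact hL i
  · rw [Submodule.codisjoint_iff_exists_add_eq]
    intro v
    refine ⟨Sum.elim (fun _ => 0) (fun i => v (Sum.inr i)), Sum.elim (fun i => v (Sum.inl i))
      (fun _ => 0), fun i => rfl, fun i => rfl, ?_⟩
    funext y
    rcases y with i | i
    · simp
    · simp

theorem lagL_ti : ∀ u ∈ lagL F m, ∀ v ∈ lagL F m, sympForm m F u v = 0 := by
  intro u hu v hv
  rw [sympForm_eq_sum]
  apply Finset.sum_eq_zero
  intro i _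
  rw [hu i, hv i]
  ring

theorem lagR_ti : ∀ u ∈ lagR F m, ∀ v ∈ lagR F m, sympForm m F u v = 0 := by
  intro u hu v hv
  rw [sympForm_eq_sum]
  apply Finset.sum_eq_zero
  intro i _
  rw [hu i, hv i]
  ring

/-- the set of ordered polar pairs -/
abbrev PolarSet (F : Type*) [Field F] (m : ℕ) : Type _ :=
  {P : Submodule F (Fin m ⊕ Fin m → F) × Submodule F (Fin m ⊕ Fin m → F) //
    IsCompl P.1 P.2 ∧ (∀ u ∈ P.1, ∀ v ∈ P.1, Cfsg.sympForm m F u v = 0) ∧
      (∀ u ∈ P.2, ∀ v ∈ P.2, Cfsg.sympForm m F u v = 0)}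

/-- the standard polar pair -/
def stdPair (F : Type*) [Field F] (m : ℕ) : PolarSet F m :=
  ⟨(lagR F m, lagL F m), isCompl_lag, lagR_ti, lagL_ti⟩

/-- the action of the symplectic group on polar pairs -/
def polarAction (F : Type*) [Field F] (m : ℕ) :
    MulAction ↥(symplecticGroup (Fin m) F) (PolarSet F m) where
  smul g Q := ⟨(Q.1.1.map (Matrix.toLin' (g : Matrix (Fin m ⊕ Fin m) (Fin m ⊕ Fin m) F)),
      Q.1.2.map (Matrix.toLin' (g : Matrix (Fin m ⊕ Fin m) (Fin m ⊕ Fin m) F))),
    isCompl_map_sp g Q.2.1, ti_map_sp g Q.2.2.1, ti_map_sp g Q.2.2.2⟩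
  one_smul _ := Subtype.ext (Prod.ext (map_one_sp _) (map_one_sp _))
  mul_smul g h _ := Subtype.ext (Prod.ext (map_mul_sp g h _) (map_mul_sp g h _))

/-- totally isotropic complements have the same dimension -/
theorem finrank_le_of_ti {U W : Submodule F (Fin m ⊕ Fin m → F)} (hc : IsCompl U W)
    (hU : ∀ u ∈ U, ∀ v ∈ U, sympForm m F u v = 0) : finrank F U ≤ finrank F W := by
  let Φ : U →ₗ[F] W →ₗ[F] F := (stdForm F m).compl₁₂ U.subtype W.subtype
  have hΦ : ∀ (u : U) (w : W), Φ u w = sympForm m F (u : Fin m ⊕ Fin m → F) w := by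
    intro u w
    change stdForm F m _ _ = _
    rw [stdForm_apply]
    rfl
  have hinj : Function.Injective Φ := by
    rw [← LinearMap.ker_eq_bot, Submodule.eq_bot_iff]
    intro u hu
    rw [LinearMap.mem_ker] at hu
    by_contra hu0
    have hu0' : (u : Fin m ⊕ Fin m → F) ≠ 0 := fun h => hu0 (Subtype.ext h)
    obtain ⟨y, hy⟩ := exists_sympForm_ne_zero m hu0'
    apply hy
    have hy' : y ∈ U ⊔ W := by rw [hc.sup_eq_top]; exact Submodule.mem_top
    obtain ⟨a, ha, b, hb, rfl⟩ := Submodule.mem_sup.1 hy'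
    rw [sympForm_add_right, hU u u.2 a ha, zero_add, ← hΦ u ⟨b, hb⟩, hu]
    rfl
  have := LinearMap.finrank_le_finrank_of_injective hinj
  rwa [Subspace.dual_finrank_eq] at this

theorem finrank_of_polar {U W : Submodule F (Fin m ⊕ Fin m → F)} (hc : IsCompl U W)
    (hU : ∀ u ∈ U, ∀ v ∈ U, sympForm m F u v = 0) (hW : ∀ u ∈ W, ∀ v ∈ W, sympForm m F u v = 0) :
    finrank F U = m ∧ finrank F W = m := by
  have h1 := finrank_le_of_ti hc hU
  have h2 := finrank_le_of_ti hc.symm hW
  have h3 := Submodule.finrank_add_eq_of_isCompl hc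
  rw [Module.finrank_fintype_fun_eq_card, Fintype.card_sum, Fintype.card_fin] at h3
  constructor <;> omega

/-- transitivity: every polar pair is the image of the standard one -/
theorem exists_sp_map (hm : 0 < m) (P : PolarSet F m) :
    ∃ g : symplecticGroup (Fin m) F,
      (lagR F m).map (Matrix.toLin' (g : Matrix (Fin m ⊕ Fin m) (Fin m ⊕ Fin m) F)) = P.1.1 ∧
      (lagL F m).map (Matrix.toLin' (g : Matrix (Fin m ⊕ Fin m) (Fin m ⊕ Fin m) F)) = P.1.2 := by
  obtain ⟨⟨U, W⟩, hc, hU, hW⟩ := P
  simp only at hc hU hW ⊢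
  obtain ⟨hdU, hdW⟩ := finrank_of_polar hc hU hW
  set D : Fin 2 → Submodule F (Fin m ⊕ Fin m → F) := ![U, W] with hDdef
  have hD : Cfsg.Geo.IsMDecomposition m D := by
    refine ⟨le_rfl, hm, ?_, ?_, ?_⟩
    · intro i
      fin_cases i
      · exact hdU
      · exact hdW
    · rw [iSupIndep_def, Fin.forall_fin_two]
      constructor
      · have : (⨆ j, ⨆ (_ : j ≠ (0 : Fin 2)), D j) = W := by
          apply le_antisymm
          · apply iSup_le
            intro j
            apply iSup_le
            intro hj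
            fin_cases j
            · exact absurd rfl hj
            · exact le_rfl
          · exact le_iSup₂_of_le (1 : Fin 2) (by decide) le_rfl
        change Disjoint U _
        rw [this]
        exact hc.disjoint
      · have : (⨆ j, ⨆ (_ : j ≠ (1 : Fin 2)), D j) = U := by
          apply le_antisymm
          · apply iSup_le
            intro j
            apply iSup_le
            intro hj
            fin_cases j
            · exact le_rfl
            · exact absurd rfl hj
          · exact le_iSup₂_of_le (0 : Fin 2) (by decide) le_rfl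
        change Disjoint W _
        rw [this]
        exact hc.disjoint.symm
    · apply le_antisymm le_top
      rw [← hc.sup_eq_top]
      exact sup_le (le_iSup D 0) (le_iSup D 1)
  have hts : ∀ i, Cfsg.Geo.IsTotallySingularFor (Cfsg.sympForm m F) (D i) := by
    intro i
    fin_cases i
    · exact hU
    · exact hW
  obtain ⟨bU, bW, hdual⟩ := Cfsg.Agent.H9.SpLag.exists_dual_bases m D hD hts
  set w : Fin m ⊕ Fin m → (Fin m ⊕ Fin m → F) :=
    Sum.elim (fun i => (bW i : Fin m ⊕ Fin m → F)) (fun i => (bU i : Fin m ⊕ Fin m → F)) with hw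
  have hbU : ∀ i, (bU i : Fin m ⊕ Fin m → F) ∈ U := fun i => (bU i).2
  have hbW : ∀ i, (bW i : Fin m ⊕ Fin m → F) ∈ W := fun i => (bW i).2
  have hform : ∀ x y, sympForm m F (w x) (w y) = J (Fin m) F x y := by
    intro x y
    rcases x with i | i <;> rcases y with j | j
    · simp only [hw, Sum.elim_inl, J, Matrix.fromBlocks_apply₁₁, Matrix.zero_apply]
      exact hW _ (hbW i) _ (hbW j)
    · simp only [hw, Sum.elim_inl, Sum.elim_inr, J, Matrix.fromBlocks_apply₁₂, Matrix.neg_apply,
        Matrix.one_apply]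
      rw [sympForm_swap, hdual j i]
      simp only [eq_comm]
    · simp only [hw, Sum.elim_inl, Sum.elim_inr, J, Matrix.fromBlocks_apply₂₁, Matrix.one_apply]
      exact hdual i j
    · simp only [hw, Sum.elim_inr, J, Matrix.fromBlocks_apply₂₂, Matrix.zero_apply]
      exact hU _ (hbU i) _ (hbU j)
  set g : symplecticGroup (Fin m) F := ⟨colMatrix w, colMatrix_mem w hform⟩ with hg
  have h1 : (lagR F m).map (Matrix.toLin' (g : Matrix (Fin m ⊕ Fin m) (Fin m ⊕ Fin m) F)) ≤ U := by
    rintro _ ⟨v, hv, rfl⟩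
    rw [Matrix.toLin'_apply]
    change colMatrix w *ᵥ v ∈ U
    rw [colMatrix_mulVec, Fintype.sum_sum_type]
    apply U.add_mem
    · apply U.sum_mem
      intro i _
      rw [hv i, zero_smul]
      exact U.zero_mem
    · apply U.sum_mem
      intro i _
      exact U.smul_mem _ (hbU i)
  have h2 : (lagL F m).map (Matrix.toLin' (g : Matrix (Fin m ⊕ Fin m) (Fin m ⊕ Fin m) F)) ≤ W := by
    rintro _ ⟨v, hv, rfl⟩
    rw [Matrix.toLin'_apply]
    change colMatrix w *ᵥ v ∈ W
    rw [colMatrix_mulVec, Fintype.sum_sum_type]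
    apply W.add_mem
    · apply W.sum_mem
      intro i _
      exact W.smul_mem _ (hbW i)
    · apply W.sum_mem
      intro i _
      rw [hv i, zero_smul]
      exact W.zero_mem
  have hc' := isCompl_map_sp g (isCompl_lag (F := F) (m := m))
  exact ⟨g, eq_of_isCompl_of_le hc' hc h1 h2, eq_of_isCompl_of_le hc'.symm hc.symm h2 h1⟩

end Cfsg.Agent.Lib.Helper8.Polar
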