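import Mathlib
import Cfsg.Agent.Lib.Helper8.PolarC

/-!
# The number of polar pairs (helper8)
-/

set_option autoImplicit false
set_option linter.unusedSectionVars false
set_option linter.style.haveILetI false
set_option warn.classDefReducibility false

namespace Cfsg.Agent.Lib.Helper8.Polar

open Module Matrix Cfsg Cfsg.Agent.Lib.Helper5.Symp Cfsg.Agent.Lib.Helper8.SpSS
  Cfsg.Agent.H2.LargePrimeSylowSp

variable {F : Type*} [Field F] {m : ℕ}

theorem glToSp_coe (A : GL (Fin m) F) :
    ((glToSp m A : symplecticGroup (Fin m) F) : Matrix (Fin m ⊕ Fin m) (Fin m ⊕ Fin m) F) =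
      Matrix.fromBlocks (A : Matrix (Fin m) (Fin m) F) 0 0
        ((A⁻¹ : GL (Fin m) F) : Matrix (Fin m) (Fin m) F).transpose := rfl

/-- block diagonal symplectic matrices fix the standard polar pair -/
theorem glToSp_map (A : GL (Fin m) F) :
    (lagR F m).map (Matrix.toLin'
      ((glToSp m A : symplecticGroup (Fin m) F) : Matrix (Fin m ⊕ Fin m) (Fin m ⊕ Fin m) F)) =
        lagR F m ∧
    (lagL F m).map (Matrix.toLin'
      ((glToSp m A : symplecticGroup (Fin m) F) : Matrix (Fin m ⊕ Fin m) (Fin m ⊕ Fin m) F)) =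
        lagL F m := by
  constructor
  · apply Submodule.eq_of_le_of_finrank_eq
    · rintro _ ⟨v, hv, rfl⟩
      rw [Matrix.toLin'_apply, glToSp_coe]
      intro i
      simp only [Matrix.mulVec, dotProduct, Fintype.sum_sum_type, Matrix.fromBlocks_apply₁₁,
        Matrix.fromBlocks_apply₁₂, Matrix.zero_apply, zero_mul, Finset.sum_const_zero, add_zero]
      apply Finset.sum_eq_zero
      intro j _
      rw [hv j, mul_zero]
    · exact finrank_map_sp _ _
  · apply Submodule.eq_of_le_of_finrank_eq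
    · rintro _ ⟨v, hv, rfl⟩
      rw [Matrix.toLin'_apply, glToSp_coe]
      intro i
      simp only [Matrix.mulVec, dotProduct, Fintype.sum_sum_type, Matrix.fromBlocks_apply₂₁,
        Matrix.fromBlocks_apply₂₂, Matrix.zero_apply, zero_mul, Finset.sum_const_zero, zero_add]
      apply Finset.sum_eq_zero
      intro j _
      rw [hv j, mul_zero]
    · exact finrank_map_sp _ _

/-- a symplectic matrix fixing the standard polar pair is block diagonal -/
theorem exists_gl_of_map (g : symplecticGroup (Fin m) F)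
    (hR : (lagR F m).map (Matrix.toLin' (g : Matrix (Fin m ⊕ Fin m) (Fin m ⊕ Fin m) F)) =
      lagR F m)
    (hL : (lagL F m).map (Matrix.toLin' (g : Matrix (Fin m ⊕ Fin m) (Fin m ⊕ Fin m) F)) =
      lagL F m) : ∃ A : GL (Fin m) F, glToSp m A = g := by
  set M : Matrix (Fin m ⊕ Fin m) (Fin m ⊕ Fin m) F :=
    (g : Matrix (Fin m ⊕ Fin m) (Fin m ⊕ Fin m) F) with hM
  have h12 : M.toBlocks₁₂ = 0 := by
    ext i j
    have h1 : Matrix.toLin' M (Pi.single (Sum.inr j) 1) ∈ lagR F m := by
      rw [← hR]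
      refine Submodule.mem_map_of_mem ?_
      intro k
      simp
    have h2 := h1 i
    rw [Matrix.toLin'_apply, Matrix.mulVec_single_one] at h2
    exact h2
  have h21 : M.toBlocks₂₁ = 0 := by
    ext i j
    have h1 : Matrix.toLin' M (Pi.single (Sum.inl j) 1) ∈ lagL F m := by
      rw [← hL]
      refine Submodule.mem_map_of_mem ?_
      intro k
      simp
    have h2 := h1 i
    rw [Matrix.toLin'_apply, Matrix.mulVec_single_one] at h2
    exact h2
  have hMeq : M = Matrix.fromBlocks M.toBlocks₁₁ 0 0 M.toBlocks₂₂ := by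
    conv_lhs => rw [← Matrix.fromBlocks_toBlocks M, h12, h21]
  have hmem : M * J (Fin m) F * Mᵀ = J (Fin m) F := SymplecticGroup.mem_iff.1 g.2
  rw [hMeq, J, Matrix.fromBlocks_transpose, Matrix.fromBlocks_multiply,
    Matrix.fromBlocks_multiply] at hmem
  simp only [Matrix.mul_zero, Matrix.zero_mul, add_zero, zero_add, Matrix.transpose_zero,
    Matrix.mul_one, Matrix.mul_neg] at hmem
  have h3 := congrArg Matrix.toBlocks₂₁ hmem
  rw [Matrix.toBlocks_fromBlocks₂₁, Matrix.toBlocks_fromBlocks₂₁] at h3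
  -- `h3 : M₂₂ * M₁₁ᵀ = 1`
  have h4 : M.toBlocks₁₁ * M.toBlocks₂₂ᵀ = 1 := by
    have := congrArg Matrix.transpose h3
    rwa [Matrix.transpose_mul, Matrix.transpose_transpose, Matrix.transpose_one] at this
  have h5 : M.toBlocks₂₂ᵀ * M.toBlocks₁₁ = 1 := mul_eq_one_comm.1 h4
  refine ⟨⟨M.toBlocks₁₁, M.toBlocks₂₂ᵀ, h4, h5⟩, ?_⟩
  apply Subtype.ext
  rw [glToSp_coe]
  change Matrix.fromBlocks M.toBlocks₁₁ 0 0 (M.toBlocks₂₂ᵀ)ᵀ = M
  rw [Matrix.transpose_transpose]
  exact hMeq.symm

section Count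

variable [Fintype F]

/-- orbit-stabilizer for the polar pairs -/
theorem card_polar (hm : 0 < m) :
    Nat.card (PolarSet F m) * Nat.card (GL (Fin m) F) =
      Nat.card ↥(symplecticGroup (Fin m) F) := by
  letI := polarAction F m
  have hsmul : ∀ (g : symplecticGroup (Fin m) F) (P : PolarSet F m),
      (g • P).1 = (P.1.1.map (Matrix.toLin' (g : Matrix (Fin m ⊕ Fin m) (Fin m ⊕ Fin m) F)),
        P.1.2.map (Matrix.toLin' (g : Matrix (Fin m ⊕ Fin m) (Fin m ⊕ Fin m) F))) :=
    fun g P => rfl
  have hbase : ∀ P : PolarSet F m, ∃ g : symplecticGroup (Fin m) F, g • stdPair F m = P := by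
    intro P
    obtain ⟨g, h1, h2⟩ := exists_sp_map hm P
    refine ⟨g, Subtype.ext ?_⟩
    rw [hsmul]
    exact Prod.ext h1 h2
  haveI : MulAction.IsPretransitive ↥(symplecticGroup (Fin m) F) (PolarSet F m) := by
    constructor
    intro P Q
    obtain ⟨g, hg⟩ := hbase P
    obtain ⟨h, hh⟩ := hbase Q
    refine ⟨h * g⁻¹, ?_⟩
    rw [← hg, mul_smul, inv_smul_smul, hh]
  have hstab : MulAction.stabilizer ↥(symplecticGroup (Fin m) F) (stdPair F m) =
      (glToSp (F := F) m).range := by
    ext g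
    rw [MulAction.mem_stabilizer_iff, MonoidHom.mem_range]
    constructor
    · intro h
      have h1 := congrArg Subtype.val h
      rw [hsmul] at h1
      exact exists_gl_of_map g (congrArg Prod.fst h1) (congrArg Prod.snd h1)
    · rintro ⟨A, rfl⟩
      apply Subtype.ext
      rw [hsmul]
      exact Prod.ext (glToSp_map A).1 (glToSp_map A).2
  have h1 := MulAction.index_stabilizer_of_transitive ↥(symplecticGroup (Fin m) F) (stdPair F m)
  have h2 := Subgroup.card_mul_index
    (MulAction.stabilizer ↥(symplecticGroup (Fin m) F) (stdPair F m))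
  rw [h1, hstab] at h2
  rw [← h2, mul_comm]
  congr 1
  exact Nat.card_congr (MonoidHom.ofInjective glToSp_injective).toEquiv

end Count

end Cfsg.Agent.Lib.Helper8.Polar
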