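import Mathlib
import Cfsg.Agent.Lib.Helper8.PolarD
import Cfsg.Agent.S0245

/-!
# Primes dividing the number of polar pairs (helper8)
-/

set_option autoImplicit false
set_option linter.unusedSectionVars false

namespace Cfsg.Agent.Lib.Helper8.Polar

open Module Matrix Cfsg

section Arith

theorem prod_pow_sub_pow (q m : ℕ) :
    ∏ i ∈ Finset.range m, (q ^ m - q ^ i) =
      (∏ i ∈ Finset.range m, q ^ i) * ∏ i ∈ Finset.range m, (q ^ (i + 1) - 1) := by
  rw [← Finset.prod_range_reflect (fun i => q ^ (i + 1) - 1) m, ← Finset.prod_mul_distrib]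
  apply Finset.prod_congr rfl
  intro i hi
  have hi' : i < m := Finset.mem_range.1 hi
  have h1 : m - 1 - i + 1 = m - i := by omega
  rw [h1, Nat.mul_sub, mul_one, ← pow_add]
  congr 2
  omega

theorem pow_two_mul_sub_one (q k : ℕ) : q ^ (2 * k) - 1 = (q ^ k - 1) * (q ^ k + 1) := by
  have h1 : 1 ≤ q ^ k ∨ q ^ k = 0 := by omega
  rcases h1 with h1 | h1
  · obtain ⟨a, ha⟩ : ∃ a, q ^ k = a + 1 := ⟨q ^ k - 1, by omega⟩
    rw [two_mul, pow_add, ha]
    simp only [Nat.add_sub_cancel]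
    have : (a + 1) * (a + 1) = a * (a + 1 + 1) + 1 := by ring
    rw [this, Nat.add_sub_cancel]
  · rw [two_mul, pow_add, h1]
    simp

end Arith

section Count

variable {F : Type*} [Field F] [Fintype F] {m : ℕ}

/-- the number of polar pairs -/
theorem card_polar_mul_eq {q : ℕ} (hq : Fintype.card F = q) (hm : 0 < m) :
    Nat.card (PolarSet F m) * (∏ i ∈ Finset.range m, q ^ i) =
      q ^ m ^ 2 * ∏ i ∈ Finset.range m, (q ^ (i + 1) + 1) := by
  have h1 := card_polar (F := F) hm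
  rw [Matrix.card_GL_field, Cfsg.Agent.S0245.result hq m, hq,
    Fin.prod_univ_eq_prod_range (fun i => q ^ m - q ^ i) m, prod_pow_sub_pow] at h1
  have h2 : ∏ i ∈ Finset.range m, (q ^ (2 * (i + 1)) - 1) =
      (∏ i ∈ Finset.range m, (q ^ (i + 1) - 1)) * ∏ i ∈ Finset.range m, (q ^ (i + 1) + 1) := by
    rw [← Finset.prod_mul_distrib]
    apply Finset.prod_congr rfl
    intro i _
    exact pow_two_mul_sub_one q (i + 1)
  rw [h2] at h1
  have hq2 : 2 ≤ q := by rw [← hq]; exact Fintype.one_lt_card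
  have hP : 0 < ∏ i ∈ Finset.range m, (q ^ (i + 1) - 1) := by
    apply Finset.prod_pos
    intro i _
    have : 2 ≤ q ^ (i + 1) := by
      calc 2 ≤ q := hq2
        _ = q ^ 1 := (pow_one q).symm
        _ ≤ q ^ (i + 1) := Nat.pow_le_pow_right (by omega) (by omega)
    omega
  apply Nat.eq_of_mul_eq_mul_right hP
  rw [mul_assoc, h1]
  ring

/-- a prime `r ≠ p` dividing the number of polar pairs divides some `q ^ j + 1`, `j ≤ m` -/
theorem exists_dvd_pow_add_one (p : ℕ) [Fact p.Prime] [CharP F p] {q : ℕ}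
    (hq : Fintype.card F = q) (hm : 0 < m) {r : ℕ} (hr : r.Prime) (hrp : r ≠ p)
    (hdvd : r ∣ Nat.card (PolarSet F m)) : ∃ j, 1 ≤ j ∧ j ≤ m ∧ r ∣ q ^ j + 1 := by
  have h3 := card_polar_mul_eq (F := F) hq hm
  have h4 : r ∣ q ^ m ^ 2 * ∏ i ∈ Finset.range m, (q ^ (i + 1) + 1) := by
    rw [← h3]
    exact Dvd.dvd.mul_right hdvd _
  rcases (Nat.Prime.dvd_mul hr).1 h4 with h5 | h5
  · exfalso
    have h6 := hr.dvd_of_dvd_pow h5
    obtain ⟨f, _, hf⟩ := FiniteField.card F p
    rw [← hq, hf] at h6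
    exact hrp ((Nat.prime_dvd_prime_iff_eq hr (Fact.out : p.Prime)).1 (hr.dvd_of_dvd_pow h6))
  · obtain ⟨i, hi, hri⟩ := (Prime.dvd_finsetProd_iff (Nat.Prime.prime hr) _).1 h5
    exact ⟨i + 1, by omega, by have := Finset.mem_range.1 hi; omega, hri⟩

/-- for `q` odd the number of polar pairs is even -/
theorem even_card_polar {q : ℕ} (hq : Fintype.card F = q) (hm : 0 < m) (hodd : Odd q) :
    2 ∣ Nat.card (PolarSet F m) := by
  have h3 := card_polar_mul_eq (F := F) hq hm
  have h4 : 2 ∣ Nat.card (PolarSet F m) * (∏ i ∈ Finset.range m, q ^ i) := by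
    rw [h3]
    apply Dvd.dvd.mul_left
    apply Dvd.dvd.trans _ (Finset.dvd_prod_of_mem _ (Finset.mem_range.2 hm))
    rw [zero_add, pow_one]
    obtain ⟨k, hk⟩ := hodd
    exact ⟨k + 1, by omega⟩
  rcases (Nat.Prime.dvd_mul Nat.prime_two).1 h4 with h5 | h5
  · exact h5
  · exfalso
    have h6 : Odd (∏ i ∈ Finset.range m, q ^ i) :=
      Finset.prod_induction _ Odd (fun a b ha hb => ha.mul hb) odd_one (fun i _ => hodd.pow)
    rw [← Nat.not_even_iff_odd] at h6
    exact h6 (even_iff_two_dvd.2 h5)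

end Count

section Order

/-- if `r ∣ q ^ j + 1` with `r` odd, the order of `q` modulo `r` is even and at most `2 j` -/
theorem even_orderOf_of_dvd {q r j : ℕ} [hr : Fact r.Prime] (hr2 : r ≠ 2) (hj : 1 ≤ j)
    (hdvd : r ∣ q ^ j + 1) :
    Even (orderOf (q : ZMod r)) ∧ orderOf (q : ZMod r) ≤ 2 * j ∧ 0 < orderOf (q : ZMod r) := by
  have h1 : (q : ZMod r) ^ j = -1 := by
    have := (ZMod.natCast_eq_zero_iff (q ^ j + 1) r).2 hdvd
    push_cast at this
    exact eq_neg_of_add_eq_zero_left this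
  have h2 : (q : ZMod r) ^ (2 * j) = 1 := by
    rw [mul_comm, pow_mul, h1]
    ring
  have h3 : orderOf (q : ZMod r) ∣ 2 * j := orderOf_dvd_of_pow_eq_one h2
  have h4 : ¬ orderOf (q : ZMod r) ∣ j := by
    intro h
    have h5 := orderOf_dvd_iff_pow_eq_one.1 h
    rw [h1] at h5
    have h6 : ((2 : ℕ) : ZMod r) = 0 := by
      have : (1 : ZMod r) + 1 = 0 := by
        nth_rewrite 1 [← h5]
        ring
      push_cast
      rw [← this]
      ring
    have h7 := (ZMod.natCast_eq_zero_iff 2 r).1 h6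
    exact hr2 ((Nat.prime_dvd_prime_iff_eq hr.out Nat.prime_two).1 h7)
  have hpos : 0 < orderOf (q : ZMod r) := by
    rcases Nat.eq_zero_or_pos (orderOf (q : ZMod r)) with h | h
    · rw [h, zero_dvd_iff] at h3
      omega
    · exact h
  refine ⟨?_, Nat.le_of_dvd (by omega) h3, hpos⟩
  by_contra hodd
  have hodd' : Odd (orderOf (q : ZMod r)) := Nat.not_even_iff_odd.1 hodd
  have hcop : Nat.Coprime (orderOf (q : ZMod r)) 2 := (Nat.coprime_two_left.2 hodd').symm
  exact h4 (Nat.Coprime.dvd_of_dvd_mul_left hcop h3)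

end Order

end Cfsg.Agent.Lib.Helper8.Polar
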