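import Mathlib

/-!
# The rank of a matrix with polynomial entries (helper8)

* `exists_mul_mul_eq_one`: a matrix of rank `r` over a field has an `r × r` "minor" `P * B * Q = 1`.
* `exists_generic_rank`: for `A : Matrix m n K[X]` there are `R` and a finite set `Z` such that the
  specialisations `A(t)` have rank `≤ R` for all `t` and rank `= R` for `t ∉ Z`.
* `rank_eq_of_range_eq_ker`: if `M(t) * C(t) = 0` identically and `rank C + rank M` is the full
  dimension at `t = a` and at `t = b`, then `rank M(a) = rank M(b)` and `rank C(a) = rank C(b)`.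
-/

set_option autoImplicit false

namespace Cfsg.Agent.Lib.Helper8.PolyRank

open Matrix Polynomial

variable {K : Type*} [Field K] {m n l : Type*} [Fintype m] [Fintype n] [Fintype l]
  [DecidableEq m] [DecidableEq n] [DecidableEq l]

/-- a matrix of rank `r` has an invertible `r × r` compression -/
theorem exists_mul_mul_eq_one (B : Matrix m n K) :
    ∃ (P : Matrix (Fin B.rank) m K) (Q : Matrix n (Fin B.rank) K), P * B * Q = 1 := by
  classical
  set f := B.mulVecLin with hf
  have hr : Module.finrank K (LinearMap.range f) = B.rank := rfl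
  let b : Module.Basis (Fin B.rank) K (LinearMap.range f) := Module.finBasisOfFinrankEq K _ hr
  have hv : ∀ i, ∃ v : n → K, f v = (b i : m → K) := fun i => (b i).2
  choose v hv' using hv
  let g : (Fin B.rank → K) →ₗ[K] (n → K) := (Pi.basisFun K (Fin B.rank)).constr K v
  have hg : ∀ i, f (g (Pi.basisFun K (Fin B.rank) i)) = (b i : m → K) := by
    intro i
    rw [Module.Basis.constr_basis, hv']
  have hinj : LinearMap.ker (f.comp g) = ⊥ := by
    have e : f.comp g = (LinearMap.range f).subtype.comp (b.equivFun.symm : (Fin B.rank → K) →ₗ[K] _) := by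
      apply (Pi.basisFun K (Fin B.rank)).ext
      intro i
      rw [LinearMap.comp_apply, hg, LinearMap.comp_apply]
      simp
    rw [e, LinearMap.ker_comp_of_ker_eq_bot _ (Submodule.ker_subtype _)]
    exact LinearEquiv.ker _
  obtain ⟨h, hh⟩ := LinearMap.exists_leftInverse_of_injective (f.comp g) hinj
  refine ⟨LinearMap.toMatrix' h, LinearMap.toMatrix' g, ?_⟩
  have hB : LinearMap.toMatrix' f = B := by
    rw [hf, ← Matrix.toLin'_apply', LinearMap.toMatrix'_toLin']
  have e : LinearMap.toMatrix' h * LinearMap.toMatrix' f * LinearMap.toMatrix' g = 1 := by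
    rw [← LinearMap.toMatrix'_comp, ← LinearMap.toMatrix'_comp, LinearMap.comp_assoc, hh,
      LinearMap.toMatrix'_id]
  rwa [hB] at e

/-- the generic rank of a matrix with polynomial entries -/
theorem exists_generic_rank (A : Matrix m n K[X]) :
    ∃ (R : ℕ) (Z : Finset K), (∀ t : K, (A.map (eval t)).rank ≤ R) ∧
      ∀ t : K, t ∉ Z → (A.map (eval t)).rank = R := by
  classical
  -- the maximal rank
  have hbdd : ∀ t : K, (A.map (eval t)).rank ≤ Fintype.card n := fun t => rank_le_card_width _
  set S : Set ℕ := Set.range fun t : K => (A.map (eval t)).rank with hS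
  have hSne : S.Nonempty := ⟨_, ⟨0, rfl⟩⟩
  have hSb : BddAbove S := ⟨Fintype.card n, by rintro _ ⟨t, rfl⟩; exact hbdd t⟩
  obtain ⟨t₀, ht₀'⟩ := Nat.sSup_mem hSne hSb
  have ht₀ : (A.map (eval t₀)).rank = sSup S := ht₀'
  have hle : ∀ t : K, (A.map (eval t)).rank ≤ (A.map (eval t₀)).rank := by
    intro t
    rw [ht₀]
    exact le_csSup hSb ⟨t, rfl⟩
  obtain ⟨P, Q, hPQ⟩ := exists_mul_mul_eq_one (A.map (eval t₀))
  set d : K[X] := ((P.map C) * A * (Q.map C)).det with hd
  have hev : ∀ t : K, eval t d = (P * A.map (eval t) * Q).det := by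
    intro t
    have h1 : eval t d = (evalRingHom t) d := rfl
    rw [h1, hd, RingHom.map_det, RingHom.mapMatrix_apply, Matrix.map_mul, Matrix.map_mul]
    congr 2
    · congr 1
      ext i j
      simp
    · ext i j
      simp
  have hd0 : d ≠ 0 := by
    intro h0
    have := hev t₀
    rw [h0, hPQ, det_one, eval_zero] at this
    exact zero_ne_one this
  refine ⟨(A.map (eval t₀)).rank, d.roots.toFinset, hle, fun t ht => ?_⟩
  apply le_antisymm (hle t)
  have hne : eval t d ≠ 0 := by
    intro h0
    apply ht
    rw [Multiset.mem_toFinset, mem_roots hd0]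
    exact h0
  rw [hev] at hne
  have h1 : (P * A.map (eval t) * Q).rank = (A.map (eval t₀)).rank := by
    rw [rank_of_det_ne_zero hne, Fintype.card_fin]
  calc (A.map (eval t₀)).rank = (P * A.map (eval t) * Q).rank := h1.symm
    _ ≤ (P * A.map (eval t)).rank := rank_mul_le_left _ _
    _ ≤ (A.map (eval t)).rank := rank_mul_le_right _ _

/-- If `M(t) * C(t) = 0` identically and the image of `C` is the kernel of `M` (as a count of
dimensions) at `t = a` and at `t = b`, then the ranks at `a` and at `b` coincide. -/
theorem rank_eq_of_range_eq_ker [Infinite K] (M : Matrix l m K[X]) (C : Matrix m n K[X])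
    (hMC : M * C = 0) (a b : K)
    (ha : (C.map (eval a)).rank + (M.map (eval a)).rank = Fintype.card m)
    (hb : (C.map (eval b)).rank + (M.map (eval b)).rank = Fintype.card m) :
    (M.map (eval a)).rank = (M.map (eval b)).rank ∧
      (C.map (eval a)).rank = (C.map (eval b)).rank := by
  classical
  obtain ⟨RM, ZM, hM1, hM2⟩ := exists_generic_rank M
  obtain ⟨RC, ZC, hC1, hC2⟩ := exists_generic_rank C
  obtain ⟨t, ht⟩ := Infinite.exists_notMem_finset (ZM ∪ ZC)
  rw [Finset.mem_union, not_or] at ht
  have hzero : M.map (eval t) * C.map (eval t) = 0 := by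
    have this : (M * C).map (eval t) = (0 : Matrix l n K[X]).map (eval t) :=
      congrArg (fun X : Matrix l n K[X] => X.map (eval t)) hMC
    have h2 : (M * C).map (eval t) = M.map (eval t) * C.map (eval t) :=
      Matrix.map_mul (f := evalRingHom t)
    rw [h2] at this
    rw [this]
    exact Matrix.map_zero _ eval_zero
  have hsum := rank_add_rank_le_card_of_mul_eq_zero hzero
  rw [hM2 t ht.1, hC2 t ht.2] at hsum
  have h1 := hM1 a
  have h2 := hC1 a
  have h3 := hM1 b
  have h4 := hC1 b
  constructor <;> omega

end Cfsg.Agent.Lib.Helper8.PolyRank
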