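import Mathlib
import Cfsg.Agent.Lib.Helper8.PrimeOrdH

/-!
# Classes of elements of prime order `r ≠ p` in `Sp_{2m}(q)`: the bijection with symmetric
multiplicity functions (helper8)
-/

set_option autoImplicit false
set_option linter.unusedSectionVars false

namespace Cfsg.Agent.Lib.Helper8.PrimeOrd

open Polynomial Matrix Cfsg Cfsg.Agent.Lib.Helper8.SelfRec Cfsg.Agent.Lib.Helper8.SpCount

universe u

variable {F : Type u} [Field F] [Fintype F] [DecidableEq F] {r : ℕ} [hr : Fact r.Prime] {m : ℕ}

local notation "Mat" => Matrix (Fin m ⊕ Fin m) (Fin m ⊕ Fin m) F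

/-- existence of an element of order `r` with prescribed multiplicities -/
theorem exists_sp_of_mult (p : ℕ) [Fact p.Prime] [CharP F p] (hr2 : r ≠ 2) (i : ℕ)
    (hdeg : ∀ j : ↥(cycFactors F r), (PP F r j).natDegree = i) (hrF : (r : F) ≠ 0)
    (e : ↥(cycFactors F r) → ℕ)
    (he : e ∘ sIdx (RingHom.id F) (fun _ => rfl) hrF = e) (hle : i * ∑ j, e j ≤ 2 * m)
    (hne : e ≠ 0) :
    ∃ h : symplecticGroup (Fin m) F, orderOf h = r ∧
      (h : Mat).charpoly =
        fe (PPo F r) (fun o => Option.elim o (2 * m - i * ∑ j, e j) e) := by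
  have hrodd : Odd r := hr.out.odd_of_ne_two hr2
  set e₀ := 2 * m - i * ∑ j, e j with he₀
  set e' : Option ↥(cycFactors F r) → ℕ := fun o => Option.elim o e₀ e with he'
  set f := fe (PPo F r) e' with hf
  have hfe : f = (X - 1) ^ e₀ * fe (PP F r) e := by
    rw [hf, fe_PPo]
    rfl
  obtain ⟨hgrev, hgeven⟩ := fe_PP_pal hrF hrodd e he
  have hgdeg : (fe (PP F r) e).natDegree = i * ∑ j, e j := by
    rw [natDegree_fe isFam_PP, Finset.mul_sum]
    apply Finset.sum_congr rfl
    intro j _
    rw [hdeg, mul_comm]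
  have he₀even : Even e₀ := by
    rw [hgdeg] at hgeven
    rw [he₀]
    obtain ⟨a, ha⟩ := hgeven
    exact ⟨m - a, by omega⟩
  have hfm : f.Monic := fe_monic (isFam_PPo hrF) e'
  have hfdeg : f.natDegree = 2 * m := by
    rw [hf, natDegree_fe_PPo hrF i hdeg]
    simp only [he', Option.elim_none, Option.elim_some]
    omega
  have hfrev : f.reverse = f := by
    rw [hfe, reverse_mul_of_domain, reverse_X_sub_one_pow e₀ he₀even, hgrev]
  obtain ⟨g₀, hg₀⟩ := exists_sp_of_pal m f hfm hfdeg hfrev
  obtain ⟨h, hcop, hch⟩ := exists_coprime_same_charpoly p g₀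
  have hss := Cfsg.Agent.Lib.Helper8.SpSS.isSemisimple_of_orderOf_coprime p h hcop
  have hchf : (h : Mat).charpoly = f := by rw [hch, hg₀]
  have hpow : h ^ r = 1 := by
    apply Subtype.ext
    rw [SubmonoidClass.coe_pow]
    apply pow_eq_one_of_semisimple (h : Mat) hss r (∑ o, e' o)
    rw [hchf]
    exact fe_PPo_dvd e'
  have hne1 : h ≠ 1 := by
    intro h1
    apply hne
    have h2 : (h : Mat).charpoly = (X - 1) ^ Fintype.card (Fin m ⊕ Fin m) := by
      rw [h1]
      exact Matrix.charpoly_one
    rw [hchf, ← fe_PPo_single (F := F) (r := r)] at h2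
    have h3 := fe_injective (isFam_PPo hrF) h2
    funext j
    have := congrFun h3 (some j)
    simpa [he'] using this
  exact ⟨h, orderOf_eq_prime hpow hne1, hchf⟩

/-- the classes of elements of order `r` in `Sp_{2m}(q)` correspond to the non-zero symmetric
multiplicity functions -/
theorem sp_classes_card (p : ℕ) [Fact p.Prime] [CharP F p] (hrp : r ≠ p) (hr2 : r ≠ 2) (i : ℕ)
    (hipos : 0 < i) (hdeg : ∀ j : ↥(cycFactors F r), (PP F r j).natDegree = i)
    (hrF : (r : F) ≠ 0) :
    Nat.card {C : ConjClasses ↥(symplecticGroup (Fin m) F) //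
      ∃ g : symplecticGroup (Fin m) F, ConjClasses.mk g = C ∧ orderOf g = r} + 1 =
    Nat.card {e : ↥(cycFactors F r) → ℕ //
      e ∘ sIdx (RingHom.id F) (fun _ => rfl) hrF = e ∧ i * ∑ j, e j ≤ 2 * m} := by
  classical
  set s := sIdx (RingHom.id F) (fun _ => rfl) hrF with hs_def
  have hcop : r.Coprime p := (Nat.coprime_primes hr.out Fact.out).2 hrp
  let 𝒞 := {C : ConjClasses ↥(symplecticGroup (Fin m) F) //
      ∃ g : symplecticGroup (Fin m) F, ConjClasses.mk g = C ∧ orderOf g = r}
  let D₀ := {e : ↥(cycFactors F r) → ℕ // e ∘ s = e ∧ i * ∑ j, e j ≤ 2 * m}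
  let rep : 𝒞 → symplecticGroup (Fin m) F := fun c => Classical.choose c.2
  have hrep : ∀ c : 𝒞, ConjClasses.mk (rep c) = c.1 ∧ orderOf (rep c) = r :=
    fun c => Classical.choose_spec c.2
  have hreppow : ∀ c : 𝒞, (rep c) ^ r = 1 := fun c => by
    have := pow_orderOf_eq_one (rep c)
    rwa [(hrep c).2] at this
  have hss : ∀ c : 𝒞, Module.End.IsSemisimple (Matrix.toLin' ((rep c : symplecticGroup (Fin m) F) : Mat)) :=
    fun c => Cfsg.Agent.Lib.Helper8.SpSS.isSemisimple_of_orderOf_coprime p _
      (by rw [(hrep c).2]; exact hcop)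
  let E' : 𝒞 → (Option ↥(cycFactors F r) → ℕ) :=
    fun c => Classical.choose (exists_mult (rep c) (hreppow c))
  have hE' : ∀ c : 𝒞, ((rep c : symplecticGroup (Fin m) F) : Mat).charpoly =
      fe (PPo F r) (E' c) := fun c => Classical.choose_spec (exists_mult (rep c) (hreppow c))
  have hdegc : ∀ c : 𝒞, E' c none + i * ∑ j, E' c (some j) = 2 * m := by
    intro c
    rw [← natDegree_fe_PPo hrF i hdeg, ← hE' c, charpoly_natDegree]
  have hΦmem : ∀ c : 𝒞, (fun j => E' c (some j)) ∘ s = (fun j => E' c (some j)) ∧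
      i * ∑ j, E' c (some j) ≤ 2 * m := by
    intro c
    constructor
    · have := mult_symm hrF (rep c) (E' c) (hE' c)
      funext j
      exact congrFun this (some j)
    · have := hdegc c
      omega
  let z : D₀ := ⟨0, rfl, by simp⟩
  have hΦne : ∀ c : 𝒞, (⟨fun j => E' c (some j), hΦmem c⟩ : D₀) ≠ z := by
    intro c hz
    have h0 : ∀ j, E' c (some j) = 0 := by
      intro j
      have := congrArg (fun x : D₀ => x.1 j) hz
      exact this
    have h1 : ((rep c : symplecticGroup (Fin m) F) : Mat).charpoly = (X - 1) ^ (E' c none) := by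
      rw [hE' c, fe_PPo]
      have : (fun j => E' c (some j)) = (0 : ↥(cycFactors F r) → ℕ) := funext h0
      rw [this, fe_zero, mul_one]
    have h2 := eq_one_of_semisimple _ (hss c) (E' c none) (by rw [h1])
    have h3 : rep c = 1 := Subtype.ext h2
    have h4 := (hrep c).2
    rw [h3, orderOf_one] at h4
    exact hr.out.one_lt.ne h4
  let Φ : 𝒞 → {x : D₀ // x ≠ z} := fun c => ⟨⟨fun j => E' c (some j), hΦmem c⟩, hΦne c⟩
  have hinj : Function.Injective Φ := by
    intro c c' hcc
    have h1 : ∀ j, E' c (some j) = E' c' (some j) := by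
      intro j
      have := congrArg (fun x : {x : D₀ // x ≠ z} => x.1.1 j) hcc
      exact this
    have h2 : E' c = E' c' := by
      funext o
      cases o with
      | none =>
        have e1 := hdegc c
        have e2 := hdegc c'
        have : ∑ j, E' c (some j) = ∑ j, E' c' (some j) :=
          Finset.sum_congr rfl (fun j _ => h1 j)
        rw [this] at e1
        omega
      | some j => exact h1 j
    have hc : ((rep c : symplecticGroup (Fin m) F) : Mat).charpoly =
        ((rep c' : symplecticGroup (Fin m) F) : Mat).charpoly := by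
      rw [hE' c, hE' c', h2]
    have hconj := Cfsg.Agent.Lib.Helper8.SpSS.isConj_of_charpoly_eq (rep c) (rep c')
      (hss c) (hss c') hc
    apply Subtype.ext
    rw [← (hrep c).1, ← (hrep c').1]
    exact ConjClasses.mk_eq_mk_iff_isConj.2 hconj
  have hsurj : Function.Surjective Φ := by
    rintro ⟨⟨e, he, hle⟩, hne⟩
    have hne' : e ≠ 0 := by
      intro h0
      apply hne
      apply Subtype.ext
      exact h0
    obtain ⟨h, hord, hch⟩ := exists_sp_of_mult p hr2 i hdeg hrF e he hle hne'
    let c : 𝒞 := ⟨ConjClasses.mk h, h, rfl, hord⟩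
    refine ⟨c, ?_⟩
    have hconj : IsConj (rep c) h := ConjClasses.mk_eq_mk_iff_isConj.1 (hrep c).1
    have h1 : fe (PPo F r) (E' c) =
        fe (PPo F r) (fun o => Option.elim o (2 * m - i * ∑ j, e j) e) := by
      rw [← hE' c, charpoly_eq_of_isConj hconj, hch]
    have h2 := fe_injective (isFam_PPo hrF) h1
    apply Subtype.ext
    apply Subtype.ext
    funext j
    exact congrFun h2 (some j)
  have hbij : Function.Bijective Φ := ⟨hinj, hsurj⟩
  have hfin : Finite D₀ := by
    apply Finite.of_injective (fun (x : D₀) (j : ↥(cycFactors F r)) =>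
      (⟨x.1 j, by
        have h1 : x.1 j ≤ ∑ k, x.1 k :=
          Finset.single_le_sum (f := x.1) (fun _ _ => Nat.zero_le _) (Finset.mem_univ j)
        have h2 := x.2.2
        have h3 : ∑ k, x.1 k ≤ i * ∑ k, x.1 k := Nat.le_mul_of_pos_left _ hipos
        omega⟩ : Fin (2 * m + 1)))
    intro x y hxy
    apply Subtype.ext
    funext j
    have := congrFun hxy j
    exact Fin.mk.inj_iff.1 this
  change Nat.card 𝒞 + 1 = Nat.card D₀
  rw [Nat.card_eq_of_bijective Φ hbij, ← Nat.card_congr (Equiv.optionSubtypeNe z),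
    Finite.card_option]

end Cfsg.Agent.Lib.Helper8.PrimeOrd
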