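import Mathlib

set_option autoImplicit false

/-!
Quadratic forms given by a matrix, `qf A v = v ⬝ᵥ A *ᵥ v`, their isometries and base change
along a ring homomorphism.
-/

namespace Cfsg.Agent.Lib.Helper8.QfMatrix

open Matrix

set_option linter.unusedSectionVars false

variable {ι R S : Type*} [Fintype ι] [DecidableEq ι] [CommRing R] [CommRing S]

/-- the quadratic form of a matrix -/
def qf (A : Matrix ι ι R) (v : ι → R) : R := v ⬝ᵥ (A *ᵥ v)

theorem qf_eq_sum (A : Matrix ι ι R) (v : ι → R) :
    qf A v = ∑ p : ι × ι, v p.1 * A p.1 p.2 * v p.2 := by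
  unfold qf
  simp only [dotProduct, mulVec, Fintype.sum_prod_type, Finset.mul_sum, mul_assoc]

theorem qf_mulVec (A g : Matrix ι ι R) (v : ι → R) : qf A (g *ᵥ v) = qf (gᵀ * A * g) v := by
  unfold qf
  conv_rhs => rw [← mulVec_mulVec, ← mulVec_mulVec, dotProduct_mulVec, vecMul_transpose]

theorem qf_sub (A B : Matrix ι ι R) (v : ι → R) : qf (A - B) v = qf A v - qf B v := by
  unfold qf
  rw [sub_mulVec, dotProduct_sub]

/-- the entry condition for a matrix to give the zero quadratic form -/
def Alt (M : Matrix ι ι R) : Prop := (∀ i, M i i = 0) ∧ ∀ i j, i ≠ j → M i j + M j i = 0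

theorem qf_eq_zero_of_alt (M : Matrix ι ι R) (hM : Alt M) (v : ι → R) : qf M v = 0 := by
  rw [qf_eq_sum]
  apply Finset.sum_involution (fun (p : ι × ι) _ => (p.2, p.1))
  · intro p _
    by_cases h : p.1 = p.2
    · have : M p.1 p.2 = 0 := by rw [← h]; exact hM.1 p.1
      simp [← h, hM.1 p.1]
    · have := hM.2 p.1 p.2 h
      have h2 : M p.2 p.1 = - M p.1 p.2 := by linear_combination this
      simp only [h2]
      ring
  · intro p _ hne heq
    apply hne
    have h : p.1 = p.2 := by
      have := congrArg Prod.snd heq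
      simpa using this
    have : M p.1 p.2 = 0 := by rw [← h]; exact hM.1 p.1
    simp [this]
  · intro p _
    exact Finset.mem_univ _
  · intro p _
    rfl

theorem alt_of_qf_eq_zero (M : Matrix ι ι R) (hM : ∀ v, qf M v = 0) : Alt M := by
  have hdiag : ∀ i, M i i = 0 := by
    intro i
    have := hM (Pi.single i 1)
    unfold qf at this
    simpa using this
  refine ⟨hdiag, ?_⟩
  intro i j hij
  have := hM (Pi.single i 1 + Pi.single j 1)
  unfold qf at this
  rw [mulVec_add, add_dotProduct, dotProduct_add, dotProduct_add] at this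
  simp only [mulVec_single, single_one_dotProduct, MulOpposite.op_one, one_smul, col_apply] at this
  rw [hdiag i, hdiag j] at this
  linear_combination this

theorem alt_map (f : R →+* S) (M : Matrix ι ι R) (hM : Alt M) : Alt (M.map f) := by
  constructor
  · intro i
    rw [map_apply, hM.1 i, map_zero]
  · intro i j hij
    rw [map_apply, map_apply, ← map_add, hM.2 i j hij, map_zero]

/-- an isometry of `qf A` stays an isometry of the base-changed form -/
theorem isometry_map (f : R →+* S) (A g : Matrix ι ι R) (hg : ∀ v, qf A (g *ᵥ v) = qf A v)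
    (w : ι → S) : qf (A.map f) ((g.map f) *ᵥ w) = qf (A.map f) w := by
  have h1 : Alt (gᵀ * A * g - A) := by
    apply alt_of_qf_eq_zero
    intro v
    rw [qf_sub, ← qf_mulVec, hg, sub_self]
  have h2 := alt_map f _ h1
  have h3 : (gᵀ * A * g - A).map f = (g.map f)ᵀ * A.map f * g.map f - A.map f := by
    have e1 := map_sub f.mapMatrix (gᵀ * A * g) A
    have e2 := map_mul f.mapMatrix (gᵀ * A) g
    have e3 := map_mul f.mapMatrix gᵀ A
    simp only [RingHom.mapMatrix_apply] at e1 e2 e3
    rw [e1, e2, e3, transpose_map]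
  rw [h3] at h2
  have h4 := qf_eq_zero_of_alt _ h2 w
  rw [qf_sub, ← qf_mulVec] at h4
  exact sub_eq_zero.mp h4

end Cfsg.Agent.Lib.Helper8.QfMatrix
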