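import Cfsg.Agent.Lib.Helper5.ONOut.Bridge

/-!
# The relators of a presentation hold for the columns of its coset table

For the data `D` of a coset enumeration and maps `fl l` of the rows that are the actions of the permutations of the
letters, every further relator of the presentation, written with the columns of the inverse letters, is the identity
map of the rows.  This is the condition `HomData.hextra` for the identity automorphism.
-/

set_option autoImplicit false

namespace Cfsg.Agent.Lib.Helper8.RelLetters

open Cfsg.Spor Cfsg.Agent.Lib.Helper6 Cfsg.Agent.Lib.Helper6.TC Cfsg.Agent.Lib.Helper6.TCG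
  Cfsg.Agent.Lib.Helper6.TCGS Cfsg.Agent.Lib.Helper6.NatArr Cfsg.Agent.Lib.Helper5
open Cfsg.Agent.PL (Acts)
open Cfsg.Agent.PF (wordF)

variable {α : Type} [DecidableEq α] {edges : List (α × ℕ × α)} {extra : List (FreeGroup α)}
  {S : Set (FreeGroup α)} (D : GenData edges extra S)

/-- a word in the columns of the inverse letters is the action of the product of the inverse permutations -/
theorem acts_inv_letters (fl : ℕ → ℕ → ℕ) (hfl : ∀ l, l < D.T.g → Acts (D.P l) (fl l)) :
    ∀ (w : List ℕ), (∀ l ∈ w, l < D.T.g) →
      Acts ((w.map fun l => (D.P l)⁻¹).prod) (wordF (w.map fun l => fl (ivN D.ivs l)))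
  | [], _ => fun _ _ => rfl
  | l :: w, hw => by
    rw [List.map_cons, List.prod_cons, List.map_cons]
    have hl := hw l List.mem_cons_self
    have h1 : Acts (D.P l)⁻¹ (fl (ivN D.ivs l)) := by
      have h2 := hfl _ (GenBridge.iv_lt' D hl)
      have h3 : D.P (ivN D.ivs l) = (D.P l)⁻¹ := perm_iv D.chk_tab hl
      rwa [h3] at h2
    exact h1.mul (acts_inv_letters fl hfl w fun l' hl' => hw l' (List.mem_cons_of_mem _ hl'))

/-- **the further relators hold for the columns of the table**: the condition `HomData.hextra` for the identity -/
theorem hextra_letters (fl : ℕ → ℕ → ℕ) (hfl : ∀ l, l < D.T.g → Acts (D.P l) (fl l)) :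
    ∀ p ∈ D.extraPow, ∀ q, q < D.T.n →
      wordF (((List.replicate p.2 p.1).flatten).map (fun l => fl (ivN D.ivs l))) q = q := by
  intro p hp q hq
  have hm := List.mem_append_right (coxPairs edges D.gen D.gn) hp
  obtain ⟨h1, h2⟩ := rev_prod_eq_one_of_minsOK D.chk_tab D.chk_pows hm
  have hl : ∀ x ∈ (List.replicate p.2 p.1).flatten, x < D.T.g := by
    intro x hx
    rw [List.mem_flatten] at hx
    obtain ⟨l, hl, hxl⟩ := hx
    rw [List.eq_of_mem_replicate hl] at hxl
    exact h1 x hxl
  have ha := acts_inv_letters D fl hfl _ hl
  have e : (((List.replicate p.2 p.1).flatten).map fun l => (D.P l)⁻¹).prod = 1 := by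
    have h3 := List.prod_inv_reverse ((((List.replicate p.2 p.1).flatten).reverse.map (perm D.chk_tab)))
    rw [h2, inv_one, List.map_reverse, List.map_reverse, List.reverse_reverse, List.map_map] at h3
    rw [h3]
    rfl
  rw [e] at ha
  exact (ha q hq).symm

/-- the same for maps `fp` of the letters that agree with the columns of the inverse letters on the letters of the
relator: the condition `HomData.hextra` at the relators that only involve letters fixed by the automorphism -/
theorem hextra_of_agree (fp fl : ℕ → ℕ → ℕ) (hfl : ∀ l, l < D.T.g → Acts (D.P l) (fl l))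
    {p : List ℕ × ℕ} (hp : p ∈ D.extraPow) (hag : ∀ l ∈ p.1, fp l = fl (ivN D.ivs l)) :
    ∀ q, q < D.T.n → wordF (((List.replicate p.2 p.1).flatten).map fp) q = q := by
  intro q hq
  have e : ((List.replicate p.2 p.1).flatten).map fp =
      ((List.replicate p.2 p.1).flatten).map (fun l => fl (ivN D.ivs l)) := by
    apply List.map_congr_left
    intro x hx
    rw [List.mem_flatten] at hx
    obtain ⟨l, hl, hxl⟩ := hx
    rw [List.eq_of_mem_replicate hl] at hxl
    exact hag x hxl
  rw [e]
  exact hextra_letters D fl hfl p hp q hq

end Cfsg.Agent.Lib.Helper8.RelLetters
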