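import Mathlib
import Cfsg.Prelude.Def_Blocks
import Cfsg.Agent.Lib.helper3.BlockSection
import Cfsg.Agent.Lib.helper3.GoingDown2
import Cfsg.Agent.Lib.helper3.LocalM2
import Cfsg.Agent.Lib.helper3.RankOne2
import Cfsg.Agent.Lib.helper3.BlockCover2

/-!
# Relative weak block orthogonality (helper8)

For a normal subgroup `N`, a character `θ` of `N`, a block `B` of `G` and a `p`-element `x ∉ N`:
`∑_{χ ∈ B} ⟨Ind θ, χ⟩ χ(x) = 0`.
-/

set_option autoImplicit false
set_option linter.unusedSectionVars false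
set_option linter.style.haveILetI false

namespace Cfsg.Agent.Lib.Helper8.RelOrth

open Cfsg Module Cfsg.Agent.Lib.helper3.CharBasic Cfsg.Agent.Lib.helper3.Irr
open Cfsg.Agent.Lib.helper3.Central Cfsg.Agent.Lib.helper3.LocalM Cfsg.Agent.Lib.helper3.IndFun
open Cfsg.Agent.Lib.helper3.Block
open scoped ComplexConjugate BigOperators

universe u

variable {G : Type u} [Group G] [Fintype G] {M : Ideal AlgInt}

theorem indFun_eq_zero_of_not_mem (N : Subgroup G) [hN : N.Normal] (θ : N → ℂ) (g : G)
    (hg : g ∉ N) : indFun N θ g = 0 := by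
  rw [indFun_apply]
  have h0 : ∀ x : G, extendByZero N θ (x⁻¹ * g * x) = 0 := by
    intro x
    apply extendByZero_not_mem
    intro h
    apply hg
    have h1 := hN.conj_mem _ h x
    have h2 : x * (x⁻¹ * g * x) * x⁻¹ = g := by group
    rwa [h2] at h1
  rw [Finset.sum_eq_zero (fun x _ => h0 x), mul_zero]

theorem mul_not_mem_of_pElement {p : ℕ} (hp : p.Prime) (N : Subgroup G) (x c : G) (k : ℕ)
    (hx : orderOf x = p ^ k) (hxN : x ∉ N) (hc : ¬ p ∣ orderOf c) (hcomm : x * c = c * x) :
    x * c ∉ N := by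
  intro h
  apply hxN
  have h1 : (x * c) ^ orderOf c ∈ N := N.pow_mem h _
  rw [(show Commute x c from hcomm).mul_pow, pow_orderOf_eq_one, mul_one] at h1
  have hco : Nat.Coprime (orderOf c) (orderOf x) := by
    rw [hx]
    exact Nat.Coprime.pow_right k ((Nat.Prime.coprime_iff_not_dvd hp).2 hc).symm
  obtain ⟨m, hm⟩ := exists_pow_eq_self_of_coprime hco
  rw [← hm]
  exact N.pow_mem h1 m

open Classical in
/-- Relative weak block orthogonality. -/
theorem sum_block_induced_eq_zero {p : ℕ} [hpf : Fact p.Prime] (hM : IsPModular p M)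
    (B : Set (IrrCharacter G)) (hB : IsPBlock M B) (N : Subgroup G) [hN : N.Normal]
    (θ : N → ℂ) (hθ : IsCharacter N θ) (x : G) (k : ℕ) (hx : orderOf x = p ^ k) (hxN : x ∉ N) :
    ∑ χ : IrrCharacter G, (if χ ∈ B then (1 : ℂ) else 0) *
      (classInner (indFun N θ) (χ : G → ℂ) * (χ : G → ℂ) x) = 0 := by
  haveI : Fintype ↥(Subgroup.centralizer ({x} : Set G)) := Fintype.ofFinite _
  haveI hMp := isPrime_of_isPModular hM
  have hΨ : IsCharacter G (indFun N θ) := isCharacter_indFun N θ hθ
  have hdec := isCharacter_eq_sum_classInner hΨ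
  have hp1 : ¬ p ∣ orderOf (1 : ↥(Subgroup.centralizer ({x} : Set G))) := by
    rw [orderOf_one]
    exact hpf.out.not_dvd_one
  -- the second main theorem at `y = 1`
  have hbs : ∀ χ : IrrCharacter G,
      ∑ ψ : IrrCharacter ↥(Subgroup.centralizer ({x} : Set G)),
        (if ψ ∈ secSet M x B then (1 : ℂ) else 0) *
        (classInner (fun c : ↥(Subgroup.centralizer ({x} : Set G)) => (χ : G → ℂ) (x * (c : G)))
            (ψ : ↥(Subgroup.centralizer ({x} : Set G)) → ℂ) *
          (ψ : ↥(Subgroup.centralizer ({x} : Set G)) → ℂ) 1)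
      = if χ ∈ B then (χ : G → ℂ) x else 0 := by
    intro χ
    have h := block_section hM x k hx B hB χ (1 : ↥(Subgroup.centralizer ({x} : Set G))) hp1
    simpa using h
  -- the translate of the induced character
  have hf : (fun c : ↥(Subgroup.centralizer ({x} : Set G)) => indFun N θ (x * (c : G)))
      = ∑ χ : IrrCharacter G, classInner (indFun N θ) (χ : G → ℂ) •
          (fun c : ↥(Subgroup.centralizer ({x} : Set G)) => (χ : G → ℂ) (x * (c : G))) := by
    funext c
    conv_lhs => rw [hdec]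
    simp only [Finset.sum_apply, Pi.smul_apply, smul_eq_mul]
  have hclosed : ∀ ψ ∈ secSet M x B,
      blockOf M (ψ : ↥(Subgroup.centralizer ({x} : Set G)) → ℂ) ⊆ secSet M x B := by
    intro ψ hψ φ hφ
    exact secSet_closed x B ψ hψ hφ
  -- step 1: rewrite with the second main theorem
  have h1 : ∑ χ : IrrCharacter G, (if χ ∈ B then (1 : ℂ) else 0) *
      (classInner (indFun N θ) (χ : G → ℂ) * (χ : G → ℂ) x)
      = ∑ ψ : IrrCharacter ↥(Subgroup.centralizer ({x} : Set G)),
        (if ψ ∈ secSet M x B then (1 : ℂ) else 0) *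
        (classInner (fun c : ↥(Subgroup.centralizer ({x} : Set G)) => indFun N θ (x * (c : G)))
            (ψ : ↥(Subgroup.centralizer ({x} : Set G)) → ℂ) *
          (ψ : ↥(Subgroup.centralizer ({x} : Set G)) → ℂ) 1) := by
    have e1 : ∀ χ : IrrCharacter G, (if χ ∈ B then (1 : ℂ) else 0) *
        (classInner (indFun N θ) (χ : G → ℂ) * (χ : G → ℂ) x)
        = classInner (indFun N θ) (χ : G → ℂ) * (if χ ∈ B then (χ : G → ℂ) x else 0) := by
      intro χ
      split_ifs <;> ring
    rw [Finset.sum_congr rfl (fun χ _ => e1 χ)]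
    rw [Finset.sum_congr rfl (fun χ _ => by rw [← hbs χ])]
    simp only [Finset.mul_sum]
    rw [Finset.sum_comm]
    apply Finset.sum_congr rfl
    intro ψ _
    rw [hf, classInner_sum_left, Finset.sum_mul, Finset.mul_sum]
    apply Finset.sum_congr rfl
    intro χ _
    rw [classInner_smul_left]
    ring
  rw [h1]
  -- step 2: expand the inner products
  have h2 : ∑ ψ : IrrCharacter ↥(Subgroup.centralizer ({x} : Set G)),
        (if ψ ∈ secSet M x B then (1 : ℂ) else 0) *
        (classInner (fun c : ↥(Subgroup.centralizer ({x} : Set G)) => indFun N θ (x * (c : G)))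
            (ψ : ↥(Subgroup.centralizer ({x} : Set G)) → ℂ) *
          (ψ : ↥(Subgroup.centralizer ({x} : Set G)) → ℂ) 1)
      = (Nat.card ↥(Subgroup.centralizer ({x} : Set G)) : ℂ)⁻¹ *
        ∑ c : ↥(Subgroup.centralizer ({x} : Set G)), indFun N θ (x * (c : G)) *
          ∑ ψ : IrrCharacter ↥(Subgroup.centralizer ({x} : Set G)),
            (if ψ ∈ secSet M x B then (1 : ℂ) else 0) *
            ((ψ : ↥(Subgroup.centralizer ({x} : Set G)) → ℂ) 1 *
              conj ((ψ : ↥(Subgroup.centralizer ({x} : Set G)) → ℂ) c)) := by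
    simp only [classInner_apply, Finset.mul_sum, Finset.sum_mul]
    rw [Finset.sum_comm]
    apply Finset.sum_congr rfl
    intro c _
    apply Finset.sum_congr rfl
    intro ψ _
    ring
  rw [h2]
  have h3 : ∀ c : ↥(Subgroup.centralizer ({x} : Set G)), indFun N θ (x * (c : G)) *
          ∑ ψ : IrrCharacter ↥(Subgroup.centralizer ({x} : Set G)),
            (if ψ ∈ secSet M x B then (1 : ℂ) else 0) *
            ((ψ : ↥(Subgroup.centralizer ({x} : Set G)) → ℂ) 1 *
              conj ((ψ : ↥(Subgroup.centralizer ({x} : Set G)) → ℂ) c)) = 0 := by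
    intro c
    by_cases hc : p ∣ orderOf c
    · rw [weak_block_orthogonality hM (secSet M x B) hclosed 1 c hp1 hc, mul_zero]
    · have hc' : ¬ p ∣ orderOf (c : G) := by rwa [Subgroup.orderOf_coe]
      have hcomm : x * (c : G) = (c : G) * x :=
        Subgroup.mem_centralizer_iff.1 c.2 x rfl
      rw [indFun_eq_zero_of_not_mem N θ _
        (mul_not_mem_of_pElement hpf.out N x (c : G) k hx hxN hc' hcomm), zero_mul]
  rw [Finset.sum_eq_zero (fun c _ => h3 c), mul_zero]

end Cfsg.Agent.Lib.Helper8.RelOrth
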