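import Mathlib
import Cfsg.Prelude.Def_Blocks
import Cfsg.Agent.Lib.Helper8.RelOrth1

/-!
# Counting the characters of `p'`-degree of a block over a character of a normal subgroup (helper8)
-/

set_option autoImplicit false
set_option linter.unusedSectionVars false
set_option linter.style.haveILetI false

namespace Cfsg.Agent.Lib.Helper8.RelOrth

open Cfsg Module Cfsg.Agent.Lib.helper3.CharBasic Cfsg.Agent.Lib.helper3.Irr
open Cfsg.Agent.Lib.helper3.Central Cfsg.Agent.Lib.helper3.LocalM Cfsg.Agent.Lib.helper3.IndFun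
open Cfsg.Agent.Lib.helper3.Block
open scoped ComplexConjugate BigOperators

universe u

variable {G : Type u} [Group G] [Fintype G] {M : Ideal AlgInt}

open Classical in
/-- `p` divides `∑_{χ ∈ B} e_χ χ(1)`, where `e_χ = ⟨χ_N, θ⟩`. -/
theorem dvd_sum_mult_mul_degree {p : ℕ} [hpf : Fact p.Prime] (hM : IsPModular p M)
    (B : Set (IrrCharacter G)) (hB : IsPBlock M B) (N : Subgroup G) [hN : N.Normal] [Fintype N]
    (θ : IrrCharacter N) (x : G) (k : ℕ) (hx : orderOf x = p ^ k) (hxN : x ∉ N)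
    (e : IrrCharacter G → ℕ)
    (he : ∀ χ : IrrCharacter G,
      classInner (fun n : N => (χ : G → ℂ) n) (θ : N → ℂ) = (e χ : ℂ)) :
    p ∣ ∑ χ : IrrCharacter G, (if χ ∈ B then e χ * charDegree (χ : G → ℂ) else 0) := by
  haveI hMp := isPrime_of_isPModular hM
  have h0 := sum_block_induced_eq_zero hM B hB N (θ : N → ℂ)
    (isCharacter_of_isIrrCharacter θ.2) x k hx hxN
  have hxpow : x ^ p ^ k = 1 := by rw [← hx]; exact pow_orderOf_eq_one x
  have hw : ∀ χ : IrrCharacter G, ∃ w : AlgInt, w ∈ M ∧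
      (w : ℂ) = (χ : G → ℂ) x - (χ : G → ℂ) 1 := by
    intro χ
    obtain ⟨w, hwM, hw⟩ := exists_mem_sub_eq (isCharacter_of_isIrrCharacter χ.2) hM x 1 k hxpow
      (by simp)
    exact ⟨w, hwM, by rw [hw, mul_one]⟩
  choose w hwM hw using hw
  have hcoef : ∀ χ : IrrCharacter G,
      classInner (indFun N (θ : N → ℂ)) (χ : G → ℂ) = (e χ : ℂ) := by
    intro χ
    rw [frobenius_reciprocity N _ _
      (isClassFunction_of_isCharacter (isCharacter_of_isIrrCharacter χ.2)),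
      ← classInner_conj_symm, he χ, Complex.conj_natCast]
  -- the natural number `A` and the element `W ∈ M`
  set A : ℕ := ∑ χ : IrrCharacter G, (if χ ∈ B then e χ * charDegree (χ : G → ℂ) else 0) with hA
  set W : AlgInt := ∑ χ : IrrCharacter G, (if χ ∈ B then (e χ : AlgInt) * w χ else 0) with hW
  have hWM : W ∈ M := by
    apply Ideal.sum_mem
    intro χ _
    split_ifs
    · exact M.mul_mem_left _ (hwM χ)
    · exact M.zero_mem
  have hAW : ((A : AlgInt) : ℂ) = -((W : AlgInt) : ℂ) := by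
    rw [eq_neg_iff_add_eq_zero, ← h0, hA, hW]
    push_cast
    rw [← Finset.sum_add_distrib]
    apply Finset.sum_congr rfl
    intro χ _
    rw [hcoef χ]
    split_ifs
    · push_cast
      rw [hw χ, apply_one_eq_charDegree χ]
      ring
    · simp
  have hAM : (A : AlgInt) ∈ M := by
    have h1 : (A : AlgInt) = -W := by
      apply Subtype.ext
      rw [hAW]
      simp
    rw [h1]
    exact M.neg_mem hWM
  exact (natCast_mem_iff hM A).1 hAM

open Classical in
/-- Clifford: the degrees of the characters over `θ` are `e_χ s` for a common `s`. -/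
theorem exists_clifford_degree (N : Subgroup G) [hN : N.Normal] [Fintype N] (θ : IrrCharacter N) :
    ∃ s : ℕ, ∀ (χ : IrrCharacter G) (e : ℕ),
      classInner (fun n : N => (χ : G → ℂ) n) (θ : N → ℂ) = (e : ℂ) → e ≠ 0 →
        charDegree (χ : G → ℂ) = e * s := by
  refine ⟨(Finset.univ.image (Cfsg.Agent.Lib.helper3.Irr.conjFun N (θ : N → ℂ))).card * charDegree (θ : N → ℂ), ?_⟩
  intro χ e he he0
  have hne : classInner (fun n : N => (χ : G → ℂ) n) (θ : N → ℂ) ≠ 0 := by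
    rw [he]
    exact_mod_cast he0
  obtain ⟨e', -, he', hcl, -, -⟩ := clifford_finset N (χ : G → ℂ) χ.2 (θ : N → ℂ) θ.2 hne
  have hee : e' = e := by
    have : (e' : ℂ) = (e : ℂ) := by rw [← he', he]
    exact_mod_cast this
  subst hee
  have h1 := congrFun hcl 1
  simp only [Pi.smul_apply, Finset.sum_apply, smul_eq_mul] at h1
  have h2 : ∀ ψ ∈ Finset.univ.image (Cfsg.Agent.Lib.helper3.Irr.conjFun N (θ : N → ℂ)), ψ 1 = (θ : N → ℂ) 1 := by
    intro ψ hψ
    obtain ⟨g, -, rfl⟩ := Finset.mem_image.1 hψ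
    exact conjFun_apply_one N (θ : N → ℂ) g
  rw [Finset.sum_congr rfl h2, Finset.sum_const, nsmul_eq_mul] at h1
  have h3 : ((1 : N) : G) = 1 := rfl
  rw [h3, apply_one_eq_charDegree χ, apply_one_eq_charDegree θ] at h1
  exact_mod_cast h1

theorem sq_eq_one_of_le_three {p : ℕ} (hp : p.Prime) (hp3 : p ≤ 3) (a : ZMod p) (ha : a ≠ 0) :
    a ^ 2 = 1 := by
  have h2 := hp.two_le
  interval_cases p
  · revert a; decide
  · revert a; decide

open Classical in
/-- The number of characters of `p'`-degree in a block lying over `θ`. -/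
theorem count_over {p : ℕ} [hpf : Fact p.Prime] (hM : IsPModular p M)
    (B : Set (IrrCharacter G)) (hB : IsPBlock M B) (N : Subgroup G) [hN : N.Normal] [Fintype N]
    (θ : IrrCharacter N) (x : G) (k : ℕ) (hx : orderOf x = p ^ k) (hxN : x ∉ N) :
    (Nat.card {χ : IrrCharacter G // χ ∈ B ∧ ¬ p ∣ charDegree (χ : G → ℂ) ∧
        classInner (fun n : N => (χ : G → ℂ) n) (θ : N → ℂ) ≠ 0} = 0 ∨
      2 ≤ Nat.card {χ : IrrCharacter G // χ ∈ B ∧ ¬ p ∣ charDegree (χ : G → ℂ) ∧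
        classInner (fun n : N => (χ : G → ℂ) n) (θ : N → ℂ) ≠ 0}) ∧
    (p ≤ 3 → p ∣ Nat.card {χ : IrrCharacter G // χ ∈ B ∧ ¬ p ∣ charDegree (χ : G → ℂ) ∧
        classInner (fun n : N => (χ : G → ℂ) n) (θ : N → ℂ) ≠ 0}) := by
  have hp := hpf.out
  -- multiplicities
  have hex : ∀ χ : IrrCharacter G, ∃ n : ℕ,
      classInner (fun n : N => (χ : G → ℂ) n) (θ : N → ℂ) = (n : ℂ) := fun χ =>
    exists_nat_classInner_of_isCharacter
      (isCharacter_restrict (isCharacter_of_isIrrCharacter χ.2) N) θ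
  choose e he using hex
  have hdvd := dvd_sum_mult_mul_degree hM B hB N θ x k hx hxN e he
  obtain ⟨s, hs⟩ := exists_clifford_degree N θ
  have hne_iff : ∀ χ : IrrCharacter G,
      classInner (fun n : N => (χ : G → ℂ) n) (θ : N → ℂ) ≠ 0 ↔ e χ ≠ 0 := by
    intro χ
    rw [he χ]
    exact_mod_cast Iff.rfl
  -- the set `F₀`
  set F₀ : Finset (IrrCharacter G) := Finset.univ.filter (fun χ => χ ∈ B ∧
    ¬ p ∣ charDegree (χ : G → ℂ) ∧
      classInner (fun n : N => (χ : G → ℂ) n) (θ : N → ℂ) ≠ 0) with hF₀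
  have hcard : Nat.card {χ : IrrCharacter G // χ ∈ B ∧ ¬ p ∣ charDegree (χ : G → ℂ) ∧
      classInner (fun n : N => (χ : G → ℂ) n) (θ : N → ℂ) ≠ 0} = F₀.card := by
    rw [Nat.card_eq_fintype_card, Fintype.card_subtype]
  rw [hcard]
  -- `p ∣ ∑_{F₀} d²`
  have hsq : ∀ χ : IrrCharacter G, e χ ≠ 0 →
      s * (e χ * charDegree (χ : G → ℂ)) = charDegree (χ : G → ℂ) ^ 2 := by
    intro χ h
    rw [hs χ (e χ) (he χ) h]
    ring
  have hsum : (p : ℤ) ∣ ∑ χ ∈ F₀, ((charDegree (χ : G → ℂ) : ℕ) : ℤ) ^ 2 := by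
    have h1 : (p : ℤ) ∣ ((s * ∑ χ : IrrCharacter G,
        (if χ ∈ B then e χ * charDegree (χ : G → ℂ) else 0) : ℕ) : ℤ) := by
      exact_mod_cast Dvd.dvd.mul_left hdvd s
    have h2 : ((s * ∑ χ : IrrCharacter G,
        (if χ ∈ B then e χ * charDegree (χ : G → ℂ) else 0) : ℕ) : ℤ)
        = ∑ χ ∈ F₀, ((charDegree (χ : G → ℂ) : ℕ) : ℤ) ^ 2
          + ∑ χ ∈ Finset.univ.filter (fun χ : IrrCharacter G => χ ∈ B ∧
              p ∣ charDegree (χ : G → ℂ) ∧ e χ ≠ 0),
              ((charDegree (χ : G → ℂ) : ℕ) : ℤ) ^ 2 := by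
      rw [hF₀, Finset.sum_filter, Finset.sum_filter, ← Finset.sum_add_distrib]
      push_cast
      rw [Finset.mul_sum]
      apply Finset.sum_congr rfl
      intro χ _
      by_cases hB' : χ ∈ B
      · by_cases h0 : e χ = 0
        · have : ¬ classInner (fun n : N => (χ : G → ℂ) n) (θ : N → ℂ) ≠ 0 := by
            rw [hne_iff]; exact not_not.2 h0
          simp [hB', h0, this]
        · have hc : classInner (fun n : N => (χ : G → ℂ) n) (θ : N → ℂ) ≠ 0 :=
            (hne_iff χ).2 h0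
          have hsq' := hsq χ h0
          have hsq'' : (s : ℤ) * ((e χ : ℤ) * (charDegree (χ : G → ℂ) : ℤ))
              = (charDegree (χ : G → ℂ) : ℤ) ^ 2 := by exact_mod_cast hsq'
          by_cases hd : p ∣ charDegree (χ : G → ℂ)
          · simp [hB', h0, hc, hd, hsq'']
          · simp [hB', h0, hc, hd, hsq'']
      · simp [hB']
    rw [h2] at h1
    have h3 : (p : ℤ) ∣ ∑ χ ∈ Finset.univ.filter (fun χ : IrrCharacter G => χ ∈ B ∧
              p ∣ charDegree (χ : G → ℂ) ∧ e χ ≠ 0),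
              ((charDegree (χ : G → ℂ) : ℕ) : ℤ) ^ 2 := by
      apply Finset.dvd_sum
      intro χ hχ
      have hd : p ∣ charDegree (χ : G → ℂ) := (Finset.mem_filter.1 hχ).2.2.1
      have : (p : ℤ) ∣ (charDegree (χ : G → ℂ) : ℤ) := by exact_mod_cast hd
      exact Dvd.dvd.pow this two_ne_zero
    exact (Int.dvd_add_left h3).1 h1
  have hF₀nd : ∀ χ ∈ F₀, ¬ p ∣ charDegree (χ : G → ℂ) := fun χ hχ =>
    (Finset.mem_filter.1 hχ).2.2.1
  refine ⟨?_, ?_⟩
  · by_contra hcon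
    push Not at hcon
    have h1 : F₀.card = 1 := by omega
    obtain ⟨χ₀, hχ₀⟩ := Finset.card_eq_one.1 h1
    rw [hχ₀, Finset.sum_singleton] at hsum
    have h2 : (p : ℤ) ∣ (charDegree (χ₀ : G → ℂ) : ℤ) :=
      (Nat.prime_iff_prime_int.1 hp).dvd_of_dvd_pow hsum
    have h3 : p ∣ charDegree (χ₀ : G → ℂ) := by exact_mod_cast h2
    exact hF₀nd χ₀ (by rw [hχ₀]; exact Finset.mem_singleton_self _) h3
  · intro hp3
    have h1 : ((∑ χ ∈ F₀, ((charDegree (χ : G → ℂ) : ℕ) : ℤ) ^ 2 : ℤ) : ZMod p) = 0 :=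
      (ZMod.intCast_zmod_eq_zero_iff_dvd _ p).2 hsum
    push_cast at h1
    have h2 : ∀ χ ∈ F₀, ((charDegree (χ : G → ℂ) : ℕ) : ZMod p) ^ 2 = 1 := by
      intro χ hχ
      apply sq_eq_one_of_le_three hp hp3
      intro h0
      exact hF₀nd χ hχ ((ZMod.natCast_eq_zero_iff _ p).1 h0)
    rw [Finset.sum_congr rfl h2, Finset.sum_const, nsmul_eq_mul, mul_one] at h1
    exact (ZMod.natCast_eq_zero_iff _ p).1 h1

end Cfsg.Agent.Lib.Helper8.RelOrth
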