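import Mathlib

set_option autoImplicit false
set_option linter.unusedSectionVars false
set_option linter.unusedVariables false
set_option linter.style.haveILetI false

namespace Cfsg.Agent.Lib.Helper8.S3278A

variable {G : Type*} [Group G] [Finite G]

/-- Every `2`-element of `C` lies in the normal subgroup `S₀` of odd index. -/
theorem mem_of_two_power {C S₀ : Subgroup G}
    (hodd : ¬ 2 ∣ S₀.relIndex C) (hn : (S₀.subgroupOf C).Normal)
    {g : G} (hg : g ∈ C) {k : ℕ} (hk : g ^ 2 ^ k = 1) : g ∈ S₀ := by
  haveI := hn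
  have hcard : Nat.card (↥C ⧸ S₀.subgroupOf C) = S₀.relIndex C := rfl
  set q : ↥C ⧸ S₀.subgroupOf C := QuotientGroup.mk (⟨g, hg⟩ : ↥C) with hq
  have h1 : orderOf q ∣ 2 ^ k := by
    apply orderOf_dvd_of_pow_eq_one
    rw [hq, ← QuotientGroup.mk_pow]
    have : (⟨g, hg⟩ : ↥C) ^ 2 ^ k = 1 := by
      ext; simpa using hk
    rw [this]; rfl
  have h2 : orderOf q ∣ S₀.relIndex C := hcard ▸ orderOf_dvd_natCard q
  obtain ⟨j, -, hj⟩ := (Nat.dvd_prime_pow Nat.prime_two).1 h1
  have hj0 : j = 0 := by
    by_contra hne
    apply hodd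
    rw [hj] at h2
    exact (dvd_pow_self 2 hne).trans h2
  rw [hj0, pow_zero, orderOf_eq_one_iff, hq, QuotientGroup.eq_one_iff] at hj
  exact Subgroup.mem_subgroupOf.1 hj

/-- At most three involutions in `C`. -/
theorem card_involutions_le {C S₀ : Subgroup G} (hK : IsKleinFour ↥S₀)
    (hodd : ¬ 2 ∣ S₀.relIndex C) (hn : (S₀.subgroupOf C).Normal) :
    Nat.card {u : ↥C // orderOf u = 2} ≤ 3 := by
  classical
  have hmem : ∀ u : {u : ↥C // orderOf u = 2}, (u.1 : G) ∈ S₀ := by
    intro u
    apply mem_of_two_power hodd hn u.1.2 (k := 1)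
    have h := pow_orderOf_eq_one u.1
    rw [u.2] at h
    have := congrArg Subtype.val h
    simpa using this
  let f : Option {u : ↥C // orderOf u = 2} → ↥S₀ := fun o =>
    match o with
    | none => 1
    | some u => ⟨(u.1 : G), hmem u⟩
  have hf : Function.Injective f := by
    intro a b hab
    match a, b with
    | none, none => rfl
    | none, some u =>
      exfalso
      have h1 : (1 : G) = (u.1 : G) := congrArg Subtype.val hab
      have h2 : u.1 = 1 := by ext; exact h1.symm
      have h3 := u.2
      rw [h2, orderOf_one] at h3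
      omega
    | some u, none =>
      exfalso
      have h1 : (u.1 : G) = (1 : G) := congrArg Subtype.val hab
      have h2 : u.1 = 1 := by ext; exact h1
      have h3 := u.2
      rw [h2, orderOf_one] at h3
      omega
    | some u, some v =>
      have h1 : (u.1 : G) = (v.1 : G) := congrArg (fun s : ↥S₀ => (s : G)) hab
      have h2 : u.1 = v.1 := by ext; exact h1
      have h3 : u = v := Subtype.ext h2
      rw [h3]
  have h1 := Nat.card_le_card_of_injective f hf
  rw [hK.card_four] at h1
  have h2 : Nat.card (Option {u : ↥C // orderOf u = 2}) =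
      Nat.card {u : ↥C // orderOf u = 2} + 1 := by
    exact Finite.card_option
  omega

/-- A Sylow `2`-subgroup of `G` contained in `C` equals `S₀`. -/
theorem sylow_eq {C S₀ : Subgroup G} (hK : IsKleinFour ↥S₀)
    (hodd : ¬ 2 ∣ S₀.relIndex C) (hn : (S₀.subgroupOf C).Normal)
    (S : Sylow 2 G) (hS : (S : Subgroup G) ≤ C) : S₀ = (S : Subgroup G) := by
  have hle : (S : Subgroup G) ≤ S₀ := by
    intro g hg
    obtain ⟨k, hk⟩ := (S.isPGroup' ) ⟨g, hg⟩
    apply mem_of_two_power hodd hn (hS hg) (k := k)
    have := congrArg Subtype.val hk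
    simpa using this
  have hp : IsPGroup 2 ↥S₀ := IsPGroup.of_card (n := 2) (by rw [hK.card_four]; norm_num)
  exact S.is_maximal' hp hle

/-- The centralizer of `x` is the centralizer of the four-group. -/
theorem centralizer_eq {S₀ : Subgroup G} (x : G) (hx : orderOf x = 2) (hK : IsKleinFour ↥S₀)
    (hle : S₀ ≤ Subgroup.centralizer ({x} : Set G))
    (hodd : ¬ 2 ∣ S₀.relIndex (Subgroup.centralizer ({x} : Set G)))
    (hn : (S₀.subgroupOf (Subgroup.centralizer ({x} : Set G))).Normal) :
    Subgroup.centralizer ({x} : Set G) = Subgroup.centralizer (S₀ : Set G) := by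
  classical
  have hxC : x ∈ Subgroup.centralizer ({x} : Set G) := by
    rw [Subgroup.mem_centralizer_singleton_iff]
  have hx2 : x ^ 2 ^ 1 = 1 := by
    have := pow_orderOf_eq_one x
    rwa [hx] at this
  have hxS : x ∈ S₀ := mem_of_two_power hodd hn hxC hx2
  have hx1 : x ≠ 1 := by
    intro h; rw [h, orderOf_one] at hx; omega
  have hge : Subgroup.centralizer (S₀ : Set G) ≤ Subgroup.centralizer ({x} : Set G) :=
    Subgroup.centralizer_le (by simpa using hxS)
  apply le_antisymm _ hge
  -- a third element
  obtain ⟨y, hy1, hyx⟩ : ∃ y : ↥S₀, y ≠ 1 ∧ y ≠ ⟨x, hxS⟩ := by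
    by_contra hcon
    push Not at hcon
    have hinj : Function.Injective (fun s : ↥S₀ => decide (s = 1)) := by
      intro a b hab
      simp only [decide_eq_decide] at hab
      by_cases ha : a = 1
      · rw [ha]; exact ((hab.1 ha)).symm
      · have hb : b ≠ 1 := fun h => ha (hab.2 h)
        rw [hcon a ha, hcon b hb]
    have := Nat.card_le_card_of_injective _ hinj
    rw [hK.card_four] at this
    simp at this
  have hcomm : ∀ a b : ↥S₀, a * b = b * a := fun a b =>
    (IsKleinFour.isMulCommutative (G := ↥S₀)).is_comm.comm a b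
  have hxy1 : (⟨x, hxS⟩ : ↥S₀) ≠ 1 := by
    intro h; exact hx1 (congrArg Subtype.val h)
  have helts : ∀ s : ↥S₀, s = 1 ∨ s = ⟨x, hxS⟩ ∨ s = y ∨ s = ⟨x, hxS⟩ * y := by
    intro s
    by_cases h1 : s = 1
    · exact Or.inl h1
    by_cases h2 : s = ⟨x, hxS⟩
    · exact Or.inr (Or.inl h2)
    by_cases h3 : s = y
    · exact Or.inr (Or.inr (Or.inl h3))
    · exact Or.inr (Or.inr (Or.inr
        (IsKleinFour.eq_mul_of_ne_all hxy1 hy1 (Ne.symm hyx) h1 h2 h3)))
  -- membership criterion
  have hcrit : ∀ g : G, g * x = x * g → g * (y : G) = (y : G) * g →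
      g ∈ Subgroup.centralizer (S₀ : Set G) := by
    intro g hgx hgy
    rw [Subgroup.mem_centralizer_iff]
    intro s hs
    rcases helts ⟨s, hs⟩ with h | h | h | h
    · have : s = 1 := congrArg Subtype.val h
      rw [this]; simp
    · have : s = x := congrArg Subtype.val h
      rw [this]; exact hgx.symm
    · have : s = (y : G) := congrArg Subtype.val h
      rw [this]; exact hgy.symm
    · have : s = x * (y : G) := congrArg Subtype.val h
      rw [this, mul_assoc, ← hgy, ← mul_assoc, ← hgx, mul_assoc]
  -- conjugates of y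
  have hconj : ∀ g ∈ Subgroup.centralizer ({x} : Set G),
      g * (y : G) * g⁻¹ = (y : G) ∨ g * (y : G) * g⁻¹ = x * (y : G) := by
    intro g hg
    have hgx : g * x = x * g := (Subgroup.mem_centralizer_singleton_iff.1 hg)
    have hyC : (y : G) ∈ Subgroup.centralizer ({x} : Set G) := hle y.2
    have hmem : g * (y : G) * g⁻¹ ∈ S₀ := by
      have h1 := hn.conj_mem ⟨(y : G), hyC⟩ (Subgroup.mem_subgroupOf.2 y.2) ⟨g, hg⟩
      exact Subgroup.mem_subgroupOf.1 h1
    rcases helts ⟨_, hmem⟩ with h | h | h | h
    · exfalso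
      have h1 : g * (y : G) * g⁻¹ = 1 := congrArg Subtype.val h
      have h2 : (y : G) = 1 := by
        have := congrArg (fun t => g⁻¹ * t * g) h1
        simpa [mul_assoc] using this
      exact hy1 (Subtype.ext h2)
    · exfalso
      have h1 : g * (y : G) * g⁻¹ = x := congrArg Subtype.val h
      have h2 : (y : G) = x := by
        have := congrArg (fun t => g⁻¹ * t * g) h1
        simp only [mul_assoc, inv_mul_cancel_left, inv_mul_cancel, mul_one] at this
        rw [this, hgx.symm, ← mul_assoc, inv_mul_cancel, one_mul]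
      exact hyx (Subtype.ext h2)
    · exact Or.inl (congrArg Subtype.val h)
    · exact Or.inr (congrArg Subtype.val h)
  have hS₀le : S₀ ≤ Subgroup.centralizer (S₀ : Set G) := by
    intro s hs
    rw [Subgroup.mem_centralizer_iff]
    intro t ht
    exact congrArg Subtype.val (hcomm ⟨t, ht⟩ ⟨s, hs⟩)
  have hdvd2 : (Subgroup.centralizer (S₀ : Set G)).relIndex
      (Subgroup.centralizer ({x} : Set G)) ∣ 2 := by
    by_cases hall : ∀ g ∈ Subgroup.centralizer ({x} : Set G), g * (y : G) * g⁻¹ = (y : G)
    · have : Subgroup.centralizer ({x} : Set G) ≤ Subgroup.centralizer (S₀ : Set G) := by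
        intro g hg
        apply hcrit g (Subgroup.mem_centralizer_singleton_iff.1 hg)
        have := hall g hg
        calc g * (y : G) = g * (y : G) * g⁻¹ * g := by group
          _ = (y : G) * g := by rw [this]
      rw [Subgroup.relIndex_eq_one.2 this]
      exact one_dvd 2
    · push Not at hall
      obtain ⟨a, ha, hay⟩ := hall
      have hay' : a * (y : G) * a⁻¹ = x * (y : G) := (hconj a ha).resolve_left hay
      rw [Subgroup.relIndex_dvd_two_iff]
      refine ⟨a, ha, fun b hb => ?_⟩
      have hbx : b * x = x * b := Subgroup.mem_centralizer_singleton_iff.1 hb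
      have hax : a * x = x * a := Subgroup.mem_centralizer_singleton_iff.1 ha
      rcases hconj b hb with h | h
      · right
        apply hcrit b hbx
        calc b * (y : G) = b * (y : G) * b⁻¹ * b := by group
          _ = (y : G) * b := by rw [h]
      · left
        apply hcrit (b * a)
        · rw [mul_assoc, hax, ← mul_assoc, hbx, mul_assoc]
        · have hxx : x * x = 1 := by rw [← pow_two]; simpa using hx2
          have h3 : b * a * (y : G) * (b * a)⁻¹ = (y : G) := by
            calc b * a * (y : G) * (b * a)⁻¹ = b * (a * (y : G) * a⁻¹) * b⁻¹ := by group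
              _ = b * (x * (y : G)) * b⁻¹ := by rw [hay']
              _ = (b * x) * (y : G) * b⁻¹ := by group
              _ = x * (b * (y : G) * b⁻¹) := by rw [hbx]; group
              _ = x * (x * (y : G)) := by rw [h]
              _ = (y : G) := by rw [← mul_assoc, hxx, one_mul]
          calc b * a * (y : G) = b * a * (y : G) * (b * a)⁻¹ * (b * a) := by group
            _ = (y : G) * (b * a) := by rw [h3]
  have hmul := Subgroup.relIndex_mul_relIndex S₀ (Subgroup.centralizer (S₀ : Set G))
    (Subgroup.centralizer ({x} : Set G)) hS₀le hge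
  have hodd' : ¬ 2 ∣ (Subgroup.centralizer (S₀ : Set G)).relIndex
      (Subgroup.centralizer ({x} : Set G)) := by
    intro h
    apply hodd
    rw [← hmul]
    exact Dvd.dvd.mul_left h _
  have h1 : (Subgroup.centralizer (S₀ : Set G)).relIndex
      (Subgroup.centralizer ({x} : Set G)) = 1 := by
    rcases (Nat.dvd_prime Nat.prime_two).1 hdvd2 with h | h
    · exact h
    · exact absurd (by rw [h]) hodd'
  exact Subgroup.relIndex_eq_one.1 h1

end Cfsg.Agent.Lib.Helper8.S3278A
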