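import Mathlib

set_option autoImplicit false

namespace Cfsg.Agent.Lib.Helper8.S3278B

/-- `ε = 1` is impossible once `n ≥ 5`. -/
theorem int_case_pos (a b d n : ℤ) (ha : 1 ≤ a) (hb : 1 ≤ b) (hd : 3 ≤ d) (hn : 5 ≤ n)
    (heq : 3 * n * ((a + 1) * (b + 1) * (d - 1)) = 8 * a * b * d) : False := by
  have hPe : (a + 1) * (b + 1) = a * b + a + b + 1 := by ring
  set P := (a + 1) * (b + 1) with hPdef
  have hP1 : a * b + 1 ≤ P := by rw [hPe]; linarith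
  have hab : 0 ≤ a * b := by positivity
  have hPpos : 0 < P := by linarith
  have hQ : 0 ≤ P * (d - 1) := mul_nonneg hPpos.le (by linarith)
  have h1 : 15 * (P * (d - 1)) ≤ 3 * n * (P * (d - 1)) :=
    mul_le_mul_of_nonneg_right (by linarith) hQ
  have h2 : 8 * (P * d) ≤ 12 * (P * (d - 1)) := by
    have : 0 ≤ P * (d - 3) := mul_nonneg hPpos.le (by linarith)
    linarith [mul_sub P d 1, mul_sub P d 3]
  have h3 : 8 * a * b * d < 8 * (P * d) := by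
    have hd0 : 0 < d := by linarith
    have : a * b * d < P * d := mul_lt_mul_of_pos_right (by linarith) hd0
    linarith
  linarith

/-- `ε = -1` forces `n ≤ 5`. -/
theorem int_case_neg (a b d n : ℤ) (ha : 1 ≤ a) (hb : 3 ≤ b) (hd : 3 ≤ d)
    (heq : 3 * n * ((a + 1) * (b + -1) * (d - 1)) = 8 * a * b * d) : n ≤ 5 := by
  by_contra hlt
  push Not at hlt
  have hn : 6 ≤ n := hlt
  set Q := (b + -1) * (d - 1) with hQdef
  have hQe : 9 * Q = 4 * (b * d) + (5 * ((b - 3) * (d - 3)) + 6 * (b - 3) + 6 * (d - 3)) := by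
    rw [hQdef]; ring
  have hbd3 : 0 ≤ (b - 3) * (d - 3) := mul_nonneg (by linarith) (by linarith)
  have hbd : 0 < b * d := mul_pos (by linarith) (by linarith)
  have hQ9 : 4 * (b * d) ≤ 9 * Q := by rw [hQe]; linarith
  have hQpos : 0 < Q := by linarith
  have hA : 0 < a + 1 := by linarith
  have hAQ : 0 < (a + 1) * Q := mul_pos hA hQpos
  have h1 : 18 * ((a + 1) * Q) ≤ 3 * n * ((a + 1) * Q) :=
    mul_le_mul_of_nonneg_right (by linarith) hAQ.le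
  have h2 : 8 * ((a + 1) * (b * d)) ≤ 18 * ((a + 1) * Q) := by
    have : (a + 1) * (4 * (b * d)) ≤ (a + 1) * (9 * Q) := mul_le_mul_of_nonneg_left hQ9 hA.le
    linarith [mul_left_comm (a + 1) 4 (b * d), mul_left_comm (a + 1) 9 Q]
  have h3 : 8 * a * b * d < 8 * ((a + 1) * (b * d)) := by
    have : a * (b * d) < (a + 1) * (b * d) := mul_lt_mul_of_pos_right (by linarith) hbd
    linarith [mul_assoc a b d]
  have heq' : 3 * n * ((a + 1) * Q) = 8 * a * b * d := by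
    rw [← heq, hQdef]; ring
  linarith

/-- The degree equation forces `n = 5`. -/
theorem key (a b d n c : ℕ) (ε₁ ε ε₃ : ℤ) (hε₁ : ε₁ = 1) (hε : ε = 1 ∨ ε = -1) (hε₃ : ε₃ = -1)
    (ha : a ≠ 0) (hb : b ≠ 0) (hd : d ≠ 0) (hc : c ≠ 0)
    (h2 : (4 : ℤ) ∣ (a : ℤ) - 1) (h3 : (4 : ℤ) ∣ (b : ℤ) - ε) (h4 : (4 : ℤ) ∣ (d : ℤ) + 1)
    (hn : 5 ≤ n)
    (heq : ((3 * n * c : ℕ) : ℚ) = 8 * (((a : ℚ) * b * d) /
      (((a : ℚ) + (ε₁ : ℚ)) * ((b : ℚ) + (ε : ℚ)) * ((d : ℚ) + (ε₃ : ℚ)))) * (c : ℚ) ^ 3 /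
        (c : ℚ) ^ 2) : n = 5 := by
  subst hε₁ hε₃
  have hd3 : 3 ≤ d := by
    obtain ⟨k, hk⟩ := h4
    omega
  have hcq : (c : ℚ) ≠ 0 := by exact_mod_cast hc
  have hA : ((a : ℚ) + ((1 : ℤ) : ℚ)) ≠ 0 := by
    have : (0 : ℚ) ≤ (a : ℚ) := Nat.cast_nonneg a
    push_cast
    linarith
  have hD : ((d : ℚ) + ((-1 : ℤ) : ℚ)) ≠ 0 := by
    have : (3 : ℚ) ≤ (d : ℚ) := by exact_mod_cast hd3
    push_cast
    linarith
  have hb3 : ε = -1 → 3 ≤ b := by
    intro h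
    subst h
    obtain ⟨k, hk⟩ := h3
    omega
  have hB : ((b : ℚ) + (ε : ℚ)) ≠ 0 := by
    rcases hε with h | h
    · subst h
      have : (0 : ℚ) ≤ (b : ℚ) := Nat.cast_nonneg b
      push_cast
      linarith
    · have hb3' := hb3 h
      subst h
      have : (3 : ℚ) ≤ (b : ℚ) := by exact_mod_cast hb3'
      push_cast
      linarith
  have hq : (3 : ℚ) * n * (((a : ℚ) + ((1 : ℤ) : ℚ)) * ((b : ℚ) + (ε : ℚ)) *
      ((d : ℚ) + ((-1 : ℤ) : ℚ))) = 8 * a * b * d := by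
    have h1 : (c : ℚ) ^ 3 / (c : ℚ) ^ 2 = c := by
      field_simp
    have hDD : (((a : ℚ) + ((1 : ℤ) : ℚ)) * ((b : ℚ) + (ε : ℚ)) * ((d : ℚ) + ((-1 : ℤ) : ℚ))) ≠ 0 :=
      mul_ne_zero (mul_ne_zero hA hB) hD
    rw [mul_div_assoc, h1] at heq
    push_cast at heq
    have h5 : (3 : ℚ) * n = 8 * (((a : ℚ) * b * d) /
      (((a : ℚ) + 1) * ((b : ℚ) + (ε : ℚ)) * ((d : ℚ) + -1))) := by
      apply mul_right_cancel₀ hcq
      linarith
    push_cast
    have hA' : (a : ℚ) + 1 ≠ 0 := by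
      have := hA
      push_cast at this
      exact this
    have hB' : (b : ℚ) + (ε : ℚ) ≠ 0 := hB
    have hD' : (d : ℚ) + -1 ≠ 0 := by
      have := hD
      push_cast at this
      exact this
    rw [h5]
    field_simp
  have hz : 3 * (n : ℤ) * (((a : ℤ) + 1) * ((b : ℤ) + ε) * ((d : ℤ) - 1)) = 8 * a * b * d := by
    have : ((3 * (n : ℤ) * (((a : ℤ) + 1) * ((b : ℤ) + ε) * ((d : ℤ) - 1)) : ℤ) : ℚ) =
        ((8 * a * b * d : ℤ) : ℚ) := by
      push_cast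
      push_cast at hq
      linarith
    exact_mod_cast this
  have ha1 : (1 : ℤ) ≤ a := by exact_mod_cast Nat.one_le_iff_ne_zero.2 ha
  have hb1 : (1 : ℤ) ≤ b := by exact_mod_cast Nat.one_le_iff_ne_zero.2 hb
  have hd3' : (3 : ℤ) ≤ d := by exact_mod_cast hd3
  have hn5 : (5 : ℤ) ≤ n := by exact_mod_cast hn
  rcases hε with h | h
  · subst h
    exact (int_case_pos a b d n ha1 hb1 hd3' hn5 hz).elim
  · have hb3' : (3 : ℤ) ≤ b := by exact_mod_cast hb3 h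
    subst h
    have := int_case_neg a b d n ha1 hb3' hd3' hz
    have : n ≤ 5 := by exact_mod_cast this
    omega

end Cfsg.Agent.Lib.Helper8.S3278B
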