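import Cfsg.Agent.S3279
import Cfsg.Agent.S0948
import Cfsg.Agent.S4479
import Cfsg.Agent.S0991
import Cfsg.Agent.S0992
import Cfsg.Agent.Lib.helper3.LocalM3
import Cfsg.Agent.Lib.helper3.CentralDefect5
import Cfsg.Agent.Lib.Helper8.S3278A
import Cfsg.Agent.Lib.Helper8.S3278B

set_option autoImplicit false
set_option linter.unusedVariables false
set_option linter.style.haveILetI false

open Cfsg

namespace Cfsg.Agent.Lib.Helper8.S3278C

theorem card_alt_five : Nat.card (alternatingGroup (Fin 5)) = 60 := by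
  have h := two_mul_card_alternatingGroup (α := Fin 5)
  rw [Fintype.card_perm, Fintype.card_fin] at h
  rw [Nat.card_eq_fintype_card]
  have : Nat.factorial 5 = 120 := by decide
  omega

theorem fact_small (n c : ℕ) (hn0 : n ≠ 0) (hc : 4 ≤ c) (h : 3 * n * c ≤ n.factorial) :
    5 ≤ n := by
  by_contra hlt
  have hn4 : n ≤ 4 := by omega
  interval_cases n <;> simp [Nat.factorial] at h <;> omega

theorem card_alt_le (n : ℕ) : Nat.card (alternatingGroup (Fin n)) ≤ n.factorial := by
  have h1 := Subgroup.card_le_card_group (alternatingGroup (Fin n))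
  rw [Nat.card_perm] at h1
  simpa using h1

theorem main {G : Type*} [Group G] [Finite G] [IsSimpleGroup G] (x : G) (hx : orderOf x = 2)
    (S₀ : Subgroup G) (hle : S₀ ≤ Subgroup.centralizer ({x} : Set G)) (hK : IsKleinFour ↥S₀)
    (hodd : ¬ 2 ∣ S₀.relIndex (Subgroup.centralizer ({x} : Set G)))
    (hn : (S₀.subgroupOf (Subgroup.centralizer ({x} : Set G))).Normal) :
    Nonempty (G ≃* ↥(alternatingGroup (Fin 5))) := by
  classical
  have h3 := S3278A.card_involutions_le hK hodd hn
  obtain ⟨⟨S, hSle⟩, hconj⟩ := Cfsg.Agent.S3279.result x hx h3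
  have hS0 : S₀ = (S : Subgroup G) := S3278A.sylow_eq hK hodd hn S hSle
  have hCeq := S3278A.centralizer_eq x hx hK hle hodd hn
  have hxS₀ : x ∈ S₀ := by
    have hxC : x ∈ Subgroup.centralizer ({x} : Set G) := by
      rw [Subgroup.mem_centralizer_singleton_iff]
    have hx2 : x ^ 2 ^ 1 = 1 := by
      have := pow_orderOf_eq_one x
      rwa [hx] at this
    exact S3278A.mem_of_two_power hodd hn hxC hx2
  subst hS0
  have hcard4 : Nat.card (S : Subgroup G) = 4 := hK.card_four
  have h4dvd : 4 ∣ Nat.card G := hcard4 ▸ Subgroup.card_subgroup_dvd_card (S : Subgroup G)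
  have hGpos : 0 < Nat.card G := Nat.card_pos
  -- `G` is not commutative
  have hnc : ¬ IsMulCommutative G := by
    intro hc
    haveI := hc
    letI : CommGroup G := { (inferInstance : Group G) with mul_comm := mul_comm' }
    have hp : (Nat.card G).Prime := IsSimpleGroup.prime_card (α := G)
    rcases (Nat.dvd_prime hp).1 h4dvd with h | h
    · omega
    · rw [← h] at hp
      exact absurd hp (by norm_num)
  have hfac : (Nat.card G).factorization 2 = 2 := by
    have h := S.card_eq_multiplicity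
    rw [hcard4] at h
    have h' : (2 : ℕ) ^ 2 = 2 ^ (Nat.card G).factorization 2 := by
      rw [← h]
      norm_num
    exact (Nat.pow_right_injective (le_refl 2) h').symm
  have h2 : Even (Nat.card G) := even_iff_two_dvd.2 (dvd_trans (by norm_num) h4dvd)
  have h8 : ¬ 8 ∣ Nat.card G := by
    intro h
    have h' : (2 : ℕ) ^ 3 ∣ Nat.card G := by
      norm_num
      exact h
    have h'' := (Nat.Prime.pow_dvd_iff_le_factorization Nat.prime_two hGpos.ne').1 h'
    omega
  obtain ⟨-, hrel⟩ := Cfsg.Agent.S0992.result hnc h2 h8 S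
  -- order of `G`
  have hCN : Subgroup.centralizer ((S : Subgroup G) : Set G) ≤
      Subgroup.normalizer ((S : Subgroup G) : Set G) :=
    Subgroup.centralizer_le_normalizer _
  have hcardG : Nat.card G = 3 * (Subgroup.normalizer ((S : Subgroup G) : Set G)).index *
      Nat.card (Subgroup.centralizer ((S : Subgroup G) : Set G)) := by
    have h1 := Subgroup.relIndex_mul_index hCN
    have h2' := Subgroup.card_mul_index (Subgroup.centralizer ((S : Subgroup G) : Set G))
    rw [← h2', ← h1, hrel]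
    ring
  have hcardG' : Nat.card G = 3 * ((Subgroup.normalizer ((S : Subgroup G) : Set G)).index *
      Nat.card (Subgroup.centralizer ((S : Subgroup G) : Set G))) := by
    rw [hcardG]
    ring
  have hc4 : 4 ∣ Nat.card (Subgroup.centralizer ((S : Subgroup G) : Set G)) := by
    have := Subgroup.card_dvd_of_le hle
    rwa [hcard4, hCeq] at this
  have hcpos : 0 < Nat.card (Subgroup.centralizer ((S : Subgroup G) : Set G)) := Nat.card_pos
  have hc4' : 4 ≤ Nat.card (Subgroup.centralizer ((S : Subgroup G) : Set G)) :=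
    Nat.le_of_dvd hcpos hc4
  have hNtop : Subgroup.normalizer ((S : Subgroup G) : Set G) ≠ ⊤ := by
    intro htop
    have hnorm : (S : Subgroup G).Normal := Subgroup.normalizer_eq_top_iff.1 htop
    rcases hnorm.eq_bot_or_eq_top with h | h
    · rw [h, Subgroup.card_bot] at hcard4
      omega
    · rw [h, Subgroup.card_top] at hcard4
      rw [hcard4] at hcardG'
      omega
  have hidx0 : (Subgroup.normalizer ((S : Subgroup G) : Set G)).index ≠ 0 :=
    Subgroup.index_ne_zero_of_finite
  obtain ⟨f, hf⟩ := Cfsg.Agent.S0991.result hnc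
    (Subgroup.normalizer ((S : Subgroup G) : Set G)) hNtop
  have hbound : 3 * (Subgroup.normalizer ((S : Subgroup G) : Set G)).index *
      Nat.card (Subgroup.centralizer ((S : Subgroup G) : Set G)) ≤
      ((Subgroup.normalizer ((S : Subgroup G) : Set G)).index).factorial := by
    rw [← hcardG]
    exact (Nat.card_le_card_of_injective f hf).trans (card_alt_le _)
  have hn5 := fact_small _ _ hidx0 hc4' hbound
  -- block theory
  obtain ⟨M, hM⟩ := Cfsg.Agent.Lib.helper3.LocalM.exists_isPModular 2 Nat.prime_two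
  obtain ⟨ζ₂, ζ₃, ζ₄, ε, hε, hζ₂, hζ₃, h23, h24, h34, hB, hval, hd2, hd3, hd4, -⟩ :=
    Cfsg.Agent.S0948.result M hM S hK hconj
  have hζ₄ : (ζ₄ : G → ℂ) ≠ (fun _ => 1) := by
    intro h
    have := (hval x hx).2.2
    rw [h] at this
    norm_num at this
  obtain ⟨g₀, hg₀⟩ := h4dvd
  have hg₀odd : Odd g₀ := by
    rw [← Nat.not_even_iff_odd]
    rintro ⟨k, hk⟩
    exact h8 ⟨k, by omega⟩
  have hnc' : ¬ ∃ N : Subgroup G, N.Normal ∧ Nat.card N = g₀ := by
    rintro ⟨N', hN', hcard⟩
    rcases hN'.eq_bot_or_eq_top with h | h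
    · rw [h, Subgroup.card_bot] at hcard
      rw [hcardG'] at hg₀
      omega
    · rw [h, Subgroup.card_top] at hcard
      omega
  have hform := Cfsg.Agent.S4479.result M hM g₀ hg₀odd hg₀ hnc' S x hxS₀ hx ζ₂ ζ₃ ζ₄ 1 ε (-1) hB
    ⟨hζ₂, hζ₃, hζ₄, h23, h24, h34⟩ ⟨Or.inl rfl, hε, Or.inr rfl⟩
    ⟨by rw [(hval x hx).1]; norm_num, (hval x hx).2.1, by rw [(hval x hx).2.2]; norm_num⟩
  rw [hCeq, hcardG] at hform
  haveI : Fintype G := Fintype.ofFinite G
  have hidx : (Subgroup.normalizer ((S : Subgroup G) : Set G)).index = 5 :=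
    S3278B.key (charDegree (ζ₂ : G → ℂ)) (charDegree (ζ₃ : G → ℂ)) (charDegree (ζ₄ : G → ℂ))
      _ _ 1 ε (-1) rfl hε rfl
      (Cfsg.Agent.Lib.helper3.Block.charDegree_ne_zero ζ₂)
      (Cfsg.Agent.Lib.helper3.Block.charDegree_ne_zero ζ₃)
      (Cfsg.Agent.Lib.helper3.Block.charDegree_ne_zero ζ₄) hcpos.ne' hd2 hd3 hd4 hn5 hform
  -- conclusion
  obtain ⟨f', hf'⟩ : ∃ f : G →* ↥(alternatingGroup (Fin 5)), Function.Injective f := by
    rw [← hidx]
    exact ⟨f, hf⟩
  have hle60 : Nat.card G ≤ 60 := by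
    rw [← card_alt_five]
    exact Nat.card_le_card_of_injective f' hf'
  have hG60 : Nat.card G = Nat.card (alternatingGroup (Fin 5)) := by
    rw [card_alt_five]
    rw [hidx] at hcardG
    omega
  have hbij : Function.Bijective f' :=
    (Nat.bijective_iff_injective_and_card f').2 ⟨hf', hG60⟩
  exact ⟨MulEquiv.ofBijective f' hbij⟩

end Cfsg.Agent.Lib.Helper8.S3278C
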