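import Mathlib

/-! Reduction of S4274 (order `175560 = 19 * 9240`) to the non-existence of simple groups of
order `19 * m`, `m ∣ 9240`, `1 < m < 9240` (helper8). -/

set_option autoImplicit false
set_option linter.unusedSectionVars false

namespace Cfsg.Agent.Lib.Helper8.S4274Red

universe u

section coprime

variable {H : Type u} [Group H]

/-- An element with `x ^ p = 1` (`p` prime) whose conjugation maps a finite set of fewer than `p`
elements into itself commutes with every element of that set. -/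
theorem commute_of_small {p : ℕ} (hp : p.Prime) (x : H) (hx : x ^ p = 1) (S : Finset H)
    (hcard : S.card < p) (hconj : ∀ s ∈ S, x * s * x⁻¹ ∈ S) (s : H) (hs : s ∈ S) :
    x * s = s * x := by
  have hiter : ∀ i : ℕ, x ^ i * s * (x ^ i)⁻¹ ∈ S := by
    intro i
    induction i with
    | zero => simpa using hs
    | succ i ih =>
      have := hconj _ ih
      have h2 : x ^ (i + 1) * s * (x ^ (i + 1))⁻¹ = x * (x ^ i * s * (x ^ i)⁻¹) * x⁻¹ := by
        rw [pow_succ']; group
      rw [h2]; exact this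
  have hlt : S.card < (Finset.range p).card := by rw [Finset.card_range]; exact hcard
  obtain ⟨i, hi, j, hj, hij, heq⟩ := Finset.exists_ne_map_eq_of_card_lt_of_maps_to hlt
    (f := fun i => x ^ i * s * (x ^ i)⁻¹) (fun i _ => hiter i)
  simp only [Finset.mem_range] at hi hj
  -- a power `x ^ d`, `0 < d < p`, commutes with `s`
  have key : ∀ i j : ℕ, i < j → j < p → x ^ i * s * (x ^ i)⁻¹ = x ^ j * s * (x ^ j)⁻¹ →
      x * s = s * x := by
    intro i j hij hj heq
    have hd : x ^ (j - i) * s = s * x ^ (j - i) := by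
      have hji : x ^ j = x ^ i * x ^ (j - i) := by rw [← pow_add]; congr 1; omega
      rw [hji] at heq
      have h3 : s = x ^ (j - i) * s * (x ^ (j - i))⁻¹ := by
        have := congrArg (fun t => (x ^ i)⁻¹ * t * x ^ i) heq
        beta_reduce at this
        have e1 : (x ^ i)⁻¹ * (x ^ i * s * (x ^ i)⁻¹) * x ^ i = s := by group
        have e2 : (x ^ i)⁻¹ * (x ^ i * x ^ (j - i) * s * (x ^ i * x ^ (j - i))⁻¹) * x ^ i
            = x ^ (j - i) * s * (x ^ (j - i))⁻¹ := by group
        rw [e1, e2] at this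
        exact this
      calc x ^ (j - i) * s = x ^ (j - i) * s * (x ^ (j - i))⁻¹ * x ^ (j - i) := by group
        _ = s * x ^ (j - i) := by rw [← h3]
    have hd0 : 0 < j - i := by omega
    have hdp : j - i < p := by omega
    have hcop : Nat.Coprime (j - i) p :=
      ((Nat.Prime.coprime_iff_not_dvd hp).2 (Nat.not_dvd_of_pos_of_lt hd0 hdp)).symm
    obtain ⟨a, -, ha⟩ := Nat.exists_mul_mod_eq_one_of_coprime hcop hp.one_lt
    have hc : Commute (x ^ (j - i)) s := hd
    have hc2 : Commute ((x ^ (j - i)) ^ a) s := hc.pow_left a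
    have hx' : (x ^ (j - i)) ^ a = x := by
      rw [← pow_mul, pow_eq_pow_mod _ hx, ha, pow_one]
    rw [hx'] at hc2
    exact hc2
  rcases Nat.lt_or_gt_of_ne hij with h | h
  · exact key i j h hj heq
  · exact key j i h hi heq.symm

end coprime

section central

variable {H : Type u} [Group H] [Finite H]

/-- Frattini + coprime action on a small Sylow subgroup: a Sylow `p`-subgroup `P` of prime order
centralizes some Sylow `q`-subgroup of the normal `p'`-subgroup `N`, if that has order `< p`. -/
theorem exists_centralized_sylow {p q : ℕ} [hp : Fact p.Prime] [hq : Fact q.Prime]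
    (N : Subgroup H) [N.Normal] (P : Sylow p H) (hP : Nat.card (P : Subgroup H) = p)
    (hpN : ¬ p ∣ Nat.card N) (hsmall : q ^ (Nat.card N).factorization q < p) :
    ∃ Q : Subgroup H, Q ≤ N ∧ Nat.card Q = q ^ (Nat.card N).factorization q ∧
      ∀ y ∈ (P : Subgroup H), ∀ s ∈ Q, y * s = s * y := by
  classical
  obtain ⟨Q0⟩ : Nonempty (Sylow q N) := inferInstance
  obtain ⟨Q', hQ'⟩ : ∃ Q' : Subgroup H, Q' = (Q0 : Subgroup N).map N.subtype := ⟨_, rfl⟩
  have hQ'card : Nat.card Q' = q ^ (Nat.card N).factorization q := by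
    rw [hQ', Subgroup.card_map_of_injective N.subtype_injective]
    exact Q0.card_eq_multiplicity
  have hQ'N : Q' ≤ N := by
    rw [hQ']; exact Subgroup.map_subtype_le _
  have hfr : Subgroup.normalizer (Q' : Set H) ⊔ N = ⊤ := by
    rw [hQ']; exact Sylow.normalizer_sup_eq_top Q0
  obtain ⟨M, hM⟩ : ∃ M : Subgroup H, M = Subgroup.normalizer (Q' : Set H) := ⟨_, rfl⟩
  rw [← hM] at hfr
  have hidx : N.index ∣ Nat.card M := by
    have h1 : N.relIndex (M ⊔ N) = N.relIndex M := Subgroup.relIndex_sup_right M N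
    rw [hfr, Subgroup.relIndex_top_right] at h1
    rw [h1]; exact Subgroup.relIndex_dvd_card N M
  have hpidx : p ∣ N.index := by
    have h1 : Nat.card N * N.index = Nat.card H := N.card_mul_index
    have h2 : p ∣ Nat.card H := by
      rw [← hP]; exact Subgroup.card_subgroup_dvd_card _
    rw [← h1] at h2
    exact ((Nat.Prime.dvd_mul hp.out).1 h2).resolve_left hpN
  have hpM : p ∣ Nat.card M := hpidx.trans hidx
  obtain ⟨x, hx⟩ := exists_prime_orderOf_dvd_card' p hpM
  have hxo : orderOf (x : H) = p := by rw [Subgroup.orderOf_coe]; exact hx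
  have hxM : (x : H) ∈ Subgroup.normalizer (Q' : Set H) := hM ▸ x.2
  -- x commutes with Q'
  have hxc : ∀ s ∈ Q', (x : H) * s = s * (x : H) := by
    intro s hs
    have hfin : (Q' : Set H).Finite := Set.toFinite _
    refine commute_of_small hp.out (x : H) (by rw [← hxo]; exact pow_orderOf_eq_one _)
      hfin.toFinset ?_ ?_ s (by simpa using hs)
    · rw [← Set.ncard_eq_toFinset_card _ hfin]
      have : (Q' : Set H).ncard = Nat.card Q' := by
        rw [← Nat.card_coe_set_eq]; rfl
      rw [this, hQ'card]; exact hsmall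
    · intro t ht
      simp only [Set.Finite.mem_toFinset, SetLike.mem_coe] at ht ⊢
      exact (Subgroup.mem_normalizer_iff.1 hxM t).1 ht
  -- Sylow conjugacy
  have hpg : IsPGroup p (Subgroup.zpowers (x : H)) := by
    apply IsPGroup.of_card (n := 1)
    rw [Nat.card_zpowers, hxo, pow_one]
  obtain ⟨Px, hPx⟩ := hpg.exists_le_sylow
  obtain ⟨g, hg⟩ := MulAction.exists_smul_eq H Px P
  have hxPx : (x : H) ∈ Px := hPx (Subgroup.mem_zpowers _)
  have hzP : g * (x : H) * g⁻¹ ∈ (P : Subgroup H) := by
    rw [← hg, Sylow.smul_def]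
    rw [Sylow.pointwise_smul_def]
    exact Subgroup.mem_map.2 ⟨x, hxPx, by simp [MulAut.conj_apply]⟩
  obtain ⟨z, hz⟩ : ∃ z : H, z = g * (x : H) * g⁻¹ := ⟨_, rfl⟩
  rw [← hz] at hzP
  have hz1 : z ≠ 1 := by
    intro h
    rw [hz] at h
    have : (x : H) = 1 := by
      have := congrArg (fun t => g⁻¹ * t * g) h
      simpa [mul_assoc] using this
    rw [this, orderOf_one] at hxo
    exact hp.out.one_lt.ne hxo
  refine ⟨Q'.map (MulAut.conj g).toMonoidHom, ?_, ?_, ?_⟩
  · rintro t ⟨s, hs, rfl⟩
    have hsN : s ∈ N := hQ'N hs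
    simp only [MulEquiv.coe_toMonoidHom, MulAut.conj_apply]
    exact ‹N.Normal›.conj_mem s hsN g
  · rw [Subgroup.card_map_of_injective (MulAut.conj g).injective, hQ'card]
  · intro y hy t ht
    obtain ⟨s, hs, rfl⟩ := ht
    simp only [MulEquiv.coe_toMonoidHom, MulAut.conj_apply]
    -- y is a power of z
    have hmem : (⟨y, hy⟩ : (P : Subgroup H)) ∈ Subgroup.zpowers (⟨z, hzP⟩ : (P : Subgroup H)) :=
      mem_zpowers_of_prime_card hP (by intro h; exact hz1 (congrArg Subtype.val h))
    obtain ⟨k, hk⟩ := Subgroup.mem_zpowers_iff.1 hmem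
    have hk' : z ^ k = y := by
      have := congrArg Subtype.val hk
      simpa using this
    have hcz : Commute z (g * s * g⁻¹) := by
      show z * (g * s * g⁻¹) = g * s * g⁻¹ * z
      rw [hz]
      have := hxc s hs
      calc g * (x : H) * g⁻¹ * (g * s * g⁻¹) = g * ((x : H) * s) * g⁻¹ := by group
        _ = g * (s * (x : H)) * g⁻¹ := by rw [this]
        _ = g * s * g⁻¹ * (g * (x : H) * g⁻¹) := by group
    have := hcz.zpow_left k
    rw [hk'] at this
    exact this

/-- A Sylow `p`-subgroup of prime order centralizes a normal `p'`-subgroup all of whose Sylow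
subgroups have order less than `p`. -/
theorem normal_le_centralizer {p : ℕ} [hp : Fact p.Prime]
    (N : Subgroup H) [N.Normal] (P : Sylow p H) (hP : Nat.card (P : Subgroup H) = p)
    (hpN : ¬ p ∣ Nat.card N)
    (hsmall : ∀ q : ℕ, q.Prime → q ^ (Nat.card N).factorization q < p) :
    ∀ y ∈ (P : Subgroup H), ∀ n ∈ N, y * n = n * y := by
  classical
  obtain ⟨C, hC⟩ : ∃ C : Subgroup H,
      C = N ⊓ Subgroup.centralizer ((P : Subgroup H) : Set H) := ⟨_, rfl⟩
  have hCN : C ≤ N := hC ▸ inf_le_left
  have hdvd : Nat.card N ∣ Nat.card C := by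
    have hN0 : Nat.card N ≠ 0 := Nat.card_pos.ne'
    have hC0 : Nat.card C ≠ 0 := Nat.card_pos.ne'
    rw [← Nat.factorization_le_iff_dvd hN0 hC0]
    intro q
    by_cases hq : q.Prime
    · have : Fact q.Prime := ⟨hq⟩
      obtain ⟨Q, hQN, hQc, hQcomm⟩ := exists_centralized_sylow N P hP hpN (hsmall q hq)
      have hQC : Q ≤ C := by
        intro s hs
        rw [hC]
        refine Subgroup.mem_inf.2 ⟨hQN hs, ?_⟩
        rw [Subgroup.mem_centralizer_iff]
        intro y hy
        exact hQcomm y hy s hs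
      have : q ^ (Nat.card N).factorization q ∣ Nat.card C := by
        rw [← hQc]; exact Subgroup.card_dvd_of_le hQC
      exact (hq.pow_dvd_iff_le_factorization hC0).1 this
    · rw [Nat.factorization_eq_zero_of_not_prime _ hq]; exact Nat.zero_le _
  have heq : C = N := Subgroup.eq_of_le_of_card_ge hCN (Nat.le_of_dvd Nat.card_pos hdvd)
  intro y hy n hn
  have hnC : n ∈ C := heq ▸ hn
  rw [hC] at hnC
  exact (Subgroup.mem_centralizer_iff.1 (Subgroup.mem_inf.1 hnC).2) y hy

end central

/-- "At most one subgroup of order 19". -/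
def Uniq19 (H : Type u) [Group H] : Prop :=
  ∀ x y : H, orderOf x = 19 → orderOf y = 19 → y ∈ Subgroup.zpowers x

local instance fact19 : Fact (Nat.Prime 19) := ⟨by norm_num⟩

theorem small_of_dvd {d : ℕ} (hd : d ∣ 9240) (q : ℕ) (hq : q.Prime) :
    q ^ d.factorization q < 19 := by
  have hd0 : d ≠ 0 := by rintro rfl; simp at hd
  have h1 : q ^ d.factorization q ∣ 9240 := (Nat.ordProj_dvd d q).trans hd
  rcases Nat.eq_zero_or_pos (d.factorization q) with h0 | hpos
  · rw [h0, pow_zero]; norm_num
  have hq9240 : q ∣ 9240 := (dvd_pow_self q hpos.ne').trans h1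
  have hq' : q = 2 ∨ q = 3 ∨ q = 5 ∨ q = 7 ∨ q = 11 := by
    have h9240 : (9240 : ℕ) = 2 * 2 * 2 * 3 * 5 * 7 * 11 := by norm_num
    rw [h9240] at hq9240
    have e := fun a b => (Nat.Prime.dvd_mul hq (m := a) (n := b)).1
    have c := fun (r : ℕ) (hr : r.Prime) (h : q ∣ r) => (Nat.prime_dvd_prime_iff_eq hq hr).1 h
    rcases e _ _ hq9240 with h | h
    · rcases e _ _ h with h | h
      · rcases e _ _ h with h | h
        · rcases e _ _ h with h | h
          · rcases e _ _ h with h | h
            · rcases e _ _ h with h | h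
              · exact Or.inl (c 2 Nat.prime_two h)
              · exact Or.inl (c 2 Nat.prime_two h)
            · exact Or.inl (c 2 Nat.prime_two h)
          · exact Or.inr (Or.inl (c 3 Nat.prime_three h))
        · exact Or.inr (Or.inr (Or.inl (c 5 Nat.prime_five h)))
      · exact Or.inr (Or.inr (Or.inr (Or.inl (c 7 (by norm_num) h))))
    · exact Or.inr (Or.inr (Or.inr (Or.inr (c 11 (by norm_num) h))))
  have bound : ∀ (k : ℕ), ¬ q ^ (k + 1) ∣ 9240 → d.factorization q ≤ k := by
    intro k hk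
    by_contra hlt
    push Not at hlt
    exact hk ((pow_dvd_pow q hlt).trans h1)
  rcases hq' with rfl | rfl | rfl | rfl | rfl
  · have := bound 3 (by norm_num)
    calc 2 ^ d.factorization 2 ≤ 2 ^ 3 := Nat.pow_le_pow_right (by norm_num) this
      _ < 19 := by norm_num
  · have := bound 1 (by norm_num)
    calc 3 ^ d.factorization 3 ≤ 3 ^ 1 := Nat.pow_le_pow_right (by norm_num) this
      _ < 19 := by norm_num
  · have := bound 1 (by norm_num)
    calc 5 ^ d.factorization 5 ≤ 5 ^ 1 := Nat.pow_le_pow_right (by norm_num) this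
      _ < 19 := by norm_num
  · have := bound 1 (by norm_num)
    calc 7 ^ d.factorization 7 ≤ 7 ^ 1 := Nat.pow_le_pow_right (by norm_num) this
      _ < 19 := by norm_num
  · have := bound 1 (by norm_num)
    calc 11 ^ d.factorization 11 ≤ 11 ^ 1 := Nat.pow_le_pow_right (by norm_num) this
      _ < 19 := by norm_num

theorem not19_of_dvd {d : ℕ} (hd : d ∣ 9240) : ¬ 19 ∣ d := by
  intro h
  have := h.trans hd
  norm_num at this

section
variable {H : Type u} [Group H] [Finite H]

/-- In a group of order `19 * m`, `19 ∤ m`, an element of order 19 lies in a Sylow subgroup of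
order 19. -/
theorem exists_sylow_of_order {m : ℕ} (hH : Nat.card H = 19 * m) (hm : ¬ 19 ∣ m) (x : H)
    (hx : orderOf x = 19) :
    ∃ P : Sylow 19 H, Nat.card (P : Subgroup H) = 19 ∧ x ∈ (P : Subgroup H) := by
  have hpg : IsPGroup 19 (Subgroup.zpowers x) := by
    apply IsPGroup.of_card (n := 1)
    rw [Nat.card_zpowers, hx, pow_one]
  obtain ⟨P, hP⟩ := hpg.exists_le_sylow
  refine ⟨P, ?_, hP (Subgroup.mem_zpowers x)⟩
  rw [P.card_eq_multiplicity, hH]
  have hm0 : m ≠ 0 := by rintro rfl; simp at hm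
  rw [Nat.factorization_mul (by norm_num) hm0]
  simp only [Finsupp.coe_add, Pi.add_apply]
  rw [Nat.Prime.factorization_self (by norm_num), Nat.factorization_eq_zero_of_not_dvd hm]
  norm_num

theorem step {m : ℕ} (hm : m ∣ 9240) (hH : Nat.card H = 19 * m)
    (N : Subgroup H) [hNn : N.Normal] (hNbot : N ≠ ⊥) (hNtop : N ≠ ⊤)
    (IH : ∀ m' : ℕ, m' ∣ 9240 → m' < m → ∀ (H' : Type u) [Group H'] [Finite H'],
      Nat.card H' = 19 * m' → Uniq19 H') : Uniq19 H := by
  have hm19 : ¬ 19 ∣ m := not19_of_dvd hm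
  have hm0 : 0 < m := Nat.pos_of_dvd_of_pos hm (by norm_num)
  have hNcard : Nat.card N ∣ 19 * m := hH ▸ Subgroup.card_subgroup_dvd_card N
  have hN1 : Nat.card N ≠ 1 := fun h => hNbot (Subgroup.card_eq_one.1 h)
  have hNlt : Nat.card N < 19 * m := by
    rw [← hH]
    exact lt_of_le_of_ne (Subgroup.card_le_card_group N)
      (fun h => hNtop ((Subgroup.card_eq_iff_eq_top N).1 h))
  intro x y hx hy
  by_cases h19 : 19 ∣ Nat.card N
  · obtain ⟨m', hm'⟩ := h19
    have hm'm : m' ∣ m := by
      rw [hm'] at hNcard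
      exact Nat.dvd_of_mul_dvd_mul_left (by norm_num) hNcard
    have hm'lt : m' < m := by omega
    have hU := IH m' (hm'm.trans hm) hm'lt N hm'
    have hmem : ∀ z : H, orderOf z = 19 → z ∈ N := by
      intro z hz
      obtain ⟨w, hw⟩ := exists_prime_orderOf_dvd_card' 19 (show 19 ∣ Nat.card N from ⟨m', hm'⟩)
      have hwo : orderOf (w : H) = 19 := by rw [Subgroup.orderOf_coe]; exact hw
      obtain ⟨P1, hP1, hwP1⟩ := exists_sylow_of_order hH hm19 (w : H) hwo
      obtain ⟨P2, hP2, hzP2⟩ := exists_sylow_of_order hH hm19 z hz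
      obtain ⟨g, hg⟩ := MulAction.exists_smul_eq H P1 P2
      have hP1N : (P1 : Subgroup H) ≤ N := by
        intro t ht
        have hmem : (⟨t, ht⟩ : (P1 : Subgroup H)) ∈
            Subgroup.zpowers (⟨w, hwP1⟩ : (P1 : Subgroup H)) :=
          mem_zpowers_of_prime_card hP1 (by
            intro h
            have h1 : (w : H) = 1 := congrArg Subtype.val h
            rw [h1, orderOf_one] at hwo; norm_num at hwo)
        obtain ⟨k, hk⟩ := Subgroup.mem_zpowers_iff.1 hmem
        have h2 : (w : H) ^ k = t := by simpa using congrArg Subtype.val hk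
        rw [← h2]; exact N.zpow_mem w.2 k
      rw [← hg, Sylow.smul_def, Sylow.pointwise_smul_def] at hzP2
      obtain ⟨t, ht, rfl⟩ := Subgroup.mem_map.1 hzP2
      show g * t * g⁻¹ ∈ N
      exact hNn.conj_mem t (hP1N ht) g
    have hxN := hmem x hx
    have hyN := hmem y hy
    have h3 := hU ⟨x, hxN⟩ ⟨y, hyN⟩ (by rw [← Subgroup.orderOf_coe]; exact hx)
      (by rw [← Subgroup.orderOf_coe]; exact hy)
    obtain ⟨k, hk⟩ := Subgroup.mem_zpowers_iff.1 h3
    exact Subgroup.mem_zpowers_iff.2 ⟨k, by simpa using congrArg Subtype.val hk⟩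
  · have hcop : Nat.Coprime (Nat.card N) 19 :=
      ((Nat.Prime.coprime_iff_not_dvd (by norm_num)).2 h19).symm
    have hkm : Nat.card N ∣ m := hcop.dvd_of_dvd_mul_left hNcard
    obtain ⟨m'', hm''⟩ := hkm
    have hk0 : 0 < Nat.card N := Nat.card_pos
    have hm''lt : m'' < m := by
      rw [hm'']
      have : 2 ≤ Nat.card N := by omega
      have hm''0 : 0 < m'' := by
        rcases Nat.eq_zero_or_pos m'' with h | h
        · rw [h, mul_zero] at hm''; omega
        · exact h
      nlinarith
    have hm''dvd : m'' ∣ 9240 := (Dvd.intro_left _ hm''.symm).trans hm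
    have hquot : Nat.card (H ⧸ N) = 19 * m'' := by
      have h1 : Nat.card N * N.index = Nat.card H := N.card_mul_index
      rw [hH, hm''] at h1
      have h2 : Nat.card N * N.index = Nat.card N * (19 * m'') := by rw [h1]; ring
      have := Nat.eq_of_mul_eq_mul_left hk0 h2
      rw [← this]; rfl
    have hU := IH m'' hm''dvd hm''lt (H ⧸ N) hquot
    have hord : ∀ z : H, orderOf z = 19 → orderOf (QuotientGroup.mk z : H ⧸ N) = 19 := by
      intro z hz
      have h1 : orderOf (QuotientGroup.mk z : H ⧸ N) ∣ 19 := by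
        apply orderOf_dvd_of_pow_eq_one
        rw [← QuotientGroup.mk_pow, ← hz, pow_orderOf_eq_one]; rfl
      rcases (Nat.dvd_prime (by norm_num)).1 h1 with h | h
      · exfalso
        rw [orderOf_eq_one_iff, QuotientGroup.eq_one_iff] at h
        have h2 : orderOf (⟨z, h⟩ : N) ∣ Nat.card N := orderOf_dvd_natCard _
        rw [← Subgroup.orderOf_coe] at h2
        simp only at h2
        rw [hz] at h2
        exact h19 h2
      · exact h
    have h3 := hU (QuotientGroup.mk x) (QuotientGroup.mk y) (hord x hx) (hord y hy)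
    obtain ⟨j, hj⟩ := Subgroup.mem_zpowers_iff.1 h3
    rw [← QuotientGroup.mk_zpow] at hj
    have hn : (x ^ j)⁻¹ * y ∈ N := QuotientGroup.eq.1 hj
    obtain ⟨P, hP, hxP⟩ := exists_sylow_of_order hH hm19 x hx
    have hcent := normal_le_centralizer N P hP h19
      (fun q hq => small_of_dvd ((Dvd.intro _ hm''.symm).trans hm) q hq)
    have hcomm : Commute (x ^ j) ((x ^ j)⁻¹ * y) :=
      hcent _ ((P : Subgroup H).zpow_mem hxP j) _ hn
    have hy19 : y ^ 19 = 1 := by rw [← hy]; exact pow_orderOf_eq_one y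
    have hx19 : (x ^ j) ^ 19 = 1 := by
      rw [← zpow_natCast, ← zpow_mul, mul_comm, zpow_mul, zpow_natCast, ← hx, pow_orderOf_eq_one,
        one_zpow]
    have hn19 : ((x ^ j)⁻¹ * y) ^ 19 = 1 := by
      have h4 : y = x ^ j * ((x ^ j)⁻¹ * y) := by group
      have h5 : y ^ 19 = (x ^ j) ^ 19 * ((x ^ j)⁻¹ * y) ^ 19 := by
        conv_lhs => rw [h4]
        exact hcomm.mul_pow 19
      rw [hy19, hx19, one_mul] at h5
      exact h5.symm
    have hn1 : (x ^ j)⁻¹ * y = 1 := by
      have h6 : orderOf ((x ^ j)⁻¹ * y) ∣ 19 := orderOf_dvd_of_pow_eq_one hn19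
      have h7 : orderOf ((x ^ j)⁻¹ * y) ∣ Nat.card N := by
        have := orderOf_dvd_natCard (⟨_, hn⟩ : N)
        rwa [← Subgroup.orderOf_coe] at this
      have h8 : orderOf ((x ^ j)⁻¹ * y) ∣ Nat.gcd (Nat.card N) 19 := Nat.dvd_gcd h7 h6
      rw [hcop.gcd_eq_one, Nat.dvd_one, orderOf_eq_one_iff] at h8
      exact h8
    have : y = x ^ j := by
      have := congrArg (fun t => x ^ j * t) hn1
      simpa using this
    rw [this]
    exact Subgroup.zpow_mem_zpowers x j

theorem uniq_of_prime_card (hH : Nat.card H = 19) : Uniq19 H := by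
  intro x y hx hy
  exact mem_zpowers_of_prime_card hH (by intro h; rw [h, orderOf_one] at hx; norm_num at hx)

theorem exists_normal_of_not_simple [Nontrivial H] (hs : ¬ IsSimpleGroup H) :
    ∃ N : Subgroup H, N.Normal ∧ N ≠ ⊥ ∧ N ≠ ⊤ := by
  by_contra hcon
  push Not at hcon
  exact hs { eq_bot_or_eq_top_of_normal := fun N hN => by
              by_cases h : N = ⊥
              · exact Or.inl h
              · exact Or.inr (hcon N hN h) }

theorem normal_of_uniq (hU : Uniq19 H) (P : Sylow 19 H) (hP : Nat.card (P : Subgroup H) = 19) :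
    (P : Subgroup H).Normal := by
  refine ⟨fun y hy g => ?_⟩
  by_cases hy1 : y = 1
  · subst hy1; simp [one_mem]
  · have hyo : orderOf y = 19 := by
      have h1 : orderOf (⟨y, hy⟩ : (P : Subgroup H)) ∣ 19 := by
        have := orderOf_dvd_natCard (⟨y, hy⟩ : (P : Subgroup H))
        rwa [hP] at this
      rw [← Subgroup.orderOf_coe] at h1
      rcases (Nat.dvd_prime (by norm_num)).1 h1 with h | h
      · exact absurd (orderOf_eq_one_iff.1 h) hy1
      · exact h
    have hgo : orderOf (g * y * g⁻¹) = 19 := by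
      rw [← MulAut.conj_apply, MulEquiv.orderOf_eq]; exact hyo
    exact (Subgroup.zpowers_le.2 hy) (hU y (g * y * g⁻¹) hyo hgo)

end

theorem main_induction
    (hns : ∀ m : ℕ, m ∣ 9240 → m ≠ 1 → m ≠ 9240 →
      ∀ (H : Type u) [Group H] [Finite H] [IsSimpleGroup H], Nat.card H ≠ 19 * m) :
    ∀ m : ℕ, m ∣ 9240 → m ≠ 9240 → ∀ (H : Type u) [Group H] [Finite H],
      Nat.card H = 19 * m → Uniq19 H := by
  intro m
  induction m using Nat.strong_induction_on with
  | _ m ih =>
    intro hm hm9 H _ _ hH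
    by_cases hs : IsSimpleGroup H
    · by_cases h1 : m = 1
      · subst h1; exact uniq_of_prime_card (by simpa using hH)
      · exact absurd hH (hns m hm h1 hm9 H)
    · have hm0 : 0 < m := Nat.pos_of_dvd_of_pos hm (by norm_num)
      have hnt : Nontrivial H := by
        rw [← Finite.one_lt_card_iff_nontrivial, hH]; omega
      obtain ⟨N, hN, hb, ht⟩ := exists_normal_of_not_simple hs
      exact step hm hH N hb ht (fun m' hm' hlt H' _ _ hH' =>
        ih m' hlt hm' (ne_of_lt (lt_of_lt_of_le hlt (Nat.le_of_dvd (by norm_num) hm))) H' hH')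

theorem reduction
    (hns : ∀ m : ℕ, m ∣ 9240 → m ≠ 1 → m ≠ 9240 →
      ∀ (H : Type u) [Group H] [Finite H] [IsSimpleGroup H], Nat.card H ≠ 19 * m)
    {G : Type u} [Group G] [Finite G] (hG : Nat.card G = 175560) :
    IsSimpleGroup G ∨ ∀ P : Sylow 19 G, (P : Subgroup G).Normal := by
  by_cases hs : IsSimpleGroup G
  · exact Or.inl hs
  · right
    have hH : Nat.card G = 19 * 9240 := by rw [hG]
    have hnt : Nontrivial G := by
      rw [← Finite.one_lt_card_iff_nontrivial, hG]; norm_num
    obtain ⟨N, hN, hb, ht⟩ := exists_normal_of_not_simple hs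
    have hU : Uniq19 G := step (dvd_refl _) hH N hb ht (fun m' hm' hlt H' _ _ hH' =>
      main_induction hns m' hm' (ne_of_lt hlt) H' hH')
    intro P
    apply normal_of_uniq hU P
    rw [P.card_eq_multiplicity, hH]
    rw [Nat.factorization_mul (by norm_num) (by norm_num)]
    simp only [Finsupp.coe_add, Pi.add_apply]
    rw [Nat.Prime.factorization_self (by norm_num),
      Nat.factorization_eq_zero_of_not_dvd (by norm_num)]
    norm_num

end Cfsg.Agent.Lib.Helper8.S4274Red
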