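import Mathlib

/-!
Arithmetic endgames for S4721 (abelian Sylow, Frobenius normalizer of index 3).
-/

namespace Cfsg.Agent.Lib.Helper8.S4721Arith

/-- the final case of `p = 2`: positive integers with `f = 1 + a - b` and
`(a b + b - a) f = 9 a b` are `a = 15, b = 6, f = 10`. -/
theorem arith_two_aux (a b f : ℤ) (ha : 1 ≤ a) (hb : 1 ≤ b) (hf : 1 ≤ f)
    (h1 : 1 + a - b = f) (h2 : (a * b + b - a) * f = 9 * (a * b)) :
    a = 15 ∧ b = 6 ∧ f = 10 := by
  have ha' : a = b + f - 1 := by linarith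
  subst ha'
  have key : (f - 9) * (b ^ 2 + (f - 1) * b) = f * (f - 1) := by nlinarith
  have hpos : 0 < b ^ 2 + (f - 1) * b := by nlinarith
  have hf9 : 10 ≤ f := by
    by_contra hlt
    push Not at hlt
    have : f - 9 ≤ 0 := by linarith
    have h3 : (f - 9) * (b ^ 2 + (f - 1) * b) ≤ 0 :=
      mul_nonpos_of_nonpos_of_nonneg this hpos.le
    have h4 : 0 ≤ f * (f - 1) := by nlinarith
    have h5 : f * (f - 1) = 0 := by linarith
    have : f = 1 := by
      rcases mul_eq_zero.mp h5 with h | h <;> linarith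
    subst this
    nlinarith
  have hb2 : 2 ≤ b := by
    by_contra hlt
    push Not at hlt
    have : b = 1 := by linarith
    subst this
    nlinarith
  have hf16 : f ≤ 16 := by
    by_contra hlt
    push Not at hlt
    have h6 : 2 * f + 2 ≤ b ^ 2 + (f - 1) * b := by nlinarith
    have h7 : (f - 9) * (2 * f + 2) ≤ (f - 9) * (b ^ 2 + (f - 1) * b) :=
      mul_le_mul_of_nonneg_left h6 (by linarith)
    nlinarith
  have hb15 : b ≤ 15 := by
    by_contra hlt
    push Not at hlt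
    have h8 : 256 ≤ b ^ 2 := by nlinarith
    have h9 : 256 ≤ b ^ 2 + (f - 1) * b := by nlinarith
    have h10 : (f - 9) * 256 ≤ (f - 9) * (b ^ 2 + (f - 1) * b) :=
      mul_le_mul_of_nonneg_left h9 (by linarith)
    nlinarith
  interval_cases f <;> interval_cases b <;> simp_all


/-- Case `p = 2` of S4721, Part 2: from (i) `1 + a₂x₂ + a₃x₃ = δ f` and (ii)
`1 + a₂/x₂ + a₃/x₃ = 9δ/f` (cleared of denominators) and `t ∉ ker χ_i`. -/
theorem arith_two (a2 a3 d : ℤ) (x2 x3 f : ℕ) (ha2 : a2 = 1 ∨ a2 = -1) (ha3 : a3 = 1 ∨ a3 = -1)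
    (hd : d = 1 ∨ d = -1) (hx2 : 0 < x2) (hx3 : 0 < x3) (hf : 0 < f)
    (h1 : 1 + a2 * x2 + a3 * x3 = d * f)
    (h2 : ((x2 : ℤ) * x3 + a2 * x3 + a3 * x2) * f = 9 * d * (x2 * x3))
    (hk2 : ¬ (a2 = 1 ∧ x2 = 1)) (hk3 : ¬ (a3 = 1 ∧ x3 = 1)) :
    ((if a2 = -1 then 1 else 0) + (if a3 = -1 then 1 else 0) + (if d = 1 then 1 else 0) = 2) ∧
      IsSquare (f * x2 * x3) := by
  have hx2' : (1 : ℤ) ≤ x2 := by exact_mod_cast hx2
  have hx3' : (1 : ℤ) ≤ x3 := by exact_mod_cast hx3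
  have hf' : (1 : ℤ) ≤ f := by exact_mod_cast hf
  set a : ℤ := (x2 : ℤ) with hadef
  set b : ℤ := (x3 : ℤ) with hbdef
  set F : ℤ := (f : ℤ) with hFdef
  have hab : 0 < a * b := by positivity
  rcases ha2 with rfl | rfl <;> rcases ha3 with rfl | rfl <;> rcases hd with rfl | rfl
  · -- (+,+,+)
    exfalso
    have hF : F = 1 + a + b := by linarith
    rw [hF] at h2
    have h3 : b * (a - 1) ^ 2 + a * (b - 1) ^ 2 + (a - b) ^ 2 = 0 := by nlinarith
    have h4 : 0 ≤ b * (a - 1) ^ 2 := by positivity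
    have h5 : 0 ≤ a * (b - 1) ^ 2 := by positivity
    have h6 : 0 ≤ (a - b) ^ 2 := by positivity
    have h7 : b * (a - 1) ^ 2 = 0 := by linarith
    have h8 : (a - 1) ^ 2 = 0 := by
      rcases mul_eq_zero.mp h7 with h | h
      · linarith
      · exact h
    have h9 : a = 1 := by nlinarith [pow_eq_zero_iff (two_ne_zero) |>.mp h8]
    apply hk2
    refine ⟨rfl, ?_⟩
    have : (x2 : ℤ) = 1 := h9
    exact_mod_cast this
  · -- (+,+,-)
    exfalso
    nlinarith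
  · -- (+,-,+): the real case
    have hF : 1 + a - b = F := by linarith
    have h2' : (a * b + b - a) * F = 9 * (a * b) := by linarith
    obtain ⟨h15, h6, h10⟩ := arith_two_aux a b F hx2' hx3' hf' hF h2'
    have e2 : x2 = 15 := by
      have : (x2 : ℤ) = 15 := h15
      exact_mod_cast this
    have e3 : x3 = 6 := by
      have : (x3 : ℤ) = 6 := h6
      exact_mod_cast this
    have ef : f = 10 := by
      have : (f : ℤ) = 10 := h10
      exact_mod_cast this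
    subst e2 e3 ef
    refine ⟨by norm_num, ⟨30, by norm_num⟩⟩
  · -- (+,-,-)
    exfalso
    have hb' : b = a + F + 1 := by linarith
    have : 0 < (a * b + 1 * b + -1 * a) * F := by
      apply mul_pos _ (by linarith)
      nlinarith
    nlinarith
  · -- (-,+,+): symmetric real case
    have hF : 1 + b - a = F := by linarith
    have h2' : (b * a + a - b) * F = 9 * (b * a) := by linarith
    obtain ⟨h15, h6, h10⟩ := arith_two_aux b a F hx3' hx2' hf' hF h2'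
    have e2 : x3 = 15 := by
      have : (x3 : ℤ) = 15 := h15
      exact_mod_cast this
    have e3 : x2 = 6 := by
      have : (x2 : ℤ) = 6 := h6
      exact_mod_cast this
    have ef : f = 10 := by
      have : (f : ℤ) = 10 := h10
      exact_mod_cast this
    subst e2 e3 ef
    refine ⟨by norm_num, ⟨30, by norm_num⟩⟩
  · -- (-,+,-)
    exfalso
    have ha' : a = b + F + 1 := by linarith
    have : 0 < (a * b + -1 * b + 1 * a) * F := by
      apply mul_pos _ (by linarith)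
      nlinarith
    nlinarith
  · -- (-,-,+)
    exfalso
    nlinarith
  · -- (-,-,-)
    exfalso
    have hF : F = a + b - 1 := by linarith
    rw [hF] at h2
    by_cases h : 2 ≤ a ∧ 2 ≤ b
    · obtain ⟨h2a, h2b⟩ := h
      have : a + b - a * b ≤ 0 := by nlinarith
      have h3 : (a * b + -1 * b + -1 * a) * (a + b - 1) ≥ 0 := by
        apply mul_nonneg <;> nlinarith
      nlinarith
    · push Not at h
      by_cases h2a : 2 ≤ a
      · have : b = 1 := by linarith [h h2a]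
        rw [this] at h2
        nlinarith
      · have : a = 1 := by linarith
        rw [this] at h2
        nlinarith


/-- Vandermonde step: four weights, four nodes (`r₁ = 1`, the others `≠ 1`), moments of
order `0, 1, 2` vanish, `w₁ = 1`, all weights nonzero. Then `w₂ w₃ w₄` is a nonzero square. -/
theorem vandermonde (w2 w3 w4 r2 r3 r4 : ℚ) (hw2 : w2 ≠ 0) (_hw3 : w3 ≠ 0) (hw4 : w4 ≠ 0)
    (hr2 : r2 ≠ 1) (hr3 : r3 ≠ 1) (hr4 : r4 ≠ 1)
    (s0 : 1 + w2 + w3 + w4 = 0) (s1 : 1 + w2 * r2 + w3 * r3 + w4 * r4 = 0)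
    (s2 : 1 + w2 * r2 ^ 2 + w3 * r3 ^ 2 + w4 * r4 ^ 2 = 0) :
    ∃ c : ℚ, c ≠ 0 ∧ w2 * w3 * w4 = c ^ 2 := by
  -- q = (x - u)(x - v) : Σ w_i (r_i - u)(r_i - v) = 0
  have hq : ∀ u v : ℚ, (1 - u) * (1 - v) + w2 * ((r2 - u) * (r2 - v)) + w3 * ((r3 - u) * (r3 - v))
      + w4 * ((r4 - u) * (r4 - v)) = 0 := by
    intro u v
    linear_combination s2 - (u + v) * s1 + u * v * s0
  have h1r2 : (1 : ℚ) - r2 ≠ 0 := sub_ne_zero.mpr (Ne.symm hr2)
  have h1r3 : (1 : ℚ) - r3 ≠ 0 := sub_ne_zero.mpr (Ne.symm hr3)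
  have h1r4 : (1 : ℚ) - r4 ≠ 0 := sub_ne_zero.mpr (Ne.symm hr4)
  have h23 : r2 ≠ r3 := by
    intro h
    have := hq r2 r4
    rw [← h] at this
    have h' : (1 - r2) * (1 - r4) = 0 := by
      have e : (1 - r2) * (1 - r4) + w2 * ((r2 - r2) * (r2 - r4)) + w3 * ((r2 - r2) * (r2 - r4))
        + w4 * ((r4 - r2) * (r4 - r4)) = 0 := this
      linear_combination e
    exact (mul_ne_zero h1r2 h1r4) h'
  have h24 : r2 ≠ r4 := by
    intro h
    have := hq r2 r3
    rw [← h] at this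
    have h' : (1 - r2) * (1 - r3) = 0 := by
      have e : (1 - r2) * (1 - r3) + w2 * ((r2 - r2) * (r2 - r3)) + w3 * ((r3 - r2) * (r3 - r3))
        + w4 * ((r2 - r2) * (r2 - r3)) = 0 := this
      linear_combination e
    exact (mul_ne_zero h1r2 h1r3) h'
  have h34 : r3 ≠ r4 := by
    intro h
    have := hq r3 r2
    rw [← h] at this
    have h' : (1 - r3) * (1 - r2) = 0 := by
      have e : (1 - r3) * (1 - r2) + w2 * ((r2 - r3) * (r2 - r2)) + w3 * ((r3 - r3) * (r3 - r2))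
        + w4 * ((r3 - r3) * (r3 - r2)) = 0 := this
      linear_combination e
    exact (mul_ne_zero h1r3 h1r2) h'
  have e1 : (1 - r3) * (1 - r4) + w2 * ((r2 - r3) * (r2 - r4)) = 0 := by
    have := hq r3 r4
    linear_combination this
  have e2 : w3 * ((r3 - 1) * (r3 - r2)) + w4 * ((r4 - 1) * (r4 - r2)) = 0 := by
    have := hq 1 r2
    linear_combination this
  have d32 : r3 - r2 ≠ 0 := sub_ne_zero.mpr (Ne.symm h23)
  have d24 : r2 - r4 ≠ 0 := sub_ne_zero.mpr h24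
  -- w3 (1 - r3)^2 = w2 w4 (r2 - r4)^2
  have key : w3 * (1 - r3) ^ 2 = w2 * w4 * (r2 - r4) ^ 2 := by
    have hne : (1 - r4) * (r3 - r2) ≠ 0 := mul_ne_zero h1r4 d32
    apply mul_right_cancel₀ hne
    have m1 : (1 - r3) * (1 - r4) = - (w2 * ((r2 - r3) * (r2 - r4))) := by linear_combination e1
    have m2 : w3 * ((r3 - 1) * (r3 - r2)) = - (w4 * ((r4 - 1) * (r4 - r2))) := by
      linear_combination e2
    -- multiply m1 by w3 (r3-1)(r3-r2) ... direct polynomial identity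
    have : w3 * (1 - r3) ^ 2 * ((1 - r4) * (r3 - r2))
        = - ((1 - r3) * (1 - r4)) * (w3 * ((r3 - 1) * (r3 - r2))) := by ring
    rw [this, m1, m2]
    ring
  refine ⟨w2 * w4 * (r2 - r4) / (1 - r3), ?_, ?_⟩
  · exact div_ne_zero (mul_ne_zero (mul_ne_zero hw2 hw4) d24) h1r3
  · have hsq : (1 - r3) ^ 2 ≠ 0 := pow_ne_zero 2 h1r3
    have : w3 = w2 * w4 * (r2 - r4) ^ 2 / (1 - r3) ^ 2 := by
      field_simp
      linear_combination key
    rw [this]
    field_simp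

/-- Case `p` odd of S4721, Part 2. -/
theorem arith_odd (a2 a3 d : ℤ) (x2 x3 f : ℕ) (ha2 : a2 = 1 ∨ a2 = -1) (ha3 : a3 = 1 ∨ a3 = -1)
    (hd : d = 1 ∨ d = -1) (hx2 : 0 < x2) (hx3 : 0 < x3) (hf : 0 < f)
    (r2 r3 r4 : ℚ) (hr2 : r2 ≠ 1) (hr3 : r3 ≠ 1) (hr4 : r4 ≠ 1)
    (s0 : (1 : ℚ) + a2 * x2 + a3 * x3 - d * f = 0)
    (s1 : (1 : ℚ) + a2 * x2 * r2 + a3 * x3 * r3 - d * f * r4 = 0)
    (s2 : (1 : ℚ) + a2 * x2 * r2 ^ 2 + a3 * x3 * r3 ^ 2 - d * f * r4 ^ 2 = 0) :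
    ((if a2 = -1 then 1 else 0) + (if a3 = -1 then 1 else 0) + (if d = 1 then 1 else 0) = 2) ∧
      IsSquare (f * x2 * x3) := by
  have hx2' : (0 : ℚ) < x2 := by exact_mod_cast hx2
  have hx3' : (0 : ℚ) < x3 := by exact_mod_cast hx3
  have hf' : (0 : ℚ) < f := by exact_mod_cast hf
  have ha2' : ((a2 : ℤ) : ℚ) ≠ 0 := by rcases ha2 with rfl | rfl <;> norm_num
  have ha3' : ((a3 : ℤ) : ℚ) ≠ 0 := by rcases ha3 with rfl | rfl <;> norm_num
  have hd' : ((d : ℤ) : ℚ) ≠ 0 := by rcases hd with rfl | rfl <;> norm_num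
  obtain ⟨c, hc, hcsq⟩ := vandermonde ((a2 : ℚ) * x2) ((a3 : ℚ) * x3) (-((d : ℚ) * f)) r2 r3 r4
    (mul_ne_zero ha2' hx2'.ne') (mul_ne_zero ha3' hx3'.ne') (neg_ne_zero.mpr (mul_ne_zero hd' hf'.ne'))
    hr2 hr3 hr4 (by linear_combination s0) (by linear_combination s1) (by linear_combination s2)
  have hcpos : 0 < c ^ 2 := by positivity
  have hprod : (0 : ℚ) < (f : ℚ) * x2 * x3 := by positivity
  have hsqN : ∀ (h : ((f * x2 * x3 : ℕ) : ℚ) = c ^ 2), IsSquare (f * x2 * x3) := by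
    intro h
    rw [← Rat.isSquare_natCast_iff]
    exact ⟨c, by rw [h]; ring⟩
  rcases ha2 with rfl | rfl <;> rcases ha3 with rfl | rfl <;> rcases hd with rfl | rfl
  · exfalso; push_cast at hcsq; nlinarith
  · exfalso; push_cast at s0; nlinarith
  · refine ⟨by norm_num, hsqN ?_⟩; push_cast at hcsq ⊢; linear_combination hcsq
  · exfalso; push_cast at hcsq; nlinarith
  · refine ⟨by norm_num, hsqN ?_⟩; push_cast at hcsq ⊢; linear_combination hcsq
  · exfalso; push_cast at hcsq; nlinarith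
  · exfalso; push_cast at hcsq; nlinarith
  · refine ⟨by norm_num, hsqN ?_⟩; push_cast at hcsq ⊢; linear_combination hcsq


/-- Variant of `arith_odd` with the integer values `c_i = χ_i(t)`, `e = η(t)`:
`r_i = c_i / x_i`. -/
theorem arith_odd' (a2 a3 d : ℤ) (x2 x3 f : ℕ) (ha2 : a2 = 1 ∨ a2 = -1) (ha3 : a3 = 1 ∨ a3 = -1)
    (hd : d = 1 ∨ d = -1) (hx2 : 0 < x2) (hx3 : 0 < x3) (hf : 0 < f)
    (c2 c3 e : ℤ) (hc2 : c2 ≠ x2) (hc3 : c3 ≠ x3) (he : e ≠ f)
    (s0 : (1 : ℤ) + a2 * x2 + a3 * x3 - d * f = 0)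
    (s1 : (1 : ℤ) + a2 * c2 + a3 * c3 - d * e = 0)
    (s2 : (1 : ℚ) + a2 * c2 ^ 2 / x2 + a3 * c3 ^ 2 / x3 - d * e ^ 2 / f = 0) :
    ((if a2 = -1 then 1 else 0) + (if a3 = -1 then 1 else 0) + (if d = 1 then 1 else 0) = 2) ∧
      IsSquare (f * x2 * x3) := by
  have hx2' : ((x2 : ℕ) : ℚ) ≠ 0 := by exact_mod_cast hx2.ne'
  have hx3' : ((x3 : ℕ) : ℚ) ≠ 0 := by exact_mod_cast hx3.ne'
  have hf' : ((f : ℕ) : ℚ) ≠ 0 := by exact_mod_cast hf.ne'
  refine arith_odd a2 a3 d x2 x3 f ha2 ha3 hd hx2 hx3 hf ((c2 : ℚ) / x2) ((c3 : ℚ) / x3)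
    ((e : ℚ) / f) ?_ ?_ ?_ ?_ ?_ ?_
  · intro h
    rw [div_eq_one_iff_eq hx2'] at h
    exact hc2 (by exact_mod_cast h)
  · intro h
    rw [div_eq_one_iff_eq hx3'] at h
    exact hc3 (by exact_mod_cast h)
  · intro h
    rw [div_eq_one_iff_eq hf'] at h
    exact he (by exact_mod_cast h)
  · exact_mod_cast s0
  · have : ((1 : ℤ) : ℚ) + a2 * c2 + a3 * c3 - d * e = 0 := by exact_mod_cast s1
    field_simp
    linear_combination this
  · field_simp
    field_simp at s2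
    linear_combination s2

end Cfsg.Agent.Lib.Helper8.S4721Arith
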