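import Mathlib
import Cfsg.Agent.Lib.Helper7.SemiAff2
import Cfsg.Agent.Lib.Helper4.WagnerBase
import Cfsg.Agent.Lib.Lead.SharpThree
import Cfsg.Prelude.Def_LieExceptional

/-!
# Sharply 3-transitive groups of degree `p ^ f + 1`, `f` odd (S0730), part A

(author: helper8)  A sharply 3-transitive group of even degree at least 6 has no regular normal subgroup,
hence is a Zassenhaus group.
-/

set_option autoImplicit false
set_option linter.unusedVariables false
set_option linter.unusedSectionVars false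
set_option linter.style.haveILetI false
set_option maxHeartbeats 1000000

namespace Cfsg.Agent.Lib.Helper8.S730

open MulAction

/-- elementwise double transitivity from triple transitivity -/
theorem two_elementwise {Γ α : Type*} [Group Γ] [MulAction Γ α] [Fintype α]
    (h3 : IsMultiplyPretransitive Γ α 3) (hc : 3 ≤ Fintype.card α) {a b a' b' : α}
    (hab : a ≠ b) (hab' : a' ≠ b') : ∃ g : Γ, g • a = a' ∧ g • b = b' := by
  haveI := h3
  have h2 : IsMultiplyPretransitive Γ α 2 :=
    isMultiplyPretransitive_of_le (n := 3) (by norm_num) (by rw [Nat.card_eq_fintype_card]; exact hc)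
  exact (is_two_pretransitive_iff.1 h2) hab hab'

theorem no_regular_normal {Γ α : Type*} [Group Γ] [MulAction Γ α] [Fintype α]
    (h3 : IsMultiplyPretransitive Γ α 3)
    (hfix : ∀ g : Γ, ∀ a b c : α, a ≠ b → b ≠ c → a ≠ c → g • a = a → g • b = b → g • c = c →
      g = 1)
    (heven : Even (Fintype.card α)) (h5 : 5 ≤ Fintype.card α)
    (N : Subgroup Γ) (hN : N.Normal) (hNt : IsPretransitive N α) :
    ∃ a : α, stabilizer N a ≠ ⊥ := by
  classical
  by_contra hcon
  push Not at hcon
  obtain ⟨a, b₀, hab₀⟩ : ∃ a b₀ : α, a ≠ b₀ := by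
    obtain ⟨a, b, c, hab, _, _⟩ := Fintype.two_lt_card_iff.1 (by omega : 2 < Fintype.card α)
    exact ⟨a, b, hab⟩
  have hreg : ∀ n ∈ N, ∀ m ∈ N, n • a = m • a → n = m := fun n hn m hm h =>
    Cfsg.Agent.Lib.Helper7.SemiAff.eq_of_smul_eq N hcon a hn hm h
  have htr : ∀ ω : α, ∃ n ∈ N, n • a = ω := fun ω =>
    Cfsg.Agent.Lib.Helper7.SemiAff.exists_mem_smul_eq N hNt a ω
  have hne : ∀ n ∈ N, n ≠ 1 → n • a ≠ a := by
    intro n hn hn1 h
    exact hn1 (hreg n hn 1 N.one_mem (by rw [h, one_smul]))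
  have hne2 : ∀ n ∈ N, ∀ m ∈ N, n ≠ m → n • a ≠ m • a := fun n hn m hm hnm h =>
    hnm (hreg n hn m hm h)
  have hconj : ∀ g : Γ, g • a = a → ∀ n : Γ, (g * n * g⁻¹) • a = g • n • a := by
    intro g hg n
    have : g⁻¹ • a = a := by rw [inv_smul_eq_iff, hg]
    rw [mul_smul, mul_smul, this]
  have hNcard : Nat.card N = Fintype.card α := by
    rw [← Nat.card_eq_fintype_card]
    exact (Nat.card_congr (Cfsg.Agent.Lib.Helper7.SemiAff.coordN N a hNt hcon)).symm
  haveI : Finite N := Nat.finite_of_card_ne_zero (by rw [hNcard]; omega)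
  haveI : Fact (Nat.Prime 2) := ⟨Nat.prime_two⟩
  obtain ⟨z, hz⟩ := exists_prime_orderOf_dvd_card' (G := N) 2 (by rw [hNcard]; exact heven.two_dvd)
  have hz1 : (z : Γ) ≠ 1 := by
    intro h
    have : z = 1 := Subtype.ext h
    rw [this, orderOf_one] at hz
    omega
  have hz2 : (z : Γ) * (z : Γ) = 1 := by
    have := pow_orderOf_eq_one z
    rw [hz, pow_two] at this
    exact congrArg Subtype.val this
  -- exponent two
  have hsq : ∀ n ∈ N, n * n = 1 := by
    intro n hn
    by_cases hn1 : n = 1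
    · rw [hn1, one_mul]
    obtain ⟨g, hga, hgz⟩ := two_elementwise h3 (by omega) (hne z z.2 hz1).symm (hne n hn hn1).symm
    have hgn : g * z * g⁻¹ = n := by
      apply hreg _ (hN.conj_mem _ z.2 g) n hn
      rw [hconj g hga, hgz]
    rw [← hgn]
    calc g * z * g⁻¹ * (g * z * g⁻¹) = g * ((z : Γ) * (z : Γ)) * g⁻¹ := by group
      _ = 1 := by rw [hz2]; group
  have hinv : ∀ n ∈ N, n⁻¹ = n := fun n hn => inv_eq_of_mul_eq_one_left (hsq n hn)
  have hcomm : ∀ n ∈ N, ∀ m ∈ N, n * m = m * n := by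
    intro n hn m hm
    have h1 := hinv _ (N.mul_mem hn hm)
    rw [mul_inv_rev, hinv n hn, hinv m hm] at h1
    exact h1.symm
  -- two elements `x, y`
  obtain ⟨x, hx, hxa⟩ := htr b₀
  have hx1 : x ≠ 1 := by
    intro h
    rw [h, one_smul] at hxa
    exact hab₀ hxa
  obtain ⟨c₀, hc₀a, hc₀b⟩ : ∃ c₀ : α, c₀ ≠ a ∧ c₀ ≠ b₀ := by
    obtain ⟨c₀, hc₀⟩ : ∃ c₀ : α, c₀ ∉ ({a, b₀} : Finset α) := by
      by_contra hall
      push Not at hall
      have : Fintype.card α ≤ ({a, b₀} : Finset α).card := by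
        rw [← Finset.card_univ]
        exact Finset.card_le_card (fun x _ => hall x)
      have h2 : ({a, b₀} : Finset α).card ≤ 2 := Finset.card_le_two
      omega
    simp only [Finset.mem_insert, Finset.mem_singleton, not_or] at hc₀
    exact ⟨c₀, hc₀.1, hc₀.2⟩
  obtain ⟨y, hy, hya⟩ := htr c₀
  have hy1 : y ≠ 1 := by
    intro h
    rw [h, one_smul] at hya
    exact hc₀a hya.symm
  have hyx : y ≠ x := by
    intro h
    rw [h, hxa] at hya
    exact hc₀b hya.symm
  have hxy1 : x * y ≠ 1 := by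
    intro h
    have := eq_inv_of_mul_eq_one_left h
    rw [hinv y hy] at this
    exact hyx this.symm
  have hxyx : x * y ≠ x := by
    intro h
    exact hy1 (mul_eq_left.1 h)
  have hxyN : x * y ∈ N := N.mul_mem hx hy
  -- the element `g`
  obtain ⟨g, hga, hgx, hgy⟩ := Cfsg.Agent.Lib.Helper4.Wagner.three_elementwise h3
    (hne x hx hx1).symm (hne y hy hy1).symm (hne2 x hx y hy hyx.symm)
    (hne x hx hx1).symm (hne _ hxyN hxy1).symm (hne2 x hx _ hxyN hxyx.symm)
  have hgxc : g * x * g⁻¹ = x := by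
    apply hreg _ (hN.conj_mem _ hx g) x hx
    rw [hconj g hga, hgx]
  have hgyc : g * y * g⁻¹ = x * y := by
    apply hreg _ (hN.conj_mem _ hy g) _ hxyN
    rw [hconj g hga, hgy]
  have hg1 : g ≠ 1 := by
    intro h
    rw [h, one_smul] at hgy
    exact hne2 y hy _ hxyN (fun h' => hx1 (by
      have : x * y = 1 * y := by rw [one_mul]; exact h'.symm
      exact mul_right_cancel this)) hgy
  have hgg : g * g = 1 := by
    apply hfix _ a (x • a) (y • a) (hne x hx hx1).symm (hne2 x hx y hy hyx.symm)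
      (hne y hy hy1).symm
    · rw [mul_smul, hga, hga]
    · rw [mul_smul, hgx, hgx]
    · rw [mul_smul, hgy, ← hconj g hga]
      have : g * (x * y) * g⁻¹ = y := by
        calc g * (x * y) * g⁻¹ = (g * x * g⁻¹) * (g * y * g⁻¹) := by group
          _ = x * (x * y) := by rw [hgxc, hgyc]
          _ = (x * x) * y := by group
          _ = y := by rw [hsq x hx, one_mul]
      rw [this]
  have hginv : g⁻¹ = g := inv_eq_of_mul_eq_one_left hgg
  -- the centraliser of `g` in `N`
  have hcent : ∀ n ∈ N, g * n * g⁻¹ = n → n = 1 ∨ n = x := by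
    intro n hn hgn
    by_contra hcon'
    push Not at hcon'
    apply hg1
    apply hfix g a (x • a) (n • a) (hne x hx hx1).symm (hne2 x hx n hn hcon'.2.symm)
      (hne n hn hcon'.1).symm hga hgx
    rw [← hconj g hga, hgn]
  -- a fifth element
  obtain ⟨w, hw, hw1, hwx, hwy, hwxy⟩ : ∃ w ∈ N, w ≠ 1 ∧ w ≠ x ∧ w ≠ y ∧ w ≠ x * y := by
    obtain ⟨d₀, hd₀⟩ : ∃ d₀ : α, d₀ ∉ ({a, x • a, y • a, (x * y) • a} : Finset α) := by
      by_contra hall
      push Not at hall
      have : Fintype.card α ≤ ({a, x • a, y • a, (x * y) • a} : Finset α).card := by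
        rw [← Finset.card_univ]
        exact Finset.card_le_card (fun x _ => hall x)
      have h2 : ({a, x • a, y • a, (x * y) • a} : Finset α).card ≤ 4 := Finset.card_le_four
      omega
    simp only [Finset.mem_insert, Finset.mem_singleton, not_or] at hd₀
    obtain ⟨w, hw, hwa⟩ := htr d₀
    refine ⟨w, hw, ?_, ?_, ?_, ?_⟩
    · intro h
      rw [h, one_smul] at hwa
      exact hd₀.1 hwa.symm
    · intro h
      rw [h] at hwa
      exact hd₀.2.1 hwa.symm
    · intro h
      rw [h] at hwa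
      exact hd₀.2.2.1 hwa.symm
    · intro h
      rw [h] at hwa
      exact hd₀.2.2.2 hwa.symm
  have hgw : g * w * g⁻¹ ∈ N := hN.conj_mem _ hw g
  have hm : g * (w * (g * w * g⁻¹)) * g⁻¹ = w * (g * w * g⁻¹) := by
    calc g * (w * (g * w * g⁻¹)) * g⁻¹ = (g * w * g⁻¹) * ((g * g) * w * (g⁻¹ * g⁻¹)) := by group
      _ = (g * w * g⁻¹) * w := by rw [hginv, hgg]; group
      _ = w * (g * w * g⁻¹) := hcomm _ hgw _ hw
  rcases hcent _ (N.mul_mem hw hgw) hm with h | h
  · have h' : g * w * g⁻¹ = w := by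
      have := eq_inv_of_mul_eq_one_right h
      rw [this, hinv w hw]
    rcases hcent w hw h' with h'' | h''
    · exact hw1 h''
    · exact hwx h''
  · have h' : g * w * g⁻¹ = w * x := by
      have : g * w * g⁻¹ = w⁻¹ * x := by rw [← h]; group
      rw [this, hinv w hw]
    have h2 : g * (w * y) * g⁻¹ = w * y := by
      calc g * (w * y) * g⁻¹ = (g * w * g⁻¹) * (g * y * g⁻¹) := by group
        _ = w * x * (x * y) := by rw [h', hgyc]
        _ = w * (x * x) * y := by group
        _ = w * y := by rw [hsq x hx, mul_one]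
    rcases hcent _ (N.mul_mem hw hy) h2 with h'' | h''
    · apply hwy
      have := eq_inv_of_mul_eq_one_left h''
      rw [this, hinv y hy]
    · apply hwxy
      have : w = x * y⁻¹ := by rw [← h'']; group
      rw [this, hinv y hy]

/-- a sharply 3-transitive group of even degree at least 6 is a Zassenhaus group -/
theorem zassenhaus_of_sharp3 {Γ α : Type*} [Group Γ] [MulAction Γ α] [Fintype α] [FaithfulSMul Γ α]
    (h3 : IsMultiplyPretransitive Γ α 3)
    (hfix : ∀ g : Γ, ∀ a b c : α, a ≠ b → b ≠ c → a ≠ c → g • a = a → g • b = b → g • c = c →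
      g = 1)
    (heven : Even (Fintype.card α)) (h5 : 5 ≤ Fintype.card α) : Cfsg.IsZassenhausGroup Γ α := by
  classical
  refine ⟨inferInstance, ?_, hfix, ?_, ?_⟩
  · haveI := h3
    exact isMultiplyPretransitive_of_le (n := 3) (by norm_num)
      (by rw [Nat.card_eq_fintype_card]; omega)
  · obtain ⟨a, b, c, hab, hac, hbc⟩ := Fintype.two_lt_card_iff.1 (by omega : 2 < Fintype.card α)
    obtain ⟨d, hd⟩ : ∃ d : α, d ∉ ({a, b, c} : Finset α) := by
      by_contra hall
      push Not at hall
      have : Fintype.card α ≤ ({a, b, c} : Finset α).card := by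
        rw [← Finset.card_univ]
        exact Finset.card_le_card (fun x _ => hall x)
      have h2 : ({a, b, c} : Finset α).card ≤ 3 := Finset.card_le_three
      omega
    simp only [Finset.mem_insert, Finset.mem_singleton, not_or] at hd
    obtain ⟨g, hga, hgb, hgc⟩ := Cfsg.Agent.Lib.Helper4.Wagner.three_elementwise h3
      hab hac hbc hab (Ne.symm hd.1) (Ne.symm hd.2.1)
    refine ⟨g, ?_, a, b, hab, hga, hgb⟩
    intro h
    rw [h, one_smul] at hgc
    exact hd.2.2 hgc.symm
  · intro N hN hNt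
    exact no_regular_normal h3 hfix heven h5 N hN hNt

end Cfsg.Agent.Lib.Helper8.S730
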