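import Mathlib
import Cfsg.Agent.Lib.Helper8.S730A
import Cfsg.Agent.Lib.Helper8.Sh3H
import Cfsg.Agent.Lib.Helper8.PglPE
import Cfsg.Agent.S0339
import Cfsg.Agent.Lib.Helper5.Zass3.OddClasses
import Cfsg.Agent.Lib.Helper5.Zass3.Swap

/-!
# Sharply 3-transitive groups of degree `p ^ f + 1`, `f` odd (S0730), part B

(author: helper8)  The unique involution of a two-point stabiliser; the subgroup of index two is a
Zassenhaus group whose two-point stabilisers have order `(q - 1) / 2`, and its elements interchanging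
two points are involutions.
-/

set_option autoImplicit false
set_option linter.unusedVariables false
set_option linter.unusedSectionVars false
set_option linter.style.haveILetI false
set_option maxHeartbeats 1000000

namespace Cfsg.Agent.Lib.Helper8.S730

open MulAction

/-- the two-point stabiliser of a sharply 3-transitive group of even degree has a unique involution -/
theorem unique_invol_two_point {Γ α : Type*} [Group Γ] [MulAction Γ α] [Fintype α] [FaithfulSMul Γ α]
    (heven : Even (Fintype.card α)) (h4 : 4 ≤ Fintype.card α)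
    (h3 : IsMultiplyPretransitive Γ α 3)
    (hsharp : ∀ x : Fin 3 ↪ α, stabilizer Γ x = ⊥) {a b : α} (hab : a ≠ b) :
    ∃ j : Γ, j • a = a ∧ j • b = b ∧ j ≠ 1 ∧ j * j = 1 ∧
      ∀ x : Γ, x • a = a → x • b = b → x * x = 1 → x = 1 ∨ x = j := by
  classical
  haveI hGfin : Finite Γ :=
    Finite.of_injective (MulAction.toPerm (α := Γ) (β := α)) MulAction.toPerm_injective
  have hfix : ∀ g : Γ, ∀ a b c : α, a ≠ b → b ≠ c → a ≠ c → g • a = a → g • b = b → g • c = c →
      g = 1 := fun g a b c hab hbc hac ha hb hc =>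
    Cfsg.Agent.Lead.SharpThree.eq_one_of_fix3 hsharp g hab hac hbc ha hb hc
  obtain ⟨c, hca, hcb⟩ : ∃ c : α, c ≠ a ∧ c ≠ b := by
    obtain ⟨c, hc⟩ : ∃ c : α, c ∉ ({a, b} : Finset α) := by
      by_contra hall
      push Not at hall
      have : Fintype.card α ≤ ({a, b} : Finset α).card := by
        rw [← Finset.card_univ]
        exact Finset.card_le_card (fun x _ => hall x)
      have h2 : ({a, b} : Finset α).card ≤ 2 := Finset.card_le_two
      omega
    simp only [Finset.mem_insert, Finset.mem_singleton, not_or] at hc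
    exact ⟨c, hc.1, hc.2⟩
  have hac : a ≠ c := hca.symm
  have hbc : b ≠ c := hcb.symm
  set HS : Subgroup Γ := stabilizer Γ a ⊓ stabilizer Γ b with hHSdef
  have hHSmem : ∀ g : Γ, g ∈ HS ↔ g • a = a ∧ g • b = b := by
    intro g
    rw [hHSdef, Subgroup.mem_inf, mem_stabilizer_iff, mem_stabilizer_iff]
  obtain ⟨K, K1, K2, K3, K4⟩ := Cfsg.Agent.H2.SharpThree.exists_K (by omega) h3 hfix a b c hab hac hbc
  -- regularity of `K`
  have Kreg : ∀ k ∈ K, ∀ k' ∈ K, k • b = k' • b → k = k' := by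
    intro k hk k' hk' h
    by_contra hne
    have h1 : k'⁻¹ * k ≠ 1 := by
      intro h1
      apply hne
      rw [inv_mul_eq_one] at h1
      exact h1.symm
    refine K2 (k'⁻¹ * k) (K.mul_mem (K.inv_mem hk') hk) h1 b hab.symm ?_
    rw [mul_smul, h, inv_smul_smul]
  -- cardinalities
  have hKcard : Nat.card K = Fintype.card α - 1 := by
    have h1 : Nat.card K = Nat.card ({a}ᶜ : Set α) := by
      apply Nat.card_eq_of_bijective (fun k : K => (⟨(k : Γ) • b, by
        intro h
        have h' : (k : Γ) • b = a := h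
        rw [← K1 k k.2] at h'
        exact hab (MulAction.injective (k : Γ) h').symm⟩ : ({a}ᶜ : Set α)))
      constructor
      · intro k k' h
        have h' : (k : Γ) • b = (k' : Γ) • b := congrArg Subtype.val h
        exact Subtype.ext (Kreg k k.2 k' k'.2 h')
      · rintro ⟨x, hx⟩
        obtain ⟨k, hk, hkx⟩ := K3 x hx
        exact ⟨⟨k, hk⟩, Subtype.ext hkx⟩
    rw [h1, Nat.card_coe_set_eq, Set.ncard_compl, Set.ncard_singleton, Nat.card_eq_fintype_card]
  have hHScard : Nat.card HS = Fintype.card α - 2 :=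
    Cfsg.Agent.Lib.Helper8.Sh3.card_two_point_stab h3 hfix hab hac hbc
  have hcard : Nat.card K = Nat.card HS + 1 := by
    rw [hKcard, hHScard]; omega
  have hHSeven : 2 ∣ Nat.card HS := by
    rw [hHScard]
    obtain ⟨m, hm⟩ := heven
    omega
  -- the conjugation action of `HS` on `K`
  have hKle : K ≤ stabilizer Γ a := fun k hk => mem_stabilizer_iff.2 (K1 k hk)
  haveI hKn : (K.subgroupOf (stabilizer Γ a)).Normal := by
    constructor
    intro n hn g
    rw [Subgroup.mem_subgroupOf] at hn ⊢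
    have := K4 (g : Γ) (mem_stabilizer_iff.1 g.2) (n : Γ) hn
    simpa using this
  set φ : ↥HS →* MulAut ↥K :=
    ((MulAut.congr (Subgroup.subgroupOfEquivOfLe hKle)).toMonoidHom.comp
      (MulAut.conjNormal (H := K.subgroupOf (stabilizer Γ a)))).comp
      (Subgroup.inclusion (inf_le_left : HS ≤ stabilizer Γ a)) with hφdef
  have hφ : ∀ (h : ↥HS) (u : ↥K), ((φ h u : ↥K) : Γ) = (h : Γ) * (u : Γ) * (h : Γ)⁻¹ := by
    intro h u
    rfl
  have hfpf : ∀ h : ↥HS, h ≠ 1 → ∀ u : ↥K, φ h u = u → u = 1 := by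
    intro h hh u hu
    by_contra hu1
    apply hh
    have hu1' : (u : Γ) ≠ 1 := fun h' => hu1 (Subtype.ext h')
    have hhf := (hHSmem h).1 h.2
    have e : (h : Γ) * (u : Γ) * (h : Γ)⁻¹ = (u : Γ) := by
      rw [← hφ h u, hu]
    have hx1 : (u : Γ) • b ≠ b := K2 u u.2 hu1' b hab.symm
    have hx2 : (u : Γ) • b ≠ a := by
      intro h'
      rw [← K1 u u.2] at h'
      exact hab (MulAction.injective (u : Γ) h').symm
    have hx3 : (h : Γ) • ((u : Γ) • b) = (u : Γ) • b := by
      have : (h : Γ) * (u : Γ) = (u : Γ) * (h : Γ) := by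
        calc (h : Γ) * (u : Γ) = ((h : Γ) * (u : Γ) * (h : Γ)⁻¹) * (h : Γ) := by group
          _ = (u : Γ) * (h : Γ) := by rw [e]
      rw [← mul_smul, this, mul_smul, hhf.2]
    have := hfix (h : Γ) a b ((u : Γ) • b) hab (Ne.symm hx1) (Ne.symm hx2) hhf.1 hhf.2 hx3
    exact Subtype.ext this
  obtain ⟨-, j, hj1, hj2, hjuniq⟩ :=
    Cfsg.Agent.Lib.Helper8.Sh3.kernel_comm_and_unique_invol φ hfpf hcard hHSeven
  have hjf := (hHSmem j).1 j.2
  refine ⟨(j : Γ), hjf.1, hjf.2, fun h => hj1 (Subtype.ext h), congrArg Subtype.val hj2, ?_⟩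
  intro x hxa hxb hxx
  have hxH : x ∈ HS := (hHSmem x).2 ⟨hxa, hxb⟩
  rcases hjuniq ⟨x, hxH⟩ (Subtype.ext hxx) with h | h
  · exact Or.inl (congrArg Subtype.val h)
  · exact Or.inr (congrArg Subtype.val h)

/-- the subgroup of index two: Zassenhaus, with two-point stabilisers of order `(q - 1) / 2` -/
theorem index_two_zassenhaus {Γ α : Type*} [Group Γ] [MulAction Γ α] [Fintype α] [FaithfulSMul Γ α]
    (h3 : IsMultiplyPretransitive Γ α 3)
    (hsharp : ∀ x : Fin 3 ↪ α, stabilizer Γ x = ⊥) {q : ℕ} (hq : Fintype.card α = q + 1)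
    (hodd : Odd q) (h5 : 5 ≤ q) (M : Subgroup Γ) (hM : M.index = 2) {a b : α} (hab : a ≠ b) :
    Cfsg.IsZassenhausGroup ↥M α ∧
      2 * Nat.card ↥(stabilizer ↥M a ⊓ stabilizer ↥M b) = q - 1 := by
  classical
  haveI hGfin : Finite Γ :=
    Finite.of_injective (MulAction.toPerm (α := Γ) (β := α)) MulAction.toPerm_injective
  have hfix : ∀ g : Γ, ∀ a b c : α, a ≠ b → b ≠ c → a ≠ c → g • a = a → g • b = b → g • c = c →
      g = 1 := fun g a b c hab hbc hac ha hb hc =>
    Cfsg.Agent.Lead.SharpThree.eq_one_of_fix3 hsharp g hab hac hbc ha hb hc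
  have heven : Even (Fintype.card α) := by
    rw [hq]; exact hodd.add_one
  have hZ : Cfsg.IsZassenhausGroup Γ α := zassenhaus_of_sharp3 h3 hfix heven (by omega)
  haveI hMn : M.Normal := Subgroup.normal_of_index_eq_two hM
  have hΓcard : Nat.card Γ = (q + 1) * q * (q - 1) := by
    rw [Cfsg.Agent.Lib.Helper8.PglP.card_of_sharp3 h3 hsharp (by omega), hq]
    have e1 : q + 1 - 1 = q := by omega
    have e2 : q + 1 - 2 = q - 1 := by omega
    simp only [Nat.descFactorial, Nat.sub_zero, mul_one, e1, e2]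
    ring
  have hMne : M ≠ ⊥ := by
    intro h
    rw [h, Subgroup.index_bot, hΓcard] at hM
    have h1 : 6 * 5 * 4 ≤ (q + 1) * q * (q - 1) :=
      Nat.mul_le_mul (Nat.mul_le_mul (by omega) h5) (by omega)
    omega
  have hZM : Cfsg.IsZassenhausGroup ↥M α := Cfsg.Agent.S0339.result hZ M hMne
  refine ⟨hZM, ?_⟩
  have h1 := Cfsg.Agent.Lib.Helper5.Zass3.card_group hZM hab
  have h2 := M.card_mul_index
  rw [hM, hΓcard, h1, hq] at h2
  have e1 : q + 1 - 1 = q := by omega
  rw [e1] at h2
  set e := Nat.card ↥(stabilizer ↥M a ⊓ stabilizer ↥M b) with he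
  have h3' : (q + 1) * q * (2 * e) = (q + 1) * q * (q - 1) := by
    rw [← h2]; ring
  exact Nat.eq_of_mul_eq_mul_left (by positivity) h3'

end Cfsg.Agent.Lib.Helper8.S730
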