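import Mathlib
import Cfsg.Agent.Lib.Helper8.S730B

/-!
# Sharply 3-transitive groups of degree `p ^ f + 1`, `f` odd (S0730), part C

(author: helper8)  Elements interchanging two points are involutions.
-/

set_option autoImplicit false
set_option linter.unusedVariables false
set_option linter.unusedSectionVars false
set_option linter.style.haveILetI false
set_option maxHeartbeats 1000000

namespace Cfsg.Agent.Lib.Helper8.S730

open MulAction

/-- if the two-point stabiliser of the subgroup of index two has odd order, every element of the big group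
interchanging the two points is an involution -/
theorem swap_invol_of_odd {Γ α : Type*} [Group Γ] [MulAction Γ α] [Fintype α] [FaithfulSMul Γ α]
    (heven : Even (Fintype.card α)) (h4 : 4 ≤ Fintype.card α)
    (h3 : IsMultiplyPretransitive Γ α 3)
    (hsharp : ∀ x : Fin 3 ↪ α, stabilizer Γ x = ⊥)
    (M : Subgroup Γ) (hM : M.index = 2) {a b : α} (hab : a ≠ b)
    (hMab : ∀ h ∈ M, h • a = a → h • b = b → Odd (orderOf h)) :
    ∀ g : Γ, g • a = b → g • b = a → g * g = 1 := by
  classical
  haveI hGfin : Finite Γ :=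
    Finite.of_injective (MulAction.toPerm (α := Γ) (β := α)) MulAction.toPerm_injective
  have hfix : ∀ g : Γ, ∀ a b c : α, a ≠ b → b ≠ c → a ≠ c → g • a = a → g • b = b → g • c = c →
      g = 1 := fun g a b c hab hbc hac ha hb hc =>
    Cfsg.Agent.Lead.SharpThree.eq_one_of_fix3 hsharp g hab hac hbc ha hb hc
  haveI hMn : M.Normal := Subgroup.normal_of_index_eq_two hM
  obtain ⟨c, hca, hcb⟩ : ∃ c : α, c ≠ a ∧ c ≠ b := by
    obtain ⟨c, hc⟩ : ∃ c : α, c ∉ ({a, b} : Finset α) := by
      by_contra hall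
      push Not at hall
      have : Fintype.card α ≤ ({a, b} : Finset α).card := by
        rw [← Finset.card_univ]
        exact Finset.card_le_card (fun x _ => hall x)
      have h2 : ({a, b} : Finset α).card ≤ 2 := Finset.card_le_two
      omega
    simp only [Finset.mem_insert, Finset.mem_singleton, not_or] at hc
    exact ⟨c, hc.1, hc.2⟩
  have hac : a ≠ c := hca.symm
  have hbc : b ≠ c := hcb.symm
  obtain ⟨s, hsa, hsb, hsc⟩ := Cfsg.Agent.Lib.Helper4.Wagner.three_elementwise h3
    hab hac hbc hab.symm hbc hac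
  have hs2 : s * s = 1 := by
    apply hfix _ a b c hab hbc hac
    · rw [mul_smul, hsa, hsb]
    · rw [mul_smul, hsb, hsa]
    · rw [mul_smul, hsc, hsc]
  have hsinv : s⁻¹ = s := inv_eq_of_mul_eq_one_left hs2
  have hs1 : s ≠ 1 := by
    intro h
    rw [h, one_smul] at hsa
    exact hab hsa
  obtain ⟨j, hja, hjb, hj1, hj2, hjuniq⟩ := unique_invol_two_point heven h4 h3 hsharp hab
  set σ : Γ ≃* Γ := MulAut.conj s with hσdef
  have hσapp : ∀ h : Γ, σ h = s * h * s := by
    intro h
    rw [hσdef, MulAut.conj_apply, hsinv]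
  have hσ : ∀ h, σ (σ h) = h := by
    intro h
    rw [hσapp, hσapp]
    calc s * (s * h * s) * s = (s * s) * h * (s * s) := by group
      _ = h := by rw [hs2]; group
  have hσfixab : ∀ h : Γ, h • a = a → h • b = b → σ h • a = a ∧ σ h • b = b := by
    intro h ha hb
    rw [hσapp]
    constructor
    · rw [mul_smul, mul_smul, hsa, hb, hsb]
    · rw [mul_smul, mul_smul, hsb, ha, hsa]
  set H₀ : Subgroup Γ := M ⊓ (stabilizer Γ a ⊓ stabilizer Γ b) with hH₀def
  have hH₀mem : ∀ g : Γ, g ∈ H₀ ↔ g ∈ M ∧ g • a = a ∧ g • b = b := by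
    intro g
    rw [hH₀def, Subgroup.mem_inf, Subgroup.mem_inf, mem_stabilizer_iff, mem_stabilizer_iff]
  have hYσ : ∀ y ∈ H₀, σ y ∈ H₀ := by
    intro y hy
    have hy' := (hH₀mem y).1 hy
    rw [hH₀mem]
    refine ⟨?_, hσfixab y hy'.2.1 hy'.2.2⟩
    rw [hσdef, MulAut.conj_apply]
    exact hMn.conj_mem y hy'.1 s
  have h1 : ∀ y ∈ H₀, σ y = y → y = 1 := by
    intro y hy hyy
    have hy' := (hH₀mem y).1 hy
    have hyodd := hMab y hy'.1 hy'.2.1 hy'.2.2
    have e : s * y = y * s := by
      rw [hσapp] at hyy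
      calc s * y = (s * y * s) * s⁻¹ := by group
        _ = y * s := by rw [hyy, hsinv]
    have f1 : s • (y • c) = y • c := by
      rw [← mul_smul, e, mul_smul, hsc]
    have f2 : s • (y • y • c) = y • y • c := by
      rw [← mul_smul, e, mul_smul, f1]
    have hcase : y • c = c ∨ y • y • c = c := by
      by_contra hcon
      push Not at hcon
      apply hs1
      refine hfix s c (y • c) (y • y • c) (Ne.symm hcon.1) ?_ (Ne.symm hcon.2) hsc f1 f2
      intro h'
      exact hcon.1 (MulAction.injective y h').symm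
    rcases hcase with h' | h'
    · exact hfix _ a b c hab hbc hac hy'.2.1 hy'.2.2 h'
    · have hyy2 : y * y = 1 := by
        apply hfix _ a b c hab hbc hac
        · rw [mul_smul, hy'.2.1, hy'.2.1]
        · rw [mul_smul, hy'.2.2, hy'.2.2]
        · rw [mul_smul, h']
      have hd : orderOf y ∣ 2 := orderOf_dvd_of_pow_eq_one (by rw [pow_two, hyy2])
      have hle : orderOf y ≤ 2 := Nat.le_of_dvd (by norm_num) hd
      have hpos : 0 < orderOf y := orderOf_pos y
      obtain ⟨m, hm⟩ := hyodd
      have : orderOf y = 1 := by omega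
      exact orderOf_eq_one_iff.1 this
  have hinvH₀ : ∀ y ∈ H₀, σ y = y⁻¹ :=
    Cfsg.Agent.Lib.Helper8.Sh3.inv_of_fpf_on σ hσ H₀ hYσ h1
  -- `j` is not in `M`
  have hjo : orderOf j = 2 := orderOf_eq_prime (by rw [pow_two, hj2]) hj1
  have hjM : j ∉ M := by
    intro hjM
    have := hMab j hjM hja hjb
    rw [hjo] at this
    exact absurd this (by decide)
  -- `σ j = j`
  have hσj : σ j = j := by
    have hf := hσfixab j hja hjb
    have h2 : σ j * σ j = 1 := by rw [← map_mul, hj2, map_one]
    rcases hjuniq (σ j) hf.1 hf.2 h2 with h | h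
    · exfalso
      apply hj1
      have := congrArg σ h
      rw [hσ, map_one] at this
      exact this
    · exact h
  -- `j` commutes with the two-point stabiliser
  have hjc : ∀ h : Γ, h • a = a → h • b = b → h * j = j * h := by
    intro h ha hb
    have hia : h⁻¹ • a = a := by rw [inv_smul_eq_iff, ha]
    have hib : h⁻¹ • b = b := by rw [inv_smul_eq_iff, hb]
    have h2 : (h * j * h⁻¹) * (h * j * h⁻¹) = 1 := by
      calc (h * j * h⁻¹) * (h * j * h⁻¹) = h * (j * j) * h⁻¹ := by group
        _ = 1 := by rw [hj2]; group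
    rcases hjuniq (h * j * h⁻¹) (by rw [mul_smul, mul_smul, hia, hja, ha])
      (by rw [mul_smul, mul_smul, hib, hjb, hb]) h2 with h' | h'
    · exfalso
      apply hj1
      calc j = h⁻¹ * (h * j * h⁻¹) * h := by group
        _ = 1 := by rw [h']; group
    · calc h * j = (h * j * h⁻¹) * h := by group
        _ = j * h := by rw [h']
  -- main
  intro g hga hgb
  set h := s * g with hh
  have hha : h • a = a := by rw [hh, mul_smul, hga, hsb]
  have hhb : h • b = b := by rw [hh, mul_smul, hgb, hsa]
  have hg : g = s * h := by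
    rw [hh, ← mul_assoc, hs2, one_mul]
  have hgg : g * g = σ h * h := by
    rw [hσapp, hg]
    group
  rw [hgg]
  by_cases hhM : h ∈ M
  · have hhH₀ : h ∈ H₀ := (hH₀mem h).2 ⟨hhM, hha, hhb⟩
    rw [hinvH₀ h hhH₀, inv_mul_cancel]
  · have hjh : j * h ∈ M := (Subgroup.mul_mem_iff_of_index_two hM).2 (by
      constructor
      · intro h'; exact absurd h' hjM
      · intro h'; exact absurd h' hhM)
    have hjhH₀ : j * h ∈ H₀ := (hH₀mem _).2 ⟨hjh, by rw [mul_smul, hha, hja],
      by rw [mul_smul, hhb, hjb]⟩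
    have e1 : h = j * (j * h) := by rw [← mul_assoc, hj2, one_mul]
    have e2 : σ h = j * (j * h)⁻¹ := by
      rw [e1, map_mul, hσj, hinvH₀ _ hjhH₀, ← e1]
    rw [e2]
    have e3 := hjc h hha hhb
    calc j * (j * h)⁻¹ * h = j * h⁻¹ * j⁻¹ * h := by group
      _ = j * h⁻¹ * j * h := by rw [inv_eq_of_mul_eq_one_left hj2]
      _ = j * h⁻¹ * (j * h) := by group
      _ = j * h⁻¹ * (h * j) := by rw [e3]
      _ = j * j := by group
      _ = 1 := hj2

end Cfsg.Agent.Lib.Helper8.S730
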