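import Mathlib
import Cfsg.Agent.Lib.Helper7.SemiAff3

/-!
# Sharply 3-transitive groups of degree `p ^ f + 1`, `f` odd (S0730), part D

(author: helper8)  Field lemmas and the extension of the projective-line model from the subgroup of index two
to the whole group.
-/

set_option autoImplicit false
set_option linter.unusedVariables false
set_option linter.unusedSectionVars false
set_option linter.style.haveILetI false
set_option maxHeartbeats 1000000

namespace Cfsg.Agent.Lib.Helper8.S730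

open MulAction OnePoint

/-- in a finite field of odd order two is invertible -/
theorem two_ne_zero_of_card {F : Type*} [Field F] [Fintype F] {p f : ℕ} (hp : p.Prime) (hp2 : p ≠ 2)
    (hcard : Fintype.card F = p ^ f) : (2 : F) ≠ 0 := by
  intro h
  have h1 : addOrderOf (1 : F) ∣ 2 := addOrderOf_dvd_of_nsmul_eq_zero (by
    rw [nsmul_eq_mul, mul_one]; exact_mod_cast h)
  have h3 : addOrderOf (1 : F) ∣ Fintype.card F := addOrderOf_dvd_card
  have h4 : addOrderOf (1 : F) ≠ 1 := by
    rw [Ne, AddMonoid.addOrderOf_eq_one_iff]; exact one_ne_zero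
  have h5 : addOrderOf (1 : F) = 2 := by
    have := Nat.le_of_dvd (by norm_num) h1
    have := addOrderOf_pos (1 : F)
    omega
  rw [h5, hcard] at h3
  have := Nat.Prime.dvd_of_dvd_pow Nat.prime_two h3
  exact hp2 ((Nat.prime_dvd_prime_iff_eq Nat.prime_two hp).1 this).symm

/-- an involutive automorphism of a field with `p ^ f` elements, `p` and `f` odd, is trivial -/
theorem ringEquiv_eq_id_of_invol {F : Type*} [Field F] [Fintype F] {p f : ℕ} (hp : p.Prime)
    (hp2 : p ≠ 2) (hf : Odd f) (hcard : Fintype.card F = p ^ f) (φ : F ≃+* F)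
    (hφ : ∀ x, φ (φ x) = x) : ∀ x, φ x = x := by
  classical
  by_contra hcon
  push Not at hcon
  obtain ⟨u, hu⟩ := hcon
  have h2 : (2 : F) ≠ 0 := two_ne_zero_of_card hp hp2 hcard
  set v : F := u - φ u with hv
  have hv0 : v ≠ 0 := by
    intro h
    apply hu
    rw [hv, sub_eq_zero] at h
    exact h.symm
  have hφv : φ v = -v := by
    rw [hv, map_sub, hφ]; ring
  have hφ2 : φ 2 = 2 := map_ofNat φ 2
  -- the bijection
  have hbij : Function.Bijective (fun e : {x : F // φ x = x} × {x : F // φ x = x} =>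
      (e.1 : F) + (e.2 : F) * v) := by
    constructor
    · rintro ⟨⟨e₁, he₁⟩, ⟨e₂, he₂⟩⟩ ⟨⟨e₁', he₁'⟩, ⟨e₂', he₂'⟩⟩ h
      have h' : e₁ + e₂ * v = e₁' + e₂' * v := h
      have h'' := congrArg φ h'
      rw [map_add, map_add, map_mul, map_mul, he₁, he₂, he₁', he₂', hφv] at h''
      have h3 : 2 * ((e₂ - e₂') * v) = 0 := by linear_combination h' - h''
      have h4 : e₂ = e₂' := by
        rcases mul_eq_zero.1 h3 with h5 | h5
        · exact absurd h5 h2
        · rcases mul_eq_zero.1 h5 with h6 | h6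
          · exact sub_eq_zero.1 h6
          · exact absurd h6 hv0
      subst h4
      have h5 : e₁ = e₁' := by linear_combination h'
      subst h5
      rfl
    · intro x
      have he₁ : φ ((x + φ x) / 2) = (x + φ x) / 2 := by
        rw [map_div₀, map_add, hφ, hφ2, add_comm]
      have he₂ : φ ((x - φ x) / (2 * v)) = (x - φ x) / (2 * v) := by
        rw [map_div₀, map_sub, hφ, map_mul, hφ2, hφv]
        field_simp
        ring
      refine ⟨(⟨(x + φ x) / 2, he₁⟩, ⟨(x - φ x) / (2 * v), he₂⟩), ?_⟩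
      show (x + φ x) / 2 + (x - φ x) / (2 * v) * v = x
      field_simp
      ring
  have hc := Nat.card_eq_of_bijective _ hbij
  rw [Nat.card_prod, Nat.card_eq_fintype_card (α := F), hcard] at hc
  set n := Nat.card {x : F // φ x = x} with hn
  obtain ⟨k, hk, hnk⟩ := (Nat.dvd_prime_pow hp).1 (Dvd.intro _ hc)
  rw [hnk, ← pow_add] at hc
  have := Nat.pow_right_injective hp.two_le hc
  obtain ⟨m, hm⟩ := hf
  omega

/-- every element of a finite field of odd order is a sum of two squares -/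
theorem exists_sq_add_sq {F : Type*} [Field F] [Fintype F] (hodd : Fintype.card F % 2 = 1) (x : F) :
    ∃ a b : F, a * a + b * b = x := by
  classical
  open Polynomial in
  obtain ⟨a, b, hab⟩ : ∃ a b, (X ^ 2 : F[X]).eval a + (X ^ 2 - C x : F[X]).eval b = 0 :=
    FiniteField.exists_root_sum_quadratic (degree_X_pow 2) (degree_X_pow_sub_C (by decide) _) hodd
  refine ⟨a, b, ?_⟩
  rw [← sub_eq_zero]
  simp only [Polynomial.eval_C, Polynomial.eval_X, Polynomial.eval_pow, Polynomial.eval_sub] at hab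
  linear_combination hab

/-- coordinates of an element fixing the point at infinity -/
theorem exists_coord {Γ Ω : Type*} [Group Γ] [MulAction Γ Ω] {F : Type*}
    (pt : OnePoint F → Ω) (hpt : Function.Bijective pt) (g : Γ) (hg : g • pt ∞ = pt ∞) :
    ∃ ψ : F ≃ F, ∀ x : F, g • pt (x : OnePoint F) = pt ((ψ x : F) : OnePoint F) := by
  have key : ∀ k : Γ, k • pt ∞ = pt ∞ → ∀ x : F, ∃ y : F,
      k • pt (x : OnePoint F) = pt ((y : F) : OnePoint F) := by
    intro k hk x
    obtain ⟨z, hz⟩ := hpt.2 (k • pt (x : OnePoint F))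
    have hz' : z ≠ ∞ := by
      intro h
      rw [h, ← hk] at hz
      have := hpt.1 (MulAction.injective k hz)
      exact OnePoint.infty_ne_coe x this
    obtain ⟨y, hy⟩ := OnePoint.ne_infty_iff_exists.1 hz'
    exact ⟨y, by rw [hy, hz]⟩
  have hginv : g⁻¹ • pt ∞ = pt ∞ := by rw [inv_smul_eq_iff, hg]
  choose u hu using key g hg
  choose v hv using key g⁻¹ hginv
  refine ⟨⟨u, v, ?_, ?_⟩, hu⟩
  · intro x
    have : pt ((v (u x) : F) : OnePoint F) = pt (x : OnePoint F) := by
      rw [← hv, ← hu, inv_smul_smul]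
    exact OnePoint.coe_injective (hpt.1 this)
  · intro x
    have : pt ((u (v x) : F) : OnePoint F) = pt (x : OnePoint F) := by
      rw [← hu, ← hv, smul_inv_smul]
    exact OnePoint.coe_injective (hpt.1 this)

/-- an element of the big group fixing `∞` and `0` is a multiplication -/
theorem linear_of_index_two {Γ Ω : Type*} [Group Γ] [MulAction Γ Ω]
    (M : Subgroup Γ) (hM : M.index = 2)
    {F : Type*} [Field F] [Fintype F] {p f : ℕ} (hp : p.Prime) (hp2 : p ≠ 2) (hf : Odd f)
    (hcard : Fintype.card F = p ^ f)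
    (pt : OnePoint F → Ω) (hpt : Function.Bijective pt)
    (tr : F → Γ) (htrM : ∀ c, tr c ∈ M) (htri : ∀ c, tr c • pt ∞ = pt ∞)
    (htr : ∀ c x : F, tr c • pt (x : OnePoint F) = pt ((c + x : F) : OnePoint F))
    (hMaff : ∀ g ∈ M, g • pt ∞ = pt ∞ → ∃ c s : F, s ≠ 0 ∧
      ∀ x : F, g • pt (x : OnePoint F) = pt ((s * x + c : F) : OnePoint F))
    (hMreal : ∀ s : F, s ≠ 0 → IsSquare s → ∃ g ∈ M, g • pt ∞ = pt ∞ ∧
      ∀ x : F, g • pt (x : OnePoint F) = pt ((s * x : F) : OnePoint F))
    (g : Γ) (hg : g • pt ∞ = pt ∞)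
    (hg0 : g • pt ((0 : F) : OnePoint F) = pt ((0 : F) : OnePoint F)) :
    ∃ s : F, s ≠ 0 ∧ ∀ x : F, g • pt (x : OnePoint F) = pt ((s * x : F) : OnePoint F) := by
  classical
  haveI hMn : M.Normal := Subgroup.normal_of_index_eq_two hM
  have hinj : ∀ x y : F, pt (x : OnePoint F) = pt (y : OnePoint F) → x = y := fun x y h =>
    OnePoint.coe_injective (hpt.1 h)
  obtain ⟨ψ, hψ⟩ := exists_coord pt hpt g hg
  have hψ0 : ψ 0 = 0 := by
    apply hinj
    rw [← hψ, hg0]
  have hginv : g⁻¹ • pt ∞ = pt ∞ := by rw [inv_smul_eq_iff, hg]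
  have hψinv : ∀ y : F, g⁻¹ • pt (y : OnePoint F) = pt ((ψ.symm y : F) : OnePoint F) := by
    intro y
    rw [inv_smul_eq_iff, hψ, Equiv.apply_symm_apply]
  -- conjugates of elements of `M` fixing `∞`
  have hconj : ∀ m ∈ M, m • pt ∞ = pt ∞ → ∀ μ : F → F,
      (∀ x : F, m • pt (x : OnePoint F) = pt ((μ x : F) : OnePoint F)) →
      ∃ c s : F, s ≠ 0 ∧ ∀ x : F, ψ (μ x) = s * ψ x + c := by
    intro m hm hmi μ hμ
    have hkM : g * m * g⁻¹ ∈ M := hMn.conj_mem m hm g
    have hki : (g * m * g⁻¹) • pt ∞ = pt ∞ := by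
      rw [mul_smul, mul_smul, hginv, hmi, hg]
    obtain ⟨c, s, hs, hk⟩ := hMaff _ hkM hki
    refine ⟨c, s, hs, fun x => ?_⟩
    apply hinj
    rw [← hk, mul_smul, mul_smul, hψinv, Equiv.symm_apply_apply, hμ, hψ]
  -- additivity
  have hadd : ∀ c x : F, ψ (c + x) = ψ c + ψ x := by
    intro c x
    by_cases hc : c = 0
    · rw [hc, zero_add, hψ0, zero_add]
    obtain ⟨c', s, hs, hk⟩ := hconj (tr c) (htrM c) (htri c) (fun x => c + x) (htr c)
    have hc' : c' = ψ c := by
      have := hk 0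
      rw [add_zero, hψ0, mul_zero, zero_add] at this
      exact this.symm
    have hs1 : s = 1 := by
      by_contra hs1
      have h1s : 1 - s ≠ 0 := fun h => hs1 (sub_eq_zero.1 h).symm
      set y₀ := c' / (1 - s) with hy₀
      have hfixpt : s * y₀ + c' = y₀ := by
        rw [hy₀]
        field_simp
        ring
      have := hk (ψ.symm y₀)
      rw [Equiv.apply_symm_apply, hfixpt] at this
      have h' := ψ.injective (this.trans (Equiv.apply_symm_apply ψ y₀).symm)
      exact hc (add_eq_right.1 h')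
    rw [hk x, hs1, one_mul, hc', add_comm]
  -- semilinearity
  have hsl0 : ∀ a : F, ∃ m : F, ∀ x, ψ (a * a * x) = m * ψ x := by
    intro a
    by_cases ha : a = 0
    · refine ⟨0, fun x => ?_⟩
      rw [ha, zero_mul, zero_mul, zero_mul, hψ0]
    obtain ⟨μ, hμM, hμi, hμ⟩ := hMreal (a * a) (mul_ne_zero ha ha) ⟨a, rfl⟩
    obtain ⟨c', s, hs, hk⟩ := hconj μ hμM hμi (fun x => a * a * x) hμ
    have hc' : c' = 0 := by
      have := hk 0
      rw [mul_zero, hψ0, mul_zero, zero_add] at this
      exact this.symm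
    refine ⟨s, fun x => ?_⟩
    rw [hk x, hc', add_zero]
  have hodd : Fintype.card F % 2 = 1 := by
    rw [hcard]
    exact Nat.odd_iff.1 ((hp.odd_of_ne_two hp2).pow)
  have hsl : ∀ l : F, ∃ m : F, ∀ x, ψ (l * x) = m * ψ x := by
    intro l
    obtain ⟨a, b, hab⟩ := exists_sq_add_sq hodd l
    obtain ⟨m₁, hm₁⟩ := hsl0 a
    obtain ⟨m₂, hm₂⟩ := hsl0 b
    refine ⟨m₁ + m₂, fun x => ?_⟩
    rw [← hab, add_mul, hadd, hm₁, hm₂, add_mul]
  obtain ⟨c, φ, hcφ⟩ := Cfsg.Agent.Lib.Helper7.SemiAff.exists_ringEquiv_of_semilinear ψ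
    (fun x y => hadd x y) hsl
  -- `φ` is an involution
  have hggM : g * g ∈ M := Subgroup.mul_self_mem_of_index_two hM g
  have hggi : (g * g) • pt ∞ = pt ∞ := by rw [mul_smul, hg, hg]
  obtain ⟨c', s, hs, hk⟩ := hMaff _ hggM hggi
  have hk' : ∀ x : F, ψ (ψ x) = s * x + c' := by
    intro x
    apply hinj
    rw [← hk, mul_smul, hψ, hψ]
  have hc' : c' = 0 := by
    have := hk' 0
    rw [hψ0, hψ0, mul_zero, zero_add] at this
    exact this.symm
  have hs' : (c : F) * φ c = s := by
    have := hk' 1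
    rw [hcφ 1, map_one, mul_one, hcφ, hc', add_zero, mul_one] at this
    exact this
  have hφφ : ∀ x, φ (φ x) = x := by
    intro x
    have := hk' x
    rw [hcφ x, hcφ, map_mul, hc', add_zero, ← mul_assoc, hs'] at this
    exact mul_left_cancel₀ hs this
  have hφid := ringEquiv_eq_id_of_invol hp hp2 hf hcard φ hφφ
  refine ⟨(c : F), c.ne_zero, fun x => ?_⟩
  rw [hψ, hcφ, hφid]

end Cfsg.Agent.Lib.Helper8.S730
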