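import Mathlib
import Cfsg.Agent.Lib.Helper8.S730C
import Cfsg.Agent.Lib.Helper8.S730D
import Cfsg.Agent.Lib.Helper5.Zass3.ModelGen

/-!
# Sharply 3-transitive groups of degree `p ^ f + 1`, `f` odd (S0730), part E: assembly

(author: helper8)
-/

set_option autoImplicit false
set_option linter.unusedVariables false
set_option linter.unusedSectionVars false
set_option linter.style.haveILetI false
set_option maxHeartbeats 1000000

namespace Cfsg.Agent.Lib.Helper8.S730

open MulAction OnePoint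

/-- **S0730, abstract form** -/
theorem pgl_of_sharp3_odd_exp {Γ α : Type*} [Group Γ] [MulAction Γ α] [Fintype α]
    [FaithfulSMul Γ α] {p f : ℕ} (hp : p.Prime) (hp2 : p ≠ 2) (hfo : Odd f)
    (hα : Fintype.card α = p ^ f + 1)
    (h3 : IsMultiplyPretransitive Γ α 3) (hsharp : ∀ x : Fin 3 ↪ α, stabilizer Γ x = ⊥) :
    ∃ (F : Type) (_ : Field F) (_ : Fintype F), Fintype.card F = p ^ f ∧
      Nonempty (Γ ≃* Matrix.ProjGenLinGroup (Fin 2) F) := by
  classical
  haveI hGfin : Finite Γ :=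
    Finite.of_injective (MulAction.toPerm (α := Γ) (β := α)) MulAction.toPerm_injective
  by_cases hf1 : f = 1
  · subst hf1
    haveI : Fact p.Prime := ⟨hp⟩
    refine ⟨ZMod p, inferInstance, inferInstance, by rw [ZMod.card, pow_one], ?_⟩
    exact Cfsg.Agent.Lib.Helper8.PglP.pgl_of_sharp3 (by rw [hα, pow_one]) h3 hsharp
  have hfix : ∀ g : Γ, ∀ a b c : α, a ≠ b → b ≠ c → a ≠ c → g • a = a → g • b = b → g • c = c →
      g = 1 := fun g a b c hab hbc hac ha hb hc =>
    Cfsg.Agent.Lead.SharpThree.eq_one_of_fix3 hsharp g hab hac hbc ha hb hc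
  have hf3 : 3 ≤ f := by
    obtain ⟨m, hm⟩ := hfo
    omega
  have hp3 : 3 ≤ p := by
    have := hp.two_le
    omega
  set q := p ^ f with hq
  have hq27 : 27 ≤ q := by
    calc 27 = 3 ^ 3 := by norm_num
      _ ≤ p ^ 3 := Nat.pow_le_pow_left hp3 3
      _ ≤ p ^ f := Nat.pow_le_pow_right (by omega) hf3
  have hqodd : Odd q := (hp.odd_of_ne_two hp2).pow
  have heven : Even (Fintype.card α) := by
    rw [hα]; exact hqodd.add_one
  obtain ⟨M, hM⟩ := Cfsg.Agent.Lib.Helper8.Sh3.exists_index_two_sharp3 heven (by omega) h3 hsharp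
  obtain ⟨a, b, c₁, hab, -, -⟩ := Fintype.two_lt_card_iff.1 (by omega : 2 < Fintype.card α)
  obtain ⟨hZM, hMab⟩ := index_two_zassenhaus h3 hsharp hα hqodd (by omega) M hM hab
  set e := Nat.card ↥(stabilizer ↥M a ⊓ stabilizer ↥M b) with he
  have h741 : Fintype.card α - 2 ≤ 2 * e := by omega
  have hd : 2 * e ≤ Fintype.card α - 2 := by omega
  have hswap : ∀ g : ↥M, g • a = b → g • b = a → g * g = 1 := by
    rcases Nat.even_or_odd e with hev | hod
    · exact Cfsg.Agent.Lib.Helper5.Zass3.swap_invol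
        (Cfsg.Agent.Lib.Helper5.Zass.hyp_of_zassenhaus hZM) hab hev hd
    · have hMab' : ∀ h ∈ M, h • a = a → h • b = b → Odd (orderOf h) := by
        intro h hh ha hb
        have hmem : (⟨h, hh⟩ : ↥M) ∈ stabilizer ↥M a ⊓ stabilizer ↥M b := by
          rw [Subgroup.mem_inf, mem_stabilizer_iff, mem_stabilizer_iff]
          exact ⟨ha, hb⟩
        have h1 : orderOf (⟨⟨h, hh⟩, hmem⟩ : ↥(stabilizer ↥M a ⊓ stabilizer ↥M b)) ∣ e :=
          orderOf_dvd_natCard _
        rw [Subgroup.orderOf_mk, Subgroup.orderOf_mk] at h1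
        exact Odd.of_dvd_nat hod h1
      intro g hga hgb
      have := swap_invol_of_odd heven (by omega) h3 hsharp M hM hab hMab' (g : Γ) hga hgb
      exact Subtype.ext this
  obtain ⟨p', f', F, instF, instFF, pt, tr, t, hp', hp'2, hFcard, hΩ, hpt, htri, htr, hMaff, hMreal,
    ht1, ht2, ht3⟩ := Cfsg.Agent.Lib.Helper5.Zass3.exists_model_gen hZM hab h741 hswap hd
  have hFcard' : Fintype.card F = p ^ f := by
    rw [hFcard]
    omega
  refine ⟨F, instF, instFF, hFcard', ?_⟩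
  have hinj : ∀ x y : OnePoint F, pt x = pt y → x = y := fun x y h => hpt.1 h
  -- elements fixing `∞` and `0`
  have hlin := linear_of_index_two M hM hp hp2 hfo hFcard' pt hpt (fun c => ((tr c : ↥M) : Γ))
    (fun c => (tr c).2) (fun c => htri c) (fun c x => htr c x)
    (fun g hg hgi => by
      obtain ⟨c, s, hs, -, hk⟩ := hMaff ⟨g, hg⟩ hgi
      exact ⟨c, s, hs, hk⟩)
    (fun s hs hsq => by
      obtain ⟨g, hgi, hk⟩ := hMreal s hs hsq
      exact ⟨(g : Γ), g.2, hgi, hk⟩)
  have haff : ∀ g : Γ, g • pt ∞ = pt ∞ → ∃ s c : F, s ≠ 0 ∧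
      ∀ x : F, g • pt (x : OnePoint F) = pt ((s * x + c : F) : OnePoint F) := by
    intro g hg
    obtain ⟨ψ, hψ⟩ := exists_coord pt hpt g hg
    set c₀ := ψ 0 with hc₀
    have hg'i : (((tr (-c₀) : ↥M) : Γ) * g) • pt ∞ = pt ∞ := by
      rw [mul_smul, hg]
      exact htri _
    have hg'x : ∀ x : F, (((tr (-c₀) : ↥M) : Γ) * g) • pt (x : OnePoint F) =
        pt ((-c₀ + ψ x : F) : OnePoint F) := by
      intro x
      rw [mul_smul, hψ]
      exact htr _ _
    have hg'0 : (((tr (-c₀) : ↥M) : Γ) * g) • pt ((0 : F) : OnePoint F) =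
        pt ((0 : F) : OnePoint F) := by
      rw [hg'x, ← hc₀, neg_add_cancel]
    obtain ⟨s, hs, hk⟩ := hlin _ hg'i hg'0
    refine ⟨s, c₀, hs, fun x => ?_⟩
    rw [hψ]
    have h1 := hg'x x
    rw [hk x] at h1
    have h2 : s * x = -c₀ + ψ x := OnePoint.coe_injective (hinj _ _ h1)
    have h3 : ψ x = s * x + c₀ := by rw [h2]; ring
    rw [h3]
  have h01 : (0 : F) ≠ 1 := zero_ne_one
  have hi0 : pt ∞ ≠ pt ((0 : F) : OnePoint F) := fun h => OnePoint.infty_ne_coe _ (hinj _ _ h)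
  have hi1 : pt ∞ ≠ pt ((1 : F) : OnePoint F) := fun h => OnePoint.infty_ne_coe _ (hinj _ _ h)
  have h01' : pt ((0 : F) : OnePoint F) ≠ pt ((1 : F) : OnePoint F) := fun h =>
    h01 (OnePoint.coe_injective (hinj _ _ h))
  have hreal : ∀ s c : F, s ≠ 0 → ∃ g : Γ, g • pt ∞ = pt ∞ ∧
      ∀ x : F, g • pt (x : OnePoint F) = pt ((s * x + c : F) : OnePoint F) := by
    intro s c hs
    have hic : pt ∞ ≠ pt ((c : F) : OnePoint F) := fun h => OnePoint.infty_ne_coe _ (hinj _ _ h)
    have hisc : pt ∞ ≠ pt ((s + c : F) : OnePoint F) := fun h =>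
      OnePoint.infty_ne_coe _ (hinj _ _ h)
    have hcsc : pt ((c : F) : OnePoint F) ≠ pt ((s + c : F) : OnePoint F) := by
      intro h
      have := OnePoint.coe_injective (hinj _ _ h)
      have h' : 0 + c = s + c := by rw [zero_add]; exact this
      exact hs (add_right_cancel h').symm
    obtain ⟨g, hgi, hg0, hg1⟩ := Cfsg.Agent.Lib.Helper4.Wagner.three_elementwise h3
      hi0 hi1 h01' hic hisc hcsc
    refine ⟨g, hgi, ?_⟩
    obtain ⟨s', c', hs', hk⟩ := haff g hgi
    have e0 := hk 0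
    rw [hg0, mul_zero, zero_add] at e0
    have hc' : c = c' := OnePoint.coe_injective (hinj _ _ e0)
    have e1 := hk 1
    rw [hg1, mul_one] at e1
    have hs'' : s + c = s' + c' := OnePoint.coe_injective (hinj _ _ e1)
    have : s = s' := by rw [← hc'] at hs''; exact add_right_cancel hs''
    intro x
    rw [hk x, ← hc', ← this]
  obtain ⟨t', ht'i, ht'0, ht'1⟩ := Cfsg.Agent.Lib.Helper4.Wagner.three_elementwise h3
    hi0 hi1 h01' hi0.symm h01' hi1
  exact Cfsg.Agent.Lib.Helper8.PglP.pgl_of_affine_model hfix pt hpt haff hreal t' ht'i ht'0 ht'1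

end Cfsg.Agent.Lib.Helper8.S730
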