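import Mathlib

/-!
# Elementary matrices in `SL₂(K)`: identities used for S5060

`aM t` and `bM u` are the upper and lower unitriangular matrices, `hM l` the diagonal matrix
`diag(l, l⁻¹)` and `trM x y t` the conjugate of `aM t` by any element whose first column is `(x, y)`.
-/

set_option autoImplicit false

namespace Cfsg.Agent.Lib.Helper8.SL2Gen

open Matrix

variable {K : Type*} [Field K]

/-- upper unitriangular matrix. -/
def aM (t : K) : SpecialLinearGroup (Fin 2) K :=
  ⟨!![1, t; 0, 1], by simp [Matrix.det_fin_two]⟩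

/-- lower unitriangular matrix. -/
def bM (u : K) : SpecialLinearGroup (Fin 2) K :=
  ⟨!![1, 0; u, 1], by simp [Matrix.det_fin_two]⟩

/-- the conjugate of `aM t` by an element with first column `(x, y)`. -/
def trM (x y t : K) : SpecialLinearGroup (Fin 2) K :=
  ⟨!![1 - t * x * y, t * x ^ 2; -(t * y ^ 2), 1 + t * x * y], by
    simp only [Matrix.det_fin_two_of]; ring⟩

/-- diagonal matrix `diag(l, l⁻¹)`. -/
def hM (l : K) (hl : l ≠ 0) : SpecialLinearGroup (Fin 2) K :=
  ⟨!![l, 0; 0, l⁻¹], by simp [Matrix.det_fin_two, hl]⟩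

@[simp] lemma aM_coe (t : K) : (aM t : Matrix (Fin 2) (Fin 2) K) = !![1, t; 0, 1] := rfl
@[simp] lemma bM_coe (u : K) : (bM u : Matrix (Fin 2) (Fin 2) K) = !![1, 0; u, 1] := rfl
@[simp] lemma trM_coe (x y t : K) : (trM x y t : Matrix (Fin 2) (Fin 2) K) =
    !![1 - t * x * y, t * x ^ 2; -(t * y ^ 2), 1 + t * x * y] := rfl
@[simp] lemma hM_coe (l : K) (hl : l ≠ 0) :
    (hM l hl : Matrix (Fin 2) (Fin 2) K) = !![l, 0; 0, l⁻¹] := rfl

/-- extensionality for `SL₂` by the four entries. -/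
lemma sl2_ext {g h : SpecialLinearGroup (Fin 2) K}
    (h00 : (g : Matrix (Fin 2) (Fin 2) K) 0 0 = (h : Matrix (Fin 2) (Fin 2) K) 0 0)
    (h01 : (g : Matrix (Fin 2) (Fin 2) K) 0 1 = (h : Matrix (Fin 2) (Fin 2) K) 0 1)
    (h10 : (g : Matrix (Fin 2) (Fin 2) K) 1 0 = (h : Matrix (Fin 2) (Fin 2) K) 1 0)
    (h11 : (g : Matrix (Fin 2) (Fin 2) K) 1 1 = (h : Matrix (Fin 2) (Fin 2) K) 1 1) : g = h := by
  apply Subtype.ext
  ext i j
  fin_cases i <;> fin_cases j <;> assumption

lemma sl2_det (g : SpecialLinearGroup (Fin 2) K) :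
    (g : Matrix (Fin 2) (Fin 2) K) 0 0 * (g : Matrix (Fin 2) (Fin 2) K) 1 1 -
      (g : Matrix (Fin 2) (Fin 2) K) 0 1 * (g : Matrix (Fin 2) (Fin 2) K) 1 0 = 1 := by
  have := g.det_coe
  rwa [Matrix.det_fin_two] at this

lemma aM_zero : aM (0 : K) = 1 := by
  apply sl2_ext <;> simp

lemma aM_add (s t : K) : aM (s + t) = aM s * aM t := by
  apply sl2_ext <;> simp [Matrix.mul_apply, Fin.sum_univ_two, add_comm]

lemma aM_neg (t : K) : aM (-t) = (aM t)⁻¹ := by
  rw [eq_inv_iff_mul_eq_one, ← aM_add]; simp [aM_zero]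

lemma bM_zero : bM (0 : K) = 1 := by
  apply sl2_ext <;> simp

lemma bM_add (s t : K) : bM (s + t) = bM s * bM t := by
  apply sl2_ext <;> simp [Matrix.mul_apply, Fin.sum_univ_two]

lemma bM_neg (t : K) : bM (-t) = (bM t)⁻¹ := by
  rw [eq_inv_iff_mul_eq_one, ← bM_add]; simp [bM_zero]

/-- (I1) conjugating `aM t` by `g` only depends on the first column of `g`. -/
lemma conj_aM (g : SpecialLinearGroup (Fin 2) K) (t : K) :
    g * aM t * g⁻¹ = trM ((g : Matrix (Fin 2) (Fin 2) K) 0 0) ((g : Matrix (Fin 2) (Fin 2) K) 1 0) t := by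
  have hd := sl2_det g
  apply sl2_ext <;>
    simp [Matrix.mul_apply, Fin.sum_univ_two, Matrix.adjugate_fin_two] <;>
    first | ring1 | linear_combination hd

/-- (I2) rescaling the column. -/
lemma trM_scale (l x y t : K) : trM (l * x) (l * y) t = trM x y (l ^ 2 * t) := by
  apply sl2_ext <;> simp <;> ring

/-- (I4) the root group at the point `z`. -/
lemma trM_point (z m c : K) (hm : m ≠ 0) :
    trM (z * m) m (c / m ^ 2) = aM z * bM (-c) * aM (-z) := by
  apply sl2_ext <;> simp [Matrix.mul_apply, Fin.sum_univ_two] <;> field_simp <;> ring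

/-- (I6) the diagonal matrix as a product of unitriangular matrices. -/
lemma hM_eq (l : K) (hl : l ≠ 0) :
    hM l hl = aM l * bM (-l⁻¹) * aM l * aM (-1) * bM 1 * aM (-1) := by
  apply sl2_ext <;> simp [Matrix.mul_apply, Fin.sum_univ_two] <;> field_simp <;> ring

/-- (I7) conjugation by the diagonal matrix. -/
lemma hM_conj_aM (l : K) (hl : l ≠ 0) (t : K) :
    hM l hl * aM t * (hM l hl)⁻¹ = aM (l ^ 2 * t) := by
  apply sl2_ext <;>
    simp [Matrix.mul_apply, Fin.sum_univ_two, Matrix.adjugate_fin_two] <;> field_simp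

lemma hM_conj_bM (l : K) (hl : l ≠ 0) (u : K) :
    hM l hl * bM u * (hM l hl)⁻¹ = bM (u / l ^ 2) := by
  apply sl2_ext <;>
    simp [Matrix.mul_apply, Fin.sum_univ_two, Matrix.adjugate_fin_two] <;> field_simp

/-- (I5) the quotient of two tori with the common fixed point `∞`. -/
lemma torus_quot (l : K) (hl : l ≠ 0) (z z' : K) :
    (aM z * hM l hl * aM (-z)) * (aM z' * hM l hl * aM (-z'))⁻¹ =
      aM ((1 - l ^ 2) * (z - z')) := by
  apply sl2_ext <;>
    simp [Matrix.mul_apply, Fin.sum_univ_two, Matrix.adjugate_fin_two]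
  all_goals (field_simp; try ring1)

/-- the Weyl element. -/
def wM : SpecialLinearGroup (Fin 2) K :=
  ⟨!![0, 1; -1, 0], by simp [Matrix.det_fin_two]⟩

@[simp] lemma wM_coe : ((wM : SpecialLinearGroup (Fin 2) K) : Matrix (Fin 2) (Fin 2) K) =
    !![0, 1; -1, 0] := rfl

lemma wM_eq : (wM : SpecialLinearGroup (Fin 2) K) = aM 1 * bM (-1) * aM 1 := by
  apply sl2_ext <;> simp [Matrix.mul_apply, Fin.sum_univ_two]

/-- (I9) conjugation by the Weyl element. -/
lemma wM_conj_bM (u : K) : wM * bM u * (wM : SpecialLinearGroup (Fin 2) K)⁻¹ = aM (-u) := by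
  apply sl2_ext <;>
    simp [Matrix.mul_apply, Fin.sum_univ_two, Matrix.adjugate_fin_two]

/-- (I10) every element with nonzero lower left entry is a product of three unitriangular
matrices. -/
lemma decomp (g : SpecialLinearGroup (Fin 2) K)
    (h : (g : Matrix (Fin 2) (Fin 2) K) 1 0 ≠ 0) :
    g = aM (((g : Matrix (Fin 2) (Fin 2) K) 0 0 - 1) / (g : Matrix (Fin 2) (Fin 2) K) 1 0) *
        bM ((g : Matrix (Fin 2) (Fin 2) K) 1 0) *
        aM (((g : Matrix (Fin 2) (Fin 2) K) 1 1 - 1) / (g : Matrix (Fin 2) (Fin 2) K) 1 0) := by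
  have hd := sl2_det g
  apply sl2_ext
  · simp [Matrix.mul_apply, Fin.sum_univ_two]; field_simp; ring
  · simp [Matrix.mul_apply, Fin.sum_univ_two]; field_simp; linear_combination (-1 : K) * hd
  · simp [Matrix.mul_apply, Fin.sum_univ_two]
  · simp [Matrix.mul_apply, Fin.sum_univ_two]; field_simp; ring

end Cfsg.Agent.Lib.Helper8.SL2Gen
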