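import Mathlib
import Cfsg.Agent.Lib.Helper8.SL2GenA

/-!
# The subgroup of `SL₂(K)` generated by `a(k)` and `b(kα)`: basic closure properties
-/

set_option autoImplicit false

namespace Cfsg.Agent.Lib.Helper8.SL2Gen

open Matrix

variable {k K : Type*} [Field k] [Field K] [Algebra k K]

/-- the generators `a(c)`, `b(cα)`, `c ∈ k`. -/
def gens (k : Type*) {K : Type*} [Field k] [Field K] [Algebra k K] (α : K) :
    Set (SpecialLinearGroup (Fin 2) K) :=
  Set.range (fun c : k => aM (algebraMap k K c)) ∪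
    Set.range (fun c : k => bM (algebraMap k K c * α))

/-- the subgroup generated by `a(k)` and `b(kα)`. -/
def Lg (k : Type*) {K : Type*} [Field k] [Field K] [Algebra k K] (α : K) :
    Subgroup (SpecialLinearGroup (Fin 2) K) :=
  Subgroup.closure (gens k α)

variable (α : K)

lemma aM_gen (c : k) : aM (algebraMap k K c) ∈ Lg k α :=
  Subgroup.subset_closure (Or.inl ⟨c, rfl⟩)

lemma bM_gen (c : k) : bM (algebraMap k K c * α) ∈ Lg k α :=
  Subgroup.subset_closure (Or.inr ⟨c, rfl⟩)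

lemma aM_add_mem {s t : K} (hs : aM s ∈ Lg k α) (ht : aM t ∈ Lg k α) : aM (s + t) ∈ Lg k α := by
  rw [aM_add]; exact mul_mem hs ht

lemma aM_neg_mem {t : K} (ht : aM t ∈ Lg k α) : aM (-t) ∈ Lg k α := by
  rw [aM_neg]; exact inv_mem ht

lemma aM_sub_mem {s t : K} (hs : aM s ∈ Lg k α) (ht : aM t ∈ Lg k α) : aM (s - t) ∈ Lg k α := by
  rw [sub_eq_add_neg]; exact aM_add_mem α hs (aM_neg_mem α ht)

/-- the diagonal matrices with entries in `k` normalise the subgroup. -/
lemma hconj_mem (l : k) (hl : algebraMap k K l ≠ 0) {g : SpecialLinearGroup (Fin 2) K}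
    (hg : g ∈ Lg k α) :
    hM (algebraMap k K l) hl * g * (hM (algebraMap k K l) hl)⁻¹ ∈ Lg k α := by
  have hl0 : l ≠ 0 := by rintro rfl; simp at hl
  induction hg using Subgroup.closure_induction with
  | mem x hx =>
    rcases hx with ⟨c, rfl⟩ | ⟨c, rfl⟩
    · simp only [hM_conj_aM]
      have : algebraMap k K l ^ 2 * algebraMap k K c = algebraMap k K (l ^ 2 * c) := by
        simp [map_mul, map_pow]
      rw [this]; exact aM_gen α _
    · simp only [hM_conj_bM]
      have : algebraMap k K c * α / algebraMap k K l ^ 2 = algebraMap k K (c / l ^ 2) * α := by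
        simp [map_div₀, map_pow]; field_simp
      rw [this]; exact bM_gen α _
  | one => simp
  | mul x y _ _ hx hy =>
    have : hM (algebraMap k K l) hl * (x * y) * (hM (algebraMap k K l) hl)⁻¹ =
        (hM (algebraMap k K l) hl * x * (hM (algebraMap k K l) hl)⁻¹) *
          (hM (algebraMap k K l) hl * y * (hM (algebraMap k K l) hl)⁻¹) := by group
    rw [this]; exact mul_mem hx hy
  | inv x _ hx =>
    have : hM (algebraMap k K l) hl * x⁻¹ * (hM (algebraMap k K l) hl)⁻¹ =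
        (hM (algebraMap k K l) hl * x * (hM (algebraMap k K l) hl)⁻¹)⁻¹ := by group
    rw [this]; exact inv_mem hx

lemma aM_sq_mem (l : k) {t : K} (ht : aM t ∈ Lg k α) :
    aM (algebraMap k K l ^ 2 * t) ∈ Lg k α := by
  by_cases hl : l = 0
  · subst hl; simp [aM_zero]
  · have hl' : algebraMap k K l ≠ 0 := by simpa using hl
    have := hconj_mem α l hl' ht
    rwa [hM_conj_aM] at this

/-- `M = {t | a(t) ∈ L}` is closed under multiplication by `k`. -/
lemma aM_smul_mem (h2 : (2 : k) ≠ 0) (c : k) {t : K} (ht : aM t ∈ Lg k α) :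
    aM (algebraMap k K c * t) ∈ Lg k α := by
  have hc : c = ((c + 1) / 2) ^ 2 - ((c - 1) / 2) ^ 2 := by field_simp; ring
  have : algebraMap k K c * t =
      algebraMap k K ((c + 1) / 2) ^ 2 * t - algebraMap k K ((c - 1) / 2) ^ 2 * t := by
    rw [← sub_mul, ← map_pow, ← map_pow, ← map_sub, ← hc]
  rw [this]
  exact aM_sub_mem α (aM_sq_mem α _ ht) (aM_sq_mem α _ ht)

/-- conjugation by `!![0, 1; α, 0]`, as a function. -/
def phiFun (hα : α ≠ 0) (g : SpecialLinearGroup (Fin 2) K) : SpecialLinearGroup (Fin 2) K :=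
  ⟨!![(g : Matrix (Fin 2) (Fin 2) K) 1 1, (g : Matrix (Fin 2) (Fin 2) K) 1 0 / α;
      α * (g : Matrix (Fin 2) (Fin 2) K) 0 1, (g : Matrix (Fin 2) (Fin 2) K) 0 0], by
        have hd := sl2_det g
        simp only [Matrix.det_fin_two_of]
        field_simp
        linear_combination hd⟩

@[simp] lemma phiFun_coe (hα : α ≠ 0) (g : SpecialLinearGroup (Fin 2) K) :
    (phiFun α hα g : Matrix (Fin 2) (Fin 2) K) =
      !![(g : Matrix (Fin 2) (Fin 2) K) 1 1, (g : Matrix (Fin 2) (Fin 2) K) 1 0 / α;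
      α * (g : Matrix (Fin 2) (Fin 2) K) 0 1, (g : Matrix (Fin 2) (Fin 2) K) 0 0] := rfl

/-- conjugation by `!![0, 1; α, 0]`. -/
def phi (hα : α ≠ 0) : SpecialLinearGroup (Fin 2) K →* SpecialLinearGroup (Fin 2) K :=
  MonoidHom.mk' (phiFun α hα)
    (by
      intro g h
      apply sl2_ext <;> simp [Matrix.mul_apply, Fin.sum_univ_two] <;> field_simp <;> ring)

lemma phi_apply (hα : α ≠ 0) (g : SpecialLinearGroup (Fin 2) K) : phi α hα g = phiFun α hα g := rfl

lemma phi_aM (hα : α ≠ 0) (t : K) : phi α hα (aM t) = bM (α * t) := by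
  rw [phi_apply]
  apply sl2_ext <;> simp

lemma phi_bM (hα : α ≠ 0) (u : K) : phi α hα (bM u) = aM (u / α) := by
  rw [phi_apply]
  apply sl2_ext <;> simp

lemma phi_mem (hα : α ≠ 0) {g : SpecialLinearGroup (Fin 2) K} (hg : g ∈ Lg k α) :
    phi α hα g ∈ Lg k α := by
  induction hg using Subgroup.closure_induction with
  | mem x hx =>
    rcases hx with ⟨c, rfl⟩ | ⟨c, rfl⟩
    · simp only [phi_aM]
      rw [mul_comm]; exact bM_gen α c
    · simp only [phi_bM]
      have : algebraMap k K c * α / α = algebraMap k K c := by field_simp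
      rw [this]; exact aM_gen α c
  | one => simp
  | mul x y _ _ hx hy => rw [map_mul]; exact mul_mem hx hy
  | inv x _ hx => rw [map_inv]; exact inv_mem hx

/-- `N ⊇ αM`. -/
lemma bM_mem_of_aM (hα : α ≠ 0) {t : K} (ht : aM t ∈ Lg k α) : bM (α * t) ∈ Lg k α := by
  rw [← phi_aM α hα]; exact phi_mem α hα ht

/-- `Col x y`: some element of the subgroup has first column `(x, y)`. -/
def Col (k : Type*) {K : Type*} [Field k] [Field K] [Algebra k K] (α : K) (x y : K) : Prop :=
  ∃ g ∈ Lg k α, (g : Matrix (Fin 2) (Fin 2) K) 0 0 = x ∧ (g : Matrix (Fin 2) (Fin 2) K) 1 0 = y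

lemma col_bM {u : K} (hu : bM u ∈ Lg k α) : Col k α 1 u :=
  ⟨bM u, hu, by simp, by simp⟩

/-- (C2) -/
lemma trM_mem {x y t : K} (hc : Col k α x y) (ht : aM t ∈ Lg k α) : trM x y t ∈ Lg k α := by
  obtain ⟨g, hg, rfl, rfl⟩ := hc
  rw [← conj_aM]
  exact mul_mem (mul_mem hg ht) (inv_mem hg)

/-- (C3) the doubling step. -/
lemma col_step {x y c : K} (hc : Col k α x y) (ht : aM c ∈ Lg k α) :
    Col k α (1 - c * x * y) (-(c * y ^ 2)) :=
  ⟨trM x y c, trM_mem α hc ht, by simp, by simp⟩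

/-- (C4) two columns for the same point give a multiplier. -/
lemma col_mult {x y l t : K} (h1 : Col k α x y) (h2 : Col k α (l * x) (l * y))
    (ht : aM t ∈ Lg k α) : aM (l ^ 2 * t) ∈ Lg k α := by
  obtain ⟨g', hg', hx, hy⟩ := h1
  have h3 : trM (l * x) (l * y) t ∈ Lg k α := trM_mem α h2 ht
  rw [trM_scale, ← hx, ← hy, ← conj_aM] at h3
  have : aM (l ^ 2 * t) = g'⁻¹ * (g' * aM (l ^ 2 * t) * g'⁻¹) * g' := by group
  rw [this]
  exact mul_mem (mul_mem (inv_mem hg') h3) hg'

lemma col_mult_inv {x y l t : K} (hl : l ≠ 0) (h1 : Col k α x y) (h2 : Col k α (l * x) (l * y))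
    (ht : aM t ∈ Lg k α) : aM (t / l ^ 2) ∈ Lg k α := by
  obtain ⟨g, hg, hx, hy⟩ := h2
  have h3 : trM x y t ∈ Lg k α := trM_mem α h1 ht
  have h4 : trM x y t = trM (l * x) (l * y) (t / l ^ 2) := by
    rw [trM_scale]; congr 1; field_simp
  rw [h4, ← hx, ← hy, ← conj_aM] at h3
  have : aM (t / l ^ 2) = g⁻¹ * (g * aM (t / l ^ 2) * g⁻¹) * g := by group
  rw [this]
  exact mul_mem (mul_mem (inv_mem hg) h3) hg

end Cfsg.Agent.Lib.Helper8.SL2Gen
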