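import Mathlib
import Cfsg.Agent.Lib.Helper8.SL2GenB

/-!
# The doubling walk: `a(α⁻¹)` lies in the subgroup generated by `a(k)` and `b(kα)`
-/

set_option autoImplicit false

namespace Cfsg.Agent.Lib.Helper8.SL2Gen

open Matrix

variable {k K : Type*} [Field k] [Field K] [Algebra k K]

/-- the sum `∑_{j<r} e_j β^(2^j)` with `β = α⁻¹`. -/
noncomputable def lsum (α : K) (e : ℕ → k) (r : ℕ) : K :=
  ∑ j ∈ Finset.range r, algebraMap k K (e j) * (α⁻¹) ^ (2 ^ j)

variable (α : K)

lemma lsum_succ (e : ℕ → k) (r : ℕ) :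
    lsum α e (r + 1) = lsum α e r + algebraMap k K (e r) * (α⁻¹) ^ (2 ^ r) := by
  unfold lsum; rw [Finset.sum_range_succ]

lemma lsum_add (e e' : ℕ → k) (r : ℕ) :
    lsum α (e + e') r = lsum α e r + lsum α e' r := by
  unfold lsum
  rw [← Finset.sum_add_distrib]
  refine Finset.sum_congr rfl (fun j _ => ?_)
  simp [map_add, add_mul]

lemma lsum_congr {e e' : ℕ → k} {r : ℕ} (h : ∀ j < r, e j = e' j) :
    lsum α e r = lsum α e' r := by
  unfold lsum
  refine Finset.sum_congr rfl (fun j hj => ?_)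
  rw [h j (Finset.mem_range.mp hj)]

/-- the level `r + 1` points of the doubling walk. -/
lemma lev (hα : α ≠ 0) (e : ℕ → k) (r : ℕ) (he : ∀ j ≤ r, e j ≠ 0) :
    Col k α (lsum α e (r + 1) * (α ^ (2 ^ r) / algebraMap k K (e r)))
      (α ^ (2 ^ r) / algebraMap k K (e r)) := by
  induction r with
  | zero =>
    have h0 : algebraMap k K (e 0) ≠ 0 := by simpa using he 0 le_rfl
    have := col_bM α (bM_gen (k := k) α (e 0)⁻¹)
    convert this using 1
    · simp [lsum]; field_simp
    · simp [map_inv₀]; field_simp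
  | succ r ih =>
    have h0 : algebraMap k K (e r) ≠ 0 := by simpa using he r (Nat.le_succ r)
    have h1 : algebraMap k K (e (r + 1)) ≠ 0 := by simpa using he (r + 1) le_rfl
    have ih' := ih (fun j hj => he j (Nat.le_succ_of_le hj))
    have := col_step α ih' (aM_gen (k := k) α (-(e r) ^ 2 / e (r + 1)))
    have hA : α ^ (2 ^ (r + 1)) = (α ^ (2 ^ r)) ^ 2 := by rw [← pow_mul, pow_succ]
    have hB : (α⁻¹) ^ (2 ^ (r + 1)) = ((α ^ (2 ^ r)) ^ 2)⁻¹ := by
      rw [inv_pow, hA]
    have hA0 : α ^ (2 ^ r) ≠ 0 := pow_ne_zero _ hα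
    convert this using 1
    · rw [lsum_succ α e (r + 1), hA, hB]
      simp only [map_div₀, map_neg, map_pow]
      generalize lsum α e (r + 1) = S
      generalize α ^ (2 ^ r) = A at hA0 ⊢
      field_simp
      ring
    · rw [hA]
      simp only [map_div₀, map_neg, map_pow]
      generalize α ^ (2 ^ r) = A at hA0 ⊢
      field_simp

/-- a linear relation among the `β^(2^j)`, from algebraicity. -/
lemma exists_rel (hα0 : α ≠ 0) (hα : IsAlgebraic k α) :
    ∃ (r : ℕ) (es : ℕ → k), (α⁻¹) ^ (2 ^ (r + 1)) = lsum α es (r + 1) := by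
  have hβ : IsIntegral k α⁻¹ := hα.inv.isIntegral
  have hfd := IntermediateField.adjoin.finiteDimensional hβ
  let b : IntermediateField.adjoin k ({α⁻¹} : Set K) :=
    ⟨α⁻¹, IntermediateField.mem_adjoin_simple_self k _⟩
  have hni : ¬ LinearIndependent k (fun j : ℕ => b ^ (2 ^ j)) :=
    Module.Finite.not_linearIndependent_of_infinite _
  rw [linearIndependent_iff] at hni
  push Not at hni
  obtain ⟨l, hl0, hlne⟩ := hni
  have hsupp : l.support.Nonempty := Finsupp.support_nonempty_iff.mpr hlne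
  set r := l.support.max' hsupp with hr
  have hlr : l r ≠ 0 := Finsupp.mem_support_iff.mp (Finset.max'_mem _ hsupp)
  have hsub : l.support ⊆ Finset.range (r + 1) := by
    intro j hj
    exact Finset.mem_range.mpr (Nat.lt_succ_of_le (Finset.le_max' _ j hj))
  rw [Finsupp.linearCombination_apply,
    Finsupp.sum_of_support_subset l hsub _ (by intro i _; simp)] at hl0
  have hl1 := congrArg (IntermediateField.val (IntermediateField.adjoin k ({α⁻¹} : Set K))) hl0
  simp only [map_sum, map_smul, map_pow, map_zero, b, IntermediateField.val_mk] at hl1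
  rw [Finset.sum_range_succ] at hl1
  have hlr' : algebraMap k K (l r) ≠ 0 := by simpa using hlr
  have hkey : (α⁻¹) ^ (2 ^ r) = lsum α (fun j => -(l j) / l r) r := by
    unfold lsum
    have h2 : l r • (α⁻¹) ^ (2 ^ r) = -∑ x ∈ Finset.range r, l x • (α⁻¹) ^ (2 ^ x) := by
      linear_combination hl1
    rw [Algebra.smul_def] at h2
    have h3 : (α⁻¹) ^ (2 ^ r) =
        (algebraMap k K (l r))⁻¹ * -∑ x ∈ Finset.range r, l x • (α⁻¹) ^ (2 ^ x) := by
      rw [← h2]; field_simp
    rw [h3, ← Finset.sum_neg_distrib, Finset.mul_sum]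
    refine Finset.sum_congr rfl (fun j _ => ?_)
    rw [Algebra.smul_def, map_div₀, map_neg]
    field_simp
  rcases Nat.eq_zero_or_pos r with h0 | hpos
  · exfalso
    rw [h0] at hkey
    simp [lsum] at hkey
    exact hα0 hkey
  · obtain ⟨r', hr'⟩ : ∃ r', r = r' + 1 := ⟨r - 1, by omega⟩
    exact ⟨r', fun j => -(l j) / l r, by rw [← hr']; exact hkey⟩

/-- **Key theorem**: `a(α⁻¹)` lies in the subgroup generated by `a(k)` and `b(kα)`. -/
theorem aM_inv_mem (h2 : (2 : k) ≠ 0) (hl : ∃ l : k, l ≠ 0 ∧ l ^ 2 ≠ 1) (hα0 : α ≠ 0)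
    (hα : IsAlgebraic k α) : aM α⁻¹ ∈ Lg k α := by
  obtain ⟨r, es, hrel⟩ := exists_rel α hα0 hα
  obtain ⟨l, hl0, hl1⟩ := hl
  classical
  have h2K : (2 : K) ≠ 0 := by
    have : algebraMap k K 2 ≠ 0 := (map_ne_zero (algebraMap k K)).mpr h2
    rwa [map_ofNat] at this
  -- the coefficients avoiding `0` and `-es j`
  set e : ℕ → k := fun j => if j ≤ r then (if es j = -1 then -1 else 1) else 1 with he
  have he0 : ∀ j, e j ≠ 0 := by
    intro j; simp only [he]; split_ifs <;> simp
  have hees : ∀ j ≤ r, (e + es) j ≠ 0 := by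
    intro j hj
    simp only [he, Pi.add_apply, if_pos hj]
    split_ifs with h
    · rw [h]; intro h'; apply h2; linear_combination -h'
    · intro h'; apply h; linear_combination h'
  have her : e (r + 1) = 1 := by simp [he]
  -- two columns for the same point
  have c1 := lev α hα0 e (r + 1) (fun j _ => he0 j)
  have c2 := lev α hα0 (e + es) r hees
  have hz : lsum α e (r + 1 + 1) = lsum α (e + es) (r + 1) := by
    rw [lsum_succ, lsum_add, her, map_one, one_mul, hrel]
  rw [hz, her, map_one, div_one] at c1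
  set z := lsum α (e + es) (r + 1) with hzdef
  set κ := algebraMap k K ((e + es) r) with hκ
  have hκ0 : κ ≠ 0 := (map_ne_zero (algebraMap k K)).mpr (hees r le_rfl)
  have hA : α ^ (2 ^ (r + 1)) = (α ^ (2 ^ r)) ^ 2 := by rw [← pow_mul, pow_succ]
  have hA0 : α ^ (2 ^ r) ≠ 0 := pow_ne_zero _ hα0
  have hscale1 : z * α ^ (2 ^ (r + 1)) = (α ^ (2 ^ r) * κ) * (z * (α ^ (2 ^ r) / κ)) := by
    rw [hA]; field_simp
  have hscale2 : α ^ (2 ^ (r + 1)) = (α ^ (2 ^ r) * κ) * (α ^ (2 ^ r) / κ) := by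
    rw [hA]; field_simp
  rw [hscale1, hscale2] at c1
  -- multiplier: `β^(2^(r+1)) M ⊆ M`
  have hmult : ∀ t : K, aM t ∈ Lg k α → aM ((α⁻¹) ^ (2 ^ (r + 1)) * t) ∈ Lg k α := by
    intro t ht
    have h3 := aM_smul_mem α h2 (((e + es) r) ^ 2) ht
    have h4 := col_mult_inv α (mul_ne_zero hA0 hκ0) c2 c1 h3
    have : algebraMap k K (((e + es) r) ^ 2) * t / (α ^ (2 ^ r) * κ) ^ 2 =
        (α⁻¹) ^ (2 ^ (r + 1)) * t := by
      rw [inv_pow, hA, map_pow, ← hκ]; field_simp
    rwa [this] at h4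
  -- the conjugate of `SL₂(k)` at a level point
  have hpoint : ∀ e' : ℕ → k, (∀ j, e' j ≠ 0) →
      aM (lsum α e' (r + 1)) * hM (algebraMap k K l) (by simpa using hl0) *
        aM (-(lsum α e' (r + 1))) ∈ Lg k α := by
    intro e' he'
    set z' := lsum α e' (r + 1) with hz'
    have c3 := lev α hα0 e' r (fun j _ => he' j)
    have hm0 : α ^ (2 ^ r) / algebraMap k K (e' r) ≠ 0 :=
      div_ne_zero hA0 (by simpa using he' r)
    -- `b`-part
    have hb : ∀ c : k, aM z' * bM (algebraMap k K c) * aM (-z') ∈ Lg k α := by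
      intro c
      have h5 : aM ((α⁻¹) ^ (2 ^ (r + 1)) * algebraMap k K (-c * (e' r) ^ 2)) ∈ Lg k α :=
        hmult _ (aM_gen α _)
      have h6 := trM_mem α c3 h5
      have h7 : (α⁻¹) ^ (2 ^ (r + 1)) * algebraMap k K (-c * (e' r) ^ 2) =
          (-(algebraMap k K c)) / (α ^ (2 ^ r) / algebraMap k K (e' r)) ^ 2 := by
        have : algebraMap k K (e' r) ≠ 0 := by simpa using he' r
        rw [inv_pow, hA, map_mul, map_neg, map_pow]; field_simp
      rw [h7, trM_point _ _ _ hm0, neg_neg] at h6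
      exact h6
    have ha : ∀ c : k, aM z' * aM (algebraMap k K c) * aM (-z') ∈ Lg k α := by
      intro c
      have : aM z' * aM (algebraMap k K c) * aM (-z') = aM (algebraMap k K c) := by
        rw [← aM_add, ← aM_add]; congr 1; ring
      rw [this]; exact aM_gen α c
    have hconj : ∀ x y : SpecialLinearGroup (Fin 2) K,
        aM z' * (x * y) * aM (-z') = (aM z' * x * aM (-z')) * (aM z' * y * aM (-z')) := by
      intro x y
      rw [aM_neg]; group
    rw [hM_eq]
    have e1 : (-(algebraMap k K l)⁻¹ : K) = algebraMap k K (-l⁻¹) := by simp [map_inv₀]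
    have e2 : (-1 : K) = algebraMap k K (-1) := by simp
    have e3 : (1 : K) = algebraMap k K 1 := by simp
    rw [e1, e2, e3]
    simp only [hconj]
    exact mul_mem (mul_mem (mul_mem (mul_mem (mul_mem (ha _) (hb _)) (ha _)) (ha _)) (hb _)) (ha _)
  -- two level points
  have hp1 := hpoint (fun _ => 1) (fun _ => one_ne_zero)
  have hp2 := hpoint (fun j => if j = 0 then -1 else 1) (by
    intro j; split_ifs <;> simp)
  have hq := mul_mem hp1 (inv_mem hp2)
  rw [torus_quot] at hq
  have hdiff : lsum α (fun _ => (1 : k)) (r + 1) -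
      lsum α (fun j => if j = 0 then (-1 : k) else 1) (r + 1) = 2 * α⁻¹ := by
    unfold lsum
    rw [Finset.sum_range_succ', Finset.sum_range_succ']
    simp
    ring
  rw [hdiff] at hq
  have hc : (1 - l ^ 2) * 2 ≠ 0 := by
    refine mul_ne_zero ?_ h2
    intro h; apply hl1; linear_combination -h
  have h8 := aM_smul_mem α h2 (((1 - l ^ 2) * 2)⁻¹) hq
  have h9 : algebraMap k K (((1 - l ^ 2) * 2)⁻¹) * ((1 - algebraMap k K l ^ 2) * (2 * α⁻¹)) =
      α⁻¹ := by
    have : algebraMap k K ((1 - l ^ 2) * 2) ≠ 0 := (map_ne_zero (algebraMap k K)).mpr hc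
    rw [map_inv₀]
    simp only [map_mul, map_sub, map_one, map_pow, map_ofNat] at this ⊢
    have hc1 : (1 - algebraMap k K l ^ 2) ≠ 0 := left_ne_zero_of_mul this
    field_simp
  rwa [h9] at h8

end Cfsg.Agent.Lib.Helper8.SL2Gen
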