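import Mathlib
import Cfsg.Agent.Lib.Helper8.SL2GenC

/-!
# `⟨a(k), b(kα)⟩ = SL₂(k(α))` for `α` algebraic over `k` (characteristic not 2, `|k| > 3`)
-/

set_option autoImplicit false

namespace Cfsg.Agent.Lib.Helper8.SL2Gen

open Matrix

variable {k K : Type*} [Field k] [Field K] [Algebra k K]

/-- a field of characteristic not 2 with more than three elements has a unit whose square is
not `1`. -/
lemma exists_sq_ne_one (h2 : (2 : k) ≠ 0) (hk3 : Nat.card k ≠ 3) :
    ∃ l : k, l ≠ 0 ∧ l ^ 2 ≠ 1 := by
  by_contra hcon
  push Not at hcon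
  apply hk3
  have huniv : (Set.univ : Set k) = {0, 1, -1} := by
    ext x
    simp only [Set.mem_univ, true_iff, Set.mem_insert_iff, Set.mem_singleton_iff]
    by_cases hx : x = 0
    · left; exact hx
    · have h1 := hcon x hx
      have h3 : (x - 1) * (x + 1) = 0 := by linear_combination h1
      rcases mul_eq_zero.mp h3 with h | h
      · right; left; linear_combination h
      · right; right; linear_combination h
  rw [← Set.ncard_univ, huniv]
  refine Set.ncard_eq_three.mpr ⟨0, 1, -1, zero_ne_one, ?_, ?_, rfl⟩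
  · intro h; apply h2; linear_combination (2 : k) * h
  · intro h; apply h2; linear_combination h

/-- the matrices of `SL₂(K)` with all entries in an intermediate field. -/
def ratSub (F : IntermediateField k K) : Subgroup (SpecialLinearGroup (Fin 2) K) where
  carrier := {g | ∀ i j : Fin 2, (g : Matrix (Fin 2) (Fin 2) K) i j ∈ F}
  mul_mem' := by
    intro g h hg hh i j
    simp only [Matrix.SpecialLinearGroup.coe_mul, Matrix.mul_apply, Fin.sum_univ_two]
    exact F.add_mem (F.mul_mem (hg _ _) (hh _ _)) (F.mul_mem (hg _ _) (hh _ _))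
  one_mem' := by
    intro i j
    simp only [Matrix.SpecialLinearGroup.coe_one, Matrix.one_apply]
    split_ifs
    · exact F.one_mem
    · exact F.zero_mem
  inv_mem' := by
    intro g hg i j
    simp only [Matrix.SpecialLinearGroup.coe_inv, Matrix.adjugate_fin_two]
    fin_cases i <;> fin_cases j <;> simp
    · exact hg 1 1
    · exact hg 0 1
    · exact hg 1 0
    · exact hg 0 0

lemma mem_ratSub (F : IntermediateField k K) (g : SpecialLinearGroup (Fin 2) K) :
    g ∈ ratSub F ↔ ∀ i j : Fin 2, (g : Matrix (Fin 2) (Fin 2) K) i j ∈ F := Iff.rfl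

variable (α : K)

/-- the multipliers of `M = {t | a(t) ∈ L}`. -/
def mulSub (h2 : (2 : k) ≠ 0) : Subalgebra k K where
  carrier := {m | ∀ t : K, aM t ∈ Lg k α → aM (m * t) ∈ Lg k α}
  mul_mem' := by
    intro m m' hm hm' t ht
    rw [mul_assoc]; exact hm _ (hm' _ ht)
  one_mem' := by
    intro t ht; rwa [one_mul]
  add_mem' := by
    intro m m' hm hm' t ht
    rw [add_mul]; exact aM_add_mem α (hm _ ht) (hm' _ ht)
  zero_mem' := by
    intro t _; rw [zero_mul, aM_zero]; exact one_mem _
  algebraMap_mem' := by
    intro c t ht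
    exact aM_smul_mem α h2 c ht

lemma mem_mulSub (h2 : (2 : k) ≠ 0) (m : K) :
    m ∈ mulSub α h2 ↔ ∀ t : K, aM t ∈ Lg k α → aM (m * t) ∈ Lg k α := Iff.rfl

/-- **Main theorem** (Timmesfeld): for `α ≠ 0` algebraic over `k`, `char k ≠ 2`, `|k| ≠ 3`, the
subgroup generated by `a(k)` and `b(kα)` is `SL₂(k(α))`. -/
theorem Lg_eq (h2 : (2 : k) ≠ 0) (hk3 : Nat.card k ≠ 3) (hα0 : α ≠ 0) (hα : IsAlgebraic k α) :
    Lg k α = ratSub (IntermediateField.adjoin k ({α} : Set K)) := by
  have hl := exists_sq_ne_one h2 hk3
  have hαF : α ∈ IntermediateField.adjoin k ({α} : Set K) :=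
    IntermediateField.mem_adjoin_simple_self k α
  apply le_antisymm
  · -- generators are rational
    apply (Subgroup.closure_le _).mpr
    rintro g (⟨c, rfl⟩ | ⟨c, rfl⟩)
    · intro i j
      fin_cases i <;> fin_cases j <;> simp
    · intro i j
      fin_cases i <;> fin_cases j <;> simp
      exact (IntermediateField.adjoin k ({α} : Set K)).mul_mem
          ((IntermediateField.adjoin k ({α} : Set K)).algebraMap_mem c) hαF
  · -- the key element
    have hβ := aM_inv_mem α h2 hl hα0 hα
    have hb : ∀ c : k, bM (algebraMap k K c) ∈ Lg k α := by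
      intro c
      have h3 := bM_mem_of_aM α hα0 (aM_smul_mem α h2 c hβ)
      have : α * (algebraMap k K c * α⁻¹) = algebraMap k K c := by field_simp
      rwa [this] at h3
    have hw : (wM : SpecialLinearGroup (Fin 2) K) ∈ Lg k α := by
      rw [wM_eq]
      have e1 : (1 : K) = algebraMap k K 1 := by simp
      have e2 : (-1 : K) = algebraMap k K (-1) := by simp
      rw [e2, e1]
      exact mul_mem (mul_mem (aM_gen α _) (hb _)) (aM_gen α _)
    have hαM : α ∈ mulSub α h2 := by
      intro t ht
      have h3 := bM_mem_of_aM α hα0 ht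
      have h4 : wM * bM (α * t) * (wM : SpecialLinearGroup (Fin 2) K)⁻¹ ∈ Lg k α :=
        mul_mem (mul_mem hw h3) (inv_mem hw)
      rw [wM_conj_bM] at h4
      have := aM_neg_mem α h4
      rwa [neg_neg] at this
    have hadj : Algebra.adjoin k ({α} : Set K) ≤ mulSub α h2 :=
      Algebra.adjoin_le (Set.singleton_subset_iff.mpr hαM)
    have hF : ∀ t ∈ IntermediateField.adjoin k ({α} : Set K), aM t ∈ Lg k α := by
      intro t ht
      have h3 : t ∈ (IntermediateField.adjoin k ({α} : Set K)).toSubalgebra := ht
      rw [IntermediateField.adjoin_simple_toSubalgebra_of_isAlgebraic hα] at h3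
      have h4 := hadj h3 1 (by
        have e1 : (1 : K) = algebraMap k K 1 := by simp
        rw [e1]; exact aM_gen α _)
      rwa [mul_one] at h4
    have hFb : ∀ u ∈ IntermediateField.adjoin k ({α} : Set K), bM u ∈ Lg k α := by
      intro u hu
      have h3 := bM_mem_of_aM α hα0
        (hF _ ((IntermediateField.adjoin k ({α} : Set K)).div_mem hu hαF))
      have : α * (u / α) = u := by field_simp
      rwa [this] at h3
    -- elements with nonzero lower left entry
    have hmain : ∀ g : SpecialLinearGroup (Fin 2) K,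
        g ∈ ratSub (IntermediateField.adjoin k ({α} : Set K)) →
        (g : Matrix (Fin 2) (Fin 2) K) 1 0 ≠ 0 → g ∈ Lg k α := by
      intro g hg h10
      rw [decomp g h10]
      refine mul_mem (mul_mem (hF _ ?_) (hFb _ (hg 1 0))) (hF _ ?_)
      · exact (IntermediateField.adjoin k ({α} : Set K)).div_mem
          ((IntermediateField.adjoin k ({α} : Set K)).sub_mem (hg 0 0)
            (IntermediateField.adjoin k ({α} : Set K)).one_mem) (hg 1 0)
      · exact (IntermediateField.adjoin k ({α} : Set K)).div_mem
          ((IntermediateField.adjoin k ({α} : Set K)).sub_mem (hg 1 1)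
            (IntermediateField.adjoin k ({α} : Set K)).one_mem) (hg 1 0)
    intro g hg
    by_cases h10 : (g : Matrix (Fin 2) (Fin 2) K) 1 0 = 0
    · have hd := sl2_det g
      rw [h10, mul_zero, sub_zero] at hd
      have h00 : (g : Matrix (Fin 2) (Fin 2) K) 0 0 ≠ 0 := left_ne_zero_of_mul_eq_one hd
      have hb1 : bM (1 : K) ∈ Lg k α := by
        have e1 : (1 : K) = algebraMap k K 1 := by simp
        rw [e1]; exact hb 1
      have hb1' : bM (1 : K) ∈ ratSub (IntermediateField.adjoin k ({α} : Set K)) := by
        intro i j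
        fin_cases i <;> fin_cases j <;> simp
      have h5 : bM (1 : K) * g ∈ Lg k α := by
        apply hmain _ (mul_mem hb1' hg)
        simp only [Matrix.SpecialLinearGroup.coe_mul, Matrix.mul_apply, Fin.sum_univ_two]
        simp [h10, h00]
      have : g = (bM (1 : K))⁻¹ * (bM (1 : K) * g) := by group
      rw [this]
      exact mul_mem (inv_mem hb1) h5
    · exact hmain g hg h10

end Cfsg.Agent.Lib.Helper8.SL2Gen
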