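import Mathlib
import Cfsg.Agent.Lib.Helper8.SL2GenA

/-!
# The rank-one Steinberg presentation, part A: formal consequences of the relations

`StData K G` packages a group `G` generated by two families `X t`, `Y t` (`t : K`) satisfying the
rank-one Steinberg relations, with a homomorphism onto `SL₂(K)`.  This file derives the formal
consequences of the relations: the conjugation formulas for `W t = X t * Y (-t⁻¹) * X t` and
`H t = W t * (W 1)⁻¹`.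
-/

set_option autoImplicit false

namespace Cfsg.Agent.Lib.Helper8.SL2Pres

open Matrix
open Cfsg.Agent.Lib.Helper8.SL2Gen

/-- Steinberg data of rank one. -/
structure StData (K : Type*) (G : Type*) [Field K] [Group G] where
  /-- upper root elements -/
  X : K → G
  /-- lower root elements -/
  Y : K → G
  X_add : ∀ t u, X t * X u = X (t + u)
  Y_add : ∀ t u, Y t * Y u = Y (t + u)
  relX : ∀ t u, t ≠ 0 →
    (X t * Y (-t⁻¹) * X t) * X u * (X t * Y (-t⁻¹) * X t)⁻¹ = Y (-(t⁻¹ ^ 2 * u))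
  relY : ∀ t u, t ≠ 0 →
    (Y t * X (-t⁻¹) * Y t) * Y u * (Y t * X (-t⁻¹) * Y t)⁻¹ = X (-(t⁻¹ ^ 2 * u))
  /-- the projection to `SL₂` -/
  π : G →* SpecialLinearGroup (Fin 2) K
  πX : ∀ t, π (X t) = aM t
  πY : ∀ t, π (Y t) = bM t
  gen : Subgroup.closure (Set.range X ∪ Set.range Y) = ⊤

namespace StData

variable {K : Type*} {G : Type*} [Field K] [Group G] (D : StData K G)

lemma X_zero : D.X 0 = 1 := by
  have h := D.X_add 0 0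
  rw [add_zero] at h
  exact mul_left_cancel (a := D.X 0) (by rw [h, mul_one])

lemma Y_zero : D.Y 0 = 1 := by
  have h := D.Y_add 0 0
  rw [add_zero] at h
  exact mul_left_cancel (a := D.Y 0) (by rw [h, mul_one])

lemma X_neg (t : K) : D.X (-t) = (D.X t)⁻¹ := by
  rw [eq_inv_iff_mul_eq_one, D.X_add, neg_add_cancel, D.X_zero]

lemma Y_neg (t : K) : D.Y (-t) = (D.Y t)⁻¹ := by
  rw [eq_inv_iff_mul_eq_one, D.Y_add, neg_add_cancel, D.Y_zero]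

/-- the Weyl-type element `w(t)`. -/
def W (t : K) : G := D.X t * D.Y (-t⁻¹) * D.X t

/-- the torus-type element `h(t)`. -/
def H (t : K) : G := D.W t * (D.W 1)⁻¹

lemma W_inv (t : K) : (D.W t)⁻¹ = D.W (-t) := by
  unfold W
  rw [_root_.mul_inv_rev, _root_.mul_inv_rev, ← D.X_neg, ← D.Y_neg, neg_neg, inv_neg, neg_neg,
    mul_assoc]

lemma W_conj_X {t : K} (ht : t ≠ 0) (u : K) :
    D.W t * D.X u * (D.W t)⁻¹ = D.Y (-(t⁻¹ ^ 2 * u)) := D.relX t u ht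

lemma W_inv_conj_X {t : K} (ht : t ≠ 0) (u : K) :
    (D.W t)⁻¹ * D.X u * D.W t = D.Y (-(t⁻¹ ^ 2 * u)) := by
  have h := D.W_conj_X (neg_ne_zero.mpr ht) u
  rw [← D.W_inv, inv_inv] at h
  rw [h, inv_neg, neg_sq]

lemma W_conj_Y {t : K} (ht : t ≠ 0) (v : K) :
    D.W t * D.Y v * (D.W t)⁻¹ = D.X (-(t ^ 2 * v)) := by
  have h := D.W_inv_conj_X ht (-(t ^ 2 * v))
  have e : -(t⁻¹ ^ 2 * -(t ^ 2 * v)) = v := by field_simp
  rw [e] at h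
  rw [← h]; group

lemma W_inv_conj_Y {t : K} (ht : t ≠ 0) (v : K) :
    (D.W t)⁻¹ * D.Y v * D.W t = D.X (-(t ^ 2 * v)) := by
  have h := D.W_conj_Y (neg_ne_zero.mpr ht) v
  rw [← D.W_inv, inv_inv] at h
  rw [h, neg_sq]

/-- the other expression of `w(t)`. -/
lemma W_alt {t : K} (ht : t ≠ 0) : D.W t = D.Y (-t⁻¹) * D.X t * D.Y (-t⁻¹) := by
  have h : D.W t = D.W t * (D.X t * D.Y (-t⁻¹) * D.X t) * (D.W t)⁻¹ := by
    change _ = D.W t * D.W t * (D.W t)⁻¹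
    group
  have e1 : -(t⁻¹ ^ 2 * t) = -t⁻¹ := by field_simp
  have e2 : -(t ^ 2 * -t⁻¹) = t := by field_simp
  calc D.W t = D.W t * (D.X t * D.Y (-t⁻¹) * D.X t) * (D.W t)⁻¹ := h
    _ = (D.W t * D.X t * (D.W t)⁻¹) * (D.W t * D.Y (-t⁻¹) * (D.W t)⁻¹) *
          (D.W t * D.X t * (D.W t)⁻¹) := by group
    _ = D.Y (-t⁻¹) * D.X t * D.Y (-t⁻¹) := by
        rw [D.W_conj_X ht, D.W_conj_Y ht, e1, e2]

lemma w_conj_X (u : K) : D.W 1 * D.X u * (D.W 1)⁻¹ = D.Y (-u) := by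
  rw [D.W_conj_X one_ne_zero]; simp

lemma w_conj_Y (u : K) : D.W 1 * D.Y u * (D.W 1)⁻¹ = D.X (-u) := by
  rw [D.W_conj_Y one_ne_zero]; simp

lemma w_inv_conj_X (u : K) : (D.W 1)⁻¹ * D.X u * D.W 1 = D.Y (-u) := by
  rw [D.W_inv_conj_X one_ne_zero]; simp

lemma w_inv_conj_Y (u : K) : (D.W 1)⁻¹ * D.Y u * D.W 1 = D.X (-u) := by
  rw [D.W_inv_conj_Y one_ne_zero]; simp

lemma H_conj_X {t : K} (ht : t ≠ 0) (u : K) :
    D.H t * D.X u * (D.H t)⁻¹ = D.X (t ^ 2 * u) := by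
  have h : D.H t * D.X u * (D.H t)⁻¹ =
      D.W t * ((D.W 1)⁻¹ * D.X u * D.W 1) * (D.W t)⁻¹ := by
    unfold H; group
  rw [h, D.w_inv_conj_X, D.W_conj_Y ht]
  congr 1; ring

lemma H_conj_Y {t : K} (ht : t ≠ 0) (u : K) :
    D.H t * D.Y u * (D.H t)⁻¹ = D.Y (t⁻¹ ^ 2 * u) := by
  have h : D.H t * D.Y u * (D.H t)⁻¹ =
      D.W t * ((D.W 1)⁻¹ * D.Y u * D.W 1) * (D.W t)⁻¹ := by
    unfold H; group
  rw [h, D.w_inv_conj_Y, D.W_conj_X ht]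
  congr 1; ring

lemma w_conj_W {t : K} (ht : t ≠ 0) : D.W 1 * D.W t * (D.W 1)⁻¹ = D.W t⁻¹ := by
  have h : D.W 1 * D.W t * (D.W 1)⁻¹ =
      (D.W 1 * D.X t * (D.W 1)⁻¹) * (D.W 1 * D.Y (-t⁻¹) * (D.W 1)⁻¹) *
        (D.W 1 * D.X t * (D.W 1)⁻¹) := by
    change D.W 1 * (D.X t * D.Y (-t⁻¹) * D.X t) * (D.W 1)⁻¹ = _
    group
  rw [h, D.w_conj_X, D.w_conj_Y, D.W_alt (inv_ne_zero ht), inv_inv, neg_neg]

lemma w_conj_H {t : K} (ht : t ≠ 0) : D.W 1 * D.H t * (D.W 1)⁻¹ = D.H t⁻¹ := by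
  have h : D.W 1 * D.H t * (D.W 1)⁻¹ = (D.W 1 * D.W t * (D.W 1)⁻¹) * (D.W 1)⁻¹ := by
    unfold H; group
  rw [h, D.w_conj_W ht]; rfl

lemma w_inv_conj_H {t : K} (ht : t ≠ 0) : (D.W 1)⁻¹ * D.H t * D.W 1 = D.H t⁻¹ := by
  have h := D.w_conj_H (inv_ne_zero ht)
  rw [inv_inv] at h
  rw [← h]; group

lemma H_one : D.H 1 = 1 := mul_inv_cancel _

lemma W_eq (t : K) : D.W t = D.H t * D.W 1 := by
  unfold H; group

lemma w_sq : D.W 1 * D.W 1 = (D.H (-1))⁻¹ := by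
  unfold H
  rw [← D.W_inv, _root_.mul_inv_rev, inv_inv]

lemma w_inv_eq : (D.W 1)⁻¹ = D.W 1 * D.H (-1) := by
  unfold H
  rw [← D.W_inv]; group

lemma H_conj_W {t u : K} (ht : t ≠ 0) (hu : u ≠ 0) :
    D.H t * D.W u * (D.H t)⁻¹ = D.W (t ^ 2 * u) := by
  have h : D.H t * D.W u * (D.H t)⁻¹ =
      (D.H t * D.X u * (D.H t)⁻¹) * (D.H t * D.Y (-u⁻¹) * (D.H t)⁻¹) *
        (D.H t * D.X u * (D.H t)⁻¹) := by
    change D.H t * (D.X u * D.Y (-u⁻¹) * D.X u) * (D.H t)⁻¹ = _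
    group
  have e : t⁻¹ ^ 2 * -u⁻¹ = -(t ^ 2 * u)⁻¹ := by field_simp
  rw [h, D.H_conj_X ht, D.H_conj_Y ht, e]
  rfl

lemma H_conj_H {t u : K} (ht : t ≠ 0) (hu : u ≠ 0) :
    D.H t * D.H u * (D.H t)⁻¹ = D.H (t ^ 2 * u) * (D.H (t ^ 2))⁻¹ := by
  have h : D.H t * D.H u * (D.H t)⁻¹ =
      (D.H t * D.W u * (D.H t)⁻¹) * (D.H t * D.W 1 * (D.H t)⁻¹)⁻¹ := by
    change D.H t * (D.W u * (D.W 1)⁻¹) * (D.H t)⁻¹ = _
    group
  rw [h, D.H_conj_W ht hu, D.H_conj_W ht one_ne_zero, mul_one]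
  unfold H; group

/-- solving the definition of `w(s)` for the `Y`-factor. -/
lemma Y_eq (s : K) : D.Y (-s⁻¹) = D.X (-s) * D.W s * D.X (-s) := by
  unfold W
  rw [D.X_neg]; group

/-! ### Images in `SL₂` -/

lemma π_W (t : K) : D.π (D.W t) = aM t * bM (-t⁻¹) * aM t := by
  unfold W
  rw [map_mul, map_mul, D.πX, D.πY]

lemma π_w : D.π (D.W 1) = wM := by
  rw [D.π_W, wM_eq, inv_one]

lemma π_H {t : K} (ht : t ≠ 0) : D.π (D.H t) = hM t ht := by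
  unfold H
  rw [map_mul, map_inv, D.π_W, D.π_w]
  have h : aM t * bM (-t⁻¹) * aM t = hM t ht * wM := by
    apply sl2_ext <;> simp [Matrix.mul_apply, Fin.sum_univ_two, ht]
  rw [h, mul_inv_cancel_right]

end StData

end Cfsg.Agent.Lib.Helper8.SL2Pres
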