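import Mathlib
import Cfsg.Agent.Lib.Helper8.SL2PresA

/-!
# The rank-one Steinberg presentation, part B: Bruhat normal form and the kernel

Every element of the group is of the form `X t * η` or `X t * η * w * X s` with `η` in the subgroup
`Hs` generated by the `h(t)`; hence the kernel of the projection to `SL₂` lies in `Hs` and is
central.
-/

set_option autoImplicit false

namespace Cfsg.Agent.Lib.Helper8.SL2Pres

open Matrix
open Cfsg.Agent.Lib.Helper8.SL2Gen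

section torus
variable {K : Type*} [Field K]

lemma hM_one' : hM (1 : K) one_ne_zero = 1 := by
  apply sl2_ext <;> simp

lemma hM_mul' (a b : K) (ha : a ≠ 0) (hb : b ≠ 0) :
    hM a ha * hM b hb = hM (a * b) (mul_ne_zero ha hb) := by
  apply sl2_ext <;> simp [Matrix.mul_apply, Fin.sum_univ_two, mul_comm]

lemma hM_inv' (a : K) (ha : a ≠ 0) : (hM a ha)⁻¹ = hM a⁻¹ (inv_ne_zero ha) := by
  apply inv_eq_of_mul_eq_one_right
  apply sl2_ext <;> simp [Matrix.mul_apply, Fin.sum_univ_two, ha]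

end torus

namespace StData

variable {K : Type*} {G : Type*} [Field K] [Group G] (D : StData K G)

/-- `η` acts as the torus element with parameter `d`. -/
def IsTor (η : G) : Prop :=
  ∃ d : K, ∃ hd : d ≠ 0, D.π η = hM d hd ∧ (∀ u, η * D.X u * η⁻¹ = D.X (d ^ 2 * u)) ∧
    (∀ u, η * D.Y u * η⁻¹ = D.Y ((d ^ 2)⁻¹ * u))

lemma isTor_one : D.IsTor 1 :=
  ⟨1, one_ne_zero, by rw [map_one, hM_one'], by intro u; simp, by intro u; simp⟩

lemma isTor_mul {a b : G} (ha : D.IsTor a) (hb : D.IsTor b) : D.IsTor (a * b) := by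
  obtain ⟨d, hd, h1, h2, h3⟩ := ha
  obtain ⟨e, he, k1, k2, k3⟩ := hb
  refine ⟨d * e, mul_ne_zero hd he, by rw [map_mul, h1, k1, hM_mul'], ?_, ?_⟩
  · intro u
    have h : a * b * D.X u * (a * b)⁻¹ = a * (b * D.X u * b⁻¹) * a⁻¹ := by group
    rw [h, k2, h2]; congr 1; ring
  · intro u
    have h : a * b * D.Y u * (a * b)⁻¹ = a * (b * D.Y u * b⁻¹) * a⁻¹ := by group
    rw [h, k3, h3]; congr 1; field_simp

lemma isTor_inv {a : G} (ha : D.IsTor a) : D.IsTor a⁻¹ := by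
  obtain ⟨d, hd, h1, h2, h3⟩ := ha
  refine ⟨d⁻¹, inv_ne_zero hd, by rw [map_inv, h1, hM_inv'], ?_, ?_⟩
  · intro u
    have h := h2 (d⁻¹ ^ 2 * u)
    have e : d ^ 2 * (d⁻¹ ^ 2 * u) = u := by field_simp
    rw [e] at h
    rw [← h]; group
  · intro u
    have h := h3 ((d⁻¹ ^ 2)⁻¹ * u)
    have e : (d ^ 2)⁻¹ * ((d⁻¹ ^ 2)⁻¹ * u) = u := by field_simp
    rw [e] at h
    rw [← h]; group

lemma isTor_H {t : K} (ht : t ≠ 0) : D.IsTor (D.H t) :=
  ⟨t, ht, D.π_H ht, D.H_conj_X ht, fun u => by rw [D.H_conj_Y ht, inv_pow]⟩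

/-- the subgroup generated by the `h(t)`. -/
def Hs : Subgroup G := Subgroup.closure {g | ∃ t : K, t ≠ 0 ∧ g = D.H t}

lemma H_mem {t : K} (ht : t ≠ 0) : D.H t ∈ D.Hs := Subgroup.subset_closure ⟨t, ht, rfl⟩

lemma isTor_of_mem {η : G} (h : η ∈ D.Hs) : D.IsTor η := by
  refine Subgroup.closure_induction (p := fun x _ => D.IsTor x) ?_ ?_ ?_ ?_ h
  · rintro x ⟨t, ht, rfl⟩; exact D.isTor_H ht
  · exact D.isTor_one
  · intro x y _ _ hx hy; exact D.isTor_mul hx hy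
  · intro x _ hx; exact D.isTor_inv hx

lemma w_conj_mem {η : G} (h : η ∈ D.Hs) : D.W 1 * η * (D.W 1)⁻¹ ∈ D.Hs := by
  refine Subgroup.closure_induction (p := fun x _ => D.W 1 * x * (D.W 1)⁻¹ ∈ D.Hs) ?_ ?_ ?_ ?_ h
  · rintro x ⟨t, ht, rfl⟩
    rw [D.w_conj_H ht]; exact D.H_mem (inv_ne_zero ht)
  · rw [mul_one, mul_inv_cancel]; exact one_mem _
  · intro x y _ _ hx hy
    have e : D.W 1 * (x * y) * (D.W 1)⁻¹ =
        (D.W 1 * x * (D.W 1)⁻¹) * (D.W 1 * y * (D.W 1)⁻¹) := by group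
    rw [e]; exact mul_mem hx hy
  · intro x _ hx
    have e : D.W 1 * x⁻¹ * (D.W 1)⁻¹ = (D.W 1 * x * (D.W 1)⁻¹)⁻¹ := by group
    rw [e]; exact inv_mem hx

lemma w_inv_conj_mem {η : G} (h : η ∈ D.Hs) : (D.W 1)⁻¹ * η * D.W 1 ∈ D.Hs := by
  refine Subgroup.closure_induction (p := fun x _ => (D.W 1)⁻¹ * x * D.W 1 ∈ D.Hs) ?_ ?_ ?_ ?_ h
  · rintro x ⟨t, ht, rfl⟩
    rw [D.w_inv_conj_H ht]; exact D.H_mem (inv_ne_zero ht)
  · rw [mul_one, inv_mul_cancel]; exact one_mem _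
  · intro x y _ _ hx hy
    have e : (D.W 1)⁻¹ * (x * y) * D.W 1 =
        ((D.W 1)⁻¹ * x * D.W 1) * ((D.W 1)⁻¹ * y * D.W 1) := by group
    rw [e]; exact mul_mem hx hy
  · intro x _ hx
    have e : (D.W 1)⁻¹ * x⁻¹ * D.W 1 = ((D.W 1)⁻¹ * x * D.W 1)⁻¹ := by group
    rw [e]; exact inv_mem hx

lemma w_sq_mem : D.W 1 * D.W 1 ∈ D.Hs := by
  rw [D.w_sq]; exact inv_mem (D.H_mem (neg_ne_zero.mpr one_ne_zero))

lemma tor_mul_X {η : G} (h : D.IsTor η) : ∃ c : K, ∀ u, η * D.X u = D.X (c * u) * η := by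
  obtain ⟨d, hd, -, h2, -⟩ := h
  exact ⟨d ^ 2, fun u => by rw [← h2 u]; group⟩

lemma X_mul_tor {η : G} (h : D.IsTor η) : ∃ c : K, ∀ u, D.X u * η = η * D.X (c * u) := by
  obtain ⟨c, hc⟩ := D.tor_mul_X (D.isTor_inv h)
  refine ⟨c, fun u => ?_⟩
  calc D.X u * η = η * (η⁻¹ * D.X u) * η := by group
    _ = η * (D.X (c * u) * η⁻¹) * η := by rw [hc]
    _ = η * D.X (c * u) := by group

/-- the small Bruhat cell. -/
def Cell1 : Set G := {g | ∃ t : K, ∃ η ∈ D.Hs, g = D.X t * η}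

/-- the big Bruhat cell. -/
def Cell2 : Set G := {g | ∃ t : K, ∃ η ∈ D.Hs, ∃ s : K, g = D.X t * η * D.W 1 * D.X s}

/-- the union of the two cells. -/
def Big : Set G := D.Cell1 ∪ D.Cell2

lemma big_mul_X {g : G} (hg : g ∈ D.Big) (u : K) : g * D.X u ∈ D.Big := by
  rcases hg with ⟨t, η, hη, rfl⟩ | ⟨t, η, hη, s, rfl⟩
  · obtain ⟨c, hc⟩ := D.tor_mul_X (D.isTor_of_mem hη)
    left
    refine ⟨t + c * u, η, hη, ?_⟩
    rw [mul_assoc, hc, ← mul_assoc, D.X_add]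
  · right
    exact ⟨t, η, hη, s + u, by rw [mul_assoc, D.X_add]⟩

lemma big_mul_tor {g : G} (hg : g ∈ D.Big) {ζ : G} (hζ : ζ ∈ D.Hs) : g * ζ ∈ D.Big := by
  rcases hg with ⟨t, η, hη, rfl⟩ | ⟨t, η, hη, s, rfl⟩
  · left; exact ⟨t, η * ζ, mul_mem hη hζ, by rw [mul_assoc]⟩
  · right
    obtain ⟨c, hc⟩ := D.X_mul_tor (D.isTor_of_mem hζ)
    refine ⟨t, η * (D.W 1 * ζ * (D.W 1)⁻¹), mul_mem hη (D.w_conj_mem hζ), c * s, ?_⟩
    rw [mul_assoc _ (D.X s) ζ, hc]; group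

lemma big_mul_w {g : G} (hg : g ∈ D.Big) : g * D.W 1 ∈ D.Big := by
  rcases hg with ⟨t, η, hη, rfl⟩ | ⟨t, η, hη, s, rfl⟩
  · right; exact ⟨t, η, hη, 0, by rw [D.X_zero, mul_one]⟩
  · by_cases hs : s = 0
    · subst hs
      left
      refine ⟨t, η * (D.W 1 * D.W 1), mul_mem hη D.w_sq_mem, ?_⟩
      rw [D.X_zero]; group
    · right
      have hζ : η * (D.W 1 * D.W 1) ∈ D.Hs := mul_mem hη D.w_sq_mem
      obtain ⟨c, hc⟩ := D.tor_mul_X (D.isTor_of_mem hζ)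
      refine ⟨t + c * (-s⁻¹), η * (D.W 1 * D.W 1) * D.H s⁻¹,
        mul_mem hζ (D.H_mem (inv_ne_zero hs)), -s⁻¹, ?_⟩
      have h1 : D.X t * η * D.W 1 * D.X s * D.W 1 =
          D.X t * (η * (D.W 1 * D.W 1)) * ((D.W 1)⁻¹ * D.X s * D.W 1) := by group
      have h2 : D.Y (-s) = D.X (-s⁻¹) * D.W s⁻¹ * D.X (-s⁻¹) := by
        have h := D.Y_eq s⁻¹
        rwa [inv_inv] at h
      rw [h1, D.w_inv_conj_X, h2, D.W_eq s⁻¹]
      calc D.X t * (η * (D.W 1 * D.W 1)) * (D.X (-s⁻¹) * (D.H s⁻¹ * D.W 1) * D.X (-s⁻¹))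
          = D.X t * ((η * (D.W 1 * D.W 1)) * D.X (-s⁻¹)) * D.H s⁻¹ * D.W 1 * D.X (-s⁻¹) := by
            group
        _ = D.X t * (D.X (c * -s⁻¹) * (η * (D.W 1 * D.W 1))) * D.H s⁻¹ * D.W 1 * D.X (-s⁻¹) := by
            rw [hc]
        _ = (D.X t * D.X (c * -s⁻¹)) * (η * (D.W 1 * D.W 1) * D.H s⁻¹) * D.W 1 * D.X (-s⁻¹) := by
            group
        _ = D.X (t + c * -s⁻¹) * (η * (D.W 1 * D.W 1) * D.H s⁻¹) * D.W 1 * D.X (-s⁻¹) := by
            rw [D.X_add]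

lemma big_mul_Y {g : G} (hg : g ∈ D.Big) (u : K) : g * D.Y u ∈ D.Big := by
  have h : D.Y u = D.W 1 * D.H (-1) * D.X (-u) * D.W 1 := by
    rw [← D.w_inv_eq]
    have h' := D.w_inv_conj_X (-u)
    rw [neg_neg] at h'
    exact h'.symm
  rw [h]
  have h3 := D.big_mul_w (D.big_mul_X (D.big_mul_tor (D.big_mul_w hg)
    (D.H_mem (neg_ne_zero.mpr one_ne_zero))) (-u))
  convert h3 using 1
  group

lemma big_univ (g : G) : g ∈ D.Big := by
  have key : ∀ a ∈ Subgroup.closure (Set.range D.X ∪ Set.range D.Y),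
      (∀ g ∈ D.Big, g * a ∈ D.Big) ∧ (∀ g ∈ D.Big, g * a⁻¹ ∈ D.Big) := by
    intro a ha
    refine Subgroup.closure_induction
      (p := fun a _ => (∀ g ∈ D.Big, g * a ∈ D.Big) ∧ (∀ g ∈ D.Big, g * a⁻¹ ∈ D.Big))
      ?_ ?_ ?_ ?_ ha
    · rintro x (⟨u, rfl⟩ | ⟨u, rfl⟩)
      · exact ⟨fun g hg => D.big_mul_X hg u,
          fun g hg => by rw [← D.X_neg]; exact D.big_mul_X hg (-u)⟩
      · exact ⟨fun g hg => D.big_mul_Y hg u,
          fun g hg => by rw [← D.Y_neg]; exact D.big_mul_Y hg (-u)⟩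
    · exact ⟨fun g hg => by rwa [mul_one], fun g hg => by rwa [inv_one, mul_one]⟩
    · rintro x y _ _ ⟨hx1, hx2⟩ ⟨hy1, hy2⟩
      refine ⟨fun g hg => ?_, fun g hg => ?_⟩
      · rw [← mul_assoc]; exact hy1 _ (hx1 _ hg)
      · rw [_root_.mul_inv_rev, ← mul_assoc]; exact hx2 _ (hy2 _ hg)
    · rintro x _ ⟨hx1, hx2⟩
      exact ⟨hx2, fun g hg => by rw [inv_inv]; exact hx1 g hg⟩
  have h1 : (1 : G) ∈ D.Big := Or.inl ⟨0, 1, one_mem _, by rw [D.X_zero, mul_one]⟩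
  have h2 := (key g (by rw [D.gen]; trivial)).1 1 h1
  rwa [one_mul] at h2

lemma π_cell2 {g : G} (hg : g ∈ D.Cell2) : (D.π g : Matrix (Fin 2) (Fin 2) K) 1 0 ≠ 0 := by
  obtain ⟨t, η, hη, s, rfl⟩ := hg
  obtain ⟨d, hd, h1, -, -⟩ := D.isTor_of_mem hη
  rw [map_mul, map_mul, map_mul, D.πX, D.πX, h1, D.π_w]
  simp [Matrix.mul_apply, Fin.sum_univ_two, hd, Matrix.SpecialLinearGroup.coe_mul]

/-- the kernel of the projection lies in `Hs` and is central. -/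
lemma ker_tor {g : G} (hg : D.π g = 1) : g ∈ D.Hs ∧ ∀ a, a * g = g * a := by
  rcases D.big_univ g with ⟨t, η, hη, rfl⟩ | h2
  · obtain ⟨d, hd, h1, h2, h3⟩ := D.isTor_of_mem hη
    rw [map_mul, D.πX, h1] at hg
    have e00 := congrArg
      (fun m : SpecialLinearGroup (Fin 2) K => (m : Matrix (Fin 2) (Fin 2) K) 0 0) hg
    have e01 := congrArg
      (fun m : SpecialLinearGroup (Fin 2) K => (m : Matrix (Fin 2) (Fin 2) K) 0 1) hg
    simp [Matrix.mul_apply, Fin.sum_univ_two, Matrix.SpecialLinearGroup.coe_mul] at e00 e01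
    have ht : t = 0 := by
      rcases e01 with h | h
      · exact h
      · exact absurd h hd
    subst ht
    subst e00
    have hc : ∀ a ∈ Subgroup.closure (Set.range D.X ∪ Set.range D.Y), a * η = η * a := by
      intro a ha
      refine Subgroup.closure_induction (p := fun a _ => a * η = η * a) ?_ ?_ ?_ ?_ ha
      · rintro x (⟨u, rfl⟩ | ⟨u, rfl⟩)
        · have h := h2 u
          rw [one_pow, one_mul] at h
          exact (mul_inv_eq_iff_eq_mul.mp h).symm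
        · have h := h3 u
          rw [one_pow, inv_one, one_mul] at h
          exact (mul_inv_eq_iff_eq_mul.mp h).symm
      · rw [one_mul, mul_one]
      · intro x y _ _ hx hy
        rw [mul_assoc, hy, ← mul_assoc, hx, mul_assoc]
      · intro x _ hx
        calc x⁻¹ * η = x⁻¹ * (η * x) * x⁻¹ := by group
          _ = x⁻¹ * (x * η) * x⁻¹ := by rw [hx]
          _ = η * x⁻¹ := by group
    rw [D.X_zero, one_mul]
    exact ⟨hη, fun a => hc a (by rw [D.gen]; trivial)⟩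
  · exfalso
    have h := D.π_cell2 h2
    rw [hg] at h
    simp at h

end StData

end Cfsg.Agent.Lib.Helper8.SL2Pres
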