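import Mathlib
import Cfsg.Agent.Lib.Helper8.SL2PresB

/-!
# The rank-one Steinberg presentation, part C: the symbols are trivial over a finite field

`Hs` is commutative (a central extension of a cyclic group), `h(s²u) = h(u)h(s²)`, and one relation
`h(t/u) = h(t)h(u⁻¹)` for `t + u = 1` suffices to make `h` multiplicative.  Hence the projection
to `SL₂` is injective.
-/

set_option autoImplicit false

namespace Cfsg.Agent.Lib.Helper8.SL2Pres

open Matrix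
open Cfsg.Agent.Lib.Helper8.SL2Gen

/-- the diagonal torus as a homomorphism. -/
def torHom (K : Type*) [Field K] : Kˣ →* SpecialLinearGroup (Fin 2) K where
  toFun d := hM (d : K) d.ne_zero
  map_one' := hM_one'
  map_mul' a b := by rw [hM_mul']; rfl

namespace StData

variable {K : Type*} {G : Type*} [Field K] [Group G] (D : StData K G)

lemma Hs_comm [Finite K] {a b : G} (ha : a ∈ D.Hs) (hb : b ∈ D.Hs) : a * b = b * a := by
  classical
  let T : Subgroup (SpecialLinearGroup (Fin 2) K) := (torHom K).range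
  have : IsCyclic T :=
    isCyclic_of_surjective (torHom K).rangeRestrict (torHom K).rangeRestrict_surjective
  have hmem : ∀ η : D.Hs, (D.π.comp D.Hs.subtype) η ∈ T := by
    intro η
    obtain ⟨d, hd, h1, -, -⟩ := D.isTor_of_mem η.2
    exact ⟨Units.mk0 d hd, by simp [torHom, h1]⟩
  let f : D.Hs →* T := (D.π.comp D.Hs.subtype).codRestrict T hmem
  have hf : f.ker ≤ Subgroup.center D.Hs := by
    intro η hη
    rw [MonoidHom.mem_ker] at hη
    have h1 : D.π (η : G) = 1 := by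
      have h := congrArg Subtype.val hη
      simpa [f] using h
    rw [Subgroup.mem_center_iff]
    intro ζ
    apply Subtype.ext
    exact (D.ker_tor h1).2 ζ
  have hcomm : IsMulCommutative D.Hs :=
    MonoidHom.isMulCommutative_of_isCyclic_of_ker_le_center f hf
  have h := hcomm.is_comm.comm (⟨a, ha⟩ : D.Hs) ⟨b, hb⟩
  exact congrArg Subtype.val h

lemma H_sq_mul [Finite K] {t u : K} (ht : t ≠ 0) (hu : u ≠ 0) :
    D.H (t ^ 2 * u) = D.H u * D.H (t ^ 2) := by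
  have h := D.H_conj_H ht hu
  have hc : D.H t * D.H u * (D.H t)⁻¹ = D.H u := by
    rw [D.Hs_comm (D.H_mem ht) (D.H_mem hu), mul_inv_cancel_right]
  rw [hc] at h
  rw [h, inv_mul_cancel_right]

lemma tor_X_eq_one {η : G} (hη : η ∈ D.Hs) {e : K} (h : η = D.X e) : η = 1 := by
  obtain ⟨d, hd, h1, -, -⟩ := D.isTor_of_mem hη
  rw [h, D.πX] at h1
  have e01 := congrArg
    (fun m : SpecialLinearGroup (Fin 2) K => (m : Matrix (Fin 2) (Fin 2) K) 0 1) h1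
  simp at e01
  rw [h, e01, D.X_zero]

lemma W_mul_W_mem {a b : K} (ha : a ≠ 0) (hb : b ≠ 0) : D.W a * D.W b ∈ D.Hs := by
  have e : D.W a * D.W b =
      D.H a * (D.W 1 * D.H b * (D.W 1)⁻¹) * (D.W 1 * D.W 1) := by
    rw [D.W_eq a, D.W_eq b]; group
  rw [e]
  exact mul_mem (mul_mem (D.H_mem ha) (D.w_conj_mem (D.H_mem hb))) D.w_sq_mem

/-- the relation between the `w(t)` coming from additivity of `Y`. -/
lemma W_mul_W {b : K} (hb : b ≠ 0) (hb1 : 1 + b ≠ 0) :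
    D.W 1 * D.W b = D.W (1 / (1 + b)) * D.W (b / (1 + b)) := by
  have hγ0 : b / (1 + b) ≠ 0 := div_ne_zero hb hb1
  have hδ0 : 1 / (1 + b) ≠ 0 := div_ne_zero one_ne_zero hb1
  generalize hγ : b / (1 + b) = γ at hγ0 ⊢
  generalize hδ : 1 / (1 + b) = δ at hδ0 ⊢
  have E1 : D.Y (-1) * D.Y (-b⁻¹) = D.Y (-γ⁻¹) := by
    rw [D.Y_add]; congr 1; rw [← hγ]; field_simp; ring
  have y1 : D.Y (-1) = (D.X 1)⁻¹ * D.W 1 * (D.X 1)⁻¹ := by
    have h := D.Y_eq 1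
    rwa [inv_one, D.X_neg] at h
  have yb : D.Y (-b⁻¹) = (D.X b)⁻¹ * D.W b * (D.X b)⁻¹ := by
    have h := D.Y_eq b
    rwa [D.X_neg] at h
  have yγ : D.Y (-γ⁻¹) = (D.X γ)⁻¹ * D.W γ * (D.X γ)⁻¹ := by
    have h := D.Y_eq γ
    rwa [D.X_neg] at h
  have e1 : D.X (-(1 + b)) = (D.X 1)⁻¹ * (D.X b)⁻¹ := by
    rw [← D.X_neg, ← D.X_neg, D.X_add]; congr 1; ring
  have e2 : D.X δ = D.X 1 * (D.X γ)⁻¹ := by
    rw [← D.X_neg, D.X_add]; congr 1; rw [← hδ, ← hγ]; field_simp; ring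
  have e3 : D.X (b - γ) = (D.X γ)⁻¹ * D.X b := by
    rw [← D.X_neg, D.X_add]; congr 1; ring
  have star : D.W 1 * D.X (-(1 + b)) * D.W b = D.X δ * D.W γ * D.X (b - γ) := by
    calc D.W 1 * D.X (-(1 + b)) * D.W b
        = D.X 1 * (((D.X 1)⁻¹ * D.W 1 * (D.X 1)⁻¹) * ((D.X b)⁻¹ * D.W b * (D.X b)⁻¹)) *
            D.X b := by rw [e1]; group
      _ = D.X 1 * ((D.X γ)⁻¹ * D.W γ * (D.X γ)⁻¹) * D.X b := by rw [← y1, ← yb, E1, yγ]
      _ = D.X δ * D.W γ * D.X (b - γ) := by rw [e2, e3]; group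
  have F1 : D.W 1 * D.X (-(1 + b)) = D.X δ * (D.W δ)⁻¹ * D.X δ * D.W 1 := by
    have h1 := D.w_conj_X (-(1 + b))
    rw [neg_neg] at h1
    have h2 := D.Y_eq (-δ)
    rw [neg_neg, ← D.W_inv] at h2
    have h3 : -(-δ)⁻¹ = 1 + b := by rw [← hδ]; field_simp
    rw [h3] at h2
    rw [← h2, ← h1]; group
  have hη : D.W 1 * D.W b ∈ D.Hs := D.W_mul_W_mem one_ne_zero hb
  have hη' : D.W δ * D.W γ ∈ D.Hs := D.W_mul_W_mem hδ0 hγ0
  obtain ⟨c, hc⟩ := D.X_mul_tor (D.isTor_of_mem hη)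
  have main : D.W 1 * D.W b * D.X (c * δ) = D.W δ * D.W γ * D.X (b - γ) := by
    calc D.W 1 * D.W b * D.X (c * δ) = D.X δ * (D.W 1 * D.W b) := (hc δ).symm
      _ = D.W δ * ((D.X δ)⁻¹ * (D.X δ * (D.W δ)⁻¹ * D.X δ * D.W 1) * D.W b) := by group
      _ = D.W δ * ((D.X δ)⁻¹ * (D.W 1 * D.X (-(1 + b))) * D.W b) := by rw [← F1]
      _ = D.W δ * ((D.X δ)⁻¹ * (D.W 1 * D.X (-(1 + b)) * D.W b)) := by group
      _ = D.W δ * ((D.X δ)⁻¹ * (D.X δ * D.W γ * D.X (b - γ))) := by rw [star]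
      _ = D.W δ * D.W γ * D.X (b - γ) := by group
  have hx : (D.W δ * D.W γ)⁻¹ * (D.W 1 * D.W b) = D.X (b - γ + -(c * δ)) := by
    rw [← D.X_add, D.X_neg]
    calc (D.W δ * D.W γ)⁻¹ * (D.W 1 * D.W b)
        = (D.W δ * D.W γ)⁻¹ * (D.W 1 * D.W b * D.X (c * δ)) * (D.X (c * δ))⁻¹ := by group
      _ = (D.W δ * D.W γ)⁻¹ * (D.W δ * D.W γ * D.X (b - γ)) * (D.X (c * δ))⁻¹ := by rw [main]
      _ = D.X (b - γ) * (D.X (c * δ))⁻¹ := by group
  have h1 := D.tor_X_eq_one (mul_mem (inv_mem hη') hη) hx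
  exact (inv_mul_eq_one.mp h1).symm

/-- the key relation between the `h(t)`. -/
lemma H_key {b : K} (hb : b ≠ 0) (hb1 : 1 + b ≠ 0) :
    D.H b⁻¹ = D.H (1 / (1 + b)) * D.H ((1 + b) / b) := by
  have h := D.W_mul_W hb hb1
  rw [D.W_eq b, D.W_eq (1 / (1 + b)), D.W_eq (b / (1 + b))] at h
  have h2 : D.W 1 * D.H b * (D.W 1)⁻¹ =
      D.H (1 / (1 + b)) * (D.W 1 * D.H (b / (1 + b)) * (D.W 1)⁻¹) := by
    calc D.W 1 * D.H b * (D.W 1)⁻¹
        = (D.W 1 * (D.H b * D.W 1)) * (D.W 1)⁻¹ * (D.W 1)⁻¹ := by group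
      _ = (D.H (1 / (1 + b)) * D.W 1 * (D.H (b / (1 + b)) * D.W 1)) * (D.W 1)⁻¹ * (D.W 1)⁻¹ := by
          rw [h]
      _ = D.H (1 / (1 + b)) * (D.W 1 * D.H (b / (1 + b)) * (D.W 1)⁻¹) := by group
  rw [D.w_conj_H hb, D.w_conj_H (div_ne_zero hb hb1)] at h2
  rw [h2, inv_div]

end StData

end Cfsg.Agent.Lib.Helper8.SL2Pres
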