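import Mathlib
import Cfsg.Agent.Lib.Helper8.SL2PresC

/-!
# The rank-one Steinberg presentation, part D: `h` is multiplicative; injectivity
-/

set_option autoImplicit false

namespace Cfsg.Agent.Lib.Helper8.SL2Pres

open Matrix
open Cfsg.Agent.Lib.Helper8.SL2Gen

namespace StData

variable {K : Type*} {G : Type*} [Field K] [Group G] (D : StData K G)

/-- for a non-square `t` of a finite field, `h(t²) = h(t)²`. -/
lemma H_sq_of_not_isSquare [Finite K] {t : K} (ht : t ≠ 0) (hts : ¬ IsSquare t) :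
    D.H (t ^ 2) = D.H t * D.H t := by
  classical
  have : Fintype K := Fintype.ofFinite K
  have hchar : ringChar K ≠ 2 := fun h => hts (FiniteField.isSquare_of_char_two h t)
  have hodd := FiniteField.odd_card_of_char_ne_two hchar
  have hdeg : (Polynomial.C t * Polynomial.X ^ 2 : Polynomial K).degree = 2 := by
    rw [Polynomial.degree_C_mul_X_pow 2 ht]; norm_num
  obtain ⟨a, b, hab⟩ := FiniteField.exists_root_sum_quadratic
    (f := Polynomial.C t * Polynomial.X ^ 2) (g := Polynomial.C t * Polynomial.X ^ 2 - Polynomial.C 1)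
    hdeg (by rw [Polynomial.degree_sub_C (by rw [hdeg]; decide), hdeg]) hodd
  simp only [Polynomial.eval_mul, Polynomial.eval_C, Polynomial.eval_pow, Polynomial.eval_X,
    Polynomial.eval_sub] at hab
  have hab' : t * a ^ 2 + t * b ^ 2 = 1 := by linear_combination hab
  have ha : a ≠ 0 := by
    rintro rfl
    have hb : b ≠ 0 := by
      rintro rfl
      simp at hab'
    apply hts
    refine ⟨b⁻¹, ?_⟩
    field_simp
    linear_combination hab'
  have hb : b ≠ 0 := by
    rintro rfl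
    apply hts
    refine ⟨a⁻¹, ?_⟩
    field_simp
    linear_combination hab'
  -- the key relation
  have hβ : b ^ 2 / a ^ 2 ≠ 0 := div_ne_zero (pow_ne_zero 2 hb) (pow_ne_zero 2 ha)
  have h1β : 1 + b ^ 2 / a ^ 2 = 1 / (t * a ^ 2) := by
    field_simp
    linear_combination hab'
  have hβ1 : 1 + b ^ 2 / a ^ 2 ≠ 0 := by
    rw [h1β]; exact div_ne_zero one_ne_zero (mul_ne_zero ht (pow_ne_zero 2 ha))
  have key := D.H_key hβ hβ1
  have k1 : (b ^ 2 / a ^ 2)⁻¹ = a ^ 2 * (b⁻¹) ^ 2 := by field_simp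
  have k2 : 1 / (1 + b ^ 2 / a ^ 2) = a ^ 2 * t := by rw [h1β]; field_simp
  have k3 : (1 + b ^ 2 / a ^ 2) / (b ^ 2 / a ^ 2) = (t⁻¹ * b⁻¹) ^ 2 * t := by
    rw [h1β]; field_simp
  rw [k1, k2, k3] at key
  have hb' : b⁻¹ ≠ 0 := inv_ne_zero hb
  have ht' : t⁻¹ ≠ 0 := inv_ne_zero ht
  have f1 := D.H_sq_mul ha (pow_ne_zero 2 hb')
  have f2 := D.H_sq_mul ha ht
  have f3 := D.H_sq_mul (mul_ne_zero ht' hb') ht
  have f3' : D.H ((t⁻¹ * b⁻¹) ^ 2) = D.H (b⁻¹ ^ 2) * D.H (t⁻¹ ^ 2) := by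
    have h := D.H_sq_mul ht' (pow_ne_zero 2 hb')
    rwa [← mul_pow] at h
  have f4 : D.H (t ^ 2) * D.H (t⁻¹ ^ 2) = 1 := by
    have h := D.H_sq_mul ht' (pow_ne_zero 2 ht)
    have e : t⁻¹ ^ 2 * t ^ 2 = 1 := by field_simp
    rw [e, D.H_one] at h
    exact h.symm
  rw [f1, f2, f3, f3'] at key
  -- now compute in the commutative group `Hs`
  let _ : CommGroup D.Hs :=
    { (inferInstance : Group D.Hs) with
      mul_comm := fun x y => Subtype.ext (D.Hs_comm x.2 y.2) }
  have memsq : ∀ {x : K}, x ≠ 0 → D.H (x ^ 2) ∈ D.Hs := fun hx => D.H_mem (pow_ne_zero 2 hx)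
  let p : D.Hs := ⟨D.H (a ^ 2), memsq ha⟩
  let q : D.Hs := ⟨D.H (b⁻¹ ^ 2), memsq hb'⟩
  let n : D.Hs := ⟨D.H t, D.H_mem ht⟩
  let m : D.Hs := ⟨D.H (t ^ 2), memsq ht⟩
  let m' : D.Hs := ⟨D.H (t⁻¹ ^ 2), memsq ht'⟩
  have hk : q * p = (n * p) * (n * (q * m')) := Subtype.ext key
  have h4 : m * m' = 1 := Subtype.ext f4
  have h5 : (q * p) * 1 = (q * p) * (n * n * m') := by
    rw [mul_one]
    calc q * p = (n * p) * (n * (q * m')) := hk
      _ = (q * p) * (n * n * m') := by ac_rfl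
  have h6 : 1 = n * n * m' := mul_left_cancel h5
  have h7 : m = n * n := by
    calc m = m * (n * n * m') := by rw [← h6, mul_one]
      _ = n * n * (m * m') := by ac_rfl
      _ = n * n := by rw [h4, mul_one]
  exact congrArg Subtype.val h7

/-- over a finite field, `h` is multiplicative. -/
theorem H_mul [Finite K] {t u : K} (ht : t ≠ 0) (hu : u ≠ 0) :
    D.H (t * u) = D.H t * D.H u := by
  classical
  have : Fintype K := Fintype.ofFinite K
  by_cases hts : IsSquare t
  · obtain ⟨s, rfl⟩ := hts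
    have hs : s ≠ 0 := fun h => ht (by rw [h, mul_zero])
    have h := D.H_sq_mul hs hu
    rw [← pow_two, h, D.Hs_comm (D.H_mem hu) (D.H_mem (pow_ne_zero 2 hs))]
  by_cases hus : IsSquare u
  · obtain ⟨r, rfl⟩ := hus
    have hr : r ≠ 0 := fun h => hu (by rw [h, mul_zero])
    rw [mul_comm t, ← pow_two, D.H_sq_mul hr ht]
  · have h1 : quadraticChar K t = -1 := quadraticChar_neg_one_iff_not_isSquare.mpr hts
    have h2 : quadraticChar K u = -1 := quadraticChar_neg_one_iff_not_isSquare.mpr hus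
    have h3 : quadraticChar K (t * u) = 1 := by rw [map_mul, h1, h2]; norm_num
    obtain ⟨r, hr⟩ := (quadraticChar_one_iff_isSquare (mul_ne_zero ht hu)).mp h3
    have hr0 : r ≠ 0 := by
      rintro rfl
      rw [mul_zero] at hr
      exact mul_ne_zero ht hu hr
    have hc : r / t ≠ 0 := div_ne_zero hr0 ht
    have hu' : u = (r / t) ^ 2 * t := by
      field_simp
      linear_combination hr
    have e : t * u = (r / t) ^ 2 * t ^ 2 := by
      field_simp
      linear_combination hr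
    rw [e, D.H_sq_mul hc (pow_ne_zero 2 ht), D.H_sq_of_not_isSquare ht hts, hu',
      D.H_sq_mul hc ht, mul_assoc]

/-- every element of `Hs` is some `h(t)`. -/
lemma exists_H_of_mem [Finite K] {η : G} (hη : η ∈ D.Hs) : ∃ t : K, t ≠ 0 ∧ η = D.H t := by
  refine Subgroup.closure_induction (p := fun x _ => ∃ t : K, t ≠ 0 ∧ x = D.H t) ?_ ?_ ?_ ?_ hη
  · rintro x ⟨t, ht, rfl⟩; exact ⟨t, ht, rfl⟩
  · exact ⟨1, one_ne_zero, D.H_one.symm⟩
  · rintro x y _ _ ⟨t, ht, rfl⟩ ⟨u, hu, rfl⟩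
    exact ⟨t * u, mul_ne_zero ht hu, (D.H_mul ht hu).symm⟩
  · rintro x _ ⟨t, ht, rfl⟩
    refine ⟨t⁻¹, inv_ne_zero ht, ?_⟩
    have h := D.H_mul (inv_ne_zero ht) ht
    rw [inv_mul_cancel₀ ht, D.H_one] at h
    exact inv_eq_of_mul_eq_one_left h.symm

/-- the projection to `SL₂` is injective over a finite field. -/
theorem π_injective [Finite K] : Function.Injective D.π := by
  rw [injective_iff_map_eq_one]
  intro g hg
  obtain ⟨hmem, -⟩ := D.ker_tor hg
  obtain ⟨t, ht, rfl⟩ := D.exists_H_of_mem hmem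
  rw [D.π_H ht] at hg
  have e00 := congrArg
    (fun m : SpecialLinearGroup (Fin 2) K => (m : Matrix (Fin 2) (Fin 2) K) 0 0) hg
  simp at e00
  rw [e00, D.H_one]

end StData

/-- `SL₂` is generated by the elementary matrices. -/
lemma sl2_closure (K : Type*) [Field K] :
    Subgroup.closure (Set.range (aM : K → SpecialLinearGroup (Fin 2) K) ∪ Set.range bM) = ⊤ := by
  rw [eq_top_iff]
  intro g _
  have key : ∀ g : SpecialLinearGroup (Fin 2) K, (g : Matrix (Fin 2) (Fin 2) K) 1 0 ≠ 0 →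
      g ∈ Subgroup.closure (Set.range (aM : K → SpecialLinearGroup (Fin 2) K) ∪ Set.range bM) := by
    intro g hg
    rw [decomp g hg]
    refine mul_mem (mul_mem ?_ ?_) ?_
    · exact Subgroup.subset_closure (Or.inl ⟨_, rfl⟩)
    · exact Subgroup.subset_closure (Or.inr ⟨_, rfl⟩)
    · exact Subgroup.subset_closure (Or.inl ⟨_, rfl⟩)
  by_cases hg : (g : Matrix (Fin 2) (Fin 2) K) 1 0 = 0
  · have hd := sl2_det g
    rw [hg, mul_zero, sub_zero] at hd
    have h00 : (g : Matrix (Fin 2) (Fin 2) K) 0 0 ≠ 0 := left_ne_zero_of_mul_eq_one hd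
    have h1 : bM 1 * g ∈
        Subgroup.closure (Set.range (aM : K → SpecialLinearGroup (Fin 2) K) ∪ Set.range bM) := by
      apply key
      simp [Matrix.mul_apply, Fin.sum_univ_two, Matrix.SpecialLinearGroup.coe_mul, hg, h00]
    have h2 : g = (bM 1)⁻¹ * (bM 1 * g) := by group
    rw [h2]
    exact mul_mem (inv_mem (Subgroup.subset_closure (Or.inr ⟨_, rfl⟩))) h1
  · exact key g hg

end Cfsg.Agent.Lib.Helper8.SL2Pres
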