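import Mathlib
import Cfsg.Agent.Lib.Helper8.SL2PresD

/-!
# The rank-one Steinberg presentation, part E: the presented group
-/

set_option autoImplicit false

namespace Cfsg.Agent.Lib.Helper8.SL2Pres

open Matrix
open Cfsg.Agent.Lib.Helper8.SL2Gen

/-- the Steinberg relations of rank one. -/
abbrev stRels (K : Type*) [Field K] : Set (FreeGroup (Bool × K)) :=
  {g : FreeGroup (Bool × K) | ∃ (b : Bool) (t u : K),
      g = FreeGroup.of (b, t) * FreeGroup.of (b, u) * (FreeGroup.of (b, t + u))⁻¹} ∪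
    {g | ∃ (b : Bool) (t u : K), t ≠ 0 ∧
      g = (FreeGroup.of (b, t) * FreeGroup.of (!b, -t⁻¹) * FreeGroup.of (b, t)) *
            FreeGroup.of (b, u) *
          (FreeGroup.of (b, t) * FreeGroup.of (!b, -t⁻¹) * FreeGroup.of (b, t))⁻¹ *
            (FreeGroup.of (!b, -(t⁻¹ ^ 2 * u)))⁻¹}

/-- the images of the generators. -/
def genMap (K : Type*) [Field K] : Bool × K → SpecialLinearGroup (Fin 2) K :=
  fun p => if p.1 then aM p.2 else bM p.2

section
variable {K : Type*} [Field K]

lemma rel_aM (t u : K) (ht : t ≠ 0) :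
    (aM t * bM (-t⁻¹) * aM t) * aM u * (aM t * bM (-t⁻¹) * aM t)⁻¹ *
      (bM (-(t⁻¹ ^ 2 * u)))⁻¹ = 1 := by
  rw [mul_inv_eq_one, mul_inv_eq_iff_eq_mul]
  apply sl2_ext <;>
    simp [Matrix.mul_apply, Fin.sum_univ_two, Matrix.SpecialLinearGroup.coe_mul, ht]
  all_goals (field_simp; try ring1)

lemma rel_bM (t u : K) (ht : t ≠ 0) :
    (bM t * aM (-t⁻¹) * bM t) * bM u * (bM t * aM (-t⁻¹) * bM t)⁻¹ *
      (aM (-(t⁻¹ ^ 2 * u)))⁻¹ = 1 := by
  rw [mul_inv_eq_one, mul_inv_eq_iff_eq_mul]
  apply sl2_ext <;>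
    simp [Matrix.mul_apply, Fin.sum_univ_two, Matrix.SpecialLinearGroup.coe_mul, ht]
  all_goals (field_simp; try ring1)

lemma genMap_rels : ∀ r ∈ stRels K, FreeGroup.lift (genMap K) r = 1 := by
  rintro r (⟨b, t, u, rfl⟩ | ⟨b, t, u, ht, rfl⟩)
  · cases b
    · simp [genMap, bM_add]
    · simp [genMap, aM_add]
  · cases b
    · simpa [genMap] using rel_bM t u ht
    · simpa [genMap] using rel_aM t u ht

end

/-- the presented group with its Steinberg data. -/
noncomputable def stData (K : Type*) [Field K] : StData K (PresentedGroup (stRels K)) where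
  X t := PresentedGroup.of (true, t)
  Y t := PresentedGroup.of (false, t)
  X_add t u := by
    have h : FreeGroup.of (true, t) * FreeGroup.of (true, u) * (FreeGroup.of (true, t + u))⁻¹ ∈
        stRels K := Or.inl ⟨true, t, u, rfl⟩
    have h1 := PresentedGroup.one_of_mem h
    rw [map_mul, map_mul, map_inv, mul_inv_eq_one] at h1
    exact h1
  Y_add t u := by
    have h : FreeGroup.of (false, t) * FreeGroup.of (false, u) *
        (FreeGroup.of (false, t + u))⁻¹ ∈ stRels K := Or.inl ⟨false, t, u, rfl⟩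
    have h1 := PresentedGroup.one_of_mem h
    rw [map_mul, map_mul, map_inv, mul_inv_eq_one] at h1
    exact h1
  relX t u ht := by
    have h : (FreeGroup.of (true, t) * FreeGroup.of (false, -t⁻¹) * FreeGroup.of (true, t)) *
            FreeGroup.of (true, u) *
          (FreeGroup.of (true, t) * FreeGroup.of (false, -t⁻¹) * FreeGroup.of (true, t))⁻¹ *
            (FreeGroup.of (false, -(t⁻¹ ^ 2 * u)))⁻¹ ∈ stRels K := Or.inr ⟨true, t, u, ht, rfl⟩
    have h1 := PresentedGroup.one_of_mem h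
    simp only [map_mul, map_inv] at h1
    exact mul_inv_eq_one.mp h1
  relY t u ht := by
    have h : (FreeGroup.of (false, t) * FreeGroup.of (true, -t⁻¹) * FreeGroup.of (false, t)) *
            FreeGroup.of (false, u) *
          (FreeGroup.of (false, t) * FreeGroup.of (true, -t⁻¹) * FreeGroup.of (false, t))⁻¹ *
            (FreeGroup.of (true, -(t⁻¹ ^ 2 * u)))⁻¹ ∈ stRels K := Or.inr ⟨false, t, u, ht, rfl⟩
    have h1 := PresentedGroup.one_of_mem h
    simp only [map_mul, map_inv] at h1
    exact mul_inv_eq_one.mp h1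
  π := PresentedGroup.toGroup genMap_rels
  πX t := by
    rw [PresentedGroup.toGroup.of]; rfl
  πY t := by
    rw [PresentedGroup.toGroup.of]; rfl
  gen := by
    rw [eq_top_iff, ← PresentedGroup.closure_range_of (stRels K)]
    apply Subgroup.closure_mono
    rintro _ ⟨⟨b, t⟩, rfl⟩
    cases b
    · exact Or.inr ⟨t, rfl⟩
    · exact Or.inl ⟨t, rfl⟩

/-- the isomorphism of the presented group with `SL₂`. -/
theorem stData_bijective (K : Type*) [Field K] [Finite K] :
    Function.Bijective (stData K).π := by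
  refine ⟨(stData K).π_injective, ?_⟩
  rw [← MonoidHom.range_eq_top, eq_top_iff, ← sl2_closure K, Subgroup.closure_le]
  rintro _ (⟨t, rfl⟩ | ⟨t, rfl⟩)
  · exact ⟨(stData K).X t, (stData K).πX t⟩
  · exact ⟨(stData K).Y t, (stData K).πY t⟩

end Cfsg.Agent.Lib.Helper8.SL2Pres
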