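import Mathlib
import Cfsg.Agent.Lib.Helper8.RootClassB
import Cfsg.Agent.Lib.Helper8.SUGenC
import Cfsg.Agent.Lib.Helper5.SLVec
import Cfsg.Agent.Lib.Helper5.SLn

/-!
# Point-hyperplane transvection subgroups of `SL_n` (helper8)
-/

set_option autoImplicit false

namespace Cfsg.Agent.Lib.Helper8.SLRoot

open Cfsg Matrix Cfsg.Agent.S5631 Cfsg.Agent.S5016 Cfsg.Agent.Lib.Helper8.RootClass
  Cfsg.Agent.H2.RankOne

variable {k : Type*} [Field k] {N : ℕ}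

/-- the transvection `x ↦ x + c φ(x) v` -/
noncomputable def tv (v φ : Fin N → k) (h : φ ⬝ᵥ v = 0) (c : k) :
    Matrix.SpecialLinearGroup (Fin N) k :=
  ⟨tvM (c • v) φ, by
    rw [Cfsg.Agent.Lib.Helper8.SUGen.det_tvM', dotProduct_smul, h, smul_zero, add_zero]⟩

lemma tv_mulVec (v φ : Fin N → k) (h : φ ⬝ᵥ v = 0) (c : k) (x : Fin N → k) :
    (tv v φ h c : Matrix (Fin N) (Fin N) k) *ᵥ x = x + (c * (φ ⬝ᵥ x)) • v := by
  show tvM (c • v) φ *ᵥ x = _
  rw [tvM_mulVec, smul_smul, mul_comm]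

lemma sl_ext {g h : Matrix.SpecialLinearGroup (Fin N) k}
    (e : ∀ x, (g : Matrix (Fin N) (Fin N) k) *ᵥ x = (h : Matrix (Fin N) (Fin N) k) *ᵥ x) :
    g = h := by
  apply Subtype.ext
  rw [Matrix.ext_iff_mulVec]
  exact e

lemma sl_mul_mulVec (g h : Matrix.SpecialLinearGroup (Fin N) k) (x : Fin N → k) :
    ((g * h : Matrix.SpecialLinearGroup (Fin N) k) : Matrix (Fin N) (Fin N) k) *ᵥ x =
      (g : Matrix (Fin N) (Fin N) k) *ᵥ ((h : Matrix (Fin N) (Fin N) k) *ᵥ x) := by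
  rw [Matrix.SpecialLinearGroup.coe_mul, Matrix.mulVec_mulVec]

lemma sl_one_mulVec (x : Fin N → k) :
    ((1 : Matrix.SpecialLinearGroup (Fin N) k) : Matrix (Fin N) (Fin N) k) *ᵥ x = x := by
  rw [Matrix.SpecialLinearGroup.coe_one, Matrix.one_mulVec]

lemma sl_inv_mulVec_mulVec (g : Matrix.SpecialLinearGroup (Fin N) k) (x : Fin N → k) :
    ((g⁻¹ : Matrix.SpecialLinearGroup (Fin N) k) : Matrix (Fin N) (Fin N) k) *ᵥ
      ((g : Matrix (Fin N) (Fin N) k) *ᵥ x) = x := by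
  rw [← sl_mul_mulVec, inv_mul_cancel, sl_one_mulVec]

lemma sl_mulVec_inv_mulVec (g : Matrix.SpecialLinearGroup (Fin N) k) (x : Fin N → k) :
    (g : Matrix (Fin N) (Fin N) k) *ᵥ
      (((g⁻¹ : Matrix.SpecialLinearGroup (Fin N) k) : Matrix (Fin N) (Fin N) k) *ᵥ x) = x := by
  rw [← sl_mul_mulVec, mul_inv_cancel, sl_one_mulVec]

lemma tv_mul (v φ : Fin N → k) (h : φ ⬝ᵥ v = 0) (c d : k) :
    tv v φ h c * tv v φ h d = tv v φ h (c + d) := by
  apply sl_ext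
  intro x
  rw [sl_mul_mulVec, tv_mulVec, tv_mulVec, tv_mulVec, dotProduct_add, dotProduct_smul, h]
  match_scalars <;> simp <;> ring

lemma tv_zero (v φ : Fin N → k) (h : φ ⬝ᵥ v = 0) : tv v φ h 0 = 1 := by
  apply sl_ext
  intro x
  rw [tv_mulVec, sl_one_mulVec, zero_mul, zero_smul, add_zero]

lemma tv_inv (v φ : Fin N → k) (h : φ ⬝ᵥ v = 0) (c : k) : (tv v φ h c)⁻¹ = tv v φ h (-c) := by
  rw [inv_eq_iff_mul_eq_one, tv_mul, add_neg_cancel, tv_zero]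

/-- the root subgroup of the flag `(v, φ)` -/
noncomputable def rootSL (v φ : Fin N → k) (h : φ ⬝ᵥ v = 0) :
    Subgroup (Matrix.SpecialLinearGroup (Fin N) k) where
  carrier := {g | ∃ c : k, g = tv v φ h c}
  mul_mem' := by
    rintro _ _ ⟨c, rfl⟩ ⟨d, rfl⟩
    exact ⟨c + d, tv_mul v φ h c d⟩
  one_mem' := ⟨0, (tv_zero v φ h).symm⟩
  inv_mem' := by
    rintro _ ⟨c, rfl⟩
    exact ⟨-c, tv_inv v φ h c⟩

lemma tv_eq_one_iff (v φ : Fin N → k) (h : φ ⬝ᵥ v = 0) (hv : v ≠ 0) (hφ : φ ≠ 0) (c : k) :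
    tv v φ h c = 1 ↔ c = 0 := by
  constructor
  · intro e
    by_contra hc
    obtain ⟨i, hi⟩ : ∃ i, φ i ≠ 0 := by
      by_contra hcon
      push Not at hcon
      exact hφ (funext hcon)
    have h1 := congrArg (fun g : Matrix.SpecialLinearGroup (Fin N) k =>
      (g : Matrix (Fin N) (Fin N) k) *ᵥ (Pi.single i 1)) e
    simp only [tv_mulVec, sl_one_mulVec, dotProduct_single, mul_one] at h1
    have h2 : (c * φ i) • v = 0 := by
      have := congrArg (fun y => y - Pi.single i (1 : k)) h1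
      simpa using this
    rw [smul_eq_zero] at h2
    rcases h2 with h2 | h2
    · exact (mul_ne_zero hc hi) h2
    · exact hv h2
  · rintro rfl
    exact tv_zero v φ h

/-- the transported functional `φ ∘ g⁻¹` -/
noncomputable def pushF (g : Matrix.SpecialLinearGroup (Fin N) k) (φ : Fin N → k) : Fin N → k :=
  Matrix.vecMul φ ((g⁻¹ : Matrix.SpecialLinearGroup (Fin N) k) : Matrix (Fin N) (Fin N) k)

lemma pushF_dot (g : Matrix.SpecialLinearGroup (Fin N) k) (φ x : Fin N → k) :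
    pushF g φ ⬝ᵥ x =
      φ ⬝ᵥ (((g⁻¹ : Matrix.SpecialLinearGroup (Fin N) k) : Matrix (Fin N) (Fin N) k) *ᵥ x) := by
  rw [pushF, Matrix.dotProduct_mulVec]

lemma pushF_dot_mulVec (g : Matrix.SpecialLinearGroup (Fin N) k) (φ x : Fin N → k) :
    pushF g φ ⬝ᵥ ((g : Matrix (Fin N) (Fin N) k) *ᵥ x) = φ ⬝ᵥ x := by
  rw [pushF_dot, sl_inv_mulVec_mulVec]

lemma conj_tv (g : Matrix.SpecialLinearGroup (Fin N) k) (v φ : Fin N → k) (h : φ ⬝ᵥ v = 0)
    (c : k) :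
    g * tv v φ h c * g⁻¹ =
      tv ((g : Matrix (Fin N) (Fin N) k) *ᵥ v) (pushF g φ) (by rw [pushF_dot_mulVec, h]) c := by
  apply sl_ext
  intro x
  rw [sl_mul_mulVec, sl_mul_mulVec, tv_mulVec, tv_mulVec, Matrix.mulVec_add, Matrix.mulVec_smul,
    sl_mulVec_inv_mulVec, pushF_dot]

lemma rootSL_conj (g : Matrix.SpecialLinearGroup (Fin N) k) (v φ : Fin N → k)
    (h : φ ⬝ᵥ v = 0) :
    conjBy (rootSL v φ h) g =
      rootSL ((g : Matrix (Fin N) (Fin N) k) *ᵥ v) (pushF g φ)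
        (by rw [pushF_dot_mulVec, h]) := by
  ext x
  rw [mem_conjBy]
  constructor
  · rintro ⟨c, e⟩
    refine ⟨c, ?_⟩
    rw [← conj_tv g v φ h c, ← e]
    group
  · rintro ⟨c, rfl⟩
    refine ⟨c, ?_⟩
    rw [← conj_tv g v φ h c]
    group

/-- the root subgroup depends on `v`, `φ` only up to non-zero scalars -/
lemma rootSL_congr {v φ v' φ' : Fin N → k} (h : φ ⬝ᵥ v = 0) (h' : φ' ⬝ᵥ v' = 0) (a b : k)
    (ha : a ≠ 0) (hb : b ≠ 0) (hv : v' = a • v) (hφ : φ' = b • φ) :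
    rootSL v' φ' h' = rootSL v φ h := by
  subst hv hφ
  ext g
  constructor
  · rintro ⟨c, rfl⟩
    refine ⟨c * a * b, ?_⟩
    apply sl_ext
    intro x
    rw [tv_mulVec, tv_mulVec, smul_dotProduct]
    match_scalars <;> simp <;> ring
  · rintro ⟨c, rfl⟩
    refine ⟨c / (a * b), ?_⟩
    apply sl_ext
    intro x
    rw [tv_mulVec, tv_mulVec, smul_dotProduct]
    match_scalars <;> simp <;> field_simp

end Cfsg.Agent.Lib.Helper8.SLRoot
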