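import Mathlib
import Cfsg.Agent.Lib.Helper8.SLRootA

/-!
# Pairs of point-hyperplane transvection subgroups of `SL_n` (helper8)
-/

set_option autoImplicit false

namespace Cfsg.Agent.Lib.Helper8.SLRoot

open Cfsg Matrix Cfsg.Agent.S5631 Cfsg.Agent.S5016 Cfsg.Agent.Lib.Helper8.RootClass
  Cfsg.Agent.H2.RankOne

section Symm

variable {G : Type*} [Group G]

lemma image_comm_inv (A : Subgroup G) (b : G) :
    (fun a : G => b * a * b⁻¹ * a⁻¹) '' (A : Set G) =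
      ((fun a : G => a * b * a⁻¹ * b⁻¹) '' (A : Set G))⁻¹ := by
  ext x
  constructor
  · rintro ⟨a, ha, rfl⟩
    rw [Set.mem_inv]
    exact ⟨a, ha, by group⟩
  · intro hx
    rw [Set.mem_inv] at hx
    obtain ⟨a, ha, e⟩ := hx
    refine ⟨a, ha, ?_⟩
    have e' : a * b * a⁻¹ * b⁻¹ = x⁻¹ := e
    have : x = (a * b * a⁻¹ * b⁻¹)⁻¹ := by rw [e', inv_inv]
    rw [this]; group

lemma image_comm_inv' (B : Subgroup G) (a : G) :
    (fun b : G => b * a * b⁻¹ * a⁻¹) '' (B : Set G) =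
      ((fun b : G => a * b * a⁻¹ * b⁻¹) '' (B : Set G))⁻¹ := by
  ext x
  constructor
  · rintro ⟨b, hb, rfl⟩
    rw [Set.mem_inv]
    exact ⟨b, hb, by group⟩
  · intro hx
    rw [Set.mem_inv] at hx
    obtain ⟨b, hb, e⟩ := hx
    refine ⟨b, hb, ?_⟩
    have e' : a * b * a⁻¹ * b⁻¹ = x⁻¹ := e
    have : x = (a * b * a⁻¹ * b⁻¹)⁻¹ := by rw [e', inv_inv]
    rw [this]; group

/-- the commutator case is symmetric -/
lemma rootCommutatorCase_symm {S : Set (Subgroup G)} {A B : Subgroup G}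
    (h : RootCommutatorCase S A B) : RootCommutatorCase S B A := by
  obtain ⟨h1, h2, h3, h4⟩ := h
  refine ⟨?_, ?_, ?_, ?_⟩
  · rw [Subgroup.commutator_comm]; exact h1
  · intro c hc x hx
    rw [Subgroup.commutator_comm] at hc
    rw [sup_comm] at hx
    exact h2 c hc x hx
  · intro b hb hb1
    rw [Subgroup.commutator_comm B A, ← h4 b hb hb1, image_comm_inv, Subgroup.closure_inv]
  · intro a ha ha1
    rw [Subgroup.commutator_comm B A, ← h3 a ha ha1, image_comm_inv', Subgroup.closure_inv]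

end Symm

variable {k : Type*} [Field k] {N : ℕ}

section Pair

variable (v φ w ψ : Fin N → k) (h : φ ⬝ᵥ v = 0) (h' : ψ ⬝ᵥ w = 0)

lemma tv_comm_of_perp (h1 : φ ⬝ᵥ w = 0) (h2 : ψ ⬝ᵥ v = 0) (α β : k) :
    tv v φ h α * tv w ψ h' β = tv w ψ h' β * tv v φ h α := by
  apply sl_ext
  intro x
  rw [sl_mul_mulVec, sl_mul_mulVec, tv_mulVec, tv_mulVec, tv_mulVec, tv_mulVec]
  simp only [dotProduct_add, dotProduct_smul, smul_eq_mul, h1, h2, mul_zero, add_zero]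
  abel

lemma tv_commutator (h1 : φ ⬝ᵥ w = 0) (α β : k) :
    tv v φ h α * tv w ψ h' β * (tv v φ h α)⁻¹ * (tv w ψ h' β)⁻¹ =
      tv w φ h1 (-(α * β * (ψ ⬝ᵥ v))) := by
  have e : tv v φ h α * tv w ψ h' β =
      tv w φ h1 (-(α * β * (ψ ⬝ᵥ v))) * (tv w ψ h' β * tv v φ h α) := by
    apply sl_ext
    intro x
    rw [sl_mul_mulVec, sl_mul_mulVec, sl_mul_mulVec, tv_mulVec, tv_mulVec, tv_mulVec, tv_mulVec,
      tv_mulVec]
    simp only [dotProduct_add, dotProduct_smul, smul_eq_mul, h1, h, mul_zero, add_zero]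
    match_scalars <;> ring
  rw [e]
  group

end Pair

/-- the commutator case for flags `(v,φ)`, `(w,ψ)` with `φ(w) = 0`, `ψ(v) ≠ 0` -/
lemma rootCommutatorCase_of (S : Set (Subgroup (Matrix.SpecialLinearGroup (Fin N) k)))
    (v φ w ψ : Fin N → k) (h : φ ⬝ᵥ v = 0) (h' : ψ ⬝ᵥ w = 0)
    (h1 : φ ⬝ᵥ w = 0) (h2 : ψ ⬝ᵥ v ≠ 0) (hS : rootSL w φ h1 ∈ S) :
    RootCommutatorCase S (rootSL v φ h) (rootSL w ψ h') := by
  have hcomm : ⁅rootSL v φ h, rootSL w ψ h'⁆ = rootSL w φ h1 := by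
    apply le_antisymm
    · rw [Subgroup.commutator_le]
      rintro _ ⟨α, rfl⟩ _ ⟨β, rfl⟩
      rw [commutatorElement_def, tv_commutator v φ w ψ h h' h1]
      exact ⟨_, rfl⟩
    · rintro _ ⟨γ, rfl⟩
      have := Subgroup.commutator_mem_commutator
        (H₁ := rootSL v φ h) (H₂ := rootSL w ψ h') (g₁ := tv v φ h 1)
        (g₂ := tv w ψ h' (-γ / (ψ ⬝ᵥ v))) ⟨1, rfl⟩ ⟨_, rfl⟩
      rw [commutatorElement_def, tv_commutator v φ w ψ h h' h1] at this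
      have e : -(1 * (-γ / (ψ ⬝ᵥ v)) * (ψ ⬝ᵥ v)) = γ := by field_simp
      rw [e] at this
      exact this
  refine ⟨by rw [hcomm]; exact hS, ?_, ?_, ?_⟩
  · intro c hc x hx
    rw [hcomm] at hc
    obtain ⟨γ, rfl⟩ := hc
    refine sup_induction _ _ (fun x => tv w φ h1 γ * x = x * tv w φ h1 γ) ?_ ?_ (by simp) ?_ x hx
    · rintro _ ⟨α, rfl⟩
      exact tv_comm_of_perp w φ v φ h1 h h h1 γ α
    · rintro _ ⟨β, rfl⟩
      exact tv_comm_of_perp w φ w ψ h1 h' h1 h' γ β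
    · intro x y hx hy
      rw [← mul_assoc, hx, mul_assoc, hy, mul_assoc]
  · rintro _ ⟨α, rfl⟩ hα
    have hα0 : α ≠ 0 := fun e => hα (by rw [e, tv_zero])
    rw [hcomm]
    have : (fun b => tv v φ h α * b * (tv v φ h α)⁻¹ * b⁻¹) '' (rootSL w ψ h' : Set _) =
        (rootSL w φ h1 : Set _) := by
      ext x
      constructor
      · rintro ⟨_, ⟨β, rfl⟩, rfl⟩
        show tv v φ h α * tv w ψ h' β * (tv v φ h α)⁻¹ * (tv w ψ h' β)⁻¹ ∈ rootSL w φ h1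
        rw [tv_commutator v φ w ψ h h' h1]
        exact ⟨_, rfl⟩
      · rintro ⟨γ, rfl⟩
        refine ⟨tv w ψ h' (-γ / (α * (ψ ⬝ᵥ v))), ⟨_, rfl⟩, ?_⟩
        show tv v φ h α * tv w ψ h' (-γ / (α * (ψ ⬝ᵥ v))) * (tv v φ h α)⁻¹ *
          (tv w ψ h' (-γ / (α * (ψ ⬝ᵥ v))))⁻¹ = _
        rw [tv_commutator v φ w ψ h h' h1]
        congr 1
        field_simp
    rw [this, Subgroup.closure_eq]
  · rintro _ ⟨β, rfl⟩ hβ
    have hβ0 : β ≠ 0 := fun e => hβ (by rw [e, tv_zero])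
    rw [hcomm]
    have : (fun a => a * tv w ψ h' β * a⁻¹ * (tv w ψ h' β)⁻¹) '' (rootSL v φ h : Set _) =
        (rootSL w φ h1 : Set _) := by
      ext x
      constructor
      · rintro ⟨_, ⟨α, rfl⟩, rfl⟩
        show tv v φ h α * tv w ψ h' β * (tv v φ h α)⁻¹ * (tv w ψ h' β)⁻¹ ∈ rootSL w φ h1
        rw [tv_commutator v φ w ψ h h' h1]
        exact ⟨_, rfl⟩
      · rintro ⟨γ, rfl⟩
        refine ⟨tv v φ h (-γ / (β * (ψ ⬝ᵥ v))), ⟨_, rfl⟩, ?_⟩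
        show tv v φ h (-γ / (β * (ψ ⬝ᵥ v))) * tv w ψ h' β * (tv v φ h (-γ / (β * (ψ ⬝ᵥ v))))⁻¹ *
          (tv w ψ h' β)⁻¹ = _
        rw [tv_commutator v φ w ψ h h' h1]
        congr 1
        field_simp
    rw [this, Subgroup.closure_eq]

end Cfsg.Agent.Lib.Helper8.SLRoot
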