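import Mathlib
import Cfsg.Agent.Lib.Helper8.SLRootB

/-!
# The `SL₂` generated by two opposite transvection subgroups of `SL_n` (helper8)
-/

set_option autoImplicit false

namespace Cfsg.Agent.Lib.Helper8.SLRoot

open Cfsg Matrix Cfsg.Agent.S5631 Cfsg.Agent.S5016 Cfsg.Agent.Lib.Helper8.RootClass
  Cfsg.Agent.H2.RankOne

variable {k : Type*} [Field k] {N : ℕ}

/-- the matrix acting as `[[a,b],[c,d]]` on `(v,w)` and trivially on `ker φ ∩ ker ψ` -/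
noncomputable def slM (v w φ ψ : Fin N → k) (a b c d : k) : Matrix (Fin N) (Fin N) k :=
  tvM ((a - 1) • v + c • w) ψ + tvM (b • v + (d - 1) • w) φ - 1

lemma slM_mulVec (v w φ ψ : Fin N → k) (a b c d : k) (x : Fin N → k) :
    slM v w φ ψ a b c d *ᵥ x =
      x + (ψ ⬝ᵥ x) • ((a - 1) • v + c • w) + (φ ⬝ᵥ x) • (b • v + (d - 1) • w) := by
  rw [slM, Matrix.sub_mulVec, Matrix.add_mulVec, tvM_mulVec, tvM_mulVec, Matrix.one_mulVec]
  abel

section Opp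

variable {v w φ ψ : Fin N → k} (hφv : φ ⬝ᵥ v = 0) (hψw : ψ ⬝ᵥ w = 0) (hφw : φ ⬝ᵥ w = 1)
  (hψv : ψ ⬝ᵥ v = 1)

include hφv hψw hφw hψv in
lemma slM_mul (a b c d a' b' c' d' : k) :
    slM v w φ ψ a b c d * slM v w φ ψ a' b' c' d' =
      slM v w φ ψ (a * a' + b * c') (a * b' + b * d') (c * a' + d * c') (c * b' + d * d') := by
  rw [Matrix.ext_iff_mulVec]
  intro x
  rw [← Matrix.mulVec_mulVec, slM_mulVec, slM_mulVec, slM_mulVec]
  simp only [dotProduct_add, dotProduct_smul, smul_eq_mul, hφv, hψw, hφw, hψv]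
  match_scalars <;> ring

lemma slM_one (v w φ ψ : Fin N → k) : slM v w φ ψ 1 0 0 1 = 1 := by
  rw [Matrix.ext_iff_mulVec]
  intro x
  rw [slM_mulVec, Matrix.one_mulVec]
  simp

include hφv hψv in
lemma slM_v (a b c d : k) : slM v w φ ψ a b c d *ᵥ v = a • v + c • w := by
  rw [slM_mulVec, hφv, hψv]
  match_scalars <;> ring

include hψw hφw in
lemma slM_w (a b c d : k) : slM v w φ ψ a b c d *ᵥ w = b • v + d • w := by
  rw [slM_mulVec, hφw, hψw]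
  match_scalars <;> ring

include hφv hψw hφw hψv in
lemma slM_inj {a b c d a' b' c' d' : k}
    (h : slM v w φ ψ a b c d = slM v w φ ψ a' b' c' d') : a = a' ∧ b = b' ∧ c = c' ∧ d = d' := by
  have h1 := slM_v (w := w) hφv hψv a b c d
  rw [h, slM_v hφv hψv] at h1
  have h2 := slM_w (v := v) hψw hφw a b c d
  rw [h, slM_w hψw hφw] at h2
  have e1 := congrArg (fun x => ψ ⬝ᵥ x) h1
  have e2 := congrArg (fun x => φ ⬝ᵥ x) h1
  have e3 := congrArg (fun x => ψ ⬝ᵥ x) h2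
  have e4 := congrArg (fun x => φ ⬝ᵥ x) h2
  simp only [dotProduct_add, dotProduct_smul, smul_eq_mul, hφv, hψw, hφw, hψv, mul_one, mul_zero,
    add_zero, zero_add] at e1 e2 e3 e4
  exact ⟨e1.symm, e3.symm, e2.symm, e4.symm⟩

/-- the image of `g ∈ SL₂(k)` -/
noncomputable def slS (v w φ ψ : Fin N → k) (g : Matrix.SpecialLinearGroup (Fin 2) k) :
    Matrix (Fin N) (Fin N) k :=
  slM v w φ ψ (g 0 0) (g 0 1) (g 1 0) (g 1 1)

include hφv hψw hφw hψv in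
lemma slS_mul (g g' : Matrix.SpecialLinearGroup (Fin 2) k) :
    slS v w φ ψ (g * g') = slS v w φ ψ g * slS v w φ ψ g' := by
  rw [slS, slS, slS, slM_mul hφv hψw hφw hψv]
  have e00 : (g * g') 0 0 = g 0 0 * g' 0 0 + g 0 1 * g' 1 0 := by
    rw [Matrix.SpecialLinearGroup.coe_mul, Matrix.mul_apply, Fin.sum_univ_two]
  have e01 : (g * g') 0 1 = g 0 0 * g' 0 1 + g 0 1 * g' 1 1 := by
    rw [Matrix.SpecialLinearGroup.coe_mul, Matrix.mul_apply, Fin.sum_univ_two]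
  have e10 : (g * g') 1 0 = g 1 0 * g' 0 0 + g 1 1 * g' 1 0 := by
    rw [Matrix.SpecialLinearGroup.coe_mul, Matrix.mul_apply, Fin.sum_univ_two]
  have e11 : (g * g') 1 1 = g 1 0 * g' 0 1 + g 1 1 * g' 1 1 := by
    rw [Matrix.SpecialLinearGroup.coe_mul, Matrix.mul_apply, Fin.sum_univ_two]
  rw [e00, e01, e10, e11]

lemma slS_one (v w φ ψ : Fin N → k) :
    slS v w φ ψ (1 : Matrix.SpecialLinearGroup (Fin 2) k) = 1 := by
  rw [slS]
  simp only [Matrix.SpecialLinearGroup.coe_one, Matrix.one_apply_eq, ne_eq, zero_ne_one,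
    not_false_eq_true, Matrix.one_apply_ne, one_ne_zero]
  exact slM_one v w φ ψ

/-- the homomorphism `SL₂(k) → GL_N(k)` -/
noncomputable def slHom : Matrix.SpecialLinearGroup (Fin 2) k →* GL (Fin N) k :=
  MonoidHom.toHomUnits
    { toFun := slS v w φ ψ
      map_one' := slS_one v w φ ψ
      map_mul' := slS_mul hφv hψw hφw hψv }

lemma slHom_coe (g : Matrix.SpecialLinearGroup (Fin 2) k) :
    ((slHom hφv hψw hφw hψv g : GL (Fin N) k) : Matrix (Fin N) (Fin N) k) = slS v w φ ψ g := rfl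

lemma slHom_injective : Function.Injective (slHom hφv hψw hφw hψv) := by
  intro g g' h
  have h1 : slS v w φ ψ g = slS v w φ ψ g' := by
    rw [← slHom_coe hφv hψw hφw hψv, ← slHom_coe hφv hψw hφw hψv, h]
  obtain ⟨e1, e2, e3, e4⟩ := slM_inj hφv hψw hφw hψv h1
  exact sl2_ext e1 e2 e3 e4

lemma slHom_up (t : k) :
    ((slHom hφv hψw hφw hψv (up t) : GL (Fin N) k) : Matrix (Fin N) (Fin N) k) =
      (tv v φ hφv t : Matrix (Fin N) (Fin N) k) := by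
  rw [Matrix.ext_iff_mulVec]
  intro x
  rw [slHom_coe, slS, slM_mulVec, tv_mulVec]
  simp only [up_coe, Matrix.of_apply, Matrix.cons_val', Matrix.cons_val_zero, Matrix.cons_val_one,
    Matrix.cons_val_fin_one, sub_self, zero_smul, add_zero, smul_zero]
  match_scalars <;> ring

lemma slHom_lo (t : k) :
    ((slHom hφv hψw hφw hψv (lo t) : GL (Fin N) k) : Matrix (Fin N) (Fin N) k) =
      (tv w ψ hψw t : Matrix (Fin N) (Fin N) k) := by
  rw [Matrix.ext_iff_mulVec]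
  intro x
  rw [slHom_coe, slS, slM_mulVec, tv_mulVec]
  simp only [lo_coe, Matrix.of_apply, Matrix.cons_val', Matrix.cons_val_zero, Matrix.cons_val_one,
    Matrix.cons_val_fin_one, sub_self, zero_smul, add_zero, smul_zero, zero_add]
  match_scalars <;> ring

end Opp

/-- the embedding `SL_N → GL_N` -/
lemma toGL_injective :
    Function.Injective (Matrix.SpecialLinearGroup.toGL :
      Matrix.SpecialLinearGroup (Fin N) k →* GL (Fin N) k) := by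
  intro g h e
  apply Subtype.ext
  have := congrArg (fun x : GL (Fin N) k => (x : Matrix (Fin N) (Fin N) k)) e
  exact this

section Opp2

variable {v w φ ψ : Fin N → k} (hφv : φ ⬝ᵥ v = 0) (hψw : ψ ⬝ᵥ w = 0) (hφw : φ ⬝ᵥ w = 1)
  (hψv : ψ ⬝ᵥ v = 1)

lemma map_upper :
    (upperUnipotentSL2 k).map (slHom hφv hψw hφw hψv) =
      (rootSL v φ hφv).map Matrix.SpecialLinearGroup.toGL := by
  ext g
  constructor
  · rintro ⟨s, hs, rfl⟩
    obtain ⟨t, rfl⟩ := mem_upper.1 hs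
    refine ⟨tv v φ hφv t, ⟨t, rfl⟩, ?_⟩
    apply Units.ext
    rw [slHom_up]
    rfl
  · rintro ⟨_, ⟨c, rfl⟩, rfl⟩
    refine ⟨up c, mem_upper.2 ⟨_, rfl⟩, ?_⟩
    apply Units.ext
    rw [slHom_up]
    rfl

lemma map_lower :
    (lowerUnipotentSL2 k).map (slHom hφv hψw hφw hψv) =
      (rootSL w ψ hψw).map Matrix.SpecialLinearGroup.toGL := by
  ext g
  constructor
  · rintro ⟨s, hs, rfl⟩
    obtain ⟨t, rfl⟩ := mem_lower.1 hs
    refine ⟨tv w ψ hψw t, ⟨t, rfl⟩, ?_⟩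
    apply Units.ext
    rw [slHom_lo]
    rfl
  · rintro ⟨_, ⟨c, rfl⟩, rfl⟩
    refine ⟨lo c, mem_lower.2 ⟨_, rfl⟩, ?_⟩
    apply Units.ext
    rw [slHom_lo]
    rfl

end Opp2

/-- opposite flags give a rank one pair which is an image of `SL₂(k)` -/
lemma rank_one_of (v φ w ψ : Fin N → k) (h : φ ⬝ᵥ v = 0) (h' : ψ ⬝ᵥ w = 0)
    (h1 : φ ⬝ᵥ w ≠ 0) (h2 : ψ ⬝ᵥ v ≠ 0) :
    IsRankOnePair (rootSL v φ h) (rootSL w ψ h') ∧ IsPSL2PairOver k (rootSL v φ h) (rootSL w ψ h') := by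
  have hφv : ((φ ⬝ᵥ w)⁻¹ • φ) ⬝ᵥ v = 0 := by rw [smul_dotProduct, h, smul_zero]
  have hψw : ((ψ ⬝ᵥ v)⁻¹ • ψ) ⬝ᵥ w = 0 := by rw [smul_dotProduct, h', smul_zero]
  have hφw : ((φ ⬝ᵥ w)⁻¹ • φ) ⬝ᵥ w = 1 := by
    rw [smul_dotProduct, smul_eq_mul, inv_mul_cancel₀ h1]
  have hψv : ((ψ ⬝ᵥ v)⁻¹ • ψ) ⬝ᵥ v = 1 := by
    rw [smul_dotProduct, smul_eq_mul, inv_mul_cancel₀ h2]
  have e1 : rootSL v ((φ ⬝ᵥ w)⁻¹ • φ) hφv = rootSL v φ h :=
    rootSL_congr h hφv 1 (φ ⬝ᵥ w)⁻¹ one_ne_zero (inv_ne_zero h1) (one_smul _ _).symm rfl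
  have e2 : rootSL w ((ψ ⬝ᵥ v)⁻¹ • ψ) hψw = rootSL w ψ h' :=
    rootSL_congr h' hψw 1 (ψ ⬝ᵥ v)⁻¹ one_ne_zero (inv_ne_zero h2) (one_smul _ _).symm rfl
  rw [← e1, ← e2]
  exact psl2pair_of_hom' Matrix.SpecialLinearGroup.toGL toGL_injective
    (slHom hφv hψw hφw hψv) (slHom_injective hφv hψw hφw hψv)
    (map_upper hφv hψw hφw hψv) (map_lower hφv hψw hφw hψv)

end Cfsg.Agent.Lib.Helper8.SLRoot
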