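import Mathlib
import Cfsg.Agent.Lib.Helper8.SLRootC

/-!
# Flags: transitivity, generation, connectivity (helper8)
-/

set_option autoImplicit false

namespace Cfsg.Agent.Lib.Helper8.SLRoot

open Cfsg Matrix Cfsg.Agent.S5631 Cfsg.Agent.S5016 Cfsg.Agent.Lib.Helper8.RootClass
  Cfsg.Agent.H2.RankOne

variable {k : Type*} [Field k]

lemma rootSL_eq {N : ℕ} {v v' φ φ' : Fin N → k} (h : φ ⬝ᵥ v = 0) (h' : φ' ⬝ᵥ v' = 0)
    (hv : v' = v) (hφ : φ' = φ) : rootSL v' φ' h' = rootSL v φ h := by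
  subst hv hφ
  rfl

lemma single_dot_single {N : ℕ} {i j : Fin N} (hij : i ≠ j) :
    (Pi.single j (1 : k) : Fin N → k) ⬝ᵥ (Pi.single i 1) = 0 := by
  rw [dotProduct_single, mul_one, Pi.single_apply, if_neg hij]

lemma single_dot_self {N : ℕ} (i : Fin N) :
    (Pi.single i (1 : k) : Fin N → k) ⬝ᵥ (Pi.single i 1) = 1 := by
  rw [dotProduct_single, mul_one, Pi.single_apply, if_pos rfl]

lemma single_ne_zero' {N : ℕ} (i : Fin N) : (Pi.single i (1 : k) : Fin N → k) ≠ 0 := by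
  intro h
  have := congrFun h i
  simp at this

lemma tv_single {N : ℕ} {i j : Fin N} (hij : i ≠ j) (b : k) :
    tv (Pi.single i (1 : k)) (Pi.single j 1) (single_dot_single hij) b =
      Matrix.SpecialLinearGroup.transvection hij b := by
  apply sl_ext
  intro x
  rw [tv_mulVec, Cfsg.Agent.Lib.Helper5.SLn.transvection_mulVec', single_dotProduct, one_mul]
  ext l
  by_cases hl : l = i
  · subst hl
    simp
  · simp [hl]

/-- flags: a non-zero vector and a non-zero functional vanishing on it -/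
abbrev Flag (N : ℕ) (k : Type*) [Field k] : Type _ :=
  {p : (Fin N → k) × (Fin N → k) // p.1 ≠ 0 ∧ p.2 ≠ 0 ∧ p.2 ⬝ᵥ p.1 = 0}

/-- the root subgroup of a flag -/
noncomputable def rootF {N : ℕ} (p : Flag N k) : Subgroup (Matrix.SpecialLinearGroup (Fin N) k) :=
  rootSL p.1.1 p.1.2 p.2.2.2

lemma exists_dot_eq_one {N : ℕ} (φ : Fin N → k) (hφ : φ ≠ 0) : ∃ u : Fin N → k, φ ⬝ᵥ u = 1 := by
  obtain ⟨i, hi⟩ : ∃ i, φ i ≠ 0 := by
    by_contra hcon
    push Not at hcon
    exact hφ (funext hcon)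
  refine ⟨(φ i)⁻¹ • Pi.single i 1, ?_⟩
  rw [dotProduct_smul, dotProduct_single, mul_one, smul_eq_mul, inv_mul_cancel₀ hi]

lemma exists_dot_ne_zero {N : ℕ} (v : Fin N → k) (hv : v ≠ 0) : ∃ ξ : Fin N → k, ξ ⬝ᵥ v ≠ 0 := by
  obtain ⟨i, hi⟩ : ∃ i, v i ≠ 0 := by
    by_contra hcon
    push Not at hcon
    exact hv (funext hcon)
  refine ⟨Pi.single i 1, ?_⟩
  rw [single_dotProduct, one_mul]
  exact hi

section Trans

variable {n : ℕ}

/-- the standard root subgroup `X₀₁` -/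
noncomputable def X01 (n : ℕ) (k : Type*) [Field k] :
    Subgroup (Matrix.SpecialLinearGroup (Fin (n + 3)) k) :=
  rootSL (Pi.single (0 : Fin (n + 3)) (1 : k)) (Pi.single (1 : Fin (n + 3)) 1)
    (single_dot_single (by simp))

/-- every flag root subgroup is a conjugate of `X₀₁` -/
lemma exists_conj_X01 (p : Flag (n + 3) k) :
    ∃ g : Matrix.SpecialLinearGroup (Fin (n + 3)) k, rootF p = conjBy (X01 n k) g := by
  obtain ⟨⟨v, φ⟩, hv, hφ, h⟩ := p
  simp only at hv hφ h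
  obtain ⟨u, hu⟩ := exists_dot_eq_one φ hφ
  have h01 : (0 : Fin (n + 3)) ≠ 1 := by simp
  have hli : LinearIndependent k ![v, u] := by
    rw [LinearIndependent.pair_iff]
    intro s t hst
    have h1 := congrArg (fun x => φ ⬝ᵥ x) hst
    simp only [dotProduct_add, dotProduct_smul, h, hu, smul_eq_mul, mul_zero, mul_one, zero_add,
      dotProduct_zero] at h1
    subst h1
    rw [zero_smul, add_zero, smul_eq_zero] at hst
    rcases hst with hst | hst
    · exact ⟨hst, rfl⟩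
    · exact (hv hst).elim
  have hli' : LinearIndependent k
      ![(Pi.single (0 : Fin (n + 3)) (1 : k) : Fin (n + 3) → k), Pi.single 1 1] := by
    rw [LinearIndependent.pair_iff]
    intro s t hst
    have h0 := congrFun hst 0
    have h1 := congrFun hst 1
    simp at h0 h1
    exact ⟨h0, h1⟩
  obtain ⟨g₁, hg0, hg1⟩ := Cfsg.Agent.Lib.Helper5.SLTrans.exists_sl_pair (n + 3) (by omega)
    _ _ v u hli' hli
  set ψ' := pushF g₁ (Pi.single (1 : Fin (n + 3)) (1 : k)) with hψ'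
  have hψ'v : ψ' ⬝ᵥ v = 0 := by
    rw [← hg0, hψ', pushF_dot_mulVec, single_dot_single h01]
  have hψ'u : ψ' ⬝ᵥ u = 1 := by
    rw [← hg1, hψ', pushF_dot_mulVec, single_dot_self]
  have hδu : (φ - ψ') ⬝ᵥ u = 0 := by rw [sub_dotProduct, hu, hψ'u, sub_self]
  have hδv : (φ - ψ') ⬝ᵥ v = 0 := by rw [sub_dotProduct, h, hψ'v, sub_self]
  set h₂ := tv u (φ - ψ') hδu (-1) with hh₂
  have e1 : conjBy (X01 n k) g₁ = rootSL v ψ' hψ'v := by
    rw [X01, rootSL_conj]
    exact rootSL_eq _ _ hg0 rfl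
  have e2 : conjBy (rootSL v ψ' hψ'v) h₂ = rootSL v φ h := by
    rw [rootSL_conj]
    apply rootSL_eq
    · rw [hh₂, tv_mulVec, hδv, mul_zero, zero_smul, add_zero]
    · apply dotProduct_eq
      intro x
      rw [pushF_dot, hh₂, tv_inv, tv_mulVec, neg_neg, one_mul, dotProduct_add, dotProduct_smul,
        hψ'u, sub_dotProduct, smul_eq_mul, mul_one]
      ring
  refine ⟨h₂ * g₁, ?_⟩
  show rootSL v φ h = _
  rw [← conjBy_mul, e1, e2]

/-- conjugates of `X₀₁` are flag root subgroups -/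
lemma conj_X01_eq (g : Matrix.SpecialLinearGroup (Fin (n + 3)) k) :
    ∃ p : Flag (n + 3) k, conjBy (X01 n k) g = rootF p := by
  have h01 : (0 : Fin (n + 3)) ≠ 1 := by simp
  refine ⟨⟨((g : Matrix (Fin (n + 3)) (Fin (n + 3)) k) *ᵥ Pi.single 0 1,
    pushF g (Pi.single 1 1)), ?_, ?_, ?_⟩, ?_⟩
  · intro h0
    have h0' : (g : Matrix (Fin (n + 3)) (Fin (n + 3)) k) *ᵥ Pi.single 0 1 = 0 := h0
    have := sl_inv_mulVec_mulVec g (Pi.single (0 : Fin (n + 3)) (1 : k))
    rw [h0', Matrix.mulVec_zero] at this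
    exact single_ne_zero' (0 : Fin (n + 3)) this.symm
  · intro h0
    have h0' : pushF g (Pi.single (1 : Fin (n + 3)) (1 : k)) = 0 := h0
    have := pushF_dot_mulVec g (Pi.single (1 : Fin (n + 3)) (1 : k)) (Pi.single 1 1)
    rw [h0', zero_dotProduct, single_dot_self] at this
    exact zero_ne_one this
  · show pushF g (Pi.single 1 1) ⬝ᵥ ((g : Matrix (Fin (n + 3)) (Fin (n + 3)) k) *ᵥ Pi.single 0 1) = 0
    rw [pushF_dot_mulVec, single_dot_single h01]
  · rw [X01, rootSL_conj]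
    rfl

/-- the set of conjugates of `X₀₁` is the set of flag root subgroups -/
lemma conjugates_eq_range :
    {A : Subgroup (Matrix.SpecialLinearGroup (Fin (n + 3)) k) |
      ∃ g : Matrix.SpecialLinearGroup (Fin (n + 3)) k, A = conjBy (X01 n k) g} =
      Set.range (rootF (N := n + 3) (k := k)) := by
  ext A
  constructor
  · rintro ⟨g, rfl⟩
    obtain ⟨p, hp⟩ := conj_X01_eq g
    exact ⟨p, hp.symm⟩
  · rintro ⟨p, rfl⟩
    exact exists_conj_X01 p

end Trans

end Cfsg.Agent.Lib.Helper8.SLRoot
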