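import Mathlib
import Cfsg.Agent.Lib.Helper8.SLRootD

/-!
# The class of point-hyperplane transvection subgroups of `SL_n`, `n ≥ 3` (helper8)
-/

set_option autoImplicit false

namespace Cfsg.Agent.Lib.Helper8.SLRoot

open Cfsg Matrix Cfsg.Agent.S5631 Cfsg.Agent.S5016 Cfsg.Agent.Lib.Helper8.RootClass
  Cfsg.Agent.H2.RankOne Cfsg.Agent.H2.RootSub

variable {k : Type*} [Field k] {N : ℕ}

/-- the trichotomy for two flags -/
lemma flag_cases (p p' : Flag N k) :
    (∀ a ∈ rootF p, ∀ b ∈ rootF p', a * b = b * a) ∨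
    (IsRankOnePair (rootF p) (rootF p') ∧ IsPSL2PairOver k (rootF p) (rootF p')) ∨
    RootCommutatorCase (Set.range (rootF (N := N) (k := k))) (rootF p) (rootF p') := by
  obtain ⟨⟨v, φ⟩, hv, hφ, h⟩ := p
  obtain ⟨⟨w, ψ⟩, hw, hψ, h'⟩ := p'
  simp only at hv hφ h hw hψ h'
  by_cases h1 : φ ⬝ᵥ w = 0
  · by_cases h2 : ψ ⬝ᵥ v = 0
    · left
      rintro _ ⟨α, rfl⟩ _ ⟨β, rfl⟩
      exact tv_comm_of_perp v φ w ψ h h' h1 h2 α β
    · right; right
      exact rootCommutatorCase_of _ v φ w ψ h h' h1 h2 ⟨⟨(w, φ), hw, hφ, h1⟩, rfl⟩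
  · by_cases h2 : ψ ⬝ᵥ v = 0
    · right; right
      apply rootCommutatorCase_symm
      exact rootCommutatorCase_of _ w ψ v φ h' h h2 h1 ⟨⟨(v, ψ), hv, hψ, h2⟩, rfl⟩
    · right; left
      exact rank_one_of v φ w ψ h h' h1 h2

lemma rootF_ne_bot (p : Flag N k) : rootF p ≠ ⊥ := by
  intro h
  have h1 : tv p.1.1 p.1.2 p.2.2.2 1 ∈ rootF p := ⟨1, rfl⟩
  rw [h, Subgroup.mem_bot, tv_eq_one_iff _ _ _ p.2.1 p.2.2.1] at h1
  exact one_ne_zero h1

lemma rootF_comm (p : Flag N k) : ∀ a ∈ rootF p, ∀ b ∈ rootF p, a * b = b * a := by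
  rintro _ ⟨c, rfl⟩ _ ⟨d, rfl⟩
  rw [tv_mul, tv_mul, add_comm]

lemma commutator_eq_bot_of_comm {G : Type*} [Group G] {A B : Subgroup G}
    (h : ∀ a ∈ A, ∀ b ∈ B, a * b = b * a) : ⁅A, B⁆ = ⊥ := by
  rw [Subgroup.commutator_eq_bot_iff_le_centralizer]
  intro a ha
  rw [Subgroup.mem_centralizer_iff]
  intro b hb
  exact (h a ha b hb).symm

/-- a rank one pair of flag root subgroups is an image of `SL₂(k)` -/
lemma psl2_of_rankOne (p p' : Flag N k) (hr : IsRankOnePair (rootF p) (rootF p')) :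
    IsPSL2PairOver k (rootF p) (rootF p') := by
  rcases flag_cases p p' with hc | hc | hc
  · exact (not_rankOne_of_comm hr hc).elim
  · exact hc.2
  · obtain ⟨a, ha, ha1⟩ := exists_nonidentity_left hr
    exact (false_of_commutator_centralizes hr ha ha1
      (fun b hb b' hb' => commutatorCase_centralizes hc ha hb hb')).elim

section Three

variable {n : ℕ}

lemma rootF_conj (p : Flag (n + 3) k) (g : Matrix.SpecialLinearGroup (Fin (n + 3)) k) :
    ∃ p' : Flag (n + 3) k, conjBy (rootF p) g = rootF p' := by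
  obtain ⟨g₀, e⟩ := exists_conj_X01 p
  rw [e, conjBy_mul]
  exact conj_X01_eq (g * g₀)

lemma iSup_rootF_eq_top :
    (⨆ A ∈ Set.range (rootF (N := n + 3) (k := k)), A) = ⊤ := by
  refine le_antisymm le_top (fun A _ => ?_)
  have key : ∀ (i j : Fin (n + 3)) (hij : i ≠ j) (b : k),
      Matrix.SpecialLinearGroup.transvection hij b ∈
        (⨆ A ∈ Set.range (rootF (N := n + 3) (k := k)), A) := by
    intro i j hij b
    rw [← tv_single hij b]
    have hmem : tv (Pi.single i (1 : k)) (Pi.single j 1) (single_dot_single hij) b ∈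
        rootF (⟨(Pi.single i 1, Pi.single j 1), single_ne_zero' i, single_ne_zero' j,
          single_dot_single hij⟩ : Flag (n + 3) k) := ⟨b, rfl⟩
    exact Subgroup.mem_iSup_of_mem _ (Subgroup.mem_iSup_of_mem ⟨_, rfl⟩ hmem)
  refine Matrix.SpecialLinearGroup.diagonal_transvection_induction'
    (fun A => A ∈ (⨆ A ∈ Set.range (rootF (N := n + 3) (k := k)), A)) A ?_
    (fun i j hij a => key i j hij a) (fun _ _ => mul_mem)
  intro i j hij c hc
  rw [Cfsg.Agent.Lib.Helper5.SLn.diag2n_decompose hij c hc]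
  exact mul_mem (mul_mem (mul_mem (mul_mem (mul_mem (key _ _ _ _) (key _ _ _ _)) (key _ _ _ _))
    (key _ _ _ _)) (key _ _ _ _)) (key _ _ _ _)

theorem isRootSubgroupSet : IsRootSubgroupSet (Set.range (rootF (N := n + 3) (k := k))) where
  commutative := by
    rintro _ ⟨p, rfl⟩
    exact isMulCommutative_iff.2 fun a b => Subtype.ext (rootF_comm p a a.2 b b.2)
  ne_bot := by
    rintro _ ⟨p, rfl⟩
    exact rootF_ne_bot p
  generates := iSup_rootF_eq_top
  conj_mem := by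
    rintro _ ⟨p, rfl⟩ g
    obtain ⟨p', e⟩ := rootF_conj p g
    exact ⟨p', e.symm⟩
  pair := by
    rintro _ ⟨p, rfl⟩ _ ⟨p', rfl⟩
    rcases flag_cases p p' with hc | hc | hc
    · exact Or.inl (commutator_eq_bot_of_comm hc)
    · exact Or.inr (Or.inl hc.1)
    · exact Or.inr (Or.inr hc)

theorem isRootSubgroupClass : IsRootSubgroupClass (Set.range (rootF (N := n + 3) (k := k))) := by
  refine ⟨isRootSubgroupSet, ?_, ?_⟩
  · exact ⟨_, ⟨⟨(Pi.single 0 1, Pi.single 1 1), single_ne_zero' 0, single_ne_zero' 1,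
      single_dot_single (by simp)⟩, rfl⟩⟩
  · rintro _ ⟨p, rfl⟩ _ ⟨p', rfl⟩
    obtain ⟨g, e⟩ := exists_conj_X01 p
    obtain ⟨g', e'⟩ := exists_conj_X01 p'
    refine ⟨g' * g⁻¹, ?_⟩
    rw [e, e', conjBy_mul, mul_assoc, inv_mul_cancel, mul_one]

theorem isKRoot : IsKRootSubgroupSet k (Set.range (rootF (N := n + 3) (k := k))) := by
  refine ⟨isRootSubgroupSet, ?_⟩
  rintro _ ⟨p, rfl⟩ _ ⟨p', rfl⟩ hr
  exact psl2_of_rankOne p p' hr

end Three

end Cfsg.Agent.Lib.Helper8.SLRoot
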