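import Mathlib
import Cfsg.Agent.Lib.Helper8.SLRootE

/-!
# Non-degeneracy and connectivity for the transvection subgroups of `SL_n`, `n ≥ 3` (helper8)
-/

set_option autoImplicit false

namespace Cfsg.Agent.Lib.Helper8.SLRoot

open Cfsg Matrix Cfsg.Agent.S5631 Cfsg.Agent.S5016 Cfsg.Agent.Lib.Helper8.RootClass
  Cfsg.Agent.H2.RankOne Cfsg.Agent.H2.RootSub

variable {k : Type*} [Field k] {N : ℕ}

lemma exists_dot_ne_both (φ ψ : Fin N → k) (hφ : φ ≠ 0) (hψ : ψ ≠ 0) :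
    ∃ u : Fin N → k, φ ⬝ᵥ u ≠ 0 ∧ ψ ⬝ᵥ u ≠ 0 := by
  obtain ⟨u₁, hu₁⟩ := exists_dot_eq_one φ hφ
  obtain ⟨u₂, hu₂⟩ := exists_dot_eq_one ψ hψ
  by_cases a : ψ ⬝ᵥ u₁ = 0
  · by_cases b : φ ⬝ᵥ u₂ = 0
    · refine ⟨u₁ + u₂, ?_, ?_⟩
      · rw [dotProduct_add, hu₁, b, add_zero]; exact one_ne_zero
      · rw [dotProduct_add, a, hu₂, zero_add]; exact one_ne_zero
    · exact ⟨u₂, b, by rw [hu₂]; exact one_ne_zero⟩
  · exact ⟨u₁, by rw [hu₁]; exact one_ne_zero, a⟩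

theorem isConnected :
    IsConnectedFamily (FAdj (Set.range (rootF (N := N) (k := k))))
      (Set.range (rootF (N := N) (k := k))) := by
  rintro _ ⟨p, rfl⟩ _ ⟨p', rfl⟩
  obtain ⟨⟨v, φ⟩, hv, hφ, h⟩ := p
  obtain ⟨⟨w, ψ⟩, hw, hψ, h'⟩ := p'
  simp only at hv hφ h hw hψ h'
  obtain ⟨u, hu1, hu2⟩ := exists_dot_ne_both φ ψ hφ hψ
  obtain ⟨ξ₁, hξ₁⟩ := exists_dot_ne_zero v hv
  obtain ⟨ξ₂, hξ₂⟩ := exists_dot_ne_zero w hw
  have hu0 : u ≠ 0 := by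
    rintro rfl
    exact hu1 (dotProduct_zero _)
  have c1u : ((φ ⬝ᵥ u) • ξ₁ - (ξ₁ ⬝ᵥ u) • φ) ⬝ᵥ u = 0 := by
    rw [sub_dotProduct, smul_dotProduct, smul_dotProduct, smul_eq_mul, smul_eq_mul]; ring
  have c1v : ((φ ⬝ᵥ u) • ξ₁ - (ξ₁ ⬝ᵥ u) • φ) ⬝ᵥ v ≠ 0 := by
    rw [sub_dotProduct, smul_dotProduct, smul_dotProduct, h, smul_zero, sub_zero, smul_eq_mul]
    exact mul_ne_zero hu1 hξ₁
  have c2u : ((ψ ⬝ᵥ u) • ξ₂ - (ξ₂ ⬝ᵥ u) • ψ) ⬝ᵥ u = 0 := by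
    rw [sub_dotProduct, smul_dotProduct, smul_dotProduct, smul_eq_mul, smul_eq_mul]; ring
  have c2w : ((ψ ⬝ᵥ u) • ξ₂ - (ξ₂ ⬝ᵥ u) • ψ) ⬝ᵥ w ≠ 0 := by
    rw [sub_dotProduct, smul_dotProduct, smul_dotProduct, h', smul_zero, sub_zero, smul_eq_mul]
    exact mul_ne_zero hu2 hξ₂
  obtain ⟨χ, hχu, hχv, hχw⟩ : ∃ χ : Fin N → k, χ ⬝ᵥ u = 0 ∧ χ ⬝ᵥ v ≠ 0 ∧ χ ⬝ᵥ w ≠ 0 := by
    by_cases a : ((φ ⬝ᵥ u) • ξ₁ - (ξ₁ ⬝ᵥ u) • φ) ⬝ᵥ w = 0
    · by_cases b : ((ψ ⬝ᵥ u) • ξ₂ - (ξ₂ ⬝ᵥ u) • ψ) ⬝ᵥ v = 0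
      · refine ⟨((φ ⬝ᵥ u) • ξ₁ - (ξ₁ ⬝ᵥ u) • φ) + ((ψ ⬝ᵥ u) • ξ₂ - (ξ₂ ⬝ᵥ u) • ψ), ?_, ?_, ?_⟩
        · rw [add_dotProduct, c1u, c2u, add_zero]
        · rw [add_dotProduct, b, add_zero]; exact c1v
        · rw [add_dotProduct, a, zero_add]; exact c2w
      · exact ⟨_, c2u, b, c2w⟩
    · exact ⟨_, c1u, c1v, a⟩
  have hχ0 : χ ≠ 0 := by
    rintro rfl
    exact hχv (zero_dotProduct _)
  have r1 := (rank_one_of v φ u χ h hχu hu1 hχv).1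
  have r2 := (rank_one_of u χ w ψ hχu h' hχw hu2).1
  have m0 : rootSL v φ h ∈ Set.range (rootF (N := N) (k := k)) := ⟨⟨(v, φ), hv, hφ, h⟩, rfl⟩
  have m1 : rootSL u χ hχu ∈ Set.range (rootF (N := N) (k := k)) := ⟨⟨(u, χ), hu0, hχ0, hχu⟩, rfl⟩
  have m2 : rootSL w ψ h' ∈ Set.range (rootF (N := N) (k := k)) := ⟨⟨(w, ψ), hw, hψ, h'⟩, rfl⟩
  exact Relation.ReflTransGen.head ⟨m0, m1, r1⟩ (Relation.ReflTransGen.single ⟨m1, m2, r2⟩)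

theorem isNondegenerate {n : ℕ} :
    IsNondegenerateRootSet (Set.range (rootF (N := n + 3) (k := k))) := by
  have h01 : (0 : Fin (n + 3)) ≠ 1 := by simp
  have h2v : ((2 : Fin (n + 3)) : ℕ) = 2 := by
    show 2 % (n + 3) = 2
    exact Nat.mod_eq_of_lt (by omega)
  have h02 : (0 : Fin (n + 3)) ≠ 2 := by
    intro h
    have := congrArg Fin.val h
    rw [h2v] at this
    simp at this
  have h12 : (1 : Fin (n + 3)) ≠ 2 := by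
    intro h
    have := congrArg Fin.val h
    rw [h2v] at this
    simp at this
  have mem : ∀ (i j : Fin (n + 3)) (hij : i ≠ j),
      rootSL (Pi.single i (1 : k)) (Pi.single j 1) (single_dot_single hij) ∈
        Set.range (rootF (N := n + 3) (k := k)) :=
    fun i j hij => ⟨⟨(Pi.single i 1, Pi.single j 1), single_ne_zero' i, single_ne_zero' j,
      single_dot_single hij⟩, rfl⟩
  refine ⟨⟨_, mem 0 1 h01, _, mem 0 2 h02, ?_, ?_⟩, ⟨_, mem 0 1 h01, _, mem 1 0 h01.symm, ?_⟩,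
    ⟨_, mem 0 1 h01, _, mem 2 0 h02.symm, ?_⟩⟩
  · intro e
    have h1 : tv (Pi.single (0 : Fin (n + 3)) (1 : k)) (Pi.single 1 1) (single_dot_single h01) 1 ∈
        rootSL (Pi.single (0 : Fin (n + 3)) (1 : k)) (Pi.single 2 1) (single_dot_single h02) := by
      rw [← e]; exact ⟨1, rfl⟩
    obtain ⟨c, hc⟩ := h1
    have h2 := congrArg (fun g : Matrix.SpecialLinearGroup (Fin (n + 3)) k =>
      (g : Matrix (Fin (n + 3)) (Fin (n + 3)) k) *ᵥ (Pi.single 1 1)) hc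
    simp only [tv_mulVec, single_dot_self, single_dot_single h12, mul_zero, zero_smul, add_zero,
      mul_one, one_smul] at h2
    have h3 : (Pi.single (0 : Fin (n + 3)) (1 : k) : Fin (n + 3) → k) = 0 := by
      have := congrArg (fun y => y - Pi.single (1 : Fin (n + 3)) (1 : k)) h2
      simp at this
    exact single_ne_zero' (0 : Fin (n + 3)) h3
  · apply commutator_eq_bot_of_comm
    rintro _ ⟨α, rfl⟩ _ ⟨β, rfl⟩
    exact tv_comm_of_perp _ _ _ _ _ _ (single_dot_single h01) (single_dot_single h02) α β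
  · refine (rank_one_of _ _ _ _ _ _ ?_ ?_).1
    · rw [single_dot_self]; exact one_ne_zero
    · rw [single_dot_self]; exact one_ne_zero
  · refine rootCommutatorCase_of _ _ _ _ _ _ _ (single_dot_single h12.symm) ?_ (mem 2 1 h12.symm)
    rw [single_dot_self]; exact one_ne_zero

end Cfsg.Agent.Lib.Helper8.SLRoot
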