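import Mathlib
import Cfsg.Prelude.Def_Characters
import Cfsg.Prelude.Def_Blocks
import Cfsg.Agent.Lib.helper3.Irr7
import Cfsg.Agent.Lib.helper3.Irr13
import Cfsg.Agent.Lib.helper3.DefectZero
import Cfsg.Agent.Lib.Helper8.GS6

/-!
# S4872, piece P3: the counting identity `Σ_χ [χ_S,1_S]·[χ_N,φ] = φ(1)/|N|_2` (odd) for a
character `φ` of `2`-defect zero of a normal subgroup `N` of `2`-power index, `S ∈ Syl_2(G)`.
-/

set_option autoImplicit false
set_option linter.style.haveILetI false
set_option linter.unusedSectionVars false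
set_option linter.unusedVariables false

namespace Cfsg.Agent.Lib.Helper8.SR

open Cfsg Cfsg.Agent.Lib.helper3.Irr Cfsg.Agent.Lib.helper3.CharBasic
open Cfsg.Agent.Lib.helper3.IndFun Cfsg.Agent.Lib.helper3.Central
open Cfsg.Agent.Lib.helper3.BrauerInd Cfsg.Agent.Lib.Helper8.GSN
open scoped ComplexConjugate

universe u

theorem sum_fixed_mul_mult {G : Type u} [Group G] [Fintype G] (N : Subgroup G) [N.Normal]
    [Fintype N] (S : Sylow 2 G) [Fintype (S : Subgroup G)] (a : ℕ) (hidx : N.index = 2 ^ a)
    (φ : IrrCharacter N)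
    (hdef : 2 ^ (Nat.card N).factorization 2 ∣ charDegree (φ : N → ℂ)) :
    ∃ u : ℕ, Odd u ∧ ∑ χ : IrrCharacter G,
      classInner (fun s : (S : Subgroup G) => (χ : G → ℂ) s) (fun _ => (1 : ℂ))
        * classInner (fun n : N => (χ : G → ℂ) n) (φ : N → ℂ) = u := by
  classical
  haveI : Fact (Nat.Prime 2) := ⟨Nat.prime_two⟩
  obtain ⟨d, ρ, hirr, hρ⟩ := φ.2
  haveI := hirr
  set v := (Nat.card N).factorization 2 with hv
  have hN0 : Nat.card N ≠ 0 := Nat.card_pos.ne'
  have hφ1 : (φ : N → ℂ) 1 = d := by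
    rw [← hρ, Representation.char_one, Module.finrank_fin_fun]
  have hdeg : charDegree (φ : N → ℂ) = d := charDegree_eq_of_apply_one hφ1
  rw [hdeg] at hdef
  obtain ⟨u, hu⟩ := hdef
  have hdN : d ∣ Nat.card N := by
    have := finrank_dvd_card ρ
    rwa [Module.finrank_fin_fun] at this
  have hnot : ¬ 2 ^ (v + 1) ∣ Nat.card N := by
    intro h
    have := (Nat.Prime.pow_dvd_iff_le_factorization Nat.prime_two hN0).mp h
    omega
  have huodd : Odd u := by
    by_contra hne
    rw [Nat.not_odd_iff_even] at hne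
    obtain ⟨w, hw⟩ := hne
    apply hnot
    refine dvd_trans ?_ hdN
    rw [hu, hw, pow_succ]
    exact ⟨w, by ring⟩
  have hvan : ∀ n : N, 2 ∣ orderOf n → (φ : N → ℂ) n = 0 := by
    intro n hn
    rw [← hρ]
    apply character_eq_zero_of_defect_zero ρ 2 v hnot _ n hn
    rw [Module.finrank_fin_fun, hu]
    exact dvd_mul_right _ _
  refine ⟨u, huodd, ?_⟩
  -- the column sums
  have hT : ∀ (s : (S : Subgroup G)) (n : N),
      (∑ χ : IrrCharacter G, (χ : G → ℂ) s * (χ : G → ℂ) n) * conj ((φ : N → ℂ) n)
        = if (s = 1 ∧ n = 1) then (Nat.card G : ℂ) * d else 0 := by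
    intro s n
    have h1 : ∑ χ : IrrCharacter G, (χ : G → ℂ) s * (χ : G → ℂ) n
        = (Nat.card {y : G // y * ((n : G))⁻¹ * y⁻¹ = (s : G)} : ℂ) := by
      rw [← sum_irr_mul_conj]
      apply Finset.sum_congr rfl
      intro χ _
      rw [isCharacter_apply_inv (isCharacter_of_isIrrCharacter χ.2), Complex.conj_conj]
    rw [h1]
    split_ifs with hsn
    · obtain ⟨rfl, rfl⟩ := hsn
      rw [hφ1, Complex.conj_natCast]
      congr 1
      have : Nat.card {y : G // y * (((1 : N) : G))⁻¹ * y⁻¹ = (((1 : (S : Subgroup G))) : G)}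
          = Nat.card G := by
        apply Nat.card_congr
        refine ⟨fun y => y.1, fun y => ⟨y, by simp⟩, fun y => rfl, fun y => rfl⟩
      rw [this]
    · by_cases hn2 : 2 ∣ orderOf n
      · rw [hvan n hn2, map_zero, mul_zero]
      · have hempty : IsEmpty {y : G // y * ((n : G))⁻¹ * y⁻¹ = (s : G)} := by
          constructor
          rintro ⟨y, hy⟩
          apply hsn
          have hord : orderOf (s : G) = orderOf (n : G) := by
            rw [← hy]
            have : y * ((n : G))⁻¹ * y⁻¹ = MulAut.conj y ((n : G))⁻¹ := rfl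
            rw [this, MulEquiv.orderOf_eq, orderOf_inv]
          obtain ⟨k, hk⟩ := (IsPGroup.iff_orderOf.mp S.2) s
          rw [Subgroup.orderOf_coe] at hord
          rw [Subgroup.orderOf_coe] at hord
          have hn1 : orderOf n = 1 := by
            rw [← hord, hk]
            rw [← hord, hk] at hn2
            cases k with
            | zero => rfl
            | succ k => exact absurd (dvd_pow_self 2 (Nat.succ_ne_zero k)) hn2
          have hn' : n = 1 := orderOf_eq_one_iff.mp hn1
          subst hn'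
          refine ⟨?_, rfl⟩
          apply Subtype.ext
          rw [← hy]
          simp
        rw [Nat.card_of_isEmpty, Nat.cast_zero, zero_mul]
  -- expand the product of inner products
  have h1 : ∀ χ : IrrCharacter G,
      classInner (fun s : (S : Subgroup G) => (χ : G → ℂ) s) (fun _ => (1 : ℂ))
        * classInner (fun n : N => (χ : G → ℂ) n) (φ : N → ℂ)
      = (Nat.card (S : Subgroup G) : ℂ)⁻¹ * (Nat.card N : ℂ)⁻¹ *
          ∑ s : (S : Subgroup G), ∑ n : N,
            ((χ : G → ℂ) s * (χ : G → ℂ) n) * conj ((φ : N → ℂ) n) := by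
    intro χ
    rw [classInner_apply, classInner_apply]
    simp only [map_one, mul_one]
    rw [mul_mul_mul_comm, Finset.sum_mul_sum]
    congr 1
    apply Finset.sum_congr rfl
    intro s _
    apply Finset.sum_congr rfl
    intro n _
    ring
  rw [Finset.sum_congr rfl (fun χ _ => h1 χ), ← Finset.mul_sum, Finset.sum_comm]
  have h2 : ∀ s : (S : Subgroup G), ∑ χ : IrrCharacter G, ∑ n : N,
      ((χ : G → ℂ) s * (χ : G → ℂ) n) * conj ((φ : N → ℂ) n)
      = ∑ n : N, if (s = 1 ∧ n = 1) then (Nat.card G : ℂ) * d else 0 := by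
    intro s
    rw [Finset.sum_comm]
    apply Finset.sum_congr rfl
    intro n _
    rw [← Finset.sum_mul]
    exact hT s n
  rw [Finset.sum_congr rfl (fun s _ => h2 s)]
  have h3 : ∑ s : (S : Subgroup G), ∑ n : N,
      (if (s = 1 ∧ n = 1) then (Nat.card G : ℂ) * d else 0) = (Nat.card G : ℂ) * d := by
    rw [Finset.sum_eq_single (1 : (S : Subgroup G)), Finset.sum_eq_single (1 : N)]
    · simp
    · intro n _ hn
      simp [hn]
    · intro h
      exact absurd (Finset.mem_univ _) h
    · intro s _ hs
      apply Finset.sum_eq_zero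
      intro n _
      simp [hs]
    · intro h
      exact absurd (Finset.mem_univ _) h
  rw [h3]
  -- the arithmetic
  have hG : Nat.card G = Nat.card N * 2 ^ a := by
    rw [← hidx, Subgroup.card_mul_index]
  have hS : Nat.card (S : Subgroup G) = 2 ^ (v + a) := by
    rw [Sylow.card_eq_multiplicity, hG, Nat.factorization_mul hN0 (by positivity),
      Nat.Prime.factorization_pow Nat.prime_two]
    simp [hv]
  rw [hS, hG, hu]
  have hN0' : (Nat.card N : ℂ) ≠ 0 := by exact_mod_cast hN0
  push_cast
  rw [pow_add]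
  field_simp

end Cfsg.Agent.Lib.Helper8.SR
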