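import Mathlib
import Cfsg.Prelude.Def_Characters
import Cfsg.Agent.Lib.Helper4.FS
import Cfsg.Agent.Lib.helper3.Irr11

/-!
# S4872, piece P1: an irreducible character with Frobenius–Schur indicator `-1` contains the
trivial character of any subgroup with even multiplicity.
-/

set_option autoImplicit false
set_option linter.style.haveILetI false
set_option linter.unusedSectionVars false
set_option linter.unusedVariables false

namespace Cfsg.Agent.Lib.Helper8.SR

open Cfsg Cfsg.Agent.Lib.helper3.Irr Cfsg.Agent.Lib.helper3.CharBasic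
open Cfsg.Agent.Lib.Helper4.FS Module
open scoped ComplexConjugate Matrix

universe u

/-- A skew-symmetric complex matrix with trivial kernel has even size. -/
theorem even_of_skew_of_ker {r : ℕ} (Γ : Matrix (Fin r) (Fin r) ℂ) (hskew : Γ.transpose = -Γ)
    (hker : ∀ z : Fin r → ℂ, Γ.mulVec z = 0 → z = 0) : Even r := by
  have hdet : Γ.det ≠ 0 := by
    intro h0
    obtain ⟨z, hz0, hz⟩ := Matrix.exists_mulVec_eq_zero_iff.mpr h0
    exact hz0 (hker z hz)
  rcases Nat.even_or_odd r with h | h
  · exact h
  · exfalso
    have h1 : Γ.transpose.det = (-Γ).det := by rw [hskew]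
    rw [Matrix.det_transpose, Matrix.det_neg, Fintype.card_fin, h.neg_one_pow] at h1
    apply hdet
    linear_combination (1 / 2 : ℂ) * h1

theorem even_fixed_of_fsInd_neg {G : Type u} [Group G] [Fintype G] (χ : IrrCharacter G)
    (hν : fsInd (χ : G → ℂ) = -1) (S : Subgroup G) [Fintype S] :
    ∃ a : ℕ, Even a ∧
      classInner (fun s : S => (χ : G → ℂ) s) (fun _ => (1 : ℂ)) = a := by
  classical
  obtain ⟨d, ρ, hirr, hρ⟩ := χ.2
  have hreal : ∀ g, conj (ρ.character g) = ρ.character g := by
    rw [hρ]
    apply real_of_fsInd_ne_zero χ.2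
    rw [hν]
    norm_num
  obtain ⟨B, hBdet, hBinv, hBT⟩ := exists_invariant_form d ρ hirr hreal
  rw [hρ, hν] at hBT
  -- the inverse form
  set C : Matrix (Fin d) (Fin d) ℂ := B⁻¹ with hC
  have hBu : IsUnit B.det := isUnit_iff_ne_zero.mpr hBdet
  have hBC : B * C = 1 := Matrix.mul_nonsing_inv B hBu
  have hCB : C * B = 1 := Matrix.nonsing_inv_mul B hBu
  set M : G → Matrix (Fin d) (Fin d) ℂ := fun g => LinearMap.toMatrix' (ρ g) with hM
  have hMmul : ∀ g h : G, M g * M h = M (g * h) := by
    intro g h
    rw [hM]
    simp only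
    rw [← LinearMap.toMatrix'_mul, ← map_mul ρ g h]
  have hMone : M 1 = 1 := by
    rw [hM]
    simp only
    rw [map_one]
    exact LinearMap.toMatrix'_one
  have hMvec : ∀ (g : G) (v : Fin d → ℂ), (M g).mulVec v = ρ g v := by
    intro g v
    rw [hM]
    simp only
    rw [← Matrix.toLin'_apply, Matrix.toLin'_toMatrix']
  -- invariance of `C`
  have hCinv : ∀ g : G, (M g).transpose * C * M g = C := by
    intro g
    have h1 : B * ((M g).transpose * C * M g) = 1 := by
      have h2 := hBinv g⁻¹
      have h3 : M g⁻¹ * M g = 1 := by rw [hMmul, inv_mul_cancel, hMone]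
      have h4 : (M g⁻¹).transpose * (M g).transpose = 1 := by
        rw [← Matrix.transpose_mul]
        have : M g * M g⁻¹ = 1 := by rw [hMmul, mul_inv_cancel, hMone]
        rw [this, Matrix.transpose_one]
      calc B * ((M g).transpose * C * M g)
          = (M g⁻¹ * B * (M g⁻¹).transpose) * ((M g).transpose * C * M g) := by rw [h2]
        _ = M g⁻¹ * B * ((M g⁻¹).transpose * (M g).transpose) * C * M g := by
            simp only [Matrix.mul_assoc]
        _ = M g⁻¹ * (B * C) * M g := by rw [h4, Matrix.mul_one]; simp only [Matrix.mul_assoc]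
        _ = 1 := by rw [hBC, Matrix.mul_one, h3]
    have h5 := Matrix.inv_eq_right_inv h1
    rw [← h5]
  have hCT : C.transpose = -C := by
    have h1 : B * (-C.transpose) = 1 := by
      have h2 : B.transpose * C.transpose = 1 := by
        rw [← Matrix.transpose_mul, hCB, Matrix.transpose_one]
      rw [hBT] at h2
      rw [Matrix.mul_neg, ← Matrix.neg_mul]
      have : (-1 : ℂ) • B = -B := by simp
      rw [this] at h2
      exact h2
    have h3 := Matrix.inv_eq_right_inv h1
    rw [← hC] at h3
    have h4 := congrArg Neg.neg h3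
    rw [neg_neg] at h4
    exact h4.symm
  -- the fixed space and its Gram matrix
  set ρS := ρ.comp S.subtype with hρS
  set W := Representation.invariants ρS with hW
  set r := finrank ℂ W with hr
  have hcl := classInner_restrict_one ρ S
  rw [hρ] at hcl
  refine ⟨r, ?_, hcl⟩
  let b : Basis (Fin r) ℂ W := Module.finBasis ℂ W
  set P : Matrix (Fin d) (Fin r) ℂ := fun i j => ((b j : W) : Fin d → ℂ) i with hP
  have hPz : ∀ z : Fin r → ℂ, P.mulVec z = ((b.equivFun.symm z : W) : Fin d → ℂ) := by
    intro z
    rw [Basis.equivFun_symm_apply]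
    funext i
    rw [Matrix.mulVec, dotProduct, Submodule.coe_sum, Finset.sum_apply]
    apply Finset.sum_congr rfl
    intro j _
    rw [Submodule.coe_smul, Pi.smul_apply, smul_eq_mul, hP]
    ring
  set Γ : Matrix (Fin r) (Fin r) ℂ := P.transpose * C * P with hΓ
  apply even_of_skew_of_ker Γ
  · rw [hΓ, Matrix.transpose_mul, Matrix.transpose_mul, Matrix.transpose_transpose, hCT]
    simp only [Matrix.mul_neg, Matrix.neg_mul, Matrix.mul_assoc]
  · intro z hz
    set w : Fin d → ℂ := P.mulVec z with hw
    have hwW : w ∈ W := by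
      rw [hw, hPz]
      exact (b.equivFun.symm z).2
    have hwfix : ∀ s : S, ρ (s : G) w = w := fun s => hwW s
    -- `b j ⬝ C w = 0`
    have h1 : ∀ j : Fin r, dotProduct (((b j : W) : Fin d → ℂ)) (C.mulVec w) = 0 := by
      intro j
      have h2 := congrFun hz j
      rw [hΓ, Matrix.mul_assoc, ← Matrix.mulVec_mulVec, ← Matrix.mulVec_mulVec, ← hw] at h2
      rw [Pi.zero_apply, Matrix.mulVec, dotProduct] at h2
      rw [dotProduct, ← h2]
      apply Finset.sum_congr rfl
      intro i _
      rfl
    have h2 : ∀ u ∈ W, dotProduct (u : Fin d → ℂ) (C.mulVec w) = 0 := by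
      intro u hu
      have h3 : (⟨u, hu⟩ : W) = ∑ j, (b.repr ⟨u, hu⟩ j) • b j := (b.sum_repr ⟨u, hu⟩).symm
      have h4 : u = ∑ j, (b.repr ⟨u, hu⟩ j) • ((b j : W) : Fin d → ℂ) := by
        have := congrArg (fun x : W => (x : Fin d → ℂ)) h3
        simp only at this
        refine this.trans ?_
        rw [Submodule.coe_sum]
        apply Finset.sum_congr rfl
        intro j _
        rw [Submodule.coe_smul]
      have h5 : dotProduct u (C.mulVec w)
          = dotProduct (∑ j, (b.repr ⟨u, hu⟩ j) • ((b j : W) : Fin d → ℂ)) (C.mulVec w) :=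
        congrArg (fun x => dotProduct x (C.mulVec w)) h4
      rw [h5, sum_dotProduct]
      apply Finset.sum_eq_zero
      intro j _
      rw [smul_dotProduct, h1 j, smul_zero]
    -- invariance
    have h3 : ∀ (s : S) (v : Fin d → ℂ),
        dotProduct (ρ (s : G) v) (C.mulVec w) = dotProduct v (C.mulVec w) := by
      intro s v
      have e1 : C.mulVec w = ((M (s : G)).transpose * C * M (s : G)).mulVec w := by
        rw [hCinv]
      rw [← hMvec]
      conv_rhs => rw [e1]
      rw [Matrix.mul_assoc, ← Matrix.mulVec_mulVec, ← Matrix.mulVec_mulVec, hMvec (s : G) w,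
        hwfix s]
      conv_rhs => rw [Matrix.dotProduct_mulVec, Matrix.vecMul_transpose]
    have h4 : ∀ v : Fin d → ℂ, dotProduct v (C.mulVec w) = 0 := by
      intro v
      set u : Fin d → ℂ := ∑ s : S, ρ (s : G) v with hu
      have huW : u ∈ W := by
        intro t
        show ρ ((t : S) : G) u = u
        rw [hu, map_sum]
        apply Fintype.sum_equiv (Equiv.mulLeft t)
        intro s
        show ρ (t : G) (ρ (s : G) v) = ρ ((t * s : S) : G) v
        rw [Subgroup.coe_mul, map_mul]
        rfl
      have h5 := h2 u huW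
      rw [hu, sum_dotProduct, Finset.sum_congr rfl (fun s _ => h3 s v), Finset.sum_const,
        Finset.card_univ, nsmul_eq_mul] at h5
      have hS0 : (Fintype.card S : ℂ) ≠ 0 := by
        have : 0 < Fintype.card S := Fintype.card_pos
        exact_mod_cast this.ne'
      exact (mul_eq_zero.mp h5).resolve_left hS0
    have h5 : C.mulVec w = 0 := by
      apply dotProduct_eq_zero
      intro v
      rw [dotProduct_comm]
      exact h4 v
    have h6 : w = 0 := by
      have : B.mulVec (C.mulVec w) = w := by
        rw [Matrix.mulVec_mulVec, hBC, Matrix.one_mulVec]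
      rw [← this, h5, Matrix.mulVec_zero]
    rw [hw, hPz] at h6
    have h7 : (b.equivFun.symm z : W) = 0 := Subtype.ext h6
    have h8 := congrArg b.equivFun h7
    rw [LinearEquiv.apply_symm_apply, map_zero] at h8
    exact h8

end Cfsg.Agent.Lib.Helper8.SR
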