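import Mathlib

/-!
# Primitive groups containing a regular abelian subgroup (Schur's method)

(helper8, for S3559.)  `H` is a commutative group acting regularly on `Ω`, and `H` is contained
(as a permutation group) in the primitive group `G`.  `dl α β` is the element of `H` moving `α`
to `β`.  An *S-set* is a subset `T` of `H` such that `{(α, β) | dl α β ∈ T}` is `G`-invariant.

Main results of this file: `equiv_trivial` (invariant equivalence relations are trivial),
`card_pow_eq` (Schur: the number of `p`-th roots in an S-set of a non-identity element is divisible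
by `p`, when `H` has elements of order `p`), `stab_trivial`.
-/

set_option autoImplicit false

namespace Cfsg.Agent.Lib.Helper8.SRing

open MulAction Finset

/-- Standing hypotheses. -/
structure Setting (G Ω H : Type*) [Group G] [MulAction G Ω] [Group H] [MulAction H Ω] : Prop where
  reg : ∀ α β : Ω, ∃! h : H, h • α = β
  comm : ∀ a b : H, a * b = b * a
  sub : ∀ h : H, ∃ g : G, ∀ α : Ω, g • α = h • α
  prim : IsPreprimitive G Ω

variable {G Ω H : Type*} [Group G] [MulAction G Ω] [Group H] [MulAction H Ω]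

/-- the element of `H` moving `α` to `β` -/
noncomputable def dl (S : Setting G Ω H) (α β : Ω) : H := (S.reg α β).choose

theorem dl_smul (S : Setting G Ω H) (α β : Ω) : dl S α β • α = β := (S.reg α β).choose_spec.1

theorem eq_dl (S : Setting G Ω H) {h : H} {α β : Ω} (hh : h • α = β) : h = dl S α β :=
  (S.reg α β).unique hh (dl_smul S α β)

theorem dl_self (S : Setting G Ω H) (α : Ω) : dl S α α = 1 := (eq_dl S (one_smul _ _)).symm

theorem dl_smul_right (S : Setting G Ω H) (α : Ω) (h : H) : dl S α (h • α) = h :=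
  (eq_dl S rfl).symm

theorem dl_eq_one_iff (S : Setting G Ω H) (α β : Ω) : dl S α β = 1 ↔ α = β := by
  constructor
  · intro h
    have := dl_smul S α β
    rw [h, one_smul] at this
    exact this
  · rintro rfl; exact dl_self S α

theorem smul_eq_iff (S : Setting G Ω H) (h : H) (α β : Ω) : h • α = β ↔ h = dl S α β :=
  ⟨fun hh => eq_dl S hh, fun hh => by rw [hh]; exact dl_smul S α β⟩

theorem dl_smul_smul (S : Setting G Ω H) (h : H) (α β : Ω) : dl S (h • α) (h • β) = dl S α β := by
  symm; apply eq_dl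
  rw [smul_smul, S.comm, ← smul_smul, dl_smul]

theorem dl_mul (S : Setting G Ω H) (α β γ : Ω) : dl S β γ * dl S α β = dl S α γ := by
  apply eq_dl; rw [mul_smul, dl_smul, dl_smul]

theorem dl_inv (S : Setting G Ω H) (α β : Ω) : (dl S α β)⁻¹ = dl S β α := by
  apply eq_dl
  rw [inv_smul_eq_iff, dl_smul]

theorem dl_smul_smul' (S : Setting G Ω H) (x y : H) (α : Ω) :
    dl S (x • α) (y • α) = y * x⁻¹ := by
  symm; apply eq_dl
  rw [smul_smul, inv_mul_cancel_right]

/-- `T` is an S-set. -/
def IsSSet (S : Setting G Ω H) (T : Finset H) : Prop :=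
  ∀ (g : G) (α β : Ω), dl S (g • α) (g • β) ∈ T ↔ dl S α β ∈ T

/-- invariant equivalence relations are trivial -/
theorem equiv_trivial (S : Setting G Ω H) (r : Ω → Ω → Prop) (hr : Equivalence r)
    (hinv : ∀ (g : G) (α β : Ω), r α β → r (g • α) (g • β)) :
    (∀ α β, r α β → α = β) ∨ (∀ α β, r α β) := by
  have := S.prim
  rcases isEmpty_or_nonempty Ω with hΩ | ⟨⟨ω₀⟩⟩
  · left; intro α; exact hΩ.elim α
  have hinv' : ∀ (g : G) (α β : Ω), r (g • α) (g • β) ↔ r α β := fun g α β =>
    ⟨fun h => by simpa using hinv g⁻¹ _ _ h, hinv g α β⟩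
  have hblock : IsBlock G {β | r ω₀ β} := by
    rw [isBlock_iff_smul_eq_of_mem]
    intro g a ha hga
    simp only [Set.mem_ofPred_eq] at ha hga
    have h1 : r ω₀ (g • ω₀) := hr.trans hga (hr.symm (hinv g _ _ ha))
    ext β
    rw [Set.mem_smul_set_iff_inv_smul_mem]
    simp only [Set.mem_ofPred_eq]
    constructor
    · intro h
      have := hinv g _ _ h
      rw [smul_inv_smul] at this
      exact hr.trans h1 this
    · intro h
      rw [← hinv' g, smul_inv_smul]
      exact hr.trans (hr.symm h1) h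
  rcases IsPreprimitive.isTrivialBlock_of_isBlock hblock with h | h
  · left
    intro α β hαβ
    obtain ⟨g, rfl⟩ := exists_smul_eq G ω₀ α
    have h2 : r ω₀ (g⁻¹ • β) := by rw [← hinv' g, smul_inv_smul]; exact hαβ
    have h3 : g⁻¹ • β = ω₀ := h h2 (hr.refl ω₀)
    rw [← h3, smul_inv_smul]
  · right
    intro α β
    have hα : r ω₀ α := by
      have : α ∈ {β | r ω₀ β} := by rw [h]; trivial
      exact this
    have hβ : r ω₀ β := by
      have : β ∈ {β | r ω₀ β} := by rw [h]; trivial
      exact this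
    exact hr.trans (hr.symm hα) hβ

/-- the S-set of an invariant relation -/
theorem mem_ofRel (S : Setting G Ω H) [Fintype H] (O : Ω → Ω → Prop) [DecidableRel O]
    (hO : ∀ (g : G) (α β : Ω), O α β → O (g • α) (g • β)) (ω₀ : Ω) (α β : Ω) :
    dl S α β ∈ univ.filter (fun h : H => O ω₀ (h • ω₀)) ↔ O α β := by
  simp only [mem_filter, mem_univ, true_and]
  have hx : dl S ω₀ α • ω₀ = α := dl_smul S ω₀ α
  constructor
  · intro h
    obtain ⟨g, hg⟩ := S.sub (dl S ω₀ α)
    have := hO g _ _ h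
    rw [hg, hg, hx, smul_smul, S.comm, ← smul_smul, hx, dl_smul] at this
    exact this
  · intro h
    obtain ⟨g, hg⟩ := S.sub (dl S ω₀ α)⁻¹
    have := hO g _ _ h
    rw [hg, hg] at this
    have e1 : (dl S ω₀ α)⁻¹ • α = ω₀ := by rw [inv_smul_eq_iff, hx]
    have e2 : (dl S ω₀ α)⁻¹ • β = dl S α β • ω₀ := by
      rw [inv_smul_eq_iff, smul_smul, S.comm, ← smul_smul, hx, dl_smul]
    rw [e1, e2] at this
    exact this

theorem isSSet_ofRel (S : Setting G Ω H) [Fintype H] (O : Ω → Ω → Prop) [DecidableRel O]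
    (hO : ∀ (g : G) (α β : Ω), O α β → O (g • α) (g • β)) (ω₀ : Ω) :
    IsSSet S (univ.filter (fun h : H => O ω₀ (h • ω₀))) := by
  intro g α β
  rw [mem_ofRel S O hO, mem_ofRel S O hO]
  exact ⟨fun h => by simpa using hO g⁻¹ _ _ h, hO g α β⟩

/-- stabiliser lemma -/
theorem stab_trivial (S : Setting G Ω H) (ω₀ : Ω) (T : Finset H) (hT : IsSSet S T)
    (hne : T.Nonempty) (h1 : (1 : H) ∉ T) (x : H) (hx : ∀ y, y ∈ T ↔ y * x ∈ T) : x = 1 := by
  obtain ⟨t, ht⟩ := hne
  have hr : Equivalence (fun α β : Ω => ∀ γ, dl S α γ ∈ T ↔ dl S β γ ∈ T) :=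
    ⟨fun _ _ => Iff.rfl, fun h γ => (h γ).symm, fun h h' γ => (h γ).trans (h' γ)⟩
  have hinv : ∀ (g : G) (α β : Ω), (∀ γ, dl S α γ ∈ T ↔ dl S β γ ∈ T) →
      (∀ γ, dl S (g • α) γ ∈ T ↔ dl S (g • β) γ ∈ T) := by
    intro g α β h γ
    have e : γ = g • (g⁻¹ • γ) := (smul_inv_smul g γ).symm
    rw [e, hT g, hT g]
    exact h _
  rcases equiv_trivial S _ hr hinv with h | h
  · have h2 : ∀ γ, dl S ω₀ γ ∈ T ↔ dl S (x⁻¹ • ω₀) γ ∈ T := by
      intro γ
      have e : γ = dl S ω₀ γ • ω₀ := (dl_smul S ω₀ γ).symm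
      conv_rhs => rw [e, dl_smul_smul', inv_inv]
      exact hx _
    have h3 := h _ _ h2
    have h4 : x⁻¹ = dl S ω₀ ω₀ := eq_dl S h3.symm
    rw [dl_self] at h4
    exact inv_eq_one.1 h4
  · exfalso
    have h2 := (h ω₀ (t • ω₀) (t • ω₀)).1 (by rw [dl_smul_right]; exact ht)
    rw [dl_self] at h2
    exact h1 h2

end Cfsg.Agent.Lib.Helper8.SRing
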