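import Mathlib
import Cfsg.Agent.Lib.Helper8.SRingA

/-!
# Schur's `p`-th power lemma via invariant matrices (helper8, for S3559)
-/

set_option autoImplicit false
set_option linter.unusedSectionVars false

namespace Cfsg.Agent.Lib.Helper8.SRing

open MulAction Finset

variable {G Ω H : Type*} [Group G] [MulAction G Ω] [Group H] [MulAction H Ω]
  [Fintype Ω] [DecidableEq Ω]

section matrix
variable {R : Type*} [Ring R]

/-- `G`-invariant matrices -/
def IsInv (G : Type*) {Ω : Type*} [Group G] [MulAction G Ω] {R : Type*} (M : Matrix Ω Ω R) : Prop :=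
  ∀ (g : G) (α β : Ω), M (g • α) (g • β) = M α β

theorem IsInv.mul {M N : Matrix Ω Ω R} (hM : IsInv G M) (hN : IsInv G N) : IsInv G (M * N) := by
  intro g α β
  simp only [Matrix.mul_apply]
  rw [← Equiv.sum_comp (MulAction.toPerm g : Equiv.Perm Ω)]
  refine Finset.sum_congr rfl (fun γ _ => ?_)
  simp only [MulAction.toPerm_apply]
  rw [hM, hN]

omit [Fintype Ω] in
theorem IsInv.one : IsInv G (1 : Matrix Ω Ω R) := by
  intro g α β
  simp only [Matrix.one_apply, smul_left_cancel_iff]

theorem IsInv.pow {M : Matrix Ω Ω R} (hM : IsInv G M) (k : ℕ) : IsInv G (M ^ k) := by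
  induction k with
  | zero => rw [pow_zero]; exact IsInv.one
  | succ k ih => rw [pow_succ]; exact ih.mul hM

/-- permutation matrix of `h` -/
def pm (R : Type*) [Ring R] (h : H) : Matrix Ω Ω R := fun α β => if h • α = β then 1 else 0

theorem pm_mul (s t : H) : (pm R s : Matrix Ω Ω R) * pm R t = pm R (t * s) := by
  ext α γ
  simp only [Matrix.mul_apply, pm]
  rw [Finset.sum_eq_single (s • α)]
  · simp [mul_smul]
  · intro β _ hβ
    rw [if_neg (Ne.symm hβ), zero_mul]
  · intro h; exact absurd (mem_univ _) h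

omit [Fintype Ω] in
theorem pm_one : (pm R (1 : H) : Matrix Ω Ω R) = 1 := by
  ext α β
  simp [pm, Matrix.one_apply]

theorem pm_pow (h : H) (k : ℕ) : (pm R h : Matrix Ω Ω R) ^ k = pm R (h ^ k) := by
  induction k with
  | zero => rw [pow_zero, pow_zero, pm_one]
  | succ k ih => rw [pow_succ, ih, pm_mul, pow_succ']

/-- adjacency matrix of a subset of `H` -/
def am (R : Type*) [Ring R] (T : Finset H) : Matrix Ω Ω R := ∑ t ∈ T, pm R t

theorem am_apply (S : Setting G Ω H) [DecidableEq H] (T : Finset H) (α β : Ω) :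
    (am R T : Matrix Ω Ω R) α β = if dl S α β ∈ T then 1 else 0 := by
  unfold am
  rw [Matrix.sum_apply]
  simp only [pm, smul_eq_iff S]
  rw [Finset.sum_ite_eq' T (dl S α β)]

theorem am_isInv (S : Setting G Ω H) [DecidableEq H] (T : Finset H) (hT : IsSSet S T) :
    IsInv G (am R T : Matrix Ω Ω R) := by
  intro g α β
  rw [am_apply S, am_apply S]
  simp only [hT g α β]

theorem sum_pow_char_of_commute {A : Type*} [Ring A] (p : ℕ) [Fact p.Prime] [CharP A p]
    {ι : Type*} [DecidableEq ι] (s : Finset ι) (f : ι → A) (hc : ∀ i j, Commute (f i) (f j)) :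
    (∑ i ∈ s, f i) ^ p = ∑ i ∈ s, f i ^ p := by
  induction s using Finset.induction_on with
  | empty => simp [zero_pow (Fact.out : p.Prime).ne_zero]
  | insert a s ha ih =>
    rw [Finset.sum_insert ha, Finset.sum_insert ha,
      add_pow_char_of_commute p (Commute.sum_right _ _ _ (fun i _ => hc a i)), ih]

end matrix

theorem am_pow_apply (S : Setting G Ω H) [DecidableEq H] (p : ℕ) [Fact p.Prime]
    (T : Finset H) (α β : Ω) :
    ((am (ZMod p) T : Matrix Ω Ω (ZMod p)) ^ p) α β
      = ((T.filter (fun t => t ^ p = dl S α β)).card : ZMod p) := by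
  have : Nonempty Ω := ⟨α⟩
  unfold am
  rw [sum_pow_char_of_commute p T _ (fun i j => by
    change pm (ZMod p) i * pm (ZMod p) j = pm (ZMod p) j * pm (ZMod p) i
    rw [pm_mul, pm_mul, S.comm])]
  rw [Matrix.sum_apply]
  simp only [pm_pow, pm, smul_eq_iff S]
  rw [Finset.sum_boole]

/-- **Schur.**  If `H` has an element of order `p`, then in an S-set the number of `p`-th roots of
a non-identity element is divisible by `p`. -/
theorem card_pow_eq (S : Setting G Ω H) [Fintype H] [DecidableEq H] (ω₀ : Ω) (p : ℕ)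
    [Fact p.Prime] (hp : ∃ x : H, x ≠ 1 ∧ x ^ p = 1) (T : Finset H) (hT : IsSSet S T)
    (g₀ : H) (hg₀ : g₀ ≠ 1) : ((T.filter (fun t => t ^ p = g₀)).card : ZMod p) = 0 := by
  by_contra hcon
  set φ : H → ZMod p := fun g => ((T.filter (fun t => t ^ p = g)).card : ZMod p) with hφ
  have hφinv : ∀ (g : G) (α β : Ω), φ (dl S (g • α) (g • β)) = φ (dl S α β) := by
    intro g α β
    have := (am_isInv (R := ZMod p) S T hT).pow p g α β
    rw [am_pow_apply S, am_pow_apply S] at this
    exact this
  set Z : Finset H := univ.filter (fun g => g ≠ 1 ∧ φ g ≠ 0) with hZ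
  have hZmem : ∀ α β : Ω, dl S α β ∈ Z ↔ (α ≠ β ∧ φ (dl S α β) ≠ 0) := by
    intro α β
    rw [hZ, mem_filter]
    simp only [mem_univ, true_and, Ne, dl_eq_one_iff]
  have hZinv : ∀ (g : G) (α β : Ω), dl S α β ∈ Z → dl S (g • α) (g • β) ∈ Z := by
    intro g α β h
    rw [hZmem] at h ⊢
    rw [hφinv]
    exact ⟨fun h' => h.1 (smul_left_cancel g h'), h.2⟩
  have hr := Relation.EqvGen.is_equivalence (fun α β : Ω => dl S α β ∈ Z)
  have hinv : ∀ (g : G) (α β : Ω), Relation.EqvGen (fun α β : Ω => dl S α β ∈ Z) α β →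
      Relation.EqvGen (fun α β : Ω => dl S α β ∈ Z) (g • α) (g • β) := by
    intro g α β h
    induction h with
    | rel a b hab => exact Relation.EqvGen.rel _ _ (hZinv g a b hab)
    | refl a => exact Relation.EqvGen.refl _
    | symm a b _ ih => exact Relation.EqvGen.symm _ _ ih
    | trans a b c _ _ ih1 ih2 => exact Relation.EqvGen.trans _ _ _ ih1 ih2
  have hg₀Z : g₀ ∈ Z := by
    rw [hZ, mem_filter]; exact ⟨mem_univ _, hg₀, hcon⟩
  rcases equiv_trivial S _ hr hinv with h | h
  · have h1 : Relation.EqvGen (fun α β : Ω => dl S α β ∈ Z) ω₀ (g₀ • ω₀) :=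
      Relation.EqvGen.rel _ _ (by rw [dl_smul_right]; exact hg₀Z)
    have h2 := h _ _ h1
    have h3 : g₀ = dl S ω₀ ω₀ := eq_dl S h2.symm
    rw [dl_self] at h3
    exact hg₀ h3
  · -- everything related: every element is a `p`-th power
    have hsub : ∀ α β : Ω, Relation.EqvGen (fun α β : Ω => dl S α β ∈ Z) α β →
        ∃ y : H, dl S α β = y ^ p := by
      intro α β hαβ
      induction hαβ with
      | rel a b hab =>
        rw [hZ, mem_filter] at hab
        have h1 : (T.filter (fun t => t ^ p = dl S a b)).card ≠ 0 := by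
          intro h0
          apply hab.2.2
          rw [hφ]; simp only; rw [h0]; simp
        obtain ⟨t, ht⟩ := Finset.card_pos.1 (Nat.pos_of_ne_zero h1)
        exact ⟨t, ((mem_filter.1 ht).2).symm⟩
      | refl a => exact ⟨1, by rw [dl_self, one_pow]⟩
      | symm a b _ ih =>
        obtain ⟨y, hy⟩ := ih
        exact ⟨y⁻¹, by rw [← dl_inv, hy, inv_pow]⟩
      | trans a b c _ _ ih1 ih2 =>
        obtain ⟨y1, hy1⟩ := ih1
        obtain ⟨y2, hy2⟩ := ih2
        refine ⟨y2 * y1, ?_⟩
        rw [← dl_mul S a b c, hy1, hy2]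
        exact ((show Commute y2 y1 from S.comm y2 y1).mul_pow p).symm
    have hsurj : Function.Surjective (fun y : H => y ^ p) := by
      intro h'
      obtain ⟨y, hy⟩ := hsub ω₀ (h' • ω₀) (h _ _)
      rw [dl_smul_right] at hy
      exact ⟨y, hy.symm⟩
    have hinj := Finite.injective_iff_surjective.2 hsurj
    obtain ⟨x, hx1, hx2⟩ := hp
    apply hx1
    apply hinj
    simp only [hx2, one_pow]

end Cfsg.Agent.Lib.Helper8.SRing
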