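import Mathlib
import Cfsg.Agent.Lib.Helper8.SRingA
import Cfsg.Agent.Lib.Helper8.SRingB

/-!
# Schur's theorem for degrees with two prime divisors (helper8, for S3559)

If the regular abelian subgroup `H` has exactly `p` solutions of `x ^ p = 1` and exactly `q`
solutions of `x ^ q = 1`, for distinct primes `p`, `q`, then the primitive group `G` is
doubly transitive.
-/

set_option autoImplicit false
set_option linter.unusedSectionVars false

namespace Cfsg.Agent.Lib.Helper8.SRing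

open MulAction Finset

variable {G Ω H : Type*} [Group G] [MulAction G Ω] [Group H] [MulAction H Ω]
  [Fintype Ω] [DecidableEq Ω] [Fintype H] [DecidableEq H]

theorem exists_ne_one_of_card (p : ℕ) (hp : p.Prime)
    (hKp : (univ.filter (fun x : H => x ^ p = 1)).card = p) : ∃ x : H, x ≠ 1 ∧ x ^ p = 1 := by
  have h1 : 1 < (univ.filter (fun x : H => x ^ p = 1)).card := by rw [hKp]; exact hp.one_lt
  obtain ⟨a, ha, b, hb, hab⟩ := Finset.one_lt_card.1 h1
  simp only [mem_filter, mem_univ, true_and] at ha hb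
  by_cases h : a = 1
  · exact ⟨b, fun hb1 => hab (h.trans hb1.symm), hb⟩
  · exact ⟨a, h, ha⟩

theorem coset_subset (S : Setting G Ω H) (ω₀ : Ω) (p : ℕ) [Fact p.Prime]
    (hKp : (univ.filter (fun x : H => x ^ p = 1)).card = p)
    (T : Finset H) (hT : IsSSet S T) (h : H) (hh : h ∈ T) (hhp : h ^ p ≠ 1) (x : H)
    (hx : x ^ p = 1) : h * x ∈ T := by
  have hp : p.Prime := Fact.out
  have h0 := card_pow_eq S ω₀ p (exists_ne_one_of_card p hp hKp) T hT (h ^ p) hhp
  have h1 : p ∣ (T.filter (fun t => t ^ p = h ^ p)).card := (ZMod.natCast_eq_zero_iff _ _).1 h0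
  have hsub : T.filter (fun t => t ^ p = h ^ p)
      ⊆ (univ.filter (fun x : H => x ^ p = 1)).image (fun x => h * x) := by
    intro t ht
    rw [mem_filter] at ht
    rw [mem_image]
    refine ⟨h⁻¹ * t, ?_, by rw [mul_inv_cancel_left]⟩
    rw [mem_filter]
    refine ⟨mem_univ _, ?_⟩
    rw [(show Commute h⁻¹ t from S.comm _ _).mul_pow, ht.2, inv_pow, inv_mul_cancel]
  have h2 : ((univ.filter (fun x : H => x ^ p = 1)).image (fun x => h * x)).card = p := by
    rw [Finset.card_image_of_injective _ (mul_right_injective h), hKp]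
  have h3 : 0 < (T.filter (fun t => t ^ p = h ^ p)).card :=
    Finset.card_pos.2 ⟨h, by rw [mem_filter]; exact ⟨hh, rfl⟩⟩
  have h4 : (T.filter (fun t => t ^ p = h ^ p)).card ≤ p :=
    (Finset.card_le_card hsub).trans h2.le
  have h5 : p ≤ (T.filter (fun t => t ^ p = h ^ p)).card := Nat.le_of_dvd h3 h1
  have h6 := Finset.eq_of_subset_of_card_le hsub (h2.le.trans h5)
  have h7 : h * x ∈ (univ.filter (fun x : H => x ^ p = 1)).image (fun x => h * x) :=
    mem_image.2 ⟨x, by rw [mem_filter]; exact ⟨mem_univ _, hx⟩, rfl⟩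
  rw [← h6] at h7
  exact (mem_filter.1 h7).1

theorem eq_one_of_pow_pow {p q : ℕ} (hp : p.Prime) (hq : q.Prime) (hpq : p ≠ q) (x : H)
    (h1 : x ^ p = 1) (h2 : x ^ q = 1) : x = 1 := by
  have d1 := orderOf_dvd_of_pow_eq_one h1
  have d2 := orderOf_dvd_of_pow_eq_one h2
  have d3 : orderOf x ∣ Nat.gcd p q := Nat.dvd_gcd d1 d2
  rw [(Nat.coprime_primes hp hq).2 hpq] at d3
  exact orderOf_eq_one_iff.1 (Nat.dvd_one.1 d3)

theorem mem_of_sset (S : Setting G Ω H) (ω₀ : Ω) (p q : ℕ) [Fact p.Prime] [Fact q.Prime]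
    (hpq : p ≠ q) (hKp : (univ.filter (fun x : H => x ^ p = 1)).card = p)
    (hKq : (univ.filter (fun x : H => x ^ q = 1)).card = q)
    (T : Finset H) (hT : IsSSet S T) (hne : T.Nonempty) (h1 : (1 : H) ∉ T)
    (z : H) (hz : z ^ q = 1) (hz1 : z ≠ 1) : z ∈ T := by
  have hp : p.Prime := Fact.out
  have hq : q.Prime := Fact.out
  -- Step 1
  have step1 : ∃ x ∈ T, x ^ p = 1 := by
    by_contra hcon
    push Not at hcon
    obtain ⟨x₀, hx₀1, hx₀p⟩ := exists_ne_one_of_card p hp hKp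
    apply hx₀1
    apply stab_trivial S ω₀ T hT hne h1 x₀
    intro y
    constructor
    · intro hy
      exact coset_subset S ω₀ p hKp T hT y hy (hcon y hy) x₀ hx₀p
    · intro hy
      have := coset_subset S ω₀ p hKp T hT (y * x₀) hy (hcon _ hy) x₀⁻¹ (by
        rw [inv_pow, hx₀p, inv_one])
      rwa [mul_inv_cancel_right] at this
  obtain ⟨x, hxT, hxp⟩ := step1
  have hx1 : x ≠ 1 := fun h => h1 (h ▸ hxT)
  have hxq : x ^ q ≠ 1 := fun h => hx1 (eq_one_of_pow_pow hp hq hpq x hxp h)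
  have hxz : x * z ∈ T := coset_subset S ω₀ q hKq T hT x hxT hxq z hz
  have hzp : z ^ p ≠ 1 := fun h => hz1 (eq_one_of_pow_pow hp hq hpq z h hz)
  have hxzp : (x * z) ^ p ≠ 1 := by
    rw [(show Commute x z from S.comm _ _).mul_pow, hxp, one_mul]; exact hzp
  have := coset_subset S ω₀ p hKp T hT (x * z) hxz hxzp x⁻¹ (by rw [inv_pow, hxp, inv_one])
  rwa [S.comm x z, mul_inv_cancel_right] at this

/-- **Schur's theorem** (case of two prime divisors with cyclic Sylow subgroups). -/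
theorem two_transitive (S : Setting G Ω H) (p q : ℕ) [Fact p.Prime] [Fact q.Prime]
    (hpq : p ≠ q) (hKp : (univ.filter (fun x : H => x ^ p = 1)).card = p)
    (hKq : (univ.filter (fun x : H => x ^ q = 1)).card = q) :
    IsMultiplyPretransitive G Ω 2 := by
  classical
  rw [is_two_pretransitive_iff]
  intro a b c d hab hcd
  have hq : q.Prime := Fact.out
  obtain ⟨z, hz1, hzq⟩ := exists_ne_one_of_card q hq hKq
  have key : ∀ a' b' : Ω, a' ≠ b' → ∃ g : G, g • a' = a ∧ g • b' = z • a := by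
    intro a' b' hab'
    have hO : ∀ (g : G) (α β : Ω), (∃ g' : G, g' • a' = α ∧ g' • b' = β) →
        (∃ g' : G, g' • a' = g • α ∧ g' • b' = g • β) := by
      rintro g α β ⟨g', h1, h2⟩
      exact ⟨g * g', by rw [mul_smul, h1], by rw [mul_smul, h2]⟩
    have hT := isSSet_ofRel S (fun α β => ∃ g' : G, g' • a' = α ∧ g' • b' = β) hO a
    have hm := mem_ofRel S (fun α β => ∃ g' : G, g' • a' = α ∧ g' • b' = β) hO a
    have hne : (univ.filter (fun h : H => ∃ g' : G, g' • a' = a ∧ g' • b' = h • a)).Nonempty :=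
      ⟨dl S a' b', (hm a' b').2 ⟨1, one_smul _ _, one_smul _ _⟩⟩
    have h1 : (1 : H) ∉ univ.filter (fun h : H => ∃ g' : G, g' • a' = a ∧ g' • b' = h • a) := by
      intro h
      rw [← dl_self S a, hm] at h
      obtain ⟨g', h2, h3⟩ := h
      exact hab' (smul_left_cancel g' (h2.trans h3.symm))
    have := mem_of_sset S a p q hpq hKp hKq _ hT hne h1 z hzq hz1
    exact (mem_filter.1 this).2
  obtain ⟨g₁, h1, h2⟩ := key a b hab
  obtain ⟨g₂, h3, h4⟩ := key c d hcd
  refine ⟨g₂⁻¹ * g₁, ?_, ?_⟩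
  · rw [mul_smul, h1, inv_smul_eq_iff, h3]
  · rw [mul_smul, h2, inv_smul_eq_iff, h4]

end Cfsg.Agent.Lib.Helper8.SRing
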