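import Mathlib
import Cfsg.Agent.Lib.Helper8.SRingA
import Cfsg.Agent.Lib.Helper8.SRingB
import Cfsg.Agent.Lib.Helper8.SRingC

/-!
# Schur's theorem: regular abelian subgroup with a cyclic Sylow subgroup (helper8, for S3972)

If `H` has exactly `p` solutions of `x ^ p = 1` and some `h` with `h ^ p ≠ 1`, then the primitive
group `G` is doubly transitive (`two_transitive'`).
-/

set_option autoImplicit false
set_option linter.unusedSectionVars false

namespace Cfsg.Agent.Lib.Helper8.SRing

open MulAction Finset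

variable {G Ω H : Type*} [Group G] [MulAction G Ω] [Group H] [MulAction H Ω]
  [Fintype Ω] [DecidableEq Ω] [Fintype H] [DecidableEq H]

/-- a non-trivial S-set is not contained in a proper subgroup -/
theorem sset_in_subgroup (S : Setting G Ω H) (ω₀ : Ω) (T : Finset H) (hT : IsSSet S T)
    (L : Subgroup H) (hTL : ∀ t ∈ T, t ∈ L) (hL : ∃ h : H, h ∉ L) (t : H) (ht : t ∈ T)
    (ht1 : t ≠ 1) : False := by
  have hr := Relation.EqvGen.is_equivalence (fun α β : Ω => dl S α β ∈ T)
  have hinv : ∀ (g : G) (α β : Ω), Relation.EqvGen (fun α β : Ω => dl S α β ∈ T) α β →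
      Relation.EqvGen (fun α β : Ω => dl S α β ∈ T) (g • α) (g • β) := by
    intro g α β h
    induction h with
    | rel a b hab => exact Relation.EqvGen.rel _ _ ((hT g a b).2 hab)
    | refl a => exact Relation.EqvGen.refl _
    | symm a b _ ih => exact Relation.EqvGen.symm _ _ ih
    | trans a b c _ _ ih1 ih2 => exact Relation.EqvGen.trans _ _ _ ih1 ih2
  rcases equiv_trivial S _ hr hinv with h | h
  · have h1 : Relation.EqvGen (fun α β : Ω => dl S α β ∈ T) ω₀ (t • ω₀) :=
      Relation.EqvGen.rel _ _ (by rw [dl_smul_right]; exact ht)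
    have h2 := h _ _ h1
    have h3 : t = dl S ω₀ ω₀ := eq_dl S h2.symm
    rw [dl_self] at h3
    exact ht1 h3
  · have hsub : ∀ α β : Ω, Relation.EqvGen (fun α β : Ω => dl S α β ∈ T) α β →
        dl S α β ∈ L := by
      intro α β hαβ
      induction hαβ with
      | rel a b hab => exact hTL _ hab
      | refl a => rw [dl_self]; exact L.one_mem
      | symm a b _ ih => rw [← dl_inv]; exact L.inv_mem ih
      | trans a b c _ _ ih1 ih2 => rw [← dl_mul S a b c]; exact L.mul_mem ih2 ih1
    obtain ⟨h', hh'⟩ := hL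
    apply hh'
    have := hsub ω₀ (h' • ω₀) (h _ _)
    rwa [dl_smul_right] at this

theorem isSSet_filter (S : Setting G Ω H) (P : H → Prop) [DecidablePred P]
    (hP : ∀ (g : G) (α β : Ω), P (dl S (g • α) (g • β)) ↔ P (dl S α β)) :
    IsSSet S (univ.filter P) := by
  intro g α β
  simp only [mem_filter, mem_univ, true_and]
  exact hP g α β

/-- the complement of `T ∪ {1}` -/
theorem isSSet_compl (S : Setting G Ω H) (T : Finset H) (hT : IsSSet S T) :
    IsSSet S (univ.filter (fun h : H => h ≠ 1 ∧ h ∉ T)) := by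
  apply isSSet_filter
  intro g α β
  rw [Ne, Ne, dl_eq_one_iff, dl_eq_one_iff, hT g α β, smul_left_cancel_iff]

/-- the bijection `H ≃ Ω` -/
noncomputable def orbEquiv (S : Setting G Ω H) (ω₀ : Ω) : H ≃ Ω where
  toFun u := u • ω₀
  invFun β := dl S ω₀ β
  left_inv u := dl_smul_right S ω₀ u
  right_inv β := dl_smul S ω₀ β

theorem am_mul_apply (S : Setting G Ω H) {R : Type*} [Ring R] (ω₀ : Ω) (T T' : Finset H)
    (g : H) : ((am R T : Matrix Ω Ω R) * (am R T' : Matrix Ω Ω R)) ω₀ (g • ω₀)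
      = ((T.filter (fun u => g * u⁻¹ ∈ T')).card : R) := by
  rw [Matrix.mul_apply, ← Equiv.sum_comp (orbEquiv S ω₀)]
  have h1 : ∀ u : H, (am R T : Matrix Ω Ω R) ω₀ (orbEquiv S ω₀ u) *
      (am R T' : Matrix Ω Ω R) (orbEquiv S ω₀ u) (g • ω₀)
        = if (u ∈ T ∧ g * u⁻¹ ∈ T') then 1 else 0 := by
    intro u
    change (am R T : Matrix Ω Ω R) ω₀ (u • ω₀) * (am R T' : Matrix Ω Ω R) (u • ω₀) (g • ω₀) = _
    rw [am_apply S, am_apply S, dl_smul_right, dl_smul_smul']
    by_cases h1 : u ∈ T <;> by_cases h2 : g * u⁻¹ ∈ T' <;> simp [h1, h2]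
  rw [Finset.sum_congr rfl (fun u _ => h1 u), Finset.sum_boole]
  congr 2
  ext u
  simp

theorem dvd_card_of_mul_mem (p : ℕ) [Fact p.Prime] (X : Finset H) (x₀ : H) (hx1 : x₀ ≠ 1)
    (hxp : x₀ ^ p = 1) (hX : ∀ u ∈ X, u * x₀ ∈ X) : p ∣ X.card := by
  classical
  let f : Function.End {u // u ∈ X} := fun u => ⟨u.1 * x₀, hX u.1 u.2⟩
  have hf : ∀ (k : ℕ) (u : {u // u ∈ X}), ((f ^ k) u).1 = u.1 * x₀ ^ k := by
    intro k
    induction k with
    | zero => intro u; rw [pow_zero, pow_zero, mul_one]; rfl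
    | succ k ih =>
      intro u
      rw [pow_succ]
      change ((f ^ k) (f u)).1 = _
      rw [ih]
      simp [f, pow_succ', mul_assoc]
  have hfp : f ^ p ^ 1 = 1 := by
    rw [pow_one]
    funext u
    apply Subtype.ext
    rw [hf, hxp, mul_one]
    rfl
  have h := Equiv.Perm.card_fixedPoints_modEq (p := p) (n := 1) hfp
  have h0 : Fintype.card (Function.fixedPoints f) = 0 := by
    rw [Fintype.card_eq_zero_iff]
    constructor
    rintro ⟨u, hu⟩
    have h2 : u.1 * x₀ = u.1 := congrArg Subtype.val hu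
    exact hx1 (mul_left_cancel (a := u.1) (by rw [h2, mul_one]))
  rw [h0, Fintype.card_coe] at h
  exact (Nat.modEq_zero_iff_dvd).1 h

/-- every nonempty S-set avoiding `1` contains an element of order `p` -/
theorem exists_mem_pow_eq_one (S : Setting G Ω H) (ω₀ : Ω) (p : ℕ) [Fact p.Prime]
    (hKp : (univ.filter (fun x : H => x ^ p = 1)).card = p)
    (T : Finset H) (hT : IsSSet S T) (hne : T.Nonempty) (h1 : (1 : H) ∉ T) :
    ∃ x ∈ T, x ^ p = 1 := by
  have hp : p.Prime := Fact.out
  by_contra hcon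
  push Not at hcon
  obtain ⟨x₀, hx₀1, hx₀p⟩ := exists_ne_one_of_card p hp hKp
  apply hx₀1
  apply stab_trivial S ω₀ T hT hne h1 x₀
  intro y
  constructor
  · intro hy
    exact coset_subset S ω₀ p hKp T hT y hy (hcon y hy) x₀ hx₀p
  · intro hy
    have := coset_subset S ω₀ p hKp T hT (y * x₀) hy (hcon _ hy) x₀⁻¹ (by
      rw [inv_pow, hx₀p, inv_one])
    rwa [mul_inv_cancel_right] at this

/-- the subgroup of solutions of `x ^ p = 1` -/
def torsionSub (S : Setting G Ω H) (p : ℕ) : Subgroup H where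
  carrier := {x | x ^ p = 1}
  mul_mem' := by
    intro a b ha hb
    simp only [Set.mem_ofPred_eq] at ha hb ⊢
    rw [(show Commute a b from S.comm a b).mul_pow, ha, hb, one_mul]
  one_mem' := by simp
  inv_mem' := by
    intro a ha
    simp only [Set.mem_ofPred_eq] at ha ⊢
    rw [inv_pow, ha, inv_one]

theorem mem_torsionSub (S : Setting G Ω H) (p : ℕ) (x : H) : x ∈ torsionSub S p ↔ x ^ p = 1 :=
  Iff.rfl

/-- every solution of `x ^ p = 1` is a power of a given non-identity solution -/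
theorem exists_pow_eq (p : ℕ) [Fact p.Prime]
    (hKp : (univ.filter (fun x : H => x ^ p = 1)).card = p) (v : H) (hv1 : v ≠ 1)
    (hvp : v ^ p = 1) (g : H) (hg : g ^ p = 1) : ∃ i : ℕ, v ^ i = g := by
  have hord : orderOf v = p := orderOf_eq_prime hvp hv1
  have hsub : (Finset.range p).image (fun i => v ^ i) ⊆ univ.filter (fun x : H => x ^ p = 1) := by
    intro x hx
    obtain ⟨i, _, rfl⟩ := mem_image.1 hx
    rw [mem_filter]
    refine ⟨mem_univ _, ?_⟩
    rw [← pow_mul, mul_comm, pow_mul, hvp, one_pow]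
  have hcard : ((Finset.range p).image (fun i => v ^ i)).card = p := by
    rw [Finset.card_image_of_injOn, Finset.card_range]
    intro i hi j hj hij
    simp only [Finset.coe_range, Set.mem_Iio] at hi hj
    exact pow_injOn_Iio_orderOf (by rw [hord]; exact hi) (by rw [hord]; exact hj) hij
  have heq := Finset.eq_of_subset_of_card_le hsub (by rw [hcard, hKp])
  have : g ∈ univ.filter (fun x : H => x ^ p = 1) := by
    rw [mem_filter]; exact ⟨mem_univ _, hg⟩
  rw [← heq] at this
  obtain ⟨i, _, hi⟩ := mem_image.1 this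
  exact ⟨i, hi⟩

end Cfsg.Agent.Lib.Helper8.SRing
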