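import Mathlib
import Cfsg.Agent.Lib.Helper8.SRingA
import Cfsg.Agent.Lib.Helper8.SRingB
import Cfsg.Agent.Lib.Helper8.SRingC
import Cfsg.Agent.Lib.Helper8.SRingD

/-!
# Schur's theorem: the counting argument (helper8, for S3972)
-/

set_option autoImplicit false
set_option linter.unusedSectionVars false

namespace Cfsg.Agent.Lib.Helper8.SRing

open MulAction Finset

variable {G Ω H : Type*} [Group G] [MulAction G Ω] [Group H] [MulAction H Ω]
  [Fintype Ω] [DecidableEq Ω] [Fintype H] [DecidableEq H]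

open scoped Classical in
/-- the basic set of `z`: the orbit of `z • ω₀` under the stabiliser of `ω₀`, pulled back to `H` -/
noncomputable def basic (S : Setting G Ω H) (ω₀ : Ω) (z : H) : Finset H :=
  univ.filter (fun h : H => ∃ g : G, g • ω₀ = ω₀ ∧ g • (z • ω₀) = h • ω₀)

theorem mem_basic (S : Setting G Ω H) (ω₀ : Ω) (z h : H) :
    h ∈ basic S ω₀ z ↔ ∃ g : G, g • ω₀ = ω₀ ∧ g • (z • ω₀) = h • ω₀ := by
  unfold basic
  simp only [mem_filter, mem_univ, true_and]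

theorem isSSet_basic (S : Setting G Ω H) (ω₀ : Ω) (z : H) : IsSSet S (basic S ω₀ z) := by
  classical
  have hO : ∀ (g : G) (α β : Ω), (∃ g' : G, g' • ω₀ = α ∧ g' • (z • ω₀) = β) →
      (∃ g' : G, g' • ω₀ = g • α ∧ g' • (z • ω₀) = g • β) := by
    rintro g α β ⟨g', h1, h2⟩
    exact ⟨g * g', by rw [mul_smul, h1], by rw [mul_smul, h2]⟩
  have := isSSet_ofRel S (fun α β => ∃ g' : G, g' • ω₀ = α ∧ g' • (z • ω₀) = β) hO ω₀
  intro g α β
  rw [mem_basic, mem_basic]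
  have h := this g α β
  simp only [mem_filter, mem_univ, true_and] at h
  exact h

theorem self_mem_basic (S : Setting G Ω H) (ω₀ : Ω) (z : H) : z ∈ basic S ω₀ z := by
  rw [mem_basic]; exact ⟨1, one_smul _ _, one_smul _ _⟩

theorem one_notMem_basic (S : Setting G Ω H) (ω₀ : Ω) (z : H) (hz : z ≠ 1) :
    (1 : H) ∉ basic S ω₀ z := by
  rw [mem_basic]
  rintro ⟨g, h1, h2⟩
  rw [one_smul] at h2
  have h3 : z • ω₀ = ω₀ := smul_left_cancel g (h2.trans h1.symm)
  have h4 : z = dl S ω₀ ω₀ := eq_dl S h3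
  rw [dl_self] at h4
  exact hz h4

theorem inv_const (S : Setting G Ω H) {R : Type*} (ω₀ : Ω) (z h : H) (hh : h ∈ basic S ω₀ z)
    (M : Matrix Ω Ω R) (hM : IsInv G M) : M ω₀ (h • ω₀) = M ω₀ (z • ω₀) := by
  rw [mem_basic] at hh
  obtain ⟨g, h1, h2⟩ := hh
  have := hM g ω₀ (z • ω₀)
  rw [h1, h2] at this
  exact this

section count
variable (S : Setting G Ω H) (ω₀ : Ω) (p : ℕ) [Fact p.Prime]
  (hKp : (univ.filter (fun x : H => x ^ p = 1)).card = p)
  (T T' : Finset H) (hT : IsSSet S T) (hT' : IsSSet S T') (hdisj : ∀ u ∈ T, u ∉ T')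

include ω₀ hKp hT hT' hdisj

/-- Claim A -/
theorem count_A (g : H) (hg : g ∈ T) (hgp : g ^ p ≠ 1) :
    (T.filter (fun u => g * u⁻¹ ∈ T')).card ≡ (T'.filter (fun v => v ^ p = 1)).card [MOD p] := by
  have hp : p.Prime := Fact.out
  obtain ⟨x₀, hx₀1, hx₀p⟩ := exists_ne_one_of_card p hp hKp
  have hsplit := Finset.card_filter_add_card_filter_not (s := T.filter (fun u => g * u⁻¹ ∈ T'))
    (fun u => (g * u⁻¹) ^ p = 1)
  -- first part: bijection with `T' ∩ K`
  have h1 : ((T.filter (fun u => g * u⁻¹ ∈ T')).filter (fun u => (g * u⁻¹) ^ p = 1)).card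
      = (T'.filter (fun v => v ^ p = 1)).card := by
    refine Finset.card_nbij' (fun u => g * u⁻¹) (fun v => v⁻¹ * g) ?_ ?_ ?_ ?_
    · intro u hu
      simp only [coe_filter, mem_filter, Set.mem_ofPred_eq] at hu ⊢
      exact ⟨hu.1.2, hu.2⟩
    · intro v hv
      simp only [coe_filter, mem_filter, Set.mem_ofPred_eq] at hv ⊢
      have e : g * (v⁻¹ * g)⁻¹ = v := by rw [mul_inv_rev, inv_inv, mul_inv_cancel_left]
      refine ⟨⟨?_, ?_⟩, ?_⟩
      · rw [S.comm v⁻¹ g]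
        exact coset_subset S ω₀ p hKp T hT g hg hgp v⁻¹ (by rw [inv_pow, hv.2, inv_one])
      · rw [e]; exact hv.1
      · rw [e]; exact hv.2
    · intro u _
      simp only [mul_inv_rev, inv_inv, inv_mul_cancel_right]
    · intro v _
      simp only [mul_inv_rev, inv_inv, mul_inv_cancel_left]
  -- second part: invariant under `x₀`
  have h2 : p ∣ ((T.filter (fun u => g * u⁻¹ ∈ T')).filter
      (fun u => ¬ (g * u⁻¹) ^ p = 1)).card := by
    apply dvd_card_of_mul_mem p _ x₀ hx₀1 hx₀p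
    intro u hu
    simp only [mem_filter] at hu ⊢
    obtain ⟨⟨huT, huT'⟩, hup⟩ := hu
    have hup' : u ^ p ≠ 1 := by
      intro h
      have := coset_subset S ω₀ p hKp T hT g hg hgp u⁻¹ (by rw [inv_pow, h, inv_one])
      exact hdisj _ this huT'
    have e : g * (u * x₀)⁻¹ = g * u⁻¹ * x₀⁻¹ := by
      rw [mul_inv_rev, S.comm x₀⁻¹ u⁻¹, mul_assoc]
    refine ⟨⟨coset_subset S ω₀ p hKp T hT u huT hup' x₀ hx₀p, ?_⟩, ?_⟩
    · rw [e]
      exact coset_subset S ω₀ p hKp T' hT' _ huT' hup x₀⁻¹ (by rw [inv_pow, hx₀p, inv_one])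
    · rw [e, (show Commute (g * u⁻¹) x₀⁻¹ from S.comm _ _).mul_pow, inv_pow, hx₀p, inv_one,
        mul_one]
      exact hup
  rw [h1] at hsplit
  obtain ⟨k, hk⟩ := h2
  rw [hk] at hsplit
  rw [← hsplit]
  exact Nat.add_mul_mod_self_left _ _ _

/-- Claim B -/
theorem count_B (g : H) (hgp : g ^ p = 1) :
    (T.filter (fun u => g * u⁻¹ ∈ T')).card
      ≡ (T.filter (fun u => u ^ p = 1 ∧ g * u⁻¹ ∈ T')).card [MOD p] := by
  have hp : p.Prime := Fact.out
  obtain ⟨x₀, hx₀1, hx₀p⟩ := exists_ne_one_of_card p hp hKp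
  have hsplit := Finset.card_filter_add_card_filter_not (s := T.filter (fun u => g * u⁻¹ ∈ T'))
    (fun u => u ^ p = 1)
  have h1 : (T.filter (fun u => g * u⁻¹ ∈ T')).filter (fun u => u ^ p = 1)
      = T.filter (fun u => u ^ p = 1 ∧ g * u⁻¹ ∈ T') := by
    rw [Finset.filter_filter]
    apply Finset.filter_congr
    intro u _
    exact and_comm
  have h2 : p ∣ ((T.filter (fun u => g * u⁻¹ ∈ T')).filter (fun u => ¬ u ^ p = 1)).card := by
    apply dvd_card_of_mul_mem p _ x₀ hx₀1 hx₀p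
    intro u hu
    simp only [mem_filter] at hu ⊢
    obtain ⟨⟨huT, huT'⟩, hup⟩ := hu
    have e : g * (u * x₀)⁻¹ = g * u⁻¹ * x₀⁻¹ := by
      rw [mul_inv_rev, S.comm x₀⁻¹ u⁻¹, mul_assoc]
    have hgu : (g * u⁻¹) ^ p ≠ 1 := by
      rw [(show Commute g u⁻¹ from S.comm _ _).mul_pow, hgp, one_mul, inv_pow]
      intro h
      exact hup (inv_eq_one.1 h)
    refine ⟨⟨coset_subset S ω₀ p hKp T hT u huT hup x₀ hx₀p, ?_⟩, ?_⟩
    · rw [e]
      exact coset_subset S ω₀ p hKp T' hT' _ huT' hgu x₀⁻¹ (by rw [inv_pow, hx₀p, inv_one])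
    · rw [(show Commute u x₀ from S.comm _ _).mul_pow, hx₀p, mul_one]
      exact hup
  rw [h1] at hsplit
  obtain ⟨k, hk⟩ := h2
  rw [hk] at hsplit
  rw [← hsplit]
  exact Nat.add_mul_mod_self_left _ _ _

end count

end Cfsg.Agent.Lib.Helper8.SRing
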