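import Mathlib
import Cfsg.Agent.Lib.Helper8.SRingA
import Cfsg.Agent.Lib.Helper8.SRingB
import Cfsg.Agent.Lib.Helper8.SRingC
import Cfsg.Agent.Lib.Helper8.SRingD
import Cfsg.Agent.Lib.Helper8.SRingE

/-!
# Schur's theorem: regular abelian subgroup with a cyclic Sylow subgroup (helper8, for S3972)
-/

set_option autoImplicit false
set_option linter.unusedSectionVars false

namespace Cfsg.Agent.Lib.Helper8.SRing

open MulAction Finset

variable {G Ω H : Type*} [Group G] [MulAction G Ω] [Group H] [MulAction H Ω]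
  [Fintype Ω] [DecidableEq Ω] [Fintype H] [DecidableEq H]

/-- two disjoint nonempty S-sets avoiding `1`, one of them basic, cannot exist -/
theorem key (S : Setting G Ω H) (ω₀ : Ω) (p : ℕ) [Fact p.Prime]
    (hKp : (univ.filter (fun x : H => x ^ p = 1)).card = p) (hproper : ∃ h : H, h ^ p ≠ 1)
    (z : H) (hz : z ≠ 1) (T' : Finset H) (hT' : IsSSet S T')
    (hdisj : ∀ u ∈ basic S ω₀ z, u ∉ T') (h1T' : (1 : H) ∉ T') (hne' : T'.Nonempty) : False := by
  have hp : p.Prime := Fact.out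
  set T := basic S ω₀ z with hTdef
  have hT : IsSSet S T := isSSet_basic S ω₀ z
  have h1T : (1 : H) ∉ T := one_notMem_basic S ω₀ z hz
  have hneT : T.Nonempty := ⟨z, self_mem_basic S ω₀ z⟩
  -- elements
  obtain ⟨v, hvT', hvp⟩ := exists_mem_pow_eq_one S ω₀ p hKp T' hT' hne' h1T'
  have hv1 : v ≠ 1 := fun h => h1T' (h ▸ hvT')
  obtain ⟨g₂, hg₂T, hg₂p⟩ : ∃ g₂ ∈ T, g₂ ^ p ≠ 1 := by
    by_contra hcon
    push Not at hcon
    obtain ⟨h', hh'⟩ := hproper
    exact sset_in_subgroup S ω₀ T hT (torsionSub S p) (fun t ht => hcon t ht) ⟨h', hh'⟩ z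
      (self_mem_basic S ω₀ z) hz
  -- the congruence
  have hcong : ∀ g₁ ∈ T, g₁ ^ p = 1 →
      (T.filter (fun u => u ^ p = 1 ∧ g₁ * u⁻¹ ∈ T')).card = (T'.filter (fun v => v ^ p = 1)).card := by
    intro g₁ hg₁T hg₁p
    have hM : IsInv G ((am (ZMod p) T : Matrix Ω Ω (ZMod p)) * (am (ZMod p) T' : Matrix Ω Ω (ZMod p))) :=
      (am_isInv S T hT).mul (am_isInv S T' hT')
    have e1 := inv_const S ω₀ z g₁ hg₁T _ hM
    have e2 := inv_const S ω₀ z g₂ hg₂T _ hM
    rw [am_mul_apply S] at e1 e2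
    rw [am_mul_apply S] at e1 e2
    have e3 : ((T.filter (fun u => g₁ * u⁻¹ ∈ T')).card : ZMod p)
        = ((T.filter (fun u => g₂ * u⁻¹ ∈ T')).card : ZMod p) := e1.trans e2.symm
    have e4 := (ZMod.natCast_eq_natCast_iff _ _ _).1 e3
    have e5 := count_A S ω₀ p hKp T T' hT hT' hdisj g₂ hg₂T hg₂p
    have e6 := count_B S ω₀ p hKp T T' hT hT' hdisj g₁ hg₁p
    have e7 : (T.filter (fun u => u ^ p = 1 ∧ g₁ * u⁻¹ ∈ T')).card
        ≡ (T'.filter (fun v => v ^ p = 1)).card [MOD p] := (e6.symm.trans e4).trans e5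
    have hlt : (T'.filter (fun v => v ^ p = 1)).card < p := by
      have hsub : T'.filter (fun v => v ^ p = 1) ⊆ (univ.filter (fun x : H => x ^ p = 1)).erase 1 := by
        intro x hx
        rw [mem_filter] at hx
        rw [mem_erase, mem_filter]
        exact ⟨fun h => h1T' (h ▸ hx.1), mem_univ _, hx.2⟩
      have := Finset.card_le_card hsub
      rw [Finset.card_erase_of_mem (by rw [mem_filter]; exact ⟨mem_univ _, one_pow _⟩), hKp] at this
      have := hp.pos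
      omega
    have hle : (T.filter (fun u => u ^ p = 1 ∧ g₁ * u⁻¹ ∈ T')).card
        ≤ (T'.filter (fun v => v ^ p = 1)).card := by
      apply Finset.card_le_card_of_injOn (fun u => g₁ * u⁻¹)
      · intro u hu
        simp only [coe_filter, mem_filter, Set.mem_ofPred_eq] at hu ⊢
        refine ⟨hu.2.2, ?_⟩
        rw [(show Commute g₁ u⁻¹ from S.comm _ _).mul_pow, hg₁p, inv_pow, hu.2.1, inv_one, one_mul]
      · intro u _ u' _ h
        exact inv_injective (mul_left_cancel h)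
    exact e7.eq_of_lt_of_lt (lt_of_le_of_lt hle hlt) hlt
  -- consequence: `g₁ * v⁻¹ ∈ T`
  have hstep : ∀ g₁ ∈ T, g₁ ^ p = 1 → g₁ * v⁻¹ ∈ T := by
    intro g₁ hg₁T hg₁p
    have himg : (T.filter (fun u => u ^ p = 1 ∧ g₁ * u⁻¹ ∈ T')).image (fun u => g₁ * u⁻¹)
        = T'.filter (fun v => v ^ p = 1) := by
      apply Finset.eq_of_subset_of_card_le
      · intro x hx
        obtain ⟨u, hu, rfl⟩ := mem_image.1 hx
        rw [mem_filter] at hu ⊢
        refine ⟨hu.2.2, ?_⟩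
        rw [(show Commute g₁ u⁻¹ from S.comm _ _).mul_pow, hg₁p, inv_pow, hu.2.1, inv_one, one_mul]
      · rw [Finset.card_image_of_injective _ (fun u u' h => inv_injective (mul_left_cancel h)),
          hcong g₁ hg₁T hg₁p]
    have hv : v ∈ T'.filter (fun v => v ^ p = 1) := by
      rw [mem_filter]; exact ⟨hvT', hvp⟩
    rw [← himg] at hv
    obtain ⟨u, hu, huv⟩ := mem_image.1 hv
    rw [mem_filter] at hu
    have : g₁ * v⁻¹ = u := by
      rw [← huv, mul_inv_rev, inv_inv, S.comm u g₁⁻¹, mul_inv_cancel_left]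
    rw [this]; exact hu.1
  -- iterate
  obtain ⟨g₁, hg₁T, hg₁p⟩ := exists_mem_pow_eq_one S ω₀ p hKp T hT hneT h1T
  have hiter : ∀ i : ℕ, g₁ * (v⁻¹) ^ i ∈ T ∧ (g₁ * (v⁻¹) ^ i) ^ p = 1 := by
    intro i
    induction i with
    | zero => simpa using ⟨hg₁T, hg₁p⟩
    | succ i ih =>
      have e : g₁ * (v⁻¹) ^ (i + 1) = g₁ * (v⁻¹) ^ i * v⁻¹ := by rw [pow_succ, mul_assoc]
      rw [e]
      refine ⟨hstep _ ih.1 ih.2, ?_⟩
      rw [(show Commute (g₁ * (v⁻¹) ^ i) v⁻¹ from S.comm _ _).mul_pow, ih.2, inv_pow, hvp,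
        inv_one, one_mul]
  obtain ⟨i, hi⟩ := exists_pow_eq p hKp v hv1 hvp g₁ hg₁p
  have := (hiter i).1
  rw [inv_pow, hi, mul_inv_cancel] at this
  exact h1T this

/-- **Schur's theorem** (cyclic Sylow `p`-subgroup, `H` not of order `p`). -/
theorem two_transitive' (S : Setting G Ω H) (ω₀ : Ω) (p : ℕ) [Fact p.Prime]
    (hKp : (univ.filter (fun x : H => x ^ p = 1)).card = p) (hproper : ∃ h : H, h ^ p ≠ 1) :
    IsMultiplyPretransitive G Ω 2 := by
  have := S.prim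
  -- every non-identity element lies in every basic set
  have hall : ∀ z : H, z ≠ 1 → ∀ z' : H, z' ≠ 1 → z' ∈ basic S ω₀ z := by
    intro z hz z' hz'
    by_contra hcon
    refine key S ω₀ p hKp hproper z hz (univ.filter (fun h : H => h ≠ 1 ∧ h ∉ basic S ω₀ z))
      (isSSet_compl S _ (isSSet_basic S ω₀ z)) ?_ ?_ ⟨z', ?_⟩
    · intro u hu hu'
      exact (mem_filter.1 hu').2.2 hu
    · intro h
      exact (mem_filter.1 h).2.1 rfl
    · rw [mem_filter]; exact ⟨mem_univ _, hz', hcon⟩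
  rw [is_two_pretransitive_iff]
  intro a b c d hab hcd
  -- move `a` and `c` to `ω₀`
  obtain ⟨g₁, hg₁⟩ := exists_smul_eq G a ω₀
  obtain ⟨g₂, hg₂⟩ := exists_smul_eq G c ω₀
  have hz : dl S ω₀ (g₁ • b) ≠ 1 := by
    rw [Ne, dl_eq_one_iff, ← hg₁]
    exact fun h => hab (smul_left_cancel g₁ h)
  have hz' : dl S ω₀ (g₂ • d) ≠ 1 := by
    rw [Ne, dl_eq_one_iff, ← hg₂]
    exact fun h => hcd (smul_left_cancel g₂ h)
  have := hall _ hz _ hz'
  rw [mem_basic] at this
  obtain ⟨g, h1, h2⟩ := this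
  rw [dl_smul, dl_smul] at h2
  refine ⟨g₂⁻¹ * g * g₁, ?_, ?_⟩
  · rw [mul_smul, mul_smul, hg₁, h1, inv_smul_eq_iff, hg₂]
  · rw [mul_smul, mul_smul, h2, inv_smul_smul]

end Cfsg.Agent.Lib.Helper8.SRing
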