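import Mathlib

/-!
# Auxiliary lemmas for S3972 (helper8): full cycles, cyclic `p`-groups, kernels of block systems
-/

set_option autoImplicit false

namespace Cfsg.Agent.Lib.Helper8.SRing

open MulAction Pointwise

/-- a permutation of `p ^ m` points of order `p ^ m` is a full cycle -/
theorem full_cycle_of_orderOf {Ω : Type*} [Fintype Ω] [DecidableEq Ω] (p m : ℕ) (hp : p.Prime)
    (hm : 1 ≤ m) (hΩ : Fintype.card Ω = p ^ m) (σ : Equiv.Perm Ω) (hσ : orderOf σ = p ^ m) :
    σ.IsCycle ∧ σ.support = Finset.univ := by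
  have h1 : σ.cycleType.lcm = p ^ m := by rw [Equiv.Perm.lcm_cycleType, hσ]
  have h2 : ∃ a ∈ σ.cycleType, a = p ^ m := by
    by_contra hcon
    push Not at hcon
    have h3 : σ.cycleType.lcm ∣ p ^ (m - 1) := by
      apply Multiset.lcm_dvd.2
      intro a ha
      have ha1 : a ∣ p ^ m := by rw [← h1]; exact Multiset.dvd_lcm ha
      obtain ⟨k, hk, rfl⟩ := (Nat.dvd_prime_pow hp).1 ha1
      have hk' : k ≠ m := fun h => hcon _ ha (by rw [h])
      exact pow_dvd_pow p (by omega)
    rw [h1] at h3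
    have := (Nat.pow_dvd_pow_iff_le_right hp.one_lt).1 h3
    omega
  obtain ⟨a, ha, rfl⟩ := h2
  obtain ⟨rest, hrest⟩ := Multiset.exists_cons_of_mem ha
  have h4 : σ.cycleType.sum ≤ Fintype.card Ω := Equiv.Perm.sum_cycleType_le σ
  rw [hrest, Multiset.sum_cons, hΩ] at h4
  have h5 : rest = 0 := by
    by_contra hne
    obtain ⟨b, hb⟩ := Multiset.exists_mem_of_ne_zero hne
    have hb2 : 2 ≤ b := Equiv.Perm.two_le_of_mem_cycleType (by rw [hrest]; exact Multiset.mem_cons_of_mem hb)
    have : b ≤ rest.sum := Multiset.le_sum_of_mem hb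
    omega
  rw [h5] at hrest
  have h6 : σ.IsCycle := by
    rw [← Equiv.Perm.card_cycleType_eq_one, hrest]; simp
  refine ⟨h6, ?_⟩
  apply Finset.eq_univ_of_card
  rw [← Equiv.Perm.sum_cycleType, hrest, hΩ]; simp

/-- in a cyclic group of order `p ^ m`, every non-trivial element has `g ^ (p ^ (m - 1))` among
its powers -/
theorem exists_pow_eq_of_cyclic_p {G : Type*} [Group G] (g : G) (p m : ℕ) (hp : p.Prime)
    (hm : 1 ≤ m) (hg : orderOf g = p ^ m) (i : ℕ) (hi : g ^ i ≠ 1) :
    ∃ k : ℕ, (g ^ i) ^ k = g ^ (p ^ (m - 1)) := by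
  have hdvd : ¬ p ^ m ∣ i := by
    intro h
    apply hi
    rw [← hg] at h
    exact orderOf_dvd_iff_pow_eq_one.1 h
  have hgcd : Nat.gcd i (p ^ m) ∣ p ^ m := Nat.gcd_dvd_right _ _
  obtain ⟨e, he, hge⟩ := (Nat.dvd_prime_pow hp).1 hgcd
  have hem : e < m := by
    rcases Nat.lt_or_ge e m with h | h
    · exact h
    · exfalso
      have : e = m := le_antisymm he h
      rw [this] at hge
      exact hdvd (hge ▸ Nat.gcd_dvd_left _ _)
  have hlt : Nat.gcd i (p ^ m) < p ^ m := by
    rw [hge]; exact Nat.pow_lt_pow_right hp.one_lt hem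
  obtain ⟨k', _, hk'⟩ := Nat.exists_mul_mod_eq_gcd hlt
  refine ⟨k' * p ^ (m - 1 - e), ?_⟩
  have h1 : (g ^ i) ^ k' = g ^ (p ^ e) := by
    rw [← pow_mul, ← pow_mod_orderOf, hg, hk', hge]
  rw [pow_mul, h1, ← pow_mul, ← pow_add]
  congr 2
  omega

/-- an element fixing all translates of a proper non-empty block has intransitive normal closure -/
theorem normalClosure_not_pretransitive {G Ω : Type*} [Group G] [MulAction G Ω] (B : Set Ω)
    (x₀ : G) (hx₀ : ∀ g' : G, x₀ • (g' • B) = g' • B) (α β : Ω) (hα : α ∈ B) (hβ : β ∉ B) :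
    ¬ IsPretransitive (Subgroup.normalClosure ({x₀} : Set G)) Ω := by
  intro htr
  let M : Subgroup G :=
    { carrier := {n | ∀ g' : G, n • (g' • B) = g' • B}
      mul_mem' := by
        intro a b ha hb g'
        rw [mul_smul, hb g', ha g']
      one_mem' := by intro g'; rw [one_smul]
      inv_mem' := by
        intro a ha g'
        rw [inv_smul_eq_iff, ha g'] }
  have hMn : M.Normal := by
    constructor
    intro n hn h g'
    have := hn (h⁻¹ * g')
    rw [mul_smul, mul_smul, smul_smul h⁻¹ g', this, ← smul_smul, smul_inv_smul]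
  have hle : Subgroup.normalClosure ({x₀} : Set G) ≤ M :=
    Subgroup.normalClosure_le_normal (by
      intro x hx
      rw [Set.mem_singleton_iff] at hx
      rw [hx]
      exact hx₀)
  obtain ⟨n, hn⟩ := htr.exists_smul_eq α β
  have h1 := hle n.2 1
  rw [one_smul] at h1
  apply hβ
  rw [← hn, ← h1]
  exact Set.smul_mem_smul_set hα

/-- a transitive imprimitive action has a non-trivial block -/
theorem exists_nontrivial_block {G Ω : Type*} [Group G] [MulAction G Ω]
    (htr : IsPretransitive G Ω) (hprim : ¬ IsPreprimitive G Ω) :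
    ∃ B : Set Ω, IsBlock G B ∧ ¬ IsTrivialBlock B := by
  by_contra hcon
  push Not at hcon
  exact hprim { toIsPretransitive := htr, isTrivialBlock_of_isBlock := fun {B} hB => hcon B hB }

theorem smul_pow_set_eq {G Ω : Type*} [Group G] [MulAction G Ω] (B : Set Ω) (y : G)
    (hy : y • B = B) (k : ℕ) : y ^ k • B = B := by
  induction k with
  | zero => rw [pow_zero, one_smul]
  | succ k ih => rw [pow_succ, mul_smul, hy, ih]

end Cfsg.Agent.Lib.Helper8.SRing
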