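import Mathlib
import Cfsg.Agent.S0283

/-!
# Transvections in unitary groups: classification and conjugacy (helper8)

* `transvection_form`: an isometry `g` with `g - 1` of rank one and square zero is a unitary
  transvection `ut u z` with `u ≠ 0` isotropic and `z ≠ 0` of trace zero.
* `exists_torus3`: for a hyperbolic pair `(u,v)` and `c ≠ 0` there is `g ∈ SUf f` with `g u = c u`
  (`n ≥ 3`).
* `conj_ut_any`: any two nontrivial unitary transvections are conjugate in `SUf f` (`n ≥ 3`).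
-/

set_option autoImplicit false

namespace Cfsg.Agent.Lib.Helper8.SUConj

open Cfsg Matrix Cfsg.Agent.S5631 Cfsg.Agent.S5643 Cfsg.Agent.Lib.Helper8.Unitary
  Cfsg.Agent.Lib.Helper8.SUGen Cfsg.Agent.Lib.Helper8.SUMax

variable {n : ℕ} {F : Type*} [Field F] {σ : F ≃+* F} {f : (Fin n → F) → (Fin n → F) → F}
variable (hf : Cfsg.Geo.IsUnitaryForm σ f)
include hf

/-- classification of transvections among isometries -/
lemma transvection_form (g : GL (Fin n) F)
    (hiso : ∀ x y, f ((g : Matrix (Fin n) (Fin n) F) *ᵥ x) ((g : Matrix (Fin n) (Fin n) F) *ᵥ y) = f x y)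
    (hrank : ((g : Matrix (Fin n) (Fin n) F) - 1).rank = 1)
    (hsq : ((g : Matrix (Fin n) (Fin n) F) - 1) * ((g : Matrix (Fin n) (Fin n) F) - 1) = 0) :
    ∃ (u : Fin n → F) (hu : f u u = 0) (z : F), u ≠ 0 ∧ z ≠ 0 ∧ z + σ z = 0 ∧ g = ut hf u hu z := by
  set A := (g : Matrix (Fin n) (Fin n) F) - 1 with hA
  have hg : ∀ x, (g : Matrix (Fin n) (Fin n) F) *ᵥ x = x + A *ᵥ x := by
    intro x
    rw [hA, Matrix.sub_mulVec, Matrix.one_mulVec]; abel
  have h1 : Module.finrank F (LinearMap.range A.mulVecLin) = 1 := hrank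
  obtain ⟨⟨a, ha⟩, ha0, hspan⟩ := finrank_eq_one_iff'.1 h1
  have ha0' : a ≠ 0 := fun h => ha0 (Subtype.ext h)
  obtain ⟨y₀, hy₀⟩ := ha
  have hy₀' : A *ᵥ y₀ = a := hy₀
  have hc : ∀ x, ∃ c : F, A *ᵥ x = c • a := by
    intro x
    obtain ⟨c, hc⟩ := hspan ⟨A *ᵥ x, ⟨x, rfl⟩⟩
    exact ⟨c, (congrArg Subtype.val hc).symm⟩
  have hAa : A *ᵥ a = 0 := by
    rw [← hy₀', Matrix.mulVec_mulVec, hsq, Matrix.zero_mulVec]
  -- the isometry relation
  have hE : ∀ x y, f (A *ᵥ x) y + f x (A *ᵥ y) + f (A *ᵥ x) (A *ᵥ y) = 0 := by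
    intro x y
    have := hiso x y
    rw [hg, hg, hf.add_left, f_add_right hf, f_add_right hf] at this
    linear_combination this
  have haa : f a a = 0 := by
    have := hE y₀ a
    rw [hAa, f_zero_right hf, f_zero_right hf, hy₀'] at this
    linear_combination this
  set κ := f a y₀ with hκ
  have hκtr : κ + σ κ = 0 := by
    have := hE y₀ y₀
    rw [hy₀', haa, ← hκ, hf.herm y₀ a, ← hκ] at this
    linear_combination this
  have hform : ∀ x, ∀ c : F, A *ᵥ x = c • a → c * κ = - f x a := by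
    intro x c hx
    have := hE x y₀
    rw [hy₀', hx, hf.smul_left, hf.smul_left, haa, ← hκ] at this
    linear_combination this
  have hκ0 : κ ≠ 0 := by
    intro h0
    apply ha0'
    apply eq_zero_of_forall hf
    intro x
    obtain ⟨c, hx⟩ := hc x
    have := hform x c hx
    rw [h0, mul_zero, eq_comm, neg_eq_zero] at this
    exact this
  have hσκ0 : σ κ ≠ 0 := by rw [Ne, map_eq_zero]; exact hκ0
  have hκinv : (-κ⁻¹) + σ (-κ⁻¹) = 0 := Z_neg _ (Z_inv κ hκtr)
  refine ⟨a, haa, σ (-κ⁻¹), ha0', ?_, Z_sigma hf.involutive _ hκinv, ?_⟩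
  · rw [Ne, map_eq_zero, neg_eq_zero]; exact inv_ne_zero hκ0
  · apply GL_ext
    intro x
    rw [hg, ut_mulVec, hf.involutive]
    obtain ⟨c, hx⟩ := hc x
    rw [hx]
    congr 2
    have := hform x c hx
    field_simp
    linear_combination this

/-- the dilation-type matrix `x ↦ x + e f(x,y) a` -/
noncomputable def dl (a y : Fin n → F) (e : F) : Matrix (Fin n) (Fin n) F :=
  tvM (e • a) (flatU f y)

omit hf in
lemma dl_def (a y : Fin n → F) (e : F) : dl (f := f) a y e = tvM (e • a) (flatU f y) := rfl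

lemma dl_mulVec (a y : Fin n → F) (e : F) (x : Fin n → F) :
    dl (f := f) a y e *ᵥ x = x + (e * f x y) • a := by
  rw [dl_def, tvM_mulVec, flatU_dot hf, smul_smul, mul_comm]

lemma det_dl (a y : Fin n → F) (e : F) : (dl (f := f) a y e).det = 1 + e * f a y := by
  rw [dl_def, det_tvM', flatU_dot hf, hf.smul_left]

/-- the torus matrix -/
noncomputable def torM (u v w : Fin n → F) (c : F) : Matrix (Fin n) (Fin n) F :=
  dl (f := f) v u ((σ c)⁻¹ - 1) * dl (f := f) u v (c - 1) * dl (f := f) w w (σ c / c - 1)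

omit hf in
lemma torM_def (u v w : Fin n → F) (c : F) :
    torM (σ := σ) (f := f) u v w c =
      dl (f := f) v u ((σ c)⁻¹ - 1) * dl (f := f) u v (c - 1) * dl (f := f) w w (σ c / c - 1) := rfl

lemma torM_mulVec {u v w : Fin n → F} (hp : HP f u v) (hwu : f w u = 0) (hwv : f w v = 0)
    (c : F) (x : Fin n → F) :
    torM (σ := σ) (f := f) u v w c *ᵥ x =
      x + ((σ c / c - 1) * f x w) • w + ((c - 1) * f x v) • u + (((σ c)⁻¹ - 1) * f x u) • v := by
  rw [torM_def, ← Matrix.mulVec_mulVec, ← Matrix.mulVec_mulVec, dl_mulVec hf, dl_mulVec hf,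
    dl_mulVec hf]
  simp only [hf.add_left, hf.smul_left, hwu, hwv, hp.uu, mul_zero, add_zero]

lemma det_torM {u v w : Fin n → F} (hp : HP f u v) (hww : f w w = 1) (c : F) (hc : c ≠ 0) :
    (torM (σ := σ) (f := f) u v w c).det = 1 := by
  have hσc : σ c ≠ 0 := by rw [Ne, map_eq_zero]; exact hc
  rw [torM_def, Matrix.det_mul, Matrix.det_mul, det_dl hf, det_dl hf, det_dl hf, hp.uv,
    HP.vu hf hp, hww]
  field_simp
  ring

/-- the torus element -/
noncomputable def tor {u v w : Fin n → F} (hp : HP f u v) (hww : f w w = 1) (c : F) (hc : c ≠ 0) :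
    GL (Fin n) F :=
  Matrix.GeneralLinearGroup.mkOfDetNeZero (torM (σ := σ) (f := f) u v w c)
    (by rw [det_torM hf hp hww c hc]; exact one_ne_zero)

lemma tor_coe {u v w : Fin n → F} (hp : HP f u v) (hww : f w w = 1) (c : F) (hc : c ≠ 0) :
    ((tor hf hp hww c hc : GL (Fin n) F) : Matrix (Fin n) (Fin n) F) =
      torM (σ := σ) (f := f) u v w c := rfl

lemma tor_mem {u v w : Fin n → F} (hp : HP f u v) (hww : f w w = 1) (hwu : f w u = 0)
    (hwv : f w v = 0) (c : F) (hc : c ≠ 0) : tor hf hp hww c hc ∈ SUf f := by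
  have hσc : σ c ≠ 0 := by rw [Ne, map_eq_zero]; exact hc
  refine ⟨fun x y => ?_, ?_⟩
  · show f (((tor hf hp hww c hc : GL (Fin n) F) : Matrix (Fin n) (Fin n) F) *ᵥ x)
      (((tor hf hp hww c hc : GL (Fin n) F) : Matrix (Fin n) (Fin n) F) *ᵥ y) = f x y
    rw [tor_coe, torM_mulVec hf hp hwu hwv, torM_mulVec hf hp hwu hwv]
    have h1 : f u y = σ (f y u) := hf.herm u y
    have h2 : f v y = σ (f y v) := hf.herm v y
    have h3 : f w y = σ (f y w) := hf.herm w y
    have huw : f u w = 0 := f_swap_eq_zero hf _ _ hwu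
    have hvw : f v w = 0 := f_swap_eq_zero hf _ _ hwv
    simp only [hf.add_left, f_add_right hf, hf.smul_left, f_smul_right hf, hp.uu, hp.vv, hp.uv,
      HP.vu hf hp, hww, hwu, hwv, huw, hvw, map_sub, map_mul, map_div₀, map_inv₀, map_one,
      hf.involutive, h1, h2, h3]
    field_simp
    ring
  · show tor hf hp hww c hc ∈ (Matrix.GeneralLinearGroup.det : GL (Fin n) F →* Fˣ).ker
    rw [MonoidHom.mem_ker]
    apply Units.ext
    rw [Matrix.GeneralLinearGroup.val_det_apply, tor_coe, det_torM hf hp hww c hc]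
    rfl

lemma tor_u {u v w : Fin n → F} (hp : HP f u v) (hww : f w w = 1) (hwu : f w u = 0)
    (hwv : f w v = 0) (c : F) (hc : c ≠ 0) :
    ((tor hf hp hww c hc : GL (Fin n) F) : Matrix (Fin n) (Fin n) F) *ᵥ u = c • u := by
  rw [tor_coe, torM_mulVec hf hp hwu hwv, hp.uu, hp.uv, f_swap_eq_zero hf _ _ hwu]
  match_scalars <;> ring

end Cfsg.Agent.Lib.Helper8.SUConj
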