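import Mathlib
import Cfsg.Agent.Lib.Helper8.SUConjA

/-!
# Conjugacy of unitary transvections (helper8)
-/

set_option autoImplicit false

namespace Cfsg.Agent.Lib.Helper8.SUConj

open Cfsg Matrix Cfsg.Agent.S5631 Cfsg.Agent.S5643 Cfsg.Agent.Lib.Helper8.Unitary
  Cfsg.Agent.Lib.Helper8.SUGen Cfsg.Agent.Lib.Helper8.SUMax Cfsg.Agent.S0283

variable {n : ℕ} {F : Type*} [Field F] [Fintype F] {σ : F ≃+* F}
variable {f : (Fin n → F) → (Fin n → F) → F}
variable (hf : Cfsg.Geo.IsUnitaryForm σ f)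
include hf

/-- conjugacy of transvections with the same centre -/
lemma conj_ut_same (hn : 3 ≤ n) (u : Fin n → F) (hu : f u u = 0) (hu0 : u ≠ 0) (z z' : F)
    (hz0 : z ≠ 0) (hz'0 : z' ≠ 0) (hz : z + σ z = 0) (hz' : z' + σ z' = 0) :
    ∃ g ∈ SUf f, g * ut hf u hu z * g⁻¹ = ut hf u hu z' := by
  obtain ⟨v, hp⟩ := exists_HP_of_iso hf u hu0 hu
  obtain ⟨w, hww, hwu, hwv⟩ := exists_unit_perp hf hn hp
  have h1 : σ z = -z := by linear_combination hz
  have h2 : σ z' = -z' := by linear_combination hz'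
  have hr : σ (z' / z) = z' / z := by
    rw [map_div₀, h1, h2, neg_div_neg_eq]
  obtain ⟨c, hc⟩ := norm_surj hf.ne_refl hf.involutive (z' / z) hr
  have hc0 : c ≠ 0 := by
    rintro rfl
    rw [zero_mul] at hc
    exact div_ne_zero hz'0 hz0 hc.symm
  have hmem := tor_mem hf hp hww hwu hwv c hc0
  have hgu := tor_u hf hp hww hwu hwv c hc0
  have hgw : f (((tor hf hp hww c hc0 : GL (Fin n) F) : Matrix (Fin n) (Fin n) F) *ᵥ u)
      (((tor hf hp hww c hc0 : GL (Fin n) F) : Matrix (Fin n) (Fin n) F) *ᵥ u) = 0 := by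
    rw [SUf_iso _ hmem, hu]
  refine ⟨tor hf hp hww c hc0, hmem, ?_⟩
  rw [conj_ut hf _ hmem u hu hgw z]
  apply GL_ext
  intro x
  rw [ut_mulVec, ut_mulVec, hgu, f_smul_right hf, smul_smul]
  congr 2
  have : z' = z * (c * σ c) := by rw [hc]; field_simp
  rw [this, map_mul, map_mul, hf.involutive]
  ring

/-- any two nontrivial unitary transvections are conjugate in `SUf f` -/
lemma conj_ut_any (hn : 3 ≤ n) (u u' : Fin n → F) (hu : f u u = 0) (hu' : f u' u' = 0)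
    (hu0 : u ≠ 0) (hu'0 : u' ≠ 0) (z z' : F) (hz0 : z ≠ 0) (hz'0 : z' ≠ 0) (hz : z + σ z = 0)
    (hz' : z' + σ z' = 0) :
    ∃ g ∈ SUf f, g * ut hf u hu z * g⁻¹ = ut hf u' hu' z' := by
  obtain ⟨t, ht, e⟩ := trans_iso hf hn u u' hu0 hu'0 hu hu'
  have htS : t ∈ SUf f := TT_le_SUf hf ht
  have hgw : f ((t : Matrix (Fin n) (Fin n) F) *ᵥ u) ((t : Matrix (Fin n) (Fin n) F) *ᵥ u) = 0 := by
    rw [SUf_iso _ htS, hu]
  have h1 : t * ut hf u hu z * t⁻¹ = ut hf u' hu' z := by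
    rw [conj_ut hf t htS u hu hgw z]
    apply GL_ext
    intro x
    rw [ut_mulVec, ut_mulVec, e]
  obtain ⟨g, hg, h2⟩ := conj_ut_same hf hn u' hu' hu'0 z z' hz0 hz'0 hz hz'
  refine ⟨g * t, (SUf f).mul_mem hg htS, ?_⟩
  rw [← h2, ← h1]
  group

end Cfsg.Agent.Lib.Helper8.SUConj
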