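import Mathlib
import Cfsg.Agent.Lib.Helper8.SUConjB

/-!
# Unitary transvections: rank, order, commutation and braid relations (helper8)
-/

set_option autoImplicit false

namespace Cfsg.Agent.Lib.Helper8.SUConj

open Cfsg Matrix Cfsg.Agent.S5631 Cfsg.Agent.S5643 Cfsg.Agent.Lib.Helper8.Unitary
  Cfsg.Agent.Lib.Helper8.SUGen Cfsg.Agent.Lib.Helper8.SUMax Cfsg.Agent.S0283

section General

variable {n : ℕ} {F : Type*} [Field F]

/-- a rank-one matrix `A` with `det (1 + A) = 1` has square zero -/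
lemma sq_zero_of_rank_one (A : Matrix (Fin n) (Fin n) F) (hrank : A.rank = 1)
    (hdet : (1 + A).det = 1) : A * A = 0 := by
  have h1 : Module.finrank F (LinearMap.range A.mulVecLin) = 1 := hrank
  obtain ⟨⟨a, ha⟩, ha0, hspan⟩ := finrank_eq_one_iff'.1 h1
  have hc : ∀ x, ∃ c : F, A *ᵥ x = c • a := by
    intro x
    obtain ⟨c, hc⟩ := hspan ⟨A *ᵥ x, ⟨x, rfl⟩⟩
    exact ⟨c, (congrArg Subtype.val hc).symm⟩
  choose φ hφ using fun i => hc (Pi.single i 1)
  have hA : A = Matrix.vecMulVec a φ := by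
    ext j i
    have := congrFun (hφ i) j
    rw [Matrix.mulVec_single_one] at this
    rw [Matrix.vecMulVec_apply, mul_comm]
    exact this
  have hdet' : (tvM a φ).det = 1 := by rw [tvM, ← hA]; exact hdet
  rw [det_tvM'] at hdet'
  have h0 : φ ⬝ᵥ a = 0 := by linear_combination hdet'
  rw [hA, Matrix.vecMulVec_mul_vecMulVec, h0, zero_smul, Matrix.vecMulVec_zero]

end General

variable {n : ℕ} {F : Type*} [Field F] {σ : F ≃+* F} {f : (Fin n → F) → (Fin n → F) → F}
variable (hf : Cfsg.Geo.IsUnitaryForm σ f)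
include hf

lemma ut_sub_one_mulVec (u : Fin n → F) (hu : f u u = 0) (z : F) (x : Fin n → F) :
    (((ut hf u hu z : GL (Fin n) F) : Matrix (Fin n) (Fin n) F) - 1) *ᵥ x =
      (σ z * f x u) • u := by
  rw [Matrix.sub_mulVec, ut_mulVec, Matrix.one_mulVec, add_sub_cancel_left]

/-- a nontrivial unitary transvection has `t - 1` of rank one -/
lemma rank_ut (u : Fin n → F) (hu : f u u = 0) (hu0 : u ≠ 0) (z : F) (hz0 : z ≠ 0) :
    (((ut hf u hu z : GL (Fin n) F) : Matrix (Fin n) (Fin n) F) - 1).rank = 1 := by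
  set A := ((ut hf u hu z : GL (Fin n) F) : Matrix (Fin n) (Fin n) F) - 1 with hA
  have hσz : σ z ≠ 0 := by rw [Ne, map_eq_zero]; exact hz0
  have hrange : LinearMap.range A.mulVecLin = Submodule.span F {u} := by
    apply le_antisymm
    · rintro _ ⟨x, rfl⟩
      rw [Matrix.mulVecLin_apply, hA, ut_sub_one_mulVec]
      exact Submodule.smul_mem _ _ (Submodule.mem_span_singleton_self u)
    · rw [Submodule.span_singleton_le_iff_mem]
      obtain ⟨⟨x₀, hx₀⟩, -⟩ := hf.nondegenerate u hu0
      refine ⟨(σ z * f x₀ u)⁻¹ • x₀, ?_⟩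
      rw [Matrix.mulVecLin_apply, hA, ut_sub_one_mulVec, hf.smul_left, ← mul_assoc,
        mul_comm (σ z), mul_assoc, inv_mul_cancel₀ (mul_ne_zero hσz hx₀), one_smul]
  show Module.finrank F (LinearMap.range A.mulVecLin) = 1
  rw [hrange]
  exact finrank_span_singleton hu0

lemma ut_ne_one (u : Fin n → F) (hu : f u u = 0) (hu0 : u ≠ 0) (z : F) (hz0 : z ≠ 0) :
    ut hf u hu z ≠ 1 := by
  intro h
  have h1 := rank_ut hf u hu hu0 z hz0
  rw [h, Units.val_one, sub_self, Matrix.rank_zero] at h1
  exact zero_ne_one h1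

lemma ut_zero_left (hu : f (0 : Fin n → F) 0 = 0) (z : F) : ut hf (0 : Fin n → F) hu z = 1 := by
  apply GL_ext
  intro x
  rw [ut_mulVec, smul_zero, add_zero, one_mulVec']

/-- transvections with perpendicular centres commute -/
lemma ut_comm_of_perp (u u' : Fin n → F) (hu : f u u = 0) (hu' : f u' u' = 0) (h : f u u' = 0)
    (z z' : F) : ut hf u hu z * ut hf u' hu' z' = ut hf u' hu' z' * ut hf u hu z := by
  have h' : f u' u = 0 := f_swap_eq_zero hf _ _ h
  apply GL_ext
  intro x
  simp only [mul_mulVec, ut_mulVec, hf.add_left, hf.smul_left, h, h', mul_zero, add_zero]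
  abel

/-- the braid relation for transvections whose centres have inner product of norm one -/
lemma ut_braid (u u' : Fin n → F) (hu : f u u = 0) (hu' : f u' u' = 0)
    (hN : f u u' * σ (f u u') = 1) (z : F) (hz : σ z = 1) (hzz : z + z = 0) :
    ut hf u hu z * ut hf u' hu' z * ut hf u hu z =
      ut hf u' hu' z * ut hf u hu z * ut hf u' hu' z := by
  have e1 : f u' u = σ (f u u') := hf.herm u' u
  have hz1 : z = 1 := by
    have := congrArg σ hz
    rwa [hf.involutive, map_one] at this
  apply GL_ext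
  intro x
  simp only [mul_mulVec, ut_mulVec, hf.add_left, hf.smul_left, hu, hu', hz, e1, one_mul, mul_zero,
    add_zero]
  have h2 : (2 : F) = 0 := by
    rw [hz1] at hzz
    linear_combination hzz
  match_scalars
  · ring
  · linear_combination (f x u) * hN + (f x u) * h2
  · linear_combination (-(f x u')) * hN - (f x u') * h2

end Cfsg.Agent.Lib.Helper8.SUConj
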