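import Mathlib
import Cfsg.Agent.Lib.Helper8.SUConjC
import Cfsg.Agent.S0751
import Cfsg.Agent.H9.GLTransvection

/-!
# Witt's lemma for families, in the `IsUnitaryForm` setting (helper8)

Bridge from `hf : IsUnitaryForm σ f` (a function `f` on `Fin n → F`) to the bundled sesquilinear
form of `Cfsg.Agent.S0751`, giving Witt's extension theorem for families of vectors with equal
Gram matrices, as an element of `GL (Fin n) F`.
-/

set_option autoImplicit false

namespace Cfsg.Agent.Lib.Helper8.SUInv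

open Cfsg Matrix Cfsg.Agent.S5631 Cfsg.Agent.S5643 Cfsg.Agent.Lib.Helper8.Unitary
  Cfsg.Agent.Lib.Helper8.SUGen Cfsg.Agent.Lib.Helper8.SUMax

variable {n : ℕ} {F : Type*} [Field F] {σ : F ≃+* F} {f : (Fin n → F) → (Fin n → F) → F}
variable (hf : Cfsg.Geo.IsUnitaryForm σ f)

/-- the bundled sesquilinear form `B x y = f y x` -/
noncomputable def Bf : (Fin n → F) →ₛₗ[(σ : F →+* F)] (Fin n → F) →ₗ[F] F :=
  LinearMap.mk₂'ₛₗ (σ : F →+* F) (RingHom.id F) (fun x y => f y x)
    (fun x₁ x₂ y => f_add_right hf y x₁ x₂)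
    (fun c x y => by rw [f_smul_right hf]; rfl)
    (fun x y₁ y₂ => hf.add_left y₁ y₂ x)
    (fun c x y => by rw [hf.smul_left]; rfl)

lemma Bf_apply (x y : Fin n → F) : Bf hf x y = f y x := rfl

lemma Bf_symm : (Bf hf).IsSymm := by
  rw [LinearMap.isSymm_def]
  intro x y
  rw [Bf_apply, Bf_apply]
  exact (hf.herm x y).symm

lemma Bf_nondeg : (Bf hf).Nondegenerate := by
  constructor
  · intro x hx
    apply eq_zero_of_forall hf
    intro y
    exact hx y
  · intro y hy
    apply eq_zero_of_forall hf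
    intro x
    apply f_swap_eq_zero hf
    exact hy x

include hf in
lemma sigma_ne_id : ((σ : F →+* F)) ≠ RingHom.id F := by
  intro h
  apply hf.ne_refl
  ext a
  exact congrArg (fun φ : F →+* F => φ a) h

include hf in
/-- Witt's lemma for families -/
lemma witt_fam [Finite F] {k : ℕ} (x y : Fin k → Fin n → F) (hx : LinearIndependent F x)
    (hy : LinearIndependent F y) (hG : ∀ a b, f (x a) (x b) = f (y a) (y b)) :
    ∃ g : GL (Fin n) F,
      (∀ u v, f ((g : Matrix (Fin n) (Fin n) F) *ᵥ u) ((g : Matrix (Fin n) (Fin n) F) *ᵥ v) = f u v) ∧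
      ∀ a, (g : Matrix (Fin n) (Fin n) F) *ᵥ x a = y a := by
  have hk : k ≤ n := by
    have := hx.fintype_card_le_finrank
    rwa [Module.finrank_fintype_fun_eq_card, Fintype.card_fin, Fintype.card_fin] at this
  obtain ⟨e, he1, he2⟩ := Cfsg.Agent.S0751.witt_family (σ : F →+* F) (sigma_ne_id hf)
    hf.involutive (Bf hf) (Bf_symm hf) (Bf_nondeg hf) (n - k) k x y hx hy (fun a b => hG b a)
    (by rw [Module.finrank_fintype_fun_eq_card, Fintype.card_fin]; omega)
  refine ⟨Cfsg.Agent.H9.glOfEquiv e, fun u v => ?_, fun a => ?_⟩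
  · rw [Cfsg.Agent.H9.glOfEquiv_mulVec, Cfsg.Agent.H9.glOfEquiv_mulVec]
    exact he1 v u
  · rw [Cfsg.Agent.H9.glOfEquiv_mulVec]
    exact he2 a

end Cfsg.Agent.Lib.Helper8.SUInv
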