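import Mathlib
import Cfsg.Agent.Lib.Helper8.SUInvA

/-!
# Normal form of unitary involutions in characteristic two (helper8)
-/

set_option autoImplicit false

namespace Cfsg.Agent.Lib.Helper8.SUInv

open Cfsg Matrix Cfsg.Agent.S5631 Cfsg.Agent.S5643 Cfsg.Agent.Lib.Helper8.Unitary
  Cfsg.Agent.Lib.Helper8.SUGen Cfsg.Agent.Lib.Helper8.SUMax

variable {n : ℕ} {F : Type*} [Field F] {σ : F ≃+* F} {f : (Fin n → F) → (Fin n → F) → F}
variable (hf : Cfsg.Geo.IsUnitaryForm σ f)

section Basic

variable (a : Matrix (Fin n) (Fin n) F)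
  (hiso : ∀ x y, f (a *ᵥ x) (a *ᵥ y) = f x y) (hsq : a * a = 1)

include hf hiso hsq in
/-- `N = a - 1` is self-adjoint -/
lemma N_adj (x y : Fin n → F) : f ((a - 1) *ᵥ x) y = f x ((a - 1) *ᵥ y) := by
  have h1 : f (a *ᵥ x) y = f x (a *ᵥ y) := by
    have := hiso (a *ᵥ x) y
    rw [Matrix.mulVec_mulVec, hsq, Matrix.one_mulVec] at this
    exact this.symm
  rw [Matrix.sub_mulVec, Matrix.sub_mulVec, Matrix.one_mulVec, Matrix.one_mulVec,
    f_sub_left hf, f_sub_right hf, h1]

include hsq in
lemma N_sq (h2 : (2 : F) = 0) : (a - 1) * (a - 1) = 0 := by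
  have hM : ∀ M : Matrix (Fin n) (Fin n) F, M + M = 0 := by
    intro M
    rw [← two_smul F M, h2, zero_smul]
  rw [sub_mul, mul_sub, mul_sub, hsq, mul_one, one_mul, mul_one]
  have e : (1 : Matrix (Fin n) (Fin n) F) - a - (a - 1) = (1 + 1) - (a + a) := by abel
  rw [e, hM, hM, sub_zero]

include hf hiso hsq in
/-- an `h`-orthonormal family for the Hermitian form `h(x,y) = f(Nx,y)` -/
lemma exists_dual_family [Fintype F] :
    ∃ x₀ : Fin (a - 1).rank → Fin n → F,
      ∀ i j, f ((a - 1) *ᵥ x₀ j) (x₀ i) = if i = j then 1 else 0 := by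
  set N := a - 1 with hN
  have hadj := N_adj hf a hiso hsq
  rw [← hN] at hadj
  obtain ⟨C, hC⟩ := (LinearMap.ker N.mulVecLin).exists_isCompl
  have hrC : Module.finrank F C = N.rank := by
    have h1 := Submodule.finrank_add_eq_of_isCompl hC
    have h2 := LinearMap.finrank_range_add_finrank_ker N.mulVecLin
    have h3 : N.rank = Module.finrank F (LinearMap.range N.mulVecLin) := rfl
    omega
  let B : C →ₛₗ[(σ : F →+* F)] C →ₗ[F] F :=
    LinearMap.mk₂'ₛₗ (σ : F →+* F) (RingHom.id F) (fun x y => f (N *ᵥ y.1) x.1)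
      (fun x₁ x₂ y => f_add_right hf _ _ _)
      (fun c x y => by
        show f (N *ᵥ y.1) (c • x.1) = _
        rw [f_smul_right hf]; rfl)
      (fun x y₁ y₂ => by
        show f (N *ᵥ (y₁.1 + y₂.1)) x.1 = _
        rw [Matrix.mulVec_add, hf.add_left])
      (fun c x y => by
        show f (N *ᵥ (c • y.1)) x.1 = _
        rw [Matrix.mulVec_smul, hf.smul_left]; rfl)
  have hBapp : ∀ x y : C, B x y = f (N *ᵥ y.1) x.1 := fun x y => rfl
  have hBsymm : B.IsSymm := by
    rw [LinearMap.isSymm_def]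
    intro x y
    rw [hBapp, hBapp]
    show σ (f (N *ᵥ y.1) x.1) = _
    rw [← hf.herm, ← hadj]
  have hBsep : B.SeparatingLeft := by
    intro x hx
    have hNx : N *ᵥ x.1 = 0 := by
      apply eq_zero_of_forall hf
      intro z
      have hz : z ∈ LinearMap.ker N.mulVecLin ⊔ C := by rw [hC.sup_eq_top]; exact Submodule.mem_top
      obtain ⟨k, hk, c, hc, rfl⟩ := Submodule.mem_sup.1 hz
      have hk' : N *ᵥ k = 0 := hk
      rw [hf.add_left, ← hadj, hk', f_zero_left hf, zero_add]
      have := hx ⟨c, hc⟩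
      rw [hBapp] at this
      rw [← hadj]
      exact this
    have hxK : x.1 ∈ LinearMap.ker N.mulVecLin := hNx
    have : x.1 ∈ LinearMap.ker N.mulVecLin ⊓ C := ⟨hxK, x.2⟩
    rw [hC.inf_eq_bot, Submodule.mem_bot] at this
    exact Subtype.ext this
  obtain ⟨v, hv⟩ := Cfsg.Agent.S0755.exists_orthonormal (σ : F →+* F) (sigma_ne_id hf)
    hf.involutive (Module.finrank F C) C B hBsymm hBsep rfl
  refine ⟨fun i => (v (Fin.cast hrC.symm i)).1, fun i j => ?_⟩
  have := hv (Fin.cast hrC.symm i) (Fin.cast hrC.symm j)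
  rw [hBapp] at this
  rw [this]
  simp only [Fin.cast_inj]

end Basic

/-- normal form data for an involution `a`: mutually orthogonal hyperbolic pairs `(u i, x i)` with
`a (u i) = u i`, `a (x i) = x i + u i`, and `a` trivial on their common perp -/
structure NF (f : (Fin n → F) → (Fin n → F) → F) (a : Matrix (Fin n) (Fin n) F) {r : ℕ}
    (u x : Fin r → Fin n → F) : Prop where
  uu : ∀ i j, f (u i) (u j) = 0
  xx : ∀ i j, f (x i) (x j) = 0
  ux : ∀ i j, f (u i) (x j) = if i = j then 1 else 0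
  au : ∀ i, a *ᵥ u i = u i
  ax : ∀ i, a *ᵥ x i = x i + u i
  ay : ∀ y, (∀ i, f y (u i) = 0) → (∀ i, f y (x i) = 0) → a *ᵥ y = y

section Exists

variable (a : Matrix (Fin n) (Fin n) F)
  (hiso : ∀ x y, f (a *ᵥ x) (a *ᵥ y) = f x y) (hsq : a * a = 1)

include hf hiso hsq in
lemma exists_NF [Fintype F] (h2 : (2 : F) = 0) :
    ∃ u x : Fin (a - 1).rank → Fin n → F, NF f a u x := by
  have key := exists_dual_family hf a hiso hsq
  have hadj := N_adj hf a hiso hsq
  have hNN := N_sq a hsq h2
  set N := a - 1 with hN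
  obtain ⟨x₀, hx₀⟩ := key
  have ha : ∀ y, a *ᵥ y = y + N *ᵥ y := by
    intro y
    rw [hN, Matrix.sub_mulVec, Matrix.one_mulVec]; abel
  have hNNv : ∀ y, N *ᵥ (N *ᵥ y) = 0 := by
    intro y
    rw [Matrix.mulVec_mulVec, hNN, Matrix.zero_mulVec]
  have hX : ∀ b : F, b + b = 0 := fun b => by linear_combination b * h2
  set u : Fin N.rank → Fin n → F := fun i => N *ᵥ x₀ i with hu
  have hux₀ : ∀ i j, f (u j) (x₀ i) = if i = j then 1 else 0 := hx₀
  have hx₀u : ∀ i j, f (x₀ i) (u j) = if i = j then 1 else 0 := by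
    intro i j
    rw [hf.herm, hux₀]
    split_ifs <;> simp
  have huu : ∀ i j, f (u i) (u j) = 0 := by
    intro i j
    show f (N *ᵥ x₀ i) (N *ᵥ x₀ j) = 0
    rw [hadj, hNNv, f_zero_right hf]
  have hNu : ∀ i, N *ᵥ u i = 0 := fun i => hNNv _
  choose τ hτ using fun i => tr_surj hf.ne_refl hf.involutive (f (x₀ i) (x₀ i)) (f_self_fix hf _)
  set c : Fin N.rank → Fin N.rank → F :=
    fun i j => if i < j then f (x₀ i) (x₀ j) else if i = j then τ i else 0 with hc
  set x : Fin N.rank → Fin n → F := fun i => x₀ i + ∑ j, c i j • u j with hx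
  have hNx : ∀ i, N *ᵥ x i = u i := by
    intro i
    show N *ᵥ (x₀ i + ∑ j, c i j • u j) = u i
    rw [Matrix.mulVec_add, Matrix.mulVec_sum]
    simp only [Matrix.mulVec_smul, hNu, smul_zero, Finset.sum_const_zero, add_zero]
    rfl
  have hux : ∀ i j, f (u i) (x j) = if i = j then 1 else 0 := by
    intro i j
    show f (u i) (x₀ j + ∑ k, c j k • u k) = _
    rw [f_add_right hf, f_sum_right hf]
    simp only [f_smul_right hf, huu, mul_zero, Finset.sum_const_zero, add_zero]
    rw [hux₀]
    simp only [eq_comm]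
  have hxx : ∀ i k, f (x i) (x k) = 0 := by
    intro i k
    show f (x₀ i + ∑ j, c i j • u j) (x₀ k + ∑ l, c k l • u l) = 0
    rw [hf.add_left, f_add_right hf, f_add_right hf, f_sum_right hf, f_sum_left hf,
      f_sum_left hf]
    simp only [f_smul_right hf, hf.smul_left, f_sum_right hf, huu, mul_zero,
      Finset.sum_const_zero, add_zero, hx₀u, hux₀, mul_ite, mul_one, Finset.sum_ite_eq,
      Finset.sum_ite_eq', Finset.mem_univ, if_true]
    rcases lt_trichotomy i k with h | h | h
    · have h1 : c i k = f (x₀ i) (x₀ k) := by rw [hc]; simp [h]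
      have h2' : c k i = 0 := by
        rw [hc]
        simp [not_lt.2 h.le, h.ne']
      rw [h1, h2', map_zero]
      linear_combination hX (f (x₀ i) (x₀ k))
    · subst h
      have h1 : c i i = τ i := by rw [hc]; simp
      rw [h1]
      linear_combination hX (f (x₀ i) (x₀ i)) + hτ i
    · have h1 : c i k = 0 := by
        rw [hc]
        simp [not_lt.2 h.le, h.ne']
      have h2' : c k i = f (x₀ k) (x₀ i) := by rw [hc]; simp [h]
      rw [h1, h2', ← hf.herm]
      linear_combination hX (f (x₀ i) (x₀ k))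
  have hli : LinearIndependent F u := by
    rw [Fintype.linearIndependent_iff]
    intro g hg j
    have := congrArg (fun v => f v (x j)) hg
    simp only [f_sum_left hf, hf.smul_left, hux, mul_ite, mul_one, mul_zero, Finset.sum_ite_eq',
      Finset.mem_univ, if_true, f_zero_left hf] at this
    exact this
  have hspan : Submodule.span F (Set.range u) = LinearMap.range N.mulVecLin := by
    apply Submodule.eq_of_le_of_finrank_eq
    · rw [Submodule.span_le]
      rintro _ ⟨i, rfl⟩
      exact ⟨x₀ i, rfl⟩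
    · rw [finrank_span_eq_card hli, Fintype.card_fin]
      rfl
  refine ⟨u, x, huu, hxx, hux, fun i => ?_, fun i => ?_, fun y hyu hyx => ?_⟩
  · rw [ha, hNu, add_zero]
  · rw [ha, hNx]
  · rw [ha]
    have : N *ᵥ y = 0 := by
      apply eq_zero_of_forall hf
      intro z
      apply f_swap_eq_zero hf
      rw [hadj]
      have hz : N *ᵥ z ∈ Submodule.span F (Set.range u) := by
        rw [hspan]; exact ⟨z, rfl⟩
      obtain ⟨g, hg⟩ := (Submodule.mem_span_range_iff_exists_fun F).1 hz
      rw [← hg, f_sum_right hf]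
      simp only [f_smul_right hf, hyu, mul_zero, Finset.sum_const_zero]
    rw [this, add_zero]

end Exists

end Cfsg.Agent.Lib.Helper8.SUInv
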