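import Mathlib
import Cfsg.Agent.Lib.Helper8.SUInvB

/-!
# Conjugacy of unitary involutions in characteristic two (helper8)
-/

set_option autoImplicit false

namespace Cfsg.Agent.Lib.Helper8.SUInv

open Cfsg Matrix Cfsg.Agent.S5631 Cfsg.Agent.S5643 Cfsg.Agent.Lib.Helper8.Unitary
  Cfsg.Agent.Lib.Helper8.SUGen Cfsg.Agent.Lib.Helper8.SUMax Cfsg.Agent.Lib.Helper8.SUConj

variable {n : ℕ} {F : Type*} [Field F] {σ : F ≃+* F} {f : (Fin n → F) → (Fin n → F) → F}
variable (hf : Cfsg.Geo.IsUnitaryForm σ f)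

section NFlemmas

variable {a : Matrix (Fin n) (Fin n) F} {r : ℕ} {u x : Fin r → Fin n → F}

include hf in
lemma NF.xu (h : NF f a u x) (i j : Fin r) : f (x i) (u j) = if i = j then 1 else 0 := by
  rw [hf.herm, h.ux]
  by_cases hij : i = j
  · subst hij
    simp
  · have : ¬ j = i := fun h' => hij h'.symm
    simp [hij, this]

/-- the joint family -/
def jf (u x : Fin r → Fin n → F) : Fin (r + r) → Fin n → F :=
  fun k => Sum.elim u x (finSumFinEquiv.symm k)

include hf in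
lemma NF.li (h : NF f a u x) : LinearIndependent F (jf u x) := by
  have h1 : LinearIndependent F (Sum.elim u x) := by
    rw [Fintype.linearIndependent_iff]
    intro g hg
    rw [Fintype.sum_sum_type] at hg
    simp only [Sum.elim_inl, Sum.elim_inr] at hg
    have hA : ∀ k, g (Sum.inl k) = 0 := by
      intro k
      have := congrArg (fun v => f v (x k)) hg
      simp only [hf.add_left, f_sum_left hf, hf.smul_left, h.ux, h.xx, mul_ite, mul_one,
        mul_zero, Finset.sum_ite_eq', Finset.sum_ite_eq, Finset.mem_univ, if_true,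
        Finset.sum_const_zero, add_zero, f_zero_left hf] at this
      exact this
    have hB : ∀ k, g (Sum.inr k) = 0 := by
      intro k
      have := congrArg (fun v => f v (u k)) hg
      simp only [hf.add_left, f_sum_left hf, hf.smul_left, h.uu, NF.xu hf h, mul_ite, mul_one,
        mul_zero, Finset.sum_ite_eq', Finset.sum_ite_eq, Finset.mem_univ, if_true,
        Finset.sum_const_zero, zero_add, f_zero_left hf] at this
      exact this
    rintro (k | k)
    · exact hA k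
    · exact hB k
  exact h1.comp _ finSumFinEquiv.symm.injective

end NFlemmas

include hf in
lemma conj_of_NF [Finite F] {a b : Matrix (Fin n) (Fin n) F} {r : ℕ}
    {u x u' x' : Fin r → Fin n → F} (ha : NF f a u x) (hb : NF f b u' x') :
    ∃ g : GL (Fin n) F,
      (∀ v w, f ((g : Matrix (Fin n) (Fin n) F) *ᵥ v) ((g : Matrix (Fin n) (Fin n) F) *ᵥ w)
        = f v w) ∧
      (g : Matrix (Fin n) (Fin n) F) * a = b * (g : Matrix (Fin n) (Fin n) F) := by
  obtain ⟨g, hg1, hg2⟩ := witt_fam hf (jf u x) (jf u' x') (NF.li hf ha) (NF.li hf hb) (by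
    intro k l
    obtain ⟨k', rfl⟩ := finSumFinEquiv.surjective k
    obtain ⟨l', rfl⟩ := finSumFinEquiv.surjective l
    simp only [jf, Equiv.symm_apply_apply]
    rcases k' with i | i <;> rcases l' with j | j <;> simp only [Sum.elim_inl, Sum.elim_inr]
    · rw [ha.uu, hb.uu]
    · rw [ha.ux, hb.ux]
    · rw [NF.xu hf ha, NF.xu hf hb]
    · rw [ha.xx, hb.xx])
  have hgu : ∀ i, (g : Matrix (Fin n) (Fin n) F) *ᵥ u i = u' i := by
    intro i
    have := hg2 (finSumFinEquiv (Sum.inl i))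
    simpa only [jf, Equiv.symm_apply_apply, Sum.elim_inl] using this
  have hgx : ∀ i, (g : Matrix (Fin n) (Fin n) F) *ᵥ x i = x' i := by
    intro i
    have := hg2 (finSumFinEquiv (Sum.inr i))
    simpa only [jf, Equiv.symm_apply_apply, Sum.elim_inr] using this
  refine ⟨g, hg1, ?_⟩
  rw [Matrix.ext_iff_mulVec]
  intro z
  rw [← Matrix.mulVec_mulVec, ← Matrix.mulVec_mulVec]
  obtain ⟨z', hz'⟩ : ∃ z', z' = z - ∑ i, f z (x i) • u i - ∑ i, f z (u i) • x i := ⟨_, rfl⟩
  have hz'u : ∀ k, f z' (u k) = 0 := by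
    intro k
    rw [hz', f_sub_left hf, f_sub_left hf, f_sum_left hf, f_sum_left hf]
    simp only [hf.smul_left, ha.uu, NF.xu hf ha, mul_zero, mul_ite, mul_one,
      Finset.sum_const_zero, Finset.sum_ite_eq', Finset.sum_ite_eq, Finset.mem_univ, if_true,
      sub_zero, sub_self]
  have hz'x : ∀ k, f z' (x k) = 0 := by
    intro k
    rw [hz', f_sub_left hf, f_sub_left hf, f_sum_left hf, f_sum_left hf]
    simp only [hf.smul_left, ha.xx, ha.ux, mul_zero, mul_ite, mul_one,
      Finset.sum_const_zero, Finset.sum_ite_eq', Finset.sum_ite_eq, Finset.mem_univ, if_true,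
      sub_zero, sub_self]
  obtain ⟨α, β, hz⟩ : ∃ α β : Fin r → F, z = z' + ∑ i, α i • u i + ∑ i, β i • x i :=
    ⟨fun i => f z (x i), fun i => f z (u i), by rw [hz']; abel⟩
  have h1 : a *ᵥ z' = z' := ha.ay z' hz'u hz'x
  have h2 : b *ᵥ ((g : Matrix (Fin n) (Fin n) F) *ᵥ z') = (g : Matrix (Fin n) (Fin n) F) *ᵥ z' :=
    hb.ay _ (fun k => by rw [← hgu, hg1, hz'u]) (fun k => by rw [← hgx, hg1, hz'x])
  rw [hz]
  simp only [Matrix.mulVec_add, Matrix.mulVec_sum, Matrix.mulVec_smul, h1, h2, ha.au, ha.ax,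
    hb.au, hb.ax, hgu, hgx]

section DetFix

variable {b : Matrix (Fin n) (Fin n) F}
  (hiso : ∀ x y, f (b *ᵥ x) (b *ᵥ y) = f x y) (hsq : b * b = 1)
  {u₀ x₀ : Fin n → F} (hp : HP f u₀ x₀) (hbu : b *ᵥ u₀ = u₀) (hbx : b *ᵥ x₀ = x₀ + u₀)
  (l : F) (hl : l * σ l = 1)

/-- the scalar `l` on the hyperbolic plane, identity on its perp -/
noncomputable def sc (f : (Fin n → F) → (Fin n → F) → F) (u₀ x₀ : Fin n → F) (l : F) :
    Matrix (Fin n) (Fin n) F :=
  dl (f := f) x₀ u₀ (l - 1) * dl (f := f) u₀ x₀ (l - 1)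

include hf hp in
lemma sc_mulVec (z : Fin n → F) :
    sc f u₀ x₀ l *ᵥ z = z + ((l - 1) * f z x₀) • u₀ + ((l - 1) * f z u₀) • x₀ := by
  rw [sc, ← Matrix.mulVec_mulVec, dl_mulVec hf, dl_mulVec hf]
  simp only [hf.add_left, hf.smul_left, hp.uu, mul_zero, add_zero]

include hf hp in
lemma det_sc : (sc f u₀ x₀ l).det = l * l := by
  rw [sc, Matrix.det_mul, det_dl hf, det_dl hf, hp.uv, HP.vu hf hp]
  ring

include hf hp hl in
lemma sc_iso (z w : Fin n → F) : f (sc f u₀ x₀ l *ᵥ z) (sc f u₀ x₀ l *ᵥ w) = f z w := by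
  rw [sc_mulVec hf hp, sc_mulVec hf hp]
  have h1 : f u₀ w = σ (f w u₀) := hf.herm u₀ w
  have h2 : f x₀ w = σ (f w x₀) := hf.herm x₀ w
  simp only [hf.add_left, f_add_right hf, hf.smul_left, f_smul_right hf, hp.uu, hp.vv, hp.uv,
    HP.vu hf hp, map_sub, map_mul, map_one, h1, h2]
  linear_combination (f z x₀ * σ (f w u₀) + f z u₀ * σ (f w x₀)) * hl

include hf hp hiso hsq hbu hbx in
lemma sc_comm : sc f u₀ x₀ l * b = b * sc f u₀ x₀ l := by
  have hadj : ∀ z y, f (b *ᵥ z) y = f z (b *ᵥ y) := by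
    intro z y
    have := hiso (b *ᵥ z) y
    rw [Matrix.mulVec_mulVec, hsq, Matrix.one_mulVec] at this
    exact this.symm
  rw [Matrix.ext_iff_mulVec]
  intro z
  rw [← Matrix.mulVec_mulVec, ← Matrix.mulVec_mulVec, sc_mulVec hf hp, sc_mulVec hf hp,
    hadj, hadj, hbu, hbx, f_add_right hf]
  simp only [Matrix.mulVec_add, Matrix.mulVec_smul, hbu, hbx]
  match_scalars <;> ring

end DetFix

end Cfsg.Agent.Lib.Helper8.SUInv
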