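import Mathlib
import Cfsg.Agent.Lib.Helper8.SUMaxA

/-!
# Unitary geometry relative to a non-degenerate subspace (helper8)

Transport of a non-degenerate subspace `U` of a unitary space `F^n` to the standard coordinate
space `F^m`, `m = dim U`: `iota U : F^m → F^n` is an injective linear map with range `U`, and
`fU f U x y = f (iota U x) (iota U y)` is again a non-degenerate unitary form.  Transvections of
`F^m` lift to transvections of `F^n` with centre in `U`.
-/

set_option autoImplicit false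

namespace Cfsg.Agent.Lib.Helper8.SURel

open Cfsg Matrix Cfsg.Agent.S5631 Cfsg.Agent.S5643 Cfsg.Agent.Lib.Helper8.Unitary
  Cfsg.Agent.Lib.Helper8.SUGen Cfsg.Agent.Lib.Helper8.SUMax

variable {n : ℕ} {F : Type*} [Field F] {σ : F ≃+* F} {f : (Fin n → F) → (Fin n → F) → F}

/-- coordinates on a subspace -/
noncomputable def iota (U : Submodule F (Fin n → F)) :
    (Fin (Module.finrank F U) → F) →ₗ[F] (Fin n → F) :=
  U.subtype ∘ₗ (Module.finBasis F U).equivFun.symm.toLinearMap

lemma iota_mem (U : Submodule F (Fin n → F)) (x : Fin (Module.finrank F U) → F) :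
    iota U x ∈ U := by
  rw [iota, LinearMap.comp_apply]
  exact Submodule.coe_mem _

lemma iota_surj (U : Submodule F (Fin n → F)) (y : Fin n → F) (hy : y ∈ U) :
    ∃ x, iota U x = y := by
  refine ⟨(Module.finBasis F U).equivFun ⟨y, hy⟩, ?_⟩
  rw [iota, LinearMap.comp_apply, LinearEquiv.coe_coe, LinearEquiv.symm_apply_apply]
  rfl

lemma iota_inj (U : Submodule F (Fin n → F)) : Function.Injective (iota U) := by
  rw [iota]
  exact (Submodule.injective_subtype U).comp (LinearEquiv.injective _)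

lemma iota_eq_zero (U : Submodule F (Fin n → F)) (x : Fin (Module.finrank F U) → F)
    (h : iota U x = 0) : x = 0 := by
  apply iota_inj U
  rw [h, map_zero]

/-- the transported form -/
noncomputable def fU (f : (Fin n → F) → (Fin n → F) → F) (U : Submodule F (Fin n → F)) :
    (Fin (Module.finrank F U) → F) → (Fin (Module.finrank F U) → F) → F :=
  fun x y => f (iota U x) (iota U y)

lemma fU_apply (U : Submodule F (Fin n → F)) (x y : Fin (Module.finrank F U) → F) :
    fU f U x y = f (iota U x) (iota U y) := rfl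

lemma fU_unitary (hf : Cfsg.Geo.IsUnitaryForm σ f) (U : Submodule F (Fin n → F))
    (hU : Cfsg.Geo.IsNondegenerateOn f U) : Cfsg.Geo.IsUnitaryForm σ (fU f U) where
  ne_refl := hf.ne_refl
  involutive := hf.involutive
  add_left x y v := by rw [fU_apply, map_add, hf.add_left]; rfl
  smul_left c x v := by rw [fU_apply, map_smul, hf.smul_left]; rfl
  herm v w := by rw [fU_apply, hf.herm]; rfl
  nondegenerate := by
    intro v hv
    have hv' : iota U v ≠ 0 := fun h => hv (iota_eq_zero U v h)
    obtain ⟨⟨x, hxU, hx⟩, ⟨x', hx'U, hx'⟩⟩ := hU _ (iota_mem U v) hv'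
    obtain ⟨y, rfl⟩ := iota_surj U x hxU
    obtain ⟨y', rfl⟩ := iota_surj U x' hx'U
    exact ⟨⟨y, hx⟩, ⟨y', hx'⟩⟩

variable (hf : Cfsg.Geo.IsUnitaryForm σ f)

/-- the group generated by the unitary transvections with centre in `U` -/
def TTsub (U : Submodule F (Fin n → F)) : Subgroup (GL (Fin n) F) :=
  Subgroup.closure {g | ∃ (u : Fin n → F) (hu : f u u = 0) (z : F), u ∈ U ∧ z + σ z = 0 ∧
    g = ut hf u hu z}

lemma TTsub_le_TT (U : Submodule F (Fin n → F)) : TTsub hf U ≤ TT hf := by
  rw [TTsub, Subgroup.closure_le]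
  rintro g ⟨u, hu, z, -, hz, rfl⟩
  exact ut_mem hf u hu z hz

/-- elements of `TTsub U` fix `U^⊥` pointwise -/
lemma TTsub_fix (U : Submodule F (Fin n → F)) (t : GL (Fin n) F) (ht : t ∈ TTsub hf U)
    (y : Fin n → F) (hy : ∀ u ∈ U, f y u = 0) : (t : Matrix (Fin n) (Fin n) F) *ᵥ y = y := by
  induction ht using Subgroup.closure_induction with
  | mem g hg =>
    obtain ⟨u, hu, z, huU, -, rfl⟩ := hg
    exact ut_perp hf u hu z y (hy u huU)
  | one => exact one_mulVec' y
  | mul a b _ _ iha ihb => rw [mul_mulVec, ihb, iha]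
  | inv a _ iha => exact inv_mulVec_eq a y y iha

/-- elements of `TTsub U` stabilize `U` -/
lemma TTsub_mem (U : Submodule F (Fin n → F)) (t : GL (Fin n) F) (ht : t ∈ TTsub hf U)
    (x : Fin n → F) (hx : x ∈ U) : (t : Matrix (Fin n) (Fin n) F) *ᵥ x ∈ U := by
  induction ht using Subgroup.closure_induction generalizing x with
  | mem g hg =>
    obtain ⟨u, hu, z, huU, -, rfl⟩ := hg
    rw [ut_mulVec]
    exact U.add_mem hx (U.smul_mem _ huU)
  | one => rw [one_mulVec']; exact hx
  | mul a b _ _ iha ihb => rw [mul_mulVec]; exact iha _ (ihb x hx)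
  | inv a ha iha =>
    -- `a` restricted to `U` is injective, hence surjective
    let L : U →ₗ[F] U :=
      LinearMap.codRestrict U ((Matrix.mulVecLin (a : Matrix (Fin n) (Fin n) F)).comp U.subtype)
        (fun y => iha y.1 y.2)
    have hL : Function.Injective L := by
      intro y y' hyy'
      have h3 : (a : Matrix (Fin n) (Fin n) F) *ᵥ y.1 = (a : Matrix (Fin n) (Fin n) F) *ᵥ y'.1 :=
        congrArg Subtype.val hyy'
      have h4 := congrArg (fun z => ((a⁻¹ : GL (Fin n) F) : Matrix (Fin n) (Fin n) F) *ᵥ z) h3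
      simp only [inv_mulVec_mulVec] at h4
      exact Subtype.ext h4
    obtain ⟨y, hy⟩ := (LinearMap.injective_iff_surjective.1 hL) ⟨x, hx⟩
    have h5 : (a : Matrix (Fin n) (Fin n) F) *ᵥ y.1 = x := congrArg Subtype.val hy
    rw [inv_mulVec_eq a y.1 x h5]
    exact y.2

variable (U : Submodule F (Fin n → F)) (hU : Cfsg.Geo.IsNondegenerateOn f U)

lemma ut_iota (c : Fin (Module.finrank F U) → F) (hc : fU f U c c = 0)
    (hc' : f (iota U c) (iota U c) = 0) (z : F)
    (x : Fin (Module.finrank F U) → F) :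
    ((ut hf (iota U c) hc' z : GL (Fin n) F) : Matrix (Fin n) (Fin n) F) *ᵥ iota U x =
      iota U (((ut (fU_unitary hf U hU) c hc z : GL _ F) : Matrix _ _ F) *ᵥ x) := by
  rw [ut_mulVec, ut_mulVec, map_add, map_smul]
  rfl

/-- lifting products of transvections of `U` -/
lemma lift_TT (t : GL (Fin (Module.finrank F U)) F) (ht : t ∈ TT (fU_unitary hf U hU)) :
    ∃ t' ∈ TTsub hf U, ∀ x, (t' : Matrix (Fin n) (Fin n) F) *ᵥ iota U x =
      iota U ((t : Matrix _ _ F) *ᵥ x) := by
  induction ht using Subgroup.closure_induction with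
  | mem g hg =>
    obtain ⟨c, hc, z, hz, rfl⟩ := hg
    have hc' : f (iota U c) (iota U c) = 0 := hc
    exact ⟨ut hf (iota U c) hc' z, Subgroup.subset_closure ⟨_, hc', z, iota_mem U c, hz, rfl⟩,
      fun x => ut_iota hf U hU c hc hc' z x⟩
  | one => exact ⟨1, (TTsub hf U).one_mem, fun x => by rw [one_mulVec', one_mulVec']⟩
  | mul a b _ _ iha ihb =>
    obtain ⟨a', ha', ea⟩ := iha
    obtain ⟨b', hb', eb⟩ := ihb
    exact ⟨a' * b', (TTsub hf U).mul_mem ha' hb', fun x => by
      rw [mul_mulVec, mul_mulVec, eb, ea]⟩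
  | inv a _ iha =>
    obtain ⟨a', ha', ea⟩ := iha
    refine ⟨a'⁻¹, (TTsub hf U).inv_mem ha', fun x => ?_⟩
    apply inv_mulVec_eq
    rw [ea, mulVec_inv_mulVec]

end Cfsg.Agent.Lib.Helper8.SURel
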