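import Mathlib
import Cfsg.Agent.Lib.Helper8.SURelA

/-!
# Unitary geometry: further whole-space lemmas (helper8)

Sums of two isotropic vectors, irreducibility of the transvection group, vectors with
prescribed norms and inner product.
-/

set_option autoImplicit false

namespace Cfsg.Agent.Lib.Helper8.SURel

open Cfsg Matrix Cfsg.Agent.S5631 Cfsg.Agent.S5643 Cfsg.Agent.Lib.Helper8.Unitary
  Cfsg.Agent.Lib.Helper8.SUGen Cfsg.Agent.Lib.Helper8.SUMax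

variable {n : ℕ} {F : Type*} [Field F] [Fintype F] {σ : F ≃+* F}
variable {f : (Fin n → F) → (Fin n → F) → F}
variable (hf : Cfsg.Geo.IsUnitaryForm σ f)
include hf

/-- every vector is a sum of two isotropic vectors (`n ≥ 2`) -/
lemma iso_decomp2 (hn : 2 ≤ n) (x : Fin n → F) :
    ∃ y₁ y₂, f y₁ y₁ = 0 ∧ f y₂ y₂ = 0 ∧ x = y₁ + y₂ := by
  by_cases hxx : f x x = 0
  · exact ⟨x, 0, hxx, f_zero_left hf 0, (add_zero x).symm⟩
  obtain ⟨u₀, hu₀, hxu₀⟩ := exists_iso_not_perp hf hn x hxx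
  obtain ⟨μ, hμ⟩ := tr_surj hf.ne_refl hf.involutive (f x x) (f_self_fix hf x)
  refine ⟨x - σ (μ / f x u₀) • u₀, σ (μ / f x u₀) • u₀, ?_, ?_, by abel⟩
  · have h1 : f u₀ x = σ (f x u₀) := hf.herm u₀ x
    have h2 : σ (f x u₀) ≠ 0 := by rw [Ne, map_eq_zero]; exact hxu₀
    have h3 : μ / f x u₀ * f x u₀ = μ := div_mul_cancel₀ μ hxu₀
    have h4 : σ (μ / f x u₀) * σ (f x u₀) = σ μ := by rw [← map_mul, h3]
    rw [f_sub_left hf, f_sub_right hf, f_sub_right hf, hf.smul_left, hf.smul_left,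
      f_smul_right hf, f_smul_right hf, hu₀, hf.involutive, h1, h3, h4]
    linear_combination -hμ
  · rw [hf.smul_left, f_smul_right hf, hu₀]; ring

/-- a subspace invariant under all unitary transvections is trivial (`n ≥ 2`) -/
lemma irred (hn : 2 ≤ n) (Y : Submodule F (Fin n → F)) (hY : Y ≠ ⊥)
    (hinv : ∀ (u : Fin n → F) (hu : f u u = 0) (z : F), z + σ z = 0 → ∀ y ∈ Y,
      ((ut hf u hu z : GL (Fin n) F) : Matrix (Fin n) (Fin n) F) *ᵥ y ∈ Y) : Y = ⊤ := by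
  obtain ⟨ζ, hζ0, hζ⟩ := exists_Z hf.ne_refl hf.involutive
  have hσζ : σ ζ ≠ 0 := by rw [Ne, map_eq_zero]; exact hζ0
  -- the basic step
  have step : ∀ y ∈ Y, ∀ w, f w w = 0 → f y w ≠ 0 → w ∈ Y := by
    intro y hy w hw hyw
    have h1 := hinv w hw ζ hζ y hy
    rw [ut_mulVec] at h1
    have h2 : (σ ζ * f y w) • w ∈ Y := (Submodule.add_mem_iff_right Y hy).1 h1
    have h3 := Y.smul_mem (σ ζ * f y w)⁻¹ h2
    rwa [smul_smul, inv_mul_cancel₀ (mul_ne_zero hσζ hyw), one_smul] at h3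
  obtain ⟨y, hyY, hy0⟩ := Submodule.exists_mem_ne_zero_of_ne_bot hY
  -- an isotropic vector in `Y`
  obtain ⟨w₁, hw₁Y, hw₁0, hw₁⟩ : ∃ w₁ ∈ Y, w₁ ≠ 0 ∧ f w₁ w₁ = 0 := by
    by_cases hyy : f y y = 0
    · exact ⟨y, hyY, hy0, hyy⟩
    · obtain ⟨u₀, hu₀, hyu₀⟩ := exists_iso_not_perp hf hn y hyy
      refine ⟨u₀, step y hyY u₀ hu₀ hyu₀, ?_, hu₀⟩
      rintro rfl
      exact hyu₀ (f_zero_right hf y)
  have hiso : ∀ w, f w w = 0 → w ∈ Y := by
    intro w hw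
    by_cases hw0 : w = 0
    · rw [hw0]; exact Y.zero_mem
    by_cases h : f w₁ w = 0
    · obtain ⟨w₃, hw₃, h1, h2⟩ := exists_link hf w₁ w hw₁0 hw0 hw₁ hw h
      exact step w₃ (step w₁ hw₁Y w₃ hw₃ h1) w hw h2
    · exact step w₁ hw₁Y w hw h
  rw [eq_top_iff]
  intro x _
  obtain ⟨y₁, y₂, h1, h2, rfl⟩ := iso_decomp2 hf hn x
  exact Y.add_mem (hiso y₁ h1) (hiso y₂ h2)

/-- a nonzero vector of prescribed norm (`n ≥ 2`) -/
lemma represent_ne (hn : 2 ≤ n) (ρ : F) (hρ : σ ρ = ρ) : ∃ b : Fin n → F, b ≠ 0 ∧ f b b = ρ := by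
  obtain ⟨u, v, hp⟩ := exists_HP hf hn
  obtain ⟨r, hr⟩ := tr_surj hf.ne_refl hf.involutive ρ hρ
  refine ⟨u + r • v, ?_, ?_⟩
  · intro h0
    have : f (u + r • v) v = 1 := by rw [hf.add_left, hf.smul_left, hp.uv, hp.vv]; ring
    rw [h0, f_zero_left hf] at this
    exact zero_ne_one this
  · rw [hf.add_left, f_add_right hf, f_add_right hf, hf.smul_left, hf.smul_left,
      f_smul_right hf, f_smul_right hf, hp.uu, hp.vv, hp.uv, HP.vu hf hp]
    linear_combination hr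

/-- two vectors with prescribed norms and inner product (`n ≥ 4`) -/
lemma prescribe_pair (hn : 4 ≤ n) (ρ ρ' η : F) (hρ : σ ρ = ρ) (hρ' : σ ρ' = ρ') :
    ∃ b b' : Fin n → F, f b b = ρ ∧ f b' b' = ρ' ∧ f b b' = η ∧ b' ≠ 0 ∧
      ∀ κ : F, b + κ • b' ≠ 0 := by
  obtain ⟨u₁, v₁, hp⟩ := exists_HP hf (by omega : 2 ≤ n)
  obtain ⟨u₂, v₂, hp', h1, h2, h3, h4⟩ := exists_HP_perp hf hn hp
  obtain ⟨r, hr⟩ := tr_surj hf.ne_refl hf.involutive ρ hρ
  obtain ⟨r', hr'⟩ := tr_surj hf.ne_refl hf.involutive ρ' hρ'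
  have h1' : f u₁ u₂ = 0 := f_swap_eq_zero hf _ _ h1
  have h2' : f v₁ u₂ = 0 := f_swap_eq_zero hf _ _ h2
  have h3' : f u₁ v₂ = 0 := f_swap_eq_zero hf _ _ h3
  have h4' : f v₁ v₂ = 0 := f_swap_eq_zero hf _ _ h4
  refine ⟨u₁ + r • v₁, σ η • v₁ + u₂ + r' • v₂, ?_, ?_, ?_, ?_, ?_⟩
  · rw [hf.add_left, f_add_right hf, f_add_right hf, hf.smul_left, hf.smul_left,
      f_smul_right hf, f_smul_right hf, hp.uu, hp.vv, hp.uv, HP.vu hf hp]
    linear_combination hr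
  · simp only [hf.add_left, f_add_right hf, hf.smul_left, f_smul_right hf, hp.vv, hp'.uu, hp'.vv,
      hp'.uv, HP.vu hf hp', h2, h4, h2', h4']
    linear_combination hr'
  · simp only [hf.add_left, f_add_right hf, hf.smul_left, f_smul_right hf, hp.uu, hp.vv, hp.uv,
      h1', h2', h3', h4', hf.involutive]
    ring
  · intro h0
    have : f (σ η • v₁ + u₂ + r' • v₂) v₂ = 1 := by
      simp only [hf.add_left, hf.smul_left, h4', hp'.uv, hp'.vv]; ring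
    rw [h0, f_zero_left hf] at this
    exact zero_ne_one this
  · intro κ h0
    have : f (u₁ + r • v₁ + κ • (σ η • v₁ + u₂ + r' • v₂)) v₁ = 1 := by
      simp only [hf.add_left, hf.smul_left, hp.uv, hp.vv, h2, h4]; ring
    rw [h0, f_zero_left hf] at this
    exact zero_ne_one this

end Cfsg.Agent.Lib.Helper8.SURel
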