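import Mathlib
import Cfsg.Agent.Lib.Helper8.SURelB

/-!
# Unitary geometry: orthogonal complement of a non-degenerate subspace, relative lemmas (helper8)
-/

set_option autoImplicit false

namespace Cfsg.Agent.Lib.Helper8.SURel

open Cfsg Matrix Cfsg.Agent.S5631 Cfsg.Agent.S5643 Cfsg.Agent.Lib.Helper8.Unitary
  Cfsg.Agent.Lib.Helper8.SUGen Cfsg.Agent.Lib.Helper8.SUMax

variable {n : ℕ} {F : Type*} [Field F] [Fintype F] {σ : F ≃+* F}
variable {f : (Fin n → F) → (Fin n → F) → F}
variable (hf : Cfsg.Geo.IsUnitaryForm σ f)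
include hf

/-- transitivity of `TT` on nonzero vectors of equal norm -/
lemma trans_norm (hn : 3 ≤ n) (hg : Good n σ) (a a' : Fin n → F) (ha0 : a ≠ 0) (ha'0 : a' ≠ 0)
    (h : f a a = f a' a') : ∃ t ∈ TT hf, (t : Matrix (Fin n) (Fin n) F) *ᵥ a = a' := by
  by_cases h0 : f a a = 0
  · exact trans_iso hf hn a a' ha0 ha'0 h0 (by rw [← h, h0])
  · obtain ⟨d, hd⟩ := norm_surj hf.ne_refl hf.involutive (f a a) (f_self_fix hf a)
    have hd0 : d ≠ 0 := by
      rintro rfl
      rw [zero_mul] at hd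
      exact h0 hd.symm
    have hσd0 : σ d ≠ 0 := by rw [Ne, map_eq_zero]; exact hd0
    have h1 : f (d⁻¹ • a) (d⁻¹ • a) = 1 := by
      rw [hf.smul_left, f_smul_right hf, ← hd, map_inv₀]
      field_simp
    have h1' : f (d⁻¹ • a') (d⁻¹ • a') = 1 := by
      rw [hf.smul_left, f_smul_right hf, ← h, ← hd, map_inv₀]
      field_simp
    obtain ⟨t, ht, e⟩ := trans_unit hf hn hg _ _ h1 h1'
    refine ⟨t, ht, ?_⟩
    rw [Matrix.mulVec_smul] at e
    have h2 := congrArg (fun v => d • v) e
    simp only [smul_smul, mul_inv_cancel₀ hd0, one_smul] at h2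
    exact h2

/-- the orthogonal complement -/
def perpU (W : Submodule F (Fin n → F)) : Submodule F (Fin n → F) where
  carrier := {x | ∀ w ∈ W, f x w = 0}
  add_mem' := by
    intro x y hx hy w hw
    rw [hf.add_left, hx w hw, hy w hw, add_zero]
  zero_mem' := fun w _ => f_zero_left hf w
  smul_mem' := by
    intro c x hx w hw
    rw [hf.smul_left, hx w hw, mul_zero]

lemma mem_perpU (W : Submodule F (Fin n → F)) (x : Fin n → F) :
    x ∈ perpU hf W ↔ ∀ w ∈ W, f x w = 0 := Iff.rfl

variable (W : Submodule F (Fin n → F)) (hW : Cfsg.Geo.IsNondegenerateOn f W)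
include hW

lemma perp_inf (x : Fin n → F) (hxW : x ∈ W) (hxU : x ∈ perpU hf W) : x = 0 := by
  by_contra hx0
  obtain ⟨-, ⟨w, hw, hxw⟩⟩ := hW x hxW hx0
  exact hxw (hxU w hw)

/-- orthogonal decomposition -/
lemma perp_decomp (x : Fin n → F) : ∃ a ∈ W, ∃ b ∈ perpU hf W, x = a + b := by
  have hfW := fU_unitary hf W hW
  let L : (Fin (Module.finrank F W) → F) →ₗ[F] F :=
    { toFun := fun c => f (iota W c) x
      map_add' := fun c c' => by rw [map_add, hf.add_left]
      map_smul' := fun r c => by rw [map_smul, hf.smul_left]; rfl }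
  obtain ⟨y, hy⟩ := exists_rep hfW (fun i => L (fun j => if i = j then 1 else 0))
  have hL : ∀ c, f (iota W c) x = f (iota W c) (iota W y) := by
    intro c
    have h1 := hy c
    rw [fU_apply] at h1
    rw [← h1]
    show L c = _
    rw [LinearMap.pi_apply_eq_sum_univ L c]
    simp only [dotProduct, smul_eq_mul, mul_comm]
  refine ⟨iota W y, iota_mem W y, x - iota W y, ?_, by abel⟩
  intro w hw
  obtain ⟨c, rfl⟩ := iota_surj W w hw
  apply f_swap_eq_zero hf
  rw [f_sub_right hf, hL c, sub_self]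

lemma perpU_nondeg : Cfsg.Geo.IsNondegenerateOn f (perpU hf W) := by
  intro b hb hb0
  obtain ⟨⟨x, hx⟩, -⟩ := hf.nondegenerate b hb0
  obtain ⟨a, ha, b', hb', rfl⟩ := perp_decomp hf W hW x
  have h1 : f a b = 0 := f_swap_eq_zero hf _ _ (hb a ha)
  rw [hf.add_left, h1, zero_add] at hx
  exact ⟨⟨b', hb', hx⟩, ⟨b', hb', f_swap_ne_zero hf _ _ hx⟩⟩

lemma perp_perp (x : Fin n → F) (h : ∀ u ∈ perpU hf W, f x u = 0) : x ∈ W := by
  obtain ⟨a, ha, b, hb, rfl⟩ := perp_decomp hf W hW x
  have hb0 : b = 0 := by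
    by_contra hb0
    obtain ⟨⟨u, hu, hub⟩, -⟩ := perpU_nondeg hf W hW b hb hb0
    apply hub
    apply f_swap_eq_zero hf
    have h1 := h u hu
    rw [hf.add_left, f_swap_eq_zero hf _ _ (hu a ha), zero_add] at h1
    exact h1
  rw [hb0, add_zero]
  exact ha

lemma finrank_perpU : Module.finrank F W + Module.finrank F (perpU hf W) = n := by
  have hc : IsCompl W (perpU hf W) := by
    constructor
    · rw [disjoint_iff, eq_bot_iff]
      intro x hx
      rw [Submodule.mem_bot]
      exact perp_inf hf W hW x hx.1 hx.2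
    · rw [codisjoint_iff, eq_top_iff]
      intro x _
      obtain ⟨a, ha, b, hb, rfl⟩ := perp_decomp hf W hW x
      exact Submodule.add_mem_sup ha hb
  have := Submodule.finrank_add_eq_of_isCompl hc
  rw [Module.finrank_fintype_fun_eq_card, Fintype.card_fin] at this
  exact this

end Cfsg.Agent.Lib.Helper8.SURel
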