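import Mathlib
import Cfsg.Agent.Lib.Helper8.SURelC

/-!
# Unitary geometry: lemmas relative to a non-degenerate subspace (helper8)
-/

set_option autoImplicit false

namespace Cfsg.Agent.Lib.Helper8.SURel

open Cfsg Matrix Cfsg.Agent.S5631 Cfsg.Agent.S5643 Cfsg.Agent.Lib.Helper8.Unitary
  Cfsg.Agent.Lib.Helper8.SUGen Cfsg.Agent.Lib.Helper8.SUMax

variable {n : ℕ} {F : Type*} [Field F] [Fintype F] {σ : F ≃+* F}
variable {f : (Fin n → F) → (Fin n → F) → F}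
variable (hf : Cfsg.Geo.IsUnitaryForm σ f)
variable (U : Submodule F (Fin n → F)) (hU : Cfsg.Geo.IsNondegenerateOn f U)
include hf hU

/-- transitivity of `TTsub U` on nonzero vectors of `U` of equal norm -/
lemma rel_trans (hm : 4 ≤ Module.finrank F U) (b b' : Fin n → F) (hb : b ∈ U) (hb' : b' ∈ U)
    (hb0 : b ≠ 0) (hb'0 : b' ≠ 0) (h : f b b = f b' b') :
    ∃ t ∈ TTsub hf U, (t : Matrix (Fin n) (Fin n) F) *ᵥ b = b' := by
  obtain ⟨c, rfl⟩ := iota_surj U b hb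
  obtain ⟨c', rfl⟩ := iota_surj U b' hb'
  have hc0 : c ≠ 0 := by
    rintro rfl
    exact hb0 (map_zero _)
  have hc'0 : c' ≠ 0 := by
    rintro rfl
    exact hb'0 (map_zero _)
  obtain ⟨t₀, ht₀, e⟩ := trans_norm (fU_unitary hf U hU) (by omega) (Good.of_four hm) c c' hc0 hc'0 h
  obtain ⟨t, ht, et⟩ := lift_TT hf U hU t₀ ht₀
  exact ⟨t, ht, by rw [et, e]⟩

/-- every vector of `U` is a sum of two isotropic vectors of `U` -/
lemma rel_iso_decomp2 (hm : 2 ≤ Module.finrank F U) (x : Fin n → F) (hx : x ∈ U) :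
    ∃ y₁ ∈ U, ∃ y₂ ∈ U, f y₁ y₁ = 0 ∧ f y₂ y₂ = 0 ∧ x = y₁ + y₂ := by
  obtain ⟨c, rfl⟩ := iota_surj U x hx
  obtain ⟨c₁, c₂, h1, h2, rfl⟩ := iso_decomp2 (fU_unitary hf U hU) hm c
  exact ⟨iota U c₁, iota_mem U c₁, iota U c₂, iota_mem U c₂, h1, h2, map_add _ _ _⟩

/-- a nonzero vector of `U` of prescribed norm -/
lemma rel_represent_ne (hm : 2 ≤ Module.finrank F U) (ρ : F) (hρ : σ ρ = ρ) :
    ∃ b ∈ U, b ≠ 0 ∧ f b b = ρ := by
  obtain ⟨c, hc0, hc⟩ := represent_ne (fU_unitary hf U hU) hm ρ hρ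
  exact ⟨iota U c, iota_mem U c, fun h => hc0 (iota_eq_zero U c h), hc⟩

/-- two vectors of `U` with prescribed norms and inner product -/
lemma rel_prescribe_pair (hm : 4 ≤ Module.finrank F U) (ρ ρ' η : F) (hρ : σ ρ = ρ)
    (hρ' : σ ρ' = ρ') :
    ∃ b ∈ U, ∃ b' ∈ U, f b b = ρ ∧ f b' b' = ρ' ∧ f b b' = η ∧ b' ≠ 0 ∧
      ∀ κ : F, b + κ • b' ≠ 0 := by
  obtain ⟨c, c', h1, h2, h3, h4, h5⟩ :=
    prescribe_pair (fU_unitary hf U hU) hm ρ ρ' η hρ hρ'
  refine ⟨iota U c, iota_mem U c, iota U c', iota_mem U c', h1, h2, h3,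
    fun h => h4 (iota_eq_zero U c' h), fun κ h => h5 κ ?_⟩
  apply iota_eq_zero U
  rw [map_add, map_smul]
  exact h

/-- irreducibility of `U` under the transvections with centre in `U` -/
lemma rel_irred (Y : Submodule F (Fin n → F)) (hYU : Y ≤ U) (hY : Y ≠ ⊥)
    (hinv : ∀ (u : Fin n → F) (hu : f u u = 0) (z : F), u ∈ U → z + σ z = 0 → ∀ y ∈ Y,
      ((ut hf u hu z : GL (Fin n) F) : Matrix (Fin n) (Fin n) F) *ᵥ y ∈ Y) : U ≤ Y := by
  obtain ⟨y₀, hy₀Y, hy₀0⟩ := Submodule.exists_mem_ne_zero_of_ne_bot hY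
  by_cases hm : 2 ≤ Module.finrank F U
  · have hY' : Y.comap (iota U) ≠ ⊥ := by
      obtain ⟨c, hc⟩ := iota_surj U y₀ (hYU hy₀Y)
      intro h
      have hc' : c ∈ Y.comap (iota U) := by
        rw [Submodule.mem_comap, hc]; exact hy₀Y
      rw [h, Submodule.mem_bot] at hc'
      rw [hc', map_zero] at hc
      exact hy₀0 hc.symm
    have htop := irred (fU_unitary hf U hU) hm (Y.comap (iota U)) hY' (by
      intro c hc z hz y hy
      rw [Submodule.mem_comap] at hy ⊢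
      have hc' : f (iota U c) (iota U c) = 0 := hc
      rw [← ut_iota hf U hU c hc hc' z y]
      exact hinv (iota U c) hc' z (iota_mem U c) hz _ hy)
    intro x hx
    obtain ⟨c, rfl⟩ := iota_surj U x hx
    have : c ∈ Y.comap (iota U) := by rw [htop]; exact Submodule.mem_top
    exact this
  · have hpos : 0 < Module.finrank F U := by
      rw [Module.finrank_pos_iff_exists_ne_zero]
      exact ⟨⟨y₀, hYU hy₀Y⟩, fun h => hy₀0 (congrArg Subtype.val h)⟩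
    have h1 : Module.finrank F U = 1 := by omega
    intro x hx
    have hne : (⟨y₀, hYU hy₀Y⟩ : U) ≠ 0 := fun h => hy₀0 (congrArg Subtype.val h)
    obtain ⟨c, hc⟩ := (finrank_eq_one_iff_of_nonzero' (⟨y₀, hYU hy₀Y⟩ : U) hne).1 h1 ⟨x, hx⟩
    have hc' : c • y₀ = x := congrArg Subtype.val hc
    rw [← hc']
    exact Y.smul_mem c hy₀Y

end Cfsg.Agent.Lib.Helper8.SURel
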