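import Mathlib
import Cfsg.Agent.Lib.Helper8.RootClassB
import Cfsg.Agent.Lib.Helper8.SUConjC
import Cfsg.Agent.S0283

/-!
# The `SL₂` attached to a hyperbolic pair of a unitary space (helper8)
-/

set_option autoImplicit false

namespace Cfsg.Agent.Lib.Helper8.SURoot

open Cfsg Matrix Cfsg.Agent.S5631 Cfsg.Agent.S5643 Cfsg.Agent.Lib.Helper8.Unitary
  Cfsg.Agent.Lib.Helper8.SUGen Cfsg.Agent.Lib.Helper8.SUMax Cfsg.Agent.Lib.Helper8.SUConj
  Cfsg.Agent.S0283 Cfsg.Agent.S5016

variable {n : ℕ} {F : Type*} [Field F] {σ : F ≃+* F} {f : (Fin n → F) → (Fin n → F) → F}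
variable (hf : Cfsg.Geo.IsUnitaryForm σ f)

/-- the matrix acting as `[[a,b],[c,d]]` on the hyperbolic pair `(u,v)` and trivially on its perp -/
noncomputable def plM (f : (Fin n → F) → (Fin n → F) → F) (u v : Fin n → F) (a b c d : F) :
    Matrix (Fin n) (Fin n) F :=
  tvM ((a - 1) • u + c • v) (flatU f v) + tvM (b • u + (d - 1) • v) (flatU f u) - 1

include hf in
lemma plM_mulVec (u v : Fin n → F) (a b c d : F) (x : Fin n → F) :
    plM f u v a b c d *ᵥ x =
      x + f x v • ((a - 1) • u + c • v) + f x u • (b • u + (d - 1) • v) := by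
  rw [plM, Matrix.sub_mulVec, Matrix.add_mulVec, tvM_mulVec, tvM_mulVec, Matrix.one_mulVec,
    flatU_dot hf, flatU_dot hf]
  abel

include hf in
lemma plM_mul {u v : Fin n → F} (hp : HP f u v) (a b c d a' b' c' d' : F) :
    plM f u v a b c d * plM f u v a' b' c' d' =
      plM f u v (a * a' + b * c') (a * b' + b * d') (c * a' + d * c') (c * b' + d * d') := by
  rw [Matrix.ext_iff_mulVec]
  intro x
  rw [← Matrix.mulVec_mulVec, plM_mulVec hf, plM_mulVec hf, plM_mulVec hf]
  simp only [hf.add_left, hf.smul_left, hp.uu, hp.vv, hp.uv, HP.vu hf hp]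
  match_scalars <;> ring

include hf in
lemma plM_one (u v : Fin n → F) : plM f u v 1 0 0 1 = 1 := by
  rw [Matrix.ext_iff_mulVec]
  intro x
  rw [plM_mulVec hf, Matrix.one_mulVec]
  simp

include hf in
lemma plM_u {u v : Fin n → F} (hp : HP f u v) (a b c d : F) :
    plM f u v a b c d *ᵥ u = a • u + c • v := by
  rw [plM_mulVec hf, hp.uu, hp.uv]
  match_scalars <;> ring

include hf in
lemma plM_v {u v : Fin n → F} (hp : HP f u v) (a b c d : F) :
    plM f u v a b c d *ᵥ v = b • u + d • v := by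
  rw [plM_mulVec hf, hp.vv, HP.vu hf hp]
  match_scalars <;> ring

include hf in
lemma plM_inj {u v : Fin n → F} (hp : HP f u v) {a b c d a' b' c' d' : F}
    (h : plM f u v a b c d = plM f u v a' b' c' d') : a = a' ∧ b = b' ∧ c = c' ∧ d = d' := by
  have h1 := plM_u hf hp a b c d
  rw [h, plM_u hf hp] at h1
  have h2 := plM_v hf hp a b c d
  rw [h, plM_v hf hp] at h2
  have e1 := congrArg (fun x => f x v) h1
  have e2 := congrArg (fun x => f x u) h1
  have e3 := congrArg (fun x => f x v) h2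
  have e4 := congrArg (fun x => f x u) h2
  simp only [hf.add_left, hf.smul_left, hp.uu, hp.vv, hp.uv, HP.vu hf hp, mul_one, mul_zero,
    add_zero, zero_add] at e1 e2 e3 e4
  exact ⟨e1.symm, e3.symm, e2.symm, e4.symm⟩

section Hom

variable {L : Type*} [Field L] (ι : L →+* F) (ε : F)

/-- the image of `g ∈ SL₂(L)` -/
noncomputable def plS (f : (Fin n → F) → (Fin n → F) → F) (u v : Fin n → F)
    (g : Matrix.SpecialLinearGroup (Fin 2) L) : Matrix (Fin n) (Fin n) F :=
  plM f u v (ι (g 0 0)) (ε * ι (g 0 1)) (ε⁻¹ * ι (g 1 0)) (ι (g 1 1))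

include hf in
lemma plS_mul {u v : Fin n → F} (hp : HP f u v) (hε0 : ε ≠ 0)
    (g g' : Matrix.SpecialLinearGroup (Fin 2) L) :
    plS ι ε f u v (g * g') = plS ι ε f u v g * plS ι ε f u v g' := by
  rw [plS, plS, plS, plM_mul hf hp]
  have e00 : (g * g') 0 0 = g 0 0 * g' 0 0 + g 0 1 * g' 1 0 := by
    rw [Matrix.SpecialLinearGroup.coe_mul, Matrix.mul_apply, Fin.sum_univ_two]
  have e01 : (g * g') 0 1 = g 0 0 * g' 0 1 + g 0 1 * g' 1 1 := by
    rw [Matrix.SpecialLinearGroup.coe_mul, Matrix.mul_apply, Fin.sum_univ_two]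
  have e10 : (g * g') 1 0 = g 1 0 * g' 0 0 + g 1 1 * g' 1 0 := by
    rw [Matrix.SpecialLinearGroup.coe_mul, Matrix.mul_apply, Fin.sum_univ_two]
  have e11 : (g * g') 1 1 = g 1 0 * g' 0 1 + g 1 1 * g' 1 1 := by
    rw [Matrix.SpecialLinearGroup.coe_mul, Matrix.mul_apply, Fin.sum_univ_two]
  rw [e00, e01, e10, e11]
  simp only [map_add, map_mul]
  congr 1
  · field_simp
  · ring
  · field_simp
  · field_simp

include hf in
lemma plS_one (u v : Fin n → F) : plS ι ε f u v (1 : Matrix.SpecialLinearGroup (Fin 2) L) = 1 := by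
  rw [plS]
  simp only [Matrix.SpecialLinearGroup.coe_one, Matrix.one_apply_eq, map_one, ne_eq, zero_ne_one,
    not_false_eq_true, Matrix.one_apply_ne, one_ne_zero, map_zero, mul_zero]
  exact plM_one hf u v

/-- the homomorphism `SL₂(L) → GL_n(F)` attached to a hyperbolic pair -/
noncomputable def plHom {u v : Fin n → F} (hp : HP f u v) (hε0 : ε ≠ 0) :
    Matrix.SpecialLinearGroup (Fin 2) L →* GL (Fin n) F :=
  MonoidHom.toHomUnits
    { toFun := plS ι ε f u v
      map_one' := plS_one hf ι ε u v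
      map_mul' := plS_mul hf ι ε hp hε0 }

lemma plHom_coe {u v : Fin n → F} (hp : HP f u v) (hε0 : ε ≠ 0)
    (g : Matrix.SpecialLinearGroup (Fin 2) L) :
    ((plHom hf ι ε hp hε0 g : GL (Fin n) F) : Matrix (Fin n) (Fin n) F) = plS ι ε f u v g := rfl

lemma plHom_injective {u v : Fin n → F} (hp : HP f u v) (hε0 : ε ≠ 0) :
    Function.Injective (plHom hf ι ε hp hε0) := by
  intro g g' h
  have h1 : plS ι ε f u v g = plS ι ε f u v g' := by
    rw [← plHom_coe hf ι ε hp hε0, ← plHom_coe hf ι ε hp hε0, h]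
  obtain ⟨e1, e2, e3, e4⟩ := plM_inj hf hp h1
  have hε0' : ε⁻¹ ≠ 0 := inv_ne_zero hε0
  apply sl2_ext
  · exact ι.injective e1
  · exact ι.injective (mul_left_cancel₀ hε0 e2)
  · exact ι.injective (mul_left_cancel₀ hε0' e3)
  · exact ι.injective e4

lemma plHom_up {u v : Fin n → F} (hp : HP f u v) (hε0 : ε ≠ 0) (t : L) :
    plHom hf ι ε hp hε0 (up t) = ut hf u hp.uu (σ (ε * ι t)) := by
  apply GL_ext
  intro x
  rw [plHom_coe, plS, plM_mulVec hf, ut_mulVec, hf.involutive]
  simp only [up_coe, Matrix.of_apply, Matrix.cons_val', Matrix.cons_val_zero, Matrix.cons_val_one,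
    Matrix.cons_val_fin_one, map_one, map_zero, mul_zero, sub_self, zero_smul, add_zero, smul_zero]
  match_scalars <;> ring

lemma plHom_lo {u v : Fin n → F} (hp : HP f u v) (hε0 : ε ≠ 0) (t : L) :
    plHom hf ι ε hp hε0 (lo t) = ut hf v hp.vv (σ (ε⁻¹ * ι t)) := by
  apply GL_ext
  intro x
  rw [plHom_coe, plS, plM_mulVec hf, ut_mulVec, hf.involutive]
  simp only [lo_coe, Matrix.of_apply, Matrix.cons_val', Matrix.cons_val_zero, Matrix.cons_val_one,
    Matrix.cons_val_fin_one, map_one, map_zero, mul_zero, sub_self, zero_smul, add_zero, smul_zero,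
    zero_add]
  match_scalars <;> ring

end Hom

end Cfsg.Agent.Lib.Helper8.SURoot
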