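import Mathlib
import Cfsg.Agent.Lib.Helper8.SURootA

/-!
# Unitary transvection subgroups form a transvection system (helper8)
-/

set_option autoImplicit false

namespace Cfsg.Agent.Lib.Helper8.SURoot

open Cfsg Matrix Cfsg.Agent.S5631 Cfsg.Agent.S5643 Cfsg.Agent.Lib.Helper8.Unitary
  Cfsg.Agent.Lib.Helper8.SUGen Cfsg.Agent.Lib.Helper8.SUMax Cfsg.Agent.Lib.Helper8.SUConj
  Cfsg.Agent.S0283 Cfsg.Agent.S5016 Cfsg.Agent.Lib.Helper8.RootClass Cfsg.Agent.H2.RankOne

variable {n : ℕ} {F : Type*} [Field F] {σ : F ≃+* F} {f : (Fin n → F) → (Fin n → F) → F}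
variable (hf : Cfsg.Geo.IsUnitaryForm σ f)

section Hom

variable {L : Type*} [Field L] (ι : L →+* F) (ε : F)
  (hι : ∀ x, σ (ι x) = ι x) (hfix : ∀ y : F, σ y = y → ∃ x : L, ι x = y) (hε : ε + σ ε = 0)

include hι hfix hε in
lemma map_upper {u v : Fin n → F} (hp : HP f u v) (hε0 : ε ≠ 0) :
    (upperUnipotentSL2 L).map (plHom hf ι ε hp hε0) = rootGL hf u hp.uu := by
  have hσε : σ ε = -ε := by linear_combination hε
  ext g
  constructor
  · rintro ⟨s, hs, rfl⟩
    obtain ⟨t, rfl⟩ := mem_upper.1 hs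
    rw [plHom_up]
    refine ⟨_, ?_, rfl⟩
    rw [hf.involutive, map_mul, hι, hσε]; ring
  · rintro ⟨z, hz, rfl⟩
    have hσz : σ z = -z := by linear_combination hz
    obtain ⟨t, ht⟩ := hfix (σ z / ε) (by
      rw [map_div₀, hf.involutive, hσε, hσz]; field_simp)
    refine ⟨up t, mem_upper.2 ⟨t, rfl⟩, ?_⟩
    rw [plHom_up, ht]
    have : ε * (σ z / ε) = σ z := by field_simp
    rw [this, hf.involutive]

include hι hfix hε in
lemma map_lower {u v : Fin n → F} (hp : HP f u v) (hε0 : ε ≠ 0) :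
    (lowerUnipotentSL2 L).map (plHom hf ι ε hp hε0) = rootGL hf v hp.vv := by
  have hσε : σ ε = -ε := by linear_combination hε
  ext g
  constructor
  · rintro ⟨s, hs, rfl⟩
    obtain ⟨t, rfl⟩ := mem_lower.1 hs
    rw [plHom_lo]
    refine ⟨_, ?_, rfl⟩
    rw [hf.involutive, map_mul, map_inv₀, hι, hσε]
    field_simp
    ring
  · rintro ⟨z, hz, rfl⟩
    have hσz : σ z = -z := by linear_combination hz
    obtain ⟨t, ht⟩ := hfix (ε * σ z) (by
      rw [map_mul, hf.involutive, hσε, hσz]; ring)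
    refine ⟨lo t, mem_lower.2 ⟨t, rfl⟩, ?_⟩
    rw [plHom_lo, ht]
    have : ε⁻¹ * (ε * σ z) = σ z := by field_simp
    rw [this, hf.involutive]

end Hom

/-- scaling the centre does not change the root subgroup -/
lemma rootGL_smul (c : F) (hc : c ≠ 0) (u : Fin n → F) (hu : f u u = 0)
    (hcu : f (c • u) (c • u) = 0) : rootGL hf (c • u) hcu = rootGL hf u hu := by
  have hσc : σ c ≠ 0 := by rw [Ne, map_eq_zero]; exact hc
  have hN : σ (c * σ c) = c * σ c := by rw [map_mul, hf.involutive]; ring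
  ext g
  constructor
  · rintro ⟨z, hz, rfl⟩
    refine ⟨z * (c * σ c), ?_, ut_smul hf c u hu hcu z⟩
    rw [map_mul, hN]
    linear_combination (c * σ c) * hz
  · rintro ⟨z, hz, rfl⟩
    refine ⟨z / (c * σ c), ?_, ?_⟩
    · rw [map_div₀, hN]
      have : c * σ c ≠ 0 := mul_ne_zero hc hσc
      field_simp
      linear_combination hz
    · rw [ut_smul hf c u hu hcu]
      congr 1
      field_simp

/-- conjugating a root subgroup by an isometry of determinant one -/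
lemma rootGL_conj (g : GL (Fin n) F) (hg : g ∈ SUf f) (u : Fin n → F) (hu : f u u = 0)
    (hgu : f ((g : Matrix (Fin n) (Fin n) F) *ᵥ u) ((g : Matrix (Fin n) (Fin n) F) *ᵥ u) = 0) :
    conjBy (rootGL hf u hu) g = rootGL hf _ hgu := by
  ext x
  rw [mem_conjBy]
  constructor
  · rintro ⟨z, hz, e⟩
    refine ⟨z, hz, ?_⟩
    rw [← conj_ut hf g hg u hu hgu z, ← e]
    group
  · rintro ⟨z, hz, rfl⟩
    refine ⟨z, hz, ?_⟩
    rw [← conj_ut hf g hg u hu hgu z]
    group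

lemma rootGL_ne_bot (u : Fin n → F) (hu : f u u = 0) (hu0 : u ≠ 0) : rootGL hf u hu ≠ ⊥ := by
  intro h
  obtain ⟨ζ, hζ0, hζ⟩ := exists_Z hf.ne_refl hf.involutive
  have h1 : ut hf u hu ζ ∈ rootGL hf u hu := ⟨ζ, hζ, rfl⟩
  rw [h, Subgroup.mem_bot] at h1
  exact ut_ne_one hf u hu hu0 ζ hζ0 h1

lemma rootGL_le_SUf (u : Fin n → F) (hu : f u u = 0) : rootGL hf u hu ≤ SUf f := by
  rintro _ ⟨z, hz, rfl⟩
  exact TT_le_SUf hf (ut_mem hf u hu z hz)

end Cfsg.Agent.Lib.Helper8.SURoot
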