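import Mathlib
import Cfsg.Agent.Lib.Helper8.SURootB

/-!
# Unitary transvection subgroups form a transvection system, continued (helper8)
-/

set_option autoImplicit false

namespace Cfsg.Agent.Lib.Helper8.SURoot

open Cfsg Matrix Cfsg.Agent.S5631 Cfsg.Agent.S5643 Cfsg.Agent.Lib.Helper8.Unitary
  Cfsg.Agent.Lib.Helper8.SUGen Cfsg.Agent.Lib.Helper8.SUMax Cfsg.Agent.Lib.Helper8.SUConj
  Cfsg.Agent.S0283 Cfsg.Agent.S5016 Cfsg.Agent.Lib.Helper8.RootClass Cfsg.Agent.H2.RankOne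

variable {n : ℕ} {F : Type*} [Field F] {σ : F ≃+* F} {f : (Fin n → F) → (Fin n → F) → F}
variable (hf : Cfsg.Geo.IsUnitaryForm σ f)

/-- the nonzero isotropic vectors -/
abbrev IsoPt (f : (Fin n → F) → (Fin n → F) → F) : Type _ := {p : Fin n → F // p ≠ 0 ∧ f p p = 0}

include hf in
theorem transvectionSystem [Fintype F] (hn : 2 ≤ n) {H : Type*} [Group H]
    (ψ : H →* GL (Fin n) F) (hψ : Function.Injective ψ)
    {L : Type*} [Field L] (ι : L →+* F) (hι : ∀ x, σ (ι x) = ι x)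
    (hfix : ∀ y : F, σ y = y → ∃ x : L, ι x = y)
    (A : IsoPt f → Subgroup H)
    (hA : ∀ p : IsoPt f, (A p).map ψ = rootGL hf p.1 p.2.2)
    (hgen : (⨆ p, A p) = ⊤) :
    TransvectionSystem L A (fun p p' => f p.1 p'.1 = 0) := by
  have hSU : ∀ g : H, ψ g ∈ SUf f := by
    intro g
    have h1 : ψ g ∈ (⊤ : Subgroup H).map ψ := ⟨g, Subgroup.mem_top g, rfl⟩
    rw [← hgen, Subgroup.map_iSup] at h1
    have h2 : (⨆ p, (A p).map ψ) ≤ SUf f := by
      rw [iSup_le_iff]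
      intro p
      rw [hA p]
      exact rootGL_le_SUf hf _ _
    exact h2 h1
  have hmem : ∀ (p : IsoPt f) (a : H), a ∈ A p → ψ a ∈ rootGL hf p.1 p.2.2 := by
    intro p a ha
    rw [← hA p]
    exact ⟨a, ha, rfl⟩
  refine ⟨?_, ?_, ?_, hgen, ?_, ?_, ?_, ?_⟩
  · obtain ⟨u, hu0, hu⟩ := exists_iso hf hn
    exact ⟨⟨u, hu0, hu⟩⟩
  · intro p a ha b hb
    apply hψ
    rw [map_mul, map_mul]
    exact rootGL_comm hf _ _ _ _ (hmem p a ha) (hmem p b hb)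
  · intro p h
    have := hA p
    rw [h, Subgroup.map_bot] at this
    exact rootGL_ne_bot hf p.1 p.2.2 p.2.1 this.symm
  · intro p g
    have hiso := SUf_iso _ (hSU g)
    have hgp0 : ((ψ g : GL (Fin n) F) : Matrix (Fin n) (Fin n) F) *ᵥ p.1 ≠ 0 := by
      intro h0
      apply p.2.1
      rw [← inv_mulVec_mulVec (ψ g) p.1, h0, Matrix.mulVec_zero]
    have hgp : f (((ψ g : GL (Fin n) F) : Matrix (Fin n) (Fin n) F) *ᵥ p.1)
        (((ψ g : GL (Fin n) F) : Matrix (Fin n) (Fin n) F) *ᵥ p.1) = 0 := by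
      rw [hiso, p.2.2]
    refine ⟨⟨_, hgp0, hgp⟩, ?_⟩
    apply Subgroup.map_injective hψ
    rw [map_conjBy, hA, hA]
    exact rootGL_conj hf (ψ g) (hSU g) p.1 p.2.2 hgp
  · intro p p' hpp a ha b hb
    apply hψ
    rw [map_mul, map_mul]
    obtain ⟨z, -, e1⟩ := hmem p a ha
    obtain ⟨z', -, e2⟩ := hmem p' b hb
    rw [e1, e2]
    exact ut_comm_of_perp hf p.1 p'.1 p.2.2 p'.2.2 hpp z z'
  · intro p p' hpp
    have hc : f p.1 p'.1 ≠ 0 := hpp
    have hσc : σ (f p.1 p'.1) ≠ 0 := by simpa using hc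
    have hσc' : (σ (f p.1 p'.1))⁻¹ ≠ 0 := inv_ne_zero hσc
    have hp : HP f p.1 ((σ (f p.1 p'.1))⁻¹ • p'.1) :=
      ⟨p.2.2, by rw [hf.smul_left, f_smul_right hf, p'.2.2]; ring,
        by rw [f_smul_right hf, map_inv₀, hf.involutive, inv_mul_cancel₀ hc]⟩
    obtain ⟨ε, hε0, hε⟩ := exists_Z hf.ne_refl hf.involutive
    apply psl2pair_of_hom' ψ hψ (plHom hf ι ε hp hε0) (plHom_injective hf ι ε hp hε0)
    · rw [map_upper hf ι ε hι hfix hε hp hε0, hA]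
    · rw [map_lower hf ι ε hι hfix hε hp hε0, hA,
        rootGL_smul hf _ hσc' p'.1 p'.2.2 hp.vv]
  · intro p p' hpp
    obtain ⟨w, hww, h1, h2⟩ := exists_link hf p.1 p'.1 p.2.1 p'.2.1 p.2.2 p'.2.2 hpp
    have hw0 : w ≠ 0 := by
      intro h0
      apply h1
      rw [h0, f_zero_right hf]
    exact ⟨⟨w, hw0, hww⟩, h1, h2⟩

end Cfsg.Agent.Lib.Helper8.SURoot
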