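import Mathlib
import Cfsg.Agent.H1.Hall
import Cfsg.Agent.Lib.Helper8.SameOrdA

/-!
# S4022, Case B core: `G = N ⋊ C` with `N` an abelian normal Sylow `r`-subgroup
-/

set_option autoImplicit false
set_option linter.style.haveILetI false
set_option linter.unusedSectionVars false
set_option linter.unusedVariables false

namespace Cfsg.Agent.Lib.Helper8.SameOrd

open Cfsg.Agent.H1
open scoped Pointwise

universe u

section conj

variable {G : Type u} [Group G]

/-- conjugate of a subgroup -/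
abbrev cj (g : G) (H : Subgroup G) : Subgroup G := H.map (MulAut.conj g).toMonoidHom

theorem cj_cj (g h : G) (H : Subgroup G) : cj g (cj h H) = cj (g * h) H := by
  ext x
  simp only [mem_map_conj]
  have : h⁻¹ * (g⁻¹ * x * g) * h = (g * h)⁻¹ * x * (g * h) := by group
  rw [this]

theorem cj_one (H : Subgroup G) : cj 1 H = H := by
  ext x
  rw [mem_map_conj]
  simp

theorem card_cj (g : G) (H : Subgroup G) : Nat.card (cj g H) = Nat.card H :=
  Subgroup.card_map_of_injective (MulAut.conj g).injective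

theorem cj_inf_normal (g : G) (H N : Subgroup G) [N.Normal] : cj g (H ⊓ N) = cj g H ⊓ N := by
  rw [cj, Subgroup.map_inf _ _ _ (MulAut.conj g).injective, map_conj_normal N g]

theorem cj_sup (g : G) (H K : Subgroup G) : cj g (H ⊔ K) = cj g H ⊔ cj g K :=
  Subgroup.map_sup _ _ _

theorem cj_mono {g : G} {H K : Subgroup G} (h : H ≤ K) : cj g H ≤ cj g K := Subgroup.map_mono h

theorem cj_eq_self_of_mem {g : G} {H : Subgroup G} (hg : g ∈ H) : cj g H = H := by
  ext x
  rw [mem_map_conj]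
  constructor
  · intro h
    have := H.mul_mem (H.mul_mem hg h) (H.inv_mem hg)
    have e : g * (g⁻¹ * x * g) * g⁻¹ = x := by group
    rwa [e] at this
  · intro h
    exact H.mul_mem (H.mul_mem (H.inv_mem hg) h) hg

theorem mem_conj_smul {g x : G} {H : Subgroup G} : x ∈ MulAut.conj g • H ↔ g⁻¹ * x * g ∈ H := by
  rw [Subgroup.mem_pointwise_smul_iff_inv_smul_mem, MulAut.smul_def, ← map_inv,
    MulAut.conj_apply, inv_inv]

/-- transfer of conjugacy from a subgroup -/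
theorem Cj.of_subgroupOf (C : Subgroup G) {A B : Subgroup G} (hA : A ≤ C) (hB : B ≤ C)
    (h : Cj (A.subgroupOf C) (B.subgroupOf C)) : ∃ c ∈ C, B = cj c A := by
  obtain ⟨c, hc⟩ := h
  refine ⟨c, c.2, ?_⟩
  ext x
  rw [mem_map_conj]
  constructor
  · intro hx
    have hxC : x ∈ C := hB hx
    have h1 : (⟨x, hxC⟩ : C) ∈ B.subgroupOf C := by
      rw [Subgroup.mem_subgroupOf]; exact hx
    rw [hc, mem_map_conj, Subgroup.mem_subgroupOf] at h1
    simpa using h1
  · intro hx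
    have hxC : x ∈ C := by
      have h1 := hA hx
      have h2 := C.mul_mem (C.mul_mem c.2 h1) (C.inv_mem c.2)
      have e : (c : G) * ((c : G)⁻¹ * x * (c : G)) * (c : G)⁻¹ = x := by group
      rwa [e] at h2
    have h1 : (⟨x, hxC⟩ : C) ∈ B.subgroupOf C := by
      rw [hc, mem_map_conj, Subgroup.mem_subgroupOf]
      simpa using hx
    rw [Subgroup.mem_subgroupOf] at h1
    exact h1

theorem card_subgroupOf_of_le {A C : Subgroup G} (hA : A ≤ C) :
    Nat.card (A.subgroupOf C) = Nat.card A := by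
  rw [← Subgroup.card_map_of_injective C.subtype_injective, Subgroup.map_subgroupOf_eq_of_le hA]

end conj

theorem pow_mul_eq {r b b' e e' : ℕ} (hr : r.Prime) (he : e.Coprime r) (he' : e'.Coprime r)
    (h : r ^ b * e = r ^ b' * e') : r ^ b = r ^ b' ∧ e = e' := by
  have h1 : r ^ b ∣ r ^ b' := by
    have : r ^ b ∣ r ^ b' * e' := ⟨e, h.symm⟩
    exact (Nat.Coprime.pow_left b he'.symm).dvd_of_dvd_mul_right this
  have h2 : r ^ b' ∣ r ^ b := by
    have : r ^ b' ∣ r ^ b * e := ⟨e', h⟩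
    exact (Nat.Coprime.pow_left b' he.symm).dvd_of_dvd_mul_right this
  have h3 : r ^ b = r ^ b' := Nat.dvd_antisymm h1 h2
  refine ⟨h3, ?_⟩
  rw [h3] at h
  exact Nat.eq_of_mul_eq_mul_left (pow_pos hr.pos b') h

section core

variable {G : Type u} [Group G] [Finite G]

theorem caseB_core {r : ℕ} [hr : Fact r.Prime] (hX : X r G) (N : Subgroup G) [hNn : N.Normal]
    (hNp : IsPGroup r N) (hNab : ∀ a ∈ N, ∀ b ∈ N, a * b = b * a)
    (hNidx : (N.index).Coprime r)
    (ihS : ∀ S : Subgroup G, ¬ r ∣ Nat.card S → Concl ↥S) : Concl G := by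
  classical
  haveI := hX.solv
  obtain ⟨a, ha⟩ := IsPGroup.iff_card.mp hNp
  have hGcard : Nat.card G = N.index * Nat.card N := (Subgroup.index_mul_card N).symm
  have hcop : (N.index).Coprime (Nat.card N) := by
    rw [ha]; exact Nat.Coprime.pow_right a hNidx
  obtain ⟨C, hC⟩ := hall_exists N.index (Nat.card N) hGcard hcop
  have hnd : ∀ m : ℕ, m.Coprime r → ¬ r ∣ m := fun m hm h =>
    (Nat.Prime.coprime_iff_not_dvd hr.out).mp hm.symm h
  have hCr : ¬ r ∣ Nat.card C := by rw [hC]; exact hnd _ hNidx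
  -- `C ⊔ N = ⊤`
  have hCN : C ⊔ N = ⊤ := by
    apply Subgroup.eq_top_of_card_eq
    apply Nat.dvd_antisymm (Subgroup.card_subgroup_dvd_card _)
    rw [hGcard]
    apply Nat.Coprime.mul_dvd_of_dvd_of_dvd hcop
    · rw [← hC]; exact Subgroup.card_dvd_of_le le_sup_left
    · exact Subgroup.card_dvd_of_le le_sup_right
  -- Step 1: normal form
  have step1 : ∀ H : Subgroup G, ∃ H' E : Subgroup G, Cj H H' ∧ E ≤ C ∧ E ≤ H' ∧
      H' = (H' ⊓ N) ⊔ E ∧ Nat.card ↥(H' ⊓ N) * Nat.card E = Nat.card H' ∧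
      (Nat.card E).Coprime r := by
    intro H
    have hDp : IsPGroup r (N.subgroupOf H) := hNp.comap_of_injective H.subtype Subtype.coe_injective
    obtain ⟨b, hb⟩ := IsPGroup.iff_card.mp hDp
    have hidx : ((N.subgroupOf H).index).Coprime r :=
      Nat.Coprime.coprime_dvd_left (Subgroup.relIndex_dvd_index_of_normal N H) hNidx
    have hHcard : Nat.card H = (N.subgroupOf H).index * Nat.card (N.subgroupOf H) :=
      (Subgroup.index_mul_card _).symm
    have hcopH : ((N.subgroupOf H).index).Coprime (Nat.card (N.subgroupOf H)) := by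
      rw [hb]; exact Nat.Coprime.pow_right b hidx
    obtain ⟨EH, hEH⟩ := hall_exists (G := ↥H) _ _ hHcard hcopH
    have hE0card : Nat.card (EH.map H.subtype) = (N.subgroupOf H).index := by
      rw [Subgroup.card_map_of_injective H.subtype_injective, hEH]
    have hE0H : EH.map H.subtype ≤ H := Subgroup.map_subtype_le EH
    have hE0cop : (Nat.card (EH.map H.subtype)).Coprime (Nat.card N) := by
      rw [hE0card, ha]; exact Nat.Coprime.pow_right a hidx
    obtain ⟨g, hg⟩ := hall_dominance N.index (Nat.card N) hGcard hcop C (EH.map H.subtype) hC hE0cop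
    have hDcard : Nat.card ↥(H ⊓ N) = Nat.card (N.subgroupOf H) := by
      rw [← Subgroup.card_map_of_injective H.subtype_injective, Subgroup.subgroupOf_map_subtype,
        inf_comm]
    refine ⟨cj g⁻¹ H, cj g⁻¹ (EH.map H.subtype), ⟨g⁻¹, rfl⟩, ?_, cj_mono hE0H, ?_, ?_, ?_⟩
    · intro x hx
      rw [mem_map_conj, inv_inv] at hx
      have := mem_conj_smul.mp (hg hx)
      have e : g⁻¹ * (g * x * g⁻¹) * g = x := by group
      rwa [e] at this
    · have hcard1 : Nat.card ↥(cj g⁻¹ H ⊓ N) = Nat.card (N.subgroupOf H) := by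
        rw [← cj_inf_normal, card_cj, hDcard]
      have hcard2 : Nat.card ↥(cj g⁻¹ (EH.map H.subtype)) = (N.subgroupOf H).index := by
        rw [card_cj, hE0card]
      have hle : (cj g⁻¹ H ⊓ N) ⊔ cj g⁻¹ (EH.map H.subtype) ≤ cj g⁻¹ H :=
        sup_le inf_le_left (cj_mono hE0H)
      symm
      apply Subgroup.eq_of_le_of_card_ge hle
      apply Nat.le_of_dvd Nat.card_pos
      rw [card_cj, hHcard]
      apply Nat.Coprime.mul_dvd_of_dvd_of_dvd hcopH
      · rw [← hcard2]; exact Subgroup.card_dvd_of_le le_sup_right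
      · rw [← hcard1]; exact Subgroup.card_dvd_of_le le_sup_left
    · rw [← cj_inf_normal, card_cj, card_cj, card_cj, hDcard, hE0card, hHcard, mul_comm]
    · rw [card_cj, hE0card]; exact hidx
  -- main argument
  intro H K hHK
  obtain ⟨H', EH, hHH', hEHC, hEHH, hHeq, hHcard, hEHr⟩ := step1 H
  obtain ⟨K', EK, hKK', hEKC, hEKK, hKeq, hKcard, hEKr⟩ := step1 K
  suffices h : Cj H' K' from (hHH'.trans h).trans hKK'.symm
  have hcard' : Nat.card H' = Nat.card K' := by rw [hHH'.card_eq, hKK'.card_eq, hHK]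
  -- the `r`-parts and `r'`-parts agree
  have hDHp : IsPGroup r ↥(H' ⊓ N) := hNp.to_le inf_le_right
  have hDKp : IsPGroup r ↥(K' ⊓ N) := hNp.to_le inf_le_right
  obtain ⟨b, hb⟩ := IsPGroup.iff_card.mp hDHp
  obtain ⟨b', hb'⟩ := IsPGroup.iff_card.mp hDKp
  have hparts : r ^ b = r ^ b' ∧ Nat.card EH = Nat.card EK := by
    apply pow_mul_eq hr.out hEHr hEKr
    rw [← hb, ← hb', hHcard, hKcard, hcard']
  have hDcard : Nat.card ↥(H' ⊓ N) = Nat.card ↥(K' ⊓ N) := by rw [hb, hb', hparts.1]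
  -- conjugate `EH` to `EK` inside `C`
  have hCconcl : Concl ↥C := ihS C hCr
  have h1 : Cj (EH.subgroupOf C) (EK.subgroupOf C) :=
    hCconcl _ _ (by rw [card_subgroupOf_of_le hEHC, card_subgroupOf_of_le hEKC, hparts.2])
  obtain ⟨c, hcC, hc⟩ := Cj.of_subgroupOf C hEHC hEKC h1
  -- replace `H'` by `H₁ = cj c H'`
  obtain ⟨H₁, hH₁⟩ : ∃ H₁ : Subgroup G, H₁ = cj c H' := ⟨_, rfl⟩
  suffices h : Cj H₁ K' from (Cj.trans ⟨c, hH₁⟩ h)
  have hH₁eq : H₁ = (H₁ ⊓ N) ⊔ EK := by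
    rw [hH₁, hc, ← cj_inf_normal, ← cj_sup, ← hHeq]
  have hEKH₁ : EK ≤ H₁ := by rw [hH₁eq]; exact le_sup_right
  have hD₁card : Nat.card ↥(H₁ ⊓ N) = Nat.card ↥(K' ⊓ N) := by
    rw [hH₁, ← cj_inf_normal, card_cj, hDcard]
  -- conjugate `D = H₁ ⊓ N` to `D' = K' ⊓ N` by an element of `C`
  have hD₁p : IsPGroup r ↥(H₁ ⊓ N) := hNp.to_le inf_le_right
  obtain ⟨g, hg⟩ := hX.hD r hr.out (H₁ ⊓ N) (K' ⊓ N) hD₁p hDKp hD₁card
  have hgmem : g ∈ C ⊔ N := by rw [hCN]; exact Subgroup.mem_top g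
  obtain ⟨c₀, hc₀, n, hn, rfl⟩ := Subgroup.mem_sup_of_normal_right.mp hgmem
  have hnD : cj n (H₁ ⊓ N) = H₁ ⊓ N := by
    ext x
    rw [mem_map_conj]
    constructor
    · intro hx
      have hxN : n⁻¹ * x * n ∈ N := hx.2
      have hxN' : x ∈ N := by
        have := N.mul_mem (N.mul_mem hn hxN) (N.inv_mem hn)
        have e : n * (n⁻¹ * x * n) * n⁻¹ = x := by group
        rwa [e] at this
      have e : n⁻¹ * x * n = x := by
        have := hNab n⁻¹ (N.inv_mem hn) x hxN'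
        rw [this, mul_assoc, inv_mul_cancel, mul_one]
      rwa [e] at hx
    · intro hx
      have e : n⁻¹ * x * n = x := by
        have := hNab n⁻¹ (N.inv_mem hn) x hx.2
        rw [this, mul_assoc, inv_mul_cancel, mul_one]
      rwa [e]
  have hD' : K' ⊓ N = cj c₀ (H₁ ⊓ N) := by
    have h6 : cj (c₀ * n) (H₁ ⊓ N) = cj c₀ (H₁ ⊓ N) := by rw [← cj_cj, hnD]
    rw [hg]
    exact h6
  -- the stabilizer `S` of `D` in `C`
  obtain ⟨D, hDdef⟩ : ∃ D : Subgroup G, D = H₁ ⊓ N := ⟨_, rfl⟩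
  rw [← hDdef] at hD' hH₁eq
  obtain ⟨S, hSdef⟩ : ∃ S : Subgroup G, S = C ⊓ Subgroup.normalizer (D : Set G) := ⟨_, rfl⟩
  have hnormH : ∀ x ∈ H₁, cj x D = D := by
    intro x hx
    rw [hDdef, cj_inf_normal, cj_eq_self_of_mem hx]
  have hnormK : ∀ x ∈ K', cj x (K' ⊓ N) = K' ⊓ N := by
    intro x hx
    rw [cj_inf_normal, cj_eq_self_of_mem hx]
  have hmemS : ∀ x : G, x ∈ C → cj x D = D → x ∈ S := by
    intro x hxC hx
    rw [hSdef, Subgroup.mem_inf]
    refine ⟨hxC, ?_⟩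
    rw [Subgroup.mem_normalizer_iff]
    intro d
    constructor
    · intro hd
      rw [← hx]
      exact ⟨d, hd, rfl⟩
    · intro hd
      rw [← hx, mem_map_conj] at hd
      have e : x⁻¹ * (x * d * x⁻¹) * x = d := by group
      rwa [e] at hd
  have hSnorm : ∀ s ∈ S, cj s D = D := by
    intro s hs
    rw [hSdef, Subgroup.mem_inf] at hs
    have h2 := Subgroup.mem_normalizer_iff.mp hs.2
    ext x
    rw [mem_map_conj]
    constructor
    · intro hx
      have := (h2 _).mp hx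
      have e : s * (s⁻¹ * x * s) * s⁻¹ = x := by group
      rwa [e] at this
    · intro hx
      apply (h2 _).mpr
      have e : s * (s⁻¹ * x * s) * s⁻¹ = x := by group
      rwa [e]
  have hSC : S ≤ C := by rw [hSdef]; exact inf_le_left
  have hEKS : EK ≤ S := fun x hx => hmemS x (hEKC hx) (hnormH x (hEKH₁ hx))
  have hEKS' : cj c₀⁻¹ EK ≤ S := by
    intro y hy
    rw [mem_map_conj, inv_inv] at hy
    -- `y = c₀⁻¹ x c₀` with `x = c₀ y c₀⁻¹ ∈ EK`
    have hyC : y ∈ C := by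
      have := C.mul_mem (C.mul_mem (C.inv_mem hc₀) (hEKC hy)) hc₀
      have e : c₀⁻¹ * (c₀ * y * c₀⁻¹) * c₀ = y := by group
      rwa [e] at this
    apply hmemS y hyC
    have h3 := hnormK _ (hEKK hy)
    rw [hD', cj_cj] at h3
    -- cj (c₀ y c₀⁻¹ c₀) D = cj c₀ D
    have h4 : cj c₀⁻¹ (cj (c₀ * y * c₀⁻¹ * c₀) D) = cj c₀⁻¹ (cj c₀ D) := by rw [h3]
    rw [cj_cj, cj_cj] at h4
    have e1 : c₀⁻¹ * (c₀ * y * c₀⁻¹ * c₀) = y := by group
    have e2 : c₀⁻¹ * c₀ = 1 := by group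
    rw [e1, e2, cj_one] at h4
    exact h4
  have hSr : ¬ r ∣ Nat.card S := fun h => hCr (h.trans (Subgroup.card_dvd_of_le hSC))
  have hSconcl : Concl ↥S := ihS S hSr
  have h5 : Cj (EK.subgroupOf S) ((cj c₀⁻¹ EK).subgroupOf S) :=
    hSconcl _ _ (by rw [card_subgroupOf_of_le hEKS, card_subgroupOf_of_le hEKS', card_cj])
  obtain ⟨s, hsS, hs⟩ := Cj.of_subgroupOf S hEKS hEKS' h5
  -- `c' = c₀ * s`
  refine ⟨c₀ * s, ?_⟩
  have e1 : cj (c₀ * s) EK = EK := by
    rw [← cj_cj, ← hs, cj_cj]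
    have : c₀ * c₀⁻¹ = 1 := by group
    rw [this, cj_one]
  have e2 : cj (c₀ * s) D = K' ⊓ N := by
    rw [← cj_cj, hSnorm s hsS, hD']
  rw [hKeq]
  conv_rhs => rw [hH₁eq]
  show K' ⊓ N ⊔ EK = cj (c₀ * s) (D ⊔ EK)
  rw [cj_sup, e1, e2]

end core

end Cfsg.Agent.Lib.Helper8.SameOrd
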