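import Mathlib
import Cfsg.Agent.H2.BG37b
import Cfsg.Agent.Lib.Helper8.IN5
import Cfsg.Agent.Lib.Helper8.SameOrdB

/-!
# S4022, Case B (reduction to the core) and the induction
-/

set_option autoImplicit false
set_option linter.style.haveILetI false
set_option linter.unusedSectionVars false
set_option linter.unusedVariables false

namespace Cfsg.Agent.Lib.Helper8.SameOrd

universe u

section caseB

variable {G : Type u} [Group G] [Finite G]

theorem caseB {r : ℕ} (hX : X r G)
    (ih : ∀ (Q : Type u) [Group Q] [Finite Q], Nat.card Q < Nat.card G → X r Q → Concl Q)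
    (hsub : ∀ C : Subgroup G, (r.Prime → ¬ r ∣ Nat.card C) → X r ↥C)
    (N : Subgroup G) [hNn : N.Normal] (q : ℕ) (hq : q.Prime)
    (hNab : ∀ a ∈ N, ∀ b ∈ N, a * b = b * a) (hNexp : ∀ a ∈ N, a ^ q = 1)
    (hNdvd : q ∣ Nat.card N) (hNne : Nat.card N ≠ q) : Concl G := by
  classical
  haveI : Fact q.Prime := ⟨hq⟩
  have hNp : IsPGroup q N := by
    intro x
    refine ⟨1, ?_⟩
    apply Subtype.ext
    rw [pow_one, Subgroup.coe_pow, Subgroup.coe_one]
    exact hNexp x x.2
  -- (B0) `q = r`
  have hqr : q = r := by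
    by_contra hne
    obtain ⟨Q, hNQ⟩ := hNp.exists_le_sylow
    haveI hQc : IsCyclic ↥(Q : Subgroup G) := hX.hC q hq hne Q
    haveI : IsCyclic ↥(N.subgroupOf (Q : Subgroup G)) := inferInstance
    haveI : IsCyclic ↥N :=
      isCyclic_of_surjective (Subgroup.subgroupOfEquivOfLe hNQ)
        (Subgroup.subgroupOfEquivOfLe hNQ).surjective
    obtain ⟨g, hg⟩ := IsCyclic.exists_generator (α := ↥N)
    have h1 : orderOf g = Nat.card N := orderOf_eq_card_of_forall_mem_zpowers hg
    have h2 : g ^ q = 1 := by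
      apply Subtype.ext
      rw [Subgroup.coe_pow, Subgroup.coe_one]
      exact hNexp g g.2
    have h3 : Nat.card N ∣ q := by rw [← h1]; exact orderOf_dvd_of_pow_eq_one h2
    rcases (Nat.dvd_prime hq).mp h3 with h | h
    · rw [h] at hNdvd
      exact hq.one_lt.ne' (Nat.dvd_one.mp hNdvd)
    · exact hNne h
  subst hqr
  obtain ⟨a, ha⟩ := IsPGroup.iff_card.mp hNp
  have ha2 : 2 ≤ a := by
    rcases Nat.lt_or_ge a 2 with h | h
    · exfalso
      interval_cases a
      · rw [ha, pow_zero] at hNdvd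
        exact hq.one_lt.ne' (Nat.dvd_one.mp hNdvd)
      · rw [pow_one] at ha
        exact hNne ha
    · exact h
  -- (B1) no element of order `q²`
  have hno : ∀ y : G, orderOf y ≠ q ^ 2 := by
    intro y hy
    have hdvd : q ^ 2 ∣ Nat.card ↥N := by rw [ha]; exact pow_dvd_pow q ha2
    obtain ⟨EN, hEN⟩ := Sylow.exists_subgroup_card_pow_prime q hdvd
    have hEcard : Nat.card (EN.map N.subtype) = q ^ 2 := by
      rw [Subgroup.card_map_of_injective N.subtype_injective, hEN]
    have hEN' : EN.map N.subtype ≤ N := Subgroup.map_subtype_le EN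
    have hZcard : Nat.card (Subgroup.zpowers y) = q ^ 2 := by rw [Nat.card_zpowers, hy]
    obtain ⟨g, hg⟩ := hX.hD q hq (EN.map N.subtype) (Subgroup.zpowers y)
      (IsPGroup.of_card hEcard) (IsPGroup.of_card hZcard) (by rw [hEcard, hZcard])
    have hy1 : y ∈ Subgroup.zpowers y := Subgroup.mem_zpowers y
    rw [hg, mem_map_conj] at hy1
    have h1 := hNexp _ (hEN' hy1)
    have h2 : y ^ q = 1 := by
      have e : (g⁻¹ * y * g) ^ q = g⁻¹ * y ^ q * g := by
        have := conj_pow (a := g⁻¹) (i := q) (b := y)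
        rw [inv_inv] at this
        exact this
      rw [e] at h1
      have : y ^ q = g * (g⁻¹ * y ^ q * g) * g⁻¹ := by group
      rw [this, h1]; group
    have h3 : q ^ 2 ∣ q := by rw [← hy]; exact orderOf_dvd_of_pow_eq_one h2
    have h4 : q ^ 2 ≤ q := Nat.le_of_dvd hq.pos h3
    have h5 : q < q ^ 2 := by
      have := hq.one_lt
      nlinarith
    omega
  -- elements of order `q` lie in `N`
  have helem : ∀ x : G, orderOf x = q → x ∈ N := by
    intro x hx
    obtain ⟨z, hz⟩ := exists_prime_orderOf_dvd_card' (G := ↥N) q hNdvd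
    have hzcard : Nat.card (Subgroup.zpowers (z : G)) = q := by
      rw [Nat.card_zpowers, Subgroup.orderOf_coe, hz]
    have hxcard : Nat.card (Subgroup.zpowers x) = q := by rw [Nat.card_zpowers, hx]
    have hzN : Subgroup.zpowers (z : G) ≤ N := by
      rw [Subgroup.zpowers_le]; exact z.2
    obtain ⟨g, hg⟩ := hX.hD q hq (Subgroup.zpowers (z : G)) (Subgroup.zpowers x)
      (IsPGroup.of_card (n := 1) (by rw [hzcard, pow_one]))
      (IsPGroup.of_card (n := 1) (by rw [hxcard, pow_one])) (by rw [hzcard, hxcard])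
    have hx1 : x ∈ Subgroup.zpowers x := Subgroup.mem_zpowers x
    rw [hg, mem_map_conj] at hx1
    have h1 := hNn.conj_mem _ (hzN hx1) g
    have e : g * (g⁻¹ * x * g) * g⁻¹ = x := by group
    rwa [e] at h1
  have hall : ∀ (k : ℕ) (x : G), orderOf x = q ^ k → x ∈ N := by
    intro k x hx
    rcases Nat.lt_or_ge k 2 with h | h
    · interval_cases k
      · rw [pow_zero, orderOf_eq_one_iff] at hx
        rw [hx]; exact N.one_mem
      · rw [pow_one] at hx
        exact helem x hx
    · exfalso
      apply hno (x ^ (q ^ (k - 2)))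
      rw [orderOf_pow_of_dvd (pow_pos hq.pos _).ne' (by rw [hx]; exact pow_dvd_pow q (Nat.sub_le k 2)),
        hx, Nat.pow_div (Nat.sub_le k 2) hq.pos]
      congr 1
      omega
  -- `N` has index prime to `q`
  have hidx : (N.index).Coprime q := by
    obtain ⟨P⟩ : Nonempty (Sylow q G) := inferInstance
    have hPN : (P : Subgroup G) ≤ N := by
      intro x hx
      obtain ⟨k, hk⟩ := IsPGroup.iff_orderOf.mp P.isPGroup' ⟨x, hx⟩
      rw [Subgroup.orderOf_mk] at hk
      exact hall k x hk
    have h1 : ¬ q ∣ (P : Subgroup G).index := P.not_dvd_index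
    have h2 : N.index ∣ (P : Subgroup G).index := Subgroup.index_dvd_of_le hPN
    have h3 : ¬ q ∣ N.index := fun h => h1 (h.trans h2)
    exact ((Nat.Prime.coprime_iff_not_dvd hq).mpr h3).symm
  -- subgroups of order prime to `q`
  have ihS : ∀ S : Subgroup G, ¬ q ∣ Nat.card S → Concl ↥S := by
    intro S hS
    apply ih ↥S _ (hsub S (fun _ => hS))
    have h1 : Nat.card S ∣ Nat.card G := Subgroup.card_subgroup_dvd_card S
    have h2 : Nat.card S ≤ Nat.card G := Nat.le_of_dvd Nat.card_pos h1
    rcases h2.lt_or_eq with h | h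
    · exact h
    · exfalso
      apply hS
      rw [h]
      exact hNdvd.trans (Subgroup.card_subgroup_dvd_card N)
  exact caseB_core hX N hNp hNab hidx ihS

end caseB

section induction

/-- the induction, with the closure properties (PA) and Case A (PB) as hypotheses -/
theorem main_of (r : ℕ)
    (hquot : ∀ (G : Type u) [Group G] [Finite G], X r G → ∀ (N : Subgroup G) [N.Normal] (q : ℕ),
      q.Prime → IsPGroup q N → X r (G ⧸ N))
    (hsub : ∀ (G : Type u) [Group G] [Finite G], X r G → ∀ C : Subgroup G,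
      (r.Prime → ¬ r ∣ Nat.card C) → X r ↥C)
    (hA : ∀ (G : Type u) [Group G] [Finite G], X r G →
      (∀ (Q : Type u) [Group Q] [Finite Q], Nat.card Q < Nat.card G → X r Q → Concl Q) →
      (∀ (N : Subgroup G) [N.Normal] (q : ℕ), q.Prime → IsPGroup q N → X r (G ⧸ N)) →
      ∀ (N : Subgroup G) [N.Normal] (q : ℕ), q.Prime → Nat.card N = q → Concl G) :
    ∀ n : ℕ, ∀ (G : Type u) [Group G] [Finite G], Nat.card G = n → X r G → Concl G := by
  intro n
  induction n using Nat.strong_induction_on with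
  | _ n ih =>
    intro G _ _ hn hX
    have ih' : ∀ (Q : Type u) [Group Q] [Finite Q], Nat.card Q < Nat.card G → X r Q → Concl Q := by
      intro Q _ _ hlt hQ
      exact ih (Nat.card Q) (hn ▸ hlt) Q rfl hQ
    rcases subsingleton_or_nontrivial G with hs | hnt
    · intro H K _
      refine ⟨1, ?_⟩
      ext x
      have hx : x = 1 := Subsingleton.elim x 1
      rw [hx]
      exact ⟨fun _ => Subgroup.one_mem _, fun _ => Subgroup.one_mem _⟩
    · haveI := hX.solv
      obtain ⟨M, hMn, hM1, hMmin⟩ := Cfsg.Agent.Lib.Helper8.IN.exists_minimal_normal (G := G)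
      haveI := hMn
      obtain ⟨ℓ, hℓ, hdvd, hab, hexp⟩ := Cfsg.Agent.H2.BG37.min_normal_elementary M hM1 hMmin
      by_cases hcard : Nat.card M = ℓ
      · exact hA G hX ih' (hquot G hX) M ℓ hℓ hcard
      · exact caseB hX ih' (hsub G hX) M ℓ hℓ hab hexp hdvd hcard

end induction

end Cfsg.Agent.Lib.Helper8.SameOrd
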