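import Mathlib
import Cfsg.Prelude.Def_Blocks
import Cfsg.Prelude.Def_BlockLocal
import Cfsg.Prelude.Def_BlockRank
import Cfsg.Agent.Lib.helper3.SP8
import Cfsg.Agent.Lib.helper3.GrAlg11
import Cfsg.Agent.S0958

/-!
# A Klein four block and its Brauer correspondent have the same type (helper8)

Given the Klein four theorem (inertial index `e ∈ {1, 3}`, four characters, `e` Brauer characters) as
a hypothesis, the Brauer correspondent `c` in `N_G(P)` of a block `B` with Klein four defect group
`P` has four characters too and the same number of Brauer characters as `B`.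
-/

set_option autoImplicit false
set_option linter.unusedSectionVars false
set_option linter.unusedVariables false
set_option linter.style.haveILetI false

namespace Cfsg.Agent.Lib.Helper8.SameType

open Cfsg Cfsg.Agent.Lib.helper3.Block Cfsg.Agent.Lib.helper3.LocalM

universe u

/-- The statement of the Klein four theorem (inertial index, `k(B) = 4`, `l(B) = e`), for all finite
groups in the universe `u`. -/
def KleinFourStmt : Prop :=
  ∀ {X : Type u} [Group X] [Finite X] (M : Ideal Cfsg.AlgInt) (hM : Cfsg.IsPModular 2 M)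
    (B : Set (Cfsg.IrrCharacter X)) (hB : Cfsg.IsPBlock M B) (P : Subgroup X)
    (hPD : Cfsg.IsDefectGroup 2 M B P) (hV : IsKleinFour P)
    (c : Set (Cfsg.IrrCharacter (Subgroup.centralizer (P : Set X))))
    (hc : Cfsg.IsInducedBlock M (Subgroup.centralizer (P : Set X)) c B) (T : Subgroup X)
    (hT : ∀ g : X, g ∈ T ↔ (g ∈ Subgroup.normalizer (P : Set X) ∧
      Cfsg.StabilizesBlock (Subgroup.centralizer (P : Set X)) c g)) (e : ℕ)
    (he : (Subgroup.centralizer (P : Set X)).relIndex T = e),
    (e = 1 ∨ e = 3) ∧ Nat.card B = 4 ∧ Cfsg.blockRank 2 B = e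

theorem isKleinFour_of_mulEquiv {A A' : Type*} [Group A] [Group A'] (ι : A ≃* A')
    (h : IsKleinFour A') : IsKleinFour A where
  card_four := by rw [Nat.card_congr ι.toEquiv]; exact h.card_four
  exponent_two := by rw [Monoid.exponent_eq_of_mulEquiv ι]; exact h.exponent_two

theorem same_type (hS : KleinFourStmt.{u}) {G : Type u} [Group G] [Finite G] (M : Ideal AlgInt)
    (hM : IsPModular 2 M) (B : Set (IrrCharacter G)) (hB : IsPBlock M B) (P : Subgroup G)
    (hPD : IsDefectGroup 2 M B P) (hV : IsKleinFour P)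
    (c : Set (IrrCharacter (Subgroup.normalizer (P : Set G))))
    (hcD : IsDefectGroup 2 M c (P.subgroupOf (Subgroup.normalizer (P : Set G))))
    (hc : IsInducedBlock M (Subgroup.normalizer (P : Set G)) c B) :
    Nat.card B = 4 ∧ Nat.card c = 4 ∧ blockRank 2 c = blockRank 2 B ∧
      (blockRank 2 B = 1 ∨ blockRank 2 B = 3) := by
  classical
  haveI : Fintype G := Fintype.ofFinite G
  haveI : Fintype ↥(Subgroup.normalizer (P : Set G)) := Fintype.ofFinite _
  haveI : Fintype ↥(Subgroup.centralizer (P : Set G)) := Fintype.ofFinite _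
  haveI : Fintype ↥(Subgroup.centralizer (pInN P : Set ↥(Subgroup.normalizer (P : Set G)))) :=
    Fintype.ofFinite _
  haveI hMp := isPrime_of_isPModular hM
  haveI : Fact (Nat.Prime 2) := ⟨Nat.prime_two⟩
  have hP'p : IsPGroup 2 (pInN P) := isPGroup_of_isDefectGroup hcD
  -- `P` is abelian
  have hPC' : pInN P ≤ Subgroup.centralizer (pInN P : Set ↥(Subgroup.normalizer (P : Set G))) := by
    intro x hx
    rw [mem_centralizer_pInN_iff, Subgroup.mem_centralizer_iff]
    intro y hy
    have hxP : (x : G) ∈ P := Subgroup.mem_subgroupOf.1 hx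
    have h1 := mul_comm_of_exponent_two hV.exponent_two (⟨y, hy⟩ : ↥P) ⟨(x : G), hxP⟩
    exact congrArg Subtype.val h1
  have hsup : pInN P ⊔ Subgroup.centralizer (pInN P : Set ↥(Subgroup.normalizer (P : Set G)))
      ≤ Subgroup.centralizer (pInN P : Set ↥(Subgroup.normalizer (P : Set G))) :=
    sup_le hPC' le_rfl
  -- a root of `c` in the normaliser
  obtain ⟨c₀', hc₀'⟩ := (Cfsg.Agent.S0958.result 2 M hM (pInN P)
    (Subgroup.centralizer (pInN P : Set ↥(Subgroup.normalizer (P : Set G)))) hP'p hsup
    (Subgroup.centralizer_le_normalizer _) c hc.1).mpr ⟨pInN P, hcD, 1, by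
      intro x hx
      obtain ⟨y, hy, rfl⟩ := hx
      simpa using hy⟩
  -- transported to `C_G(P)`
  obtain ⟨c₀, hc₀def⟩ : ∃ c₀ : Set (IrrCharacter (Subgroup.centralizer (P : Set G))),
      c₀ = irrCongr (cEquiv P).symm '' c₀' := ⟨_, rfl⟩
  have himg : irrCongr (cEquiv P) '' c₀ = c₀' := by
    rw [hc₀def, Set.image_image]
    have h : ∀ θ ∈ c₀', irrCongr (cEquiv P) (irrCongr (cEquiv P).symm θ) = id θ := by
      intro θ _
      apply Subtype.ext
      funext h
      rw [irrCongr_apply, irrCongr_apply, MulEquiv.symm_apply_apply]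
      rfl
    rw [Set.image_congr h, Set.image_id]
  have hc₀b : IsPBlock M c₀ := by
    rw [hc₀def]
    exact isPBlock_image_irrCongr _ c₀' hc₀'.1
  have hc₀ : IsInducedBlock M (Subgroup.centralizer (P : Set G)) c₀ B :=
    isInducedBlock_trans (Subgroup.centralizer (P : Set G)) (Subgroup.normalizer (P : Set G))
      (Subgroup.centralizer (pInN P : Set ↥(Subgroup.normalizer (P : Set G)))) (cEquiv P)
      (cEquiv_coe P) c₀ hc₀b c B (by have h := hc₀'; rw [← himg] at h; exact h) hc
  -- the stabiliser
  obtain ⟨T₁, hT₁⟩ := exists_stabilizer_subgroup (Subgroup.centralizer (P : Set G)) c₀ hc₀b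
  obtain ⟨T, hTdef⟩ : ∃ T : Subgroup G, T = Subgroup.normalizer (P : Set G) ⊓ T₁ := ⟨_, rfl⟩
  have hT : ∀ g : G, g ∈ T ↔ (g ∈ Subgroup.normalizer (P : Set G) ∧
      StabilizesBlock (Subgroup.centralizer (P : Set G)) c₀ g) := by
    intro g
    rw [hTdef, Subgroup.mem_inf, hT₁]
  have hTN : T ≤ Subgroup.normalizer (P : Set G) := fun g hg => ((hT g).1 hg).1
  have hT' : ∀ n : ↥(Subgroup.normalizer (P : Set G)),
      n ∈ T.subgroupOf (Subgroup.normalizer (P : Set G)) ↔
        (n ∈ Subgroup.normalizer ((pInN P : Subgroup ↥(Subgroup.normalizer (P : Set G))) :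
            Set ↥(Subgroup.normalizer (P : Set G))) ∧
          StabilizesBlock (Subgroup.centralizer (pInN P : Set ↥(Subgroup.normalizer (P : Set G))))
            c₀' n) := by
    intro n
    rw [Subgroup.mem_subgroupOf, hT]
    constructor
    · rintro ⟨-, h⟩
      refine ⟨?_, ?_⟩
      · have htop := Subgroup.normalizer_eq_top (H := pInN P)
        have h1 : n ∈ (⊤ : Subgroup ↥(Subgroup.normalizer (P : Set G))) := Subgroup.mem_top _
        rw [← htop] at h1
        exact h1
      · have h2 := stabilizesBlock_pInN_of P c₀ n h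
        rw [himg] at h2
        exact h2
    · rintro ⟨-, h⟩
      refine ⟨n.2, stabilizesBlock_of_pInN P c₀ n ?_⟩
      rw [← himg] at h
      exact h
  have hG := hS M hM B hB P hPD hV c₀ hc₀ T hT _ rfl
  have hV' : IsKleinFour ↥(pInN P) :=
    isKleinFour_of_mulEquiv (Subgroup.subgroupOfEquivOfLe Subgroup.le_normalizer) hV
  have hN := hS M hM c hc.1 (pInN P) hcD hV' c₀' hc₀'
    (T.subgroupOf (Subgroup.normalizer (P : Set G))) hT' _ rfl
  have hrel : (Subgroup.centralizer (pInN P : Set ↥(Subgroup.normalizer (P : Set G)))).relIndex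
      (T.subgroupOf (Subgroup.normalizer (P : Set G)))
      = (Subgroup.centralizer (P : Set G)).relIndex T := by
    rw [centralizer_pInN]
    exact Subgroup.relIndex_subgroupOf hTN
  refine ⟨hG.2.1, hN.2.1, ?_, ?_⟩
  · rw [hN.2.2, hG.2.2, hrel]
  · rw [hG.2.2]
    exact hG.1

end Cfsg.Agent.Lib.Helper8.SameType
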