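import Mathlib
import Cfsg.Agent.Lib.Helper7.SuA
import Cfsg.Agent.Lib.Helper8.SchmidtForm

/-!
# The universal Schmidt datum (helper8, for S4395: the `G₀`-side data)

For a finite field `F` of order `p ^ a` and `ω ∈ F` of prime order `q`, `a` the order of `p` modulo
`q`, we build a group `P₀` of order `p ^ a` (`a` odd) resp. `p ^ (3 a / 2)` (`a` even) with an
`SD`-datum `(τ₀, ψ₀)` whose kernel consists of commutators.  For `a = 2 j` the group is the Sylow
`p`-subgroup of `SU₃(p ^ j)`: pairs `(x, z)` with `z + σ z = x σ x`, `σ = Frob ^ j`.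
-/

set_option autoImplicit false

namespace Cfsg.Agent.Lib.Helper8.SchmidtData

open Cfsg.Agent.Lib.Helper7.SchU
open scoped commutatorElement

/-- The group on `R × R` with `(x, z) (x', z') = (x + x', z + z' + σ x * x')`. -/
@[ext] structure HE {R : Type*} [CommRing R] (σ : R →+* R) where
  x : R
  z : R

namespace HE

variable {R : Type*} [CommRing R] {σ : R →+* R}

instance : Mul (HE σ) := ⟨fun u v => ⟨u.x + v.x, u.z + v.z + σ u.x * v.x⟩⟩
instance : One (HE σ) := ⟨⟨0, 0⟩⟩
instance : Inv (HE σ) := ⟨fun u => ⟨-u.x, -u.z + σ u.x * u.x⟩⟩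

@[simp] theorem mul_x (u v : HE σ) : (u * v).x = u.x + v.x := rfl
@[simp] theorem mul_z (u v : HE σ) : (u * v).z = u.z + v.z + σ u.x * v.x := rfl
@[simp] theorem one_x : (1 : HE σ).x = 0 := rfl
@[simp] theorem one_z : (1 : HE σ).z = 0 := rfl
@[simp] theorem inv_x (u : HE σ) : (u⁻¹).x = -u.x := rfl
@[simp] theorem inv_z (u : HE σ) : (u⁻¹).z = -u.z + σ u.x * u.x := rfl

instance : Group (HE σ) :=
  Group.ofLeftAxioms
    (by intro a b c; ext <;> simp <;> ring)
    (by intro a; ext <;> simp)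
    (by intro a; ext <;> simp)

/-- The "hermitian" subgroup `z + σ z = x σ x` (for an involutive `σ`). -/
def herm (σ : R →+* R) (hσ : ∀ x, σ (σ x) = x) : Subgroup (HE σ) where
  carrier := {u | u.z + σ u.z = u.x * σ u.x}
  mul_mem' := by
    intro u v hu hv
    have hu' : u.z + σ u.z = u.x * σ u.x := hu
    have hv' : v.z + σ v.z = v.x * σ v.x := hv
    show (u * v).z + σ (u * v).z = (u * v).x * σ (u * v).x
    simp only [mul_x, mul_z, map_add, map_mul, hσ]
    linear_combination hu' + hv'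
  one_mem' := by
    show (1 : HE σ).z + σ (1 : HE σ).z = (1 : HE σ).x * σ (1 : HE σ).x
    simp
  inv_mem' := by
    intro u hu
    have hu' : u.z + σ u.z = u.x * σ u.x := hu
    show (u⁻¹).z + σ (u⁻¹).z = (u⁻¹).x * σ (u⁻¹).x
    simp only [inv_x, inv_z, map_add, map_mul, map_neg, hσ]
    linear_combination -hu'

theorem mem_herm {hσ : ∀ x, σ (σ x) = x} {u : HE σ} :
    u ∈ herm σ hσ ↔ u.z + σ u.z = u.x * σ u.x := Iff.rfl

/-- The commutator in `HE σ`. -/
theorem comm_x (u v : HE σ) : (⁅u, v⁆).x = 0 := by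
  rw [commutatorElement_def]
  simp

theorem comm_z (u v : HE σ) : (⁅u, v⁆).z = σ u.x * v.x - σ v.x * u.x := by
  rw [commutatorElement_def]
  simp
  ring

instance [Finite R] : Finite (HE σ) :=
  Finite.of_injective (fun u : HE σ => (u.x, u.z)) (by
    intro u v h
    have h1 := congrArg Prod.fst h
    have h2 := congrArg Prod.snd h
    exact HE.ext h1 h2)

end HE

section Invol

variable {F : Type*} [Field F] (σ : F →+* F)

/-- `z ↦ z + σ z`. -/
def fpl : F →+ F := AddMonoidHom.id F + σ.toAddMonoidHom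

/-- `z ↦ z - σ z`. -/
def fmi : F →+ F := AddMonoidHom.id F - σ.toAddMonoidHom

theorem fpl_apply (z : F) : fpl σ z = z + σ z := rfl
theorem fmi_apply (z : F) : fmi σ z = z - σ z := rfl

theorem mem_ker_fpl {z : F} : z ∈ (fpl σ).ker ↔ z + σ z = 0 := by
  rw [AddMonoidHom.mem_ker, fpl_apply]

theorem mem_ker_fmi {z : F} : z ∈ (fmi σ).ker ↔ σ z = z := by
  rw [AddMonoidHom.mem_ker, fmi_apply, sub_eq_zero]
  exact eq_comm

variable [Finite F] (hσ : ∀ x, σ (σ x) = x)
include hσ

/-- Counting for an involutive automorphism `σ ≠ id` of a finite field: `|F| = |Fix σ|²`,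
`ker (1 + σ)` has the same order as `Fix σ`, and `im (1 ± σ) = ker (1 ∓ σ)`. -/
theorem invol_count {θ : F} (hθ : σ θ ≠ θ) :
    Nat.card (fmi σ).ker * Nat.card (fmi σ).ker = Nat.card F ∧
      Nat.card (fpl σ).ker = Nat.card (fmi σ).ker ∧
      (fpl σ).range = (fmi σ).ker ∧ (fmi σ).range = (fpl σ).ker := by
  classical
  have hBp : (fpl σ).range ≤ (fmi σ).ker := by
    rintro _ ⟨z, rfl⟩
    rw [mem_ker_fmi, fpl_apply, map_add, hσ, add_comm]
  have hBm : (fmi σ).range ≤ (fpl σ).ker := by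
    rintro _ ⟨z, rfl⟩
    rw [mem_ker_fpl, fmi_apply, map_sub, hσ]
    ring
  have hC : Nat.card (fpl σ).ker ≤ Nat.card (fmi σ).ker := by
    by_cases hε : ∃ ε ∈ (fpl σ).ker, ε ≠ 0
    · obtain ⟨ε, hεk, hε0⟩ := hε
      have hεk' : σ ε = -ε := by
        have := (mem_ker_fpl σ).1 hεk
        exact (neg_eq_of_add_eq_zero_right this).symm
      refine Nat.card_le_card_of_injective
        (fun z : (fpl σ).ker => (⟨z.1 * ε, ?_⟩ : (fmi σ).ker)) ?_
      · have hz : σ z.1 = -z.1 := by
          have := (mem_ker_fpl σ).1 z.2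
          exact (neg_eq_of_add_eq_zero_right this).symm
        rw [mem_ker_fmi, map_mul, hz, hεk']
        ring
      · intro z w hzw
        have := congrArg Subtype.val hzw
        exact Subtype.ext (mul_right_cancel₀ hε0 this)
    · have hsub : ∀ z : (fpl σ).ker, z = 0 := by
        intro z
        by_contra hz
        exact hε ⟨z.1, z.2, fun e => hz (Subtype.ext e)⟩
      refine Nat.card_le_card_of_injective (fun _ : (fpl σ).ker => (0 : (fmi σ).ker)) ?_
      intro z w _
      rw [hsub z, hsub w]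
  have hD : Nat.card (fmi σ).ker * Nat.card (fmi σ).ker ≤ Nat.card F := by
    rw [← Nat.card_prod]
    refine Nat.card_le_card_of_injective
      (fun uv : (fmi σ).ker × (fmi σ).ker => uv.1.1 + uv.2.1 * θ) ?_
    rintro ⟨⟨u, hu⟩, ⟨v, hv⟩⟩ ⟨⟨u', hu'⟩, ⟨v', hv'⟩⟩ e
    simp only at e
    rw [mem_ker_fmi] at hu hv hu' hv'
    have hvv : v = v' := by
      by_contra hvv
      have hd : v - v' ≠ 0 := sub_ne_zero.mpr hvv
      have e2 : θ = (u' - u) * (v - v')⁻¹ := by
        rw [eq_mul_inv_iff_mul_eq₀ hd]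
        linear_combination e
      apply hθ
      rw [e2, map_mul, map_inv₀, map_sub, map_sub, hu, hv, hu', hv']
    subst hvv
    have huu : u = u' := add_right_cancel e
    subst huu
    rfl
  have c2 := SchmidtForm.card_ker_mul_card_range (fpl σ)
  have c3 := SchmidtForm.card_ker_mul_card_range (fmi σ)
  have lBp : Nat.card (fpl σ).range ≤ Nat.card (fmi σ).ker := AddSubgroup.card_le_of_le hBp
  have lBm : Nat.card (fmi σ).range ≤ Nat.card (fpl σ).ker := AddSubgroup.card_le_of_le hBm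
  have poskm : 0 < Nat.card (fmi σ).ker := Nat.card_pos
  have poskp : 0 < Nat.card (fpl σ).ker := Nat.card_pos
  set n := Nat.card F
  set kp := Nat.card (fpl σ).ker
  set km := Nat.card (fmi σ).ker
  set rp := Nat.card (fpl σ).range
  set rm := Nat.card (fmi σ).range
  have h1 : n ≤ km * kp := c3 ▸ Nat.mul_le_mul_left _ lBm
  have h2 : km * kp ≤ km * km := Nat.mul_le_mul_left _ hC
  have hnk : km * km = n := le_antisymm hD (h1.trans h2)
  have hkk : km * kp = km * km := le_antisymm h2 (hnk ▸ h1)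
  have hkp : kp = km := Nat.eq_of_mul_eq_mul_left poskm hkk
  have hrm : rm = kp := by
    apply Nat.eq_of_mul_eq_mul_left poskm
    rw [c3, hkk, hnk]
  have hrp : rp = km := by
    apply Nat.eq_of_mul_eq_mul_left poskp
    rw [c2, hkp, hnk]
  refine ⟨hnk, hkp, ?_, ?_⟩
  · exact AddSubgroup.eq_of_le_of_card_ge hBp (le_of_eq hrp.symm)
  · exact AddSubgroup.eq_of_le_of_card_ge hBm (le_of_eq hrm.symm)

end Invol

section Even

variable {F : Type*} [Field F] {σ : F →+* F} (hσ : ∀ x, σ (σ x) = x)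

/-- `(x, z) ↦ (ω x, z)` on the hermitian group, for `σ ω * ω = 1`. -/
def twHom (ω : F) (hσω : σ ω * ω = 1) : HE.herm σ hσ →* HE.herm σ hσ where
  toFun u := ⟨⟨ω * u.1.x, u.1.z⟩, by
    have h1 := HE.mem_herm.1 u.2
    rw [HE.mem_herm]
    show u.1.z + σ u.1.z = ω * u.1.x * σ (ω * u.1.x)
    rw [map_mul]
    linear_combination h1 - (u.1.x * σ u.1.x) * hσω⟩
  map_one' := by
    apply Subtype.ext
    apply HE.ext
    · show ω * (0 : F) = 0
      rw [mul_zero]
    · rfl
  map_mul' := by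
    intro u v
    apply Subtype.ext
    apply HE.ext
    · show ω * (u.1.x + v.1.x) = ω * u.1.x + ω * v.1.x
      rw [mul_add]
    · show u.1.z + v.1.z + σ u.1.x * v.1.x = u.1.z + v.1.z + σ (ω * u.1.x) * (ω * v.1.x)
      rw [map_mul]
      linear_combination (-(σ u.1.x * v.1.x)) * hσω

theorem twHom_x (ω : F) (hσω : σ ω * ω = 1) (u : HE.herm σ hσ) :
    (twHom hσ ω hσω u).1.x = ω * u.1.x := rfl

theorem twHom_z (ω : F) (hσω : σ ω * ω = 1) (u : HE.herm σ hσ) :
    (twHom hσ ω hσω u).1.z = u.1.z := rfl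

theorem inv_rel {ω : F} (hσω : σ ω * ω = 1) : σ ω⁻¹ * ω⁻¹ = 1 := by
  rw [map_inv₀, ← mul_inv, hσω, inv_one]

/-- The automorphism `τ₀`. -/
def tw (ω : F) (hσω : σ ω * ω = 1) : MulAut (HE.herm σ hσ) where
  toFun := twHom hσ ω hσω
  invFun := twHom hσ ω⁻¹ (inv_rel hσω)
  left_inv := by
    intro u
    apply Subtype.ext
    apply HE.ext
    · rw [twHom_x, twHom_x, inv_mul_cancel_left₀ (right_ne_zero_of_mul_eq_one hσω)]
    · rfl
  right_inv := by
    intro u
    apply Subtype.ext
    apply HE.ext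
    · rw [twHom_x, twHom_x, mul_inv_cancel_left₀ (right_ne_zero_of_mul_eq_one hσω)]
    · rfl
  map_mul' := (twHom hσ ω hσω).map_mul

theorem tw_x (ω : F) (hσω : σ ω * ω = 1) (u : HE.herm σ hσ) :
    (tw hσ ω hσω u).1.x = ω * u.1.x := rfl

theorem tw_z (ω : F) (hσω : σ ω * ω = 1) (u : HE.herm σ hσ) :
    (tw hσ ω hσω u).1.z = u.1.z := rfl

theorem tw_pow (ω : F) (hσω : σ ω * ω = 1) (k : ℕ) (u : HE.herm σ hσ) :
    ((tw hσ ω hσω ^ k) u).1.x = ω ^ k * u.1.x ∧ ((tw hσ ω hσω ^ k) u).1.z = u.1.z := by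
  induction k with
  | zero => simp
  | succ k ih =>
    rw [pow_succ', MulAut.mul_apply, tw_x, tw_z, ih.1, ih.2, pow_succ]
    exact ⟨by ring, rfl⟩

/-- `ψ₀ (x, z) = x`. -/
def psi (u : HE.herm σ hσ) : F := u.1.x

/-- `ψ₀` as a hom to `Multiplicative F`. -/
def psiHom : HE.herm σ hσ →* Multiplicative F where
  toFun u := Multiplicative.ofAdd u.1.x
  map_one' := rfl
  map_mul' _ _ := rfl

variable [Finite F]

theorem exists_sd_even {ω : F} {q : ℕ} (hωq : ω ^ q = 1) (hσω : σ ω * ω = 1) (hne : σ ω ≠ ω)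
    {k : ℕ} (hk : Nat.card F = k * k) :
    SD q ω (tw hσ ω hσω) (psi hσ) ∧
      (∀ n : HE.herm σ hσ, psi hσ n = 0 → ∃ u v : HE.herm σ hσ, n = ⁅u, v⁆) ∧
      Nat.card (HE.herm σ hσ) = Nat.card F * k := by
  obtain ⟨hcnt, hkp, hrp, hrm⟩ := invol_count σ hσ hne
  have hkm : Nat.card (fmi σ).ker = k := by
    rw [hk] at hcnt
    exact Nat.mul_self_inj.1 hcnt
  -- solving `z + σ z = y` for fixed `y`
  have hsolve : ∀ y : F, σ y = y → ∃ z, z + σ z = y := by
    intro y hy
    have : y ∈ (fpl σ).range := hrp ▸ (mem_ker_fmi σ).2 hy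
    obtain ⟨z, hz⟩ := this
    exact ⟨z, hz⟩
  have hsolve2 : ∀ x : F, ∃ z, z + σ z = x * σ x := by
    intro x
    apply hsolve
    rw [map_mul, hσ, mul_comm]
  refine ⟨?_, ?_, ?_⟩
  · refine ⟨?_, ?_, ?_, ?_, ?_, ?_⟩
    · ext u
      · rw [(tw_pow hσ ω hσω q u).1, hωq, one_mul]
        rfl
      · rw [(tw_pow hσ ω hσω q u).2]
        rfl
    · intro u v
      rfl
    · intro x
      obtain ⟨z, hz⟩ := hsolve2 x
      exact ⟨⟨⟨x, z⟩, HE.mem_herm.2 hz⟩, rfl⟩
    · intro n hn m
      have hn' : n.1.x = 0 := hn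
      apply Subtype.ext
      apply HE.ext
      · show m.1.x + n.1.x = n.1.x + m.1.x
        rw [add_comm]
      · show m.1.z + n.1.z + σ m.1.x * n.1.x = n.1.z + m.1.z + σ n.1.x * m.1.x
        rw [hn', map_zero]
        ring
    · intro n hn
      have hn' : n.1.x = 0 := hn
      apply Subtype.ext
      apply HE.ext
      · rw [tw_x, hn', mul_zero]
      · rfl
    · intro n
      rfl
  · intro n hn
    have hn' : n.1.x = 0 := hn
    have hnz : n.1.z + σ n.1.z = 0 := by
      have := HE.mem_herm.1 n.2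
      rw [this, hn', zero_mul]
    have : n.1.z ∈ (fmi σ).range := hrm ▸ (mem_ker_fpl σ).2 hnz
    obtain ⟨x', hx'⟩ := this
    rw [fmi_apply] at hx'
    obtain ⟨z₁, hz₁⟩ := hsolve2 1
    obtain ⟨z₂, hz₂⟩ := hsolve2 x'
    refine ⟨⟨⟨1, z₁⟩, HE.mem_herm.2 hz₁⟩, ⟨⟨x', z₂⟩, HE.mem_herm.2 hz₂⟩, ?_⟩
    apply Subtype.ext
    show n.1 = ⁅(⟨1, z₁⟩ : HE σ), (⟨x', z₂⟩ : HE σ)⁆
    apply HE.ext
    · rw [HE.comm_x, hn']
    · rw [HE.comm_z]
      show n.1.z = σ 1 * x' - σ x' * 1
      rw [map_one, one_mul, mul_one, hx']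
  · have hc := Subgroup.card_mul_index (psiHom hσ).ker
    rw [Subgroup.index_ker] at hc
    have hsurj : Function.Surjective (psiHom hσ) := by
      intro y
      obtain ⟨z, hz⟩ := hsolve2 (Multiplicative.toAdd y)
      exact ⟨⟨⟨Multiplicative.toAdd y, z⟩, HE.mem_herm.2 hz⟩, rfl⟩
    have hrange : Nat.card (psiHom hσ).range = Nat.card F := by
      rw [MonoidHom.range_eq_top.2 hsurj, Subgroup.card_top]
      exact Nat.card_congr Multiplicative.toAdd
    have hker : Nat.card (psiHom hσ).ker = k := by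
      rw [← hkm, ← hkp]
      refine Nat.card_congr ?_
      refine
        { toFun := fun n => ⟨n.1.1.z, ?_⟩
          invFun := fun z => ⟨⟨⟨0, z.1⟩, ?_⟩, ?_⟩
          left_inv := ?_
          right_inv := ?_ }
      · have hx : n.1.1.x = 0 := by
          have := (MonoidHom.mem_ker).1 n.2
          exact this
        rw [mem_ker_fpl]
        have := HE.mem_herm.1 n.1.2
        rw [this, hx, zero_mul]
      · rw [HE.mem_herm]
        show z.1 + σ z.1 = 0 * σ 0
        rw [zero_mul]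
        exact (mem_ker_fpl σ).1 z.2
      · rw [MonoidHom.mem_ker]
        rfl
      · intro n
        have hx : n.1.1.x = 0 := by
          have := (MonoidHom.mem_ker).1 n.2
          exact this
        apply Subtype.ext
        apply Subtype.ext
        apply HE.ext
        · exact hx.symm
        · rfl
      · intro z
        rfl
    rw [← hc, hker, hrange, mul_comm]

end Even

section Odd

variable {F : Type*} [Field F]

/-- multiplication by `ω ≠ 0` on `Multiplicative F`. -/
def mulAutOfUnit (ω : F) (hω0 : ω ≠ 0) : MulAut (Multiplicative F) where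
  toFun x := Multiplicative.ofAdd (ω * Multiplicative.toAdd x)
  invFun x := Multiplicative.ofAdd (ω⁻¹ * Multiplicative.toAdd x)
  left_inv x := by
    show Multiplicative.ofAdd (ω⁻¹ * (ω * Multiplicative.toAdd x)) = x
    rw [inv_mul_cancel_left₀ hω0]
    rfl
  right_inv x := by
    show Multiplicative.ofAdd (ω * (ω⁻¹ * Multiplicative.toAdd x)) = x
    rw [mul_inv_cancel_left₀ hω0]
    rfl
  map_mul' x y := by
    show Multiplicative.ofAdd (ω * (Multiplicative.toAdd x + Multiplicative.toAdd y)) =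
      Multiplicative.ofAdd (ω * Multiplicative.toAdd x + ω * Multiplicative.toAdd y)
    rw [mul_add]

theorem mulAutOfUnit_apply (ω : F) (hω0 : ω ≠ 0) (x : Multiplicative F) :
    Multiplicative.toAdd (mulAutOfUnit ω hω0 x) = ω * Multiplicative.toAdd x := rfl

theorem mulAutOfUnit_pow (ω : F) (hω0 : ω ≠ 0) (k : ℕ) (x : Multiplicative F) :
    Multiplicative.toAdd ((mulAutOfUnit ω hω0 ^ k) x) = ω ^ k * Multiplicative.toAdd x := by
  induction k with
  | zero => simp
  | succ k ih =>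
    rw [pow_succ', MulAut.mul_apply, mulAutOfUnit_apply, ih, pow_succ]
    ring

theorem exists_sd_odd {ω : F} {q : ℕ} (hωq : ω ^ q = 1) (hω0 : ω ≠ 0) :
    SD q ω (mulAutOfUnit ω hω0) (fun x : Multiplicative F => Multiplicative.toAdd x) ∧
      (∀ n : Multiplicative F, Multiplicative.toAdd n = 0 →
        ∃ u v : Multiplicative F, n = ⁅u, v⁆) := by
  refine ⟨⟨?_, ?_, ?_, ?_, ?_, ?_⟩, ?_⟩
  · ext x
    apply Multiplicative.toAdd.injective
    rw [mulAutOfUnit_pow, hωq, one_mul]
    rfl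
  · intro u v
    rfl
  · intro x
    exact ⟨Multiplicative.ofAdd x, rfl⟩
  · intro n _ m
    exact mul_comm m n
  · intro n hn
    apply Multiplicative.toAdd.injective
    show ω * Multiplicative.toAdd n = Multiplicative.toAdd n
    rw [hn, mul_zero]
  · intro n
    rfl
  · intro n hn
    refine ⟨1, 1, ?_⟩
    rw [commutatorElement_one_right]
    apply Multiplicative.toAdd.injective
    exact hn

end Odd

universe u

/-- **The `G₀`-side datum for S4395.** -/
theorem exists_sd {F : Type u} [Field F] [Finite F] {p q a : ℕ} (hp : p.Prime) (hq : q.Prime)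
    (hpq : p ≠ q) (hcard : Nat.card F = p ^ a) {ω : F} (hω : orderOf ω = q)
    (ha : orderOf (p : ZMod q) = a) :
    ∃ (P₀ : Type u) (_ : Group P₀) (_ : Finite P₀) (τ₀ : MulAut P₀) (ψ₀ : P₀ → F),
      SD q ω τ₀ ψ₀ ∧ (∀ n : P₀, ψ₀ n = 0 → ∃ u v : P₀, n = ⁅u, v⁆) ∧
      Nat.card P₀ = p ^ (if a % 2 = 1 then a else 3 * a / 2) := by
  classical
  have hfq : Fact q.Prime := ⟨hq⟩
  have hωq : ω ^ q = 1 := hω ▸ pow_orderOf_eq_one ω
  have hω0 : ω ≠ 0 := by
    rintro rfl
    rw [zero_pow hq.ne_zero] at hωq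
    exact zero_ne_one hωq
  by_cases hodd : a % 2 = 1
  · obtain ⟨h1, h2⟩ := exists_sd_odd hωq hω0
    refine ⟨Multiplicative F, inferInstance, inferInstance, mulAutOfUnit ω hω0, _, h1, h2, ?_⟩
    rw [if_pos hodd, ← hcard]
    exact Nat.card_congr Multiplicative.toAdd
  · have ha0 : 0 < a := ha ▸ SchmidtForm.orderOf_zmod_pos hp hq hpq
    obtain ⟨j, haj⟩ : ∃ j, a = 2 * j := ⟨a / 2, by omega⟩
    have hj0 : 0 < j := by omega
    -- characteristic
    have hfin : Fintype F := Fintype.ofFinite F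
    have hchar : CharP F p := by
      have h0 : ((Fintype.card F : ℕ) : F) = 0 := Nat.cast_card_eq_zero F
      rw [← Nat.card_eq_fintype_card, hcard, Nat.cast_pow] at h0
      have hp0 : (p : F) = 0 := (pow_eq_zero_iff ha0.ne').1 h0
      exact ringChar.of_eq (CharP.ringChar_of_prime_eq_zero hp hp0)
    have hexp : ExpChar F p := ExpChar.prime hp
    -- arithmetic: `q ∣ p ^ j + 1`, `q ∤ p ^ j - 1`
    have hnot : (p : ZMod q) ^ j ≠ 1 := by
      intro h1
      have := orderOf_dvd_of_pow_eq_one h1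
      rw [ha, haj] at this
      have := Nat.le_of_dvd hj0 this
      omega
    have hqd : q ∣ p ^ j + 1 := by
      have hpa : (p : ZMod q) ^ (2 * j) = 1 := by
        rw [← haj, ← ha]
        exact pow_orderOf_eq_one _
      have hsq : (p : ZMod q) ^ j * (p : ZMod q) ^ j = 1 := by
        rw [← pow_add, ← two_mul]
        exact hpa
      rcases mul_self_eq_one_iff.1 hsq with h1 | h1
      · exact absurd h1 hnot
      · rw [← ZMod.natCast_eq_zero_iff]
        push_cast
        rw [h1]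
        ring
    set σ : F →+* F := iterateFrobenius F p j with hσdef
    have σ_apply : ∀ x, σ x = x ^ p ^ j := fun x => iterateFrobenius_def p j x
    have hσ : ∀ x, σ (σ x) = x := by
      intro x
      rw [σ_apply, σ_apply, ← pow_mul, ← pow_add, ← two_mul, ← haj, ← hcard,
        Nat.card_eq_fintype_card]
      exact FiniteField.pow_card x
    have hσω : σ ω * ω = 1 := by
      rw [σ_apply, ← pow_succ]
      exact orderOf_dvd_iff_pow_eq_one.1 (hω ▸ hqd)
    have hne : σ ω ≠ ω := by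
      intro h1
      rw [σ_apply] at h1
      have hpj : p ^ j ≠ 0 := (Nat.pow_pos hp.pos).ne'
      have h2 : ω ^ (p ^ j - 1) = 1 := by
        have h3 : ω ^ (p ^ j - 1) * ω = 1 * ω := by
          rw [pow_sub_one_mul hpj, one_mul]
          exact h1
        exact mul_right_cancel₀ hω0 h3
      have h4 : q ∣ p ^ j - 1 := hω ▸ orderOf_dvd_of_pow_eq_one h2
      apply hnot
      have h0 : ((p ^ j - 1 : ℕ) : ZMod q) = 0 := (ZMod.natCast_eq_zero_iff _ _).2 h4
      rw [Nat.cast_sub (Nat.one_le_pow _ _ hp.pos), Nat.cast_pow, Nat.cast_one, sub_eq_zero] at h0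
      exact h0
    have hk : Nat.card F = p ^ j * p ^ j := by
      rw [hcard, haj, two_mul, pow_add]
    obtain ⟨h1, h2, h3⟩ := exists_sd_even hσ hωq hσω hne hk
    refine ⟨HE.herm σ hσ, inferInstance, inferInstance, tw hσ ω hσω, psi hσ, h1, h2, ?_⟩
    rw [if_neg hodd, h3, hcard]
    have : 3 * a / 2 = a + j := by omega
    rw [this, pow_add]

end Cfsg.Agent.Lib.Helper8.SchmidtData
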