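import Mathlib

/-!
Second maximal subgroups below a maximal subgroup of odd index `n` when the only primitive groups of
degree `n` are the giants (helper8, for S5885).
-/

set_option autoImplicit false

namespace Cfsg.Agent.H8.SecondMax

/-- The setwise stabilizer of `Γ`, written with an iff (so that no finiteness is needed). -/
def setStab {G : Type*} [Group G] {Ω : Type*} [MulAction G Ω] (Γ : Set Ω) : Subgroup G where
  carrier := {g | ∀ x, x ∈ Γ ↔ g • x ∈ Γ}
  one_mem' := by intro x; simp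
  mul_mem' := by
    intro g h hg hh x
    rw [mul_smul]; exact (hh x).trans (hg _)
  inv_mem' := by
    intro g hg x
    have := hg (g⁻¹ • x)
    rw [smul_inv_smul] at this
    exact this.symm

theorem mem_setStab {G : Type*} [Group G] {Ω : Type*} [MulAction G Ω] (Γ : Set Ω) (g : G) :
    g ∈ setStab (G := G) Γ ↔ ∀ x, x ∈ Γ ↔ g • x ∈ Γ := Iff.rfl

theorem orbit_le_setStab {G : Type*} [Group G] {Ω : Type*} [MulAction G Ω] (S : Subgroup G) (ω : Ω) :
    S ≤ setStab (G := G) {x : Ω | ∃ s ∈ S, s • ω = x} := by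
  intro z hz x
  constructor
  · rintro ⟨s, hs, rfl⟩
    exact ⟨z * s, S.mul_mem hz hs, mul_smul _ _ _⟩
  · rintro ⟨s, hs, he⟩
    refine ⟨z⁻¹ * s, S.mul_mem (S.inv_mem hz) hs, ?_⟩
    rw [mul_smul, he, inv_smul_smul]

/-- The core combinatorial argument. -/
theorem no_chain {G : Type*} [Group G] {Ω : Type*} [MulAction G Ω] [Finite Ω]
    (h3 : ∀ a b c : Ω, a ≠ b → a ≠ c → b ≠ c →
      ∃ g : G, g • a = b ∧ g • b = c ∧ g • c = a ∧ ∀ x, x ≠ a → x ≠ b → x ≠ c → g • x = x)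
    (hodd : Odd (Nat.card Ω))
    (ω : Ω) (M H Y K : Subgroup G) (hstab : ∀ g : G, g • ω = ω ↔ g ∈ M)
    (hHM : H ≤ M) (hmaxH : ∀ Z : Subgroup G, H ≤ Z → Z ≤ M → Z = H ∨ Z = M)
    (hKM : K ⊓ M = H) (hHY : H ≤ Y) (hYK : Y ≤ K)
    (y : G) (hy : y ∈ Y) (hyH : y ∉ H) (k : G) (hk : k ∈ K) (hkY : k ∉ Y) : False := by
  classical
  have hHK : H ≤ K := hHY.trans hYK
  have key : ∀ k₁ ∈ K, ∀ k₂ ∈ K, k₁ • ω = k₂ • ω → k₂⁻¹ * k₁ ∈ H := by
    intro k₁ h₁ k₂ h₂ he
    rw [← hKM]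
    refine Subgroup.mem_inf.2 ⟨K.mul_mem (K.inv_mem h₂) h₁, ?_⟩
    rw [← hstab, mul_smul, he, inv_smul_smul]
  have hyK : y ∈ K := hYK hy
  set Γ : Set Ω := {x : Ω | ∃ s ∈ Y, s • ω = x} with hΓ
  have hωΓ : ω ∈ Γ := ⟨1, Y.one_mem, one_smul _ _⟩
  have hYΓ : Y ≤ setStab (G := G) Γ := orbit_le_setStab Y ω
  have notΓ : ∀ k' ∈ K, k' ∉ Y → ∀ z ∈ Y, (k' * z) • ω ∉ Γ := by
    rintro k' hk' hk'Y z hz ⟨z', hz', he⟩
    have h1 := hHY (key z' (hYK hz') (k' * z) (K.mul_mem hk' (hYK hz)) he)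
    apply hk'Y
    have h2 : k' = z' * ((k' * z)⁻¹ * z')⁻¹ * z⁻¹ := by group
    rw [h2]; exact Y.mul_mem (Y.mul_mem hz' (Y.inv_mem h1)) (Y.inv_mem hz)
  -- the three points
  have haΓ : y • ω ∈ Γ := ⟨y, hy, rfl⟩
  have haω : y • ω ≠ ω := by
    intro h
    apply hyH
    rw [← hKM]
    exact Subgroup.mem_inf.2 ⟨hyK, (hstab y).1 h⟩
  have hbΓ : k • ω ∉ Γ := by
    have := notΓ k hk hkY 1 Y.one_mem
    rwa [mul_one] at this
  have hcΓ : k • (y • ω) ∉ Γ := by
    have := notΓ k hk hkY y hy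
    rwa [mul_smul] at this
  have hbc : k • ω ≠ k • (y • ω) := by
    intro h
    exact haω (smul_left_cancel k h).symm
  have hab : y • ω ≠ k • ω := fun h => hbΓ (h ▸ haΓ)
  have hac : y • ω ≠ k • (y • ω) := fun h => hcΓ (h ▸ haΓ)
  have hωb : ω ≠ k • ω := fun h => hbΓ (h ▸ hωΓ)
  have hωc : ω ≠ k • (y • ω) := fun h => hcΓ (h ▸ hωΓ)
  -- Step A : M ⊓ setStab Γ = H
  have hA : M ⊓ setStab (G := G) Γ = H := by
    rcases hmaxH (M ⊓ setStab (G := G) Γ) (le_inf hHM (hHY.trans hYΓ)) inf_le_left with h | h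
    · exact h
    · exfalso
      have hMΓ : M ≤ setStab (G := G) Γ := by
        rw [← h]; exact inf_le_right
      obtain ⟨g, hga, -, -, hfix⟩ := h3 (y • ω) (k • ω) (k • (y • ω)) hab hac hbc
      have hgM : g ∈ M := (hstab g).1 (hfix ω haω.symm hωb hωc)
      have := (hMΓ hgM (y • ω)).1 haΓ
      rw [hga] at this
      exact hbΓ this
  -- Step B : K is transitive
  set Δ : Set Ω := {x : Ω | ∃ s ∈ K, s • ω = x} with hΔ
  have hKΔ : K ≤ setStab (G := G) Δ := orbit_le_setStab K ω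
  have haΔ : y • ω ∈ Δ := ⟨y, hyK, rfl⟩
  have hbΔ : k • ω ∈ Δ := ⟨k, hk, rfl⟩
  have hcΔ : k • (y • ω) ∈ Δ := ⟨k * y, K.mul_mem hk hyK, mul_smul _ _ _⟩
  have hωΔ : ω ∈ Δ := ⟨1, K.one_mem, one_smul _ _⟩
  have htrans : ∀ x : Ω, x ∈ Δ := by
    by_contra hcon
    push Not at hcon
    obtain ⟨d, hd⟩ := hcon
    have had : y • ω ≠ d := fun h => hd (h ▸ haΔ)
    have hdb : d ≠ k • ω := fun h => hd (h ▸ hbΔ)
    have hωd : ω ≠ d := fun h => hd (h ▸ hωΔ)
    rcases hmaxH (M ⊓ setStab (G := G) Δ) (le_inf hHM (hHK.trans hKΔ)) inf_le_left with h | h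
    · -- M ⊓ setStab Δ = H
      obtain ⟨g, hga, hgb, hgc, hfix⟩ := h3 (y • ω) (k • ω) (k • (y • ω)) hab hac hbc
      have hgM : g ∈ M := (hstab g).1 (hfix ω haω.symm hωb hωc)
      have hgΔ : g ∈ setStab (G := G) Δ := by
        intro x
        by_cases hxa : x = y • ω
        · rw [hxa, hga]; exact ⟨fun _ => hbΔ, fun _ => haΔ⟩
        by_cases hxb : x = k • ω
        · rw [hxb, hgb]; exact ⟨fun _ => hcΔ, fun _ => hbΔ⟩
        by_cases hxc : x = k • (y • ω)
        · rw [hxc, hgc]; exact ⟨fun _ => haΔ, fun _ => hcΔ⟩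
        rw [hfix x hxa hxb hxc]
      have hgH : g ∈ H := by
        rw [← h]; exact Subgroup.mem_inf.2 ⟨hgM, hgΔ⟩
      have := (hYΓ (hHY hgH) (y • ω)).1 haΓ
      rw [hga] at this
      exact hbΓ this
    · have hMΔ : M ≤ setStab (G := G) Δ := by
        rw [← h]; exact inf_le_right
      obtain ⟨g, hga, -, -, hfix⟩ := h3 (y • ω) d (k • ω) had hab hdb
      have hgM : g ∈ M := (hstab g).1 (hfix ω haω.symm hωd hωb)
      have := (hMΔ hgM (y • ω)).1 haΔ
      rw [hga] at this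
      exact hd this
  -- Step C : three cosets
  have hthree : ∃ k₁ ∈ K, k₁ ∉ Y ∧ ∃ k₂ ∈ K, k₂ ∉ Y ∧ k₁⁻¹ * k₂ ∉ Y := by
    by_contra hcon
    push Not at hcon
    -- index two
    have hidx : (Y.subgroupOf K).index = 2 := by
      rw [Subgroup.index_eq_two_iff]
      refine ⟨⟨k, hk⟩, ?_⟩
      rintro ⟨b, hb⟩
      simp only [Subgroup.mem_subgroupOf, Subgroup.coe_mul]
      by_cases hbY : b ∈ Y
      · right
        refine ⟨hbY, ?_⟩
        intro hbk
        apply hkY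
        have : k = b⁻¹ * (b * k) := by group
        rw [this]; exact Y.mul_mem (Y.inv_mem hbY) hbk
      · left
        refine ⟨?_, hbY⟩
        have hb' : b⁻¹ ∉ Y := fun h => hbY (by simpa using Y.inv_mem h)
        have := hcon b⁻¹ (K.inv_mem hb) hb' k hk hkY
        simpa using this
    have : MulAction.IsPretransitive K Ω := by
      refine ⟨fun x x' => ?_⟩
      obtain ⟨k₁, hk₁, e₁⟩ := htrans x
      obtain ⟨k₂, hk₂, e₂⟩ := htrans x'
      refine ⟨⟨k₂ * k₁⁻¹, K.mul_mem hk₂ (K.inv_mem hk₁)⟩, ?_⟩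
      show (k₂ * k₁⁻¹) • x = x'
      rw [← e₁, ← e₂, smul_smul, inv_mul_cancel_right]
    have hst : MulAction.stabilizer K ω = H.subgroupOf K := by
      ext ⟨s, hs⟩
      rw [MulAction.mem_stabilizer_iff, Subgroup.mem_subgroupOf]
      show s • ω = ω ↔ s ∈ H
      rw [hstab, ← hKM]
      exact ⟨fun h => Subgroup.mem_inf.2 ⟨hs, h⟩, fun h => (Subgroup.mem_inf.1 h).2⟩
    have hcard : (H.subgroupOf K).index = Nat.card Ω := by
      rw [← hst]; exact MulAction.index_stabilizer_of_transitive K ω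
    have hle : H.subgroupOf K ≤ Y.subgroupOf K := by
      intro s hs
      rw [Subgroup.mem_subgroupOf] at hs ⊢
      exact hHY hs
    have hdvd := Subgroup.index_dvd_of_le hle
    rw [hidx, hcard] at hdvd
    exact (Nat.not_even_iff_odd.2 hodd) (even_iff_two_dvd.2 hdvd)
  obtain ⟨k₁, hk₁, hk₁Y, k₂, hk₂, hk₂Y, h12⟩ := hthree
  -- Step D
  have hc1 : k₁ • ω ∉ Γ := by
    have := notΓ k₁ hk₁ hk₁Y 1 Y.one_mem
    rwa [mul_one] at this
  have hc2 : k₁ • (y • ω) ∉ Γ := by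
    have := notΓ k₁ hk₁ hk₁Y y hy
    rwa [mul_smul] at this
  have hd1 : k₂ • ω ∉ Γ := by
    have := notΓ k₂ hk₂ hk₂Y 1 Y.one_mem
    rwa [mul_one] at this
  have hcc' : k₁ • ω ≠ k₁ • (y • ω) := by
    intro h
    exact haω (smul_left_cancel k₁ h).symm
  have hcd : k₁ • ω ≠ k₂ • ω := by
    intro h
    apply h12
    have := hHY (key k₂ hk₂ k₁ hk₁ h.symm)
    exact this
  have hc'd : k₁ • (y • ω) ≠ k₂ • ω := by
    intro h
    apply h12
    rw [← mul_smul] at h
    have h1 := hHY (key k₂ hk₂ (k₁ * y) (K.mul_mem hk₁ hyK) h.symm)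
    have h2 : k₁⁻¹ * k₂ = y * ((k₁ * y)⁻¹ * k₂) := by group
    rw [h2]; exact Y.mul_mem hy h1
  obtain ⟨g, hgc, hgd, hgc', hfix⟩ := h3 (k₁ • ω) (k₂ • ω) (k₁ • (y • ω)) hcd hcc' hc'd.symm
  have hgM : g ∈ M := by
    refine (hstab g).1 (hfix ω ?_ ?_ ?_)
    · exact fun h => hc1 (h ▸ hωΓ)
    · exact fun h => hd1 (h ▸ hωΓ)
    · exact fun h => hc2 (h ▸ hωΓ)
  have hgΓ : g ∈ setStab (G := G) Γ := by
    intro x
    by_cases hxa : x = k₁ • ω
    · rw [hxa, hgc]; exact ⟨fun h => absurd h hc1, fun h => absurd h hd1⟩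
    by_cases hxb : x = k₂ • ω
    · rw [hxb, hgd]; exact ⟨fun h => absurd h hd1, fun h => absurd h hc2⟩
    by_cases hxc : x = k₁ • (y • ω)
    · rw [hxc, hgc']; exact ⟨fun h => absurd h hc2, fun h => absurd h hc1⟩
    rw [hfix x hxa hxb hxc]
  have hgH : g ∈ H := by
    rw [← hA]; exact Subgroup.mem_inf.2 ⟨hgM, hgΓ⟩
  have hgK : g ∈ K := hHK hgH
  -- g k₁ ω = k₂ ω
  have e1 : (g * k₁) • ω = k₂ • ω := by rw [mul_smul, hgc]
  have e2 : (g * k₁ * y) • ω = k₁ • ω := by rw [mul_smul, mul_smul, hgc']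
  have u := hHY (key (g * k₁) (K.mul_mem hgK hk₁) k₂ hk₂ e1)
  have v := hHY (key (g * k₁ * y) (K.mul_mem (K.mul_mem hgK hk₁) hyK) k₁ hk₁ e2)
  apply h12
  have h2 : k₁⁻¹ * k₂ = (k₁⁻¹ * (g * k₁ * y)) * y⁻¹ * (k₂⁻¹ * (g * k₁))⁻¹ := by group
  rw [h2]
  exact Y.mul_mem (Y.mul_mem v (Y.inv_mem hy)) (Y.inv_mem u)

/-- If the only primitive groups of degree `n` contain `A_n`, a group with a maximal subgroup `M` of index `n`
induces every 3-cycle on `G ⧸ M`. -/
theorem exists_threeCycle_lift {G : Type*} [Group G] [Finite G] (n : ℕ)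
    (hA : ∀ P : Subgroup (Equiv.Perm (Fin n)), MulAction.IsPreprimitive P (Fin n) →
      alternatingGroup (Fin n) ≤ P)
    (M : Subgroup G) (hM : IsCoatom M) (hn : M.index = n)
    (a b c : G ⧸ M) (hab : a ≠ b) (hac : a ≠ c) (hbc : b ≠ c) :
    ∃ g : G, g • a = b ∧ g • b = c ∧ g • c = a ∧
      ∀ x : G ⧸ M, x ≠ a → x ≠ b → x ≠ c → g • x = x := by
  classical
  have hcard : Nat.card (G ⧸ M) = n := by rw [← hn, Subgroup.index_eq_card]
  have hnt : Nontrivial (G ⧸ M) := ⟨⟨a, b, hab⟩⟩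
  have hprim : MulAction.IsPreprimitive G (G ⧸ M) := by
    rw [← MulAction.isCoatom_stabilizer_iff_preprimitive G ((1 : G) : G ⧸ M),
      MulAction.stabilizer_quotient]
    exact hM
  let e : (G ⧸ M) ≃ Fin n := (Finite.equivFin (G ⧸ M)).trans (finCongr hcard)
  let ψ : G →* Equiv.Perm (Fin n) :=
    (e.permCongrHom : Equiv.Perm (G ⧸ M) →* Equiv.Perm (Fin n)).comp (MulAction.toPermHom G (G ⧸ M))
  have hψ : ∀ (g : G) (x : G ⧸ M), ψ g (e x) = e (g • x) := by
    intro g x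
    simp [ψ, Equiv.permCongrHom]
  let f : (G ⧸ M) →ₑ[ψ.rangeRestrict] Fin n :=
    { toFun := e
      map_smul' := by
        intro g x
        show e (g • x) = (ψ.rangeRestrict g : Equiv.Perm (Fin n)) (e x)
        rw [MonoidHom.coe_rangeRestrict, hψ] }
  have hP : MulAction.IsPreprimitive ψ.range (Fin n) :=
    MulAction.IsPreprimitive.of_surjective (f := f) e.surjective
  have hAP := hA ψ.range hP
  have h3c : Equiv.swap (e a) (e c) * Equiv.swap (e a) (e b) ∈ alternatingGroup (Fin n) :=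
    Equiv.Perm.IsThreeCycle.mem_alternatingGroup
      (Equiv.Perm.isThreeCycle_swap_mul_swap_same (fun h => hac (e.injective h))
        (fun h => hab (e.injective h)) (fun h => hbc (e.injective h).symm))
  obtain ⟨g, hg⟩ := hAP h3c
  have hgx : ∀ x : G ⧸ M, e (g • x) = (Equiv.swap (e a) (e c) * Equiv.swap (e a) (e b)) (e x) := by
    intro x; rw [← hψ, hg]
  have hea : e a ≠ e b := fun h => hab (e.injective h)
  have heac : e a ≠ e c := fun h => hac (e.injective h)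
  have hebc : e b ≠ e c := fun h => hbc (e.injective h)
  refine ⟨g, ?_, ?_, ?_, ?_⟩
  · apply e.injective
    rw [hgx, Equiv.Perm.mul_apply, Equiv.swap_apply_left, Equiv.swap_apply_of_ne_of_ne hea.symm hebc]
  · apply e.injective
    rw [hgx, Equiv.Perm.mul_apply, Equiv.swap_apply_right, Equiv.swap_apply_left]
  · apply e.injective
    rw [hgx, Equiv.Perm.mul_apply, Equiv.swap_apply_of_ne_of_ne heac.symm hebc.symm,
      Equiv.swap_apply_right]
  · intro x hxa hxb hxc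
    apply e.injective
    have h1 : e x ≠ e a := fun h => hxa (e.injective h)
    have h2 : e x ≠ e b := fun h => hxb (e.injective h)
    have h3 : e x ≠ e c := fun h => hxc (e.injective h)
    rw [hgx, Equiv.Perm.mul_apply, Equiv.swap_apply_of_ne_of_ne h1 h2,
      Equiv.swap_apply_of_ne_of_ne h1 h3]

/-- The statement of S5885 in library form. -/
theorem second_maximal {G : Type*} [Group G]
    [Finite G] (n : ℕ) (hodd : Odd n)
    (hA : ∀ P : Subgroup (Equiv.Perm (Fin n)), MulAction.IsPreprimitive P (Fin n) →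
      alternatingGroup (Fin n) ≤ P)
    (M : Subgroup G) (hM : IsCoatom M) (hn : M.index = n) (H : Subgroup G) (hHM : H ≤ M)
    (hmax : IsCoatom (H.subgroupOf M)) (K : Subgroup G) (hK : IsCoatom K) (hHK : H ≤ K) :
    IsCoatom (H.subgroupOf K) := by
  classical
  by_cases hKM : K = M
  · subst hKM; exact hmax
  have hmaxH : ∀ Z : Subgroup G, H ≤ Z → Z ≤ M → Z = H ∨ Z = M := by
    intro Z hHZ hZM
    by_cases h : Z = H
    · exact Or.inl h
    · right
      have hlt : H.subgroupOf M < Z.subgroupOf M := by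
        rw [SetLike.lt_iff_le_and_exists]
        refine ⟨fun x hx => hHZ hx, ?_⟩
        have : ∃ z ∈ Z, z ∉ H := by
          by_contra hcon
          push Not at hcon
          exact h (le_antisymm hcon hHZ)
        obtain ⟨z, hz, hzH⟩ := this
        exact ⟨⟨z, hZM hz⟩, hz, hzH⟩
      have := hmax.2 _ hlt
      rw [Subgroup.subgroupOf_eq_top] at this
      exact le_antisymm hZM this
  have hKMH : K ⊓ M = H := by
    rcases hmaxH (K ⊓ M) (le_inf hHK hHM) inf_le_right with h | h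
    · exact h
    · exfalso
      have hMK : M ≤ K := by rw [← h]; exact inf_le_left
      rcases eq_or_lt_of_le hMK with h' | h'
      · exact hKM h'.symm
      · exact hK.1 (hM.2 K h')
  refine ⟨?_, ?_⟩
  · intro htop
    rw [Subgroup.subgroupOf_eq_top] at htop
    have hKM' : K ≤ M := htop.trans hHM
    rcases eq_or_lt_of_le hKM' with h' | h'
    · exact hKM h'
    · exact hM.1 (hK.2 M h')
  · intro Y' hY'
    by_contra hne
    have hYK : Y'.map K.subtype ≤ K := Subgroup.map_subtype_le Y'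
    have hHY : H ≤ Y'.map K.subtype := by
      intro h hh
      exact ⟨⟨h, hHK hh⟩, hY'.le (Subgroup.mem_subgroupOf.2 hh), rfl⟩
    obtain ⟨y', hy', hy'H⟩ := (SetLike.lt_iff_le_and_exists.1 hY').2
    have hk' : ∃ k' : K, k' ∉ Y' := by
      by_contra hcon
      push Not at hcon
      exact hne (eq_top_iff.2 fun x _ => hcon x)
    obtain ⟨k', hk'Y⟩ := hk'
    have hodd' : Odd (Nat.card (G ⧸ M)) := by
      rw [← Subgroup.index_eq_card, hn]; exact hodd
    refine no_chain (G := G) (Ω := G ⧸ M)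
      (fun a b c hab hac hbc => exists_threeCycle_lift n hA M hM hn a b c hab hac hbc)
      hodd' ((1 : G) : G ⧸ M) M H (Y'.map K.subtype) K ?_ hHM hmaxH hKMH hHY hYK
      (y' : G) ⟨y', hy', rfl⟩ (fun h => hy'H (Subgroup.mem_subgroupOf.2 h))
      (k' : G) k'.2 ?_
    · intro g
      rw [← MulAction.mem_stabilizer_iff, MulAction.stabilizer_quotient]
    · rintro ⟨z, hz, hzk⟩
      apply hk'Y
      have : z = k' := Subtype.ext hzk
      rw [← this]; exact hz

end Cfsg.Agent.H8.SecondMax
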