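import Cfsg.Agent.H2.SidkiT
import Cfsg.Agent.H9.Cores

/-!
# S3048 piece (P2): a minimal counterexample to the Sidki pair problem has no nontrivial
abelian normal subgroup (proof of helper2's note `notes/S3048_helper2.md`).
-/

set_option autoImplicit false
set_option linter.style.haveILetI false

namespace Cfsg.Agent.Lib.Helper8.SidkiP2

open Cfsg.Agent.H2.Sidki

universe u
variable {G : Type u} [Group G] [Finite G] {V : Subgroup G}

/-- An abelian normal subgroup has no involution (since `O₂(G) = 1`). -/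
theorem noInv (c : Ctx V) (A : Subgroup G) (hA : A.Normal)
    (hab : ∀ a ∈ A, ∀ b ∈ A, a * b = b * a) : ∀ a ∈ A, a * a = 1 → a = 1 := by
  intro a ha haa
  let T : Subgroup G :=
    { carrier := {x | x ∈ A ∧ x * x = 1}
      one_mem' := ⟨A.one_mem, by simp⟩
      mul_mem' := by
        rintro x y ⟨hx, hxx⟩ ⟨hy, hyy⟩
        refine ⟨A.mul_mem hx hy, ?_⟩
        have hc := hab x hx y hy
        calc x * y * (x * y) = x * (y * x) * y := by group
          _ = x * (x * y) * y := by rw [hc]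
          _ = (x * x) * (y * y) := by group
          _ = 1 := by rw [hxx, hyy, one_mul]
      inv_mem' := by
        rintro x ⟨hx, hxx⟩
        refine ⟨A.inv_mem hx, ?_⟩
        have h1 : x⁻¹ = x := inv_eq_of_mul_eq_one_left hxx
        rw [h1]; exact hxx }
  have hTn : T.Normal := by
    constructor
    rintro x ⟨hx, hxx⟩ g
    refine ⟨hA.conj_mem x hx g, ?_⟩
    calc g * x * g⁻¹ * (g * x * g⁻¹) = g * (x * x) * g⁻¹ := by group
      _ = 1 := by rw [hxx]; group
  have hT2 : IsPGroup 2 T := by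
    rintro ⟨x, hx, hxx⟩
    refine ⟨1, ?_⟩
    apply Subtype.ext
    simp only [pow_one, Subgroup.coe_pow, Subgroup.coe_one]
    rw [pow_two]; exact hxx
  have hle : T ≤ Cfsg.pCore 2 G := Cfsg.Agent.H9.le_pCore T hT2
  rw [c.o2] at hle
  have : a ∈ T := ⟨ha, haa⟩
  exact (Subgroup.mem_bot).1 (hle this)

/-- Elements of a group `C ⊔ W = ⊤` with `C` normal factor. -/
theorem exists_mul_of_sup_top (C W : Subgroup G) [C.Normal] (h : C ⊔ W = ⊤) (g : G) :
    ∃ y ∈ C, ∃ z ∈ W, g = y * z := by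
  have hg : g ∈ ((C ⊔ W : Subgroup G) : Set G) := by rw [h]; trivial
  rw [Subgroup.normal_mul] at hg
  obtain ⟨y, hy, z, hz, rfl⟩ := Set.mem_mul.1 hg
  exact ⟨y, hy, z, hz, rfl⟩

/-- An element of odd order whose square lies in a subgroup lies in that subgroup. -/
theorem mem_of_sq_mem_of_odd (C : Subgroup G) (g : G) (ho : Odd (orderOf g)) (h : g * g ∈ C) :
    g ∈ C := by
  obtain ⟨k, hk⟩ := ho
  have h1 : g = (g * g) ^ (k + 1) := by
    rw [← pow_two, ← pow_mul]
    have : 2 * (k + 1) = orderOf g + 1 := by omega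
    rw [this, pow_succ, pow_orderOf_eq_one, one_mul]
  rw [h1]; exact C.pow_mem h _

/-- Product of commuting elements of odd order has odd order. -/
theorem odd_orderOf_mul (g h : G) (hc : g * h = h * g) (hg : Odd (orderOf g))
    (hh : Odd (orderOf h)) : Odd (orderOf (g * h)) := by
  have h1 : orderOf (g * h) ∣ Nat.lcm (orderOf g) (orderOf h) :=
    Commute.orderOf_mul_dvd_lcm hc
  have h2 : Nat.lcm (orderOf g) (orderOf h) ∣ orderOf g * orderOf h := Nat.lcm_dvd_mul _ _
  exact Odd.of_dvd_nat (hg.mul hh) (h1.trans h2)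


/-- (b) every element of `V` centralizes or inverts the minimal abelian normal subgroup `N`. -/
theorem dich (c : Ctx V) (N : Subgroup G) (hN : N.Normal)
    (hab : ∀ a ∈ N, ∀ b ∈ N, a * b = b * a)
    (hmin : ∀ N' : Subgroup G, N'.Normal → N' ≤ N → N' = ⊥ ∨ N' = N)
    (hCV : Subgroup.centralizer (N : Set G) ⊔ V = ⊤) :
    ∀ v ∈ V, v ∈ Subgroup.centralizer (N : Set G) ∨ ∀ n ∈ N, v * n * v⁻¹ = n⁻¹ := by
  intro v hv
  haveI := hN
  have hvinv : v⁻¹ = v := inv_eq_of_mul_eq_one_left (c.sq v hv)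
  let F : Subgroup G := N ⊓ Subgroup.centralizer ({v} : Set G)
  have hFn : F.Normal := by
    constructor
    intro f hf g
    obtain ⟨y, hy, z, hz, rfl⟩ := exists_mul_of_sup_top _ V hCV g
    have hfN : f ∈ N := hf.1
    have hfv : f * v = v * f := Subgroup.mem_centralizer_singleton_iff.1 hf.2
    have hzf : z * f * z⁻¹ ∈ N := hN.conj_mem f hfN z
    have hyc : y * (z * f * z⁻¹) = (z * f * z⁻¹) * y :=
      ((Subgroup.mem_centralizer_iff.1 hy) _ hzf).symm
    have e : y * z * f * (y * z)⁻¹ = z * f * z⁻¹ := by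
      calc y * z * f * (y * z)⁻¹ = y * (z * f * z⁻¹) * y⁻¹ := by group
        _ = (z * f * z⁻¹) * y * y⁻¹ := by rw [hyc]
        _ = z * f * z⁻¹ := by group
    rw [e]
    refine ⟨hzf, Subgroup.mem_centralizer_singleton_iff.2 ?_⟩
    have hzv : z * v = v * z := c.comm z hz v hv
    have hzv' : z⁻¹ * v = v * z⁻¹ := by
      calc z⁻¹ * v = z⁻¹ * (v * z) * z⁻¹ := by group
        _ = z⁻¹ * (z * v) * z⁻¹ := by rw [hzv]
        _ = v * z⁻¹ := by group
    calc z * f * z⁻¹ * v = z * f * (z⁻¹ * v) := by group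
      _ = z * f * (v * z⁻¹) := by rw [hzv']
      _ = z * (f * v) * z⁻¹ := by group
      _ = z * (v * f) * z⁻¹ := by rw [hfv]
      _ = (z * v) * f * z⁻¹ := by group
      _ = (v * z) * f * z⁻¹ := by rw [hzv]
      _ = v * (z * f * z⁻¹) := by group
  rcases hmin F hFn inf_le_left with h0 | h1
  · right
    intro n hn
    have hvn : v * n * v⁻¹ ∈ N := hN.conj_mem n hn v
    have he : n * (v * n * v⁻¹) ∈ F := by
      refine ⟨N.mul_mem hn hvn, Subgroup.mem_centralizer_singleton_iff.2 ?_⟩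
      have hcomm := hab n hn _ hvn
      rw [hvinv] at hcomm ⊢
      have hvv := c.sq v hv
      calc n * (v * n * v) * v = n * v * n * (v * v) := by group
        _ = n * v * n := by rw [hvv, mul_one]
        _ = (v * v) * n * v * n := by rw [hvv, one_mul]
        _ = v * ((v * n * v) * n) := by group
        _ = v * (n * (v * n * v)) := by rw [hcomm]
    rw [h0, Subgroup.mem_bot] at he
    exact eq_inv_of_mul_eq_one_right he
  · left
    rw [Subgroup.mem_centralizer_iff]
    intro n hn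
    have hnF : n ∈ F := by rw [h1]; exact hn
    exact Subgroup.mem_centralizer_singleton_iff.1 hnF.2

/-- (c) `N` cannot be central. -/
theorem caseC (c : Ctx V) (N : Subgroup G) (hN : N.Normal) (hne : N ≠ ⊥)
    (hVN : V ⊓ N = ⊥)
    (hcent : Subgroup.centralizer (N : Set G) = ⊤) : False := by
  haveI : Fact (Nat.Prime 2) := ⟨Nat.prime_two⟩
  obtain ⟨R, hRn, hNR, hR2, v, hvV, hv1, hvR⟩ := c.quot N hN hne hVN
  haveI := hRn
  haveI := hN
  let f : ↥R →* ↥R ⧸ (N.subgroupOf R) := QuotientGroup.mk' (N.subgroupOf R)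
  have hker : f.ker ≤ Subgroup.center ↥R := by
    rw [QuotientGroup.ker_mk']
    intro n hn
    rw [Subgroup.mem_center_iff]
    intro r
    apply Subtype.ext
    simp only [Subgroup.coe_mul]
    have hr : (r : G) ∈ Subgroup.centralizer (N : Set G) := by rw [hcent]; trivial
    exact ((Subgroup.mem_centralizer_iff.1 hr) n (Subgroup.mem_subgroupOf.1 hn)).symm
  have hq2 : IsPGroup 2 (↥R ⧸ N.subgroupOf R) := by
    intro q
    obtain ⟨r, rfl⟩ := QuotientGroup.mk_surjective q
    obtain ⟨k, hk⟩ := hR2 r r.2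
    refine ⟨k, ?_⟩
    rw [← QuotientGroup.mk_pow, QuotientGroup.eq_one_iff]
    rw [Subgroup.mem_subgroupOf]; simpa using hk
  haveI : Group.IsNilpotent (↥R ⧸ N.subgroupOf R) := hq2.isNilpotent
  haveI hnil : Group.IsNilpotent ↥R := Subgroup.isNilpotent_of_ker_le_center f hker
  obtain S : Sylow 2 ↥R := default
  have hSn : (S : Subgroup ↥R).Normal := inferInstance
  haveI : (S : Subgroup ↥R).Characteristic := Sylow.characteristic_of_normal S hSn
  haveI hmapn : ((S : Subgroup ↥R).map R.subtype).Normal :=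
    ConjAct.normal_of_characteristic_of_normal
  have hmap2 : IsPGroup 2 ((S : Subgroup ↥R).map R.subtype) := S.2.map _
  have hle := Cfsg.Agent.H9.le_pCore _ hmap2
  rw [c.o2] at hle
  have hSbot : (S : Subgroup ↥R) = ⊥ := by
    rw [eq_bot_iff]; intro s hs
    have h1 : (s : G) ∈ (S : Subgroup ↥R).map R.subtype := ⟨s, hs, rfl⟩
    have h2 := hle h1
    rw [Subgroup.mem_bot] at h2 ⊢
    exact Subtype.ext h2
  have h2dvd : 2 ∣ Nat.card ↥R := by
    have h2 : orderOf (⟨v, hvR⟩ : ↥R) = 2 := by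
      apply orderOf_eq_prime
      · apply Subtype.ext; simp [pow_two, c.sq v hvV]
      · intro h; exact hv1 (congrArg Subtype.val h)
    rw [← h2]; exact orderOf_dvd_natCard _
  exact S.ne_bot_of_dvd_card h2dvd hSbot

/-- (d) the case where some element of `V` inverts `N`. -/
theorem caseD (c : Ctx V) (N : Subgroup G) (hN : N.Normal) (hne : N ≠ ⊥)
    (hnoinv : ∀ a ∈ N, a * a = 1 → a = 1) (hodd : ∀ n ∈ N, Odd (orderOf n))
    (hCV : Subgroup.centralizer (N : Set G) ⊔ V = ⊤)
    (hdich : ∀ v ∈ V, v ∈ Subgroup.centralizer (N : Set G) ∨ ∀ n ∈ N, v * n * v⁻¹ = n⁻¹)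
    (hVC : ¬ V ≤ Subgroup.centralizer (N : Set G)) : False := by
  haveI := hN
  have hCn : (Subgroup.centralizer (N : Set G)).Normal := inferInstance
  set C := Subgroup.centralizer (N : Set G) with hCdef
  obtain ⟨u₀, hu₀V, hu₀C⟩ := SetLike.not_le_iff_exists.1 hVC
  have hu₀inv := (hdich u₀ hu₀V).resolve_left hu₀C
  obtain ⟨⟨h, hhN⟩, hh1'⟩ := (Subgroup.ne_bot_iff_exists_ne_one).1 hne
  have hh1 : h ≠ 1 := fun e => hh1' (Subtype.ext e)
  have hCh : ∀ x ∈ C, x * h = h * x := fun x hx =>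
    ((Subgroup.mem_centralizer_iff.1 hx) h hhN).symm
  -- an element of `V` commuting with `h` lies in `C`
  have hinvC : ∀ w ∈ V, w * h = h * w → w ∈ C := by
    intro w hwV hwh
    rcases hdich w hwV with hC | hi
    · exact hC
    · exfalso
      have h1 := hi h hhN
      rw [hwh, mul_inv_cancel_right] at h1
      exact hh1 (hnoinv h hhN (mul_eq_one_iff_eq_inv.2 h1))
  obtain ⟨w₀, hw₀V, hw₀1, hw₀h⟩ := c.sidki h u₀ hu₀V (hodd h hhN) (hu₀inv h hhN)
  have hw₀C : w₀ ∈ C := hinvC w₀ hw₀V hw₀h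
  have hclaim : Cfsg.IsSidkiPair (V ⊓ C) := by
    intro g u hu hgo hug
    by_contra hno
    push Not at hno
    obtain ⟨w, hwV, hw1, hwg⟩ := c.sidki g u hu.1 hgo hug
    have hwC : w ∉ C := fun hwC => hno w ⟨hwV, hwC⟩ hw1 hwg
    have hwh : w * h * w⁻¹ = h⁻¹ := (hdich w hwV).resolve_left hwC h hhN
    have hgC : g ∈ C := by
      apply mem_of_sq_mem_of_odd C g hgo
      obtain ⟨y, hy, z, hz, hgyz⟩ := exists_mul_of_sup_top C V hCV g
      have hzz := c.sq z hz
      have h1 : g * g = y * (z * y * z⁻¹) := by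
        rw [hgyz]
        calc y * z * (y * z) = y * (z * y * z⁻¹) * (z * z) := by group
          _ = y * (z * y * z⁻¹) := by rw [hzz, mul_one]
      rw [h1]
      exact C.mul_mem hy (hCn.conj_mem y hy z)
    have hgh : g * h = h * g := hCh g hgC
    have huh : u * h = h * u := hCh u hu.2
    have cwg : w * g * w⁻¹ = g := mul_inv_eq_iff_eq_mul.2 hwg
    have cuh : u * h⁻¹ * u⁻¹ = h⁻¹ := by
      rw [mul_inv_eq_iff_eq_mul]
      exact (show Commute u h from huh).inv_right.eq
    have hinv2 : (u * w) * (g * h) * (u * w)⁻¹ = (g * h)⁻¹ := by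
      calc (u * w) * (g * h) * (u * w)⁻¹
          = u * ((w * g * w⁻¹) * (w * h * w⁻¹)) * u⁻¹ := by group
        _ = u * (g * h⁻¹) * u⁻¹ := by rw [cwg, hwh]
        _ = (u * g * u⁻¹) * (u * h⁻¹ * u⁻¹) := by group
        _ = g⁻¹ * h⁻¹ := by rw [hug, cuh]
        _ = (h * g)⁻¹ := by rw [mul_inv_rev]
        _ = (g * h)⁻¹ := by rw [hgh]
    have hodd2 : Odd (orderOf (g * h)) := odd_orderOf_mul g h hgh hgo (hodd h hhN)
    obtain ⟨w', hw'V, hw'1, hw'gh⟩ :=
      c.sidki (g * h) (u * w) (V.mul_mem hu.1 hwV) hodd2 hinv2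
    by_cases hw'C : w' ∈ C
    · have hc1 : Commute w' (g * h) := hw'gh
      have hc2 : Commute w' h := hCh w' hw'C
      have hc3 : Commute w' (g * h * h⁻¹) := hc1.mul_right hc2.inv_right
      rw [mul_inv_cancel_right] at hc3
      exact hno w' ⟨hw'V, hw'C⟩ hw'1 hc3.eq
    · have hw'h : w' * h * w'⁻¹ = h⁻¹ := (hdich w' hw'V).resolve_left hw'C h hhN
      have e1 : w' * g * w'⁻¹ = g * h * h := by
        have h1 : w' * (g * h) * w'⁻¹ = g * h := mul_inv_eq_iff_eq_mul.2 hw'gh
        have h2 : w' * (g * h) * w'⁻¹ = (w' * g * w'⁻¹) * (w' * h * w'⁻¹) := by group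
        rw [h2, hw'h] at h1
        rw [mul_inv_eq_iff_eq_mul] at h1
        exact h1
      have e2 : (w * w') * g * (w * w')⁻¹ = g * h⁻¹ * h⁻¹ := by
        calc (w * w') * g * (w * w')⁻¹ = w * (w' * g * w'⁻¹) * w⁻¹ := by group
          _ = w * (g * h * h) * w⁻¹ := by rw [e1]
          _ = (w * g * w⁻¹) * (w * h * w⁻¹) * (w * h * w⁻¹) := by group
          _ = g * h⁻¹ * h⁻¹ := by rw [cwg, hwh]
      have cth : (w * w') * h * (w * w')⁻¹ = h := by
        calc (w * w') * h * (w * w')⁻¹ = w * (w' * h * w'⁻¹) * w⁻¹ := by group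
          _ = w * h⁻¹ * w⁻¹ := by rw [hw'h]
          _ = (w * h * w⁻¹)⁻¹ := by group
          _ = h := by rw [hwh, inv_inv]
      have cthi : (w * w') * h⁻¹ * (w * w')⁻¹ = h⁻¹ := by
        calc (w * w') * h⁻¹ * (w * w')⁻¹ = ((w * w') * h * (w * w')⁻¹)⁻¹ := by group
          _ = h⁻¹ := by rw [cth]
      have htt : (w * w') * (w * w') = 1 := c.sq _ (V.mul_mem hwV hw'V)
      have e3 : g = g * h⁻¹ * h⁻¹ * h⁻¹ * h⁻¹ := by
        calc g = ((w * w') * (w * w')) * g * ((w * w') * (w * w'))⁻¹ := by rw [htt]; group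
          _ = (w * w') * ((w * w') * g * (w * w')⁻¹) * (w * w')⁻¹ := by group
          _ = (w * w') * (g * h⁻¹ * h⁻¹) * (w * w')⁻¹ := by rw [e2]
          _ = ((w * w') * g * (w * w')⁻¹) * ((w * w') * h⁻¹ * (w * w')⁻¹) *
              ((w * w') * h⁻¹ * (w * w')⁻¹) := by group
          _ = g * h⁻¹ * h⁻¹ * h⁻¹ * h⁻¹ := by rw [e2, cthi]
      have e4 : g * (h⁻¹ * h⁻¹ * h⁻¹ * h⁻¹) = g * 1 := by
        rw [mul_one, ← mul_assoc, ← mul_assoc, ← mul_assoc]
        exact e3.symm
      have e5 := mul_left_cancel e4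
      have e6 : (h * h) * (h * h) = 1 := by
        have h9 : (h⁻¹ * h⁻¹ * h⁻¹ * h⁻¹)⁻¹ = 1 := by rw [e5, inv_one]
        simpa [mul_assoc] using h9
      have e7 := hnoinv (h * h) (N.mul_mem hhN hhN) e6
      exact hh1 (hnoinv h hhN e7)
  refine c.small (V ⊓ C) inf_le_left ?_ ?_ hclaim
  · intro e
    exact hVC (inf_eq_left.1 e)
  · intro e
    have h1 : w₀ ∈ V ⊓ C := ⟨hw₀V, hw₀C⟩
    rw [e, Subgroup.mem_bot] at h1
    exact hw₀1 h1

end Cfsg.Agent.Lib.Helper8.SidkiP2

namespace Cfsg.Agent.H2.Sidki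

open Cfsg.Agent.Lib.Helper8.SidkiP2

universe u
variable {G : Type u} [Group G] [Finite G] {V : Subgroup G}

/-- (P2) no nontrivial abelian normal subgroup. -/
theorem Ctx.no_abelian_normal (c : Ctx V) (N : Subgroup G) (hN : N.Normal)
    (hab : ∀ a ∈ N, ∀ b ∈ N, a * b = b * a) : N = ⊥ := by
  by_contra hne₀
  classical
  have hex : ∃ n : ℕ, ∃ N : Subgroup G, N.Normal ∧ (∀ a ∈ N, ∀ b ∈ N, a * b = b * a) ∧
      N ≠ ⊥ ∧ Nat.card N = n := ⟨_, N, hN, hab, hne₀, rfl⟩
  obtain ⟨M, hM, habM, hneM, hcard⟩ := Nat.find_spec hex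
  have hmin : ∀ N' : Subgroup G, N'.Normal → N' ≤ M → N' = ⊥ ∨ N' = M := by
    intro N' hN' hle
    by_cases h0 : N' = ⊥
    · left; exact h0
    · right
      have h1 : Nat.find hex ≤ Nat.card N' :=
        Nat.find_min' hex ⟨N', hN', fun a ha b hb => habM a (hle ha) b (hle hb), h0, rfl⟩
      exact Subgroup.eq_of_le_of_card_ge hle (by rw [hcard]; exact h1)
  have hnoinv := noInv c M hM habM
  have hodd : ∀ n ∈ M, Odd (orderOf n) := by
    intro n hn
    by_contra hev
    rw [Nat.not_odd_iff_even] at hev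
    obtain ⟨k, hk⟩ := hev
    have hpos : 0 < orderOf n := orderOf_pos n
    have h1 : (n ^ k) * (n ^ k) = 1 := by rw [← pow_add, ← hk, pow_orderOf_eq_one]
    have h2 := hnoinv (n ^ k) (M.pow_mem hn k) h1
    have h3 := orderOf_dvd_of_pow_eq_one h2
    have h4 := Nat.le_of_dvd (by omega) h3
    omega
  have hVM : V ⊓ M = ⊥ := by
    rw [eq_bot_iff]; intro x hx; rw [Subgroup.mem_bot]
    exact hnoinv x hx.2 (c.sq x hx.1)
  haveI := hM
  have hCn : (Subgroup.centralizer (M : Set G)).Normal := inferInstance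
  have hMC : M ≤ Subgroup.centralizer (M : Set G) := fun n hn =>
    Subgroup.mem_centralizer_iff.2 (fun m hm => habM m hm n hn)
  have hCV : Subgroup.centralizer (M : Set G) ⊔ V = ⊤ := by
    by_contra hne'
    have hS : SidkiIn V (Subgroup.centralizer (M : Set G) ⊔ V) :=
      fun h _ v hv ho hinv => c.sidki h v hv ho hinv
    obtain ⟨x, hxV, hx1, hxc⟩ := c.exists_centralizing (Subgroup.centralizer (M : Set G)) V
      hCn.isSubnormal le_rfl c.ne (by rw [Subgroup.normalizer_eq_top]; exact le_top) hne' hS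
    have hxC : x ∈ Subgroup.centralizer (M : Set G) :=
      Subgroup.mem_centralizer_iff.2 (fun m hm => (hxc m (hMC hm)).symm)
    have hxZ : x ∈ Subgroup.centralizer
        ((Subgroup.centralizer (M : Set G) : Subgroup G) : Set G) :=
      Subgroup.mem_centralizer_iff.2 (fun y hy => (hxc y hy).symm)
    have hZn : (Subgroup.centralizer (M : Set G) ⊓ Subgroup.centralizer
        ((Subgroup.centralizer (M : Set G) : Subgroup G) : Set G)).Normal := inferInstance
    have hZab : ∀ a ∈ (Subgroup.centralizer (M : Set G) ⊓ Subgroup.centralizer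
        ((Subgroup.centralizer (M : Set G) : Subgroup G) : Set G)),
        ∀ b ∈ (Subgroup.centralizer (M : Set G) ⊓ Subgroup.centralizer
        ((Subgroup.centralizer (M : Set G) : Subgroup G) : Set G)), a * b = b * a :=
      fun a ha b hb => (Subgroup.mem_centralizer_iff.1 hb.2) a ha.1
    exact hx1 (noInv c _ hZn hZab x ⟨hxC, hxZ⟩ (c.sq x hxV))
  have hdich := dich c M hM habM hmin hCV
  by_cases hVC : V ≤ Subgroup.centralizer (M : Set G)
  · have hcent : Subgroup.centralizer (M : Set G) = ⊤ := by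
      rw [← hCV]; exact (sup_eq_left.2 hVC).symm
    exact caseC c M hM hneM hVM hcent
  · exact caseD c M hM hneM hnoinv hodd hCV hdich hVC

end Cfsg.Agent.H2.Sidki
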