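import Mathlib
import Cfsg.Agent.Lib.Helper8.Singer3H

/-!
# Elements of order three of `SL_3(q)` conjugate into the normalizer of a Singer cycle:
the positive direction, assembled (helper8)
-/

set_option autoImplicit false
set_option linter.unusedSectionVars false

open scoped MatrixGroups

namespace Cfsg.Agent.Lib.Helper8.Singer3

open Matrix Module

section Pos

variable {F : Type*} [Field F] [Fintype F]

/-- the Frobenius data in dimension three -/
theorem exists_frob3 (p : ℕ) [Fact p.Prime] [CharP F p]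
    (K : Subalgebra F (Matrix (Fin 3) (Fin 3) F))
    (hK : Cfsg.Geo.IsFieldSubalgebra 3 K) {q : ℕ} (hq : Fintype.card F = q) :
    ∃ (v₀ : Fin 3 → F) (g : GL (Fin 3) F), v₀ ≠ 0 ∧ (∀ v : Fin 3 → F, ∃ k ∈ K, k *ᵥ v₀ = v) ∧
      g ∈ Cfsg.Geo.subalgebraNormalizer K ∧
      (g : Matrix (Fin 3) (Fin 3) F) * (g : Matrix (Fin 3) (Fin 3) F) *
        (g : Matrix (Fin 3) (Fin 3) F) = 1 ∧
      (g : Matrix (Fin 3) (Fin 3) F) ≠ 1 ∧
      (g : Matrix (Fin 3) (Fin 3) F) *ᵥ v₀ = v₀ ∧
      ∀ k ∈ K, (g : Matrix (Fin 3) (Fin 3) F) * k = k ^ q * (g : Matrix (Fin 3) (Fin 3) F) := by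
  classical
  set v₀ : Fin 3 → F := Pi.single 0 1 with hv
  have hv0 : v₀ ≠ 0 := by
    intro h0
    have := congrFun h0 0
    rw [hv, Pi.single_eq_same, Pi.zero_apply] at this
    exact one_ne_zero this
  obtain ⟨hsurj, g, hgN, hg3, hgv, hgk⟩ := exists_frobGL p (by norm_num) K hK hq v₀ hv0
  refine ⟨v₀, g, hv0, hsurj, hgN, ?_, ?_, hgv, hgk⟩
  · have := congrArg Units.val hg3
    rw [Units.val_pow_eq_pow_val, Units.val_one, pow_succ, pow_two] at this
    exact this
  · intro h1
    obtain ⟨k, hkK, hk⟩ := exists_frob_ne (by norm_num) K hK (by norm_num) hq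
    apply hk
    have := hgk k hkK
    rw [h1, Matrix.one_mul, Matrix.mul_one] at this
    exact this.symm

/-- (⟸) every element of order three is conjugate into the normalizer -/
theorem conj_into_singer (p : ℕ) [Fact p.Prime] [CharP F p]
    (K : Subalgebra F (Matrix (Fin 3) (Fin 3) F))
    (hK : Cfsg.Geo.IsFieldSubalgebra 3 K) {q : ℕ} (hq : Fintype.card F = q)
    (hcase : q % 9 = 4 ∨ q % 9 = 7 ∨ q % 9 = 8)
    (x : Matrix.SpecialLinearGroup (Fin 3) F) (z : F)
    (hx3 : ((x ^ 3 : Matrix.SpecialLinearGroup (Fin 3) F) : Matrix (Fin 3) (Fin 3) F) =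
      z • (1 : Matrix (Fin 3) (Fin 3) F))
    (hns : ∀ c : F, (x : Matrix (Fin 3) (Fin 3) F) ≠ c • (1 : Matrix (Fin 3) (Fin 3) F)) :
    ∃ P : Matrix.SpecialLinearGroup (Fin 3) F, P⁻¹ * x * P ∈
      ((Cfsg.Geo.subalgebraNormalizer K).comap (Matrix.SpecialLinearGroup.toGL :
        Matrix.SpecialLinearGroup (Fin 3) F →* GL (Fin 3) F)) := by
  classical
  have hq2 : 2 ≤ q := by rw [← hq]; exact Fintype.one_lt_card
  have hp3 : p ≠ 3 := by
    intro h
    have := char_dvd_card (F := F) p hq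
    rw [h] at this
    omega
  have h3 : (3 : F) ≠ 0 := three_ne_zero_of p hp3
  obtain ⟨v₀, g, hv0, hsurj, hgN, hG3, hG1, hGv, hGk⟩ := exists_frob3 p K hK hq
  set G := (g : Matrix (Fin 3) (Fin 3) F) with hG
  set X := (x : Matrix (Fin 3) (Fin 3) F) with hX
  have hXdet : X.det = 1 := x.2
  have hX3 : X * X * X = z • (1 : Matrix (Fin 3) (Fin 3) F) := by
    rw [← hx3, Matrix.SpecialLinearGroup.coe_pow, pow_succ, pow_two]
  have hz3 : z ^ 3 = 1 := by
    have := congrArg Matrix.det hX3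
    rw [Matrix.det_mul, Matrix.det_mul, hXdet, Matrix.det_smul, Matrix.det_one, Fintype.card_fin]
      at this
    rw [mul_one, mul_one, mul_one] at this
    exact this.symm
  -- the conjugating matrix
  have hT : ∃ T : Matrix (Fin 3) (Fin 3) F, T.det = 1 ∧ T * X = G * T := by
    by_cases h1 : q % 3 = 1
    · -- cube roots of unity in the field, no elements of order nine
      have h3dvd : 3 ∣ q - 1 := by omega
      have h9 : ¬ 9 ∣ q - 1 := by omega
      obtain ⟨ω, hω⟩ := exists_omega hq h3dvd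
      have hz1 : z = 1 := by
        by_contra hz1
        have hnc : ∀ c : F, c ^ 3 ≠ z := fun c hc => h9 (nine_dvd_of_cube hq c z hc hz3 hz1)
        have := det_of_no_cube_root X z hX3 hnc
        rw [hXdet] at this
        exact hz1 this.symm
      rw [hz1, one_smul] at hX3
      exact conj_of_hasEig3 h3 ω hω X G (hasEig3_of_det h3 ω hω X hX3 hXdet hns)
        (frob_hasEig3 K hK h3 ω hω v₀ hv0 hsurj G hG3 hG1 hGv hGk)
    · have h2 : q % 3 = 2 := by omega
      have hno : ¬ 3 ∣ q - 1 := by omega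
      have hirr := no_omega hq h3 hno
      have hz1 : z = 1 := by
        have h4 : (z - 1) * (z ^ 2 + z + 1) = 0 := by linear_combination hz3
        rcases mul_eq_zero.1 h4 with h5 | h5
        · exact sub_eq_zero.1 h5
        · exact absurd h5 (hirr z)
      rw [hz1, one_smul] at hX3
      have hX1 : X ≠ 1 := by
        intro h
        apply hns 1
        rw [one_smul]
        exact h
      exact conj_of_hasNF2 h3 hirr (exists_cube_root hq h2) X G (hasNF2_of_ne_one hirr X hX3 hX1)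
        (hasNF2_of_ne_one hirr G hG3 hG1)
  obtain ⟨T, hTdet, hTX⟩ := hT
  let Q : Matrix.SpecialLinearGroup (Fin 3) F := ⟨T, hTdet⟩
  have hQ : (Q : Matrix (Fin 3) (Fin 3) F) = T := rfl
  refine ⟨Q⁻¹, ?_⟩
  rw [Subgroup.mem_comap, inv_inv]
  have heq : (Matrix.SpecialLinearGroup.toGL (Q * x * Q⁻¹) : GL (Fin 3) F) = g := by
    apply Units.ext
    rw [Matrix.SpecialLinearGroup.coe_GL_coe_matrix, Matrix.SpecialLinearGroup.coe_mul,
      Matrix.SpecialLinearGroup.coe_mul, hQ, ← hX, hTX, Matrix.mul_assoc, ← hQ,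
      ← Matrix.SpecialLinearGroup.coe_mul, mul_inv_cancel, Matrix.SpecialLinearGroup.coe_one,
      Matrix.mul_one]
  rw [heq]
  exact hgN

end Pos

end Cfsg.Agent.Lib.Helper8.Singer3
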