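import Mathlib
import Cfsg.Agent.S0242
import Cfsg.Agent.Lib.Helper8.Singer3I

/-!
# Elements of order three of `SL_3(q)` not conjugate into the normalizer of a Singer cycle, and
the index condition (helper8)
-/

set_option autoImplicit false
set_option linter.unusedSectionVars false

open scoped MatrixGroups

namespace Cfsg.Agent.Lib.Helper8.Singer3

open Matrix Module

section Bad

variable {n : ℕ} {F : Type*} [Field F]

/-- conjugates of `c + (rank one)` are not in the normalizer -/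
theorem not_conj_of_rank_one {K : Subalgebra F (Matrix (Fin n) (Fin n) F)} {r : ℕ}
    (hK : Cfsg.Geo.IsFieldSubalgebra r K) (hr : 2 ≤ r) (hn : 3 ≤ n)
    (x : Matrix.SpecialLinearGroup (Fin n) F) (c : F) (hc : c ≠ 0) (w φ u : Fin n → F)
    (hw : w ≠ 0) (hφ : φ ⬝ᵥ u ≠ 0)
    (hx : (x : Matrix (Fin n) (Fin n) F) = c • (1 : Matrix (Fin n) (Fin n) F) +
      Matrix.vecMulVec w φ) (P : Matrix.SpecialLinearGroup (Fin n) F) :
    P⁻¹ * x * P ∉ ((Cfsg.Geo.subalgebraNormalizer K).comap (Matrix.SpecialLinearGroup.toGL :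
        Matrix.SpecialLinearGroup (Fin n) F →* GL (Fin n) F)) := by
  classical
  intro hP
  rw [Subgroup.mem_comap] at hP
  set Pm := (P : Matrix (Fin n) (Fin n) F) with hPm
  set Pi := ((P⁻¹ : Matrix.SpecialLinearGroup (Fin n) F) : Matrix (Fin n) (Fin n) F) with hPi
  have hPP : Pm * Pi = 1 := by
    rw [hPm, hPi, ← Matrix.SpecialLinearGroup.coe_mul, mul_inv_cancel,
      Matrix.SpecialLinearGroup.coe_one]
  have hPP' : Pi * Pm = 1 := by
    rw [hPm, hPi, ← Matrix.SpecialLinearGroup.coe_mul, inv_mul_cancel,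
      Matrix.SpecialLinearGroup.coe_one]
  have hY : ((Matrix.SpecialLinearGroup.toGL (P⁻¹ * x * P) : GL (Fin n) F) :
      Matrix (Fin n) (Fin n) F) =
      c • (1 : Matrix (Fin n) (Fin n) F) + Matrix.vecMulVec (Pi *ᵥ w) (φ ᵥ* Pm) := by
    rw [Matrix.SpecialLinearGroup.coe_GL_coe_matrix, Matrix.SpecialLinearGroup.coe_mul,
      Matrix.SpecialLinearGroup.coe_mul, hx, ← hPm, ← hPi, Matrix.mul_add, Matrix.add_mul,
      Matrix.mul_smul, Matrix.mul_one, Matrix.smul_mul, hPP', Matrix.mul_vecMulVec,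
      Matrix.vecMulVec_mul]
  refine not_mem_normalizer' hK hr hn _ c hc (Pi *ᵥ w) (φ ᵥ* Pm) ?_ (Pi *ᵥ u) ?_ hY hP
  · intro h0
    apply hw
    have : Pm *ᵥ (Pi *ᵥ w) = w := by rw [Matrix.mulVec_mulVec, hPP, Matrix.one_mulVec]
    rw [← this, h0, Matrix.mulVec_zero]
  · rw [← Matrix.dotProduct_mulVec, Matrix.mulVec_mulVec, hPP, Matrix.one_mulVec]
    exact hφ

/-- the determinant of `c + (rank one)` -/
theorem det_smul_one_add_vecMulVec (c : F) (hc : c ≠ 0) (w φ : Fin n → F) :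
    (c • (1 : Matrix (Fin n) (Fin n) F) + Matrix.vecMulVec w φ).det =
      c ^ n * (1 + c⁻¹ * (φ ⬝ᵥ w)) := by
  have e1 : c • (1 : Matrix (Fin n) (Fin n) F) + Matrix.vecMulVec w φ =
      c • ((1 : Matrix (Fin n) (Fin n) F) + Matrix.vecMulVec (c⁻¹ • w) φ) := by
    rw [smul_add, Matrix.smul_vecMulVec, smul_smul, mul_inv_cancel₀ hc, one_smul]
  rw [e1, Matrix.det_smul, Fintype.card_fin, Matrix.vecMulVec_eq Unit,
    Matrix.det_one_add_replicateCol_mul_replicateRow, dotProduct_smul, smul_eq_mul]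

end Bad

section Witness

variable {F : Type*} [Field F] [Fintype F]

/-- a bad element in characteristic three -/
theorem exists_bad_char_three (K : Subalgebra F (Matrix (Fin 3) (Fin 3) F))
    (hK : Cfsg.Geo.IsFieldSubalgebra 3 K) (h3 : (3 : F) = 0) :
    ∃ x : Matrix.SpecialLinearGroup (Fin 3) F,
      (∃ z : F, ((x ^ 3 : Matrix.SpecialLinearGroup (Fin 3) F) : Matrix (Fin 3) (Fin 3) F) =
        z • (1 : Matrix (Fin 3) (Fin 3) F)) ∧
      (∀ z : F, (x : Matrix (Fin 3) (Fin 3) F) ≠ z • (1 : Matrix (Fin 3) (Fin 3) F)) ∧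
      ∀ P : Matrix.SpecialLinearGroup (Fin 3) F, P⁻¹ * x * P ∉
        ((Cfsg.Geo.subalgebraNormalizer K).comap (Matrix.SpecialLinearGroup.toGL :
          Matrix.SpecialLinearGroup (Fin 3) F →* GL (Fin 3) F)) := by
  classical
  set e₀ : Fin 3 → F := Pi.single 0 1 with he₀
  set e₁ : Fin 3 → F := Pi.single 1 1 with he₁
  have h00 : e₀ ⬝ᵥ e₀ = 1 := by
    rw [he₀, dotProduct_single, Pi.single_eq_same, mul_one]
  have h01 : e₀ ⬝ᵥ e₁ = 0 := by
    rw [he₁, dotProduct_single, he₀, Pi.single_eq_of_ne (by decide), zero_mul]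
  have he₁0 : e₁ ≠ 0 := by
    intro h0
    have := congrFun h0 1
    rw [he₁, Pi.single_eq_same, Pi.zero_apply] at this
    exact one_ne_zero this
  set N : Matrix (Fin 3) (Fin 3) F := Matrix.vecMulVec e₁ e₀ with hN
  set M : Matrix (Fin 3) (Fin 3) F := (1 : F) • (1 : Matrix (Fin 3) (Fin 3) F) + N with hM
  have hNN : N * N = 0 := by
    rw [hN, Matrix.vecMulVec_mul_vecMulVec, h01, zero_smul, Matrix.vecMulVec_zero]
  have hMdet : M.det = 1 := by
    rw [hM, hN, det_smul_one_add_vecMulVec 1 one_ne_zero, h01]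
    simp
  let x : Matrix.SpecialLinearGroup (Fin 3) F := ⟨M, hMdet⟩
  have hx : (x : Matrix (Fin 3) (Fin 3) F) = M := rfl
  have hM1 : M = 1 + N := by rw [hM, one_smul]
  refine ⟨x, ⟨1, ?_⟩, ?_, ?_⟩
  · rw [Matrix.SpecialLinearGroup.coe_pow, hx, hM1, one_smul, pow_succ, pow_two]
    have : (1 + N) * (1 + N) * (1 + N) = 1 + (3 : F) • N + (3 : F) • (N * N) + N * N * N := by
      simp only [Matrix.add_mul, Matrix.mul_add, Matrix.one_mul, Matrix.mul_one]
      module
    rw [this, h3, zero_smul, zero_smul, hNN, Matrix.zero_mul]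
    abel
  · intro z hz
    rw [hx, hM1] at hz
    have h10 := congrFun (congrFun hz 1) 0
    rw [Matrix.add_apply, Matrix.one_apply_ne (by decide), Matrix.smul_apply,
      Matrix.one_apply_ne (by decide), hN, Matrix.vecMulVec_apply, he₁, he₀,
      Pi.single_eq_same, Pi.single_eq_same] at h10
    simp at h10
  · intro P
    exact not_conj_of_rank_one hK (by norm_num) (by norm_num) x 1 one_ne_zero e₁ e₀ e₀ he₁0
      (by rw [h00]; exact one_ne_zero) (by rw [hx, hM]) P

/-- a bad element when `9 ∣ q - 1` -/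
theorem exists_bad_nine (K : Subalgebra F (Matrix (Fin 3) (Fin 3) F))
    (hK : Cfsg.Geo.IsFieldSubalgebra 3 K) {q : ℕ} (hq : Fintype.card F = q) (h9 : 9 ∣ q - 1) :
    ∃ x : Matrix.SpecialLinearGroup (Fin 3) F,
      (∃ z : F, ((x ^ 3 : Matrix.SpecialLinearGroup (Fin 3) F) : Matrix (Fin 3) (Fin 3) F) =
        z • (1 : Matrix (Fin 3) (Fin 3) F)) ∧
      (∀ z : F, (x : Matrix (Fin 3) (Fin 3) F) ≠ z • (1 : Matrix (Fin 3) (Fin 3) F)) ∧
      ∀ P : Matrix.SpecialLinearGroup (Fin 3) F, P⁻¹ * x * P ∉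
        ((Cfsg.Geo.subalgebraNormalizer K).comap (Matrix.SpecialLinearGroup.toGL :
          Matrix.SpecialLinearGroup (Fin 3) F →* GL (Fin 3) F)) := by
  classical
  have hq2 : 2 ≤ q := by rw [← hq]; exact Fintype.one_lt_card
  -- an element of order nine
  obtain ⟨g, hg⟩ := IsCyclic.exists_ofOrder_eq_natCard (α := Fˣ)
  rw [card_units_eq hq] at hg
  obtain ⟨t, ht⟩ := h9
  have ht0 : 0 < t := by
    rcases Nat.eq_zero_or_pos t with h | h
    · rw [h] at ht; omega
    · exact h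
  set a : F := ((g ^ t : Fˣ) : F) with ha
  have ha9 : a ^ 9 = 1 := by
    rw [ha, ← Units.val_pow_eq_pow_val, ← pow_mul, mul_comm, ← ht, ← hg, pow_orderOf_eq_one,
      Units.val_one]
  have ha3 : a ^ 3 ≠ 1 := by
    intro h
    rw [ha, ← Units.val_pow_eq_pow_val, ← pow_mul] at h
    have h1 : g ^ (t * 3) = 1 := Units.ext (by rw [h, Units.val_one])
    exact pow_ne_one_of_lt_orderOf (by omega) (by rw [hg, ht]; omega) h1
  have ha0 : a ≠ 0 := by
    rw [ha]
    exact Units.ne_zero _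
  set c : F := a ^ 8 with hc
  set ω : F := a ^ 3 with hω
  have hc0 : c ≠ 0 := pow_ne_zero _ ha0
  set e₂ : Fin 3 → F := Pi.single 2 1 with he₂
  have h22 : e₂ ⬝ᵥ e₂ = 1 := by
    rw [he₂, dotProduct_single, Pi.single_eq_same, mul_one]
  set w : Fin 3 → F := (c * ω - c) • e₂ with hw
  have hcω : c * ω - c ≠ 0 := by
    intro h0
    apply ha3
    have : c * (ω - 1) = 0 := by linear_combination h0
    rcases mul_eq_zero.1 this with h1 | h1
    · exact absurd h1 hc0
    · exact sub_eq_zero.1 h1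
  have hw0 : w ≠ 0 := by
    intro h0
    have := congrFun h0 2
    rw [hw, Pi.smul_apply, he₂, Pi.single_eq_same, smul_eq_mul, mul_one, Pi.zero_apply] at this
    exact hcω this
  set N : Matrix (Fin 3) (Fin 3) F := Matrix.vecMulVec w e₂ with hN
  set M : Matrix (Fin 3) (Fin 3) F := c • (1 : Matrix (Fin 3) (Fin 3) F) + N with hM
  have hφw : e₂ ⬝ᵥ w = c * ω - c := by
    rw [hw, dotProduct_smul, h22, smul_eq_mul, mul_one]
  have hMdet : M.det = 1 := by
    rw [hM, hN, det_smul_one_add_vecMulVec c hc0, hφw]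
    have : c ^ 3 * (1 + c⁻¹ * (c * ω - c)) = c ^ 3 * ω := by
      field_simp
      ring
    rw [this, hc, hω, ← pow_mul, ← pow_add]
    have : 8 * 3 + 3 = 9 * 3 := by norm_num
    rw [this, pow_mul, ha9, one_pow]
  have hNN : N * N = (c * ω - c) • N := by
    rw [hN, Matrix.vecMulVec_mul_vecMulVec, hφw, Matrix.vecMulVec_smul]
  let x : Matrix.SpecialLinearGroup (Fin 3) F := ⟨M, hMdet⟩
  have hx : (x : Matrix (Fin 3) (Fin 3) F) = M := rfl
  have hω3 : ω ^ 3 = 1 := by rw [hω, ← pow_mul]; exact ha9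
  refine ⟨x, ⟨c ^ 3, ?_⟩, ?_, ?_⟩
  · rw [Matrix.SpecialLinearGroup.coe_pow, hx, pow_succ, pow_two, hM]
    have e1 : (c • (1 : Matrix (Fin 3) (Fin 3) F) + N) * (c • (1 : Matrix (Fin 3) (Fin 3) F) + N) =
        (c * c) • (1 : Matrix (Fin 3) (Fin 3) F) + (c + c * ω) • N := by
      simp only [Matrix.add_mul, Matrix.mul_add, Matrix.smul_mul, Matrix.mul_smul, Matrix.one_mul,
        Matrix.mul_one, hNN]
      module
    rw [e1]
    have e2 : ((c * c) • (1 : Matrix (Fin 3) (Fin 3) F) + (c + c * ω) • N) *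
        (c • (1 : Matrix (Fin 3) (Fin 3) F) + N) =
        (c * c * c) • (1 : Matrix (Fin 3) (Fin 3) F) +
          (c * c + (c + c * ω) * c + (c + c * ω) * (c * ω - c)) • N := by
      simp only [Matrix.add_mul, Matrix.mul_add, Matrix.smul_mul, Matrix.mul_smul, Matrix.one_mul,
        Matrix.mul_one, hNN]
      module
    rw [e2]
    have e3 : c * c + (c + c * ω) * c + (c + c * ω) * (c * ω - c) = 0 := by
      have h1 : (ω - 1) * (ω ^ 2 + ω + 1) = 0 := by linear_combination hω3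
      have h2 : ω ^ 2 + ω + 1 = 0 := by
        rcases mul_eq_zero.1 h1 with h | h
        · exact absurd (sub_eq_zero.1 h) ha3
        · exact h
      linear_combination (c * c) * h2
    rw [e3, zero_smul, add_zero]
    congr 1
    ring
  · intro z hz
    rw [hx, hM] at hz
    have h00 := congrFun (congrFun hz 0) 0
    have h22' := congrFun (congrFun hz 2) 2
    rw [Matrix.add_apply, Matrix.smul_apply, Matrix.one_apply_eq, Matrix.smul_apply,
      Matrix.one_apply_eq, hN, Matrix.vecMulVec_apply] at h00 h22'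
    rw [he₂, Pi.single_eq_of_ne (by decide), mul_zero, add_zero] at h00
    rw [hw, Pi.smul_apply, he₂, Pi.single_eq_same, smul_eq_mul, mul_one, mul_one, smul_eq_mul,
      mul_one, smul_eq_mul, mul_one] at h22'
    rw [smul_eq_mul, mul_one, smul_eq_mul, mul_one] at h00
    apply hcω
    linear_combination h22' - h00
  · intro P
    exact not_conj_of_rank_one hK (by norm_num) (by norm_num) x c hc0 w e₂ e₂ hw0
      (by rw [h22]; exact one_ne_zero) (by rw [hx, hM]) P

end Witness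

end Cfsg.Agent.Lib.Helper8.Singer3
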