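import Mathlib
import Cfsg.Agent.S0242
import Cfsg.Agent.Lib.Helper8.Singer3I

/-!
# The index of the normalizer of a Singer cycle in `SL_3(q)` is prime to three when
`q ≡ 2, 5 (mod 9)` (helper8)
-/

set_option autoImplicit false
set_option linter.unusedSectionVars false

open scoped MatrixGroups

namespace Cfsg.Agent.Lib.Helper8.Singer3

open Matrix Module

section Index

variable {F : Type*} [Field F] [Fintype F]

theorem nine_not_dvd_card_sl3 {q : ℕ} (hq : Fintype.card F = q) (hcase : q % 9 = 2 ∨ q % 9 = 5) :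
    ¬ 9 ∣ Nat.card (Matrix.SpecialLinearGroup (Fin 3) F) := by
  intro h9
  have hq2 : 2 ≤ q := by rw [← hq]; exact Fintype.one_lt_card
  have h1 := Cfsg.Agent.S0242.result hq 3 (by norm_num)
  have h2 : 9 ∣ ∏ i : Fin 3, (q ^ 3 - q ^ (i : ℕ)) := by
    rw [← h1]
    exact Dvd.dvd.mul_left h9 _
  rw [Fin.prod_univ_three] at h2
  simp only [Fin.val_zero, Fin.val_one, Fin.val_two, pow_zero, pow_one] at h2
  have hle1 : 1 ≤ q ^ 3 := Nat.one_le_pow _ _ (by omega)
  have hle2 : q ≤ q ^ 3 := by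
    calc q = q ^ 1 := (pow_one q).symm
      _ ≤ q ^ 3 := Nat.pow_le_pow_right (by omega) (by norm_num)
  have hle3 : q ^ 2 ≤ q ^ 3 := Nat.pow_le_pow_right (by omega) (by norm_num)
  have h3 := (ZMod.natCast_eq_zero_iff _ 9).2 h2
  rw [Nat.cast_mul, Nat.cast_mul, Nat.cast_sub hle1, Nat.cast_sub hle2, Nat.cast_sub hle3,
    Nat.cast_pow, Nat.cast_pow, Nat.cast_one] at h3
  have hqmod : (q : ZMod 9) = ((q % 9 : ℕ) : ZMod 9) := (ZMod.natCast_mod q 9).symm
  rw [hqmod] at h3
  rcases hcase with h | h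
  · rw [h] at h3
    revert h3
    decide
  · rw [h] at h3
    revert h3
    decide

/-- the normalizer contains an element of order three of determinant one -/
theorem three_dvd_card_normalizer (p : ℕ) [Fact p.Prime] [CharP F p]
    (K : Subalgebra F (Matrix (Fin 3) (Fin 3) F))
    (hK : Cfsg.Geo.IsFieldSubalgebra 3 K) {q : ℕ} (hq : Fintype.card F = q)
    (hq3 : q % 3 = 2) :
    3 ∣ Nat.card ↥((Cfsg.Geo.subalgebraNormalizer K).comap (Matrix.SpecialLinearGroup.toGL :
        Matrix.SpecialLinearGroup (Fin 3) F →* GL (Fin 3) F)) := by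
  classical
  have hq2 : 2 ≤ q := by rw [← hq]; exact Fintype.one_lt_card
  have hp3 : p ≠ 3 := by
    intro h
    have := char_dvd_card (F := F) p hq
    rw [h] at this
    omega
  have h3 : (3 : F) ≠ 0 := three_ne_zero_of p hp3
  have hno : ¬ 3 ∣ q - 1 := by omega
  have hirr := no_omega hq h3 hno
  obtain ⟨v₀, g, hv0, hsurj, hgN, hG3, hG1, hGv, hGk⟩ := exists_frob3 p K hK hq
  set G := (g : Matrix (Fin 3) (Fin 3) F) with hG
  have hdet : G.det = 1 := by
    have h1 := congrArg Matrix.det hG3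
    rw [Matrix.det_mul, Matrix.det_mul, Matrix.det_one] at h1
    have h4 : (G.det - 1) * (G.det ^ 2 + G.det + 1) = 0 := by linear_combination h1
    rcases mul_eq_zero.1 h4 with h5 | h5
    · exact sub_eq_zero.1 h5
    · exact absurd h5 (hirr _)
  let gs : Matrix.SpecialLinearGroup (Fin 3) F := ⟨G, hdet⟩
  have hgs : (gs : Matrix (Fin 3) (Fin 3) F) = G := rfl
  have hmem : gs ∈ ((Cfsg.Geo.subalgebraNormalizer K).comap
      (Matrix.SpecialLinearGroup.toGL : Matrix.SpecialLinearGroup (Fin 3) F →* GL (Fin 3) F)) := by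
    rw [Subgroup.mem_comap]
    have : (Matrix.SpecialLinearGroup.toGL gs : GL (Fin 3) F) = g := by
      apply Units.ext
      rw [Matrix.SpecialLinearGroup.coe_GL_coe_matrix, hgs]
    rw [this]
    exact hgN
  haveI : Fact (Nat.Prime 3) := ⟨Nat.prime_three⟩
  have ho : orderOf gs = 3 := by
    apply orderOf_eq_prime
    · apply Subtype.ext
      rw [Matrix.SpecialLinearGroup.coe_pow, hgs, pow_succ, pow_two, hG3,
        Matrix.SpecialLinearGroup.coe_one]
    · intro h1
      apply hG1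
      have := congrArg Subtype.val h1
      rw [Matrix.SpecialLinearGroup.coe_one] at this
      exact this
  have ho' : orderOf (⟨gs, hmem⟩ : ↥((Cfsg.Geo.subalgebraNormalizer K).comap
      (Matrix.SpecialLinearGroup.toGL :
        Matrix.SpecialLinearGroup (Fin 3) F →* GL (Fin 3) F))) = 3 :=
    (Subgroup.orderOf_mk gs hmem).trans ho
  have hdvd := orderOf_dvd_natCard (⟨gs, hmem⟩ : ↥((Cfsg.Geo.subalgebraNormalizer K).comap
      (Matrix.SpecialLinearGroup.toGL :
        Matrix.SpecialLinearGroup (Fin 3) F →* GL (Fin 3) F)))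
  rw [ho'] at hdvd
  exact hdvd

/-- the index is prime to three when `q ≡ 2, 5 (mod 9)` -/
theorem not_three_dvd_index (p : ℕ) [Fact p.Prime] [CharP F p]
    (K : Subalgebra F (Matrix (Fin 3) (Fin 3) F))
    (hK : Cfsg.Geo.IsFieldSubalgebra 3 K) {q : ℕ} (hq : Fintype.card F = q)
    (hcase : q % 9 = 2 ∨ q % 9 = 5) :
    ¬ 3 ∣ ((Cfsg.Geo.subalgebraNormalizer K).comap (Matrix.SpecialLinearGroup.toGL :
        Matrix.SpecialLinearGroup (Fin 3) F →* GL (Fin 3) F)).index := by
  intro hidx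
  have h1 := three_dvd_card_normalizer p K hK hq (by omega)
  apply nine_not_dvd_card_sl3 hq hcase
  rw [← Subgroup.card_mul_index ((Cfsg.Geo.subalgebraNormalizer K).comap
    (Matrix.SpecialLinearGroup.toGL : Matrix.SpecialLinearGroup (Fin 3) F →* GL (Fin 3) F))]
  have : (9 : ℕ) = 3 * 3 := by norm_num
  rw [this]
  exact Nat.mul_dvd_mul h1 hidx

theorem three_eq_zero_of_dvd (p : ℕ) [Fact p.Prime] [CharP F p] {q : ℕ}
    (hq : Fintype.card F = q) (h : 3 ∣ q) : (3 : F) = 0 := by
  obtain ⟨f, _, hf⟩ := FiniteField.card F p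
  rw [hq] at hf
  rw [hf] at h
  have h1 : 3 ∣ p := Nat.Prime.dvd_of_dvd_pow Nat.prime_three h
  have h2 : p ∣ 3 := by
    rw [(Nat.prime_dvd_prime_iff_eq Nat.prime_three (Fact.out : p.Prime)).1 h1]
  have h3 : ((3 : ℕ) : F) = 0 := (CharP.cast_eq_zero_iff F p 3).2 h2
  exact_mod_cast h3

end Index

end Cfsg.Agent.Lib.Helper8.Singer3
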