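import Mathlib
import Cfsg.Agent.Lib.Helper8.Singer3B
import Cfsg.Agent.Lib.Helper8.SingerNB

/-!
# Elements of prime order `n` of `SL_n(q)` conjugate into the normalizer of a Singer cycle:
the positive direction (helper8)
-/

set_option autoImplicit false
set_option linter.unusedSectionVars false

open scoped MatrixGroups

namespace Cfsg.Agent.Lib.Helper8.SingerN

open Matrix Module Polynomial

section Pos

variable {F : Type*} [Field F] [Fintype F]

theorem not_dvd_of_order {q n : ℕ} (hq1 : 1 ≤ q) (hn3 : 3 < n)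
    (hord : orderOf (q : ZMod n) = n - 1) : ¬ n ∣ q - 1 := by
  intro hdvd
  have h1 : (q : ZMod n) = 1 := by
    have h2 : q = (q - 1) + 1 := by omega
    rw [h2, Nat.cast_add, (ZMod.natCast_eq_zero_iff _ _).2 hdvd, zero_add, Nat.cast_one]
  rw [h1, orderOf_one] at hord
  omega

theorem natCast_ne_zero_of (p : ℕ) [Fact p.Prime] [CharP F p] {n : ℕ} (hn : n.Prime)
    (hnp : n ≠ p) : (n : F) ≠ 0 := by
  intro h0
  rw [CharP.cast_eq_zero_iff F p n] at h0
  exact hnp ((Nat.prime_dvd_prime_iff_eq (Fact.out : p.Prime) hn).1 h0).symm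

/-- (⟸) every element of order `n` is conjugate into the normalizer -/
theorem conj_into_singer (p : ℕ) [Fact p.Prime] [CharP F p] {n : ℕ} (hn : n.Prime) (hn3 : 3 < n)
    (hnp : n ≠ p) (K : Subalgebra F (Matrix (Fin n) (Fin n) F))
    (hK : Cfsg.Geo.IsFieldSubalgebra n K) {q : ℕ} (hq : Fintype.card F = q)
    (hord : orderOf (q : ZMod n) = n - 1)
    (x : Matrix.SpecialLinearGroup (Fin n) F) (z : F)
    (hxn : ((x ^ n : Matrix.SpecialLinearGroup (Fin n) F) : Matrix (Fin n) (Fin n) F) =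
      z • (1 : Matrix (Fin n) (Fin n) F))
    (hns : ∀ c : F, (x : Matrix (Fin n) (Fin n) F) ≠ c • (1 : Matrix (Fin n) (Fin n) F)) :
    ∃ P : Matrix.SpecialLinearGroup (Fin n) F, P⁻¹ * x * P ∈
      ((Cfsg.Geo.subalgebraNormalizer K).comap (Matrix.SpecialLinearGroup.toGL :
        Matrix.SpecialLinearGroup (Fin n) F →* GL (Fin n) F)) := by
  classical
  have hq2 : 2 ≤ q := by rw [← hq]; exact Fintype.one_lt_card
  have hnq : ¬ n ∣ q - 1 := not_dvd_of_order (by omega) hn3 hord
  have hn0 : (n : F) ≠ 0 := natCast_ne_zero_of p hn hnp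
  have hirr := irreducible_geomPoly p hq hn hnp hord
  have hroot := exists_root hq hn hnq
  -- the Frobenius element
  set v₀ : Fin n → F := Pi.single ⟨0, by omega⟩ 1 with hv
  have hv0 : v₀ ≠ 0 := by
    intro h0
    have := congrFun h0 ⟨0, by omega⟩
    rw [hv, Pi.single_eq_same, Pi.zero_apply] at this
    exact one_ne_zero this
  obtain ⟨hsurj, g, hgN, hgn, hgv, hgk⟩ := Singer3.exists_frobGL p (by omega) K hK hq v₀ hv0
  set G := (g : Matrix (Fin n) (Fin n) F) with hG
  have hGn : G ^ n = 1 := by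
    have := congrArg Units.val hgn
    rw [Units.val_pow_eq_pow_val, Units.val_one] at this
    exact this
  have hG1 : G ≠ 1 := by
    intro h1
    obtain ⟨k, hkK, hk⟩ := Singer3.exists_frob_ne (by omega) K hK (by omega) hq
    apply hk
    have := hgk k hkK
    rw [h1, Matrix.one_mul, Matrix.mul_one] at this
    exact this.symm
  set X := (x : Matrix (Fin n) (Fin n) F) with hX
  have hXdet : X.det = 1 := x.2
  have hXn' : X ^ n = z • (1 : Matrix (Fin n) (Fin n) F) := by
    rw [← hxn, Matrix.SpecialLinearGroup.coe_pow]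
  have hzn : z ^ n = 1 := by
    have := congrArg Matrix.det hXn'
    rw [Matrix.det_pow, hXdet, one_pow, Matrix.det_smul, Matrix.det_one, Fintype.card_fin,
      mul_one] at this
    exact this.symm
  have hz1 : z = 1 := eq_one_of_pow hq hn hnq z hzn
  have hXn : X ^ n = 1 := by rw [hXn', hz1, one_smul]
  have hX1 : X ≠ 1 := by
    intro h
    apply hns 1
    rw [one_smul]
    exact h
  obtain ⟨e₀, he₀, hXe⟩ := exists_fixed hq hn hnq X hXn
  obtain ⟨v, hvX⟩ := exists_cyclic (by omega) hn0 hirr X hXn hX1 e₀ he₀ hXe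
  obtain ⟨w, hwG⟩ := exists_cyclic (by omega) hn0 hirr G hGn hG1 v₀ hv0 hgv
  obtain ⟨T, hTdet, hTX⟩ := conj_of_cyclic (by omega) hroot X G hXn hGn v w hvX hwG
  let Q : Matrix.SpecialLinearGroup (Fin n) F := ⟨T, hTdet⟩
  have hQ : (Q : Matrix (Fin n) (Fin n) F) = T := rfl
  refine ⟨Q⁻¹, ?_⟩
  rw [Subgroup.mem_comap, inv_inv]
  have heq : (Matrix.SpecialLinearGroup.toGL (Q * x * Q⁻¹) : GL (Fin n) F) = g := by
    apply Units.ext
    rw [Matrix.SpecialLinearGroup.coe_GL_coe_matrix, Matrix.SpecialLinearGroup.coe_mul,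
      Matrix.SpecialLinearGroup.coe_mul, hQ, ← hX, hTX, Matrix.mul_assoc, ← hQ,
      ← Matrix.SpecialLinearGroup.coe_mul, mul_inv_cancel, Matrix.SpecialLinearGroup.coe_one,
      Matrix.mul_one]
  rw [heq]
  exact hgN

end Pos

end Cfsg.Agent.Lib.Helper8.SingerN
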