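import Mathlib
import Cfsg.Agent.Lib.Helper8.Singer3B
import Cfsg.Agent.Lib.Helper8.GSpFormD
import Cfsg.Agent.Lib.Helper8.SingerNA

/-!
# Elements `c + N` with `N` of small rank do not normalize a full-degree field subalgebra
(helper8)
-/

set_option autoImplicit false
set_option linter.unusedSectionVars false

open scoped MatrixGroups

namespace Cfsg.Agent.Lib.Helper8.SingerN

open Matrix Module Cfsg.Agent.Lib.Helper8.ExtField

section Neg

variable {F : Type*} [Field F] [Fintype F] {n : ℕ}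

/-- elements `c + N`, `N ≠ 0` of rank less than `n / 2`, do not normalize a field subalgebra of
degree `n` -/
theorem not_mem_normalizer_of_rank (p : ℕ) [Fact p.Prime] [CharP F p] (hn : 1 ≤ n)
    {K : Subalgebra F (Matrix (Fin n) (Fin n) F)}
    (hK : Cfsg.Geo.IsFieldSubalgebra n K) {q : ℕ} (hq : Fintype.card F = q)
    (g : GL (Fin n) F) (c : F) (hc : c ≠ 0) (N : Matrix (Fin n) (Fin n) F) (hN0 : N ≠ 0)
    (hNr : 2 * N.rank < n)
    (hgm : (g : Matrix (Fin n) (Fin n) F) = c • (1 : Matrix (Fin n) (Fin n) F) + N) :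
    g ∉ Cfsg.Geo.subalgebraNormalizer K := by
  classical
  intro hmem
  have hinv : ∀ k ∈ K, k ≠ 0 → ∃ y : Matrix (Fin n) (Fin n) F, k * y = 1 := by
    intro k hk hk0
    obtain ⟨y, _, hy⟩ := hK.inv k hk hk0
    exact ⟨y, hy⟩
  set G := (g : Matrix (Fin n) (Fin n) F) with hG
  set G' := ((g⁻¹ : GL (Fin n) F) : Matrix (Fin n) (Fin n) F) with hG'
  have hGG' : G * G' = 1 := by
    rw [hG, hG', ← Units.val_mul, mul_inv_cancel, Units.val_one]
  have hG'G : G' * G = 1 := by
    rw [hG, hG', ← Units.val_mul, inv_mul_cancel, Units.val_one]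
  -- `N` commutes with `K`
  have hcommK : ∀ ω ∈ K, N * ω = ω * N := by
    intro ω hωK
    have hω'K : G * ω * G' ∈ K := (hmem ω).1 hωK
    set ω' := G * ω * G' with hω'
    have hGω : G * ω = ω' * G := by
      rw [hω', Matrix.mul_assoc, Matrix.mul_assoc, hG'G, Matrix.mul_one]
    have hkey : N * ω + (-ω') * N = c • (ω' - ω) := by
      have h1 : (c • (1 : Matrix (Fin n) (Fin n) F) + N) * ω =
          ω' * (c • (1 : Matrix (Fin n) (Fin n) F) + N) := by
        rw [← hgm]
        exact hGω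
      rw [Matrix.add_mul, Matrix.mul_add, Matrix.smul_mul, Matrix.one_mul, Matrix.mul_smul,
        Matrix.mul_one] at h1
      rw [Matrix.neg_mul, smul_sub]
      have h2 : N * ω = c • ω' + ω' * N - c • ω := by rw [← h1]; abel
      rw [h2]
      abel
    by_cases hωω' : ω' - ω = 0
    · have hω'eq : ω' = ω := sub_eq_zero.1 hωω'
      rw [hωω', smul_zero, hω'eq] at hkey
      rw [Matrix.neg_mul] at hkey
      have := eq_neg_of_add_eq_zero_left hkey
      rw [neg_neg] at this
      exact this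
    · exfalso
      have h3 : ω' - ω ∈ K := K.sub_mem hω'K hωK
      obtain ⟨y, hy⟩ := hinv _ h3 hωω'
      have hdet : IsUnit (c • (ω' - ω)).det := by
        rw [Matrix.det_smul]
        have h4 := congrArg Matrix.det hy
        rw [Matrix.det_mul, Matrix.det_one] at h4
        exact ((pow_ne_zero _ hc).isUnit).mul (IsUnit.of_mul_eq_one _ h4)
      have hrank : (c • (ω' - ω)).rank = n := by
        rw [Matrix.rank_of_isUnit _ ((Matrix.isUnit_iff_isUnit_det _).2 hdet), Fintype.card_fin]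
      have h5 : (N * ω + (-ω') * N).rank ≤ N.rank + N.rank := by
        calc (N * ω + (-ω') * N).rank ≤ (N * ω).rank + ((-ω') * N).rank := rank_add_le _ _
          _ ≤ N.rank + N.rank :=
              Nat.add_le_add (Matrix.rank_mul_le_left _ _) (Matrix.rank_mul_le_right _ _)
      rw [hkey, hrank] at h5
      omega
  -- `N` is onto
  obtain ⟨v₁, hv₁⟩ := exists_mulVec_ne_zero N hN0
  obtain ⟨hsurj, -⟩ := Singer3.exists_frobenius p hn K hK hq (N *ᵥ v₁) hv₁
  have htop : LinearMap.range N.mulVecLin = ⊤ := by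
    rw [LinearMap.range_eq_top]
    intro v
    obtain ⟨k, hkK, hk⟩ := hsurj v
    refine ⟨k *ᵥ v₁, ?_⟩
    rw [Matrix.mulVecLin_apply, Matrix.mulVec_mulVec, hcommK k hkK, ← Matrix.mulVec_mulVec, hk]
  have hrankN : N.rank = n := by
    rw [Matrix.rank, htop, finrank_top, Module.finrank_fin_fun]
  omega

/-- conjugates of `c + N` are not in the normalizer -/
theorem not_conj_of_rank (p : ℕ) [Fact p.Prime] [CharP F p] (hn : 1 ≤ n)
    {K : Subalgebra F (Matrix (Fin n) (Fin n) F)}
    (hK : Cfsg.Geo.IsFieldSubalgebra n K) {q : ℕ} (hq : Fintype.card F = q)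
    (x : Matrix.SpecialLinearGroup (Fin n) F) (c : F) (hc : c ≠ 0)
    (N : Matrix (Fin n) (Fin n) F) (hN0 : N ≠ 0) (hNr : 2 * N.rank < n)
    (hx : (x : Matrix (Fin n) (Fin n) F) = c • (1 : Matrix (Fin n) (Fin n) F) + N)
    (P : Matrix.SpecialLinearGroup (Fin n) F) :
    P⁻¹ * x * P ∉ ((Cfsg.Geo.subalgebraNormalizer K).comap (Matrix.SpecialLinearGroup.toGL :
        Matrix.SpecialLinearGroup (Fin n) F →* GL (Fin n) F)) := by
  classical
  intro hP
  rw [Subgroup.mem_comap] at hP
  set Pm := (P : Matrix (Fin n) (Fin n) F) with hPm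
  set Pi := ((P⁻¹ : Matrix.SpecialLinearGroup (Fin n) F) : Matrix (Fin n) (Fin n) F) with hPi
  have hPP : Pm * Pi = 1 := by
    rw [hPm, hPi, ← Matrix.SpecialLinearGroup.coe_mul, mul_inv_cancel,
      Matrix.SpecialLinearGroup.coe_one]
  have hPP' : Pi * Pm = 1 := by
    rw [hPm, hPi, ← Matrix.SpecialLinearGroup.coe_mul, inv_mul_cancel,
      Matrix.SpecialLinearGroup.coe_one]
  have hY : ((Matrix.SpecialLinearGroup.toGL (P⁻¹ * x * P) : GL (Fin n) F) :
      Matrix (Fin n) (Fin n) F) =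
      c • (1 : Matrix (Fin n) (Fin n) F) + Pi * N * Pm := by
    rw [Matrix.SpecialLinearGroup.coe_GL_coe_matrix, Matrix.SpecialLinearGroup.coe_mul,
      Matrix.SpecialLinearGroup.coe_mul, hx, ← hPm, ← hPi, Matrix.mul_add, Matrix.add_mul,
      Matrix.mul_smul, Matrix.mul_one, Matrix.smul_mul, hPP']
  refine not_mem_normalizer_of_rank p hn hK hq _ c hc (Pi * N * Pm) ?_ ?_ hY hP
  · intro h0
    apply hN0
    have : Pm * (Pi * N * Pm) * Pi = N := by
      rw [Matrix.mul_assoc Pi, ← Matrix.mul_assoc Pm, hPP, Matrix.one_mul, Matrix.mul_assoc, hPP,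
        Matrix.mul_one]
    rw [← this, h0, Matrix.mul_zero, Matrix.zero_mul]
  · rw [GSpForm.rank_conj Pm Pi N hPP]
    exact hNr

end Neg

end Cfsg.Agent.Lib.Helper8.SingerN
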