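import Mathlib

/-!
# Embedding a small block of finite order into `SL_n` (helper8)
-/

set_option autoImplicit false
set_option linter.unusedSectionVars false

namespace Cfsg.Agent.Lib.Helper8.SingerN

open Matrix Module

section Block

variable {F : Type*} [Field F]

theorem fromBlocks_pow_one {i k : ℕ} (Y : Matrix (Fin i) (Fin i) F) (m : ℕ) :
    (Matrix.fromBlocks Y 0 0 (1 : Matrix (Fin k) (Fin k) F)) ^ m =
      Matrix.fromBlocks (Y ^ m) 0 0 1 := by
  induction m with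
  | zero => rw [pow_zero, pow_zero, Matrix.fromBlocks_one]
  | succ m ih =>
    rw [pow_succ, ih, Matrix.fromBlocks_multiply, ← pow_succ]
    simp

/-- a block of determinant one and finite order embeds in `SL_n` as an element `x` with
`rank (x - 1)` at most the size of the block -/
theorem exists_block {i n : ℕ} (hi : i ≤ n) (Y : Matrix (Fin i) (Fin i) F) (hYdet : Y.det = 1)
    (m : ℕ) (hYm : Y ^ m = 1) (hY1 : Y ≠ 1) :
    ∃ x : Matrix (Fin n) (Fin n) F, x.det = 1 ∧ x ^ m = 1 ∧ x - 1 ≠ 0 ∧ (x - 1).rank ≤ i := by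
  classical
  obtain ⟨k, rfl⟩ : ∃ k, n = i + k := ⟨n - i, by omega⟩
  obtain ⟨φ, hφ⟩ : ∃ φ : Matrix (Fin i ⊕ Fin k) (Fin i ⊕ Fin k) F ≃ₐ[F]
      Matrix (Fin (i + k)) (Fin (i + k)) F, ∀ M, φ M = Matrix.reindex finSumFinEquiv finSumFinEquiv M :=
    ⟨Matrix.reindexAlgEquiv F F finSumFinEquiv, fun M => by rw [Matrix.coe_reindexAlgEquiv]⟩
  set B : Matrix (Fin i ⊕ Fin k) (Fin i ⊕ Fin k) F := Matrix.fromBlocks Y 0 0 1 with hB
  have hB1 : B - 1 = Matrix.fromBlocks (Y - 1) 0 0 0 := by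
    rw [hB, ← Matrix.fromBlocks_one, sub_eq_add_neg, Matrix.fromBlocks_neg, Matrix.fromBlocks_add]
    simp [sub_eq_add_neg]
  have hB1' : B - 1 = Matrix.fromRows (Y - 1) (0 : Matrix (Fin k) (Fin i) F) *
      Matrix.fromCols (1 : Matrix (Fin i) (Fin i) F) (0 : Matrix (Fin i) (Fin k) F) := by
    rw [Matrix.fromRows_mul_fromCols, hB1]
    simp
  refine ⟨φ B, ?_, ?_, ?_, ?_⟩
  · rw [hφ, Matrix.det_reindex_self, hB, Matrix.det_fromBlocks_zero₂₁, hYdet, Matrix.det_one,
      mul_one]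
  · rw [← map_pow, hB, fromBlocks_pow_one, hYm, Matrix.fromBlocks_one, map_one]
  · rw [← map_one φ, ← map_sub]
    intro h
    have h2 : B - 1 = 0 := by
      apply φ.injective
      rw [h, map_zero]
    rw [hB1, ← Matrix.fromBlocks_zero, Matrix.fromBlocks_inj] at h2
    exact hY1 (sub_eq_zero.1 h2.1)
  · rw [← map_one φ, ← map_sub, hφ, Matrix.rank_reindex, hB1']
    calc (Matrix.fromRows (Y - 1) (0 : Matrix (Fin k) (Fin i) F) *
          Matrix.fromCols (1 : Matrix (Fin i) (Fin i) F) (0 : Matrix (Fin i) (Fin k) F)).rank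
        ≤ (Matrix.fromRows (Y - 1) (0 : Matrix (Fin k) (Fin i) F)).rank :=
          Matrix.rank_mul_le_left _ _
      _ ≤ Fintype.card (Fin i) := Matrix.rank_le_card_width _
      _ = i := Fintype.card_fin i

end Block

end Cfsg.Agent.Lib.Helper8.SingerN
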