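import Mathlib
import Cfsg.Agent.Lib.Helper8.SingerNB
import Cfsg.Agent.Lib.Helper8.SingerNE

/-!
# Elements of prime order `n` of `SL_n(q)` that fix a subspace of large dimension pointwise
(helper8)
-/

set_option autoImplicit false
set_option linter.unusedSectionVars false

open scoped MatrixGroups

namespace Cfsg.Agent.Lib.Helper8.SingerN

open Matrix Module

section Bad

variable {F : Type*} [Field F] [Fintype F]

theorem five_le_of_prime {n : ℕ} (hn : n.Prime) (hn3 : 3 < n) : 5 ≤ n := by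
  by_contra hcon
  have h4 : n = 4 := by omega
  rw [h4] at hn
  norm_num at hn

/-- when `n ∣ q - 1` -/
theorem exists_bad_diag {q n : ℕ} (hq : Fintype.card F = q) (hn : n.Prime) (hn3 : 3 < n)
    (hdvd : n ∣ q - 1) :
    ∃ x : Matrix (Fin n) (Fin n) F, x.det = 1 ∧ x ^ n = 1 ∧ x - 1 ≠ 0 ∧ 2 * (x - 1).rank < n := by
  classical
  haveI : Fact n.Prime := ⟨hn⟩
  have hn5 := five_le_of_prime hn hn3
  obtain ⟨u, hu⟩ := exists_prime_orderOf_dvd_card' (G := Fˣ) n
    (by rw [Singer3.card_units_eq hq]; exact hdvd)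
  have hun : (u : F) ^ n = 1 := by
    rw [← Units.val_pow_eq_pow_val, ← hu, pow_orderOf_eq_one, Units.val_one]
  have hu1 : (u : F) ≠ 1 := by
    intro h1
    have : u = 1 := Units.ext (by rw [h1, Units.val_one])
    rw [this, orderOf_one] at hu
    omega
  have hu0 : (u : F) ≠ 0 := u.ne_zero
  set Y : Matrix (Fin 2) (Fin 2) F := Matrix.diagonal ![(u : F), (u : F)⁻¹] with hY
  have hYdet : Y.det = 1 := by
    rw [hY, Matrix.det_diagonal, Fin.prod_univ_two]
    simp only [Matrix.cons_val_zero, Matrix.cons_val_one]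
    exact mul_inv_cancel₀ hu0
  have hYn : Y ^ n = 1 := by
    rw [hY, Matrix.diagonal_pow, ← Matrix.diagonal_one]
    congr 1
    funext j
    fin_cases j
    · simp [hun]
    · simp [hun]
  have hY1 : Y ≠ 1 := by
    intro h
    have := congrFun (congrFun h 0) 0
    rw [hY, Matrix.diagonal_apply_eq, Matrix.one_apply_eq] at this
    simp only [Matrix.cons_val_zero] at this
    exact hu1 this
  obtain ⟨x, hx1, hx2, hx3, hx4⟩ := exists_block (n := n) (by omega) Y hYdet n hYn hY1
  exact ⟨x, hx1, hx2, hx3, by omega⟩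

/-- when `n ∤ q - 1` and the order of `q` modulo `n` is small -/
theorem exists_bad_block {q n i : ℕ} (hq : Fintype.card F = q) (hn : n.Prime)
    (hnq : ¬ n ∣ q - 1) (hi0 : 0 < i) (hi : 2 * i < n) (hdvd : n ∣ q ^ i - 1) :
    ∃ x : Matrix (Fin n) (Fin n) F, x.det = 1 ∧ x ^ n = 1 ∧ x - 1 ≠ 0 ∧ 2 * (x - 1).rank < n := by
  classical
  haveI : Fact n.Prime := ⟨hn⟩
  have hcard : n ∣ Nat.card (GL (Fin i) F) := by
    rw [Matrix.card_GL_field, hq]
    have h1 : (q ^ i - q ^ ((⟨0, hi0⟩ : Fin i) : ℕ)) ∣ ∏ j : Fin i, (q ^ i - q ^ (j : ℕ)) :=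
      Finset.dvd_prod_of_mem _ (Finset.mem_univ _)
    simp only [pow_zero] at h1
    exact dvd_trans hdvd h1
  obtain ⟨y, hy⟩ := exists_prime_orderOf_dvd_card' (G := GL (Fin i) F) n hcard
  set Y := (y : Matrix (Fin i) (Fin i) F) with hY
  have hYn : Y ^ n = 1 := by
    rw [hY, ← Units.val_pow_eq_pow_val, ← hy, pow_orderOf_eq_one, Units.val_one]
  have hY1 : Y ≠ 1 := by
    intro h1
    have : y = 1 := Units.ext (by rw [← hY, h1, Units.val_one])
    rw [this, orderOf_one] at hy
    exact hn.one_lt.ne hy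
  have hYdet : Y.det = 1 := by
    apply eq_one_of_pow hq hn hnq
    rw [← Matrix.det_pow, hYn, Matrix.det_one]
  obtain ⟨x, hx1, hx2, hx3, hx4⟩ := exists_block (n := n) (by omega) Y hYdet n hYn hY1
  exact ⟨x, hx1, hx2, hx3, by omega⟩

/-- a bad element exists when the order of `q` modulo `n` is not `n - 1` -/
theorem exists_bad (p : ℕ) [Fact p.Prime] [CharP F p] {q n : ℕ} (hq : Fintype.card F = q)
    (hn : n.Prime) (hn3 : 3 < n) (hnp : n ≠ p) (hord : orderOf (q : ZMod n) ≠ n - 1) :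
    ∃ x : Matrix (Fin n) (Fin n) F, x.det = 1 ∧ x ^ n = 1 ∧ x - 1 ≠ 0 ∧ 2 * (x - 1).rank < n := by
  classical
  haveI : Fact n.Prime := ⟨hn⟩
  by_cases hdvd : n ∣ q - 1
  · exact exists_bad_diag hq hn hn3 hdvd
  · have hq0 : (q : ZMod n) ≠ 0 := by
      intro h0
      rw [ZMod.natCast_eq_zero_iff] at h0
      obtain ⟨f, _, hf⟩ := FiniteField.card F p
      rw [hq] at hf
      rw [hf] at h0
      have := (Nat.prime_dvd_prime_iff_eq hn (Fact.out : p.Prime)).1 (hn.dvd_of_dvd_pow h0)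
      exact hnp this
    have h1 : (q : ZMod n) ^ (n - 1) = 1 := ZMod.pow_card_sub_one_eq_one hq0
    have hi : orderOf (q : ZMod n) ∣ n - 1 := orderOf_dvd_of_pow_eq_one h1
    set i := orderOf (q : ZMod n) with hi_def
    have hn1 : 0 < n - 1 := by omega
    have hi0 : 0 < i := Nat.pos_of_dvd_of_pos hi hn1
    obtain ⟨t, ht⟩ := hi
    have ht2 : 2 ≤ t := by
      rcases Nat.lt_or_ge t 2 with h | h
      · exfalso
        interval_cases t
        · omega
        · apply hord
          omega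
      · exact h
    have h2i : 2 * i < n := by
      have := Nat.mul_le_mul_left i ht2
      omega
    have hpow : (q : ZMod n) ^ i = 1 := pow_orderOf_eq_one _
    have hq1 : 1 ≤ q ^ i := Nat.one_le_pow _ _ (by rw [← hq]; exact Fintype.card_pos)
    have hmod : q ^ i ≡ 1 [MOD n] := by
      apply (ZMod.natCast_eq_natCast_iff _ _ _).1
      rw [Nat.cast_pow, hpow, Nat.cast_one]
    exact exists_bad_block hq hn hdvd hi0 h2i ((Nat.modEq_iff_dvd' hq1).1 hmod.symm)

end Bad

end Cfsg.Agent.Lib.Helper8.SingerN
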