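import Mathlib

/-! Data for the symplectic group of degree six over the field of two elements on 28 points (generated by a script) -/

set_option autoImplicit false

namespace Cfsg.Agent.Lib.Helper8.Sp62

/-- the 28 vectors `a` with `a₀a₃ + a₁a₄ + a₂a₅ = 1`, as numbers of six bits -/
def tab : List ℕ := [9, 11, 13, 15, 18, 19, 22, 23, 25, 26, 29, 30, 36, 37, 38, 39, 41, 43, 44, 46, 50, 51, 52, 53, 57, 58, 60, 63]

/-- pairs of indices of vectors whose sums are the vectors of the standard basis -/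
def prs : List (ℕ × ℕ) := [(4, 5), (0, 1), (0, 2), (4, 9), (0, 8), (0, 16)]

/-- the columns of two symplectic matrices -/
def colsA : List ℕ := [38, 51, 20, 62, 28, 11]
def colsB : List ℕ := [14, 29, 4, 7, 31, 47]

def cgA : ℕ := 155511121772497698237160964153752434311129182063443739340843760266036646931

def cgAi : ℕ := 71088097743758058259150317828389902023819421103070559055012388685865300995

def cgB : ℕ := 382137133363699502895541335242704880601910846009801343974849800543549784582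

def cgBi : ℕ := 382219415334018471871633811651283337630279479888506152481921457873010295304

/-- the chain of stabilisers, from `[B⁻¹, B, A⁻¹, A]` -/
def chainProg : List (ℕ × ℕ) := [(3, 3), (3, 3), (5, 1), (1, 5), (7, 1), (1, 7), (9, 1), (1, 9), (9, 7), (7, 9), (11, 7), (7, 11), (13, 7), (7, 13), (17, 15), (15, 17), (17, 17), (17, 17), (21, 9), (9, 21), (21, 11), (22, 10), (10, 22), (26, 10), (10, 26), (26, 10), (29, 9), (30, 8), (8, 30), (32, 7), (7, 32), (34, 7), (33, 8), (8, 33), (35, 8), (38, 7), (7, 38), (40, 7), (39, 5), (42, 3), (43, 1), (42, 44), (44, 42), (1, 46), (46, 1), (48, 1), (1, 48), (50, 5), (5, 50), (48, 50), (50, 48), (1, 5), (5, 1), (5, 54), (54, 5), (1, 13), (13, 1), (1, 15), (15, 1), (44, 60), (60, 44), (9, 3), (3, 9), (15, 3), (3, 15), (15, 3), (3, 15), (70, 1), (22, 18), (18, 22), (24, 1), (1, 24), (16, 3), (17, 0), (8, 14), (14, 8), (12, 1), (1, 12), (79, 30), (30, 79), (20, 1), (1, 20), (5, 9), (15, 9), (32, 5), (5, 32), (34, 22), (22,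 34), (17, 14), (12, 0), (13, 7), (43, 6), (6, 43), (9, 8), (9, 2), (2, 9), (15, 9), (9, 15), (21, 1), (1, 21), (1, 48), (48, 1), (65, 1), (1, 67), (1, 1), (1, 1), (3, 1), (1, 3), (11, 37), (37, 11), (102, 1), (1, 104), (6, 1), (1, 8), (1, 11), (11, 1), (3, 11), (11, 3), (5, 11), (16, 4), (4, 16), (8, 6), (6, 8), (20, 6), (6, 20), (12, 8), (8, 12), (14, 7), (7, 14), (26, 7), (27, 6), (18, 7), (19, 6), (30, 5), (5, 30), (32, 5), (23, 6), (34, 6), (25, 7), (36, 7), (27, 7), (38, 7), (29, 6), (30, 4), (41, 3), (32, 32), (45, 37), (37, 45), (114, 1), (1, 116), (27, 1), (1, 29), (1, 39), (2, 7), (41, 3), (3, 41), (5, 5), (5, 5), (45, 5), (8, 5), (79, 89), (89, 79), (144, 1), (1, 146), (29, 1), (1, 31), (10, 1), (1, 12), (1, 1), (1, 1), (89, 23), (23, 89), (156, 1), (1, 158), (66, 1), (1, 68), (62, 1), (1, 64), (1, 11), (11, 1), (13, 1), (1, 13), (5, 3), (88, 22), (22, 88), (183, 1), (1, 185), (62, 1), (1, 64), (37, 1), (1, 39), (9, 1), (1, 11), (1, 24), (24, 1), (3,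 16), (4, 19), (20, 5), (5, 20), (22, 2), (109, 110), (185, 0), (84, 0), (45, 0), (9, 0), (6, 0), (111, 112), (176, 0), (81, 0), (53, 0), (40, 0), (33, 0), (0, 6), (216, 215)]

def chainBase : List ℕ := [0, 1, 2, 4, 5, 8]

def chainIdx : List (List ℕ) := [[0, 217, 213, 211, 209, 207, 215, 205, 203, 201, 199, 197, 195, 193, 192, 190, 188, 187, 186, 184, 182, 181, 179, 178, 176, 175, 174, 173],
  [0, 111, 109, 107, 99, 97, 95, 94, 92, 90, 88, 86, 84, 83, 82, 81, 80, 78, 77, 76, 75, 74, 73, 72, 71, 70, 69],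
  [0, 101, 68, 63, 61, 60, 59, 57, 55, 54],
  [0, 47, 45, 35, 33, 31, 20, 18],
  [0, 37, 22, 17, 16, 14],
  [0, 8, 2, 1]]

end Cfsg.Agent.Lib.Helper8.Sp62
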