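import Mathlib
import Cfsg.Agent.Lib.Helper5.SympCount

/-! # Centralizers of involutions of `Sp_{2m}(q)`, `q` even: adapted symplectic frames (helper8) -/

set_option autoImplicit false
open Cfsg

namespace Cfsg.Agent.Lib.Helper8.SpCent

universe u v

open Cfsg.Agent.Lib.Helper5.SympCount

section Tau

/-- the swap of adjacent indices `0 ↔ 1`, `2 ↔ 3`, ... -/
def sw (k : ℕ) : ℕ := if k % 2 = 0 then k + 1 else k - 1

theorem sw_add_two (k : ℕ) : sw (k + 2) = sw k + 2 := by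
  unfold sw
  split_ifs <;> omega

theorem sw_zero : sw 0 = 1 := by decide

theorem sw_one : sw 1 = 0 := by decide

theorem sw_sw (k : ℕ) : sw (sw k) = k := by
  unfold sw
  split_ifs <;> omega

theorem sw_lt {k s : ℕ} (hs : s % 2 = 0) (hk : k < s) : sw k < s := by
  unfold sw
  split_ifs <;> omega

theorem sw_ne (k : ℕ) : sw k ≠ k := by
  unfold sw
  split_ifs <;> omega

end Tau

section Frames

variable {F : Type v} [Field F] {V : Type u} [AddCommGroup V] [Module F V]

/-- extension of a finite family by zero -/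
def ext0 {m : ℕ} (f : Fin m → V) (k : ℕ) : V := if h : k < m then f ⟨k, h⟩ else 0

theorem ext0_cons_zero {m : ℕ} (a : V) (f : Fin m → V) :
    ext0 (Fin.cons a f : Fin (m + 1) → V) 0 = a := by
  unfold ext0
  rw [dif_pos (Nat.succ_pos m)]
  rfl

theorem ext0_cons_succ {m : ℕ} (a : V) (f : Fin m → V) (k : ℕ) :
    ext0 (Fin.cons a f : Fin (m + 1) → V) (k + 1) = ext0 f k := by
  unfold ext0
  by_cases h : k < m
  · rw [dif_pos h, dif_pos (Nat.succ_lt_succ h)]
    rfl
  · rw [dif_neg h, dif_neg (by omega)]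

theorem ext0_tail {m : ℕ} (f : Fin (m + 1) → V) (k : ℕ) :
    ext0 (fun i : Fin m => f i.succ) k = ext0 f (k + 1) := by
  unfold ext0
  by_cases h : k < m
  · rw [dif_pos h, dif_pos (Nat.succ_lt_succ h)]
    rfl
  · rw [dif_neg h, dif_neg (by omega)]

theorem ext0_tail2 {m : ℕ} (f : Fin (m + 2) → V) (k : ℕ) :
    ext0 (fun i : Fin m => f i.succ.succ) k = ext0 f (k + 2) := by
  unfold ext0
  by_cases h : k < m
  · rw [dif_pos h, dif_pos (by omega)]
    rfl
  · rw [dif_neg h, dif_neg (by omega)]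

theorem ext0_cons_cons {m : ℕ} (a b : V) (f : Fin m → V) (k : ℕ) :
    ext0 (Fin.cons a (Fin.cons b f) : Fin (m + 2) → V) (k + 2) = ext0 f k :=
  (ext0_cons_succ a _ (k + 1)).trans (ext0_cons_succ b f k)

theorem ext0_cons_one {m : ℕ} (a b : V) (f : Fin m → V) :
    ext0 (Fin.cons a (Fin.cons b f) : Fin (m + 2) → V) 1 = b :=
  (ext0_cons_succ a _ 0).trans (ext0_cons_zero b f)

theorem ext0_of_lt {m : ℕ} (f : Fin m → V) (k : ℕ) (h : k < m) : ext0 f k = f ⟨k, h⟩ := by
  unfold ext0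
  rw [dif_pos h]

variable (B : LinearMap.BilinForm F V) (N : V →ₗ[F] V)

/-- symplectic families `(d, u)` in `U` adapted to the nilpotent map `N`: `N u_i = 0`,
`N d_j = u_{τ j}` for `j < s` and `N d_j = 0` for `j ≥ s` -/
def IsAF (U : Submodule F V) (m s : ℕ) (τ : ℕ → ℕ) (p : (Fin m → V) × (Fin m → V)) : Prop :=
  (∀ i, p.1 i ∈ U) ∧ (∀ i, p.2 i ∈ U) ∧ IsSB B m p ∧ (∀ i, N (p.2 i) = 0) ∧
    ∀ j : Fin m, N (p.1 j) = if (j : ℕ) < s then ext0 p.2 (τ j) else 0

/-- the type of adapted families -/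
abbrev AF (U : Submodule F V) (m s : ℕ) (τ : ℕ → ℕ) : Type u :=
  {p : (Fin m → V) × (Fin m → V) // IsAF B N U m s τ p}

variable {B N}

theorem isSB_cons (hs : ∀ a b : V, B a b = B b a) {m : ℕ} (e f : V)
    (p : (Fin m → V) × (Fin m → V)) (hef : B e f = 1) (hee : B e e = 0) (hff : B f f = 0)
    (h1 : ∀ i, B e (p.1 i) = 0) (h2 : ∀ i, B e (p.2 i) = 0) (h3 : ∀ i, B f (p.1 i) = 0)
    (h4 : ∀ i, B f (p.2 i) = 0) (hp : IsSB B m p) :
    IsSB B (m + 1) (Fin.cons e p.1, Fin.cons f p.2) := by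
  obtain ⟨g1, g2, g3⟩ := hp
  refine ⟨?_, ?_, ?_⟩
  · intro i j
    refine Fin.cases ?_ (fun i => ?_) i <;> refine Fin.cases ?_ (fun j => ?_) j
    · simpa using hef
    · simp only [Fin.cons_zero, Fin.cons_succ]
      rw [h2, if_neg (Fin.succ_ne_zero j).symm]
    · simp only [Fin.cons_zero, Fin.cons_succ]
      rw [hs, h3, if_neg (Fin.succ_ne_zero i)]
    · simp only [Fin.cons_succ, Fin.succ_inj]
      exact g1 i j
  · intro i j
    refine Fin.cases ?_ (fun i => ?_) i <;> refine Fin.cases ?_ (fun j => ?_) j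
    · simpa using hee
    · simp only [Fin.cons_zero, Fin.cons_succ]; exact h1 _
    · simp only [Fin.cons_zero, Fin.cons_succ]; rw [hs]; exact h1 _
    · simp only [Fin.cons_succ]; exact g2 i j
  · intro i j
    refine Fin.cases ?_ (fun i => ?_) i <;> refine Fin.cases ?_ (fun j => ?_) j
    · simpa using hff
    · simp only [Fin.cons_zero, Fin.cons_succ]; exact h4 _
    · simp only [Fin.cons_zero, Fin.cons_succ]; rw [hs]; exact h4 _
    · simp only [Fin.cons_succ]; exact g3 i j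

theorem isSB_tail {m : ℕ} (p : (Fin (m + 1) → V) × (Fin (m + 1) → V)) (hp : IsSB B (m + 1) p) :
    IsSB B m (fun i => p.1 i.succ, fun i => p.2 i.succ) := by
  obtain ⟨g1, g2, g3⟩ := hp
  refine ⟨fun i j => ?_, fun i j => g2 _ _, fun i j => g3 _ _⟩
  have := g1 i.succ j.succ
  simpa [Fin.succ_inj] using this

end Frames

end Cfsg.Agent.Lib.Helper8.SpCent
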