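import Mathlib
import Cfsg.Agent.Lib.Helper8.SpCentA

/-! # Adapted symplectic frames: peeling equivalences (helper8) -/

set_option autoImplicit false
open Cfsg

namespace Cfsg.Agent.Lib.Helper8.SpCent

universe u v

open Cfsg.Agent.Lib.Helper5.SympCount

section Peel1

variable {F : Type v} [Field F] {V : Type u} [AddCommGroup V] [Module F V]
variable {B : LinearMap.BilinForm F V} {N : V →ₗ[F] V}

theorem isAF_head {U : Submodule F V} {m s : ℕ} {τ' : ℕ → ℕ} (hτ0 : τ' 0 = 0)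
    {p : (Fin (m + 1) → V) × (Fin (m + 1) → V)} (hp : IsAF B N U (m + 1) (s + 1) τ' p) :
    N (p.1 0) = p.2 0 := by
  have h := hp.2.2.2.2 0
  rw [if_pos (by simp), Fin.val_zero, hτ0, ext0_of_lt _ 0 (Nat.succ_pos m)] at h
  exact h

theorem isAF_tail1 (hs : ∀ a b : V, B a b = B b a) {U : Submodule F V} {m s : ℕ} {τ τ' : ℕ → ℕ}
    (hτ0 : τ' 0 = 0) (hτs : ∀ j, τ' (j + 1) = τ j + 1)
    {p : (Fin (m + 1) → V) × (Fin (m + 1) → V)} (hp : IsAF B N U (m + 1) (s + 1) τ' p) :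
    IsAF B N (U ⊓ perp B (p.1 0) (N (p.1 0))) m s τ
      (fun i => p.1 i.succ, fun i => p.2 i.succ) := by
  have h0 := isAF_head hτ0 hp
  obtain ⟨h1, h2, h3, h4, h5⟩ := hp
  refine ⟨fun i => Submodule.mem_inf.2 ⟨h1 _, (mem_perp B _ _ _).2 ?_⟩,
    fun i => Submodule.mem_inf.2 ⟨h2 _, (mem_perp B _ _ _).2 ?_⟩, isSB_tail p h3,
    fun i => h4 _, fun j => ?_⟩
  · rw [h0]
    refine ⟨h3.2.1 _ _, ?_⟩
    show B (p.2 0) (p.1 i.succ) = 0
    rw [hs, h3.1, if_neg (Fin.succ_ne_zero i)]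
  · rw [h0]
    refine ⟨?_, h3.2.2 _ _⟩
    show B (p.1 0) (p.2 i.succ) = 0
    rw [h3.1, if_neg (Fin.succ_ne_zero i).symm]
  · have h := h5 j.succ
    simp only [Fin.val_succ, Nat.add_lt_add_iff_right, hτs] at h
    rw [h]
    by_cases hj : (j : ℕ) < s
    · rw [if_pos hj, if_pos hj, ext0_tail]
    · rw [if_neg hj, if_neg hj]

theorem isAF_cons1 (hs : ∀ a b : V, B a b = B b a) (hA : ∀ a : V, B a a = 0)
    (hN2 : ∀ a, N (N a) = 0) {U : Submodule F V} {m s : ℕ} {τ τ' : ℕ → ℕ}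
    (hτ0 : τ' 0 = 0) (hτs : ∀ j, τ' (j + 1) = τ j + 1) {x : V} (hxU : x ∈ U) (hNU : N x ∈ U)
    (hx : B x (N x) = 1)
    {q : (Fin m → V) × (Fin m → V)} (hq : IsAF B N (U ⊓ perp B x (N x)) m s τ q) :
    IsAF B N U (m + 1) (s + 1) τ' (Fin.cons x q.1, Fin.cons (N x) q.2) := by
  obtain ⟨h1, h2, h3, h4, h5⟩ := hq
  refine ⟨fun i => ?_, fun i => ?_, ?_, fun i => ?_, fun j => ?_⟩
  · refine Fin.cases ?_ (fun i => ?_) i
    · simpa using hxU
    · simpa using (h1 i).1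
  · refine Fin.cases ?_ (fun i => ?_) i
    · simpa using hNU
    · simpa using (h2 i).1
  · exact isSB_cons hs x (N x) q hx (hA _) (hA _)
      (fun i => ((mem_perp B _ _ _).1 (h1 i).2).1) (fun i => ((mem_perp B _ _ _).1 (h2 i).2).1)
      (fun i => ((mem_perp B _ _ _).1 (h1 i).2).2) (fun i => ((mem_perp B _ _ _).1 (h2 i).2).2) h3
  · refine Fin.cases ?_ (fun i => ?_) i
    · simpa using hN2 x
    · simpa using h4 i
  · refine Fin.cases ?_ (fun j => ?_) j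
    · simp only [Fin.cons_zero, Fin.val_zero, Nat.zero_lt_succ, if_true, hτ0]
      rw [ext0_cons_zero]
    · simp only [Fin.cons_succ, Fin.val_succ, Nat.add_lt_add_iff_right, hτs]
      rw [h5 j, ext0_cons_succ]

/-- the base of the one-pair peel -/
abbrev X1 (B : LinearMap.BilinForm F V) (N : V →ₗ[F] V) (U : Submodule F V) : Type u :=
  {x : V // x ∈ U ∧ B x (N x) = 1}

/-- the head vector of an adapted family -/
def head1 (U : Submodule F V) (m s : ℕ) (τ' : ℕ → ℕ) (hτ0 : τ' 0 = 0)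
    (p : AF B N U (m + 1) (s + 1) τ') : X1 B N U :=
  ⟨p.1.1 0, p.2.1 0, by
    rw [isAF_head hτ0 p.2]
    have := p.2.2.2.1.1 0 0
    simpa using this⟩

/-- the fibre of `head1` -/
def fiber1 (hs : ∀ a b : V, B a b = B b a) (hA : ∀ a : V, B a a = 0)
    (hN2 : ∀ a, N (N a) = 0) (U : Submodule F V) (hU : ∀ a ∈ U, N a ∈ U) (m s : ℕ)
    (τ τ' : ℕ → ℕ) (hτ0 : τ' 0 = 0) (hτs : ∀ j, τ' (j + 1) = τ j + 1) (x : X1 B N U) :
    {p : AF B N U (m + 1) (s + 1) τ' // head1 U m s τ' hτ0 p = x} ≃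
      AF B N (U ⊓ perp B x.1 (N x.1)) m s τ where
  toFun p := ⟨(fun i => p.1.1.1 i.succ, fun i => p.1.1.2 i.succ), by
    have he : p.1.1.1 0 = x.1 := congrArg Subtype.val p.2
    rw [← he]
    exact isAF_tail1 hs hτ0 hτs p.1.2⟩
  invFun q := ⟨⟨(Fin.cons x.1 q.1.1, Fin.cons (N x.1) q.1.2),
    isAF_cons1 hs hA hN2 hτ0 hτs x.2.1 (hU _ x.2.1) x.2.2 q.2⟩, Subtype.ext rfl⟩
  left_inv := by
    rintro ⟨⟨⟨d, w⟩, hp⟩, hx⟩
    have he : d 0 = x.1 := congrArg Subtype.val hx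
    have h0 : N (d 0) = w 0 := isAF_head hτ0 hp
    apply Subtype.ext
    apply Subtype.ext
    refine Prod.ext ?_ ?_
    · funext i
      refine Fin.cases ?_ (fun i => ?_) i
      · simp [he]
      · simp
    · funext i
      refine Fin.cases ?_ (fun i => ?_) i
      · simp [← he, h0]
      · simp
  right_inv := by
    rintro ⟨⟨d, w⟩, hq⟩
    apply Subtype.ext
    refine Prod.ext ?_ ?_
    · funext i
      simp
    · funext i
      simp

end Peel1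

section Peel2

variable {F : Type v} [Field F] {V : Type u} [AddCommGroup V] [Module F V]
variable {B : LinearMap.BilinForm F V} {N : V →ₗ[F] V}

theorem isAF_head2 {U : Submodule F V} {m s : ℕ} {τ' : ℕ → ℕ} (hτ0 : τ' 0 = 1) (hτ1 : τ' 1 = 0)
    {p : (Fin (m + 2) → V) × (Fin (m + 2) → V)} (hp : IsAF B N U (m + 2) (s + 2) τ' p) :
    N (p.1 0) = p.2 1 ∧ N (p.1 1) = p.2 0 := by
  have h := hp.2.2.2.2 0
  have h' := hp.2.2.2.2 1
  rw [if_pos (by simp), Fin.val_zero, hτ0, ext0_of_lt _ 1 (by omega)] at h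
  rw [if_pos (by simp), Fin.val_one, hτ1, ext0_of_lt _ 0 (by omega)] at h'
  exact ⟨h, h'⟩

theorem isAF_tail2 (hs : ∀ a b : V, B a b = B b a) {U : Submodule F V} {m s : ℕ} {τ τ' : ℕ → ℕ}
    (hτ0 : τ' 0 = 1) (hτ1 : τ' 1 = 0) (hτs : ∀ j, τ' (j + 2) = τ j + 2)
    {p : (Fin (m + 2) → V) × (Fin (m + 2) → V)} (hp : IsAF B N U (m + 2) (s + 2) τ' p) :
    IsAF B N (U ⊓ perp B (p.1 0) (N (p.1 1)) ⊓ perp B (p.1 1) (N (p.1 0))) m s τ
      (fun i => p.1 i.succ.succ, fun i => p.2 i.succ.succ) := by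
  obtain ⟨h0, h0'⟩ := isAF_head2 hτ0 hτ1 hp
  obtain ⟨h1, h2, h3, h4, h5⟩ := hp
  have hne0 : ∀ i : Fin m, (i.succ.succ : Fin (m + 2)) ≠ 0 := fun i => Fin.succ_ne_zero _
  have hne1 : ∀ i : Fin m, (i.succ.succ : Fin (m + 2)) ≠ 1 := fun i h => by
    have := congrArg Fin.val h
    simp at this
  refine ⟨fun i => Submodule.mem_inf.2 ⟨Submodule.mem_inf.2 ⟨h1 _, (mem_perp B _ _ _).2 ?_⟩,
      (mem_perp B _ _ _).2 ?_⟩,
    fun i => Submodule.mem_inf.2 ⟨Submodule.mem_inf.2 ⟨h2 _, (mem_perp B _ _ _).2 ?_⟩,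
      (mem_perp B _ _ _).2 ?_⟩,
    isSB_tail _ (isSB_tail p h3), fun i => h4 _, fun j => ?_⟩
  · rw [h0']
    refine ⟨h3.2.1 _ _, ?_⟩
    show B (p.2 0) (p.1 i.succ.succ) = 0
    rw [hs, h3.1, if_neg (hne0 i)]
  · rw [h0]
    refine ⟨h3.2.1 _ _, ?_⟩
    show B (p.2 1) (p.1 i.succ.succ) = 0
    rw [hs, h3.1, if_neg (hne1 i)]
  · rw [h0']
    refine ⟨?_, h3.2.2 _ _⟩
    show B (p.1 0) (p.2 i.succ.succ) = 0
    rw [h3.1, if_neg (hne0 i).symm]
  · rw [h0]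
    refine ⟨?_, h3.2.2 _ _⟩
    show B (p.1 1) (p.2 i.succ.succ) = 0
    rw [h3.1, if_neg (hne1 i).symm]
  · have h := h5 j.succ.succ
    simp only [Fin.val_succ, Nat.add_lt_add_iff_right] at h
    rw [show (j : ℕ) + 1 + 1 = j + 2 from rfl, hτs] at h
    rw [h]
    by_cases hj : (j : ℕ) < s
    · rw [if_pos hj, if_pos (by omega), ext0_tail2]
    · rw [if_neg hj, if_neg (by omega)]

theorem isAF_cons2 (hs : ∀ a b : V, B a b = B b a) (hA : ∀ a : V, B a a = 0)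
    (hadj : ∀ a b, B (N a) b = B a (N b))
    (hN2 : ∀ a, N (N a) = 0) {U : Submodule F V} {m s : ℕ} {τ τ' : ℕ → ℕ}
    (hτ0 : τ' 0 = 1) (hτ1 : τ' 1 = 0) (hτs : ∀ j, τ' (j + 2) = τ j + 2) {x y : V}
    (hxU : x ∈ U) (hyU : y ∈ U) (hNxU : N x ∈ U) (hNyU : N y ∈ U)
    (hxy : B x (N y) = 1) (hxy0 : B x y = 0) (hxx : B x (N x) = 0) (hyy : B y (N y) = 0)
    {q : (Fin m → V) × (Fin m → V)}
    (hq : IsAF B N (U ⊓ perp B x (N y) ⊓ perp B y (N x)) m s τ q) :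
    IsAF B N U (m + 2) (s + 2) τ'
      (Fin.cons x (Fin.cons y q.1), Fin.cons (N y) (Fin.cons (N x) q.2)) := by
  obtain ⟨h1, h2, h3, h4, h5⟩ := hq
  have hyx : B y (N x) = 1 := by rw [← hadj, hs, hxy]
  have p1 : ∀ i, B x (q.1 i) = 0 ∧ B (N y) (q.1 i) = 0 :=
    fun i => (mem_perp B _ _ _).1 (h1 i).1.2
  have p2 : ∀ i, B y (q.1 i) = 0 ∧ B (N x) (q.1 i) = 0 :=
    fun i => (mem_perp B _ _ _).1 (h1 i).2
  have p3 : ∀ i, B x (q.2 i) = 0 ∧ B (N y) (q.2 i) = 0 :=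
    fun i => (mem_perp B _ _ _).1 (h2 i).1.2
  have p4 : ∀ i, B y (q.2 i) = 0 ∧ B (N x) (q.2 i) = 0 :=
    fun i => (mem_perp B _ _ _).1 (h2 i).2
  have hin := isSB_cons hs y (N x) q hyx (hA _) (hA _) (fun i => (p2 i).1) (fun i => (p4 i).1)
    (fun i => (p2 i).2) (fun i => (p4 i).2) h3
  refine ⟨fun i => ?_, fun i => ?_, ?_, fun i => ?_, fun j => ?_⟩
  · refine Fin.cases ?_ (fun i => ?_) i
    · simpa using hxU
    · refine Fin.cases ?_ (fun i => ?_) i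
      · simpa using hyU
      · simpa using (h1 i).1.1
  · refine Fin.cases ?_ (fun i => ?_) i
    · simpa using hNyU
    · refine Fin.cases ?_ (fun i => ?_) i
      · simpa using hNxU
      · simpa using (h2 i).1.1
  · refine isSB_cons hs x (N y) (Fin.cons y q.1, Fin.cons (N x) q.2) hxy (hA _) (hA _)
      ?_ ?_ ?_ ?_ hin
    · intro i
      refine Fin.cases ?_ (fun i => ?_) i
      · simpa using hxy0
      · simpa using (p1 i).1
    · intro i
      refine Fin.cases ?_ (fun i => ?_) i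
      · simpa using hxx
      · simpa using (p3 i).1
    · intro i
      refine Fin.cases ?_ (fun i => ?_) i
      · simp only [Fin.cons_zero]
        rw [hs, hyy]
      · simpa using (p1 i).2
    · intro i
      refine Fin.cases ?_ (fun i => ?_) i
      · simp only [Fin.cons_zero]
        rw [hadj, hN2, map_zero]
      · simpa using (p3 i).2
  · refine Fin.cases ?_ (fun i => ?_) i
    · simpa using hN2 y
    · refine Fin.cases ?_ (fun i => ?_) i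
      · simpa using hN2 x
      · simpa using h4 i
  · refine Fin.cases ?_ (fun j => ?_) j
    · simp only [Fin.cons_zero, Fin.val_zero, Nat.zero_lt_succ, if_true, hτ0]
      rw [ext0_cons_one]
    · refine Fin.cases ?_ (fun j => ?_) j
      · simp only [Fin.cons_zero, Fin.cons_succ, Fin.val_succ, Fin.val_zero, zero_add, hτ1]
        rw [if_pos (by omega), ext0_cons_zero]
      · simp only [Fin.cons_succ, Fin.val_succ]
        rw [show (j : ℕ) + 1 + 1 = j + 2 from rfl, hτs, h5 j, ext0_cons_cons]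
        by_cases hj : (j : ℕ) < s
        · rw [if_pos hj, if_pos (by omega)]
        · rw [if_neg hj, if_neg (by omega)]

/-- the base of the two-pair peel -/
abbrev X2 (B : LinearMap.BilinForm F V) (N : V →ₗ[F] V) (U : Submodule F V) : Type u :=
  {xy : V × V // xy.1 ∈ U ∧ xy.2 ∈ U ∧ B xy.1 (N xy.2) = 1 ∧ B xy.1 xy.2 = 0 ∧
    B xy.1 (N xy.1) = 0 ∧ B xy.2 (N xy.2) = 0}

/-- the head vectors of an adapted family -/
def head2 (U : Submodule F V) (m s : ℕ) (τ' : ℕ → ℕ) (hτ0 : τ' 0 = 1) (hτ1 : τ' 1 = 0)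
    (p : AF B N U (m + 2) (s + 2) τ') : X2 B N U :=
  ⟨(p.1.1 0, p.1.1 1), p.2.1 0, p.2.1 1, by
    obtain ⟨h0, h0'⟩ := isAF_head2 hτ0 hτ1 p.2
    have h3 := p.2.2.2.1
    refine ⟨?_, h3.2.1 _ _, ?_, ?_⟩
    · show B (p.1.1 0) (N (p.1.1 1)) = 1
      rw [h0', h3.1, if_pos rfl]
    · show B (p.1.1 0) (N (p.1.1 0)) = 0
      rw [h0, h3.1, if_neg (by simp)]
    · show B (p.1.1 1) (N (p.1.1 1)) = 0
      rw [h0', h3.1, if_neg (by simp)]⟩

/-- the fibre of `head2` -/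
def fiber2 (hs : ∀ a b : V, B a b = B b a) (hA : ∀ a : V, B a a = 0)
    (hadj : ∀ a b, B (N a) b = B a (N b))
    (hN2 : ∀ a, N (N a) = 0) (U : Submodule F V) (hU : ∀ a ∈ U, N a ∈ U) (m s : ℕ)
    (τ τ' : ℕ → ℕ) (hτ0 : τ' 0 = 1) (hτ1 : τ' 1 = 0) (hτs : ∀ j, τ' (j + 2) = τ j + 2)
    (x : X2 B N U) :
    {p : AF B N U (m + 2) (s + 2) τ' // head2 U m s τ' hτ0 hτ1 p = x} ≃
      AF B N (U ⊓ perp B x.1.1 (N x.1.2) ⊓ perp B x.1.2 (N x.1.1)) m s τ where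
  toFun p := ⟨(fun i => p.1.1.1 i.succ.succ, fun i => p.1.1.2 i.succ.succ), by
    have he : p.1.1.1 0 = x.1.1 := congrArg (fun z => z.1.1) p.2
    have he' : p.1.1.1 1 = x.1.2 := congrArg (fun z => z.1.2) p.2
    rw [← he, ← he']
    exact isAF_tail2 hs hτ0 hτ1 hτs p.1.2⟩
  invFun q := ⟨⟨(Fin.cons x.1.1 (Fin.cons x.1.2 q.1.1), Fin.cons (N x.1.2) (Fin.cons (N x.1.1) q.1.2)),
    isAF_cons2 hs hA hadj hN2 hτ0 hτ1 hτs x.2.1 x.2.2.1 (hU _ x.2.1) (hU _ x.2.2.1) x.2.2.2.1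
      x.2.2.2.2.1 x.2.2.2.2.2.1 x.2.2.2.2.2.2 q.2⟩, Subtype.ext rfl⟩
  left_inv := by
    rintro ⟨⟨⟨d, w⟩, hp⟩, hx⟩
    have he : d 0 = x.1.1 := congrArg (fun z => z.1.1) hx
    have he' : d 1 = x.1.2 := congrArg (fun z => z.1.2) hx
    obtain ⟨h0, h0'⟩ := isAF_head2 hτ0 hτ1 hp
    apply Subtype.ext
    apply Subtype.ext
    refine Prod.ext ?_ ?_
    · funext i
      refine Fin.cases ?_ (fun i => ?_) i
      · simp [he]
      · refine Fin.cases ?_ (fun i => ?_) i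
        · simp [← he']
        · simp
    · funext i
      refine Fin.cases ?_ (fun i => ?_) i
      · simp [← he', h0']
      · refine Fin.cases ?_ (fun i => ?_) i
        · simp [← he, h0]
        · simp
  right_inv := by
    rintro ⟨⟨d, w⟩, hq⟩
    apply Subtype.ext
    refine Prod.ext ?_ ?_
    · funext i
      simp
    · funext i
      simp

end Peel2

end Cfsg.Agent.Lib.Helper8.SpCent
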