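import Mathlib
import Cfsg.Agent.Lib.Helper8.SpCentB

/-! # Adapted symplectic frames: the invariants of the peeled subspaces (helper8) -/

set_option autoImplicit false
open Cfsg

namespace Cfsg.Agent.Lib.Helper8.SpCent

universe u v

open Cfsg.Agent.Lib.Helper5.SympCount

section Dim

variable {F : Type v} [Field F] {V : Type u} [AddCommGroup V] [Module F V]
  [FiniteDimensional F V]
variable {B : LinearMap.BilinForm F V} {N : V →ₗ[F] V}

/-- cutting a subspace by a functional that does not vanish on it -/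
theorem dimcut1 (W : Submodule F V) (φ : V →ₗ[F] F) {v : V} (hv : v ∈ W) (hφ : φ v ≠ 0) :
    Module.finrank F ↥(W ⊓ LinearMap.ker φ) + 1 = Module.finrank F ↥W := by
  have h1 := LinearMap.finrank_range_add_finrank_ker (φ.domRestrict W)
  have hsurj : LinearMap.range (φ.domRestrict W) = ⊤ := by
    rw [LinearMap.range_eq_top]
    intro a
    refine ⟨(a / φ v) • ⟨v, hv⟩, ?_⟩
    rw [map_smul, LinearMap.domRestrict_apply, smul_eq_mul, div_mul_cancel₀ _ hφ]
  have hker : (LinearMap.ker (φ.domRestrict W)).map W.subtype = W ⊓ LinearMap.ker φ := by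
    ext x
    constructor
    · rintro ⟨y, hy, rfl⟩
      exact ⟨y.2, hy⟩
    · rintro ⟨hx1, hx2⟩
      exact ⟨⟨x, hx1⟩, hx2, rfl⟩
  rw [hsurj, finrank_top, Module.finrank_self, ← Submodule.finrank_map_subtype_eq, hker] at h1
  omega

omit [FiniteDimensional F V] in
theorem inf_perp_eq (U : Submodule F V) (e f : V) :
    U ⊓ perp B e f = U ⊓ LinearMap.ker (B e) ⊓ LinearMap.ker (B f) := by
  ext x
  simp only [Submodule.mem_inf, mem_perp, LinearMap.mem_ker]
  tauto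

theorem finrank_inf_perp (hs : ∀ a b : V, B a b = B b a) (hA : ∀ a : V, B a a = 0)
    (U : Submodule F V) {e f : V} (he : e ∈ U) (hf : f ∈ U) (hef : B e f = 1) :
    Module.finrank F ↥(U ⊓ perp B e f) + 2 = Module.finrank F ↥U := by
  rw [inf_perp_eq]
  have h1 := dimcut1 U (B e) hf (by rw [hef]; exact one_ne_zero)
  have h2 := dimcut1 (U ⊓ LinearMap.ker (B e)) (B f) (v := e)
    (Submodule.mem_inf.2 ⟨he, LinearMap.mem_ker.2 (hA e)⟩) (by rw [hs, hef]; exact one_ne_zero)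
  omega

omit [FiniteDimensional F V] in
theorem nd_inf_perp (hs : ∀ a b : V, B a b = B b a) (hA : ∀ a : V, B a a = 0)
    (U : Submodule F V) (hnd : ∀ x ∈ U, (∀ y ∈ U, B x y = 0) → x = 0)
    {e f : V} (he : e ∈ U) (hf : f ∈ U) (hef : B e f = 1) :
    ∀ x ∈ U ⊓ perp B e f, (∀ y ∈ U ⊓ perp B e f, B x y = 0) → x = 0 := by
  intro w hw hw0
  obtain ⟨hwU, hwp⟩ := hw
  obtain ⟨hwe, hwf⟩ := (mem_perp B e f w).1 hwp
  apply hnd w hwU
  intro x hx
  have hx' : x - (B f x) • e - (B e x) • f ∈ U ⊓ perp B e f := by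
    refine ⟨U.sub_mem (U.sub_mem hx (U.smul_mem _ he)) (U.smul_mem _ hf), ?_⟩
    show _ ∈ perp B e f
    rw [mem_perp]
    constructor
    · simp only [map_sub, map_smul, smul_eq_mul, hA e, hef]
      ring
    · simp only [map_sub, map_smul, smul_eq_mul, hA f, hs f e, hef]
      ring
  have h := hw0 _ hx'
  simp only [map_sub, map_smul, smul_eq_mul, hs w e, hs w f, hwe, hwf, mul_zero, sub_zero] at h
  exact h

end Dim

section GSdef

variable {F : Type v} [Field F] {V : Type u} [AddCommGroup V] [Module F V]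
  [FiniteDimensional F V]

/-- the invariants of a subspace: dimension `2m`, non-degenerate, `N`-invariant, and `N` has rank
`s` on it -/
structure GS (B : LinearMap.BilinForm F V) (N : V →ₗ[F] V) (U : Submodule F V) (m s : ℕ) :
    Prop where
  fin : Module.finrank F ↥U = 2 * m
  nd : ∀ x ∈ U, (∀ y ∈ U, B x y = 0) → x = 0
  inv : ∀ x ∈ U, N x ∈ U
  ker : Module.finrank F ↥(LinearMap.ker N ⊓ U) + s = 2 * m

variable {B : LinearMap.BilinForm F V} {N : V →ₗ[F] V}

theorem GS.peel1 (hs : ∀ a b : V, B a b = B b a) (hA : ∀ a : V, B a a = 0)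
    (hadj : ∀ a b, B (N a) b = B a (N b)) (hN2 : ∀ a, N (N a) = 0)
    {U : Submodule F V} {m s : ℕ} (h : GS B N U (m + 1) (s + 1)) {x : V} (hx : x ∈ U)
    (hx1 : B x (N x) = 1) : GS B N (U ⊓ perp B x (N x)) m s := by
  have hNx := h.inv x hx
  refine ⟨?_, nd_inf_perp hs hA U h.nd hx hNx hx1, ?_, ?_⟩
  · have := finrank_inf_perp hs hA U hx hNx hx1
    have := h.fin
    omega
  · intro w hw
    refine ⟨h.inv w hw.1, ?_⟩
    obtain ⟨hw1, hw2⟩ := (mem_perp B _ _ w).1 hw.2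
    show _ ∈ perp B _ _
    rw [mem_perp]
    refine ⟨?_, ?_⟩
    · rw [← hadj, hw2]
    · rw [← hadj, hN2, map_zero, LinearMap.zero_apply]
  · have e : LinearMap.ker N ⊓ (U ⊓ perp B x (N x)) =
        (LinearMap.ker N ⊓ U) ⊓ LinearMap.ker (B x) := by
      ext w
      simp only [Submodule.mem_inf, mem_perp, LinearMap.mem_ker]
      constructor
      · rintro ⟨h1, h2, h3, h4⟩
        exact ⟨⟨h1, h2⟩, h3⟩
      · rintro ⟨⟨h1, h2⟩, h3⟩
        refine ⟨h1, h2, h3, ?_⟩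
        rw [hadj, h1, map_zero]
    rw [e]
    have h1 := dimcut1 (LinearMap.ker N ⊓ U) (B x) (v := N x)
      (Submodule.mem_inf.2 ⟨LinearMap.mem_ker.2 (hN2 x), hNx⟩) (by rw [hx1]; exact one_ne_zero)
    have := h.ker
    omega

theorem GS.peel2 (hs : ∀ a b : V, B a b = B b a) (hA : ∀ a : V, B a a = 0)
    (hadj : ∀ a b, B (N a) b = B a (N b)) (hN2 : ∀ a, N (N a) = 0)
    {U : Submodule F V} {m s : ℕ} (h : GS B N U (m + 2) (s + 2)) {x y : V} (hx : x ∈ U)
    (hy : y ∈ U) (hxy : B x (N y) = 1) (hxy0 : B x y = 0) (hxx : B x (N x) = 0)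
    (hyy : B y (N y) = 0) : GS B N (U ⊓ perp B x (N y) ⊓ perp B y (N x)) m s := by
  have hNx := h.inv x hx
  have hNy := h.inv y hy
  have hyx : B y (N x) = 1 := by rw [← hadj, hs, hxy]
  have hNN : ∀ a b, B (N a) (N b) = 0 := fun a b => by
    rw [← hadj, hN2, map_zero, LinearMap.zero_apply]
  have hy1 : y ∈ U ⊓ perp B x (N y) := by
    refine ⟨hy, ?_⟩
    show _ ∈ perp B _ _
    rw [mem_perp]
    exact ⟨hxy0, by rw [hs, hyy]⟩
  have hNx1 : N x ∈ U ⊓ perp B x (N y) := by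
    refine ⟨hNx, ?_⟩
    show _ ∈ perp B _ _
    rw [mem_perp]
    exact ⟨hxx, hNN _ _⟩
  refine ⟨?_, nd_inf_perp hs hA _ (nd_inf_perp hs hA U h.nd hx hNy hxy) hy1 hNx1 hyx, ?_, ?_⟩
  · have h1 := finrank_inf_perp hs hA U hx hNy hxy
    have h2 := finrank_inf_perp hs hA _ hy1 hNx1 hyx
    have := h.fin
    omega
  · intro w hw
    obtain ⟨⟨hwU, hw1⟩, hw2⟩ := hw
    obtain ⟨hw1a, hw1b⟩ := (mem_perp B _ _ w).1 hw1
    obtain ⟨hw2a, hw2b⟩ := (mem_perp B _ _ w).1 hw2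
    refine ⟨⟨h.inv w hwU, ?_⟩, ?_⟩
    · show _ ∈ perp B _ _
      rw [mem_perp]
      exact ⟨by rw [← hadj, hw2b], hNN _ _⟩
    · show _ ∈ perp B _ _
      rw [mem_perp]
      exact ⟨by rw [← hadj, hw1b], hNN _ _⟩
  · have e : LinearMap.ker N ⊓ (U ⊓ perp B x (N y) ⊓ perp B y (N x)) =
        (LinearMap.ker N ⊓ U) ⊓ LinearMap.ker (B x) ⊓ LinearMap.ker (B y) := by
      ext w
      simp only [Submodule.mem_inf, mem_perp, LinearMap.mem_ker]
      constructor
      · rintro ⟨h1, ⟨h2, h3, h4⟩, h5, h6⟩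
        exact ⟨⟨⟨h1, h2⟩, h3⟩, h5⟩
      · rintro ⟨⟨⟨h1, h2⟩, h3⟩, h5⟩
        refine ⟨h1, ⟨h2, h3, ?_⟩, h5, ?_⟩
        · rw [hadj, h1, map_zero]
        · rw [hadj, h1, map_zero]
    rw [e]
    have h1 := dimcut1 (LinearMap.ker N ⊓ U) (B x) (v := N y)
      (Submodule.mem_inf.2 ⟨LinearMap.mem_ker.2 (hN2 y), hNy⟩) (by rw [hxy]; exact one_ne_zero)
    have h2 := dimcut1 (LinearMap.ker N ⊓ U ⊓ LinearMap.ker (B x)) (B y) (v := N x)
      (Submodule.mem_inf.2 ⟨Submodule.mem_inf.2 ⟨LinearMap.mem_ker.2 (hN2 x), hNx⟩,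
        LinearMap.mem_ker.2 hxx⟩)
      (by rw [hyx]; exact one_ne_zero)
    have := h.ker
    omega

/-- `N` vanishes on a subspace on which it has rank `0` -/
theorem GS.N_eq_zero {U : Submodule F V} {m : ℕ} (h : GS B N U m 0) {x : V} (hx : x ∈ U) :
    N x = 0 := by
  have h1 : LinearMap.ker N ⊓ U = U := by
    apply Submodule.eq_of_le_of_finrank_eq inf_le_right
    have := h.ker
    have := h.fin
    omega
  have : x ∈ LinearMap.ker N ⊓ U := by rw [h1]; exact hx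
  exact LinearMap.mem_ker.1 this.1

end GSdef

end Cfsg.Agent.Lib.Helper8.SpCent
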