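import Mathlib
import Cfsg.Agent.Lib.Helper8.SpCentC

/-! # Adapted symplectic frames: counting the heads (helper8) -/

set_option autoImplicit false
open Cfsg

namespace Cfsg.Agent.Lib.Helper8.SpCent

universe u v w

open Cfsg.Agent.Lib.Helper5.SympCount

section Generic

variable {F : Type v} [Field F]

/-- fibres of a surjective linear map -/
theorem card_fiber_surj {W : Type u} {T : Type w} [AddCommGroup W] [Module F W] [Finite W]
    [AddCommGroup T] [Module F T] [Finite T] (f : W →ₗ[F] T) (hsurj : Function.Surjective f)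
    (c : T) : Nat.card {x : W // f x = c} * Nat.card T = Nat.card W := by
  have hfib : ∀ a : T, Nat.card {x : W // f x = a} = Nat.card {x : W // f x = c} := by
    intro a
    obtain ⟨x, hx⟩ := hsurj (c - a)
    apply Nat.card_congr
    exact
      { toFun := fun y => ⟨y.1 + x, by rw [map_add, y.2, hx]; abel⟩
        invFun := fun y => ⟨y.1 - x, by rw [map_sub, y.2, hx]; abel⟩
        left_inv := fun y => Subtype.ext (by simp)
        right_inv := fun y => Subtype.ext (by simp) }
  have := Fintype.ofFinite T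
  have h1 : Nat.card W = ∑ a : T, Nat.card {x : W // f x = a} := by
    rw [← Nat.card_sigma]
    exact Nat.card_congr (Equiv.sigmaFiberEquiv f).symm
  rw [h1, Finset.sum_congr rfl (fun a _ => hfib a), Finset.sum_const, Finset.card_univ,
    smul_eq_mul, mul_comm, Nat.card_eq_fintype_card]

theorem surj_of_two {W : Type u} [AddCommGroup W] [Module F W] (f : W →ₗ[F] F × F) (a b : W)
    (γ β : F) (hγ : γ ≠ 0) (ha : f a = (γ, β)) (hb : f b = (0, γ)) : Function.Surjective f := by
  rintro ⟨c, d⟩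
  refine ⟨(c / γ) • a + ((d - c / γ * β) / γ) • b, ?_⟩
  rw [map_add, map_smul, map_smul, ha, hb]
  refine Prod.ext ?_ ?_
  · simp only [Prod.smul_mk, smul_eq_mul, mul_zero, Prod.mk_add_mk, add_zero]
    field_simp
  · simp only [Prod.smul_mk, smul_eq_mul, mul_zero, Prod.mk_add_mk]
    field_simp
    ring

theorem card_compl {α : Type u} [Finite α] (p : α → Prop) :
    Nat.card {a // ¬ p a} = Nat.card α - Nat.card {a // p a} := by
  classical
  have := Nat.card_congr (Equiv.sumCompl p)
  rw [Nat.card_sum] at this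
  omega

end Generic

section Count

variable {F : Type v} [Field F] [Finite F] {V : Type u} [AddCommGroup V] [Module F V]
  [FiniteDimensional F V]
variable {B : LinearMap.BilinForm F V} {N : V →ₗ[F] V}

theorem GS.card_U {U : Submodule F V} {m s : ℕ} (h : GS B N U m s) :
    Nat.card ↥U = Nat.card F ^ (2 * m) := by
  rw [Module.natCard_eq_pow_finrank (K := F), h.fin]

theorem GS.card_K {U : Submodule F V} {m s : ℕ} (h : GS B N U m s) :
    Nat.card ↥(LinearMap.ker N ⊓ U) = Nat.card F ^ (2 * m - s) := by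
  rw [Module.natCard_eq_pow_finrank (K := F)]
  congr 1
  have := h.ker
  omega

theorem GS.s_le {U : Submodule F V} {m s : ℕ} (h : GS B N U m s) : s ≤ 2 * m := by
  have := h.ker
  omega

theorem GS.card_ker {U : Submodule F V} {m s : ℕ} (h : GS B N U m s) :
    Nat.card {x : ↥U // N x.1 = 0} = Nat.card F ^ (2 * m - s) := by
  rw [← h.card_K]
  apply Nat.card_congr
  exact
    { toFun := fun x => ⟨x.1.1, Submodule.mem_inf.2 ⟨LinearMap.mem_ker.2 x.2, x.1.2⟩⟩
      invFun := fun x => ⟨⟨x.1, (Submodule.mem_inf.1 x.2).2⟩,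
        LinearMap.mem_ker.1 (Submodule.mem_inf.1 x.2).1⟩
      left_inv := fun x => rfl
      right_inv := fun x => rfl }

theorem GS.card_nonker {U : Submodule F V} {m s : ℕ} (h : GS B N U m s) :
    Nat.card {x : ↥U // ¬ N x.1 = 0} = Nat.card F ^ (2 * m) - Nat.card F ^ (2 * m - s) := by
  have : Finite V := Module.finite_of_finite F
  rw [card_compl, h.card_ker, h.card_U]

theorem GS.pos_of_ne {U : Submodule F V} {m s : ℕ} (h : GS B N U m s) {x : V} (hx : x ∈ U)
    (hx0 : x ≠ 0) : 1 ≤ m := by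
  by_contra hm
  have hm0 : m = 0 := by omega
  have h1 := h.fin
  rw [hm0, Nat.mul_zero, Submodule.finrank_eq_zero] at h1
  rw [h1, Submodule.mem_bot] at hx
  exact hx0 hx

/-- the second head vector, given the first -/
theorem GS.card_fiberX2 (hadj : ∀ a b, B (N a) b = B a (N b)) (hN2 : ∀ a, N (N a) = 0)
    {U : Submodule F V} {m s : ℕ} (h : GS B N U m s) {x : V} (hx : x ∈ U) (hNx : N x ≠ 0) :
    Nat.card {y : ↥U // B x (N y.1) = 1 ∧ B x y.1 = 0} = Nat.card F ^ (2 * m - 2) := by
  have : Finite V := Module.finite_of_finite F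
  obtain ⟨f, hf⟩ : ∃ f : ↥U →ₗ[F] F × F, ∀ y : ↥U, f y = (B x (N y.1), B x y.1) :=
    ⟨(((B x).comp N).domRestrict U).prod ((B x).domRestrict U), fun y => rfl⟩
  obtain ⟨y0, hy0U, hy0⟩ : ∃ y ∈ U, B (N x) y ≠ 0 := by
    by_contra hcon
    push Not at hcon
    exact hNx (h.nd _ (h.inv x hx) hcon)
  have hsurj : Function.Surjective f := by
    apply surj_of_two f ⟨y0, hy0U⟩ ⟨N y0, h.inv y0 hy0U⟩ (B (N x) y0) (B x y0) hy0
    · rw [hf, hadj]
    · rw [hf, hN2, map_zero, hadj]
  have h1 := card_fiber_surj f hsurj (1, 0)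
  rw [Nat.card_prod, h.card_U] at h1
  have hm : 1 ≤ m := h.pos_of_ne hx (fun h0 => hNx (by rw [h0, map_zero]))
  have e : Nat.card {y : ↥U // B x (N y.1) = 1 ∧ B x y.1 = 0} = Nat.card {y : ↥U // f y = (1, 0)} :=
    Nat.card_congr (Equiv.subtypeEquivRight (fun y => by rw [hf, Prod.ext_iff]))
  rw [e]
  have hq : 0 < Nat.card F := Nat.card_pos
  have h3 : Nat.card F ^ (2 * m) = Nat.card F ^ (2 * m - 2) * (Nat.card F * Nat.card F) := by
    rw [← pow_two, ← pow_add]
    congr 1
    omega
  rw [h3] at h1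
  exact Nat.eq_of_mul_eq_mul_right (Nat.mul_pos hq hq) h1

/-- the number of heads of the two-pair peel -/
theorem GS.card_X2 (hadj : ∀ a b, B (N a) b = B a (N b)) (hN2 : ∀ a, N (N a) = 0)
    {U : Submodule F V} {m s : ℕ} (h : GS B N U m s) (halt : ∀ x ∈ U, B x (N x) = 0) :
    Nat.card (X2 B N U) =
      (Nat.card F ^ (2 * m) - Nat.card F ^ (2 * m - s)) * Nat.card F ^ (2 * m - 2) := by
  have : Finite V := Module.finite_of_finite F
  have e : X2 B N U ≃ Σ x : {x : ↥U // ¬ N x.1 = 0},
      {y : ↥U // B x.1.1 (N y.1) = 1 ∧ B x.1.1 y.1 = 0} :=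
    { toFun := fun xy => ⟨⟨⟨xy.1.1, xy.2.1⟩, fun h0 => by
          have h1 := xy.2.2.2.1
          rw [← hadj] at h1
          change N xy.1.1 = 0 at h0
          rw [h0, map_zero, LinearMap.zero_apply] at h1
          exact zero_ne_one h1⟩,
        ⟨⟨xy.1.2, xy.2.2.1⟩, xy.2.2.2.1, xy.2.2.2.2.1⟩⟩
      invFun := fun z => ⟨(z.1.1.1, z.2.1.1), z.1.1.2, z.2.1.2, z.2.2.1, z.2.2.2,
        halt _ z.1.1.2, halt _ z.2.1.2⟩
      left_inv := fun xy => rfl
      right_inv := fun z => rfl }
  have := Fintype.ofFinite {x : ↥U // ¬ N x.1 = 0}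
  rw [Nat.card_congr e, Nat.card_sigma,
    Finset.sum_congr rfl (fun x _ => h.card_fiberX2 hadj hN2 x.1.2 x.2), Finset.sum_const,
    Finset.card_univ, smul_eq_mul, ← Nat.card_eq_fintype_card, h.card_nonker]

/-- the number of heads of the one-pair peel -/
theorem GS.card_X1 [CharP F 2] {U : Submodule F V} {m s : ℕ} (h : GS B N U m s) {z : V}
    (hz : ∀ w ∈ U, B w (N w) = (B (N z) w) ^ 2) (hna : ∃ v ∈ U, B v (N v) ≠ 0) :
    Nat.card (X1 B N U) * Nat.card F = Nat.card F ^ (2 * m) := by
  have : Finite V := Module.finite_of_finite F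
  obtain ⟨v, hvU, hv⟩ := hna
  have hφ : (B (N z)).domRestrict U ≠ 0 := by
    intro h0
    apply hv
    rw [hz v hvU]
    have := LinearMap.congr_fun h0 ⟨v, hvU⟩
    rw [LinearMap.domRestrict_apply] at this
    rw [this]
    simp
  have h1 := card_fiber ((B (N z)).domRestrict U) hφ 1
  rw [h.card_U] at h1
  rw [← h1]
  congr 1
  apply Nat.card_congr
  exact
    { toFun := fun x => ⟨⟨x.1, x.2.1⟩, by
        rw [LinearMap.domRestrict_apply]
        have h2 := x.2.2
        rw [hz _ x.2.1] at h2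
        exact CharTwo.sq_inj.1 (h2.trans (one_pow 2).symm)⟩
      invFun := fun x => ⟨x.1.1, x.1.2, by
        have h2 := x.2
        rw [LinearMap.domRestrict_apply] at h2
        rw [hz _ x.1.2, h2, one_pow]⟩
      left_inv := fun x => rfl
      right_inv := fun x => rfl }

end Count

end Cfsg.Agent.Lib.Helper8.SpCent
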