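import Mathlib
import Cfsg.Agent.Lib.Helper8.SpCentD
import Cfsg.Agent.Lib.Helper8.SpInvD
import Cfsg.Agent.Lib.Helper8.SpInvF

/-! # Adapted symplectic frames: the canonical vector of a non-alternating involution and the
base case (helper8) -/

set_option autoImplicit false
open Cfsg

namespace Cfsg.Agent.Lib.Helper8.SpCent

universe u v

open Cfsg.Agent.Lib.Helper5.SympCount Cfsg.Agent.Lib.Helper8.SpInv

section Canon

variable {F : Type v} [Field F] [Finite F] [CharP F 2] {V : Type u} [AddCommGroup V] [Module F V]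
  [FiniteDimensional F V]
variable {B : LinearMap.BilinForm F V} {N : V →ₗ[F] V}

/-- the type of the restriction of `N` to a subspace -/
def AltOn (B : LinearMap.BilinForm F V) (N : V →ₗ[F] V) (U : Submodule F V) : Prop :=
  ∀ w ∈ U, B w (N w) = 0

/-- the canonical vector: `B(w, N w) = B(N z, w)²` -/
theorem GS.exists_z (hs : ∀ a b : V, B a b = B b a) (hA : ∀ a : V, B a a = 0)
    (hadj : ∀ a b, B (N a) b = B a (N b)) (hN2 : ∀ a, N (N a) = 0)
    {U : Submodule F V} {m s : ℕ} (h : GS B N U m s) (hna : ¬ AltOn B N U) :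
    ∃ z ∈ U, (∀ w ∈ U, B w (N w) = (B (N z) w) ^ 2) ∧ B z (N z) = (s : F) := by
  have h2 : (2 : F) = 0 := CharTwo.two_eq_zero
  have hvv : ∀ v : V, v + v = 0 := fun v => by rw [← two_smul F v, h2, zero_smul]
  obtain ⟨BU, hBU⟩ : ∃ BU : LinearMap.BilinForm F ↥U, ∀ a b : ↥U, BU a b = B a.1 b.1 :=
    ⟨B.restrict U, fun a b => rfl⟩
  obtain ⟨NU, hNU⟩ : ∃ NU : ↥U →ₗ[F] ↥U, ∀ a : ↥U, (NU a : V) = N a.1 :=
    ⟨N.restrict h.inv, fun a => rfl⟩
  obtain ⟨tU, htU⟩ : ∃ tU : ↥U →ₗ[F] ↥U, ∀ a, tU a = a + NU a :=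
    ⟨LinearMap.id + NU, fun a => rfl⟩
  have hNN : ∀ a b, B (N a) (N b) = 0 := fun a b => by
    rw [← hadj, hN2, map_zero, LinearMap.zero_apply]
  have hB : BU.Nondegenerate := by
    constructor
    · intro x hx
      apply Subtype.ext
      apply h.nd x.1 x.2
      intro y hy
      have := hx ⟨y, hy⟩
      rw [hBU] at this
      exact this
    · intro x hx
      apply Subtype.ext
      apply h.nd x.1 x.2
      intro y hy
      have := hx ⟨y, hy⟩
      rw [hBU, hs] at this
      exact this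
  have hAU : BU.IsAlt := fun a => by rw [hBU]; exact hA _
  have hN : ∀ x, NU x = tU x - x := fun x => by rw [htU]; abel
  have hiso : ∀ x y, BU (tU x) (tU y) = BU x y := by
    intro x y
    rw [htU, htU, hBU, hBU]
    simp only [Submodule.coe_add, hNU, map_add, LinearMap.add_apply]
    rw [hNN, hadj x.1 y.1]
    linear_combination (B x.1 (N y.1)) * h2
  have hsq : ∀ x, tU (tU x) = x := by
    intro x
    apply Subtype.ext
    rw [htU, htU]
    simp only [Submodule.coe_add, hNU, map_add, hN2, add_zero]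
    rw [add_assoc, hvv, add_zero]
  have hna' : ∃ v : ↥U, BU v (tU v) ≠ 0 := by
    unfold AltOn at hna
    push Not at hna
    obtain ⟨v, hvU, hv⟩ := hna
    refine ⟨⟨v, hvU⟩, ?_⟩
    rw [htU, hBU]
    simp only [Submodule.coe_add, hNU, map_add, hA, zero_add]
    exact hv
  have hr : Module.finrank F (LinearMap.range NU) = s := by
    have h1 := LinearMap.finrank_range_add_finrank_ker NU
    have hker : (LinearMap.ker NU).map U.subtype = LinearMap.ker N ⊓ U := by
      ext x
      constructor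
      · rintro ⟨y, hy, rfl⟩
        refine Submodule.mem_inf.2 ⟨LinearMap.mem_ker.2 ?_, y.2⟩
        have hy' : NU y = 0 := hy
        have := hNU y
        rw [hy'] at this
        exact this.symm
      · intro hx
        obtain ⟨hx1, hx2⟩ := Submodule.mem_inf.1 hx
        refine ⟨⟨x, hx2⟩, ?_, rfl⟩
        apply LinearMap.mem_ker.2
        apply Subtype.ext
        rw [hNU]
        exact hx1
    have h5 := Submodule.finrank_map_subtype_eq U (LinearMap.ker NU)
    rw [hker] at h5
    have := h.fin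
    have := h.ker
    omega
  obtain ⟨u, c, hfr⟩ := exists_frame_nonalt hB hAU h2 tU NU hN hiso hsq (sq_surj' h2) hna' hr
  have hNc : ∀ i, N (c i).1 = (u i).1 := fun i => by rw [← hNU, hfr.Nc]
  have huc : ∀ i j, B (u i).1 (c j).1 = if i = j then 1 else 0 := fun i j => by
    rw [← hBU]
    exact hfr.uc i j
  have hNz : N (∑ i, (c i).1) = ∑ i, (u i).1 := by
    rw [map_sum]
    exact Finset.sum_congr rfl (fun i _ => hNc i)
  refine ⟨∑ i, (c i).1, U.sum_mem (fun i _ => (c i).2), fun w hw => ?_, ?_⟩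
  · have h1 : N w = ∑ i, B w (u i).1 • (u i).1 := by
      have h3 := hfr.Nx ⟨w, hw⟩
      have h4 := congrArg Subtype.val h3
      rw [hNU] at h4
      rw [h4, Submodule.coe_sum]
      apply Finset.sum_congr rfl
      intro i _
      rw [Submodule.coe_smul, hBU]
      rfl
    rw [hNz, h1, map_sum, map_sum, LinearMap.sum_apply, CharTwo.sum_sq]
    apply Finset.sum_congr rfl
    intro i _
    rw [map_smul, smul_eq_mul, hs (u i).1 w, pow_two]
  · rw [hNz, map_sum]
    have : ∀ j : Fin s, B (∑ i, (c i).1) (u j).1 = 1 := by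
      intro j
      rw [map_sum, LinearMap.sum_apply]
      simp only [hs (c _).1, huc]
      rw [Finset.sum_ite_eq Finset.univ j, if_pos (Finset.mem_univ _)]
    rw [Finset.sum_congr rfl (fun i _ => this i), Finset.sum_const, Finset.card_univ,
      Fintype.card_fin, nsmul_eq_mul, mul_one]

/-- the heads `x` of the one-pair peel whose complement is alternating -/
theorem GS.bad_iff (hs : ∀ a b : V, B a b = B b a) (hA : ∀ a : V, B a a = 0)
    (hadj : ∀ a b, B (N a) b = B a (N b)) (hN2 : ∀ a, N (N a) = 0)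
    {U : Submodule F V} {m s : ℕ} (h : GS B N U m s) {z : V} (hzU : z ∈ U)
    (hz : ∀ w ∈ U, B w (N w) = (B (N z) w) ^ 2) (hzz : B z (N z) = (s : F)) {x : V}
    (hxU : x ∈ U) :
    (B x (N x) = 1 ∧ AltOn B N (U ⊓ perp B x (N x))) ↔ (N x = N z ∧ Odd s) := by
  have hNN : ∀ a b, B (N a) (N b) = 0 := fun a b => by
    rw [← hadj, hN2, map_zero, LinearMap.zero_apply]
  constructor
  · rintro ⟨hx1, halt⟩
    have hzx : B (N z) x = 1 := by
      have := hz x hxU
      rw [hx1] at this
      exact (CharTwo.sq_inj.1 (this.symm.trans (one_pow 2).symm))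
    have key : ∀ w ∈ U, B (N z - N x) w = 0 := by
      intro w hw
      have hw' : w - (B (N x) w) • x - (B x w) • N x ∈ U ⊓ perp B x (N x) := by
        refine Submodule.mem_inf.2 ⟨U.sub_mem (U.sub_mem hw (U.smul_mem _ hxU))
          (U.smul_mem _ (h.inv x hxU)), (mem_perp B _ _ _).2 ⟨?_, ?_⟩⟩
        · simp only [map_sub, map_smul, smul_eq_mul, hA x, hx1]
          ring
        · simp only [map_sub, map_smul, smul_eq_mul, hNN, hs (N x) x, hx1]
          ring
      have h1 := halt _ hw'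
      rw [hz _ (Submodule.mem_inf.1 hw').1] at h1
      have h3 := pow_eq_zero_iff (two_ne_zero) |>.1 h1
      simp only [map_sub, map_smul, smul_eq_mul, hNN, hzx, mul_zero, mul_one, sub_zero] at h3
      rw [map_sub, LinearMap.sub_apply]
      exact h3
    have hNzx : N z = N x :=
      sub_eq_zero.1 (h.nd _ (U.sub_mem (h.inv z hzU) (h.inv x hxU)) key)
    refine ⟨hNzx.symm, ?_⟩
    have h4 : (s : F) = 1 := by
      rw [← hzz, hNzx, ← hadj, hzx]
    rw [CharTwo.natCast_eq_ite] at h4
    by_contra hodd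
    rw [Nat.not_odd_iff_even] at hodd
    rw [if_pos hodd] at h4
    exact zero_ne_one h4
  · rintro ⟨hNx, hodd⟩
    have hs1 : (s : F) = 1 := by
      rw [CharTwo.natCast_eq_ite, if_neg (Nat.not_even_iff_odd.2 hodd)]
    have hzx : B (N z) x = 1 := by
      rw [hadj, hNx, hzz, hs1]
    refine ⟨by rw [hz x hxU, hzx, one_pow], ?_⟩
    intro w hw
    obtain ⟨hwU, hwp⟩ := Submodule.mem_inf.1 hw
    rw [hz w hwU, ← hNx, ((mem_perp B _ _ _).1 hwp).2]
    ring

/-- the number of bad heads -/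
theorem GS.card_bad (hs : ∀ a b : V, B a b = B b a) (hA : ∀ a : V, B a a = 0)
    (hadj : ∀ a b, B (N a) b = B a (N b)) (hN2 : ∀ a, N (N a) = 0)
    {U : Submodule F V} {m s : ℕ} (h : GS B N U m s) (hna : ¬ AltOn B N U) :
    Nat.card {x : X1 B N U // AltOn B N (U ⊓ perp B x.1 (N x.1))} =
      if Odd s then Nat.card F ^ (2 * m - s) else 0 := by
  obtain ⟨z, hzU, hz, hzz⟩ := h.exists_z hs hA hadj hN2 hna
  have hiff := fun (x : V) (hxU : x ∈ U) => h.bad_iff hs hA hadj hN2 hzU hz hzz hxU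
  by_cases hodd : Odd s
  · rw [if_pos hodd, ← h.card_ker]
    apply Nat.card_congr
    exact
      { toFun := fun x => ⟨⟨x.1.1 - z, U.sub_mem x.1.2.1 hzU⟩, by
          have := ((hiff x.1.1 x.1.2.1).1 ⟨x.1.2.2, x.2⟩).1
          rw [map_sub, this, sub_self]⟩
        invFun := fun y => ⟨⟨y.1.1 + z, U.add_mem y.1.2 hzU,
          ((hiff _ (U.add_mem y.1.2 hzU)).2 ⟨by rw [map_add, y.2, zero_add], hodd⟩).1⟩,
          ((hiff _ (U.add_mem y.1.2 hzU)).2 ⟨by rw [map_add, y.2, zero_add], hodd⟩).2⟩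
        left_inv := fun x => Subtype.ext (Subtype.ext (by simp))
        right_inv := fun y => Subtype.ext (Subtype.ext (by simp)) }
  · rw [if_neg hodd, Nat.card_eq_zero]
    left
    exact ⟨fun x => hodd ((hiff x.1.1 x.1.2.1).1 ⟨x.1.2.2, x.2⟩).2⟩

/-- the number of good heads -/
theorem GS.card_good (hs : ∀ a b : V, B a b = B b a) (hA : ∀ a : V, B a a = 0)
    (hadj : ∀ a b, B (N a) b = B a (N b)) (hN2 : ∀ a, N (N a) = 0)
    {U : Submodule F V} {m s : ℕ} (h : GS B N U m s) (hna : ¬ AltOn B N U) :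
    Nat.card {x : X1 B N U // ¬ AltOn B N (U ⊓ perp B x.1 (N x.1))} =
      Nat.card F ^ (2 * m - 1) - if Odd s then Nat.card F ^ (2 * m - s) else 0 := by
  have : Finite V := Module.finite_of_finite F
  obtain ⟨z, hzU, hz, hzz⟩ := h.exists_z hs hA hadj hN2 hna
  have hna' : ∃ v ∈ U, B v (N v) ≠ 0 := by
    unfold AltOn at hna
    push Not at hna
    exact hna
  have h1 := h.card_X1 hz hna'
  obtain ⟨v, hvU, hv⟩ := hna'
  have hm : 1 ≤ m := h.pos_of_ne hvU (fun h0 => hv (by rw [h0, map_zero, LinearMap.zero_apply]))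
  have hq : 0 < Nat.card F := Nat.card_pos
  have h3 : Nat.card F ^ (2 * m) = Nat.card F ^ (2 * m - 1) * Nat.card F := by
    rw [← pow_succ]
    congr 1
    omega
  rw [h3] at h1
  have h4 := Nat.eq_of_mul_eq_mul_right hq h1
  rw [card_compl, h.card_bad hs hA hadj hN2 hna, h4]

end Canon

section Base

variable {F : Type v} [Field F] [Finite F] {V : Type u} [AddCommGroup V] [Module F V]
  [FiniteDimensional F V]
variable {B : LinearMap.BilinForm F V} {N : V →ₗ[F] V}

/-- the base case: `N = 0` on `U` -/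
theorem GS.card_AF_zero (hs : ∀ a b : V, B a b = B b a) (hA : ∀ a : V, B a a = 0)
    {U : Submodule F V} {m : ℕ} (h : GS B N U m 0) (τ : ℕ → ℕ) :
    Nat.card (AF B N U m 0 τ) =
      ∏ i ∈ Finset.range m, ((Nat.card F ^ (2 * (i + 1)) - 1) * Nat.card F ^ (2 * i + 1)) := by
  have hB : (B.restrict U).Nondegenerate := by
    constructor
    · intro x hx
      apply Subtype.ext
      apply h.nd x.1 x.2
      intro y hy
      exact hx ⟨y, hy⟩
    · intro x hx
      apply Subtype.ext
      apply h.nd x.1 x.2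
      intro y hy
      rw [hs]
      exact hx ⟨y, hy⟩
  rw [← card_SB m ↥U (B.restrict U) hB (fun x => hA x.1) h.fin]
  apply Nat.card_congr
  exact
    { toFun := fun p => ⟨(fun i => ⟨p.1.1 i, p.2.1 i⟩, fun i => ⟨p.1.2 i, p.2.2.1 i⟩),
        fun i j => p.2.2.2.1.1 i j, fun i j => p.2.2.2.1.2.1 i j, fun i j => p.2.2.2.1.2.2 i j⟩
      invFun := fun p => ⟨(fun i => (p.1.1 i).1, fun i => (p.1.2 i).1),
        fun i => (p.1.1 i).2, fun i => (p.1.2 i).2,
        ⟨fun i j => p.2.1 i j, fun i j => p.2.2.1 i j, fun i j => p.2.2.2 i j⟩,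
        fun i => h.N_eq_zero (p.1.2 i).2, fun j => by
          rw [if_neg (Nat.not_lt_zero _)]
          exact h.N_eq_zero (p.1.1 j).2⟩
      left_inv := fun p => rfl
      right_inv := fun p => rfl }

end Base

end Cfsg.Agent.Lib.Helper8.SpCent
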