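import Mathlib
import Cfsg.Agent.Lib.Helper8.SpCentE

/-! # Adapted symplectic frames: the counts (helper8) -/

set_option autoImplicit false
open Cfsg

namespace Cfsg.Agent.Lib.Helper8.SpCent

universe u v

open Cfsg.Agent.Lib.Helper5.SympCount

section Arith

/-- `|Sp_{2k}(q)|` -/
def spc (q k : ℕ) : ℕ := q ^ (k ^ 2) * ∏ i ∈ Finset.range k, (q ^ (2 * (i + 1)) - 1)

/-- the number of symplectic bases -/
def sb (q m : ℕ) : ℕ := ∏ i ∈ Finset.range m, ((q ^ (2 * (i + 1)) - 1) * q ^ (2 * i + 1))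

theorem sb_eq (q m : ℕ) : sb q m = spc q m := by
  unfold sb spc
  rw [Finset.prod_mul_distrib, mul_comm]
  congr 1
  rw [Finset.prod_pow_eq_pow_sum]
  congr 1
  induction m with
  | zero => simp
  | succ m ih => rw [Finset.sum_range_succ, ih]; ring

theorem spc_zero (q : ℕ) : spc q 0 = 1 := by
  simp [spc]

theorem spc_succ (q k : ℕ) :
    spc q (k + 1) = q ^ (2 * k + 1) * (q ^ (2 * (k + 1)) - 1) * spc q k := by
  unfold spc
  rw [Finset.prod_range_succ]
  have : (k + 1) ^ 2 = (2 * k + 1) + k ^ 2 := by ring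
  rw [this, pow_add]
  ring

/-- the number of adapted frames of orthonormal shape (rank `s`, dimension `2m`) -/
def cO (q : ℕ) : ℕ → ℕ → ℕ
  | 0, m => sb q m
  | (s + 1), m =>
    (q ^ (2 * m - 1) - if 1 ≤ s ∧ Even s then q ^ (2 * m - 1 - s) else 0) * cO q s (m - 1)

theorem cO_one (q r : ℕ) : cO q 1 (1 + r) = q ^ (2 * r + 1) * spc q r := by
  show (q ^ (2 * (1 + r) - 1) - if 1 ≤ 0 ∧ Even 0 then q ^ (2 * (1 + r) - 1 - 0) else 0) *
    cO q 0 (1 + r - 1) = _
  rw [if_neg (by omega), Nat.sub_zero, show 2 * (1 + r) - 1 = 2 * r + 1 by omega,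
    show 1 + r - 1 = r by omega]
  show _ * sb q r = _
  rw [sb_eq]

theorem cO_even_step (q k r : ℕ) :
    cO q (2 * k + 2) (2 * k + 2 + r) = q ^ (4 * k + 3 + 2 * r) * cO q (2 * k + 1) (2 * k + 1 + r) := by
  show (q ^ (2 * (2 * k + 2 + r) - 1) - if 1 ≤ 2 * k + 1 ∧ Even (2 * k + 1) then
    q ^ (2 * (2 * k + 2 + r) - 1 - (2 * k + 1)) else 0) * cO q (2 * k + 1) (2 * k + 2 + r - 1) = _
  rw [if_neg (fun h => by
    have := h.2
    rw [Nat.even_add_one] at this
    exact this (even_two_mul k)), Nat.sub_zero,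
    show 2 * (2 * k + 2 + r) - 1 = 4 * k + 3 + 2 * r by omega,
    show 2 * k + 2 + r - 1 = 2 * k + 1 + r by omega]

theorem cO_odd_step (q k r : ℕ) :
    cO q (2 * k + 3) (2 * k + 3 + r) =
      (q ^ (4 * k + 5 + 2 * r) - q ^ (2 * k + 3 + 2 * r)) * cO q (2 * k + 2) (2 * k + 2 + r) := by
  show (q ^ (2 * (2 * k + 3 + r) - 1) - if 1 ≤ 2 * k + 2 ∧ Even (2 * k + 2) then
    q ^ (2 * (2 * k + 3 + r) - 1 - (2 * k + 2)) else 0) * cO q (2 * k + 2) (2 * k + 3 + r - 1) = _
  rw [if_pos ⟨by omega, ⟨k + 1, by ring⟩⟩,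
    show 2 * (2 * k + 3 + r) - 1 = 4 * k + 5 + 2 * r by omega,
    show 4 * k + 5 + 2 * r - (2 * k + 2) = 2 * k + 3 + 2 * r by omega,
    show 2 * k + 3 + r - 1 = 2 * k + 2 + r by omega]

theorem cO_closed (q r : ℕ) : ∀ k : ℕ,
    cO q (2 * k + 1) (2 * k + 1 + r) =
      q ^ (2 * k ^ 2 + 3 * k + 1 + 4 * r * k + 2 * r) * spc q k * spc q r ∧
    cO q (2 * k + 2) (2 * k + 2 + r) =
      q ^ (2 * k ^ 2 + 7 * k + 4 + 4 * r * k + 4 * r) * spc q k * spc q r := by
  intro k
  induction k with
  | zero =>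
    have h1 : cO q (2 * 0 + 1) (2 * 0 + 1 + r) =
        q ^ (2 * 0 ^ 2 + 3 * 0 + 1 + 4 * r * 0 + 2 * r) * spc q 0 * spc q r := by
      have := cO_one q r
      rw [spc_zero]
      simp only [Nat.mul_zero, Nat.zero_add, mul_one]
      rw [this]
      congr 1
      ring_nf
    refine ⟨h1, ?_⟩
    rw [cO_even_step, h1, spc_zero]
    ring
  | succ k ih =>
    obtain ⟨ih1, ih2⟩ := ih
    have h1 : cO q (2 * (k + 1) + 1) (2 * (k + 1) + 1 + r) =
        q ^ (2 * (k + 1) ^ 2 + 3 * (k + 1) + 1 + 4 * r * (k + 1) + 2 * r) * spc q (k + 1) *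
          spc q r := by
      have e := cO_odd_step q k r
      rw [show 2 * (k + 1) + 1 = 2 * k + 3 by ring, e, ih2, spc_succ]
      have e1 : q ^ (4 * k + 5 + 2 * r) - q ^ (2 * k + 3 + 2 * r) =
          q ^ (2 * k + 3 + 2 * r) * (q ^ (2 * (k + 1)) - 1) := by
        rw [Nat.mul_sub, mul_one, ← pow_add]
        congr 2
        ring
      rw [e1]
      ring
    refine ⟨h1, ?_⟩
    have e := cO_even_step q (k + 1) r
    rw [e, h1]
    ring

end Arith

section Counts

variable {F : Type v} [Field F] [Finite F] [CharP F 2] {V : Type u} [AddCommGroup V] [Module F V]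
  [FiniteDimensional F V]
variable {B : LinearMap.BilinForm F V} {N : V →ₗ[F] V}

/-- the number of adapted frames of alternating shape -/
theorem count_a (hs : ∀ a b : V, B a b = B b a) (hA : ∀ a : V, B a a = 0)
    (hadj : ∀ a b, B (N a) b = B a (N b)) (hN2 : ∀ a, N (N a) = 0) :
    ∀ (k r m s : ℕ) (U : Submodule F V), m = 2 * k + r → s = 2 * k → GS B N U m s →
      AltOn B N U →
      Nat.card (AF B N U m s sw) =
        Nat.card F ^ (2 * k ^ 2 + 4 * r * k + k) * spc (Nat.card F) k * spc (Nat.card F) r := by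
  intro k
  induction k with
  | zero =>
    intro r m s U hm hs0 h _
    obtain rfl : m = r := by omega
    obtain rfl : s = 0 := by omega
    rw [h.card_AF_zero hs hA sw, spc_zero]
    simp only [ne_eq, OfNat.ofNat_ne_zero, not_false_eq_true, zero_pow, Nat.mul_zero, Nat.add_zero,
      pow_zero, Nat.one_mul]
    exact sb_eq _ _
  | succ k ih =>
    intro r m s U hm hs0 h halt
    have : Finite V := Module.finite_of_finite F
    obtain ⟨m', rfl⟩ : ∃ m', m = m' + 2 := ⟨2 * k + r, by omega⟩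
    obtain ⟨s', rfl⟩ : ∃ s', s = s' + 2 := ⟨2 * k, by omega⟩
    have := Fintype.ofFinite (X2 B N U)
    rw [← Nat.card_congr (Equiv.sigmaFiberEquiv (head2 U m' s' sw sw_zero sw_one)), Nat.card_sigma]
    have hfib : ∀ x : X2 B N U,
        Nat.card {p : AF B N U (m' + 2) (s' + 2) sw // head2 U m' s' sw sw_zero sw_one p = x} =
          Nat.card F ^ (2 * k ^ 2 + 4 * r * k + k) * spc (Nat.card F) k * spc (Nat.card F) r := by
      intro x
      rw [Nat.card_congr (fiber2 hs hA hadj hN2 U h.inv m' s' sw sw sw_zero sw_one sw_add_two x)]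
      exact ih r m' s' _ (by omega) (by omega)
        (h.peel2 hs hA hadj hN2 x.2.1 x.2.2.1 x.2.2.2.1 x.2.2.2.2.1 x.2.2.2.2.2.1 x.2.2.2.2.2.2)
        (fun w hw => halt w (Submodule.mem_inf.1 (Submodule.mem_inf.1 hw).1).1)
    rw [Finset.sum_congr rfl (fun x _ => hfib x), Finset.sum_const, Finset.card_univ, smul_eq_mul,
      ← Nat.card_eq_fintype_card, h.card_X2 hadj hN2 halt]
    obtain rfl : m' = 2 * k + r := by omega
    obtain rfl : s' = 2 * k := by omega
    rw [show 2 * (2 * k + r + 2) - (2 * k + 2) = 2 * k + 2 * r + 2 by omega,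
      show 2 * (2 * k + r + 2) - 2 = 4 * k + 2 * r + 2 by omega,
      show 2 * (2 * k + r + 2) = (2 * k + 2 * r + 2) + 2 * (k + 1) by ring, pow_add, spc_succ]
    have e1 : Nat.card F ^ (2 * k + 2 * r + 2) * Nat.card F ^ (2 * (k + 1)) -
        Nat.card F ^ (2 * k + 2 * r + 2) =
        Nat.card F ^ (2 * k + 2 * r + 2) * (Nat.card F ^ (2 * (k + 1)) - 1) := by
      rw [Nat.mul_sub, mul_one]
    rw [e1]
    ring

theorem sum_ite_const {α : Type u} [Fintype α] (P : α → Prop) [DecidablePred P] (c : ℕ) :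
    ∑ x : α, (if P x then c else 0) = Nat.card {x // P x} * c := by
  rw [Finset.sum_ite, Finset.sum_const_zero, add_zero, Finset.sum_const, smul_eq_mul,
    Nat.card_eq_fintype_card, Fintype.card_subtype]

/-- the number of adapted frames of orthonormal shape -/
theorem count_o (hs : ∀ a b : V, B a b = B b a) (hA : ∀ a : V, B a a = 0)
    (hadj : ∀ a b, B (N a) b = B a (N b)) (hN2 : ∀ a, N (N a) = 0) :
    ∀ (s m : ℕ) (U : Submodule F V), GS B N U m s → (1 ≤ s → ¬ AltOn B N U) →
      Nat.card (AF B N U m s id) = cO (Nat.card F) s m := by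
  intro s
  induction s with
  | zero =>
    intro m U h _
    rw [h.card_AF_zero hs hA id]
    rfl
  | succ s ih =>
    intro m U h hna
    classical
    have : Finite V := Module.finite_of_finite F
    have hna' := hna (by omega)
    have hsle := h.s_le
    obtain ⟨m', rfl⟩ : ∃ m', m = m' + 1 := ⟨m - 1, by omega⟩
    have := Fintype.ofFinite (X1 B N U)
    rw [← Nat.card_congr (Equiv.sigmaFiberEquiv (head1 U m' s id rfl)), Nat.card_sigma]
    have hfib0 : ∀ x : X1 B N U,
        Nat.card {p : AF B N U (m' + 1) (s + 1) id // head1 U m' s id rfl p = x} =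
          Nat.card (AF B N (U ⊓ perp B x.1 (N x.1)) m' s id) := fun x =>
      Nat.card_congr (fiber1 hs hA hN2 U h.inv m' s id id rfl (fun j => rfl) x)
    have hGS : ∀ x : X1 B N U, GS B N (U ⊓ perp B x.1 (N x.1)) m' s := fun x =>
      h.peel1 hs hA hadj hN2 x.2.1 x.2.2
    have hq : 0 < Nat.card F := Nat.card_pos
    show _ = (Nat.card F ^ (2 * (m' + 1) - 1) -
      if 1 ≤ s ∧ Even s then Nat.card F ^ (2 * (m' + 1) - 1 - s) else 0) *
      cO (Nat.card F) s (m' + 1 - 1)
    rw [Nat.add_sub_cancel]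
    by_cases hs0 : s = 0
    · subst hs0
      rw [if_neg (by omega), Nat.sub_zero]
      have hfib : ∀ x : X1 B N U,
          Nat.card {p : AF B N U (m' + 1) (0 + 1) id // head1 U m' 0 id rfl p = x} =
            cO (Nat.card F) 0 m' := fun x => by
        rw [hfib0 x]
        exact ih m' _ (hGS x) (fun h0 => absurd h0 (by omega))
      rw [Finset.sum_congr rfl (fun x _ => hfib x), Finset.sum_const, Finset.card_univ,
        smul_eq_mul, ← Nat.card_eq_fintype_card]
      congr 1
      obtain ⟨z, hzU, hz, hzz⟩ := h.exists_z hs hA hadj hN2 hna'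
      have hna'' : ∃ v ∈ U, B v (N v) ≠ 0 := by
        unfold AltOn at hna'
        push Not at hna'
        exact hna'
      have h1 := h.card_X1 hz hna''
      have h3 : Nat.card F ^ (2 * (m' + 1)) = Nat.card F ^ (2 * (m' + 1) - 1) * Nat.card F := by
        rw [← pow_succ]
        congr 1
      rw [h3] at h1
      exact Nat.eq_of_mul_eq_mul_right hq h1
    · have hs1 : 1 ≤ s := by omega
      have hfib : ∀ x : X1 B N U,
          Nat.card {p : AF B N U (m' + 1) (s + 1) id // head1 U m' s id rfl p = x} =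
            if ¬ AltOn B N (U ⊓ perp B x.1 (N x.1)) then cO (Nat.card F) s m' else 0 := fun x => by
        rw [hfib0 x]
        by_cases hx : AltOn B N (U ⊓ perp B x.1 (N x.1))
        · rw [if_neg (not_not.2 hx), Nat.card_eq_zero]
          left
          refine ⟨fun p => ?_⟩
          have hm1 : 1 ≤ m' := by
            have := (hGS x).s_le
            omega
          obtain ⟨m'', rfl⟩ : ∃ m'', m' = m'' + 1 := ⟨m' - 1, by omega⟩
          have h5 := p.2.2.2.2.2 0
          have hc : ((0 : Fin (m'' + 1)) : ℕ) < s := by rw [Fin.val_zero]; omega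
          rw [if_pos hc] at h5
          simp only [id_eq, Fin.val_zero] at h5
          rw [ext0_of_lt _ 0 (Nat.succ_pos _)] at h5
          have h6 := hx _ (p.2.1 0)
          rw [h5] at h6
          have h7 := p.2.2.2.1.1 0 ⟨0, Nat.succ_pos _⟩
          rw [if_pos (show (0 : Fin (m'' + 1)) = ⟨0, Nat.succ_pos _⟩ from rfl)] at h7
          rw [h7] at h6
          exact one_ne_zero h6
        · rw [if_pos hx]
          exact ih m' _ (hGS x) (fun _ => hx)
      rw [Finset.sum_congr rfl (fun x _ => hfib x), sum_ite_const,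
        h.card_good hs hA hadj hN2 hna']
      have e : (if Odd (s + 1) then Nat.card F ^ (2 * (m' + 1) - (s + 1)) else 0) =
          (if 1 ≤ s ∧ Even s then Nat.card F ^ (2 * (m' + 1) - 1 - s) else 0) := by
        by_cases hev : Even s
        · rw [if_pos (Nat.odd_add_one.2 (Nat.not_odd_iff_even.2 hev)),
            if_pos (⟨hs1, hev⟩ : 1 ≤ s ∧ Even s)]
          congr 1
          omega
        · rw [if_neg (fun h0 : 1 ≤ s ∧ Even s => hev h0.2), if_neg (fun h0 : Odd (s + 1) => by
            rw [Nat.odd_add_one, Nat.not_odd_iff_even] at h0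
            exact hev h0)]
      rw [e]

end Counts

end Cfsg.Agent.Lib.Helper8.SpCent
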