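import Mathlib
import Cfsg.Agent.Lib.Helper8.SpCentF
import Cfsg.Agent.S2593

/-! # Centralizers of involutions of `Sp_{2m}(q)`, `q` even: the representatives (helper8) -/

set_option autoImplicit false
open Cfsg

namespace Cfsg.Agent.Lib.Helper8.SpCent

open Matrix Cfsg.Agent.Lib.Helper5.Symp Cfsg.Agent.S0245 Cfsg.Agent.Lib.Helper8.SpInv
  Cfsg.Agent.S2166 Cfsg.Agent.S2593 Cfsg.Agent.Lib.Helper5.SympCount

section Grp

theorem card_centralizer_of_isConj {G : Type*} [Group G] {a b : G} (h : IsConj a b) :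
    Nat.card (Subgroup.centralizer ({a} : Set G)) =
      Nat.card (Subgroup.centralizer ({b} : Set G)) := by
  obtain ⟨c, rfl⟩ := isConj_iff.1 h
  apply Nat.card_congr
  exact
    { toFun := fun g => ⟨c * g.1 * c⁻¹, by
        rw [Subgroup.mem_centralizer_singleton_iff]
        have h1 := Subgroup.mem_centralizer_singleton_iff.1 g.2
        calc c * g.1 * c⁻¹ * (c * a * c⁻¹) = c * (g.1 * a) * c⁻¹ := by group
          _ = c * (a * g.1) * c⁻¹ := by rw [h1]
          _ = c * a * c⁻¹ * (c * g.1 * c⁻¹) := by group⟩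
      invFun := fun g => ⟨c⁻¹ * g.1 * c, by
        rw [Subgroup.mem_centralizer_singleton_iff]
        have h1 := Subgroup.mem_centralizer_singleton_iff.1 g.2
        calc c⁻¹ * g.1 * c * a = c⁻¹ * (g.1 * (c * a * c⁻¹)) * c := by group
          _ = c⁻¹ * (c * a * c⁻¹ * g.1) * c := by rw [h1]
          _ = a * (c⁻¹ * g.1 * c) := by group⟩
      left_inv := fun g => Subtype.ext (by
        show c⁻¹ * (c * g.1 * c⁻¹) * c = g.1
        group)
      right_inv := fun g => Subtype.ext (by
        show c * (c⁻¹ * g.1 * c) * c⁻¹ = g.1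
        group) }

end Grp

section Rep

variable {F : Type*} [Field F] {m : ℕ} {τ : Fin m → Fin m} {s : ℕ}

/-- the nilpotent part of the representative -/
def Nrep (F : Type*) [Field F] {m : ℕ} (τ : Fin m → Fin m) (s : ℕ) :
    (Fin m ⊕ Fin m → F) →ₗ[F] (Fin m ⊕ Fin m → F) := (Amat F τ s - 1).mulVecLin

theorem Nrep_single_inl (j : Fin m) : Nrep F τ s (Pi.single (Sum.inl j) 1) = 0 := by
  unfold Nrep
  rw [Matrix.mulVecLin_apply, Matrix.mulVec_single_one, Amat_sub_one]
  ext r
  rcases r with i | i <;> simp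

theorem Nrep_single_inr (j : Fin m) :
    Nrep F τ s (Pi.single (Sum.inr j) 1) =
      if (j : ℕ) < s then Pi.single (Sum.inl (τ j)) 1 else 0 := by
  unfold Nrep
  rw [Matrix.mulVecLin_apply, Matrix.mulVec_single_one, Amat_sub_one]
  ext r
  rcases r with i | i
  · by_cases hj : (j : ℕ) < s
    · rw [if_pos hj]
      simp only [Matrix.col_apply, Matrix.fromBlocks_apply₁₂, Smat, Pi.single_apply, Sum.inl.injEq,
        hj, and_true]
    · rw [if_neg hj]
      simp [Smat, hj]
  · by_cases hj : (j : ℕ) < s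
    · rw [if_pos hj]
      simp
    · rw [if_neg hj]
      simp

theorem mat_eq_iff_cols {n : Type*} [Fintype n] [DecidableEq n] (M M' : Matrix n n F) :
    M = M' ↔ ∀ c, M *ᵥ Pi.single c 1 = M' *ᵥ Pi.single c 1 := by
  constructor
  · rintro rfl c
    rfl
  · intro h
    ext r c
    have := congrFun (h c) r
    rw [Matrix.mulVec_single_one, Matrix.mulVec_single_one] at this
    exact this

theorem mem_centralizer_iff_isAF (h : Good τ s) (τ' : ℕ → ℕ)
    (hτ : ∀ j : Fin m, (j : ℕ) < s → τ' j = ((τ j : Fin m) : ℕ))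
    (g : ↥(Matrix.symplecticGroup (Fin m) F)) :
    g ∈ Subgroup.centralizer ({rep F τ s h} : Set ↥(Matrix.symplecticGroup (Fin m) F)) ↔
      IsAF (sympBilin (F := F) m) (Nrep F τ s) ⊤ m s τ' (colE m g.1, colF m g.1) := by
  rw [Subgroup.mem_centralizer_singleton_iff]
  have e1 : g * rep F τ s h = rep F τ s h * g ↔
      (g : Matrix (Fin m ⊕ Fin m) (Fin m ⊕ Fin m) F) * (Amat F τ s - 1) =
        (Amat F τ s - 1) * (g : Matrix (Fin m ⊕ Fin m) (Fin m ⊕ Fin m) F) := by
    rw [Subtype.ext_iff, Submonoid.coe_mul, Submonoid.coe_mul]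
    show (g : Matrix (Fin m ⊕ Fin m) (Fin m ⊕ Fin m) F) * Amat F τ s =
      Amat F τ s * (g : Matrix (Fin m ⊕ Fin m) (Fin m ⊕ Fin m) F) ↔ _
    rw [mul_sub, sub_mul, mul_one, one_mul]
    constructor
    · intro h1
      rw [h1]
    · intro h1
      exact sub_left_injective h1
  rw [e1, mat_eq_iff_cols]
  have hcol : ∀ c, ((g : Matrix (Fin m ⊕ Fin m) (Fin m ⊕ Fin m) F) * (Amat F τ s - 1)) *ᵥ
      Pi.single c 1 = (g : Matrix (Fin m ⊕ Fin m) (Fin m ⊕ Fin m) F) *ᵥ
        (Nrep F τ s (Pi.single c 1)) := by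
    intro c
    rw [← Matrix.mulVec_mulVec]
    rfl
  have hcol' : ∀ c, ((Amat F τ s - 1) * (g : Matrix (Fin m ⊕ Fin m) (Fin m ⊕ Fin m) F)) *ᵥ
      Pi.single c 1 = Nrep F τ s ((g : Matrix (Fin m ⊕ Fin m) (Fin m ⊕ Fin m) F) *ᵥ
        Pi.single c 1) := by
    intro c
    rw [← Matrix.mulVec_mulVec]
    rfl
  simp only [hcol, hcol']
  constructor
  · intro h1
    refine ⟨fun i => Submodule.mem_top, fun i => Submodule.mem_top, isSB_cols m g, fun i => ?_,
      fun j => ?_⟩
    · have := h1 (Sum.inl i)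
      rw [Nrep_single_inl, Matrix.mulVec_zero, ← colF_eq] at this
      exact this.symm
    · have := h1 (Sum.inr j)
      rw [Nrep_single_inr, ← colE_eq] at this
      show Nrep F τ s (colE m g.1 j) = _
      rw [← this]
      by_cases hj : (j : ℕ) < s
      · rw [if_pos hj, if_pos hj, hτ j hj, ext0_of_lt _ _ (τ j).2]
        show _ = colF m g.1 (τ j)
        rw [colF_eq]
      · rw [if_neg hj, if_neg hj, Matrix.mulVec_zero]
  · rintro ⟨-, -, -, h4, h5⟩ c
    rcases c with i | j
    · rw [Nrep_single_inl, Matrix.mulVec_zero, ← colF_eq]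
      exact (h4 i).symm
    · rw [Nrep_single_inr, ← colE_eq]
      have := h5 j
      change Nrep F τ s (colE m g.1 j) = _ at this
      rw [this]
      by_cases hj : (j : ℕ) < s
      · rw [if_pos hj, if_pos hj, hτ j hj, ext0_of_lt _ _ (τ j).2]
        show _ = colF m g.1 (τ j)
        rw [colF_eq]
      · rw [if_neg hj, if_neg hj, Matrix.mulVec_zero]

/-- the centralizer of the representative is in bijection with the adapted frames -/
theorem card_centralizer_rep (h : Good τ s) (τ' : ℕ → ℕ)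
    (hτ : ∀ j : Fin m, (j : ℕ) < s → τ' j = ((τ j : Fin m) : ℕ)) :
    Nat.card (Subgroup.centralizer ({rep F τ s h} : Set ↥(Matrix.symplecticGroup (Fin m) F))) =
      Nat.card (AF (sympBilin (F := F) m) (Nrep F τ s) ⊤ m s τ') := by
  apply Nat.card_congr
  exact
    { toFun := fun g => ⟨(colE m g.1.1, colF m g.1.1),
        (mem_centralizer_iff_isAF h τ' hτ g.1).1 g.2⟩
      invFun := fun p => ⟨⟨ofCols m p.1.1 p.1.2, ofCols_mem m p.1.1 p.1.2 p.2.2.2.1⟩,
        (mem_centralizer_iff_isAF h τ' hτ _).2 p.2⟩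
      left_inv := by
        intro g
        apply Subtype.ext
        apply Subtype.ext
        ext r c
        rcases c with j | i <;> rfl
      right_inv := by
        rintro ⟨⟨e, f⟩, hp⟩
        rfl }

variable (h2 : (2 : F) = 0)

include h2 in
theorem rep_data (h : Good τ s) :
    (∀ a b : Fin m ⊕ Fin m → F, sympBilin m a b = sympBilin m b a) ∧
    (∀ a : Fin m ⊕ Fin m → F, sympBilin m a a = 0) ∧
    (∀ a b, sympBilin m (Nrep F τ s a) b = sympBilin m a (Nrep F τ s b)) ∧
    (∀ a, Nrep F τ s (Nrep F τ s a) = 0) := by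
  have hN : ∀ x, Nrep F τ s x = (Amat F τ s).mulVecLin x - x := by
    intro x
    unfold Nrep
    simp only [Matrix.mulVecLin_apply, Matrix.sub_mulVec, Matrix.one_mulVec]
  have hiso : ∀ x y, sympBilin m ((Amat F τ s).mulVecLin x) ((Amat F τ s).mulVecLin y) =
      sympBilin m x y := by
    intro x y
    simp only [Matrix.mulVecLin_apply, sympBilin_apply]
    exact sympForm_of_mem m (Amat_mem h) x y
  have hsq : ∀ x, (Amat F τ s).mulVecLin ((Amat F τ s).mulVecLin x) = x := by
    intro x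
    simp only [Matrix.mulVecLin_apply]
    rw [Matrix.mulVec_mulVec, Amat_sq h2, Matrix.one_mulVec]
  exact ⟨fun a b => symm2 (sympBilin_isAlt m) h2 a b, fun a => sympBilin_isAlt m a,
    N_adj _ _ hN hiso hsq, N_sq h2 _ _ hN hsq⟩

theorem GS_top (h : Good τ s) (hsm : s ≤ m) :
    GS (sympBilin (F := F) m) (Nrep F τ s) ⊤ m s := by
  have hfin : Module.finrank F (Fin m ⊕ Fin m → F) = 2 * m := by
    rw [Module.finrank_fintype_fun_eq_card, Fintype.card_sum, Fintype.card_fin, two_mul]
  refine ⟨?_, fun x _ hx => (sympBilin_nondegenerate m).1 x (fun y => hx y Submodule.mem_top),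
    fun x _ => Submodule.mem_top, ?_⟩
  · rw [finrank_top, hfin]
  · rw [inf_top_eq]
    have h1 := LinearMap.finrank_range_add_finrank_ker (Nrep F τ s)
    have h3 : Module.finrank F (LinearMap.range (Nrep F τ s)) = s := rank_Amat h hsm
    rw [hfin] at h1
    omega

theorem altOn_top_iff (h : Good τ s) :
    AltOn (sympBilin (F := F) m) (Nrep F τ s) ⊤ ↔ IsAltT (rep F τ s h) := by
  have e : ∀ w : Fin m ⊕ Fin m → F, sympBilin m w (Nrep F τ s w) =
      sympForm m F w (Amat F τ s *ᵥ w) := by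
    intro w
    unfold Nrep
    rw [Matrix.mulVecLin_apply, Matrix.sub_mulVec, Matrix.one_mulVec, map_sub,
      sympBilin_isAlt m w, sub_zero, sympBilin_apply]
  constructor
  · intro h1 w
    show sympForm m F w (Amat F τ s *ᵥ w) = 0
    rw [← e]
    exact h1 w Submodule.mem_top
  · intro h1 w _
    rw [e]
    exact h1 w

end Rep

section SwF

variable {F : Type*} [Field F] {m : ℕ}

/-- the pair swap on the first `s` indices -/
def swF (m s : ℕ) (j : Fin m) : Fin m :=
  if h : (j : ℕ) < s ∧ sw j < m then ⟨sw j, h.2⟩ else j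

theorem swF_val {s : ℕ} (hs : s % 2 = 0) (hsm : s ≤ m) (j : Fin m) (hj : (j : ℕ) < s) :
    ((swF m s j : Fin m) : ℕ) = sw j := by
  unfold swF
  rw [dif_pos ⟨hj, lt_of_lt_of_le (sw_lt hs hj) hsm⟩]

theorem swF_ge {s : ℕ} (j : Fin m) (hj : ¬ (j : ℕ) < s) : swF m s j = j := by
  unfold swF
  rw [dif_neg (fun h => hj h.1)]

theorem swF_good {s : ℕ} (hs : s % 2 = 0) (hsm : s ≤ m) : Good (swF m s) s := by
  constructor
  · intro j
    by_cases hj : (j : ℕ) < s
    · have h1 := swF_val hs hsm j hj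
      have h2 : ((swF m s j : Fin m) : ℕ) < s := by rw [h1]; exact sw_lt hs hj
      have h3 := swF_val hs hsm (swF m s j) h2
      apply Fin.ext
      rw [h3, h1, sw_sw]
    · rw [swF_ge j hj, swF_ge j hj]
  · intro j hj
    rw [swF_val hs hsm j hj]
    exact sw_lt hs hj

theorem rep_alt_of_fpf (h2 : (2 : F) = 0) {τ : Fin m → Fin m} {s : ℕ} (hg : Good τ s)
    (hfp : ∀ j : Fin m, (j : ℕ) < s → τ j ≠ j) : IsAltT (rep F τ s hg) := by
  intro v
  change sympForm m F _ (Amat F τ s *ᵥ _) = 0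
  rw [form_Amat]
  apply Finset.sum_involution (fun j _ => τ j)
  · intro j _
    by_cases hj : (j : ℕ) < s
    · rw [if_pos hj, if_pos (hg.pres j hj), hg.inv]
      linear_combination (v (Sum.inr (τ j)) * v (Sum.inr j)) * h2
    · have hj' : ¬ ((τ j : Fin m) : ℕ) < s := by
        intro h3
        have := hg.pres _ h3
        rw [hg.inv] at this
        exact hj this
      rw [if_neg hj, if_neg hj', add_zero]
  · intro j _ hne
    by_cases hj : (j : ℕ) < s
    · exact hfp j hj
    · rw [if_neg hj] at hne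
      exact absurd rfl hne
  · intro j _
    exact Finset.mem_univ _
  · intro j _
    exact hg.inv j

theorem swF_fpf {s : ℕ} (hs : s % 2 = 0) (hsm : s ≤ m) (j : Fin m) (hj : (j : ℕ) < s) :
    swF m s j ≠ j := by
  intro h
  have h1 := swF_val hs hsm j hj
  rw [h] at h1
  exact sw_ne _ h1.symm

end SwF

section Final

variable {F : Type*} [Field F] [Fintype F] [CharP F 2] {m : ℕ}

/-- the centralizer of the alternating representative -/
theorem card_centralizer_alt (k r : ℕ) (hm : m = 2 * k + r) :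
    Nat.card (Subgroup.centralizer ({rep F (swF m (2 * k)) (2 * k)
      (swF_good (by omega) (by omega))} : Set ↥(Matrix.symplecticGroup (Fin m) F))) =
      Nat.card F ^ (2 * k ^ 2 + 4 * r * k + k) * spc (Nat.card F) k * spc (Nat.card F) r := by
  have h2 : (2 : F) = 0 := CharTwo.two_eq_zero
  have hg : Good (swF m (2 * k)) (2 * k) := swF_good (by omega) (by omega)
  obtain ⟨hs, hA, hadj, hN2⟩ := rep_data h2 hg
  rw [card_centralizer_rep hg sw (fun j hj => (swF_val (by omega) (by omega) j hj).symm)]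
  exact count_a hs hA hadj hN2 k r m (2 * k) ⊤ hm rfl (GS_top hg (by omega))
    ((altOn_top_iff hg).2 (rep_alt_of_fpf h2 hg (swF_fpf (by omega) (by omega))))

/-- the centralizer of the non-alternating representative -/
theorem card_centralizer_nonalt (s : ℕ) (hs1 : 1 ≤ s) (hsm : s ≤ m) :
    Nat.card (Subgroup.centralizer ({rep F (id : Fin m → Fin m) s id_good} :
      Set ↥(Matrix.symplecticGroup (Fin m) F))) = cO (Nat.card F) s m := by
  have h2 : (2 : F) = 0 := CharTwo.two_eq_zero
  have hg : Good (id : Fin m → Fin m) s := id_good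
  obtain ⟨hs, hA, hadj, hN2⟩ := rep_data h2 hg
  rw [card_centralizer_rep hg id (fun j hj => rfl)]
  exact count_o hs hA hadj hN2 s m ⊤ (GS_top hg hsm)
    (fun _ => fun h => rep_id_nonalt hs1 (by omega) ((altOn_top_iff hg).1 h))

theorem spc_eq_fin (q k : ℕ) :
    spc q k = q ^ (k ^ 2) * ∏ i : Fin k, (q ^ (2 * ((i : ℕ) + 1)) - 1) := by
  unfold spc
  rw [Fin.prod_univ_eq_prod_range (fun i => q ^ (2 * (i + 1)) - 1) k]

end Final

end Cfsg.Agent.Lib.Helper8.SpCent
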