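import Mathlib
import Cfsg.Agent.Lib.Helper5.Symp
import Cfsg.Agent.Lib.Helper8.DecStA

/-!
# The block structure of the standard symplectic space (helper8)
-/

set_option autoImplicit false
set_option linter.unusedSectionVars false

namespace Cfsg.Agent.Lib.Helper8.SpDec

open Module Matrix Cfsg Cfsg.Agent.Lib.Helper5.Symp Cfsg.Agent.Lib.Helper8.DecSt

variable {F : Type*} [Field F] {a' t d : ℕ}

/-- the index equivalence on one half -/
def idxEquiv (hd : d = a' * t) : Fin a' × Fin t ≃ Fin d :=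
  finProdFinEquiv.trans (finCongr hd.symm)

/-- the block index equivalence -/
def blkEquiv (hd : d = a' * t) : (Fin a' ⊕ Fin a') × Fin t ≃ Fin d ⊕ Fin d :=
  (Equiv.sumProdDistrib (Fin a') (Fin a') (Fin t)).trans
    (Equiv.sumCongr (idxEquiv hd) (idxEquiv hd))

theorem blkEquiv_inl (hd : d = a' * t) (x : Fin a') (k : Fin t) :
    blkEquiv hd (Sum.inl x, k) = Sum.inl (idxEquiv hd (x, k)) := rfl

theorem blkEquiv_inr (hd : d = a' * t) (x : Fin a') (k : Fin t) :
    blkEquiv hd (Sum.inr x, k) = Sum.inr (idxEquiv hd (x, k)) := rfl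

/-- the `k`-th block component of a vector -/
def blk (hd : d = a' * t) (k : Fin t) :
    (Fin d ⊕ Fin d → F) →ₗ[F] (Fin a' ⊕ Fin a' → F) :=
  LinearMap.funLeft F F (fun x => blkEquiv hd (x, k))

theorem blk_apply (hd : d = a' * t) (k : Fin t) (v : Fin d ⊕ Fin d → F) (x : Fin a' ⊕ Fin a') :
    blk hd k v x = v (blkEquiv hd (x, k)) := rfl

/-- the symplectic form is the sum of the forms of the block components -/
theorem sympForm_eq_sum_blk (hd : d = a' * t) (u v : Fin d ⊕ Fin d → F) :
    sympForm d F u v = ∑ k, sympForm a' F (blk hd k u) (blk hd k v) := by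
  rw [sympForm_eq_sum]
  simp_rw [sympForm_eq_sum (m := a')]
  rw [← (idxEquiv hd).sum_comp, Fintype.sum_prod_type_right]
  rfl

/-- placing a vector in the `k`-th block -/
def emb (hd : d = a' * t) (k : Fin t) :
    (Fin a' ⊕ Fin a' → F) →ₗ[F] (Fin d ⊕ Fin d → F) where
  toFun w := fun z => if ((blkEquiv hd).symm z).2 = k then w ((blkEquiv hd).symm z).1 else 0
  map_add' w w' := by
    funext z
    by_cases h : ((blkEquiv hd).symm z).2 = k
    · simp [h]
    · simp [h]
  map_smul' c w := by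
    funext z
    by_cases h : ((blkEquiv hd).symm z).2 = k
    · simp [h]
    · simp [h]

theorem emb_apply (hd : d = a' * t) (k : Fin t) (w : Fin a' ⊕ Fin a' → F) (z : Fin d ⊕ Fin d) :
    emb hd k w z = if ((blkEquiv hd).symm z).2 = k then w ((blkEquiv hd).symm z).1 else 0 := rfl

theorem blk_emb (hd : d = a' * t) (k l : Fin t) (w : Fin a' ⊕ Fin a' → F) :
    blk hd l (emb hd k w) = if l = k then w else 0 := by
  funext x
  rw [blk_apply, emb_apply, Equiv.symm_apply_apply]
  by_cases h : l = k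
  · simp [h]
  · simp [h]

theorem blk_emb_same (hd : d = a' * t) (k : Fin t) (w : Fin a' ⊕ Fin a' → F) :
    blk hd k (emb hd k w) = w := by
  rw [blk_emb, if_pos rfl]

theorem blk_emb_ne (hd : d = a' * t) {k l : Fin t} (h : l ≠ k) (w : Fin a' ⊕ Fin a' → F) :
    blk hd l (emb hd k w) = 0 := by
  rw [blk_emb, if_neg h]

theorem sum_emb_blk (hd : d = a' * t) (v : Fin d ⊕ Fin d → F) :
    ∑ k, emb hd k (blk hd k v) = v := by
  funext z
  rw [Finset.sum_apply]
  simp only [emb_apply, blk_apply]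
  rw [Finset.sum_eq_single ((blkEquiv hd).symm z).2]
  · rw [if_pos rfl, Prod.mk.eta, Equiv.apply_symm_apply]
  · intro k _ hk
    rw [if_neg (Ne.symm hk)]
  · intro h
    exact absurd (Finset.mem_univ _) h

theorem ext_blk (hd : d = a' * t) {u v : Fin d ⊕ Fin d → F} (h : ∀ k, blk hd k u = blk hd k v) :
    u = v := by
  rw [← sum_emb_blk hd u, ← sum_emb_blk hd v]
  apply Finset.sum_congr rfl
  intro k _
  rw [h k]

theorem emb_injective (hd : d = a' * t) (k : Fin t) : Function.Injective (emb (F := F) hd k) := by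
  intro w w' h
  have := congrArg (blk hd k) h
  rwa [blk_emb_same, blk_emb_same] at this

/-- the standard orthogonal decomposition -/
def stdDec (F : Type*) [Field F] (hd : d = a' * t) (k : Fin t) : Submodule F (Fin d ⊕ Fin d → F) :=
  LinearMap.range (emb hd k)

theorem mem_stdDec (hd : d = a' * t) (k : Fin t) (v : Fin d ⊕ Fin d → F) :
    v ∈ stdDec F hd k ↔ ∀ l, l ≠ k → blk hd l v = 0 := by
  constructor
  · rintro ⟨w, rfl⟩ l hl
    exact blk_emb_ne hd hl w
  · intro h
    refine ⟨blk hd k v, ?_⟩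
    apply ext_blk hd
    intro l
    rw [blk_emb]
    by_cases hl : l = k
    · rw [if_pos hl, hl]
    · rw [if_neg hl, h l hl]

theorem finrank_stdDec (hd : d = a' * t) (k : Fin t) : finrank F (stdDec F hd k) = 2 * a' := by
  unfold stdDec
  rw [LinearMap.finrank_range_of_inj (emb_injective hd k), Module.finrank_fintype_fun_eq_card,
    Fintype.card_sum, Fintype.card_fin]
  ring

theorem iSup_stdDec (hd : d = a' * t) : (⨆ k, stdDec F hd k) = ⊤ := by
  apply le_antisymm le_top
  intro v _
  rw [← sum_emb_blk hd v]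
  apply Submodule.sum_mem
  intro k _
  exact Submodule.mem_iSup_of_mem k ⟨_, rfl⟩

theorem indep_stdDec (hd : d = a' * t) : iSupIndep (stdDec F hd) := by
  apply indep_of_finrank_le
  rw [iSup_stdDec, finrank_top, Module.finrank_fintype_fun_eq_card, Fintype.card_sum,
    Fintype.card_fin]
  simp only [finrank_stdDec, Finset.sum_const, Finset.card_univ, Fintype.card_fin, smul_eq_mul]
  rw [hd]
  apply le_of_eq
  ring

theorem sympForm_emb_emb (hd : d = a' * t) (k l : Fin t) (w w' : Fin a' ⊕ Fin a' → F) :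
    sympForm d F (emb hd k w) (emb hd l w') = if k = l then sympForm a' F w w' else 0 := by
  rw [sympForm_eq_sum_blk hd]
  by_cases h : k = l
  · subst h
    rw [if_pos rfl, Finset.sum_eq_single k]
    · rw [blk_emb_same, blk_emb_same]
    · intro j _ hj
      rw [blk_emb_ne hd hj, sympForm_zero_left]
    · intro h
      exact absurd (Finset.mem_univ _) h
  · rw [if_neg h]
    apply Finset.sum_eq_zero
    intro j _
    by_cases hj : j = k
    · subst hj
      rw [blk_emb_ne hd h, sympForm_zero_right]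
    · rw [blk_emb_ne hd hj, sympForm_zero_left]

theorem stdDec_orth (hd : d = a' * t) {k l : Fin t} (h : k ≠ l) :
    ∀ u ∈ stdDec F hd k, ∀ v ∈ stdDec F hd l, sympForm d F u v = 0 := by
  rintro _ ⟨w, rfl⟩ _ ⟨w', rfl⟩
  rw [sympForm_emb_emb, if_neg h]

theorem stdDec_nondeg (hd : d = a' * t) (k : Fin t) :
    ∀ u ∈ stdDec F hd k, u ≠ 0 → ∃ v ∈ stdDec F hd k, sympForm d F u v ≠ 0 := by
  rintro _ ⟨w, rfl⟩ hu
  have hw : w ≠ 0 := by
    rintro rfl
    exact hu (map_zero _)
  obtain ⟨w', hw'⟩ := exists_sympForm_ne_zero a' hw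
  refine ⟨emb hd k w', ⟨_, rfl⟩, ?_⟩
  rw [sympForm_emb_emb, if_pos rfl]
  exact hw'

end Cfsg.Agent.Lib.Helper8.SpDec
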