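import Mathlib
import Cfsg.Agent.Lib.Helper8.SpDecA
import Cfsg.Agent.Lib.Helper8.PolarB

/-!
# Block diagonal symplectic matrices (helper8)
-/

set_option autoImplicit false
set_option linter.unusedSectionVars false

namespace Cfsg.Agent.Lib.Helper8.SpDec

open Module Matrix Polynomial Cfsg Cfsg.Agent.Lib.Helper5.Symp Cfsg.Agent.Lib.Helper8.Polar

section Charpoly

variable {R : Type*} [CommRing R] {n o : Type*} [Fintype n] [DecidableEq n] [Fintype o]
  [DecidableEq o]

theorem charmatrix_blockDiagonal (M : o → Matrix n n R) :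
    charmatrix (blockDiagonal M) = blockDiagonal (fun k => charmatrix (M k)) := by
  ext ⟨i, k⟩ ⟨j, l⟩
  rw [blockDiagonal_apply, charmatrix_apply]
  simp only
  by_cases hkl : k = l
  · subst hkl
    rw [if_pos rfl, charmatrix_apply, blockDiagonal_apply_eq]
    by_cases hij : i = j
    · subst hij
      simp
    · have : (i, k) ≠ (j, k) := fun h => hij (Prod.mk.inj h).1
      simp [hij, this]
  · rw [if_neg hkl, blockDiagonal_apply_ne _ _ _ hkl]
    have : (i, k) ≠ (j, l) := fun h => hkl (Prod.mk.inj h).2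
    simp [this]

theorem charpoly_blockDiagonal (M : o → Matrix n n R) :
    (blockDiagonal M).charpoly = ∏ k, (M k).charpoly := by
  unfold Matrix.charpoly
  rw [charmatrix_blockDiagonal, det_blockDiagonal]

end Charpoly

variable {F : Type*} [Field F] {a' t d : ℕ}

/-- block diagonal matrices in the standard coordinates -/
def bd (hd : d = a' * t) (M : Fin t → Matrix (Fin a' ⊕ Fin a') (Fin a' ⊕ Fin a') F) :
    Matrix (Fin d ⊕ Fin d) (Fin d ⊕ Fin d) F :=
  Matrix.reindex (blkEquiv hd) (blkEquiv hd) (Matrix.blockDiagonal M)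

theorem blk_bd_mulVec (hd : d = a' * t) (M : Fin t → Matrix (Fin a' ⊕ Fin a') (Fin a' ⊕ Fin a') F)
    (v : Fin d ⊕ Fin d → F) (k : Fin t) :
    blk hd k (bd hd M *ᵥ v) = M k *ᵥ blk hd k v := by
  funext x
  rw [blk_apply]
  unfold bd
  rw [Matrix.reindex_apply, Matrix.submatrix_mulVec_equiv]
  simp only [Function.comp_apply, Equiv.symm_symm, Equiv.symm_apply_apply]
  simp only [Matrix.mulVec, dotProduct, Function.comp_apply]
  rw [Fintype.sum_prod_type_right, Finset.sum_eq_single k]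
  · apply Finset.sum_congr rfl
    intro y _
    rw [blockDiagonal_apply_eq]
    rfl
  · intro l _ hl
    apply Finset.sum_eq_zero
    intro y _
    rw [blockDiagonal_apply_ne _ _ _ (Ne.symm hl), zero_mul]
  · intro h
    exact absurd (Finset.mem_univ _) h

theorem bd_mul (hd : d = a' * t) (M N : Fin t → Matrix (Fin a' ⊕ Fin a') (Fin a' ⊕ Fin a') F) :
    bd hd (fun k => M k * N k) = bd hd M * bd hd N := by
  unfold bd
  rw [blockDiagonal_mul, Matrix.reindex_apply, Matrix.reindex_apply, Matrix.reindex_apply,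
    Matrix.submatrix_mul_equiv]

theorem bd_one (hd : d = a' * t) :
    bd hd (fun _ => (1 : Matrix (Fin a' ⊕ Fin a') (Fin a' ⊕ Fin a') F)) = 1 := by
  unfold bd
  have : (fun _ : Fin t => (1 : Matrix (Fin a' ⊕ Fin a') (Fin a' ⊕ Fin a') F)) = 1 := rfl
  rw [this, blockDiagonal_one, Matrix.reindex_apply, Matrix.submatrix_one_equiv]

theorem bd_pow (hd : d = a' * t) (M : Fin t → Matrix (Fin a' ⊕ Fin a') (Fin a' ⊕ Fin a') F)
    (s : ℕ) : bd hd (fun k => M k ^ s) = bd hd M ^ s := by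
  induction s with
  | zero =>
    simp only [pow_zero]
    exact bd_one hd
  | succ s ih =>
    simp only [pow_succ]
    rw [bd_mul, ih]

theorem charpoly_bd (hd : d = a' * t) (M : Fin t → Matrix (Fin a' ⊕ Fin a') (Fin a' ⊕ Fin a') F) :
    (bd hd M).charpoly = ∏ k, (M k).charpoly := by
  unfold bd
  rw [Matrix.charpoly_reindex, charpoly_blockDiagonal]

theorem bd_mem (hd : d = a' * t) (M : Fin t → Matrix (Fin a' ⊕ Fin a') (Fin a' ⊕ Fin a') F)
    (hM : ∀ k, M k ∈ symplecticGroup (Fin a') F) : bd hd M ∈ symplecticGroup (Fin d) F := by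
  apply mem_of_sympForm
  intro u v
  rw [sympForm_eq_sum_blk hd, sympForm_eq_sum_blk hd u v]
  apply Finset.sum_congr rfl
  intro k _
  rw [blk_bd_mulVec, blk_bd_mulVec, sympForm_of_mem a' (hM k)]

theorem bd_mulVec_emb (hd : d = a' * t)
    (M : Fin t → Matrix (Fin a' ⊕ Fin a') (Fin a' ⊕ Fin a') F) (k : Fin t)
    (w : Fin a' ⊕ Fin a' → F) : bd hd M *ᵥ emb hd k w = emb hd k (M k *ᵥ w) := by
  apply ext_blk hd
  intro l
  rw [blk_bd_mulVec, blk_emb, blk_emb]
  by_cases h : l = k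
  · rw [if_pos h, if_pos h, h]
  · rw [if_neg h, if_neg h, Matrix.mulVec_zero]

theorem bd_map_stdDec (hd : d = a' * t)
    (M : Fin t → Matrix (Fin a' ⊕ Fin a') (Fin a' ⊕ Fin a') F)
    (hM : ∀ k, M k ∈ symplecticGroup (Fin a') F) (k : Fin t) :
    (stdDec F hd k).map (Matrix.toLin' (bd hd M)) = stdDec F hd k := by
  apply Submodule.eq_of_le_of_finrank_eq
  · rintro _ ⟨_, ⟨w, rfl⟩, rfl⟩
    rw [Matrix.toLin'_apply, bd_mulVec_emb]
    exact ⟨_, rfl⟩
  · exact finrank_map_sp ⟨bd hd M, bd_mem hd M hM⟩ _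

end Cfsg.Agent.Lib.Helper8.SpDec
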