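import Mathlib
import Cfsg.Prelude.Def_GeometricClasses
import Cfsg.Agent.Lib.Helper8.SpDecB
import Cfsg.Agent.Lib.Helper8.SympBasis
import Cfsg.Agent.Lib.Helper8.SpSSE

/-!
# The symplectic group is transitive on orthogonal decompositions (helper8)
-/

set_option autoImplicit false
set_option linter.unusedSectionVars false

namespace Cfsg.Agent.Lib.Helper8.SpDec

open Module Matrix Cfsg Cfsg.Agent.Lib.Helper5.Symp Cfsg.Agent.Lib.Helper8.Polar
  Cfsg.Agent.Lib.Helper8.SpSS Cfsg.Agent.Lib.Helper8.SympBasis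
  Cfsg.Agent.Lib.Helper5.SympCount

variable {F : Type*} [Field F] {a' t d : ℕ}

/-- orthogonal decompositions into nondegenerate subspaces -/
def IsOrthDec (a : ℕ) (D : Fin t → Submodule F (Fin d ⊕ Fin d → F)) : Prop :=
  Cfsg.Geo.IsMDecomposition a D ∧
    (∀ j, ∀ u ∈ D j, u ≠ 0 → ∃ v ∈ D j, Cfsg.sympForm d F u v ≠ 0) ∧
    (∀ j j', j ≠ j' → ∀ u ∈ D j, ∀ v ∈ D j', Cfsg.sympForm d F u v = 0)

theorem J_blk (hd : d = a' * t) (x y : Fin a' ⊕ Fin a') (k l : Fin t) :
    J (Fin d) F (blkEquiv hd (x, k)) (blkEquiv hd (y, l)) =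
      if k = l then J (Fin a') F x y else 0 := by
  have hinj : ∀ (x' y' : Fin a'), idxEquiv hd (x', k) = idxEquiv hd (y', l) ↔ x' = y' ∧ k = l := by
    intro x' y'
    rw [Equiv.apply_eq_iff_eq, Prod.mk.injEq]
  rcases x with x' | x' <;> rcases y with y' | y'
  · simp [blkEquiv_inl, J]
  · simp only [blkEquiv_inl, blkEquiv_inr, J, Matrix.fromBlocks_apply₁₂, Matrix.neg_apply,
      Matrix.one_apply, hinj]
    by_cases hk : k = l
    · simp [hk]
    · simp [hk]
  · simp only [blkEquiv_inl, blkEquiv_inr, J, Matrix.fromBlocks_apply₂₁, Matrix.one_apply, hinj]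
    by_cases hk : k = l
    · simp [hk]
    · simp [hk]
  · simp [blkEquiv_inr, J]

theorem stdDec_isOrthDec (hd : d = a' * t) (ht : 2 ≤ t) (ha : 0 < a') :
    IsOrthDec (2 * a') (stdDec F hd) :=
  ⟨⟨ht, by omega, finrank_stdDec hd, indep_stdDec hd, iSup_stdDec hd⟩, stdDec_nondeg hd,
    fun _ _ h => stdDec_orth hd h⟩

/-- transitivity: every orthogonal decomposition is the image of the standard one -/
theorem exists_sp_map_stdDec (hd : d = a' * t) (D : Fin t → Submodule F (Fin d ⊕ Fin d → F))
    (hD : IsOrthDec (2 * a') D) :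
    ∃ g : symplecticGroup (Fin d) F, ∀ k,
      (stdDec F hd k).map (Matrix.toLin' (g : Matrix (Fin d ⊕ Fin d) (Fin d ⊕ Fin d) F)) =
        D k := by
  classical
  obtain ⟨hdec, hnd, horth⟩ := hD
  -- symplectic bases of the members
  have hex : ∀ k, ∃ p : (Fin a' → ↥(D k)) × (Fin a' → ↥(D k)),
      IsSB ((stdForm F d).restrict (D k)) a' p := by
    intro k
    have hA : ((stdForm F d).restrict (D k)).IsAlt := by
      intro x
      change stdForm F d _ _ = 0
      rw [stdForm_apply]
      exact sympForm_self d _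
    have hB : ((stdForm F d).restrict (D k)).Nondegenerate := by
      apply LinearMap.BilinForm.Nondegenerate.ofSeparatingLeft
      intro x hx
      by_contra hx0
      have hx0' : (x : Fin d ⊕ Fin d → F) ≠ 0 := fun h => hx0 (Subtype.ext h)
      obtain ⟨v, hv, hne⟩ := hnd k x x.2 hx0'
      apply hne
      have := hx ⟨v, hv⟩
      change stdForm F d _ _ = 0 at this
      rwa [stdForm_apply] at this
    exact exists_SB a' (↥(D k)) _ hA hB (hdec.finrank_eq k)
  choose p hp using hex
  set W : (Fin a' ⊕ Fin a') × Fin t → (Fin d ⊕ Fin d → F) :=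
    fun z => ((fam (p z.2) z.1 : ↥(D z.2)) : Fin d ⊕ Fin d → F) with hW
  have hWmem : ∀ z, W z ∈ D z.2 := fun z => (fam (p z.2) z.1).2
  have hGram : ∀ (x y : Fin a' ⊕ Fin a') (k l : Fin t),
      sympForm d F (W (x, k)) (W (y, l)) = if k = l then J (Fin a') F x y else 0 := by
    intro x y k l
    by_cases hkl : k = l
    · subst hkl
      rw [if_pos rfl]
      have hA : ((stdForm F d).restrict (D k)).IsAlt := by
        intro x
        change stdForm F d _ _ = 0
        rw [stdForm_apply]
        exact sympForm_self d _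
      have := fam_form hA (hp k) x y
      change stdForm F d _ _ = _ at this
      rwa [stdForm_apply] at this
    · rw [if_neg hkl]
      exact horth k l hkl _ (hWmem (x, k)) _ (hWmem (y, l))
  set w : Fin d ⊕ Fin d → (Fin d ⊕ Fin d → F) := fun z => W ((blkEquiv hd).symm z) with hw
  have hform : ∀ z z', sympForm d F (w z) (w z') = J (Fin d) F z z' := by
    intro z z'
    obtain ⟨⟨x, k⟩, rfl⟩ := (blkEquiv hd).surjective z
    obtain ⟨⟨y, l⟩, rfl⟩ := (blkEquiv hd).surjective z'
    rw [J_blk]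
    simp only [hw, Equiv.symm_apply_apply]
    exact hGram x y k l
  set g : symplecticGroup (Fin d) F := ⟨colMatrix w, colMatrix_mem w hform⟩ with hg
  refine ⟨g, fun k => ?_⟩
  apply Submodule.eq_of_le_of_finrank_eq
  · rintro _ ⟨v, hv, rfl⟩
    rw [Matrix.toLin'_apply]
    change colMatrix w *ᵥ v ∈ D k
    rw [colMatrix_mulVec]
    apply Submodule.sum_mem
    intro z _
    by_cases hz : ((blkEquiv hd).symm z).2 = k
    · apply Submodule.smul_mem
      have := hWmem ((blkEquiv hd).symm z)
      rw [hz] at this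
      exact this
    · obtain ⟨u, rfl⟩ := hv
      rw [emb_apply, if_neg hz, zero_smul]
      exact Submodule.zero_mem _
  · rw [finrank_map_sp, finrank_stdDec, hdec.finrank_eq]

end Cfsg.Agent.Lib.Helper8.SpDec
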