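import Mathlib
import Cfsg.Agent.Lib.Helper8.SpDecC

/-!
# Divisibility properties of the number of orthogonal decompositions (helper8)
-/

set_option autoImplicit false
set_option linter.unusedSectionVars false
set_option linter.style.haveILetI false
set_option warn.classDefReducibility false

namespace Cfsg.Agent.Lib.Helper8.SpDec

open Module Matrix Cfsg Cfsg.Agent.Lib.Helper5.Symp Cfsg.Agent.Lib.Helper8.Polar

variable {F : Type*} [Field F] {t d : ℕ}

theorem isOrthDec_map (a : ℕ) (g : symplecticGroup (Fin d) F)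
    (D : Fin t → Submodule F (Fin d ⊕ Fin d → F)) (hD : IsOrthDec a D) :
    IsOrthDec a (fun j => (D j).map
      (Matrix.toLin' (g : Matrix (Fin d ⊕ Fin d) (Fin d ⊕ Fin d) F))) := by
  obtain ⟨hdec, hnd, horth⟩ := hD
  refine ⟨⟨hdec.two_le, hdec.pos, ?_, ?_, ?_⟩, ?_, ?_⟩
  · intro j
    rw [finrank_map_sp, hdec.finrank_eq]
  · simp only [← spEquiv_toLinearMap]
    exact hdec.indep.map_orderIso (Submodule.orderIsoMapComap (spEquiv g))
  · simp only [← spEquiv_toLinearMap]
    rw [← Submodule.map_iSup, hdec.iSup_eq_top, Submodule.map_top]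
    exact LinearEquiv.range (spEquiv g)
  · rintro j _ ⟨u, hu, rfl⟩ hne
    have hu0 : u ≠ 0 := by
      rintro rfl
      exact hne (map_zero _)
    obtain ⟨v, hv, hne'⟩ := hnd j u hu hu0
    refine ⟨_, Submodule.mem_map_of_mem hv, ?_⟩
    rw [Matrix.toLin'_apply, Matrix.toLin'_apply, sympForm_of_mem d g.2]
    exact hne'
  · rintro j j' hjj' _ ⟨u, hu, rfl⟩ _ ⟨v, hv, rfl⟩
    rw [Matrix.toLin'_apply, Matrix.toLin'_apply, sympForm_of_mem d g.2]
    exact horth j j' hjj' u hu v hv

theorem isOrthDec_comp (a : ℕ) (σ : Equiv.Perm (Fin t))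
    (D : Fin t → Submodule F (Fin d ⊕ Fin d → F)) (hD : IsOrthDec a D) :
    IsOrthDec a (fun j => D (σ j)) := by
  obtain ⟨hdec, hnd, horth⟩ := hD
  refine ⟨⟨hdec.two_le, hdec.pos, fun j => hdec.finrank_eq _, hdec.indep.comp σ.injective, ?_⟩,
    fun j => hnd _, fun j j' hjj' => horth _ _ (fun h => hjj' (σ.injective h))⟩
  rw [← hdec.iSup_eq_top]
  exact σ.iSup_comp (g := D)

theorem orthDec_injective (a : ℕ) (D : Fin t → Submodule F (Fin d ⊕ Fin d → F))
    (hD : IsOrthDec a D) : Function.Injective D := by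
  apply hD.1.indep.injective
  intro j h0
  have := hD.1.finrank_eq j
  rw [h0, finrank_bot] at this
  have := hD.1.pos
  omega

/-- the action of the symplectic group on ordered orthogonal decompositions -/
def spAction (F : Type*) [Field F] (d a t : ℕ) : MulAction ↥(symplecticGroup (Fin d) F)
    {D : Fin t → Submodule F (Fin d ⊕ Fin d → F) // IsOrthDec a D} where
  smul g D := ⟨fun j => (D.1 j).map
    (Matrix.toLin' (g : Matrix (Fin d ⊕ Fin d) (Fin d ⊕ Fin d) F)), isOrthDec_map a g D.1 D.2⟩
  one_smul D := by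
    apply Subtype.ext
    funext j
    exact map_one_sp _
  mul_smul g h D := by
    apply Subtype.ext
    funext j
    exact map_mul_sp g h _

/-- the action of the symmetric group on ordered orthogonal decompositions -/
def permAction' (F : Type*) [Field F] (d a t : ℕ) : MulAction (Equiv.Perm (Fin t))
    {D : Fin t → Submodule F (Fin d ⊕ Fin d → F) // IsOrthDec a D} where
  smul σ D := ⟨fun j => D.1 (σ.symm j), isOrthDec_comp a σ.symm D.1 D.2⟩
  one_smul D := by
    apply Subtype.ext
    funext j
    rfl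
  mul_smul σ τ D := by
    apply Subtype.ext
    funext j
    rfl

section Count

variable [Fintype F]

/-- the number of ordered orthogonal decompositions divides the order of the symplectic group -/
theorem card_orthDec_dvd {a' : ℕ} (hd : d = a' * t) (ht : 2 ≤ t) (ha : 0 < a') :
    Nat.card {D : Fin t → Submodule F (Fin d ⊕ Fin d → F) // IsOrthDec (2 * a') D} ∣
      Nat.card ↥(symplecticGroup (Fin d) F) := by
  letI := spAction F d (2 * a') t
  have hsmul : ∀ (g : symplecticGroup (Fin d) F)
      (D : {D : Fin t → Submodule F (Fin d ⊕ Fin d → F) // IsOrthDec (2 * a') D}),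
      (g • D).1 = fun j => (D.1 j).map
        (Matrix.toLin' (g : Matrix (Fin d ⊕ Fin d) (Fin d ⊕ Fin d) F)) := fun g D => rfl
  set D₀ : {D : Fin t → Submodule F (Fin d ⊕ Fin d → F) // IsOrthDec (2 * a') D} :=
    ⟨stdDec F hd, stdDec_isOrthDec hd ht ha⟩ with hD₀
  have hbase : ∀ D : {D : Fin t → Submodule F (Fin d ⊕ Fin d → F) // IsOrthDec (2 * a') D},
      ∃ g : symplecticGroup (Fin d) F, g • D₀ = D := by
    intro D
    obtain ⟨g, hg⟩ := exists_sp_map_stdDec hd D.1 D.2
    refine ⟨g, Subtype.ext ?_⟩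
    rw [hsmul]
    funext k
    exact hg k
  haveI : MulAction.IsPretransitive ↥(symplecticGroup (Fin d) F)
      {D : Fin t → Submodule F (Fin d ⊕ Fin d → F) // IsOrthDec (2 * a') D} := by
    constructor
    intro P Q
    obtain ⟨g, hg⟩ := hbase P
    obtain ⟨h, hh⟩ := hbase Q
    refine ⟨h * g⁻¹, ?_⟩
    rw [← hg, mul_smul, inv_smul_smul, hh]
  rw [← MulAction.index_stabilizer_of_transitive ↥(symplecticGroup (Fin d) F) D₀]
  exact Subgroup.index_dvd_card _

/-- `t!` divides the number of ordered orthogonal decompositions -/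
theorem factorial_dvd_card_orthDec (a : ℕ) :
    t.factorial ∣
      Nat.card {D : Fin t → Submodule F (Fin d ⊕ Fin d → F) // IsOrthDec a D} := by
  letI := permAction' F d a t
  have hfree : ∀ D : {D : Fin t → Submodule F (Fin d ⊕ Fin d → F) // IsOrthDec a D},
      MulAction.stabilizer (Equiv.Perm (Fin t)) D = ⊥ := by
    intro D
    rw [Subgroup.eq_bot_iff_forall]
    intro σ hσ
    rw [MulAction.mem_stabilizer_iff] at hσ
    have h1 : ∀ j, D.1 (σ.symm j) = D.1 j := by
      intro j
      exact congrFun (congrArg Subtype.val hσ) j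
    have h2 : σ.symm = 1 := by
      ext j
      exact congrArg Fin.val (orthDec_injective a D.1 D.2 (h1 j))
    rw [← Equiv.symm_symm σ, h2]
    rfl
  have e := MulAction.selfEquivOrbitsQuotientProd hfree
  rw [Nat.card_congr e, Nat.card_prod, Nat.card_perm, Nat.card_fin]
  exact dvd_mul_left _ _

end Count

end Cfsg.Agent.Lib.Helper8.SpDec
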