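import Mathlib
import Cfsg.Agent.Lib.Helper5.SympCount
import Cfsg.Agent.Lib.Helper8.PolarA

/-!
# Invariant nondegenerate subspaces of an isometry of prime order (helper8)
-/

set_option autoImplicit false
set_option linter.unusedSectionVars false

namespace Cfsg.Agent.Lib.Helper8.SpDec

open Polynomial Module Cfsg.Agent.Lib.Helper8.InvSub Cfsg.Agent.Lib.Helper8.SingerN
  Cfsg.Agent.Lib.Helper8.Polar Cfsg.Agent.Lib.Helper5.SympCount

universe u v

section Even

variable {F : Type v} [Field F]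

/-- a nondegenerate alternating space has even dimension -/
theorem even_finrank_of_nondeg : ∀ (n : ℕ) (U : Type u) [AddCommGroup U] [Module F U]
    [FiniteDimensional F U] (B : LinearMap.BilinForm F U), B.IsAlt → B.Nondegenerate →
    finrank F U = n → Even n := by
  intro n
  induction n using Nat.strong_induction_on with
  | _ n ih =>
    intro U _ _ _ B hA hB hrank
    rcases Nat.eq_zero_or_pos n with hn0 | hpos
    · rw [hn0]
      exact Even.zero
    · have hpos' : 0 < finrank F U := by omega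
      have : Nontrivial U := Module.nontrivial_of_finrank_pos hpos'
      obtain ⟨e, he⟩ : ∃ e : U, e ≠ 0 := exists_ne 0
      obtain ⟨f₀, hf₀⟩ : ∃ f₀, B e f₀ ≠ 0 := by
        by_contra hno
        apply he
        apply hB.1
        intro y
        by_contra h
        exact hno ⟨y, h⟩
      have hef : B e ((B e f₀)⁻¹ • f₀) = 1 := by
        rw [map_smul, smul_eq_mul, inv_mul_cancel₀ hf₀]
      have hr := finrank_perp hA hef
      have hnd := restrict_perp_nondegenerate hB hA hef
      have hA' : (B.restrict (perp B e ((B e f₀)⁻¹ • f₀))).IsAlt := fun x => hA x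
      have h2 : 2 ≤ n := by omega
      have := ih (n - 2) (by omega) (perp B e ((B e f₀)⁻¹ • f₀))
        (B.restrict (perp B e ((B e f₀)⁻¹ • f₀))) hA' hnd (by omega)
      obtain ⟨k, hk⟩ := this
      exact ⟨k + 1, by omega⟩

end Even

section Fix

variable {F : Type*} [Field F] {V : Type*} [AddCommGroup V] [Module F V]

theorem ker_X_sub_one_eq (A : Module.End F V) :
    LinearMap.ker (aeval A (X - C (1 : F))) = LinearMap.ker (A - 1) := by
  ext v
  rw [mem_ker_X_sub_one, LinearMap.mem_ker, LinearMap.sub_apply, Module.End.one_apply,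
    sub_eq_zero]

end Fix

section Main

variable {F : Type*} [Field F] [Fintype F] {V : Type*} [AddCommGroup V] [Module F V]
  [FiniteDimensional F V]

/-- the moving part of an invariant nondegenerate subspace is nondegenerate -/
theorem nondeg_inf_moving {r : ℕ} (hr0 : (r : F) ≠ 0) (B : LinearMap.BilinForm F V)
    (A : Module.End F V) (hinv : ∀ x y, B (A x) (A y) = B x y) (hAr : A ^ r = 1)
    (W : Submodule F V) (hW : W ∈ A.invtSubmodule)
    (hnd : ∀ u ∈ W, u ≠ 0 → ∃ v ∈ W, B u v ≠ 0) :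
    ∀ u ∈ W ⊓ LinearMap.ker (aeval A (geomPoly F r)), u ≠ 0 →
      ∃ v ∈ W ⊓ LinearMap.ker (aeval A (geomPoly F r)), B u v ≠ 0 := by
  intro u hu hu0
  obtain ⟨v, hv, hne⟩ := hnd u hu.1 hu0
  rw [← inf_sup_inf_eq A _ _ (isCoprime_X_sub_one_geomPoly r hr0)
    (aeval_X_sub_one_mul_geomPoly A r hAr) W hW] at hv
  obtain ⟨c, hc, d, hd, rfl⟩ := Submodule.mem_sup.1 hv
  refine ⟨d, hd, ?_⟩
  rw [map_add, form_moving_fixed B A hinv r hr0 u c hu.2 ((mem_ker_X_sub_one A c).1 hc.2),
    zero_add] at hne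
  exact hne

/-- the moving part of an invariant nondegenerate subspace has dimension divisible by `c` -/
theorem dvd_finrank_inf_moving (p : ℕ) [Fact p.Prime] [CharP F p] {q r : ℕ}
    (hq : Fintype.card F = q) (hr : r.Prime) (hrp : r ≠ p) (c : ℕ)
    (hc : c = if Even (orderOf (q : ZMod r)) then orderOf (q : ZMod r)
      else 2 * orderOf (q : ZMod r))
    (B : LinearMap.BilinForm F V) (halt : B.IsAlt)
    (A : Module.End F V) (hinv : ∀ x y, B (A x) (A y) = B x y) (hAr : A ^ r = 1)
    (W : Submodule F V) (hW : W ∈ A.invtSubmodule)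
    (hnd : ∀ u ∈ W, u ≠ 0 → ∃ v ∈ W, B u v ≠ 0) :
    c ∣ finrank F ↥(W ⊓ LinearMap.ker (aeval A (geomPoly F r))) := by
  have hr0 : (r : F) ≠ 0 := natCast_ne_zero_of' p hr hrp
  have hss := isSemisimple_of_pow_eq_one A r hr0 hAr
  have hΦ0 := geomPoly_ne_zero (F := F) r hr0
  have hall := allDeg_geomPoly (F := F) p hq hr hrp
  set WD := W ⊓ LinearMap.ker (aeval A (geomPoly F r)) with hWD
  have hDinv : LinearMap.ker (aeval A (geomPoly F r)) ∈ A.invtSubmodule :=
    ker_aeval_mem_invt A _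
  have h1 : orderOf (q : ZMod r) ∣ finrank F WD :=
    dvd_finrank A hss (geomPoly F r) hΦ0 _ hall _ WD rfl (inf_mem_invt A hW hDinv) inf_le_right
  have hnd' := nondeg_inf_moving hr0 B A hinv hAr W hW hnd
  have h2 : Even (finrank F WD) := by
    have hA' : (B.restrict WD).IsAlt := fun x => halt x
    have hB' : (B.restrict WD).Nondegenerate := by
      apply LinearMap.BilinForm.Nondegenerate.ofSeparatingLeft
      intro x hx
      by_contra hx0
      have hx0' : (x : V) ≠ 0 := fun h => hx0 (Subtype.ext h)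
      obtain ⟨v, hv, hne⟩ := hnd' x x.2 hx0'
      exact hne (hx ⟨v, hv⟩)
    exact even_finrank_of_nondeg _ (↥WD) (B.restrict WD) hA' hB' rfl
  rw [hc]
  by_cases hev : Even (orderOf (q : ZMod r))
  · rw [if_pos hev]
    exact h1
  · rw [if_neg hev]
    have hodd : Odd (orderOf (q : ZMod r)) := Nat.not_even_iff_odd.1 hev
    have hcop : Nat.Coprime 2 (orderOf (q : ZMod r)) := Nat.coprime_two_left.2 hodd
    exact Nat.Coprime.mul_dvd_of_dvd_of_dvd hcop (even_iff_two_dvd.1 h2) h1

/-- the fixed part of an invariant nondegenerate subspace -/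
theorem mod_le_finrank_inf_fix (p : ℕ) [Fact p.Prime] [CharP F p] {q r : ℕ}
    (hq : Fintype.card F = q) (hr : r.Prime) (hrp : r ≠ p) (c : ℕ)
    (hc : c = if Even (orderOf (q : ZMod r)) then orderOf (q : ZMod r)
      else 2 * orderOf (q : ZMod r))
    (B : LinearMap.BilinForm F V) (halt : B.IsAlt)
    (A : Module.End F V) (hinv : ∀ x y, B (A x) (A y) = B x y) (hAr : A ^ r = 1)
    (W : Submodule F V) (hW : W ∈ A.invtSubmodule)
    (hnd : ∀ u ∈ W, u ≠ 0 → ∃ v ∈ W, B u v ≠ 0) :
    finrank F W % c ≤ finrank F ↥(W ⊓ LinearMap.ker (aeval A (X - C (1 : F)))) := by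
  have hr0 : (r : F) ≠ 0 := natCast_ne_zero_of' p hr hrp
  have h1 := finrank_split A _ _ (isCoprime_X_sub_one_geomPoly r hr0)
    (aeval_X_sub_one_mul_geomPoly A r hAr) W hW
  obtain ⟨k, hk⟩ := dvd_finrank_inf_moving p hq hr hrp c hc B halt A hinv hAr W hW hnd
  rw [h1, hk, Nat.add_mul_mod_self_left]
  exact Nat.mod_le _ _

/-- a small invariant nondegenerate subspace is fixed pointwise -/
theorem le_fix_of_finrank_lt' (p : ℕ) [Fact p.Prime] [CharP F p] {q r : ℕ}
    (hq : Fintype.card F = q) (hr : r.Prime) (hrp : r ≠ p) (c : ℕ)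
    (hc : c = if Even (orderOf (q : ZMod r)) then orderOf (q : ZMod r)
      else 2 * orderOf (q : ZMod r))
    (B : LinearMap.BilinForm F V) (halt : B.IsAlt)
    (A : Module.End F V) (hinv : ∀ x y, B (A x) (A y) = B x y) (hAr : A ^ r = 1)
    (W : Submodule F V) (hW : W ∈ A.invtSubmodule)
    (hnd : ∀ u ∈ W, u ≠ 0 → ∃ v ∈ W, B u v ≠ 0) (hlt : finrank F W < c) :
    W ≤ LinearMap.ker (aeval A (X - C (1 : F))) := by
  have hr0 : (r : F) ≠ 0 := natCast_ne_zero_of' p hr hrp
  obtain ⟨k, hk⟩ := dvd_finrank_inf_moving p hq hr hrp c hc B halt A hinv hAr W hW hnd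
  have hle : finrank F ↥(W ⊓ LinearMap.ker (aeval A (geomPoly F r))) ≤ finrank F W :=
    Submodule.finrank_mono inf_le_left
  have hk0 : k = 0 := by
    by_contra h
    have : c ≤ c * k := Nat.le_mul_of_pos_right _ (Nat.pos_of_ne_zero h)
    omega
  rw [hk0, mul_zero] at hk
  have hbot : W ⊓ LinearMap.ker (aeval A (geomPoly F r)) = ⊥ := Submodule.finrank_eq_zero.1 hk
  have h1 := inf_sup_inf_eq A _ _ (isCoprime_X_sub_one_geomPoly r hr0)
    (aeval_X_sub_one_mul_geomPoly A r hAr) W hW
  rw [hbot, sup_bot_eq] at h1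
  rw [← h1]
  exact inf_le_right

end Main

end Cfsg.Agent.Lib.Helper8.SpDec
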