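import Mathlib
import Cfsg.Agent.Lib.Helper8.PrimeOrdI
import Cfsg.Agent.Lib.Helper8.InvSubD

/-!
# Elements of prime order of `Sp_{2m}(q)` with a prescribed fixed space dimension (helper8)
-/

set_option autoImplicit false
set_option linter.unusedSectionVars false

namespace Cfsg.Agent.Lib.Helper8.SpFix

open Polynomial Matrix Module Cfsg Cfsg.Agent.Lib.Helper8.SelfRec Cfsg.Agent.Lib.Helper8.SpCount
  Cfsg.Agent.Lib.Helper8.PrimeOrd Cfsg.Agent.Lib.Helper8.InvSub

universe u

section General

variable {F : Type*} [Field F] {V : Type*} [AddCommGroup V] [Module F V] [FiniteDimensional F V]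

/-- the fixed space of a semisimple operator has dimension the multiplicity of `X - 1` in the
characteristic polynomial -/
theorem finrank_ker_sub_one_of_charpoly (A : Module.End F V) (hss : A.IsSemisimple) (a : ℕ)
    (g : F[X]) (hg : g.eval 1 ≠ 0) (hch : A.charpoly = (X - C (1 : F)) ^ a * g) :
    finrank F (LinearMap.ker (aeval A (X - C (1 : F)))) = a := by
  have h1 := LinearMap.finrank_maxGenEigenspace_eq A (1 : F)
  rw [hss.isFinitelySemisimple.maxGenEigenspace_eq_eigenspace] at h1
  have h2 : A.eigenspace (1 : F) = LinearMap.ker (aeval A (X - C (1 : F))) := by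
    ext v
    rw [Module.End.mem_eigenspace_iff, mem_ker_X_sub_one, one_smul]
  rw [h2] at h1
  rw [h1, hch]
  have hg0 : g ≠ 0 := by
    rintro rfl
    simp at hg
  have hne : (X - C (1 : F)) ^ a * g ≠ 0 := mul_ne_zero (pow_ne_zero _ (X_sub_C_ne_zero 1)) hg0
  rw [rootMultiplicity_mul hne, rootMultiplicity_X_sub_C_pow,
    rootMultiplicity_eq_zero (by rwa [IsRoot.def]), add_zero]

end General

section Test

variable {F : Type u} [Field F] [Fintype F]

theorem eval_one_fe_PP [DecidableEq F] {r : ℕ} [hr : Fact r.Prime] (hrF : (r : F) ≠ 0)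
    (e : ↥(cycFactors F r) → ℕ) : (fe (PP F r) e).eval 1 ≠ 0 := by
  unfold fe
  rw [eval_prod]
  apply Finset.prod_ne_zero_iff.2
  intro j _
  rw [eval_pow]
  exact pow_ne_zero _ (PP_eval_one hrF j)

/-- if the order `i` of `q` modulo `r` is even then `r ∣ q ^ (i / 2) + 1` -/
theorem dvd_pow_half_add_one {q r : ℕ} [hr : Fact r.Prime] (i' : ℕ) (hi'pos : 0 < i')
    (hi : 2 * i' = orderOf (q : ZMod r)) : r ∣ q ^ i' + 1 := by
  have h1 : ((q : ZMod r) ^ i') ^ 2 = 1 := by
    rw [← pow_mul, mul_comm, hi]
    exact pow_orderOf_eq_one _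
  have h2 : (q : ZMod r) ^ i' ≠ 1 := by
    intro h
    have := orderOf_dvd_of_pow_eq_one h
    rw [← hi] at this
    have := Nat.le_of_dvd hi'pos this
    omega
  have h3 : (q : ZMod r) ^ i' = -1 := by
    have h4 : ((q : ZMod r) ^ i' - 1) * ((q : ZMod r) ^ i' + 1) = 0 := by
      have : ((q : ZMod r) ^ i' - 1) * ((q : ZMod r) ^ i' + 1) = ((q : ZMod r) ^ i') ^ 2 - 1 := by
        ring
      rw [this, h1, sub_self]
    rcases mul_eq_zero.1 h4 with h5 | h5
    · exact absurd (sub_eq_zero.1 h5) h2
    · exact eq_neg_of_add_eq_zero_left h5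
  rw [← ZMod.natCast_eq_zero_iff]
  push_cast
  rw [h3]
  ring

/-- test elements: an element of order `r` of `Sp_{2m}(q)` whose fixed space has codimension
`c * k` -/
theorem exists_sp_test (p : ℕ) [Fact p.Prime] [CharP F p] {q : ℕ} (hq : Fintype.card F = q)
    {r : ℕ} [hr : Fact r.Prime] (hr2 : r ≠ 2) (hrp : r ≠ p) (m i c : ℕ)
    (hi : i = orderOf (q : ZMod r)) (hc : c = if Even i then i else 2 * i) (k : ℕ) (hk : 0 < k)
    (hck : c * k ≤ 2 * m) :
    ∃ h : symplecticGroup (Fin m) F, h ^ r = 1 ∧
      finrank F (LinearMap.ker (aeval (Matrix.toLin'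
        (h : Matrix (Fin m ⊕ Fin m) (Fin m ⊕ Fin m) F)) (X - C (1 : F)))) = 2 * m - c * k := by
  classical
  obtain ⟨f, _, hf⟩ := FiniteField.card F p
  have hpr : p.Coprime r := by
    rw [Nat.coprime_primes (Fact.out : p.Prime) hr.out]
    exact fun h => hrp h.symm
  have hrF : (r : F) ≠ 0 := natCast_ne_zero_of' p hr.out hrp
  have hdeg : ∀ j : ↥(cycFactors F r), (PP F r j).natDegree = i := by
    intro j
    rw [natDegree_PP hf hpr j, hq, hi]
  have hrq : ¬ r ∣ q := by
    intro h
    rw [← hq, hf] at h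
    have := (Nat.prime_dvd_prime_iff_eq hr.out (Fact.out : p.Prime)).1 (hr.out.dvd_of_dvd_pow h)
    exact hrp this
  have hq0 : (q : ZMod r) ≠ 0 := by
    intro h
    exact hrq ((ZMod.natCast_eq_zero_iff q r).1 h)
  have hipos : 0 < i := by
    rw [hi]
    have hu : IsUnit (q : ZMod r) := isUnit_iff_ne_zero.2 hq0
    obtain ⟨u, hu⟩ := hu
    rw [← hu, orderOf_units]
    exact orderOf_pos u
  have hne : Nonempty ↥(cycFactors F r) := by
    rw [← Fintype.card_pos_iff, card_cycFactors hf hpr, hq, ← hi]
    have hdvd : i ∣ r - 1 := by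
      rw [hi]
      exact ZMod.orderOf_dvd_card_sub_one hq0
    have hr1 : 0 < r - 1 := by
      have := hr.out.two_le
      omega
    exact Nat.div_pos (Nat.le_of_dvd hr1 hdvd) hipos
  obtain ⟨j₀⟩ := hne
  have hrodd : Odd r := hr.out.odd_of_ne_two hr2
  -- the multiplicity function
  obtain ⟨e, he, hsum, hne0⟩ : ∃ e : ↥(cycFactors F r) → ℕ,
      e ∘ sIdx (RingHom.id F) (fun _ => rfl) hrF = e ∧ i * ∑ j, e j = c * k ∧ e ≠ 0 := by
    by_cases hev : Even i
    · rw [if_pos hev] at hc
      obtain ⟨i', hi'⟩ := hev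
      have hi'pos : 0 < i' := by omega
      have hdvd : r ∣ q ^ i' + 1 := dvd_pow_half_add_one i' hi'pos (by rw [← hi]; omega)
      have hself : ∀ j, sIdx (RingHom.id F) (fun _ => rfl) hrF j = j := by
        intro j
        apply Subtype.ext
        change rc (RingHom.id F) (PP F r j) = PP F r j
        exact rc_eq_self_of_pow_eq_neg_one (PP_monic j) (PP_irred j) (PP_dvd j)
          (PP_coeff_zero j) i' (by rw [hq]; exact hdvd)
      refine ⟨Pi.single j₀ k, ?_, ?_, ?_⟩
      · funext j
        rw [Function.comp_apply, hself]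
      · rw [Finset.sum_pi_single' j₀ k]
        simp [hc]
      · intro h0
        have := congrFun h0 j₀
        simp at this
        omega
    · rw [if_neg hev] at hc
      have hodd : Odd i := Nat.not_even_iff_odd.1 hev
      have hns : sIdx (RingHom.id F) (fun _ => rfl) hrF j₀ ≠ j₀ := by
        intro h
        have h1 := congrArg Subtype.val h
        change rc (RingHom.id F) (PP F r j₀) = PP F r j₀ at h1
        exact rc_ne_self_of_odd hrodd (PP_monic j₀) (PP_dvd j₀) (PP_coeff_zero j₀)
          (PP_eval_one hrF j₀) (by rw [hdeg]; exact hodd) h1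
      set s := sIdx (RingHom.id F) (fun _ => rfl) hrF with hs
      have hinv : Function.Involutive s := sIdx_involutive _ _ hrF
      refine ⟨Pi.single j₀ k + Pi.single (s j₀) k, ?_, ?_, ?_⟩
      · funext j
        simp only [Function.comp_apply, Pi.add_apply, Pi.single_apply]
        have h1 : s j = j₀ ↔ j = s j₀ := by
          constructor
          · intro h; rw [← h, hinv j]
          · intro h; rw [h, hinv j₀]
        have h2 : s j = s j₀ ↔ j = j₀ := hinv.injective.eq_iff
        simp only [h1, h2]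
        rw [add_comm]
      · simp only [Pi.add_apply]
        rw [Finset.sum_add_distrib, Finset.sum_pi_single' j₀ k, Finset.sum_pi_single' (s j₀) k]
        simp only [Finset.mem_univ, if_true]
        rw [hc]; ring
      · intro h0
        have := congrFun h0 j₀
        simp only [Pi.add_apply, Pi.single_eq_same, Pi.zero_apply] at this
        omega
  have hle : i * ∑ j, e j ≤ 2 * m := by rw [hsum]; exact hck
  obtain ⟨h, hord, hch⟩ := exists_sp_of_mult p hr2 i hdeg hrF e he hle hne0
  have hpow : h ^ r = 1 := by rw [← hord]; exact pow_orderOf_eq_one h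
  refine ⟨h, hpow, ?_⟩
  have hss := Cfsg.Agent.Lib.Helper8.SpSS.isSemisimple_of_orderOf_coprime p h
    (by rw [hord]; exact hpr.symm)
  apply finrank_ker_sub_one_of_charpoly _ hss (2 * m - c * k) (fe (PP F r) e)
    (eval_one_fe_PP hrF e)
  rw [Matrix.charpoly_toLin', hch, fe_PPo, hsum]
  simp only [Option.elim_none, Option.elim_some, map_one]

end Test

end Cfsg.Agent.Lib.Helper8.SpFix
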