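import Mathlib
import Cfsg.Agent.Lib.Helper8.SpDecD
import Cfsg.Agent.Lib.Helper8.SpDecE
import Cfsg.Agent.Lib.Helper8.SpFixA
import Cfsg.Agent.Lib.Helper8.DecStK

/-!
# Orthogonal decompositions stabilized by all elements of prime order: necessity (helper8)
-/

set_option autoImplicit false
set_option linter.unusedSectionVars false

namespace Cfsg.Agent.Lib.Helper8.SpDec

open Polynomial Module Matrix Cfsg Cfsg.Agent.Lib.Helper5.Symp Cfsg.Agent.Lib.Helper8.InvSub
  Cfsg.Agent.Lib.Helper8.SingerN Cfsg.Agent.Lib.Helper8.Polar Cfsg.Agent.Lib.Helper8.SpSS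
  Cfsg.Agent.Lib.Helper8.DecSt Cfsg.Agent.Lib.Helper8.SpFix

section Basic

variable {F : Type*} [Field F] {d : ℕ}

theorem stdForm_isAlt : (stdForm F d).IsAlt := by
  intro x
  rw [stdForm_apply]
  exact sympForm_self d x

theorem stdForm_sep : ∀ u, (∀ y, stdForm F d u y = 0) → u = 0 := by
  intro u hu
  by_contra hu0
  obtain ⟨y, hy⟩ := exists_sympForm_ne_zero d hu0
  apply hy
  rw [← stdForm_apply]
  exact hu y

theorem stdForm_inv (x : symplecticGroup (Fin d) F) (u v : Fin d ⊕ Fin d → F) :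
    stdForm F d (Matrix.toLin' (x : Matrix (Fin d ⊕ Fin d) (Fin d ⊕ Fin d) F) u)
      (Matrix.toLin' (x : Matrix (Fin d ⊕ Fin d) (Fin d ⊕ Fin d) F) v) = stdForm F d u v := by
  rw [stdForm_apply, stdForm_apply, Matrix.toLin'_apply, Matrix.toLin'_apply]
  exact sympForm_of_mem d x.2 u v

theorem toLin'_pow_sp (x : symplecticGroup (Fin d) F) (r : ℕ) (hx : x ^ r = 1) :
    (Matrix.toLin' (x : Matrix (Fin d ⊕ Fin d) (Fin d ⊕ Fin d) F)) ^ r = 1 := by
  have h1 : (x : Matrix (Fin d ⊕ Fin d) (Fin d ⊕ Fin d) F) ^ r = 1 := by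
    have := congrArg Subtype.val hx
    exact this
  rw [← Matrix.toLin'_pow, h1, Matrix.toLin'_one]
  rfl

theorem finrank_std : finrank F (Fin d ⊕ Fin d → F) = 2 * d := by
  rw [Module.finrank_fintype_fun_eq_card, Fintype.card_sum, Fintype.card_fin]
  ring

/-- a scalar symplectic matrix is `± 1` -/
theorem sq_eq_one_of_scalar (hd : 0 < d) (x : symplecticGroup (Fin d) F) (z : F)
    (hz : (x : Matrix (Fin d ⊕ Fin d) (Fin d ⊕ Fin d) F) = z • 1) : z ^ 2 = 1 := by
  have hne : (Pi.single (Sum.inl ⟨0, hd⟩) 1 : Fin d ⊕ Fin d → F) ≠ 0 := by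
    intro h
    have := congrFun h (Sum.inl ⟨0, hd⟩)
    simp at this
  obtain ⟨v, hv⟩ := exists_sympForm_ne_zero d hne
  have h1 := sympForm_of_mem d x.2 (Pi.single (Sum.inl ⟨0, hd⟩) 1) v
  rw [hz, Matrix.smul_mulVec, Matrix.smul_mulVec, Matrix.one_mulVec, Matrix.one_mulVec,
    sympForm_smul_left, sympForm_smul_right, ← mul_assoc] at h1
  have h2 : (z * z - 1) * sympForm d F (Pi.single (Sum.inl ⟨0, hd⟩) 1) v = 0 := by
    rw [sub_mul, h1, one_mul, sub_self]
  rcases mul_eq_zero.1 h2 with h3 | h3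
  · rw [pow_two]
    exact sub_eq_zero.1 h3
  · exact absurd h3 hv

end Basic

section Main

variable {F : Type*} [Field F] [Fintype F]

/-- the order `c` is at most `r - 1` -/
theorem c_le_pred {q r : ℕ} [hr : Fact r.Prime] (hr2 : r ≠ 2) (hq0 : (q : ZMod r) ≠ 0) (c : ℕ)
    (hc : c = if Even (orderOf (q : ZMod r)) then orderOf (q : ZMod r)
      else 2 * orderOf (q : ZMod r)) : c ≤ r - 1 := by
  have hdvd : orderOf (q : ZMod r) ∣ r - 1 := ZMod.orderOf_dvd_card_sub_one hq0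
  have hr1 : 0 < r - 1 := by
    have := hr.out.two_le
    omega
  by_cases hev : Even (orderOf (q : ZMod r))
  · rw [if_pos hev] at hc
    rw [hc]
    exact Nat.le_of_dvd hr1 hdvd
  · rw [if_neg hev] at hc
    have hodd : Odd (orderOf (q : ZMod r)) := Nat.not_even_iff_odd.1 hev
    have hcop : Nat.Coprime 2 (orderOf (q : ZMod r)) := Nat.coprime_two_left.2 hodd
    have hrodd : Odd r := hr.out.odd_of_ne_two hr2
    have h2 : 2 ∣ r - 1 := by
      obtain ⟨k, hk⟩ := hrodd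
      exact ⟨k, by omega⟩
    rw [hc]
    exact Nat.le_of_dvd hr1 (Nat.Coprime.mul_dvd_of_dvd_of_dvd hcop h2 hdvd)

/-- the necessity direction -/
theorem cond_of_forall_orthDec (p : ℕ) [Fact p.Prime] [CharP F p] {q : ℕ}
    (hq : Fintype.card F = q) (d a t : ℕ) (hat : 2 * d = a * t) (ha : 2 ≤ a) (ht : 2 ≤ t)
    (r : ℕ) [hr : Fact r.Prime] (hr2 : r ≠ 2) (hrp : r ≠ p) (c : ℕ)
    (hc : c = if Even (orderOf (q : ZMod r)) then orderOf (q : ZMod r)
      else 2 * orderOf (q : ZMod r)) (hcd : c ≤ 2 * d)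
    (H : ∀ x : ↥(symplecticGroup (Fin d) F),
      (∃ z : F, ((x ^ r : ↥(symplecticGroup (Fin d) F)) :
        Matrix (Fin d ⊕ Fin d) (Fin d ⊕ Fin d) F) = z • 1) →
      (∀ z : F, (x : Matrix (Fin d ⊕ Fin d) (Fin d ⊕ Fin d) F) ≠ z • 1) →
      ∃ D : Fin t → Submodule F (Fin d ⊕ Fin d → F), IsOrthDec a D ∧
        ∃ σ : Equiv.Perm (Fin t), ∀ j,
          (D j).map (Matrix.toLin' (x : Matrix (Fin d ⊕ Fin d) (Fin d ⊕ Fin d) F)) = D (σ j)) :
    c ≤ a ∧ (2 * d) % c = t * (a % c) := by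
  classical
  have hrP : r.Prime := hr.out
  have hd0 : 0 < d := by
    rcases Nat.eq_zero_or_pos d with h | h
    · subst h
      have : a * t = 0 := by omega
      rcases Nat.mul_eq_zero.1 this with h1 | h1 <;> omega
    · exact h
  have hr0 : (r : F) ≠ 0 := natCast_ne_zero_of' p hrP hrp
  have hq0 : (q : ZMod r) ≠ 0 := by
    intro h0
    rw [ZMod.natCast_eq_zero_iff] at h0
    obtain ⟨f, _, hf⟩ := FiniteField.card F p
    rw [← hq, hf] at h0
    have := hrP.dvd_of_dvd_pow h0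
    exact hrp ((Nat.prime_dvd_prime_iff_eq hrP (Fact.out : p.Prime)).1 this)
  have hipos : 0 < orderOf (q : ZMod r) := by
    have hu : IsUnit (q : ZMod r) := isUnit_iff_ne_zero.2 hq0
    obtain ⟨u, hu⟩ := hu
    rw [← hu, orderOf_units]
    exact orderOf_pos u
  have hcpos : 0 < c := by
    rw [hc]
    split_ifs <;> omega
  have hcr : c ≤ r - 1 := c_le_pred hr2 hq0 c hc
  -- elements of order `r` stabilize decompositions
  have key : ∀ (x : ↥(symplecticGroup (Fin d) F)), x ^ r = 1 →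
      finrank F (LinearMap.ker (aeval (Matrix.toLin'
        (x : Matrix (Fin d ⊕ Fin d) (Fin d ⊕ Fin d) F)) (X - C (1 : F)))) < 2 * d →
      ∃ (D : Fin t → Submodule F (Fin d ⊕ Fin d → F)) (σ : Equiv.Perm (Fin t)),
        IsOrthDec a D ∧
        (∀ j, (D j).map (Matrix.toLin' (x : Matrix (Fin d ⊕ Fin d) (Fin d ⊕ Fin d) F)) =
          D (σ j)) ∧ σ ^ r = 1 := by
    intro x hxr hfix
    have h1 : ∃ z : F, ((x ^ r : ↥(symplecticGroup (Fin d) F)) :
        Matrix (Fin d ⊕ Fin d) (Fin d ⊕ Fin d) F) = z • 1 := ⟨1, by rw [hxr, one_smul]; rfl⟩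
    have h2 : ∀ z : F, (x : Matrix (Fin d ⊕ Fin d) (Fin d ⊕ Fin d) F) ≠ z • 1 := by
      intro z hz
      have hz2 := sq_eq_one_of_scalar hd0 x z hz
      have hzr : z ^ r = 1 := by
        have h3 : (x : Matrix (Fin d ⊕ Fin d) (Fin d ⊕ Fin d) F) ^ r = 1 := by
          have := congrArg Subtype.val hxr
          exact this
        rw [hz, _root_.smul_pow, one_pow] at h3
        have := congrFun (congrFun h3 (Sum.inl ⟨0, hd0⟩)) (Sum.inl ⟨0, hd0⟩)
        rw [Matrix.smul_apply, Matrix.one_apply_eq, smul_eq_mul, mul_one] at this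
        exact this
      have hz1 : z = 1 := by
        obtain ⟨k, hk⟩ := hrP.odd_of_ne_two hr2
        rw [hk, pow_succ, pow_mul, hz2, one_pow, one_mul] at hzr
        exact hzr
      rw [hz1, one_smul] at hz
      have htop : LinearMap.ker (aeval (Matrix.toLin'
          (x : Matrix (Fin d ⊕ Fin d) (Fin d ⊕ Fin d) F)) (X - C (1 : F))) = ⊤ := by
        rw [eq_top_iff]
        intro v _
        rw [mem_ker_X_sub_one, hz, Matrix.toLin'_one]
        rfl
      rw [htop, finrank_top, finrank_std] at hfix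
      omega
    obtain ⟨D, hD, σ, hσ⟩ := H x h1 h2
    exact ⟨D, σ, hD, hσ, perm_pow_eq_one _ D σ hσ r (toLin'_pow_sp x r hxr)
      (orthDec_injective a D hD)⟩
  -- the element with one block
  obtain ⟨x₁, hx₁r, hx₁f⟩ := exists_sp_test (F := F) p hq hr2 hrp d _ c rfl hc 1 one_pos
    (by omega)
  rw [mul_one] at hx₁f
  obtain ⟨D₁, σ₁, hD₁, hσ₁, hσ₁r⟩ := key x₁ hx₁r (by omega)
  set A₁ : Module.End F (Fin d ⊕ Fin d → F) :=
    Matrix.toLin' (x₁ : Matrix (Fin d ⊕ Fin d) (Fin d ⊕ Fin d) F) with hA₁def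
  have hA₁ : A₁ ^ r = 1 := toLin'_pow_sp x₁ r hx₁r
  have hA₁' : A₁ ^ r = (1 : F) • 1 := by rw [hA₁, one_smul]
  have hinj₁ := injective_of_pow_eq_smul _ r hrP.pos 1 one_ne_zero hA₁'
  have hca : c ≤ a := by
    by_cases hmoved : ∃ j, σ₁ j ≠ j
    · exfalso
      obtain ⟨j, hj⟩ := hmoved
      have h1 := le_finrank_range_sub_one _ hinj₁ D₁ σ₁ hσ₁ hD₁.1.indep r hrP hσ₁r j hj a
        hD₁.1.finrank_eq
      have h2 := LinearMap.finrank_range_add_finrank_ker (A₁ - 1)
      rw [← ker_X_sub_one_eq, hx₁f, finrank_std] at h2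
      have h3 : (r - 1) * a ≤ r - 1 := by omega
      have h4 : 0 < r - 1 := by have := hrP.two_le; omega
      have : (r - 1) * 2 ≤ (r - 1) * a := Nat.mul_le_mul_left _ ha
      omega
    · push Not at hmoved
      by_contra hcon
      push Not at hcon
      have hle : ∀ j, D₁ j ≤ LinearMap.ker (aeval A₁ (X - C (1 : F))) := by
        intro j
        apply le_fix_of_finrank_lt' p hq hrP hrp c hc (stdForm F d) stdForm_isAlt A₁
          (stdForm_inv x₁) hA₁ (D₁ j)
        · rw [Module.End.mem_invtSubmodule_iff_map_le, hσ₁, hmoved]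
        · intro u hu hu0
          obtain ⟨v, hv, hne⟩ := hD₁.2.1 j u hu hu0
          exact ⟨v, hv, by rw [stdForm_apply]; exact hne⟩
        · rw [hD₁.1.finrank_eq]
          exact hcon
      have htop : (⊤ : Submodule F (Fin d ⊕ Fin d → F)) ≤
          LinearMap.ker (aeval A₁ (X - C (1 : F))) := by
        rw [← hD₁.1.iSup_eq_top]
        exact iSup_le hle
      rw [top_le_iff.1 htop, finrank_top, finrank_std] at hx₁f
      omega
  refine ⟨hca, ?_⟩
  -- the element with as many blocks as possible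
  have hJ1 : 0 < 2 * d / c := Nat.div_pos hcd hcpos
  have hln : c * (2 * d / c) ≤ 2 * d := Nat.mul_div_le (2 * d) c
  have hnl : 2 * d - c * (2 * d / c) = 2 * d % c := by
    have := Nat.div_add_mod (2 * d) c
    omega
  obtain ⟨x₂, hx₂r, hx₂f⟩ := exists_sp_test (F := F) p hq hr2 hrp d _ c rfl hc (2 * d / c) hJ1 hln
  rw [hnl] at hx₂f
  have hmodlt : 2 * d % c < c := Nat.mod_lt _ hcpos
  obtain ⟨D₂, σ₂, hD₂, hσ₂, hσ₂r⟩ := key x₂ hx₂r (by omega)
  set A₂ : Module.End F (Fin d ⊕ Fin d → F) :=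
    Matrix.toLin' (x₂ : Matrix (Fin d ⊕ Fin d) (Fin d ⊕ Fin d) F) with hA₂def
  have hA₂ : A₂ ^ r = 1 := toLin'_pow_sp x₂ r hx₂r
  have hfix₂ : finrank F (LinearMap.ker (A₂ - 1)) = 2 * d % c := by
    rw [← ker_X_sub_one_eq]
    exact hx₂f
  have hnomove : ∀ j, σ₂ j = j := by
    intro j
    by_contra hj
    have h1 := finrank_le_fix _ D₂ σ₂ hσ₂ hD₂.1.indep r hrP hA₂ hσ₂r j hj
    rw [hD₂.1.finrank_eq, hfix₂] at h1
    omega
  have h1 := sum_finrank_fix_le A₂ D₂ hD₂.1.indep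
  rw [hfix₂] at h1
  have h2 : ∀ j ∈ (Finset.univ : Finset (Fin t)), a % c ≤ finrank F
      ↥(LinearMap.ker (A₂ - 1) ⊓ D₂ j) := by
    intro j _
    have := mod_le_finrank_inf_fix p hq hrP hrp c hc (stdForm F d) stdForm_isAlt A₂
      (stdForm_inv x₂) hA₂ (D₂ j) (by
        rw [Module.End.mem_invtSubmodule_iff_map_le, hσ₂, hnomove]) (by
        intro u hu hu0
        obtain ⟨v, hv, hne⟩ := hD₂.2.1 j u hu hu0
        exact ⟨v, hv, by rw [stdForm_apply]; exact hne⟩)
    rwa [hD₂.1.finrank_eq, ker_X_sub_one_eq, inf_comm] at this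
  have h3 := Finset.sum_le_sum h2
  rw [Finset.sum_const, Finset.card_univ, Fintype.card_fin, smul_eq_mul] at h3
  have h4 : t * (a % c) ≤ 2 * d % c := le_trans h3 h1
  -- arithmetic
  rw [hat]
  conv_lhs => rw [← Nat.div_add_mod a c]
  rw [add_mul, mul_assoc, Nat.mul_add_mod, mul_comm]
  apply Nat.mod_eq_of_lt
  omega

end Main

end Cfsg.Agent.Lib.Helper8.SpDec
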