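import Mathlib
import Cfsg.Agent.Lib.Helper8.SpDecF

/-!
# A prime dividing the order of `Sp_{2d}(q)`; splitting symmetric multiplicity functions (helper8)
-/

set_option autoImplicit false
set_option linter.unusedSectionVars false

namespace Cfsg.Agent.Lib.Helper8.SpDec

open Polynomial Module Matrix Cfsg Cfsg.Agent.Lib.Helper5.Symp Cfsg.Agent.Lib.Helper8.InvSub
  Cfsg.Agent.Lib.Helper8.SingerN Cfsg.Agent.Lib.Helper8.Polar Cfsg.Agent.Lib.Helper8.SpSS

section Cauchy

variable {F : Type*} [Field F] [Fintype F]

/-- a prime `r ≠ p` dividing the order of `Sp_{2d}(q)` has `c ≤ 2d` -/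
theorem c_le_of_dvd_card_sp (p : ℕ) [Fact p.Prime] [CharP F p] {q : ℕ}
    (hq : Fintype.card F = q) (d : ℕ) {r : ℕ} (hr : r.Prime) (hrp : r ≠ p) (c : ℕ)
    (hc : c = if Even (orderOf (q : ZMod r)) then orderOf (q : ZMod r)
      else 2 * orderOf (q : ZMod r))
    (hdvd : r ∣ Nat.card ↥(symplecticGroup (Fin d) F)) : c ≤ 2 * d := by
  classical
  have : Fact r.Prime := ⟨hr⟩
  obtain ⟨g, hg⟩ := exists_prime_orderOf_dvd_card' (G := ↥(symplecticGroup (Fin d) F)) r hdvd
  have hr0 : (r : F) ≠ 0 := natCast_ne_zero_of' p hr hrp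
  have hgr : g ^ r = 1 := by rw [← hg]; exact pow_orderOf_eq_one g
  set A : Module.End F (Fin d ⊕ Fin d → F) :=
    Matrix.toLin' (g : Matrix (Fin d ⊕ Fin d) (Fin d ⊕ Fin d) F) with hA
  have hAr : A ^ r = 1 := toLin'_pow_sp g r hgr
  have hA1 : A ≠ 1 := by
    intro h1
    have h2 : (g : Matrix (Fin d ⊕ Fin d) (Fin d ⊕ Fin d) F) = 1 := by
      apply Matrix.toLin'.injective
      rw [Matrix.toLin'_one]
      exact h1
    have : g = 1 := Subtype.ext h2
    rw [this, orderOf_one] at hg
    exact hr.one_lt.ne hg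
  have htop : (⊤ : Submodule F (Fin d ⊕ Fin d → F)) ∈ A.invtSubmodule := by
    intro v _
    exact Submodule.mem_top
  obtain ⟨k, hk⟩ := dvd_finrank_inf_moving p hq hr hrp c hc (stdForm F d) stdForm_isAlt A
    (stdForm_inv g) hAr ⊤ htop (by
      intro u _ hu0
      obtain ⟨v, hv⟩ := exists_sympForm_ne_zero d hu0
      exact ⟨v, Submodule.mem_top, by rw [stdForm_apply]; exact hv⟩)
  rw [top_inf_eq] at hk
  have hn := finrank_fixed_add A r hr0 hAr
  rw [finrank_std] at hn
  rcases Nat.eq_zero_or_pos k with hk0 | hkpos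
  · exfalso
    rw [hk0, mul_zero] at hk
    rw [hk, add_zero] at hn
    have hCtop : LinearMap.ker (aeval A (X - C (1 : F))) = ⊤ :=
      Submodule.eq_top_of_finrank_eq (by rw [← hn, finrank_std])
    apply hA1
    apply LinearMap.ext
    intro v
    have hv : v ∈ LinearMap.ker (aeval A (X - C (1 : F))) := by rw [hCtop]; exact Submodule.mem_top
    exact (mem_ker_X_sub_one A v).1 hv
  · have : c ≤ c * k := Nat.le_mul_of_pos_right _ hkpos
    omega

end Cauchy

section Split

variable {ι : Type*} [Fintype ι] [DecidableEq ι] (s : ι → ι)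

/-- a symmetric sub-function of prescribed size -/
theorem exists_sub_symm (hs : Function.Involutive s) (w : ℕ)
    (hw : (w = 1 ∧ ∀ j, s j = j) ∨ (w = 2 ∧ ∀ j, s j ≠ j)) (e : ι → ℕ) (he : e ∘ s = e) :
    ∀ m : ℕ, w * m ≤ ∑ j, e j →
      ∃ e₁ : ι → ℕ, (∀ j, e₁ j ≤ e j) ∧ e₁ ∘ s = e₁ ∧ ∑ j, e₁ j = w * m := by
  intro m
  induction m with
  | zero =>
    intro _
    exact ⟨fun _ => 0, fun j => Nat.zero_le _, rfl, by simp⟩
  | succ m ih =>
    intro hm
    have hw1 : 1 ≤ w := by rcases hw with ⟨h, _⟩ | ⟨h, _⟩ <;> omega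
    obtain ⟨e₁, hle, hsym, hsum⟩ := ih (by nlinarith)
    have hex : ∃ j₀, e₁ j₀ < e j₀ := by
      by_contra hno
      push Not at hno
      have h1 : ∑ j, e j ≤ ∑ j, e₁ j := Finset.sum_le_sum (fun j _ => hno j)
      rw [hsum] at h1
      nlinarith
    obtain ⟨j₀, hj₀⟩ := hex
    have hj₀' : e₁ (s j₀) < e (s j₀) := by
      have h1 := congrFun hsym j₀
      have h2 := congrFun he j₀
      simp only [Function.comp_apply] at h1 h2
      rw [h1, h2]
      exact hj₀
    set δ : ι → ℕ := fun j => if j = j₀ ∨ j = s j₀ then 1 else 0 with hδ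
    have hδsum : ∑ j, δ j = w := by
      rw [hδ, Finset.sum_boole]
      have h1 : (Finset.univ.filter (fun j => j = j₀ ∨ j = s j₀)) = {j₀, s j₀} := by
        ext j
        simp
      rw [h1]
      rcases hw with ⟨h, hfix⟩ | ⟨h, hfp⟩
      · rw [hfix j₀, h]
        simp
      · rw [Finset.card_pair (Ne.symm (hfp j₀)), h]
        rfl
    have hδle : ∀ j, δ j ≤ 1 := by
      intro j
      rw [hδ]
      simp only
      split_ifs <;> omega
    have hδ0 : ∀ j, j ≠ j₀ → j ≠ s j₀ → δ j = 0 := by
      intro j h1 h2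
      rw [hδ]
      simp only
      rw [if_neg]
      push Not
      exact ⟨h1, h2⟩
    refine ⟨fun j => e₁ j + δ j, ?_, ?_, ?_⟩
    · intro j
      change e₁ j + δ j ≤ e j
      by_cases h1 : j = j₀
      · rw [h1]
        have := hδle j₀
        omega
      · by_cases h2 : j = s j₀
        · rw [h2]
          have := hδle (s j₀)
          omega
        · rw [hδ0 j h1 h2, add_zero]
          exact hle j
    · funext j
      change e₁ (s j) + δ (s j) = e₁ j + δ j
      have h1 := congrFun hsym j
      simp only [Function.comp_apply] at h1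
      rw [h1]
      congr 1
      rw [hδ]
      simp only
      have h2 : (s j = j₀ ∨ s j = s j₀) ↔ (j = j₀ ∨ j = s j₀) := by
        constructor
        · rintro (h | h)
          · right
            rw [← h, hs j]
          · left
            exact hs.injective h
        · rintro (h | h)
          · right
            rw [h]
          · left
            rw [h, hs j₀]
      simp only [h2]
    · rw [Finset.sum_add_distrib, hsum, hδsum]
      ring

/-- splitting a symmetric function into `t` symmetric functions of bounded size -/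
theorem exists_split (hs : Function.Involutive s) (w : ℕ)
    (hw : (w = 1 ∧ ∀ j, s j = j) ∨ (w = 2 ∧ ∀ j, s j ≠ j)) (α : ℕ) :
    ∀ (t : ℕ) (e : ι → ℕ), e ∘ s = e → ∑ j, e j ≤ w * (t * α) →
      ∃ ε : Fin t → ι → ℕ, (∀ k, ε k ∘ s = ε k) ∧ (∀ j, ∑ k, ε k j = e j) ∧
        ∀ k, ∑ j, ε k j ≤ w * α := by
  intro t
  induction t with
  | zero =>
    intro e _ hsum
    rw [zero_mul, mul_zero] at hsum
    have he0 : ∀ j, e j = 0 := by
      intro j
      have := Finset.single_le_sum (f := e) (fun i _ => Nat.zero_le _) (Finset.mem_univ j)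
      omega
    exact ⟨fun k => k.elim0, fun k => k.elim0, fun j => by simp [he0 j], fun k => k.elim0⟩
  | succ t ih =>
    intro e he hsum
    by_cases hsmall : ∑ j, e j ≤ w * α
    · refine ⟨Fin.cons e (fun _ _ => 0), ?_, ?_, ?_⟩
      · intro k
        refine Fin.cases ?_ ?_ k
        · simpa using he
        · intro k'
          simp only [Fin.cons_succ]
          rfl
      · intro j
        rw [Fin.sum_univ_succ]
        simp
      · intro k
        refine Fin.cases ?_ ?_ k
        · simpa using hsmall
        · intro k'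
          simp
    · push Not at hsmall
      obtain ⟨e₁, hle, hsym, hsum₁⟩ := exists_sub_symm s hs w hw e he α hsmall.le
      have he₂ : (fun j => e j - e₁ j) ∘ s = fun j => e j - e₁ j := by
        funext j
        have h1 := congrFun hsym j
        have h2 := congrFun he j
        simp only [Function.comp_apply] at h1 h2 ⊢
        rw [h1, h2]
      have hsum₂ : ∑ j, (e j - e₁ j) ≤ w * (t * α) := by
        have h1 : ∑ j, (e j - e₁ j) + ∑ j, e₁ j = ∑ j, e j := by
          rw [← Finset.sum_add_distrib]
          apply Finset.sum_congr rfl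
          intro j _
          have := hle j
          omega
        rw [hsum₁] at h1
        have h2 : w * ((t + 1) * α) = w * (t * α) + w * α := by ring
        omega
      obtain ⟨ε', hε'sym, hε'sum, hε'le⟩ := ih (fun j => e j - e₁ j) he₂ hsum₂
      refine ⟨Fin.cons e₁ ε', ?_, ?_, ?_⟩
      · intro k
        refine Fin.cases ?_ ?_ k
        · simpa using hsym
        · intro k'
          simpa using hε'sym k'
      · intro j
        rw [Fin.sum_univ_succ]
        simp only [Fin.cons_zero, Fin.cons_succ]
        rw [hε'sum j]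
        have := hle j
        omega
      · intro k
        refine Fin.cases ?_ ?_ k
        · simp only [Fin.cons_zero]
          rw [hsum₁]
        · intro k'
          simpa using hε'le k'

end Split

end Cfsg.Agent.Lib.Helper8.SpDec
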