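import Mathlib
import Cfsg.Agent.Lib.Helper8.SpDecG
import Cfsg.Agent.Lib.Helper8.PrimeOrdI

/-!
# Orthogonal decompositions stabilized by elements of prime order: sufficiency (helper8)
-/

set_option autoImplicit false
set_option linter.unusedSectionVars false

namespace Cfsg.Agent.Lib.Helper8.SpDec

open Polynomial Module Matrix Cfsg Cfsg.Agent.Lib.Helper5.Symp Cfsg.Agent.Lib.Helper8.InvSub
  Cfsg.Agent.Lib.Helper8.Polar Cfsg.Agent.Lib.Helper8.SpSS Cfsg.Agent.Lib.Helper8.SelfRec
  Cfsg.Agent.Lib.Helper8.SpCount Cfsg.Agent.Lib.Helper8.PrimeOrd Cfsg.Agent.Lib.Helper8.SpFix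

universe u v

section Fe

variable {K : Type u} [Field K] {ι : Type v} [Fintype ι] [DecidableEq ι]

theorem fe_sum (P : ι → K[X]) {κ : Type*} [Fintype κ] (ε : κ → ι → ℕ) :
    fe P (fun j => ∑ k, ε k j) = ∏ k, fe P (ε k) := by
  unfold fe
  rw [Finset.prod_comm]
  apply Finset.prod_congr rfl
  intro j _
  rw [Finset.prod_pow_eq_pow_sum]

end Fe

section Idx

variable {F : Type u} [Field F] [Fintype F] [DecidableEq F]

theorem sIdx_eq_self_of_even {q r : ℕ} [hr : Fact r.Prime] (hq : Fintype.card F = q)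
    (hrF : (r : F) ≠ 0) (heven : Even (orderOf (q : ZMod r))) (hpos : 0 < orderOf (q : ZMod r))
    (j : ↥(cycFactors F r)) : sIdx (RingHom.id F) (fun _ => rfl) hrF j = j := by
  obtain ⟨i', hi'⟩ := heven
  have hi'pos : 0 < i' := by omega
  have hdvd : r ∣ q ^ i' + 1 := dvd_pow_half_add_one i' hi'pos (by omega)
  apply Subtype.ext
  change rc (RingHom.id F) (PP F r j) = PP F r j
  exact rc_eq_self_of_pow_eq_neg_one (PP_monic j) (PP_irred j) (PP_dvd j)
    (PP_coeff_zero j) i' (by rw [hq]; exact hdvd)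

theorem sIdx_ne_self_of_odd {q r : ℕ} [hr : Fact r.Prime] (hr2 : r ≠ 2)
    (hrF : (r : F) ≠ 0) (hodd : Odd (orderOf (q : ZMod r)))
    (hdeg : ∀ j : ↥(cycFactors F r), (PP F r j).natDegree = orderOf (q : ZMod r))
    (j : ↥(cycFactors F r)) : sIdx (RingHom.id F) (fun _ => rfl) hrF j ≠ j := by
  intro h
  have hrodd : Odd r := hr.out.odd_of_ne_two hr2
  have h1 := congrArg Subtype.val h
  change rc (RingHom.id F) (PP F r j) = PP F r j at h1
  exact rc_ne_self_of_odd hrodd (PP_monic j) (PP_dvd j) (PP_coeff_zero j)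
    (PP_eval_one hrF j) (by rw [hdeg]; exact hodd) h1

end Idx

section Suff

variable {F : Type u} [Field F] [Fintype F]

/-- the sufficiency direction for an element of order `r` -/
theorem exists_orthDec_of_cond (p : ℕ) [Fact p.Prime] [CharP F p] {q : ℕ}
    (hq : Fintype.card F = q) (d a' t : ℕ) (hd : d = a' * t) (ha : 0 < a') (ht : 2 ≤ t)
    (r : ℕ) [hr : Fact r.Prime] (hr2 : r ≠ 2) (hrp : r ≠ p) (c : ℕ)
    (hc : c = if Even (orderOf (q : ZMod r)) then orderOf (q : ZMod r)
      else 2 * orderOf (q : ZMod r)) (hca : c ≤ 2 * a')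
    (hmod : (2 * d) % c = t * ((2 * a') % c))
    (y : ↥(symplecticGroup (Fin d) F)) (hy : y ^ r = 1) :
    ∃ D : Fin t → Submodule F (Fin d ⊕ Fin d → F), IsOrthDec (2 * a') D ∧
      ∀ j, (D j).map (Matrix.toLin' (y : Matrix (Fin d ⊕ Fin d) (Fin d ⊕ Fin d) F)) = D j := by
  classical
  have hrP : r.Prime := hr.out
  obtain ⟨f, _, hf⟩ := FiniteField.card F p
  have hpr : p.Coprime r := by
    rw [Nat.coprime_primes (Fact.out : p.Prime) hrP]
    exact fun h => hrp h.symm
  have hrF : (r : F) ≠ 0 := natCast_ne_zero_of' p hrP hrp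
  set i := orderOf (q : ZMod r) with hi
  have hdeg : ∀ j : ↥(cycFactors F r), (PP F r j).natDegree = i := by
    intro j
    rw [natDegree_PP hf hpr j, hq]
  have hq0 : (q : ZMod r) ≠ 0 := by
    intro h0
    rw [ZMod.natCast_eq_zero_iff] at h0
    rw [← hq, hf] at h0
    have := hrP.dvd_of_dvd_pow h0
    exact hrp ((Nat.prime_dvd_prime_iff_eq hrP (Fact.out : p.Prime)).1 this)
  have hipos : 0 < i := by
    have hu : IsUnit (q : ZMod r) := isUnit_iff_ne_zero.2 hq0
    obtain ⟨u, hu⟩ := hu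
    rw [hi, ← hu, orderOf_units]
    exact orderOf_pos u
  -- the multiplicities of `y`
  obtain ⟨e', he'⟩ := exists_mult y hy
  have hsym := mult_symm hrF y e' he'
  set s := sIdx (RingHom.id F) (fun _ => rfl) hrF with hs
  have hsinv : Function.Involutive s := sIdx_involutive _ _ hrF
  set e : ↥(cycFactors F r) → ℕ := fun j => e' (some j) with he
  have hes : e ∘ s = e := by
    funext j
    exact congrFun hsym (some j)
  have hdegree : e' none + i * ∑ j, e j = 2 * d := by
    have h1 := natDegree_fe_PPo hrF i hdeg e'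
    rw [← he', charpoly_natDegree y] at h1
    exact h1.symm
  -- the two cases
  obtain ⟨w, hw, hcw⟩ : ∃ w : ℕ, ((w = 1 ∧ ∀ j, s j = j) ∨ (w = 2 ∧ ∀ j, s j ≠ j)) ∧
      c = w * i := by
    by_cases hev : Even i
    · rw [if_pos hev] at hc
      exact ⟨1, Or.inl ⟨rfl, fun j => sIdx_eq_self_of_even hq hrF hev hipos j⟩, by omega⟩
    · rw [if_neg hev] at hc
      exact ⟨2, Or.inr ⟨rfl, fun j => sIdx_ne_self_of_odd hr2 hrF
        (Nat.not_even_iff_odd.1 hev) hdeg j⟩, hc⟩
  have hw1 : 1 ≤ w := by rcases hw with ⟨h, _⟩ | ⟨h, _⟩ <;> omega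
  have hcpos : 0 < c := by rw [hcw]; exact Nat.mul_pos hw1 hipos
  set α := 2 * a' / c with hα
  have hdiv : 2 * d / c = t * α := by
    have h1 := Nat.div_add_mod (2 * d) c
    have h2 := Nat.div_add_mod (2 * a') c
    rw [hmod] at h1
    have h3 : c * (2 * d / c) = c * (t * α) := by
      have h4 : 2 * d = t * (c * α + 2 * a' % c) := by
        rw [h2, hd]; ring
      have h5 : t * (c * α + 2 * a' % c) = c * (t * α) + t * (2 * a' % c) := by ring
      omega
    exact Nat.eq_of_mul_eq_mul_left hcpos h3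
  have hbound : ∑ j, e j ≤ w * (t * α) := by
    rcases hw with ⟨h1, _⟩ | ⟨h2, hfp⟩
    · rw [h1, one_mul, ← hdiv, Nat.le_div_iff_mul_le hcpos, hcw, h1, one_mul, mul_comm]
      omega
    · rw [sum_eq_two_mul hsinv hfp e hes, h2]
      apply Nat.mul_le_mul_left
      rw [← hdiv, Nat.le_div_iff_mul_le hcpos, hcw, h2]
      have h3 := sum_eq_two_mul hsinv hfp e hes
      have h4 : (∑ a ∈ trv s, e a) * (2 * i) = i * ∑ j, e j := by rw [h3]; ring
      omega
  obtain ⟨ε, hεsym, hεsum, hεle⟩ := exists_split s hsinv w hw α t e hes hbound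
  have hblk : ∀ k, i * ∑ j, ε k j ≤ 2 * a' := by
    intro k
    calc i * ∑ j, ε k j ≤ i * (w * α) := Nat.mul_le_mul_left _ (hεle k)
      _ = c * α := by rw [hcw]; ring
      _ ≤ 2 * a' := by rw [hα]; exact Nat.mul_div_le _ _
  -- the blocks
  have hblock : ∀ k, ∃ h : symplecticGroup (Fin a') F, h ^ r = 1 ∧
      (h : Matrix (Fin a' ⊕ Fin a') (Fin a' ⊕ Fin a') F).charpoly =
        fe (PPo F r) (fun o => Option.elim o (2 * a' - i * ∑ j, ε k j) (ε k)) := by
    intro k
    by_cases h0 : ε k = 0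
    · refine ⟨1, one_pow _, ?_⟩
      have h1 : ((1 : symplecticGroup (Fin a') F) :
          Matrix (Fin a' ⊕ Fin a') (Fin a' ⊕ Fin a') F) = 1 := rfl
      have h3 : (fun o : Option ↥(cycFactors F r) =>
          Option.elim o (2 * a' - i * ∑ j, ε k j) (ε k)) =
          fun o => Option.elim o (2 * a') (fun _ => 0) := by
        rw [h0]
        funext o
        cases o <;> simp
      rw [h1, Matrix.charpoly_one, h3, fe_PPo_single, Fintype.card_sum, Fintype.card_fin, two_mul]
    · obtain ⟨h, hord, hch⟩ := exists_sp_of_mult p hr2 i hdeg hrF (ε k) (hεsym k) (hblk k) h0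
      exact ⟨h, by rw [← hord]; exact pow_orderOf_eq_one h, hch⟩
  choose h hhr hhch using hblock
  -- the model
  set G : Matrix (Fin d ⊕ Fin d) (Fin d ⊕ Fin d) F :=
    bd hd (fun k => ((h k : symplecticGroup (Fin a') F) :
      Matrix (Fin a' ⊕ Fin a') (Fin a' ⊕ Fin a') F)) with hG
  have hGmem : G ∈ symplecticGroup (Fin d) F := bd_mem hd _ (fun k => (h k).2)
  have hGch : G.charpoly = (y : Matrix (Fin d ⊕ Fin d) (Fin d ⊕ Fin d) F).charpoly := by
    rw [hG, charpoly_bd, he']
    simp_rw [hhch]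
    rw [← fe_sum]
    congr 1
    funext o
    cases o with
    | none =>
      simp only [Option.elim_none]
      rw [Finset.sum_tsub_distrib _ (fun k _ => hblk k), Finset.sum_const, Finset.card_univ,
        Fintype.card_fin, smul_eq_mul, ← Finset.mul_sum, Finset.sum_comm]
      simp_rw [hεsum]
      have : t * (2 * a') = 2 * d := by rw [hd]; ring
      omega
    | some j =>
      simp only [Option.elim_some]
      exact hεsum j
  have hGr : G ^ r = 1 := by
    rw [hG, ← bd_pow]
    have : (fun k => ((h k : symplecticGroup (Fin a') F) :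
        Matrix (Fin a' ⊕ Fin a') (Fin a' ⊕ Fin a') F) ^ r) = fun _ => 1 := by
      funext k
      have := congrArg Subtype.val (hhr k)
      exact this
    rw [this, bd_one]
  set G' : symplecticGroup (Fin d) F := ⟨G, hGmem⟩ with hG'
  have hG'r : G' ^ r = 1 := Subtype.ext hGr
  have hssG := isSemisimple_of_pow_eq_one _ r hrF (toLin'_pow_sp G' r hG'r)
  have hssy := isSemisimple_of_pow_eq_one _ r hrF (toLin'_pow_sp y r hy)
  obtain ⟨u, hu⟩ := isConj_iff.1 (isConj_of_charpoly_eq G' y hssG hssy hGch)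
  refine ⟨fun k => (stdDec F hd k).map
    (Matrix.toLin' (u : Matrix (Fin d ⊕ Fin d) (Fin d ⊕ Fin d) F)),
    isOrthDec_map (2 * a') u (stdDec F hd) (stdDec_isOrthDec hd ht ha), fun k => ?_⟩
  have hyu : y * u = u * G' := by
    rw [← hu]
    group
  rw [← map_mul_sp y u, hyu, map_mul_sp u G']
  congr 1
  exact bd_map_stdDec hd _ (fun k => (h k).2) k

end Suff

end Cfsg.Agent.Lib.Helper8.SpDec
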