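import Mathlib
import Cfsg.Agent.Lib.Helper8.OrbQE

/-! # The Artin--Schreier character sum of a quadratic form in characteristic two: twisting,
the square, totally singular subspaces, and the number of zeros (helper8) -/

set_option autoImplicit false
open Cfsg

namespace Cfsg.Agent.Lib.Helper8.SpOrth

universe u v

open Cfsg.Agent.Lib.Helper8.OrbQ

section Chi

variable {F : Type v} [Field F] [CharP F 2]

theorem chi_cases (c : F) : chi c = 1 ∨ chi c = -1 := by
  by_cases h : IsAS c
  · exact Or.inl (chi_of_isAS h)
  · exact Or.inr (chi_of_not h)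

theorem chi_sq [Finite F] (c : F) : chi (c ^ 2) = chi c := by
  have h := chi_add (c ^ 2) c
  rw [chi_of_isAS (isAS_self c)] at h
  rcases chi_cases (c ^ 2) with h1 | h1 <;> rcases chi_cases c with h2 | h2 <;>
    rw [h1, h2] at h ⊢ <;> omega

theorem isAS_iff_chi (c : F) : IsAS c ↔ chi c = 1 := by
  constructor
  · exact chi_of_isAS
  · intro h
    by_contra hc
    rw [chi_of_not hc] at h
    omega

end Chi

section Sum

variable {F : Type v} [Field F] [Finite F] [CharP F 2] {V : Type u} [AddCommGroup V] [Module F V]
  [Fintype V]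
variable {B : LinearMap.BilinForm F V}

/-- the character sum of a quadratic form -/
noncomputable def SQ (Q' : V → F) : ℤ := ∑ v : V, chi (Q' v)

theorem SQ_comp (Q' : V → F) (g : V ≃ V) : SQ (fun v => Q' (g v)) = SQ Q' :=
  Equiv.sum_comp g (fun v => chi (Q' v))

/-- twisting by `B(w, ·)²` multiplies the character sum by `chi (Q' w)` -/
theorem SQ_Qw {Q' : V → F} (h : IsQF B Q') (hs : ∀ a b, B a b = B b a) (w : V) :
    SQ (Qw B Q' w) = chi (Q' w) * SQ Q' := by
  unfold SQ
  rw [Finset.mul_sum]
  rw [← Equiv.sum_comp (Equiv.addRight w) (fun v => chi (Q' w) * chi (Q' v))]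
  apply Finset.sum_congr rfl
  intro v _
  simp only [Equiv.coe_addRight]
  unfold Qw
  rw [chi_add, chi_sq, ← chi_add, ← chi_add, h.add, hs v w]
  congr 1
  have : Q' w + Q' w = 0 := CharTwo.add_self_eq_zero _
  calc Q' v + B w v = Q' v + B w v + (Q' w + Q' w) := by rw [this, add_zero]
    _ = Q' w + (Q' v + Q' w + B w v) := by ring

/-- the square of the character sum -/
theorem SQ_sq {Q' : V → F} (h : IsQF B Q') (hB : B.Nondegenerate) :
    SQ Q' * SQ Q' = (Fintype.card V : ℤ) := by
  classical
  unfold SQ
  rw [Finset.sum_mul_sum]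
  have h1 : ∀ v : V, ∑ w : V, chi (Q' v) * chi (Q' w) = ∑ t : V, chi (Q' t) * chi (B v t) := by
    intro v
    rw [← Equiv.sum_comp (Equiv.addLeft v) (fun w => chi (Q' v) * chi (Q' w))]
    apply Finset.sum_congr rfl
    intro t _
    simp only [Equiv.coe_addLeft]
    rw [← chi_add, ← chi_add, h.add]
    congr 1
    have : Q' v + Q' v = 0 := CharTwo.add_self_eq_zero _
    calc Q' v + (Q' v + Q' t + B v t) = (Q' v + Q' v) + (Q' t + B v t) := by ring
      _ = Q' t + B v t := by rw [this, zero_add]
  rw [Finset.sum_congr rfl (fun v _ => h1 v), Finset.sum_comm]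
  have h2 : ∀ t : V, ∑ v : V, chi (Q' t) * chi (B v t) =
      if t = 0 then (Fintype.card V : ℤ) else 0 := by
    intro t
    rw [← Finset.mul_sum]
    split_ifs with ht
    · subst ht
      simp only [map_zero]
      rw [h.zero, chi_zero, one_mul]
      simp
    · have : ∑ v : V, chi (B v t) = ∑ v : V, chi (B.flip t v) := by
        apply Finset.sum_congr rfl
        intro v _
        rfl
      rw [this, sum_chi_lin (B.flip t), mul_zero]
      intro h0
      apply ht
      apply hB.2 t
      intro w
      have := LinearMap.congr_fun h0 w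
      exact this
  rw [Finset.sum_congr rfl (fun t _ => h2 t)]
  simp

theorem SQ_eq_or {Q' : V → F} (h : IsQF B Q') (hB : B.Nondegenerate)
    {N : ℕ} (hN : Fintype.card V = N * N) : SQ Q' = (N : ℤ) ∨ SQ Q' = -(N : ℤ) := by
  have h1 := SQ_sq h hB
  rw [hN] at h1
  push_cast at h1
  have h2 : (SQ Q' - N) * (SQ Q' + N) = 0 := by ring_nf; ring_nf at h1; omega
  rcases mul_eq_zero.1 h2 with h3 | h3
  · left; omega
  · right; omega

/-- the number of vectors with norm in the Artin--Schreier image -/
theorem two_mul_card_AS (Q' : V → F) :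
    2 * (Nat.card {w : V // IsAS (Q' w)} : ℤ) = (Fintype.card V : ℤ) + SQ Q' := by
  classical
  unfold SQ
  have h1 : ∀ v : V, chi (Q' v) = 2 * (if IsAS (Q' v) then (1 : ℤ) else 0) - 1 := by
    intro v
    by_cases hv : IsAS (Q' v)
    · rw [chi_of_isAS hv, if_pos hv]; norm_num
    · rw [chi_of_not hv, if_neg hv]; norm_num
  rw [Finset.sum_congr rfl (fun v _ => h1 v), Finset.sum_sub_distrib, ← Finset.mul_sum,
    Finset.sum_boole, Finset.sum_const, Finset.card_univ]
  rw [Nat.card_eq_fintype_card, Fintype.card_subtype]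
  simp

/-- a quadratic form vanishing on a subspace of half the dimension has character sum `|U|` -/
theorem SQ_of_ts {Q' : V → F} (h : IsQF B Q') (hB : B.Nondegenerate)
    (hs : ∀ a b, B a b = B b a) (U : Submodule F V) (hU : ∀ u ∈ U, Q' u = 0)
    (hdim : 2 * Module.finrank F U = Module.finrank F V) :
    SQ Q' = (Nat.card U : ℤ) := by
  classical
  have : Module.Finite F V := Module.Finite.of_finite
  have hrefl : B.IsRefl := fun a b hab => by rw [hs b a]; exact hab
  -- `U` is its own orthogonal
  have hUle : U ≤ B.orthogonal U := by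
    intro u hu
    rw [LinearMap.BilinForm.mem_orthogonal_iff]
    intro n hn
    show B n u = 0
    have h1 := h.add n u
    rw [hU n hn, hU u hu, hU (n + u) (U.add_mem hn hu)] at h1
    simpa using h1.symm
  have hUeq : U = B.orthogonal U := by
    apply Submodule.eq_of_le_of_finrank_eq hUle
    rw [LinearMap.BilinForm.finrank_orthogonal hB]
    omega
  have hfinU : Fintype U := Fintype.ofFinite U
  -- shifting by `u ∈ U`
  have h1 : ∀ u : U, SQ Q' = ∑ v : V, chi (Q' v) * chi (B v u) := by
    intro u
    unfold SQ
    rw [← Equiv.sum_comp (Equiv.addRight (u : V)) (fun v => chi (Q' v))]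
    apply Finset.sum_congr rfl
    intro v _
    simp only [Equiv.coe_addRight]
    rw [h.add, hU u u.2, add_zero, chi_add]
  have h2 : (Fintype.card U : ℤ) * SQ Q' =
      ∑ v : V, chi (Q' v) * ∑ u : U, chi (B v u) := by
    have : (Fintype.card U : ℤ) * SQ Q' = ∑ _u : U, SQ Q' := by
      rw [Finset.sum_const, Finset.card_univ]; simp
    rw [this, Finset.sum_congr rfl (fun u _ => h1 u), Finset.sum_comm]
    apply Finset.sum_congr rfl
    intro v _
    rw [Finset.mul_sum]
  have h3 : ∀ v : V, chi (Q' v) * ∑ u : U, chi (B v u) =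
      if v ∈ U then (Fintype.card U : ℤ) else 0 := by
    intro v
    split_ifs with hv
    · rw [hU v hv, chi_zero, one_mul]
      have : ∀ u : U, chi (B v u) = 1 := by
        intro u
        have h0 : B v u = 0 := by
          have := hUle u.2
          rw [LinearMap.BilinForm.mem_orthogonal_iff] at this
          exact this v hv
        rw [h0, chi_zero]
      rw [Finset.sum_congr rfl (fun u _ => this u), Finset.sum_const, Finset.card_univ]
      simp
    · have hne : (B v).domRestrict U ≠ 0 := by
        intro h0
        apply hv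
        rw [hUeq, LinearMap.BilinForm.mem_orthogonal_iff]
        intro n hn
        show B n v = 0
        rw [hs n v]
        exact LinearMap.congr_fun h0 ⟨n, hn⟩
      have : ∑ u : U, chi (B v u) = ∑ u : U, chi ((B v).domRestrict U u) := rfl
      rw [this, sum_chi_lin _ hne, mul_zero]
  rw [Finset.sum_congr rfl (fun v _ => h3 v)] at h2
  have h4 : ∑ v : V, (if v ∈ U then (Fintype.card U : ℤ) else 0) =
      (Fintype.card U : ℤ) * (Fintype.card U : ℤ) := by
    rw [← Finset.sum_filter, Finset.sum_const]
    have : (Finset.univ.filter (fun v : V => v ∈ U)).card = Fintype.card U := by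
      rw [Fintype.card_subtype]
    rw [this]
    simp
  rw [h4] at h2
  have hpos : (Fintype.card U : ℤ) ≠ 0 := by
    have : 0 < Fintype.card U := Fintype.card_pos
    omega
  rw [Nat.card_eq_fintype_card]
  exact mul_left_cancel₀ hpos h2

/-- the number of zeros of a quadratic form through its character sum -/
theorem card_zero_mul {Q' : V → F} (h : IsQF B Q') :
    (Nat.card F : ℤ) * (Nat.card {v : V // Q' v = 0} : ℤ) =
      (Fintype.card V : ℤ) + ((Nat.card F : ℤ) - 1) * SQ Q' := by
  classical
  have hF : Fintype F := Fintype.ofFinite F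
  have h2 : (2 : F) = 0 := CharTwo.two_eq_zero
  choose sq hsq' using fun d : F => Cfsg.Agent.Lib.Helper8.SpInv.sq_surj' h2 d
  -- the double sum
  have hc : ∀ c : F, ∑ v : V, chi (c * Q' v) =
      if c = 0 then (Fintype.card V : ℤ) else SQ Q' := by
    intro c
    split_ifs with hc0
    · subst hc0
      simp only [zero_mul]
      rw [chi_zero]; simp
    · have hs0 : sq c ≠ 0 := by
        intro h0
        apply hc0
        rw [← hsq' c, h0, mul_zero]
      unfold SQ
      rw [← Equiv.sum_comp (LinearEquiv.smulOfNeZero F V (sq c) hs0).toEquiv (fun v => chi (Q' v))]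
      apply Finset.sum_congr rfl
      intro v _
      show chi (c * Q' v) = chi (Q' (sq c • v))
      rw [h.smul, pow_two, hsq']
  have hv : ∀ v : V, ∑ c : F, chi (c * Q' v) =
      if Q' v = 0 then (Fintype.card F : ℤ) else 0 := by
    intro v
    split_ifs with hv0
    · rw [hv0]
      simp only [mul_zero]
      rw [chi_zero]; simp
    · have hne : (LinearMap.mulRight F (Q' v) : F →ₗ[F] F) ≠ 0 := by
        intro h0
        apply hv0
        have := LinearMap.congr_fun h0 1
        simpa using this
      have := sum_chi_lin (LinearMap.mulRight F (Q' v) : F →ₗ[F] F) hne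
      simpa using this
  have hd : ∑ c : F, ∑ v : V, chi (c * Q' v) = ∑ v : V, ∑ c : F, chi (c * Q' v) :=
    Finset.sum_comm
  rw [Finset.sum_congr rfl (fun c _ => hc c), Finset.sum_congr rfl (fun v _ => hv v)] at hd
  rw [Finset.sum_ite, Finset.sum_const, Finset.sum_const] at hd
  rw [Finset.sum_ite, Finset.sum_const, Finset.sum_const_zero, add_zero] at hd
  have hz : (Finset.univ.filter (fun c : F => c = 0)).card = 1 := by
    rw [Finset.filter_eq' Finset.univ (0 : F)]
    simp
  have hnz : (Finset.univ.filter (fun c : F => ¬ c = 0)).card = Fintype.card F - 1 := by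
    rw [Finset.filter_not, Finset.card_sdiff_of_subset (Finset.subset_univ _), hz, Finset.card_univ]
  have hFpos : 0 < Fintype.card F := Fintype.card_pos
  rw [hz, hnz] at hd
  rw [Nat.card_eq_fintype_card, Nat.card_eq_fintype_card, Fintype.card_subtype]
  simp only [nsmul_eq_mul, Nat.cast_one, one_mul] at hd
  rw [Nat.cast_sub hFpos] at hd
  push_cast at hd
  linarith [hd]

end Sum

end Cfsg.Agent.Lib.Helper8.SpOrth
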