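import Mathlib
import Cfsg.Agent.Lib.Helper8.SpOrthA
import Cfsg.Agent.Lib.Helper8.SpInvC

/-! # Quadratic forms invariant under an involution of the symplectic group in characteristic
two, and the zeros of a form invariant under a fixed-point-free element (helper8) -/

set_option autoImplicit false
open Cfsg

namespace Cfsg.Agent.Lib.Helper8.SpOrth

universe u v

open Cfsg.Agent.Lib.Helper8.OrbQ

section Inv

variable {F : Type v} [Field F] [Finite F] [CharP F 2] {V : Type u} [AddCommGroup V] [Module F V]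
  [Fintype V]
variable {B : LinearMap.BilinForm F V}

/-- an involution preserving the polar form fixes one of the quadratic forms -/
theorem exists_invariant_Qw (hB : B.Nondegenerate) (hs : ∀ a b, B a b = B b a)
    {Q' : V → F} (h : IsQF B Q') (t : V →ₗ[F] V) (hiso : ∀ x y, B (t x) (t y) = B x y)
    (hsq : ∀ x, t (t x) = x) : ∃ w₀ : V, ∀ v, Qw B Q' w₀ (t v) = Qw B Q' w₀ v := by
  have hfin : Module.Finite F V := Module.Finite.of_finite
  have h2 : (2 : F) = 0 := CharTwo.two_eq_zero
  obtain ⟨c₀, hc₀⟩ := exists_sqrt_form hB (fun v => Q' (t v) + Q' v)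
    (by
      intro u v
      simp only [map_add]
      rw [h.add, h.add, hiso]
      linear_combination (B u v) * h2)
    (by
      intro c v
      simp only [map_smul]
      rw [h.smul, h.smul]
      ring)
  set N : V →ₗ[F] V := t - LinearMap.id with hN
  have hNx : ∀ x, N x = t x - x := fun x => by rw [hN]; simp
  -- `c₀` is orthogonal to the fixed space
  have h1 : c₀ ∈ B.orthogonal (LinearMap.ker N) := by
    rw [LinearMap.BilinForm.mem_orthogonal_iff]
    intro v hv
    show B v c₀ = 0
    rw [LinearMap.mem_ker, hNx, sub_eq_zero] at hv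
    have := hc₀ v
    rw [hv, CharTwo.add_self_eq_zero] at this
    rw [hs]
    exact pow_eq_zero_iff (by norm_num) |>.1 this
  have h3 : LinearMap.range N ≤ B.orthogonal (LinearMap.ker N) := by
    rintro _ ⟨u, rfl⟩
    rw [LinearMap.BilinForm.mem_orthogonal_iff]
    intro v hv
    show B v (N u) = 0
    rw [LinearMap.mem_ker, hNx, sub_eq_zero] at hv
    rw [hNx, map_sub]
    nth_rewrite 1 [← hv]
    rw [hiso, sub_self]
  have h4 : LinearMap.range N = B.orthogonal (LinearMap.ker N) := by
    apply Submodule.eq_of_le_of_finrank_eq h3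
    rw [LinearMap.BilinForm.finrank_orthogonal hB]
    have := LinearMap.finrank_range_add_finrank_ker N
    omega
  rw [← h4] at h1
  obtain ⟨w₀, hw₀⟩ := h1
  refine ⟨w₀, fun v => ?_⟩
  have h5 := hc₀ v
  rw [← hw₀, hNx, map_sub, LinearMap.sub_apply] at h5
  have h6 : B (t w₀) v = B w₀ (t v) := by
    have := hiso (t w₀) v
    rw [hsq] at this
    exact this.symm
  rw [h6] at h5
  unfold Qw
  linear_combination (-1 : F) * h5 + (B w₀ (t v) ^ 2 - B w₀ (t v) * B w₀ v - Q' v) * h2

/-- an involution preserving the polar form fixes one of the quadratic forms in the orbit of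
`Q'`, when `Q'` is of plus type or the dimension is twice an odd number -/
theorem exists_AS_invariant (hB : B.Nondegenerate) (hA : B.IsAlt) (hs : ∀ a b, B a b = B b a)
    {Q' : V → F} (h : IsQF B Q') (t : V →ₗ[F] V) (hiso : ∀ x y, B (t x) (t y) = B x y)
    (hsq : ∀ x, t (t x) = x)
    (hcase : (∃ U : Submodule F V, (∀ u ∈ U, Q' u = 0) ∧
        2 * Module.finrank F U = Module.finrank F V) ∨
      (∃ d : ℕ, Odd d ∧ Module.finrank F V = 2 * d)) :
    ∃ w : V, IsAS (Q' w) ∧ ∀ v, Qw B Q' w (t v) = Qw B Q' w v := by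
  classical
  have hfin : Module.Finite F V := Module.Finite.of_finite
  have h2 : (2 : F) = 0 := CharTwo.two_eq_zero
  obtain ⟨w₀, hw₀⟩ := exists_invariant_Qw hB hs h t hiso hsq
  by_cases has : IsAS (Q' w₀)
  · exact ⟨w₀, has, hw₀⟩
  have hQ'' : IsQF B (Qw B Q' w₀) := h.qw w₀
  by_cases hz : ∃ z : V, t z = z ∧ ¬ IsAS (Qw B Q' w₀ z)
  · obtain ⟨z, htz, hz⟩ := hz
    refine ⟨w₀ + z, ?_, ?_⟩
    · rw [isAS_iff_chi, h.add, chi_add, chi_add, chi_of_not has]
      have : chi (Qw B Q' w₀ z) = -1 := chi_of_not hz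
      unfold Qw at this
      rw [chi_add, chi_sq] at this
      rw [mul_assoc, this]
      norm_num
    · intro v
      rw [← Qw_Qw]
      show Qw B Q' w₀ (t v) + (B z (t v)) ^ 2 = Qw B Q' w₀ v + (B z v) ^ 2
      rw [hw₀]
      nth_rewrite 1 [← htz]
      rw [hiso]
  exfalso
  push Not at hz
  set Q'' := Qw B Q' w₀ with hQ''def
  set N : V →ₗ[F] V := t - LinearMap.id with hN
  have hNx : ∀ x, N x = t x - x := fun x => by rw [hN]; simp
  -- `Q''` vanishes on the fixed space
  have hK : ∀ z ∈ LinearMap.ker N, Q'' z = 0 := by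
    intro z hz'
    rw [LinearMap.mem_ker, hNx, sub_eq_zero] at hz'
    by_contra hne
    obtain ⟨e, he⟩ := exists_not_isAS (F := F)
    obtain ⟨c, hc⟩ := Cfsg.Agent.Lib.Helper8.SpInv.sq_surj' h2 (e / Q'' z)
    apply he
    have h1 := hz (c • z) (by rw [map_smul, hz'])
    rw [hQ''.smul, pow_two, hc, div_mul_cancel₀ _ hne] at h1
    exact h1
  have hNN := Cfsg.Agent.Lib.Helper8.SpInv.N_sq h2 t N hNx hsq
  have hrk : LinearMap.range N ≤ LinearMap.ker N := by
    rintro _ ⟨u, rfl⟩
    rw [LinearMap.mem_ker]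
    exact hNN u
  have hrn := LinearMap.finrank_range_add_finrank_ker N
  have hKK : LinearMap.ker N ≤ B.orthogonal (LinearMap.ker N) := by
    intro u hu
    rw [LinearMap.BilinForm.mem_orthogonal_iff]
    intro n hn
    show B n u = 0
    have h1 := hQ''.add n u
    rw [hK n hn, hK u hu, hK (n + u) (Submodule.add_mem _ hn hu)] at h1
    simpa using h1.symm
  have h5 := Submodule.finrank_mono hKK
  rw [LinearMap.BilinForm.finrank_orthogonal hB] at h5
  have h6 := Submodule.finrank_mono hrk
  have hdim : 2 * Module.finrank F (LinearMap.ker N) = Module.finrank F V := by omega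
  have hSQ : SQ Q'' = (Nat.card (LinearMap.ker N) : ℤ) := SQ_of_ts hQ'' hB hs _ hK hdim
  rw [hQ''def, SQ_Qw h hs, chi_of_not has] at hSQ
  rcases hcase with ⟨U, hU, hUdim⟩ | ⟨d, hd, hVd⟩
  · have h7 := SQ_of_ts h hB hs U hU hUdim
    rw [h7] at hSQ
    have h8 : Nat.card U = Nat.card (LinearMap.ker N) := by
      rw [Module.natCard_eq_pow_finrank (K := F), Module.natCard_eq_pow_finrank (K := F) (V := LinearMap.ker N)]
      congr 1
      omega
    rw [h8] at hSQ
    have : 0 < Nat.card (LinearMap.ker N) := Nat.card_pos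
    omega
  · have halt : ∀ v, B v (t v) = 0 := by
      intro v
      have h1 := hw₀ v
      have h7 : t v = v + N v := by rw [hNx]; abel
      rw [h7, hQ''.add, hK (N v) (hrk ⟨v, rfl⟩)] at h1
      rw [h7, map_add, hA v, zero_add]
      have : Q'' v + 0 + B v (N v) = Q'' v := h1
      linear_combination this
    obtain ⟨k, hk, -⟩ := Cfsg.Agent.Lib.Helper8.SpInv.exists_NF_alt hB hA h2 t N hNx hiso hsq halt
    obtain ⟨j, hj⟩ := hd
    omega

end Inv

section Count

variable {F : Type v} [Field F] {V : Type u} [AddCommGroup V] [Finite V]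

/-- a fixed-point-free map of prime order preserving a function acts semiregularly on its nonzero
zeros -/
theorem dvd_card_zeros (Q' : V → F) (r : ℕ) [Fact r.Prime] (f : V → V)
    (hfr : ∀ v, f^[r] v = v) (hfix : ∀ v, f v = v → v = 0) (hf0 : f 0 = 0)
    (hQ : ∀ v, Q' (f v) = Q' v) :
    r ∣ Nat.card {v : V // Q' v = 0 ∧ v ≠ 0} := by
  classical
  have hfinV : Fintype V := Fintype.ofFinite V
  have hinj : Function.Injective f := by
    intro a b hab
    have : f^[r] a = f^[r] b := by
      have hr : r = (r - 1) + 1 := by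
        have := (Fact.out : r.Prime).pos
        omega
      rw [hr, Function.iterate_succ_apply, Function.iterate_succ_apply, hab]
    rw [hfr, hfr] at this
    exact this
  have hbij : Function.Bijective f := Finite.injective_iff_bijective.1 hinj
  let e : V ≃ V := Equiv.ofBijective f hbij
  let σ : Equiv.Perm {v : V // Q' v = 0 ∧ v ≠ 0} :=
    e.subtypeEquiv (fun a => by
      show (Q' a = 0 ∧ a ≠ 0) ↔ (Q' (f a) = 0 ∧ f a ≠ 0)
      rw [hQ]
      constructor
      · rintro ⟨h1, h2⟩
        refine ⟨h1, fun h3 => h2 ?_⟩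
        apply hinj
        rw [h3, hf0]
      · rintro ⟨h1, h2⟩
        refine ⟨h1, fun h3 => h2 ?_⟩
        rw [h3, hf0])
  have hσk : ∀ (k : ℕ) (v : {v : V // Q' v = 0 ∧ v ≠ 0}), ((σ ^ k) v).1 = f^[k] v.1 := by
    intro k
    induction k with
    | zero => intro v; simp
    | succ k ih =>
      intro v
      rw [pow_succ, Equiv.Perm.mul_apply, ih, Function.iterate_succ_apply]
      rfl
  have hσr : σ ^ r ^ 1 = 1 := by
    rw [pow_one]
    ext v
    rw [hσk, hfr]
    rfl
  by_contra hnd
  rw [Nat.card_eq_fintype_card] at hnd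
  obtain ⟨a, ha⟩ := Equiv.Perm.exists_fixed_point_of_prime hnd hσr
  have : f a.1 = a.1 := congrArg Subtype.val ha
  exact a.2.2 (hfix _ this)

end Count

end Cfsg.Agent.Lib.Helper8.SpOrth
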