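import Mathlib
import Cfsg.Agent.Lib.Helper8.SpOrthB
import Cfsg.Agent.Lib.Helper8.OrbQB
import Cfsg.Agent.S0270
import Cfsg.Prelude.Def_GeometricClasses

/-! # The index of the orthogonal group in the symplectic group in characteristic two, and
involutions fixing a quadratic form of the orbit (helper8) -/

set_option autoImplicit false
set_option linter.unusedSectionVars false
open Cfsg

namespace Cfsg.Agent.Lib.Helper8.SpOrth

open Matrix Cfsg.Agent.Lib.Helper8.OrbQ Cfsg.Agent.S0245 Cfsg.Agent.Lib.Helper5.Symp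

section Concrete

variable {F : Type*} [Field F] [CharP F 2] {d : ℕ}

theorem isQF_of (Q : (Fin d ⊕ Fin d → F) → F) (hQ : Cfsg.Geo.IsNondegenerateQuadraticForm Q)
    (hQf : ∀ u v, QuadraticMap.polar Q u v = Cfsg.sympForm d F u v) :
    IsQF (sympBilin (F := F) d) Q := by
  constructor
  · intro u v
    rw [sympBilin_apply, ← hQf]
    unfold QuadraticMap.polar
    ring
  · exact hQ.smul

/-- a symplectic similarity of the quadratic form is an isometry -/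
theorem iso_of_mem {Q : (Fin d ⊕ Fin d → F) → F} (h : IsQF (sympBilin (F := F) d) Q) (hd : 0 < d)
    (x : GL (Fin d ⊕ Fin d) F) (hx : x ∈ Cfsg.spGL d F)
    (hxs : x ∈ Cfsg.Geo.quadSimilarityGroup Q) (v : Fin d ⊕ Fin d → F) :
    Q ((x : Matrix (Fin d ⊕ Fin d) (Fin d ⊕ Fin d) F) *ᵥ v) = Q v := by
  obtain ⟨c, hc⟩ := hxs
  have hne : (Pi.single (Sum.inl ⟨0, hd⟩) 1 : Fin d ⊕ Fin d → F) ≠ 0 := by
    intro h0
    have := congrFun h0 (Sum.inl ⟨0, hd⟩)
    simp at this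
  obtain ⟨w, hw⟩ := exists_sympForm_ne_zero d hne
  set u : Fin d ⊕ Fin d → F := Pi.single (Sum.inl ⟨0, hd⟩) 1
  have h1 := h.add ((x : Matrix (Fin d ⊕ Fin d) (Fin d ⊕ Fin d) F) *ᵥ u)
    ((x : Matrix (Fin d ⊕ Fin d) (Fin d ⊕ Fin d) F) *ᵥ w)
  have h2 := h.add u w
  rw [← Matrix.mulVec_add, hc, hc, hc, sympBilin_apply] at h1
  have h3 : Cfsg.sympForm d F ((x : Matrix (Fin d ⊕ Fin d) (Fin d ⊕ Fin d) F) *ᵥ u)
      ((x : Matrix (Fin d ⊕ Fin d) (Fin d ⊕ Fin d) F) *ᵥ w) = Cfsg.sympForm d F u w := hx u w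
  rw [h3] at h1
  rw [sympBilin_apply] at h2
  have h4 : ((c : F) - 1) * Cfsg.sympForm d F u w = 0 := by
    linear_combination h1 - (c : F) * h2
  rcases mul_eq_zero.1 h4 with h5 | h5
  · rw [hc, sub_eq_zero.1 h5, one_mul]
  · exact absurd h5 hw

theorem finrank_V : Module.finrank F (Fin d ⊕ Fin d → F) = 2 * d := by
  rw [Module.finrank_fintype_fun_eq_card, Fintype.card_sum, Fintype.card_fin]
  ring

variable [Fintype F]

/-- the quadratic forms in the orbit of `Q` under the symplectic group -/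
theorem exists_w_of_mem {Q : (Fin d ⊕ Fin d → F) → F} (h : IsQF (sympBilin (F := F) d) Q)
    (hd : 0 < d) (x : GL (Fin d ⊕ Fin d) F) (hx : x ∈ Cfsg.spGL d F) :
    ∃ w : Fin d ⊕ Fin d → F, IsAS (Q w) ∧
      ∀ v, Q ((x : Matrix (Fin d ⊕ Fin d) (Fin d ⊕ Fin d) F) *ᵥ v) = Qw (sympBilin d) Q w v := by
  have h2 : (2 : F) = 0 := CharTwo.two_eq_zero
  obtain ⟨w, hw⟩ := exists_sqrt_form (sympBilin_nondegenerate (F := F) d)
    (fun v => Q ((x : Matrix (Fin d ⊕ Fin d) (Fin d ⊕ Fin d) F) *ᵥ v) + Q v)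
    (by
      intro u v
      have hxuv : Cfsg.sympForm d F ((x : Matrix (Fin d ⊕ Fin d) (Fin d ⊕ Fin d) F) *ᵥ u)
          ((x : Matrix (Fin d ⊕ Fin d) (Fin d ⊕ Fin d) F) *ᵥ v) = Cfsg.sympForm d F u v := hx u v
      rw [Matrix.mulVec_add, h.add, h.add, sympBilin_apply, sympBilin_apply, hxuv]
      linear_combination (Cfsg.sympForm d F u v) * h2)
    (by
      intro c v
      rw [Matrix.mulVec_smul, h.smul, h.smul]
      ring)
  have hw' : ∀ v, Q ((x : Matrix (Fin d ⊕ Fin d) (Fin d ⊕ Fin d) F) *ᵥ v) =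
      Qw (sympBilin d) Q w v := by
    intro v
    unfold Qw
    rw [hw v]
    linear_combination (-Q v) * h2
  refine ⟨w, ?_, hw'⟩
  have hbij : Function.Bijective
      (fun v => (x : Matrix (Fin d ⊕ Fin d) (Fin d ⊕ Fin d) F) *ᵥ v) := by
    refine Function.bijective_iff_has_inverse.2
      ⟨fun v => ((x⁻¹ : GL (Fin d ⊕ Fin d) F) : Matrix (Fin d ⊕ Fin d) (Fin d ⊕ Fin d) F) *ᵥ v,
        fun v => ?_, fun v => ?_⟩
    · simp only
      rw [Matrix.mulVec_mulVec, ← Units.val_mul, inv_mul_cancel, Units.val_one, Matrix.one_mulVec]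
    · simp only
      rw [Matrix.mulVec_mulVec, ← Units.val_mul, mul_inv_cancel, Units.val_one, Matrix.one_mulVec]
  exact arf (sympBilin_nondegenerate (F := F) d) (sympBilin_isAlt d) (sympBilin_symm)
    (by rw [finrank_V]; omega) h _ hbij w hw'

/-- the forms `Qw w` with `Q w` in the Artin--Schreier image are in the orbit -/
theorem exists_mem_of_isAS {Q : (Fin d ⊕ Fin d → F) → F} (h : IsQF (sympBilin (F := F) d) Q)
    (w : Fin d ⊕ Fin d → F) (hw : IsAS (Q w)) :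
    ∃ g : ↥(Cfsg.spGL d F), (g * g = 1) ∧
      ∀ v, Q (((g : GL (Fin d ⊕ Fin d) F) : Matrix (Fin d ⊕ Fin d) (Fin d ⊕ Fin d) F) *ᵥ v) =
        Qw (sympBilin d) Q w v := by
  obtain ⟨a, ha⟩ := exists_tv h sympBilin_symm w hw
  have hmv : ∀ v, (((Cfsg.Agent.S0270.toSp d (sympT d w a) : ↥(Cfsg.spGL d F)) :
      GL (Fin d ⊕ Fin d) F) : Matrix (Fin d ⊕ Fin d) (Fin d ⊕ Fin d) F) *ᵥ v =
      tv (sympBilin d) w a v := by
    intro v
    rw [tv_apply, sympBilin_apply]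
    exact sympTransvection_mulVec d w a v
  refine ⟨Cfsg.Agent.S0270.toSp d (sympT d w a), ?_, ?_⟩
  · rw [← map_mul]
    have : sympT d w a * sympT d w a = 1 := by
      apply Subtype.ext
      show sympTransvection d w a * sympTransvection d w a = 1
      rw [sympTransvection_mul, CharTwo.add_self_eq_zero, sympTransvection_zero]
    rw [this, map_one]
  · intro v
    rw [hmv, ha]

/-- the index of the orthogonal group in the symplectic group -/
theorem relIndex_eq {Q : (Fin d ⊕ Fin d → F) → F} (h : IsQF (sympBilin (F := F) d) Q)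
    (hd : 0 < d) :
    (Cfsg.Geo.quadSimilarityGroup Q).relIndex (Cfsg.spGL d F) =
      Nat.card {w : Fin d ⊕ Fin d → F // IsAS (Q w)} := by
  have h2 : (2 : F) = 0 := CharTwo.two_eq_zero
  set H := (Cfsg.Geo.quadSimilarityGroup Q).subgroupOf (Cfsg.spGL d F) with hH
  let Φ : ↥(Cfsg.spGL d F) → ((Fin d ⊕ Fin d → F) → F) := fun g v =>
    Q (((g : GL (Fin d ⊕ Fin d) F) : Matrix (Fin d ⊕ Fin d) (Fin d ⊕ Fin d) F) *ᵥ v)
  have hcancel : ∀ (g : ↥(Cfsg.spGL d F)) (v : Fin d ⊕ Fin d → F),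
      (((g⁻¹ : ↥(Cfsg.spGL d F)) : GL (Fin d ⊕ Fin d) F) :
        Matrix (Fin d ⊕ Fin d) (Fin d ⊕ Fin d) F) *ᵥ
      ((((g : GL (Fin d ⊕ Fin d) F)) : Matrix (Fin d ⊕ Fin d) (Fin d ⊕ Fin d) F) *ᵥ v) = v := by
    intro g v
    rw [Matrix.mulVec_mulVec, ← Units.val_mul, ← Subgroup.coe_mul, inv_mul_cancel,
      Subgroup.coe_one, Units.val_one, Matrix.one_mulVec]
  have hcancel' : ∀ (g : ↥(Cfsg.spGL d F)) (v : Fin d ⊕ Fin d → F),
      ((((g : GL (Fin d ⊕ Fin d) F)) : Matrix (Fin d ⊕ Fin d) (Fin d ⊕ Fin d) F) *ᵥ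
      ((((g⁻¹ : ↥(Cfsg.spGL d F)) : GL (Fin d ⊕ Fin d) F) :
        Matrix (Fin d ⊕ Fin d) (Fin d ⊕ Fin d) F) *ᵥ v)) = v := by
    intro g v
    rw [Matrix.mulVec_mulVec, ← Units.val_mul, ← Subgroup.coe_mul, mul_inv_cancel,
      Subgroup.coe_one, Units.val_one, Matrix.one_mulVec]
  have hmul : ∀ (g k : ↥(Cfsg.spGL d F)) (v : Fin d ⊕ Fin d → F),
      ((((g * k : ↥(Cfsg.spGL d F)) : GL (Fin d ⊕ Fin d) F)) :
        Matrix (Fin d ⊕ Fin d) (Fin d ⊕ Fin d) F) *ᵥ v =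
      ((((g : GL (Fin d ⊕ Fin d) F)) : Matrix (Fin d ⊕ Fin d) (Fin d ⊕ Fin d) F) *ᵥ
      ((((k : GL (Fin d ⊕ Fin d) F)) : Matrix (Fin d ⊕ Fin d) (Fin d ⊕ Fin d) F) *ᵥ v)) := by
    intro g k v
    rw [Matrix.mulVec_mulVec, ← Units.val_mul, ← Subgroup.coe_mul]
  have hΦ : ∀ g k : ↥(Cfsg.spGL d F), Φ g = Φ k ↔ g * k⁻¹ ∈ H := by
    intro g k
    rw [hH, Subgroup.mem_subgroupOf]
    constructor
    · intro hgk
      refine ⟨1, fun v => ?_⟩
      rw [Units.val_one, one_mul, hmul]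
      have := congrFun hgk ((((k⁻¹ : ↥(Cfsg.spGL d F)) : GL (Fin d ⊕ Fin d) F) :
        Matrix (Fin d ⊕ Fin d) (Fin d ⊕ Fin d) F) *ᵥ v)
      simp only [Φ] at this
      rw [this, hcancel']
    · intro hgk
      funext v
      have := iso_of_mem h hd _ (g * k⁻¹).2 hgk
        ((((k : GL (Fin d ⊕ Fin d) F)) : Matrix (Fin d ⊕ Fin d) (Fin d ⊕ Fin d) F) *ᵥ v)
      rw [hmul, hcancel] at this
      exact this
  have h1 := card_eq_card_range_mul H Φ hΦ
  have h3 := Subgroup.index_mul_card H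
  have hpos : 0 < Nat.card H := Nat.card_pos
  have h4 : H.index = Nat.card (Set.range Φ) := by
    rw [h1] at h3
    exact Nat.eq_of_mul_eq_mul_right hpos h3
  show H.index = _
  rw [h4]
  symm
  refine Nat.card_congr (Equiv.ofBijective
    (fun w : {w : Fin d ⊕ Fin d → F // IsAS (Q w)} =>
      (⟨Qw (sympBilin d) Q w.1, by
        obtain ⟨g, -, hg⟩ := exists_mem_of_isAS h w.1 w.2
        exact ⟨g, funext hg⟩⟩ : Set.range Φ)) ⟨?_, ?_⟩)
  · intro w w' hww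
    have h5 : Qw (sympBilin d) Q w.1 = Qw (sympBilin d) Q w'.1 := congrArg Subtype.val hww
    apply Subtype.ext
    rw [← sub_eq_zero]
    apply (sympBilin_nondegenerate (F := F) d).1
    intro v
    have h6 := congrFun h5 v
    unfold Qw at h6
    have h7 : (sympBilin d w.1 v) ^ 2 = (sympBilin d w'.1 v) ^ 2 := add_left_cancel h6
    rw [map_sub, LinearMap.sub_apply, sub_eq_zero]
    exact CharTwo.sq_inj.1 h7
  · rintro ⟨_, g, rfl⟩
    obtain ⟨w, hw, hgw⟩ := exists_w_of_mem h hd g.1 g.2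
    refine ⟨⟨w, hw⟩, Subtype.ext ?_⟩
    funext v
    exact (hgw v).symm

/-- twice the index is `q^{2d} + S(Q)` -/
theorem two_mul_relIndex {Q : (Fin d ⊕ Fin d → F) → F} (h : IsQF (sympBilin (F := F) d) Q)
    (hd : 0 < d) :
    2 * ((Cfsg.Geo.quadSimilarityGroup Q).relIndex (Cfsg.spGL d F) : ℤ) =
      (Fintype.card (Fin d ⊕ Fin d → F) : ℤ) + SQ Q := by
  rw [relIndex_eq h hd]
  exact two_mul_card_AS Q

end Concrete

end Cfsg.Agent.Lib.Helper8.SpOrth
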