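import Mathlib
import Cfsg.Agent.Lib.Helper8.SpOrthC

/-! # Symplectic groups in characteristic two acting on the cosets of an orthogonal group:
transported forms, invariant forms of particular elements (helper8) -/

set_option autoImplicit false
set_option linter.unusedSectionVars false
open Cfsg

namespace Cfsg.Agent.Lib.Helper8.SpOrth

open Matrix Cfsg.Agent.Lib.Helper8.OrbQ Cfsg.Agent.S0245 Cfsg.Agent.Lib.Helper5.Symp

section NT

theorem nt_core {q d r : ℕ} [hr : Fact r.Prime] (hrq : ¬ r ∣ q) (R : ℕ) (ε : ℤ)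
    (hR : 2 * (R : ℤ) = (q : ℤ) ^ (2 * d) + ε * (q : ℤ) ^ d) (hrR : r ∣ R) :
    ((q : ZMod r)) ^ d = -(ε : ZMod r) := by
  have h1 := congrArg (Int.cast : ℤ → ZMod r) hR
  push_cast at h1
  rw [(ZMod.natCast_eq_zero_iff R r).2 hrR, mul_zero] at h1
  have hq0 : (q : ZMod r) ≠ 0 := fun h => hrq ((ZMod.natCast_eq_zero_iff q r).1 h)
  have hN0 : (q : ZMod r) ^ d ≠ 0 := pow_ne_zero _ hq0
  have h2 : (q : ZMod r) ^ d * ((q : ZMod r) ^ d + (ε : ZMod r)) = 0 := by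
    rw [pow_mul'] at h1
    linear_combination -h1
  rcases mul_eq_zero.1 h2 with h3 | h3
  · exact absurd h3 hN0
  · exact eq_neg_of_add_eq_zero_left h3

theorem nt_count {q d r : ℕ} [hr : Fact r.Prime] (hr2 : r ≠ 2) (Z' : ℕ) (ε : ℤ)
    (hε : ε = 1 ∨ ε = -1) (hN : ((q : ZMod r)) ^ d = -(ε : ZMod r))
    (hZ : (q : ℤ) * (1 + (Z' : ℤ)) = (q : ℤ) ^ (2 * d) + ((q : ℤ) - 1) * (ε * (q : ℤ) ^ d))
    (hrZ : r ∣ Z') : (q : ZMod r) = 1 ∧ ε = -1 := by
  have h1 := congrArg (Int.cast : ℤ → ZMod r) hZ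
  push_cast at h1
  rw [(ZMod.natCast_eq_zero_iff Z' r).2 hrZ, add_zero, mul_one, pow_mul', hN] at h1
  have h20 : (2 : ZMod r) ≠ 0 := by
    intro h
    have : ((2 : ℕ) : ZMod r) = 0 := by exact_mod_cast h
    rw [ZMod.natCast_eq_zero_iff] at this
    exact hr2 ((Nat.prime_dvd_prime_iff_eq hr.out Nat.prime_two).1 this)
  have hε2 : (ε : ZMod r) ^ 2 = 1 := by
    rcases hε with h | h <;> rw [h] <;> norm_num
  have hq1 : (q : ZMod r) = 1 := by
    have : (2 : ZMod r) * ((q : ZMod r) - 1) = 0 := by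
      linear_combination h1 - ((q : ZMod r) - 2) * hε2
    rcases mul_eq_zero.1 this with h | h
    · exact absurd h h20
    · exact sub_eq_zero.1 h
  refine ⟨hq1, ?_⟩
  rcases hε with h | h
  · exfalso
    rw [hq1, one_pow, h] at hN
    apply h20
    push_cast at hN
    linear_combination hN
  · exact h

end NT

section Concrete

variable {F : Type*} [Field F] [CharP F 2] {d : ℕ}

/-- scalars of the symplectic group are trivial in characteristic two -/
theorem scalar_eq_one (hd : 0 < d) (x : GL (Fin d ⊕ Fin d) F) (hx : x ∈ Cfsg.spGL d F) (z : F)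
    (hz : (x : Matrix (Fin d ⊕ Fin d) (Fin d ⊕ Fin d) F) = z • 1) : z = 1 := by
  have hne : (Pi.single (Sum.inl ⟨0, hd⟩) 1 : Fin d ⊕ Fin d → F) ≠ 0 := by
    intro h0
    have := congrFun h0 (Sum.inl ⟨0, hd⟩)
    simp at this
  obtain ⟨w, hw⟩ := exists_sympForm_ne_zero d hne
  set u : Fin d ⊕ Fin d → F := Pi.single (Sum.inl ⟨0, hd⟩) 1
  have h3 : Cfsg.sympForm d F ((x : Matrix (Fin d ⊕ Fin d) (Fin d ⊕ Fin d) F) *ᵥ u)
      ((x : Matrix (Fin d ⊕ Fin d) (Fin d ⊕ Fin d) F) *ᵥ w) = Cfsg.sympForm d F u w := hx u w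
  rw [hz, Matrix.smul_mulVec, Matrix.smul_mulVec, Matrix.one_mulVec, Matrix.one_mulVec,
    sympForm_smul_left, sympForm_smul_right] at h3
  have h2 : (2 : F) = 0 := CharTwo.two_eq_zero
  have h4 : (z - 1) ^ 2 * Cfsg.sympForm d F u w = 0 := by
    linear_combination h3 + (Cfsg.sympForm d F u w - z * Cfsg.sympForm d F u w) * h2
  rcases mul_eq_zero.1 h4 with h5 | h5
  · exact sub_eq_zero.1 (pow_eq_zero_iff (by norm_num) |>.1 h5)
  · exact absurd h5 hw

/-- the form transported by `g` -/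
def Qg (Q : (Fin d ⊕ Fin d → F) → F) (g : GL (Fin d ⊕ Fin d) F) : (Fin d ⊕ Fin d → F) → F :=
  fun u => Q (((g⁻¹ : GL (Fin d ⊕ Fin d) F) : Matrix (Fin d ⊕ Fin d) (Fin d ⊕ Fin d) F) *ᵥ u)

theorem isQF_Qg {Q : (Fin d ⊕ Fin d → F) → F} (h : IsQF (sympBilin (F := F) d) Q)
    (g : GL (Fin d ⊕ Fin d) F) (hg : g ∈ Cfsg.spGL d F) : IsQF (sympBilin (F := F) d) (Qg Q g) := by
  have hg' : g⁻¹ ∈ Cfsg.spGL d F := Subgroup.inv_mem _ hg
  constructor
  · intro u v
    have h3 : Cfsg.sympForm d F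
        (((g⁻¹ : GL (Fin d ⊕ Fin d) F) : Matrix (Fin d ⊕ Fin d) (Fin d ⊕ Fin d) F) *ᵥ u)
        (((g⁻¹ : GL (Fin d ⊕ Fin d) F) : Matrix (Fin d ⊕ Fin d) (Fin d ⊕ Fin d) F) *ᵥ v) =
        Cfsg.sympForm d F u v := hg' u v
    unfold Qg
    rw [Matrix.mulVec_add, h.add, sympBilin_apply, sympBilin_apply, h3]
  · intro c v
    unfold Qg
    rw [Matrix.mulVec_smul, h.smul]

theorem Qg_inv {Q : (Fin d ⊕ Fin d → F) → F} (h : IsQF (sympBilin (F := F) d) Q) (hd : 0 < d)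
    (x g : GL (Fin d ⊕ Fin d) F) (hx : x ∈ Cfsg.spGL d F) (hg : g ∈ Cfsg.spGL d F)
    (hmem : g⁻¹ * x * g ∈ Cfsg.Geo.quadSimilarityGroup Q) (u : Fin d ⊕ Fin d → F) :
    Qg Q g ((x : Matrix (Fin d ⊕ Fin d) (Fin d ⊕ Fin d) F) *ᵥ u) = Qg Q g u := by
  have hy : g⁻¹ * x * g ∈ Cfsg.spGL d F :=
    Subgroup.mul_mem _ (Subgroup.mul_mem _ (Subgroup.inv_mem _ hg) hx) hg
  have h1 := iso_of_mem h hd _ hy hmem
    (((g⁻¹ : GL (Fin d ⊕ Fin d) F) : Matrix (Fin d ⊕ Fin d) (Fin d ⊕ Fin d) F) *ᵥ u)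
  rw [Matrix.mulVec_mulVec, ← Units.val_mul, mul_inv_cancel_right, Units.val_mul,
    ← Matrix.mulVec_mulVec] at h1
  exact h1

theorem SQ_Qg [Fintype F] (Q : (Fin d ⊕ Fin d → F) → F) (g : GL (Fin d ⊕ Fin d) F) :
    SQ (Qg Q g) = SQ Q := by
  let e : (Fin d ⊕ Fin d → F) ≃ (Fin d ⊕ Fin d → F) :=
    { toFun := fun v =>
        ((g⁻¹ : GL (Fin d ⊕ Fin d) F) : Matrix (Fin d ⊕ Fin d) (Fin d ⊕ Fin d) F) *ᵥ v
      invFun := fun v => (g : Matrix (Fin d ⊕ Fin d) (Fin d ⊕ Fin d) F) *ᵥ v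
      left_inv := fun v => by
        dsimp only
        rw [Matrix.mulVec_mulVec, ← Units.val_mul, mul_inv_cancel, Units.val_one,
          Matrix.one_mulVec]
      right_inv := fun v => by
        dsimp only
        rw [Matrix.mulVec_mulVec, ← Units.val_mul, inv_mul_cancel, Units.val_one,
          Matrix.one_mulVec] }
  exact SQ_comp Q e

/-- splitting off the zero vector from the zeros of a quadratic form -/
theorem card_zeros_split [Fintype F] {Q' : (Fin d ⊕ Fin d → F) → F}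
    (h : IsQF (sympBilin (F := F) d) Q') :
    Nat.card {v : Fin d ⊕ Fin d → F // Q' v = 0} =
      1 + Nat.card {v : Fin d ⊕ Fin d → F // Q' v = 0 ∧ v ≠ 0} := by
  classical
  rw [Nat.card_eq_fintype_card, Nat.card_eq_fintype_card, Fintype.card_subtype,
    Fintype.card_subtype]
  have : Finset.univ.filter (fun v : Fin d ⊕ Fin d → F => Q' v = 0) =
      insert 0 (Finset.univ.filter (fun v : Fin d ⊕ Fin d → F => Q' v = 0 ∧ v ≠ 0)) := by
    ext v
    simp only [Finset.mem_filter, Finset.mem_univ, true_and, Finset.mem_insert]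
    constructor
    · intro hv
      by_cases h0 : v = 0
      · exact Or.inl h0
      · exact Or.inr ⟨hv, h0⟩
    · rintro (h0 | h0)
      · rw [h0, h.zero]
      · exact h0.1
  rw [this, Finset.card_insert_of_notMem, add_comm]
  simp

/-- iterating the action of a matrix -/
theorem iterate_mulVec (x : GL (Fin d ⊕ Fin d) F) (k : ℕ) (v : Fin d ⊕ Fin d → F) :
    (fun v => (x : Matrix (Fin d ⊕ Fin d) (Fin d ⊕ Fin d) F) *ᵥ v)^[k] v =
      ((x ^ k : GL (Fin d ⊕ Fin d) F) : Matrix (Fin d ⊕ Fin d) (Fin d ⊕ Fin d) F) *ᵥ v := by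
  induction k generalizing v with
  | zero => simp
  | succ k ih =>
    rw [Function.iterate_succ_apply, ih, pow_succ, Units.val_mul, Matrix.mulVec_mulVec]

/-- the counting consequence of a fixed-point-free element of prime order preserving a form -/
theorem dvd_of_fpf [Fintype F] {Q' : (Fin d ⊕ Fin d → F) → F} (r : ℕ) [Fact r.Prime]
    (x : GL (Fin d ⊕ Fin d) F) (hxr : x ^ r = 1)
    (hfix : ∀ v, (x : Matrix (Fin d ⊕ Fin d) (Fin d ⊕ Fin d) F) *ᵥ v = v → v = 0)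
    (hinv : ∀ u, Q' ((x : Matrix (Fin d ⊕ Fin d) (Fin d ⊕ Fin d) F) *ᵥ u) = Q' u) :
    r ∣ Nat.card {v : Fin d ⊕ Fin d → F // Q' v = 0 ∧ v ≠ 0} := by
  apply dvd_card_zeros Q' r (fun v => (x : Matrix (Fin d ⊕ Fin d) (Fin d ⊕ Fin d) F) *ᵥ v)
  · intro v
    rw [iterate_mulVec, hxr, Units.val_one, Matrix.one_mulVec]
  · exact hfix
  · exact Matrix.mulVec_zero _
  · exact hinv

/-- the diagonal element with eigenvalues `l`, `l⁻¹` -/
def Dmat (d : ℕ) (l : F) : Matrix (Fin d ⊕ Fin d) (Fin d ⊕ Fin d) F :=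
  Matrix.diagonal (Sum.elim (fun _ => l) (fun _ => l⁻¹))

theorem Dmat_mulVec_inl (l : F) (v : Fin d ⊕ Fin d → F) (i : Fin d) :
    (Dmat d l *ᵥ v) (Sum.inl i) = l * v (Sum.inl i) := by
  unfold Dmat
  rw [Matrix.mulVec_diagonal]
  rfl

theorem Dmat_mulVec_inr (l : F) (v : Fin d ⊕ Fin d → F) (i : Fin d) :
    (Dmat d l *ᵥ v) (Sum.inr i) = l⁻¹ * v (Sum.inr i) := by
  unfold Dmat
  rw [Matrix.mulVec_diagonal]
  rfl

theorem Dmat_mem (l : F) (hl : l ≠ 0) : Dmat d l ∈ Matrix.symplecticGroup (Fin d) F := by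
  apply mem_of_sympForm
  intro u v
  rw [sympForm_eq_sum, sympForm_eq_sum]
  apply Finset.sum_congr rfl
  intro i _
  rw [Dmat_mulVec_inl, Dmat_mulVec_inr, Dmat_mulVec_inl, Dmat_mulVec_inr]
  field_simp

theorem Dmat_pow (l : F) (k : ℕ) : Dmat d l ^ k = Dmat d (l ^ k) := by
  unfold Dmat
  rw [Matrix.diagonal_pow]
  congr 1
  funext i
  rcases i with i | i
  · simp
  · simp

theorem Dmat_one : Dmat d (1 : F) = 1 := by
  unfold Dmat
  rw [← Matrix.diagonal_one]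
  congr 1
  funext i
  rcases i with i | i <;> simp

/-- the subspace spanned by the first half of the basis -/
def U1 (d : ℕ) (F : Type*) [Field F] : Submodule F (Fin d ⊕ Fin d → F) :=
  LinearMap.ker (LinearMap.funLeft F F (Sum.inr : Fin d → Fin d ⊕ Fin d))

omit [CharP F 2] in
theorem mem_U1 (v : Fin d ⊕ Fin d → F) : v ∈ U1 d F ↔ ∀ i, v (Sum.inr i) = 0 := by
  unfold U1
  rw [LinearMap.mem_ker]
  constructor
  · intro h i
    exact congrFun h i
  · intro h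
    funext i
    exact h i

omit [CharP F 2] in
theorem finrank_U1 : Module.finrank F (U1 d F) = d := by
  unfold U1
  have h1 := LinearMap.finrank_range_add_finrank_ker
    (LinearMap.funLeft F F (Sum.inr : Fin d → Fin d ⊕ Fin d))
  rw [LinearMap.range_eq_top.2
    (LinearMap.funLeft_surjective_of_injective F F _ Sum.inr_injective), finrank_top,
    Module.finrank_pi, Module.finrank_pi, Fintype.card_sum, Fintype.card_fin] at h1
  omega

/-- a form invariant under the diagonal element has character sum `q^d` -/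
theorem SQ_of_Dmat_inv [Fintype F] {Q' : (Fin d ⊕ Fin d → F) → F}
    (h : IsQF (sympBilin (F := F) d) Q') (l : F) (hl2 : l ^ 2 ≠ 1)
    (hinv : ∀ u, Q' (Dmat d l *ᵥ u) = Q' u) :
    SQ Q' = (Fintype.card F : ℤ) ^ d := by
  have hU : ∀ u ∈ U1 d F, Q' u = 0 := by
    intro u hu
    rw [mem_U1] at hu
    have h1 : Dmat d l *ᵥ u = l • u := by
      funext i
      rcases i with i | i
      · rw [Dmat_mulVec_inl]; rfl
      · rw [Dmat_mulVec_inr, Pi.smul_apply, hu i, mul_zero, smul_zero]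
    have h3 := hinv u
    rw [h1, h.smul] at h3
    have h4 : (l ^ 2 - 1) * Q' u = 0 := by linear_combination h3
    rcases mul_eq_zero.1 h4 with h5 | h5
    · exact absurd (sub_eq_zero.1 h5) hl2
    · exact h5
  rw [SQ_of_ts h (sympBilin_nondegenerate (F := F) d) sympBilin_symm (U1 d F) hU
    (by rw [finrank_U1, finrank_V])]
  rw [Module.natCard_eq_pow_finrank (K := F), finrank_U1, Nat.card_eq_fintype_card]
  push_cast
  rfl

/-- an alternating involution of full rank in a conjugate of the orthogonal group forces plus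
type -/
theorem plus_of_alt_inv {Q : (Fin d ⊕ Fin d → F) → F} (h : IsQF (sympBilin (F := F) d) Q)
    (hd : 0 < d) (x g : GL (Fin d ⊕ Fin d) F) (hx : x ∈ Cfsg.spGL d F) (hg : g ∈ Cfsg.spGL d F)
    (hmem : g⁻¹ * x * g ∈ Cfsg.Geo.quadSimilarityGroup Q)
    (halt : ∀ v, Cfsg.sympForm d F v
      ((x : Matrix (Fin d ⊕ Fin d) (Fin d ⊕ Fin d) F) *ᵥ v) = 0)
    (hrank : ((x : Matrix (Fin d ⊕ Fin d) (Fin d ⊕ Fin d) F) - 1).rank = d) :
    Cfsg.Geo.IsPlusTypeOn Q ⊤ := by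
  have h'' := isQF_Qg h g hg
  have hinv := Qg_inv h hd x g hx hg hmem
  have hn : ∀ v, Qg Q g (((x : Matrix (Fin d ⊕ Fin d) (Fin d ⊕ Fin d) F) - 1) *ᵥ v) = 0 := by
    intro v
    have h1 := hinv v
    have h3 : (x : Matrix (Fin d ⊕ Fin d) (Fin d ⊕ Fin d) F) *ᵥ v =
        v + ((x : Matrix (Fin d ⊕ Fin d) (Fin d ⊕ Fin d) F) - 1) *ᵥ v := by
      rw [Matrix.sub_mulVec, Matrix.one_mulVec]; abel
    have h4 : sympBilin d v (((x : Matrix (Fin d ⊕ Fin d) (Fin d ⊕ Fin d) F) - 1) *ᵥ v) = 0 := by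
      rw [Matrix.sub_mulVec, Matrix.one_mulVec, map_sub, sympBilin_apply, sympBilin_apply, halt,
        sympForm_self, sub_zero]
    rw [h3, h''.add, h4, add_zero] at h1
    exact left_eq_add.1 h1.symm
  refine ⟨LinearMap.range (Matrix.mulVecLin
    (((g⁻¹ : GL (Fin d ⊕ Fin d) F) : Matrix (Fin d ⊕ Fin d) (Fin d ⊕ Fin d) F) *
      ((x : Matrix (Fin d ⊕ Fin d) (Fin d ⊕ Fin d) F) - 1))), le_top, ?_, ?_⟩
  · rintro _ ⟨v, rfl⟩
    rw [Matrix.mulVecLin_apply, ← Matrix.mulVec_mulVec]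
    exact hn v
  · have h5 : Module.finrank F (LinearMap.range (Matrix.mulVecLin
        (((g⁻¹ : GL (Fin d ⊕ Fin d) F) : Matrix (Fin d ⊕ Fin d) (Fin d ⊕ Fin d) F) *
        ((x : Matrix (Fin d ⊕ Fin d) (Fin d ⊕ Fin d) F) - 1)))) =
        (((g⁻¹ : GL (Fin d ⊕ Fin d) F) : Matrix (Fin d ⊕ Fin d) (Fin d ⊕ Fin d) F) *
        ((x : Matrix (Fin d ⊕ Fin d) (Fin d ⊕ Fin d) F) - 1)).rank := rfl
    rw [h5, Matrix.rank_mul_eq_right_of_isUnit_det _ _
      ((Matrix.isUnit_iff_isUnit_det _).1 (Units.isUnit (g⁻¹ : GL (Fin d ⊕ Fin d) F))), hrank,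
      finrank_top, finrank_V]

variable [Fintype F]

/-- involutions are conjugate into the orthogonal group, when `Q` is of plus type or `d` is odd -/
theorem exists_conj_of_inv {Q : (Fin d ⊕ Fin d → F) → F} (h : IsQF (sympBilin (F := F) d) Q)
    (hcase : Cfsg.Geo.IsPlusTypeOn Q ⊤ ∨ Odd d)
    (x : GL (Fin d ⊕ Fin d) F) (hx : x ∈ Cfsg.spGL d F) (hx2 : x * x = 1) :
    ∃ g ∈ Cfsg.spGL d F, g⁻¹ * x * g ∈ Cfsg.Geo.quadSimilarityGroup Q := by
  have hx2' : ∀ v, (x : Matrix (Fin d ⊕ Fin d) (Fin d ⊕ Fin d) F) *ᵥ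
      ((x : Matrix (Fin d ⊕ Fin d) (Fin d ⊕ Fin d) F) *ᵥ v) = v := by
    intro v
    rw [Matrix.mulVec_mulVec, ← Units.val_mul, hx2, Units.val_one, Matrix.one_mulVec]
  obtain ⟨w, hw, hinv⟩ := exists_AS_invariant (sympBilin_nondegenerate (F := F) d)
    (sympBilin_isAlt d) sympBilin_symm h
    (Matrix.mulVecLin (x : Matrix (Fin d ⊕ Fin d) (Fin d ⊕ Fin d) F))
    (by
      intro u v
      rw [Matrix.mulVecLin_apply, Matrix.mulVecLin_apply, sympBilin_apply, sympBilin_apply]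
      exact hx u v)
    (by
      intro v
      rw [Matrix.mulVecLin_apply, Matrix.mulVecLin_apply]
      exact hx2' v)
    (by
      rcases hcase with ⟨U, -, hU, hUd⟩ | hodd
      · left
        refine ⟨U, hU, ?_⟩
        rw [hUd, finrank_top]
      · right
        exact ⟨d, hodd, finrank_V⟩)
  obtain ⟨g, hgg, hg⟩ := exists_mem_of_isAS h w hw
  have hginv : ((g : GL (Fin d ⊕ Fin d) F))⁻¹ = (g : GL (Fin d ⊕ Fin d) F) := by
    rw [inv_eq_iff_mul_eq_one, ← Subgroup.coe_mul, hgg, Subgroup.coe_one]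
  refine ⟨g.1, g.2, ⟨1, fun v => ?_⟩⟩
  rw [Units.val_one, one_mul, hginv, Units.val_mul, Units.val_mul, ← Matrix.mulVec_mulVec,
    ← Matrix.mulVec_mulVec, hg]
  have h1 := hinv (((g : GL (Fin d ⊕ Fin d) F) : Matrix (Fin d ⊕ Fin d) (Fin d ⊕ Fin d) F) *ᵥ v)
  rw [Matrix.mulVecLin_apply] at h1
  rw [h1, ← hg, Matrix.mulVec_mulVec, ← Units.val_mul, ← Subgroup.coe_mul, hgg, Subgroup.coe_one,
    Units.val_one, Matrix.one_mulVec]

end Concrete

end Cfsg.Agent.Lib.Helper8.SpOrth
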