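import Mathlib
import Cfsg.Agent.Lib.Helper8.RootClassB
import Cfsg.Agent.Lib.Helper5.Symp

/-!
# The `SL₂` attached to a hyperbolic pair of a symplectic space (helper8)
-/

set_option autoImplicit false

namespace Cfsg.Agent.Lib.Helper8.SpRoot

open Cfsg Matrix Cfsg.Agent.Lib.Helper5.Symp Cfsg.Agent.S5016

variable {F : Type*} [Field F] (m : ℕ)

local notation "V" => (Fin m ⊕ Fin m → F)
local notation "Mat" => Matrix (Fin m ⊕ Fin m) (Fin m ⊕ Fin m) F

/-- the matrix acting as `[[a,b],[c,d]]` on the hyperbolic pair `(u,v)` and trivially on its perp -/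
noncomputable def spM (u v : V) (a b c d : F) : Mat :=
  1 + Matrix.vecMulVec ((a - 1) • u + c • v) (J (Fin m) F *ᵥ v) -
    Matrix.vecMulVec (b • u + (d - 1) • v) (J (Fin m) F *ᵥ u)

lemma vecMulVec_J_mulVec (w y x : V) :
    Matrix.vecMulVec w (J (Fin m) F *ᵥ y) *ᵥ x = sympForm m F x y • w := by
  unfold sympForm
  rw [Matrix.vecMulVec_mulVec, op_smul_eq_smul, dotProduct_comm]

lemma spM_mulVec (u v : V) (a b c d : F) (x : V) :
    spM m u v a b c d *ᵥ x =
      x + sympForm m F x v • ((a - 1) • u + c • v) - sympForm m F x u • (b • u + (d - 1) • v) := by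
  rw [spM, Matrix.sub_mulVec, Matrix.add_mulVec, Matrix.one_mulVec, vecMulVec_J_mulVec,
    vecMulVec_J_mulVec]

lemma spM_mul {u v : V} (huv : sympForm m F u v = 1) (a b c d a' b' c' d' : F) :
    spM m u v a b c d * spM m u v a' b' c' d' =
      spM m u v (a * a' + b * c') (a * b' + b * d') (c * a' + d * c') (c * b' + d * d') := by
  have hvu : sympForm m F v u = -1 := by rw [sympForm_swap, huv]
  rw [Matrix.ext_iff_mulVec]
  intro x
  rw [← Matrix.mulVec_mulVec, spM_mulVec, spM_mulVec, spM_mulVec]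
  simp only [sympForm_add_left, sympForm_sub_left, sympForm_smul_left, sympForm_self, huv, hvu]
  match_scalars <;> ring

lemma spM_one (u v : V) : spM m u v 1 0 0 1 = 1 := by
  rw [Matrix.ext_iff_mulVec]
  intro x
  rw [spM_mulVec, Matrix.one_mulVec]
  simp

lemma spM_u {u v : V} (huv : sympForm m F u v = 1) (a b c d : F) :
    spM m u v a b c d *ᵥ u = a • u + c • v := by
  rw [spM_mulVec, sympForm_self, huv]
  match_scalars <;> ring

lemma spM_v {u v : V} (huv : sympForm m F u v = 1) (a b c d : F) :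
    spM m u v a b c d *ᵥ v = b • u + d • v := by
  have hvu : sympForm m F v u = -1 := by rw [sympForm_swap, huv]
  rw [spM_mulVec, sympForm_self, hvu]
  match_scalars <;> ring

lemma spM_inj {u v : V} (huv : sympForm m F u v = 1) {a b c d a' b' c' d' : F}
    (h : spM m u v a b c d = spM m u v a' b' c' d') : a = a' ∧ b = b' ∧ c = c' ∧ d = d' := by
  have hvu : sympForm m F v u = -1 := by rw [sympForm_swap, huv]
  have h1 := spM_u m huv a b c d
  rw [h, spM_u m huv] at h1
  have h2 := spM_v m huv a b c d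
  rw [h, spM_v m huv] at h2
  have e1 := congrArg (fun x => sympForm m F x v) h1
  have e2 := congrArg (fun x => sympForm m F x u) h1
  have e3 := congrArg (fun x => sympForm m F x v) h2
  have e4 := congrArg (fun x => sympForm m F x u) h2
  simp only [sympForm_add_left, sympForm_smul_left, sympForm_self, huv, hvu, mul_one, mul_zero,
    add_zero, zero_add, mul_neg, neg_inj] at e1 e2 e3 e4
  exact ⟨e1.symm, e3.symm, e2.symm, e4.symm⟩

/-- the image of `g ∈ SL₂(F)` -/
noncomputable def spS (u v : V) (g : Matrix.SpecialLinearGroup (Fin 2) F) : Mat :=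
  spM m u v (g 0 0) (g 0 1) (g 1 0) (g 1 1)

lemma spS_mul {u v : V} (huv : sympForm m F u v = 1)
    (g g' : Matrix.SpecialLinearGroup (Fin 2) F) :
    spS m u v (g * g') = spS m u v g * spS m u v g' := by
  rw [spS, spS, spS, spM_mul m huv]
  have e00 : (g * g') 0 0 = g 0 0 * g' 0 0 + g 0 1 * g' 1 0 := by
    rw [Matrix.SpecialLinearGroup.coe_mul, Matrix.mul_apply, Fin.sum_univ_two]
  have e01 : (g * g') 0 1 = g 0 0 * g' 0 1 + g 0 1 * g' 1 1 := by
    rw [Matrix.SpecialLinearGroup.coe_mul, Matrix.mul_apply, Fin.sum_univ_two]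
  have e10 : (g * g') 1 0 = g 1 0 * g' 0 0 + g 1 1 * g' 1 0 := by
    rw [Matrix.SpecialLinearGroup.coe_mul, Matrix.mul_apply, Fin.sum_univ_two]
  have e11 : (g * g') 1 1 = g 1 0 * g' 0 1 + g 1 1 * g' 1 1 := by
    rw [Matrix.SpecialLinearGroup.coe_mul, Matrix.mul_apply, Fin.sum_univ_two]
  rw [e00, e01, e10, e11]

lemma spS_one (u v : V) : spS m u v (1 : Matrix.SpecialLinearGroup (Fin 2) F) = 1 := by
  rw [spS]
  simp only [Matrix.SpecialLinearGroup.coe_one, Matrix.one_apply_eq, ne_eq, zero_ne_one,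
    not_false_eq_true, Matrix.one_apply_ne, one_ne_zero]
  exact spM_one m u v

/-- the homomorphism `SL₂(F) → (Mat)ˣ` attached to a hyperbolic pair -/
noncomputable def spHom {u v : V} (huv : sympForm m F u v = 1) :
    Matrix.SpecialLinearGroup (Fin 2) F →* (Mat)ˣ :=
  MonoidHom.toHomUnits
    { toFun := spS m u v
      map_one' := spS_one m u v
      map_mul' := spS_mul m huv }

lemma spHom_coe {u v : V} (huv : sympForm m F u v = 1)
    (g : Matrix.SpecialLinearGroup (Fin 2) F) :
    ((spHom m huv g : (Mat)ˣ) : Mat) = spS m u v g := rfl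

lemma spHom_injective {u v : V} (huv : sympForm m F u v = 1) :
    Function.Injective (spHom m huv) := by
  intro g g' h
  have h1 : spS m u v g = spS m u v g' := by
    rw [← spHom_coe m huv, ← spHom_coe m huv, h]
  obtain ⟨e1, e2, e3, e4⟩ := spM_inj m huv h1
  exact sl2_ext e1 e2 e3 e4

lemma spHom_up {u v : V} (huv : sympForm m F u v = 1) (t : F) :
    ((spHom m huv (up t) : (Mat)ˣ) : Mat) = sympTransvection m u (-t) := by
  rw [Matrix.ext_iff_mulVec]
  intro x
  rw [spHom_coe, spS, spM_mulVec, sympTransvection_mulVec]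
  simp only [up_coe, Matrix.of_apply, Matrix.cons_val', Matrix.cons_val_zero, Matrix.cons_val_one,
    Matrix.cons_val_fin_one, sub_self, zero_smul, add_zero, smul_zero]
  match_scalars <;> ring

lemma spHom_lo {u v : V} (huv : sympForm m F u v = 1) (t : F) :
    ((spHom m huv (lo t) : (Mat)ˣ) : Mat) = sympTransvection m v t := by
  rw [Matrix.ext_iff_mulVec]
  intro x
  rw [spHom_coe, spS, spM_mulVec, sympTransvection_mulVec]
  simp only [lo_coe, Matrix.of_apply, Matrix.cons_val', Matrix.cons_val_zero, Matrix.cons_val_one,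
    Matrix.cons_val_fin_one, sub_self, zero_smul, add_zero, smul_zero, zero_add, sub_zero]
  match_scalars <;> ring

end Cfsg.Agent.Lib.Helper8.SpRoot
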