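import Mathlib
import Cfsg.Agent.Lib.Helper8.SpRootA
import Cfsg.Agent.S0765

/-!
# Symplectic transvection subgroups form a transvection system (helper8)
-/

set_option autoImplicit false

namespace Cfsg.Agent.Lib.Helper8.SpRoot

open Cfsg Matrix Cfsg.Agent.Lib.Helper5.Symp Cfsg.Agent.S5016 Cfsg.Agent.Lib.Helper8.RootClass
  Cfsg.Agent.H2.RankOne

variable {F : Type*} [Field F] (m : ℕ)

local notation "V" => (Fin m ⊕ Fin m → F)
local notation "Mat" => Matrix (Fin m ⊕ Fin m) (Fin m ⊕ Fin m) F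

/-- the symplectic group as a type -/
abbrev SpG (m : ℕ) (F : Type*) [Field F] : Type _ := ↥(Matrix.symplecticGroup (Fin m) F)

local notation "Sp" => SpG m F

lemma sympT_coe (p : V) (c : F) : ((sympT m p c : Sp) : Mat) = sympTransvection m p c := rfl

lemma sympT_mul (p : V) (c d : F) : sympT m p c * sympT m p d = sympT m p (c + d) :=
  Subtype.ext (sympTransvection_mul m p c d)

lemma sympT_zero (p : V) : sympT m p (0 : F) = 1 := Subtype.ext (sympTransvection_zero m p)

lemma sympT_inv (p : V) (c : F) : (sympT m p c)⁻¹ = sympT m p (-c) := by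
  rw [inv_eq_iff_mul_eq_one, sympT_mul, add_neg_cancel, sympT_zero]

/-- the root subgroup `{T_p(c)}` -/
def rootSp (p : V) : Subgroup Sp where
  carrier := {g | ∃ c : F, g = sympT m p c}
  mul_mem' := by
    rintro _ _ ⟨c, rfl⟩ ⟨d, rfl⟩
    exact ⟨c + d, sympT_mul m p c d⟩
  one_mem' := ⟨0, (sympT_zero m p).symm⟩
  inv_mem' := by
    rintro _ ⟨c, rfl⟩
    exact ⟨-c, sympT_inv m p c⟩

lemma mem_rootSp (p : V) (g : Sp) : g ∈ rootSp m p ↔ ∃ c : F, g = sympT m p c := Iff.rfl

/-- the embedding of the symplectic group into the units of the matrix ring -/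
noncomputable def toU : Sp →* (Mat)ˣ := MonoidHom.toHomUnits (Matrix.symplecticGroup (Fin m) F).subtype

lemma toU_coe (g : Sp) : ((toU m g : (Mat)ˣ) : Mat) = (g : Mat) := rfl

lemma toU_injective : Function.Injective (toU (F := F) m) := by
  intro g h e
  apply Subtype.ext
  have := congrArg (fun x : (Mat)ˣ => (x : Mat)) e
  exact this

lemma smul_mem_rootSp (a : F) (ha : a ≠ 0) (p : V) : rootSp m (a • p) = rootSp m p := by
  ext g
  constructor
  · rintro ⟨c, rfl⟩
    exact ⟨a ^ 2 * c, Subtype.ext (sympTransvection_smul m a p c)⟩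
  · rintro ⟨c, rfl⟩
    refine ⟨c / a ^ 2, Subtype.ext ?_⟩
    rw [sympT_coe, sympT_coe, sympTransvection_smul]
    congr 1
    field_simp

lemma rootSp_conj (g : Sp) (p : V) : conjBy (rootSp m p) g = rootSp m ((g : Mat) *ᵥ p) := by
  have hconj : ∀ c : F, g * sympT m p c * g⁻¹ = sympT m ((g : Mat) *ᵥ p) c := by
    intro c
    apply Subtype.ext
    have h1 := conj_sympTransvection m g.2 p c
    have h2 : ((g⁻¹ : Sp) : Mat) = (g : Mat)⁻¹ := by
      have h3 : g * g⁻¹ = 1 := mul_inv_cancel g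
      have h4 : (g : Mat) * ((g⁻¹ : Sp) : Mat) = 1 := congrArg Subtype.val h3
      exact (Matrix.inv_eq_right_inv h4).symm
    show (g : Mat) * sympTransvection m p c * ((g⁻¹ : Sp) : Mat) = _
    rw [h2, h1]
    rfl
  ext x
  rw [mem_conjBy]
  constructor
  · rintro ⟨c, e⟩
    refine ⟨c, ?_⟩
    rw [← hconj c, ← e]
    group
  · rintro ⟨c, rfl⟩
    refine ⟨c, ?_⟩
    rw [← hconj c]
    group

lemma rootSp_ne_bot (p : V) (hp : p ≠ 0) : rootSp m p ≠ ⊥ := by
  intro h
  have h1 : sympT m p (1 : F) ∈ rootSp m p := ⟨1, rfl⟩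
  rw [h, Subgroup.mem_bot] at h1
  obtain ⟨x, hx⟩ := exists_sympForm_ne_zero m hp
  have h2 : sympTransvection m p (1 : F) *ᵥ x = x := by
    have e : ((sympT m p (1 : F) : Sp) : Mat) = ((1 : Sp) : Mat) := congrArg Subtype.val h1
    rw [sympT_coe] at e
    rw [e]
    exact Matrix.one_mulVec x
  rw [sympTransvection_mulVec, one_mul] at h2
  have h3 : sympForm m F x p • p = 0 := by
    have := congrArg (fun y => y - x) h2
    simpa using this
  rw [smul_eq_zero] at h3
  rcases h3 with h3 | h3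
  · rw [sympForm_swap, neg_eq_zero] at h3
    exact hx h3
  · exact hp h3

lemma rootSp_comm_of_perp (p p' : V) (h : sympForm m F p p' = 0) (c d : F) :
    sympT m p c * sympT m p' d = sympT m p' d * sympT m p c := by
  have h' : sympForm m F p' p = 0 := by rw [sympForm_swap, h, neg_zero]
  apply Subtype.ext
  show sympTransvection m p c * sympTransvection m p' d =
    sympTransvection m p' d * sympTransvection m p c
  rw [Matrix.ext_iff_mulVec]
  intro x
  rw [← Matrix.mulVec_mulVec, ← Matrix.mulVec_mulVec]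
  simp only [sympTransvection_mulVec, sympForm_add_left, sympForm_smul_left, h, h', mul_zero,
    add_zero]
  abel

lemma map_upper {u v : V} (huv : sympForm m F u v = 1) :
    (upperUnipotentSL2 F).map (spHom m huv) = (rootSp m u).map (toU m) := by
  ext g
  constructor
  · rintro ⟨s, hs, rfl⟩
    obtain ⟨t, rfl⟩ := mem_upper.1 hs
    refine ⟨sympT m u (-t), ⟨-t, rfl⟩, ?_⟩
    apply Units.ext
    rw [toU_coe, sympT_coe, spHom_up]
  · rintro ⟨_, ⟨c, rfl⟩, rfl⟩
    refine ⟨up (-c), mem_upper.2 ⟨_, rfl⟩, ?_⟩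
    apply Units.ext
    rw [toU_coe, sympT_coe, spHom_up, neg_neg]

lemma map_lower {u v : V} (huv : sympForm m F u v = 1) :
    (lowerUnipotentSL2 F).map (spHom m huv) = (rootSp m v).map (toU m) := by
  ext g
  constructor
  · rintro ⟨s, hs, rfl⟩
    obtain ⟨t, rfl⟩ := mem_lower.1 hs
    refine ⟨sympT m v t, ⟨t, rfl⟩, ?_⟩
    apply Units.ext
    rw [toU_coe, sympT_coe, spHom_lo]
  · rintro ⟨_, ⟨c, rfl⟩, rfl⟩
    refine ⟨lo c, mem_lower.2 ⟨_, rfl⟩, ?_⟩
    apply Units.ext
    rw [toU_coe, sympT_coe, spHom_lo]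

/-- the nonzero vectors -/
abbrev Pt (m : ℕ) (F : Type*) [Field F] : Type _ := {p : Fin m ⊕ Fin m → F // p ≠ 0}

theorem transvectionSystem (hm : 1 ≤ m) :
    TransvectionSystem F (fun p : Pt m F => rootSp m p.1)
      (fun p p' => sympForm m F p.1 p'.1 = 0) := by
  refine ⟨?_, ?_, ?_, ?_, ?_, ?_, ?_, ?_⟩
  · refine ⟨⟨Pi.single (Sum.inl ⟨0, hm⟩) 1, ?_⟩⟩
    intro h
    have := congrFun h (Sum.inl ⟨0, hm⟩)
    simp at this
  · rintro p _ ⟨c, rfl⟩ _ ⟨d, rfl⟩
    rw [sympT_mul, sympT_mul, add_comm]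
  · intro p
    exact rootSp_ne_bot m p.1 p.2
  · rw [eq_top_iff, ← Cfsg.Agent.S0765.result (F := F) m, Subgroup.closure_le]
    rintro g ⟨w, c, hg⟩
    by_cases hw : w = 0
    · have : g = 1 := by
        apply Subtype.ext
        rw [hg, hw]
        unfold sympTransvection
        simp
      rw [this]
      exact Subgroup.one_mem _
    · have h1 : g ∈ rootSp m w := ⟨c, Subtype.ext hg⟩
      exact Subgroup.mem_iSup_of_mem (⟨w, hw⟩ : Pt m F) h1
  · intro p g
    have hgp : (g : Mat) *ᵥ p.1 ≠ 0 := by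
      intro h0
      apply p.2
      have h1 : ((g⁻¹ * g : Sp) : Mat) *ᵥ p.1 = p.1 := by
        rw [inv_mul_cancel]
        exact Matrix.one_mulVec _
      have h2 : ((g⁻¹ * g : Sp) : Mat) = ((g⁻¹ : Sp) : Mat) * (g : Mat) := rfl
      rw [h2, ← Matrix.mulVec_mulVec, h0, Matrix.mulVec_zero] at h1
      exact h1.symm
    exact ⟨⟨_, hgp⟩, rootSp_conj m g p.1⟩
  · rintro p p' hpp _ ⟨c, rfl⟩ _ ⟨d, rfl⟩
    exact rootSp_comm_of_perp m p.1 p'.1 hpp c d
  · intro p p' hpp
    have hc : sympForm m F p.1 p'.1 ≠ 0 := hpp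
    have hc' : (sympForm m F p.1 p'.1)⁻¹ ≠ 0 := inv_ne_zero hc
    have huv : sympForm m F p.1 ((sympForm m F p.1 p'.1)⁻¹ • p'.1) = 1 := by
      rw [sympForm_smul_right, inv_mul_cancel₀ hc]
    apply psl2pair_of_hom' (toU m) (toU_injective m) (spHom m huv) (spHom_injective m huv)
    · exact map_upper m huv
    · rw [map_lower m huv, smul_mem_rootSp m _ hc']
  · intro p p' _
    obtain ⟨x, h1, h2⟩ := exists_sympForm_ne_zero_both m p.2 p'.2
    have hx : x ≠ 0 := by
      intro h0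
      apply h1
      rw [h0, sympForm_zero_right]
    exact ⟨⟨x, hx⟩, h1, h2⟩

end Cfsg.Agent.Lib.Helper8.SpRoot
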