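import Mathlib
import Cfsg.Agent.S5957

/-!
# A matrix with square `s² • 1` is conjugate to `s` times a signed permutation matrix (helper8)
-/

set_option autoImplicit false
set_option linter.unusedSectionVars false

namespace Cfsg.Agent.Lib.Helper8.SubfInv

open Matrix Module

variable {n : ℕ} {F : Type*} [Field F]

theorem exists_conj_signed (X : Matrix (Fin n) (Fin n) F) (s : F) (hs : s ≠ 0)
    (hXX : X * X = (s ^ 2) • (1 : Matrix (Fin n) (Fin n) F)) :
    ∃ (P₀ Q₀ A : Matrix (Fin n) (Fin n) F), P₀ * Q₀ = 1 ∧ Q₀ * P₀ = 1 ∧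
      Q₀ * X * P₀ = s • A ∧ ∀ i j, A i j = 0 ∨ A i j = 1 ∨ A i j = -1 := by
  classical
  set xl : (Fin n → F) →ₗ[F] (Fin n → F) := Matrix.toLin' X with hxl
  have hxlapp : ∀ v, xl v = X *ᵥ v := fun v => Matrix.toLin'_apply X v
  have hxlxl : ∀ v, xl (xl v) = (s ^ 2) • v := by
    intro v
    rw [hxlapp, hxlapp, Matrix.mulVec_mulVec, hXX, Matrix.smul_mulVec, Matrix.one_mulVec]
  obtain ⟨ι, _, _, b, τ, c, hτ, hc, hb⟩ := Cfsg.Agent.S5957.monomial_basis (s ^ 2)
    (pow_ne_zero 2 hs) n (Fin n → F) xl hxlxl (Module.finrank_fin_fun F)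
  have hcard : Fintype.card ι = n := by
    rw [← Module.finrank_eq_card_basis b, Module.finrank_fin_fun]
  let e : ι ≃ Fin n := Fintype.equivFinOfCardEq hcard
  set b₁ : Module.Basis (Fin n) F (Fin n → F) := b.reindex e with hb₁def
  set τ₁ : Fin n → Fin n := fun j => e (τ (e.symm j)) with hτ₁def
  set c₁ : Fin n → F := fun j => c (e.symm j) with hc₁def
  have hb₁ : ∀ j, X *ᵥ (b₁ j) = c₁ j • b₁ (τ₁ j) := by
    intro j
    rw [← hxlapp, hb₁def, Module.Basis.reindex_apply, hb, Module.Basis.reindex_apply, hτ₁def,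
      hc₁def]
    simp only [Equiv.symm_apply_apply]
  have hτ₁ : ∀ j, τ₁ (τ₁ j) = j := by
    intro j
    simp only [hτ₁def, Equiv.symm_apply_apply, hτ (e.symm j), Equiv.apply_symm_apply]
  have hc₁ : ∀ j, c₁ j ≠ 0 := fun j => hc _
  -- `c j * c (τ j) = s²`
  have hcc : ∀ j, c₁ j * c₁ (τ₁ j) = s ^ 2 := by
    intro j
    have h1 : X *ᵥ (X *ᵥ (b₁ j)) = (s ^ 2) • b₁ j := by
      rw [← hxlapp, ← hxlapp, hxlxl]
    rw [hb₁, Matrix.mulVec_smul, hb₁, hτ₁, smul_smul] at h1
    have h2 : (c₁ j * c₁ (τ₁ j) - s ^ 2) • b₁ j = 0 := by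
      rw [sub_smul, h1, sub_self]
    rcases smul_eq_zero.1 h2 with h3 | h3
    · exact sub_eq_zero.1 h3
    · exact absurd h3 (b₁.ne_zero j)
  -- the rescaling
  set d : Fin n → F := fun j => if τ₁ j < j then c₁ (τ₁ j) / s else 1 with hd
  have hd0 : ∀ j, d j ≠ 0 := by
    intro j
    simp only [hd]
    split_ifs
    · exact div_ne_zero (hc₁ _) hs
    · exact one_ne_zero
  set ε : Fin n → F := fun j => (d (τ₁ j))⁻¹ * c₁ j * d j with hε
  have hεs : ∀ j, ε j = s ∨ ε j = -s := by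
    intro j
    rcases lt_trichotomy (τ₁ j) j with hlt | heq | hgt
    · left
      have h1 : d j = c₁ (τ₁ j) / s := by simp only [hd, if_pos hlt]
      have h2 : d (τ₁ j) = 1 := by
        simp only [hd, hτ₁ j]
        rw [if_neg (not_lt.2 hlt.le)]
      simp only [hε]
      rw [h1, h2, inv_one, one_mul, ← mul_div_assoc, hcc j]
      field_simp
    · have h1 : d j = 1 := by
        simp only [hd]
        rw [if_neg (by rw [heq]; exact lt_irrefl j)]
      have h3 : c₁ j * c₁ j = s * s := by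
        have := hcc j
        rw [heq] at this
        rw [this]
        ring
      simp only [hε]
      rw [heq, h1, inv_one, one_mul, mul_one]
      exact mul_self_eq_mul_self_iff.1 h3
    · left
      have h1 : d j = 1 := by
        simp only [hd]
        rw [if_neg (not_lt.2 hgt.le)]
      have h2 : d (τ₁ j) = c₁ j / s := by
        simp only [hd, hτ₁ j]
        rw [if_pos hgt]
      simp only [hε]
      rw [h1, h2, mul_one]
      have := hc₁ j
      field_simp
  -- the matrices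
  set P₁ : Matrix (Fin n) (Fin n) F := (Pi.basisFun F (Fin n)).toMatrix b₁ with hP₁
  set Q₁ : Matrix (Fin n) (Fin n) F := b₁.toMatrix (Pi.basisFun F (Fin n)) with hQ₁
  have hP₁Q₁ : P₁ * Q₁ = 1 := Module.Basis.toMatrix_mul_toMatrix_flip _ _
  have hQ₁P₁ : Q₁ * P₁ = 1 := Module.Basis.toMatrix_mul_toMatrix_flip _ _
  have hP₁app : ∀ i j, P₁ i j = b₁ j i := by
    intro i j
    rw [hP₁, Module.Basis.toMatrix_apply, Pi.basisFun_repr]
  set M₁ : Matrix (Fin n) (Fin n) F := fun k j => if k = τ₁ j then c₁ j else 0 with hM₁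
  have hXP₁ : X * P₁ = P₁ * M₁ := by
    ext i j
    rw [Matrix.mul_apply, Matrix.mul_apply]
    have h1 : ∑ k, X i k * P₁ k j = (X *ᵥ (b₁ j)) i := by
      rw [Matrix.mulVec, dotProduct]
      apply Finset.sum_congr rfl
      intro k _
      rw [hP₁app]
    rw [h1, hb₁]
    simp only [hM₁, mul_ite, mul_zero, Finset.sum_ite_eq', Finset.mem_univ, if_true, Pi.smul_apply,
      smul_eq_mul, hP₁app]
    ring
  set D : Matrix (Fin n) (Fin n) F := Matrix.diagonal d with hD
  set D' : Matrix (Fin n) (Fin n) F := Matrix.diagonal (fun j => (d j)⁻¹) with hD'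
  have hDD' : D * D' = 1 := by
    rw [hD, hD', Matrix.diagonal_mul_diagonal, ← Matrix.diagonal_one]
    congr 1
    funext j
    exact mul_inv_cancel₀ (hd0 j)
  have hD'D : D' * D = 1 := by
    rw [hD, hD', Matrix.diagonal_mul_diagonal, ← Matrix.diagonal_one]
    congr 1
    funext j
    exact inv_mul_cancel₀ (hd0 j)
  set A : Matrix (Fin n) (Fin n) F := fun k j => if k = τ₁ j then ε j / s else 0 with hA
  refine ⟨P₁ * D, D' * Q₁, A, ?_, ?_, ?_, ?_⟩
  · calc P₁ * D * (D' * Q₁) = P₁ * ((D * D') * Q₁) := by simp only [Matrix.mul_assoc]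
      _ = 1 := by rw [hDD', Matrix.one_mul, hP₁Q₁]
  · calc D' * Q₁ * (P₁ * D) = D' * ((Q₁ * P₁) * D) := by simp only [Matrix.mul_assoc]
      _ = 1 := by rw [hQ₁P₁, Matrix.one_mul, hD'D]
  · have h1 : D' * Q₁ * X * (P₁ * D) = D' * M₁ * D := by
      calc D' * Q₁ * X * (P₁ * D) = D' * (Q₁ * (X * P₁)) * D := by simp only [Matrix.mul_assoc]
        _ = D' * ((Q₁ * P₁) * M₁) * D := by rw [hXP₁, Matrix.mul_assoc Q₁ P₁ M₁]
        _ = D' * M₁ * D := by rw [hQ₁P₁, Matrix.one_mul]
    rw [h1]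
    ext k j
    rw [hD, hD', Matrix.mul_diagonal, Matrix.diagonal_mul, Matrix.smul_apply, smul_eq_mul]
    simp only [hM₁, hA, hε]
    by_cases hk : k = τ₁ j
    · rw [if_pos hk, if_pos hk, hk]
      field_simp
    · rw [if_neg hk, if_neg hk]
      ring
  · intro k j
    simp only [hA]
    by_cases hk : k = τ₁ j
    · rw [if_pos hk]
      rcases hεs j with h | h
      · right; left
        rw [h, div_self hs]
      · right; right
        rw [h, neg_div, div_self hs]
    · left
      rw [if_neg hk]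

end Cfsg.Agent.Lib.Helper8.SubfInv
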