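import Mathlib
import Cfsg.Agent.Lib.Helper8.SubfInvA
import Cfsg.Agent.S0242

/-!
# The subfield subgroup of `SL_n(q)`, `q = q₀^k` odd with `k` odd, has odd index (helper8)
-/

set_option autoImplicit false
set_option linter.unusedSectionVars false

open scoped MatrixGroups

namespace Cfsg.Agent.Lib.Helper8.SubfInv

open Matrix

section Arith

/-- `a^k - 1 = (a - 1) * (odd)` for `a`, `k` odd -/
theorem pow_sub_one_odd (a k : ℕ) (ha : Odd a) (hk : Odd k) :
    ∃ c : ℕ, Odd c ∧ a ^ k - 1 = (a - 1) * c := by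
  refine ⟨∑ i ∈ Finset.range k, a ^ i, ?_, ?_⟩
  · rw [Finset.odd_sum_iff_odd_card_odd]
    have : (Finset.range k).filter (fun x => Odd (a ^ x)) = Finset.range k := by
      apply Finset.filter_true_of_mem
      intro x _
      exact ha.pow
    rw [this, Finset.card_range]
    exact hk
  · rw [mul_comm]
    exact (geom_sum_mul_of_one_le ha.pos k).symm

/-- the factors of the order of `GL_n` -/
theorem factor_odd (q₀ k n i : ℕ) (hq₀ : Odd q₀) (hk : Odd k) (hi : i < n) :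
    ∃ c : ℕ, Odd c ∧ (q₀ ^ k) ^ n - (q₀ ^ k) ^ i = (q₀ ^ n - q₀ ^ i) * c := by
  obtain ⟨c, hc, hce⟩ := pow_sub_one_odd (q₀ ^ (n - i)) k hq₀.pow hk
  refine ⟨q₀ ^ (i * (k - 1)) * c, (hq₀.pow).mul hc, ?_⟩
  have hk1 : 1 ≤ k := hk.pos
  have e1 : (q₀ ^ k) ^ n - (q₀ ^ k) ^ i = (q₀ ^ k) ^ i * ((q₀ ^ (n - i)) ^ k - 1) := by
    rw [Nat.mul_sub, mul_one, ← pow_mul, ← pow_mul, ← pow_mul, ← pow_add]
    congr 2
    have : n = i + (n - i) := by omega
    calc k * n = k * (i + (n - i)) := by rw [← this]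
      _ = k * i + (n - i) * k := by ring
  have e2 : q₀ ^ n - q₀ ^ i = q₀ ^ i * (q₀ ^ (n - i) - 1) := by
    rw [Nat.mul_sub, mul_one, ← pow_add]
    congr 2
    omega
  rw [e1, e2, hce]
  have e3 : (q₀ ^ k) ^ i = q₀ ^ i * q₀ ^ (i * (k - 1)) := by
    rw [← pow_mul, ← pow_add]
    congr 1
    have : k = 1 + (k - 1) := by omega
    calc k * i = (1 + (k - 1)) * i := by rw [← this]
      _ = i + i * (k - 1) := by ring
  rw [e3]
  ring

theorem prod_odd (q₀ k n : ℕ) (hq₀ : Odd q₀) (hk : Odd k) :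
    ∃ c : ℕ, Odd c ∧ ∏ i : Fin n, ((q₀ ^ k) ^ n - (q₀ ^ k) ^ (i : ℕ)) =
      (∏ i : Fin n, (q₀ ^ n - q₀ ^ (i : ℕ))) * c := by
  have h : ∀ i : Fin n, ∃ c : ℕ, Odd c ∧
      (q₀ ^ k) ^ n - (q₀ ^ k) ^ (i : ℕ) = (q₀ ^ n - q₀ ^ (i : ℕ)) * c :=
    fun i => factor_odd q₀ k n i hq₀ hk i.2
  choose c hc hce using h
  refine ⟨∏ i, c i, ?_, ?_⟩
  · exact Finset.prod_induction _ Odd (fun a b => Odd.mul) odd_one (fun i _ => hc i)
  · rw [← Finset.prod_mul_distrib]
    exact Finset.prod_congr rfl (fun i _ => hce i)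

end Arith

variable {n : ℕ} {F : Type*} [Field F] [Fintype F] (F₀ : Subfield F)

theorem map_range_le :
    (Matrix.SpecialLinearGroup.map (n := Fin n) (F₀.subtype : F₀ →+* F)).range ≤
      (Cfsg.Geo.subfieldSubgroup F₀ (1 : GL (Fin n) F)).comap
        (Matrix.SpecialLinearGroup.toGL : Matrix.SpecialLinearGroup (Fin n) F →* GL (Fin n) F) := by
  rintro _ ⟨A, rfl⟩
  refine mem_comap_of_eq_smul F₀ _ 1 one_ne_zero _ ?_ (one_smul _ _).symm
  intro i j
  rw [Matrix.SpecialLinearGroup.map_apply_coe, RingHom.mapMatrix_apply, Matrix.map_apply]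
  exact (A.1 i j).2

theorem map_injective :
    Function.Injective (Matrix.SpecialLinearGroup.map (n := Fin n) (F₀.subtype : F₀ →+* F)) := by
  intro A B h
  apply Subtype.ext
  ext i j
  have := congrArg (fun M : Matrix.SpecialLinearGroup (Fin n) F =>
    (M : Matrix (Fin n) (Fin n) F) i j) h
  simp only [Matrix.SpecialLinearGroup.map_apply_coe, RingHom.mapMatrix_apply, Matrix.map_apply]
    at this
  exact this

/-- for `q = q₀^k` odd with `k` odd, the subfield subgroup of `SL_n(q)` has odd index -/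
theorem odd_index (q q₀ k : ℕ) (hq : Fintype.card F = q) (hF₀ : Nat.card ↥F₀ = q₀)
    (hqk : q = q₀ ^ k) (hqodd : Odd q) (hk : Odd k) (hn : 1 ≤ n) :
    ¬ 2 ∣ ((Cfsg.Geo.subfieldSubgroup F₀ (1 : GL (Fin n) F)).comap
      (Matrix.SpecialLinearGroup.toGL : Matrix.SpecialLinearGroup (Fin n) F →* GL (Fin n) F)).index := by
  classical
  intro h2
  have hk0 : k ≠ 0 := by
    rintro rfl
    exact (Nat.not_odd_iff_even.2 ⟨0, rfl⟩) hk
  have hq₀ : Odd q₀ := by
    rw [hqk] at hqodd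
    exact (Nat.odd_pow_iff hk0).1 hqodd
  have : Fintype ↥F₀ := Fintype.ofFinite _
  have hF₀' : Fintype.card ↥F₀ = q₀ := by rw [← hF₀, Nat.card_eq_fintype_card]
  set H₁ := (Matrix.SpecialLinearGroup.map (n := Fin n) (F₀.subtype : F₀ →+* F)).range with hH₁
  have h3 : 2 ∣ H₁.index := dvd_trans h2 (Subgroup.index_dvd_of_le (map_range_le F₀))
  have hcard : Nat.card H₁ = Nat.card (Matrix.SpecialLinearGroup (Fin n) ↥F₀) :=
    (Nat.card_congr (MonoidHom.ofInjective (map_injective F₀)).toEquiv).symm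
  have h4 := Subgroup.index_mul_card H₁
  rw [hcard] at h4
  have h5 := Cfsg.Agent.S0242.result hq n hn
  have h6 := Cfsg.Agent.S0242.result hF₀' n hn
  obtain ⟨c, hc, hce⟩ := prod_odd q₀ k n hq₀ hk
  obtain ⟨c₁, hc₁, hce₁⟩ := pow_sub_one_odd q₀ k hq₀ hk
  rw [hqk, hce, ← h6, hce₁, ← h4] at h5
  set S₀ := Nat.card (Matrix.SpecialLinearGroup (Fin n) ↥F₀) with hS₀
  have hS₀pos : 0 < S₀ := Nat.card_pos
  have hq₀1 : 0 < q₀ - 1 := by
    have : 1 < q₀ := by rw [← hF₀']; exact Fintype.one_lt_card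
    omega
  have h7 : ((q₀ - 1) * S₀) * (c₁ * H₁.index) = ((q₀ - 1) * S₀) * c := by
    rw [← h5]
    ring
  have h8 := Nat.eq_of_mul_eq_mul_left (Nat.mul_pos hq₀1 hS₀pos) h7
  have h9 : Odd (c₁ * H₁.index) := by rw [h8]; exact hc
  have h10 : Odd H₁.index := (Nat.odd_mul.1 h9).2
  rw [← Nat.not_even_iff_odd, even_iff_two_dvd] at h10
  exact h10 h3

end Cfsg.Agent.Lib.Helper8.SubfInv
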