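import Mathlib
import Cfsg.Agent.Lib.Helper4.Sylow
import Cfsg.Agent.Lib.Helper4.SylowPrime
import Cfsg.Agent.Lib.Helper5.SylCnt
import Cfsg.Agent.Lib.Helper5.SylCnt2

/-!
# Fixed points on the Sylow `p`-subgroups, `|P| = p` (helper8, for S0496)

`N = N_G(P)`, `|P| = p`.  The number of `P`-orbits on `G ⧸ N` is `(n_p + p - 1) / p`, an
involution `s ∈ N ∖ C(P)` fixes at most that many cosets, and `|C(s)| * p ≤ #orbits * |N|`.
-/

set_option autoImplicit false

namespace Cfsg.Agent.Lib.Helper8.SylFix

open Cfsg.Agent.Lib.Helper4.Sylow Cfsg.Agent.Lib.Helper4.SylowPrime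

variable {G : Type*} [Group G] [Finite G]

/-- Burnside's count for `P` of order `p` acting on the cosets of its normalizer. -/
theorem card_orbits_mul (p : ℕ) [hp : Fact p.Prime] (P : Sylow p G)
    (hP : Nat.card ↥(P : Subgroup G) = p) :
    Nat.card (MulAction.orbitRel.Quotient ↥(P : Subgroup G)
        (G ⧸ Subgroup.normalizer ((P : Subgroup G) : Set G))) * p =
      (Subgroup.normalizer ((P : Subgroup G) : Set G)).index + (p - 1) := by
  classical
  set N := Subgroup.normalizer ((P : Subgroup G) : Set G) with hN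
  have hfP : Fintype ↥(P : Subgroup G) := Fintype.ofFinite _
  have hfQ : Fintype (G ⧸ N) := Fintype.ofFinite _
  have hfO : Fintype (MulAction.orbitRel.Quotient ↥(P : Subgroup G) (G ⧸ N)) := Fintype.ofFinite _
  have hfF : ∀ a : ↥(P : Subgroup G), Fintype (MulAction.fixedBy (G ⧸ N) a) :=
    fun a => Fintype.ofFinite _
  have key := MulAction.sum_card_fixedBy_eq_card_orbits_mul_card_group ↥(P : Subgroup G) (G ⧸ N)
  have h1 : ∀ a : ↥(P : Subgroup G), Fintype.card (MulAction.fixedBy (G ⧸ N) a) =
      if a = 1 then N.index else 1 := by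
    intro a
    split_ifs with h
    · subst h
      rw [← Nat.card_eq_fintype_card]
      have hu : MulAction.fixedBy (G ⧸ N) (1 : ↥(P : Subgroup G)) = Set.univ := by
        ext x
        simp
      rw [hu, Nat.card_congr (Equiv.Set.univ _)]
      exact (Subgroup.index_eq_card N).symm
    · rw [← Nat.card_eq_fintype_card]
      have ha1 : (a : G) ≠ 1 := fun e => h (Subtype.ext e)
      have ho : orderOf (a : G) = p := by
        have hd : orderOf a ∣ p := by
          have := orderOf_dvd_natCard a
          rwa [hP] at this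
        rw [Subgroup.orderOf_coe]
        rcases (Nat.dvd_prime hp.out).1 hd with h0 | h0
        · exact absurd (orderOf_eq_one_iff.1 h0) h
        · exact h0
      exact card_fixedBy_eq_one p P hP (a : G) ho
  rw [Finset.sum_congr rfl (fun a _ => h1 a)] at key
  rw [Finset.sum_ite, Finset.sum_const, Finset.sum_const, Finset.filter_eq',
    if_pos (Finset.mem_univ _), Finset.card_singleton, Finset.filter_ne',
    Finset.card_erase_of_mem (Finset.mem_univ _), Finset.card_univ, smul_eq_mul, smul_eq_mul,
    one_mul, mul_one, ← Nat.card_eq_fintype_card (α := ↥(P : Subgroup G)), hP,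
    ← Nat.card_eq_fintype_card] at key
  exact key.symm

/-- An involution of `N(P) ∖ C(P)` has at least `p` conjugates inside `N(P)`; with the fixed point
formula: `|C(s)| * p ≤ #orbits * |N(P)|`. -/
theorem card_centralizer_mul_le (p : ℕ) [hp : Fact p.Prime] (hp2 : p ≠ 2) (P : Sylow p G)
    (hP : Nat.card ↥(P : Subgroup G) = p) (s : G)
    (hsN : s ∈ Subgroup.normalizer ((P : Subgroup G) : Set G)) (hs2 : s ^ 2 = 1)
    (hsC : s ∉ Subgroup.centralizer ((P : Subgroup G) : Set G)) :
    Nat.card (Subgroup.centralizer ({s} : Set G)) * p ≤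
      Nat.card (MulAction.orbitRel.Quotient ↥(P : Subgroup G)
        (G ⧸ Subgroup.normalizer ((P : Subgroup G) : Set G))) *
        Nat.card (Subgroup.normalizer ((P : Subgroup G) : Set G)) := by
  classical
  set N := Subgroup.normalizer ((P : Subgroup G) : Set G) with hN
  have hfix := card_fixedBy_le_card_orbits p P hP s hsN hsC
  have hform := Cfsg.Agent.Lib.Helper5.SylCnt.fixedBy_mul_card_eq N s hsN
  rw [← N.card_mul_index] at hform
  have hidx : 0 < N.index := Nat.pos_of_ne_zero Subgroup.index_ne_zero_of_finite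
  -- cancel the index
  have hform2 : Nat.card (MulAction.fixedBy (G ⧸ N) s) * Nat.card N =
      Set.ncard {g : G | IsConj s g ∧ g ∈ N} * Nat.card (Subgroup.centralizer ({s} : Set G)) := by
    apply Nat.eq_of_mul_eq_mul_left hidx
    rw [← hform]
    ring
  -- at least `p` conjugates
  have hinj : Function.Injective (fun x : ↥(P : Subgroup G) => (x : G) * s * (x : G)⁻¹) := by
    intro x y hxy
    simp only at hxy
    set u : G := (y : G)⁻¹ * (x : G) with hu
    have huP : u ∈ (P : Subgroup G) := mul_mem (inv_mem y.2) x.2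
    have hcomm : s * u * s⁻¹ = u := by
      have e1 : (y : G)⁻¹ * ((x : G) * s * (x : G)⁻¹) * (y : G) = s := by
        rw [hxy]
        group
      have e2 : u * s * u⁻¹ = s := by
        have e3 : u * s * u⁻¹ = (y : G)⁻¹ * ((x : G) * s * (x : G)⁻¹) * (y : G) := by
          rw [hu]
          group
        rw [e3, e1]
      have hus : u * s = s * u := by
        have e4 := congrArg (· * u) e2
        simpa using e4
      rw [← hus, mul_inv_cancel_right]
    have hinv := Cfsg.Agent.Lib.Helper5.SylCnt.conj_eq_inv_of_sq_eq_one P hP s hsN hs2 hsC u huP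
    have hu2 : u ^ 2 = 1 := by
      rw [hcomm] at hinv
      rw [sq]
      nth_rewrite 1 [hinv]
      exact inv_mul_cancel u
    have hu1 : u = 1 := by
      have hd2 : orderOf u ∣ 2 := orderOf_dvd_of_pow_eq_one hu2
      have hdp : orderOf u ∣ p := by
        have := orderOf_dvd_natCard (⟨u, huP⟩ : ↥(P : Subgroup G))
        rw [hP, Subgroup.orderOf_mk] at this
        exact this
      have hcop : Nat.Coprime 2 p := (Nat.coprime_primes Nat.prime_two hp.out).2 (Ne.symm hp2)
      have := Nat.eq_one_of_dvd_coprimes hcop hd2 hdp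
      exact orderOf_eq_one_iff.1 this
    apply Subtype.ext
    have : (y : G)⁻¹ * (x : G) = 1 := hu1
    exact (inv_mul_eq_one.1 this).symm
  have hcount : p ≤ Set.ncard {g : G | IsConj s g ∧ g ∈ N} := by
    have hsub : Set.range (fun x : ↥(P : Subgroup G) => (x : G) * s * (x : G)⁻¹) ⊆
        {g : G | IsConj s g ∧ g ∈ N} := by
      rintro _ ⟨x, rfl⟩
      refine ⟨isConj_iff.2 ⟨x, rfl⟩, ?_⟩
      have hxN : (x : G) ∈ N := Subgroup.le_normalizer x.2
      exact mul_mem (mul_mem hxN hsN) (inv_mem hxN)
    have h1 := Set.ncard_le_ncard hsub (Set.toFinite _)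
    have h2 : Set.ncard (Set.range (fun x : ↥(P : Subgroup G) => (x : G) * s * (x : G)⁻¹)) = p := by
      rw [← Set.image_univ, Set.ncard_image_of_injective _ hinj, Set.ncard_univ, hP]
    omega
  calc Nat.card (Subgroup.centralizer ({s} : Set G)) * p
      ≤ Nat.card (Subgroup.centralizer ({s} : Set G)) * Set.ncard {g : G | IsConj s g ∧ g ∈ N} :=
        Nat.mul_le_mul_left _ hcount
    _ = Nat.card (MulAction.fixedBy (G ⧸ N) s) * Nat.card N := by rw [hform2, mul_comm]
    _ ≤ _ := Nat.mul_le_mul_right _ hfix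

end Cfsg.Agent.Lib.Helper8.SylFix
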