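import Mathlib
import Cfsg.Agent.Lib.Helper7.SylGen

/-!
# Sylow `2`-subgroups of symmetric groups are self-normalizing

Built on helper7's recursive description `(wr 2 H).map emb` of a Sylow `2`-subgroup of
`Perm (Fin n)`.
-/

set_option autoImplicit false
set_option linter.style.haveILetI false
set_option linter.unusedSectionVars false
set_option linter.unusedVariables false

namespace Cfsg.Agent.Lib.Helper8.SylNorm

open Equiv Cfsg.Agent.Lib.Helper7.SylGen

section core

variable {α : Type*} {ρ : Type*}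

/-- the embedding of `Perm (α × ZMod 2)` into `Perm ((α × ZMod 2) ⊕ ρ)` -/
def iota (α : Type*) (ρ : Type*) : Perm (α × ZMod 2) →* Perm ((α × ZMod 2) ⊕ ρ) :=
  (Perm.sumCongrHom (α × ZMod 2) ρ).comp (MonoidHom.inl _ _)

theorem iota_inl (x : Perm (α × ZMod 2)) (y : α × ZMod 2) :
    iota α ρ x (Sum.inl y) = Sum.inl (x y) := by
  simp [iota]

theorem iota_inr (x : Perm (α × ZMod 2)) (z : ρ) :
    iota α ρ x (Sum.inr z) = Sum.inr z := by
  simp [iota]

theorem iota_injective : Function.Injective (iota α ρ) := by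
  intro x y h
  ext1 y'
  have := congrArg (fun e : Perm ((α × ZMod 2) ⊕ ρ) => e (Sum.inl y')) h
  simp only [iota_inl] at this
  exact Sum.inl_injective this

theorem zmod2_cases (b : ZMod 2) : b = 0 ∨ b = 1 := by
  revert b; decide

theorem iota_single [DecidableEq α] [DecidableEq ρ] (a : α) :
    iota α ρ (mk 2 1 (Pi.single a 1)) = swap (Sum.inl (a, (0 : ZMod 2))) (Sum.inl (a, 1)) := by
  ext1 x
  rcases x with ⟨a', b⟩ | z
  · rw [iota_inl, mk_apply]
    by_cases h : a' = a
    · subst h
      simp only [Perm.one_apply, Pi.single_eq_same]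
      rcases zmod2_cases b with rfl | rfl
      · rw [zero_add, swap_apply_left]
      · rw [swap_apply_right]
        rfl
    · simp only [Perm.one_apply, Pi.single_eq_of_ne h, add_zero]
      rw [swap_apply_of_ne_of_ne] <;> simp [h]
  · rw [iota_inr, swap_apply_of_ne_of_ne] <;> simp

theorem three_moved {Ω : Type*} [DecidableEq Ω] (x y : Ω) (u : Perm Ω) (hu : u = swap x y)
    (p1 p2 p3 : Ω) (h12 : p1 ≠ p2) (h13 : p1 ≠ p3) (h23 : p2 ≠ p3)
    (m1 : u p1 ≠ p1) (m2 : u p2 ≠ p2) (m3 : u p3 ≠ p3) : False := by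
  subst hu
  have key : ∀ z, swap x y z ≠ z → z = x ∨ z = y := by
    intro z hz
    by_contra hcon
    rw [not_or] at hcon
    exact hz (Equiv.swap_apply_of_ne_of_ne hcon.1 hcon.2)
  rcases key p1 m1 with h | h <;> rcases key p2 m2 with h' | h' <;>
    rcases key p3 m3 with h'' | h'' <;>
    first
      | exact h12 (h.trans h'.symm)
      | exact h13 (h.trans h''.symm)
      | exact h23 (h'.trans h''.symm)

theorem sigma_eq_one_of_swap [DecidableEq α] [DecidableEq ρ] (σ : Perm α) (f : α → ZMod 2)
    (x y : (α × ZMod 2) ⊕ ρ) (hu : iota α ρ (mk 2 σ f) = swap x y) : σ = 1 := by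
  ext1 c
  by_contra hc
  rw [Perm.one_apply] at hc
  have hc2 : σ (σ c) ≠ σ c := fun h => hc (σ.injective h)
  apply three_moved x y _ hu (Sum.inl (c, 0)) (Sum.inl (c, 1)) (Sum.inl (σ c, 0))
  · intro h
    have := Sum.inl_injective h
    simp at this
  · intro h
    have := Sum.inl_injective h
    simp only [Prod.mk.injEq, and_true] at this
    exact hc this.symm
  · intro h
    have := Sum.inl_injective h
    simp only [Prod.mk.injEq] at this
    exact hc this.1.symm
  · rw [iota_inl, mk_apply]
    intro h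
    have := Sum.inl_injective h
    simp only [Prod.mk.injEq] at this
    exact hc this.1
  · rw [iota_inl, mk_apply]
    intro h
    have := Sum.inl_injective h
    simp only [Prod.mk.injEq] at this
    exact hc this.1
  · rw [iota_inl, mk_apply]
    intro h
    have := Sum.inl_injective h
    simp only [Prod.mk.injEq] at this
    exact hc2 this.1

theorem block_of_swap [DecidableEq α] [DecidableEq ρ] (f : α → ZMod 2)
    (x y : (α × ZMod 2) ⊕ ρ) (hu : iota α ρ (mk 2 1 f) = swap x y) (hxy : x ≠ y) :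
    ∃ c : α, ∃ b0 : ZMod 2, x = Sum.inl (c, b0) ∧ y = Sum.inl (c, b0 + 1) := by
  have h1 : iota α ρ (mk 2 1 f) x = y := by rw [hu, swap_apply_left]
  rcases x with ⟨c, b0⟩ | z
  · refine ⟨c, b0, rfl, ?_⟩
    rw [iota_inl, mk_apply] at h1
    simp only [Perm.one_apply] at h1
    have hf : f c = 1 := by
      rcases zmod2_cases (f c) with h | h
      · exfalso
        apply hxy
        rw [← h1, h, add_zero]
      · exact h
    rw [← h1, hf]
  · exfalso
    rw [iota_inr] at h1
    exact hxy h1

theorem normalizer_wr_le [Fintype α] [DecidableEq α] [DecidableEq ρ] [Subsingleton ρ]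
    (H : Subgroup (Perm α)) :
    Subgroup.normalizer (((wr 2 H).map (iota α ρ) : Subgroup (Perm ((α × ZMod 2) ⊕ ρ))) :
        Set (Perm ((α × ZMod 2) ⊕ ρ))) ≤
      (wr 2 (Subgroup.normalizer (H : Set (Perm α)))).map (iota α ρ) := by
  intro g hg
  have hconj : ∀ w ∈ (wr 2 H).map (iota α ρ), g * w * g⁻¹ ∈ (wr 2 H).map (iota α ρ) :=
    fun w hw => (Subgroup.mem_normalizer_iff.mp hg w).mp hw
  have h1 : ∀ a : α, ∃ c : α, ∃ b0 : ZMod 2,
      g (Sum.inl (a, 0)) = Sum.inl (c, b0) ∧ g (Sum.inl (a, 1)) = Sum.inl (c, b0 + 1) := by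
    intro a
    have hta : iota α ρ (mk 2 1 (Pi.single a 1)) ∈ (wr 2 H).map (iota α ρ) :=
      Subgroup.mem_map_of_mem _ ⟨1, H.one_mem, _, rfl⟩
    obtain ⟨_, ⟨σ, hσ, f, rfl⟩, hu⟩ := hconj _ hta
    rw [iota_single, ← Equiv.swap_apply_apply] at hu
    have hne : g (Sum.inl (a, (0 : ZMod 2))) ≠ g (Sum.inl (a, 1)) := by
      intro h
      have := Sum.inl_injective (g.injective h)
      simp at this
    have hσ1 : σ = 1 := sigma_eq_one_of_swap σ f _ _ hu
    subst hσ1
    exact block_of_swap f _ _ hu hne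
  choose π φ hπ0 hπ1 using h1
  have hπ : ∀ a b, g (Sum.inl (a, b)) = Sum.inl (π a, b + φ a) := by
    intro a b
    rcases zmod2_cases b with rfl | rfl
    · rw [hπ0, zero_add]
    · rw [hπ1, add_comm]
  have hinj : Function.Injective π := by
    intro a a' h
    have e0 := hπ a 0
    have e0' := hπ a' 0
    rw [zero_add] at e0 e0'
    have hb : ∀ s t : ZMod 2, t = s ∨ t = 1 + s := by decide
    rcases hb (φ a) (φ a') with hb | hb
    · have h2 : g (Sum.inl (a, 0)) = g (Sum.inl (a', 0)) := by rw [e0, e0', h, hb]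
      have := Sum.inl_injective (g.injective h2)
      simp only [Prod.mk.injEq, and_true] at this
      exact this
    · exfalso
      have h2 : g (Sum.inl (a, 1)) = g (Sum.inl (a', 0)) := by rw [hπ a 1, e0', h, hb]
      have := Sum.inl_injective (g.injective h2)
      simp at this
  have hbij : Function.Bijective π := Finite.injective_iff_bijective.mp hinj
  obtain ⟨π', hπ'⟩ : ∃ π' : Perm α, ∀ a, π' a = π a := ⟨Equiv.ofBijective π hbij, fun a => rfl⟩
  have hginr : ∀ z : ρ, g (Sum.inr z) = Sum.inr z := by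
    intro z
    rcases hgz : g (Sum.inr z) with ⟨c, b⟩ | z'
    · exfalso
      obtain ⟨a, rfl⟩ := hbij.2 c
      have h2 : g (Sum.inl (a, b - φ a)) = g (Sum.inr z) := by rw [hπ, hgz, sub_add_cancel]
      have := g.injective h2
      simp at this
    · rw [Subsingleton.elim z' z]
  have hg_eq : g = iota α ρ (mk 2 π' φ) := by
    ext1 x
    rcases x with ⟨a, b⟩ | z
    · rw [iota_inl, mk_apply, hπ, hπ']
    · rw [iota_inr, hginr]
  refine ⟨mk 2 π' φ, ⟨π', ?_, φ, rfl⟩, hg_eq.symm⟩
  apply Subgroup.mem_normalizer_fintype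
  intro τ hτ
  have hτW : iota α ρ (mk 2 τ (fun _ => 0)) ∈ (wr 2 H).map (iota α ρ) :=
    Subgroup.mem_map_of_mem _ ⟨τ, hτ, _, rfl⟩
  obtain ⟨_, ⟨σ, hσ, f, rfl⟩, hu⟩ := hconj _ hτW
  rw [hg_eq, ← map_inv, ← map_mul, ← map_mul] at hu
  have hu' := iota_injective hu
  have hu'' : mk 2 σ f * mk 2 π' φ = mk 2 π' φ * mk 2 τ (fun _ => 0) := by
    rw [hu', inv_mul_cancel_right]
  rw [mk_mul, mk_mul] at hu''
  have h3 := congrArg Prod.fst (mk_injective 2 (a₁ := (σ * π', _)) (a₂ := (π' * τ, _)) hu'')
  simp only at h3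
  have hσeq : σ = π' * τ * π'⁻¹ := by rw [← h3, mul_inv_cancel_right]
  rw [SetLike.mem_coe, ← hσeq]
  exact hσ

/-- transported version: for any bijection `e` onto a type `β` -/
theorem normalizer_map_eq {β : Type*} [Fintype α] [DecidableEq α] [DecidableEq ρ] [Subsingleton ρ]
    (e : (α × ZMod 2) ⊕ ρ ≃ β) (H : Subgroup (Perm α))
    (hH : Subgroup.normalizer (H : Set (Perm α)) = H) :
    Subgroup.normalizer
        (((wr 2 H).map (e.permCongrHom.toMonoidHom.comp (iota α ρ)) : Subgroup (Perm β)) :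
          Set (Perm β)) =
      (wr 2 H).map (e.permCongrHom.toMonoidHom.comp (iota α ρ)) := by
  apply le_antisymm
  · rw [← Subgroup.map_map, ← Subgroup.map_equiv_normalizer_eq]
    apply Subgroup.map_mono
    have := normalizer_wr_le (ρ := ρ) H
    rw [hH] at this
    exact this
  · exact Subgroup.le_normalizer

end core

theorem emb_eq (m r n : ℕ) (hn : n = 2 * m + r) :
    ∃ e : (Fin m × ZMod 2) ⊕ Fin r ≃ Fin n,
      emb 2 m r n hn = e.permCongrHom.toMonoidHom.comp (iota (Fin m) (Fin r)) := by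
  unfold emb
  exact ⟨_, rfl⟩

/-- every Sylow `2`-subgroup of `Perm (Fin n)` is self-normalizing -/
theorem normalizer_sylow_two (n : ℕ) : ∀ P : Sylow 2 (Perm (Fin n)),
    Subgroup.normalizer ((P : Subgroup (Perm (Fin n))) : Set (Perm (Fin n))) =
      (P : Subgroup (Perm (Fin n))) := by
  induction n using Nat.strong_induction_on with
  | _ n ih =>
    intro P
    by_cases hn2 : n < 2
    · have : Subsingleton (Perm (Fin n)) := by
        have : Subsingleton (Fin n) := by
          rw [Fin.subsingleton_iff_le_one]; omega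
        infer_instance
      ext x
      rw [Subsingleton.elim x 1]
      exact ⟨fun _ => Subgroup.one_mem _, fun _ => Subgroup.one_mem _⟩
    · have hm : n / 2 < n := Nat.div_lt_self (by omega) (by norm_num)
      obtain ⟨H⟩ : Nonempty (Sylow 2 (Perm (Fin (n / 2)))) := inferInstance
      have hH := ih (n / 2) hm H
      have hn : n = 2 * (n / 2) + n % 2 := (Nat.div_add_mod n 2).symm
      have hr : n % 2 < 2 := Nat.mod_lt n (by norm_num)
      have hp : Nat.Prime 2 := Nat.prime_two
      have hcard : Nat.card ((wr 2 (H : Subgroup (Perm (Fin (n / 2))))).map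
          (emb 2 (n / 2) (n % 2) n hn)) = 2 ^ (Nat.card (Perm (Fin n))).factorization 2 := by
        rw [Subgroup.card_map_of_injective (emb_injective 2 (n / 2) (n % 2) n hn), card_wr,
          H.card_eq_multiplicity, Nat.card_perm, Nat.card_perm, Nat.card_fin, Nat.card_fin,
          ← pow_add, Nat.factorization_def _ hp, Nat.factorization_def _ hp]
        conv_rhs => rw [hn]
        rw [padicValNat_factorial_mul_add (n / 2) hr, padicValNat_factorial_mul]
      have hsub : Subsingleton (Fin (n % 2)) := by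
        rw [Fin.subsingleton_iff_le_one]; omega
      have hN0 : Subgroup.normalizer
          (((wr 2 (H : Subgroup (Perm (Fin (n / 2))))).map (emb 2 (n / 2) (n % 2) n hn) :
            Subgroup (Perm (Fin n))) : Set (Perm (Fin n))) =
          (wr 2 (H : Subgroup (Perm (Fin (n / 2))))).map (emb 2 (n / 2) (n % 2) n hn) := by
        obtain ⟨e, he⟩ := emb_eq (n / 2) (n % 2) n hn
        rw [he]
        exact normalizer_map_eq e _ hH
      obtain ⟨g, hg⟩ := MulAction.exists_smul_eq (Perm (Fin n)) (Sylow.ofCard _ hcard) P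
      have hP : (P : Subgroup (Perm (Fin n))) =
          ((wr 2 (H : Subgroup (Perm (Fin (n / 2))))).map (emb 2 (n / 2) (n % 2) n hn)).map
            (MulAut.conj g).toMonoidHom := by
        rw [← hg, Sylow.coe_subgroup_smul, Sylow.coe_ofCard]
        rfl
      rw [hP, ← Subgroup.map_equiv_normalizer_eq, hN0]

end Cfsg.Agent.Lib.Helper8.SylNorm
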