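import Mathlib
import Cfsg.Prelude.Def_Transfer

/-!
# Carrying a statement on the normal elementary abelian subgroups of a Sylow subgroup along an isomorphism

If a group `H` of order `p ^ n * m` (`p ∤ m`) has a subgroup `T` of order `p ^ n` with a subgroup `V` of order `p ^ k`,
elementary abelian and normalised by `T`, which is the only elementary abelian subgroup of `T` of order at least `p ^ k`,
then in every group `G` isomorphic to `H` every Sylow `p`-subgroup `S` has exactly one normal elementary abelian subgroup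
of order `p ^ k` and no normal elementary abelian subgroup of larger order.
-/

set_option autoImplicit false

namespace Cfsg.Agent.Lib.Helper8.SylTransfer

variable {G H : Type*} [Group G] [Group H]

theorem isElementaryAbelian_map (p : ℕ) (ψ : G →* H) (A : Subgroup G) (hA : Cfsg.IsElementaryAbelian p A) :
    Cfsg.IsElementaryAbelian p (A.map ψ) := by
  obtain ⟨hc, hp⟩ := hA
  refine ⟨inferInstance, ?_⟩
  rintro _ ⟨a, ha, rfl⟩
  rw [← map_pow, hp a ha, map_one]

theorem isElementaryAbelian_comap (p : ℕ) (ψ : G →* H) (hψ : Function.Injective ψ) (V : Subgroup H)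
    (hV : Cfsg.IsElementaryAbelian p V) : Cfsg.IsElementaryAbelian p (V.comap ψ) := by
  obtain ⟨hc, hp⟩ := hV
  refine ⟨Subgroup.comap_injective_isMulCommutative V hψ, ?_⟩
  intro a ha
  apply hψ
  rw [map_pow, hp _ ha, map_one]

/-- the statement for a subgroup `S` which is the preimage of `T` under an isomorphism -/
theorem unique_elemab_of_comap (p k : ℕ) (ψ : G ≃* H) (T V : Subgroup H) (hVT : V ≤ T)
    (hVn : ∀ t ∈ T, ∀ v ∈ V, t * v * t⁻¹ ∈ V) (hVe : Cfsg.IsElementaryAbelian p V) (hVc : Nat.card V = p ^ k)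
    (huniq : ∀ B : Subgroup H, B ≤ T → Cfsg.IsElementaryAbelian p B → p ^ k ≤ Nat.card B → B = V)
    (S : Subgroup G) (hS : S = T.comap ψ.toMonoidHom) :
    (∀ A : Subgroup G, A ≤ S → (A.subgroupOf S).Normal → Cfsg.IsElementaryAbelian p A → Nat.card A ≤ p ^ k) ∧
    ∃! A : Subgroup G, A ≤ S ∧ (A.subgroupOf S).Normal ∧ Cfsg.IsElementaryAbelian p A ∧ Nat.card A = p ^ k := by
  subst hS
  have hinj : Function.Injective ψ.toMonoidHom := ψ.injective
  have hcard : ∀ A : Subgroup G, Nat.card (A.map ψ.toMonoidHom) = Nat.card A :=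
    fun A => Subgroup.card_map_of_injective hinj
  have hle : ∀ A : Subgroup G, A ≤ T.comap ψ.toMonoidHom → A.map ψ.toMonoidHom ≤ T := by
    intro A hA
    rw [Subgroup.map_le_iff_le_comap]
    exact hA
  have key : ∀ A : Subgroup G, A ≤ T.comap ψ.toMonoidHom → Cfsg.IsElementaryAbelian p A → p ^ k ≤ Nat.card A →
      A = V.comap ψ.toMonoidHom := by
    intro A hA hAe hAc
    have h1 := huniq (A.map ψ.toMonoidHom) (hle A hA) (isElementaryAbelian_map p _ A hAe) (by rw [hcard]; exact hAc)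
    rw [← h1, Subgroup.comap_map_eq_self_of_injective hinj]
  have hV0c : Nat.card (V.comap ψ.toMonoidHom) = p ^ k := by
    rw [← hVc, ← hcard (V.comap ψ.toMonoidHom), Subgroup.map_comap_eq_self_of_surjective ψ.surjective]
  refine ⟨fun A hA _ hAe => ?_, V.comap ψ.toMonoidHom, ⟨?_, ?_, ?_, hV0c⟩, ?_⟩
  · by_cases h : p ^ k ≤ Nat.card A
    · rw [key A hA hAe h, hV0c]
    · exact (not_le.1 h).le
  · exact Subgroup.comap_mono hVT
  · refine ⟨fun n hn s => ?_⟩
    rw [Subgroup.mem_subgroupOf] at hn ⊢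
    rw [Subgroup.mem_comap] at hn ⊢
    have hs : ψ.toMonoidHom (s : G) ∈ T := s.2
    have := hVn _ hs _ hn
    rw [Subgroup.coe_mul, Subgroup.coe_mul, Subgroup.coe_inv, map_mul, map_mul, map_inv]
    exact this
  · exact isElementaryAbelian_comap p _ hinj V hVe
  · rintro A ⟨hA, _, hAe, hAc⟩
    exact key A hA hAe hAc.ge

/-- a Sylow subgroup of `G` is the preimage of a given subgroup of the right order under some isomorphism -/
theorem exists_equiv_comap [Finite H] (p : ℕ) [Fact p.Prime] (e : G ≃* H) (n m : ℕ) (hm : ¬ p ∣ m)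
    (hH : Nat.card H = p ^ n * m) (T : Subgroup H) (hT : Nat.card T = p ^ n) (S : Sylow p G) :
    ∃ ψ : G ≃* H, (S : Subgroup G) = T.comap ψ.toMonoidHom := by
  have hp : p.Prime := Fact.out
  have : Finite G := Finite.of_equiv H e.symm.toEquiv
  have hm0 : m ≠ 0 := fun h => hm (h ▸ dvd_zero p)
  have hfac : (Nat.card G).factorization p = n := by
    rw [Nat.card_congr e.toEquiv, hH, Nat.factorization_mul (pow_ne_zero _ hp.ne_zero) hm0,
      Nat.Prime.factorization_pow hp, Finsupp.add_apply, Finsupp.single_eq_same,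
      Nat.factorization_eq_zero_of_not_dvd hm, add_zero]
  have hT' : Nat.card (T.comap e.toMonoidHom) = p ^ (Nat.card G).factorization p := by
    rw [hfac, ← hT, ← Subgroup.card_map_of_injective (K := T.comap e.toMonoidHom) (f := e.toMonoidHom) e.injective,
      Subgroup.map_comap_eq_self_of_surjective e.surjective]
  let Q : Sylow p G := Sylow.ofCard (T.comap e.toMonoidHom) hT'
  obtain ⟨g, hg⟩ := MulAction.exists_smul_eq G Q S
  have hQ : (Q : Subgroup G) = T.comap e.toMonoidHom := Sylow.coe_ofCard _ hT'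
  refine ⟨(MulAut.conj g).symm.trans e, ?_⟩
  rw [← hg, Sylow.coe_subgroup_smul, hQ]
  ext x
  rw [Subgroup.mem_pointwise_smul_iff_inv_smul_mem]
  exact Iff.rfl

/-- the general form: prime `p`, Sylow order `p ^ n`, the subgroup `V` of order `p ^ k` -/
theorem sylow_unique_elemab_of_model_gen [Finite H] (p : ℕ) [Fact p.Prime] (n k : ℕ) (e : G ≃* H) (m : ℕ)
    (hm : ¬ p ∣ m) (hH : Nat.card H = p ^ n * m) (T V : Subgroup H) (hT : Nat.card T = p ^ n) (hVT : V ≤ T)
    (hVn : ∀ t ∈ T, ∀ v ∈ V, t * v * t⁻¹ ∈ V) (hVe : Cfsg.IsElementaryAbelian p V) (hVc : Nat.card V = p ^ k)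
    (huniq : ∀ B : Subgroup H, B ≤ T → Cfsg.IsElementaryAbelian p B → p ^ k ≤ Nat.card B → B = V)
    (S : Sylow p G) :
    (∀ A : Subgroup G, A ≤ S → (A.subgroupOf S).Normal → Cfsg.IsElementaryAbelian p A → Nat.card A ≤ p ^ k) ∧
    ∃! A : Subgroup G, A ≤ S ∧ (A.subgroupOf S).Normal ∧ Cfsg.IsElementaryAbelian p A ∧ Nat.card A = p ^ k := by
  obtain ⟨ψ, hψ⟩ := exists_equiv_comap p e n m hm hH T hT S
  exact unique_elemab_of_comap p k ψ T V hVT hVn hVe hVc huniq (S : Subgroup G) hψ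

/-- the form used for the Sylow 2-subgroup of `Fi₂₃`: order `2 ^ 18`, the subgroup `V` of order `2 ^ 11` -/
theorem sylow_unique_elemab_of_model [Finite H] (e : G ≃* H) (m : ℕ) (hm : ¬ 2 ∣ m)
    (hH : Nat.card H = 2 ^ 18 * m) (T V : Subgroup H) (hT : Nat.card T = 2 ^ 18) (hVT : V ≤ T)
    (hVn : ∀ t ∈ T, ∀ v ∈ V, t * v * t⁻¹ ∈ V) (hVe : Cfsg.IsElementaryAbelian 2 V) (hVc : Nat.card V = 2 ^ 11)
    (huniq : ∀ B : Subgroup H, B ≤ T → Cfsg.IsElementaryAbelian 2 B → 2 ^ 11 ≤ Nat.card B → B = V)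
    (S : Sylow 2 G) :
    (∀ A : Subgroup G, A ≤ S → (A.subgroupOf S).Normal → Cfsg.IsElementaryAbelian 2 A → Nat.card A ≤ 2 ^ 11) ∧
    ∃! A : Subgroup G, A ≤ S ∧ (A.subgroupOf S).Normal ∧ Cfsg.IsElementaryAbelian 2 A ∧ Nat.card A = 2 ^ 11 :=
  haveI : Fact (Nat.Prime 2) := ⟨Nat.prime_two⟩
  sylow_unique_elemab_of_model_gen 2 18 11 e m hm hH T V hT hVT hVn hVe hVc huniq S

end Cfsg.Agent.Lib.Helper8.SylTransfer
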