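import Mathlib

/-!
# A valuation subring of `ℂ` in which a given prime is a non-unit, and fixed vectors of
`p`-groups in characteristic `p` (helper8)
-/

set_option autoImplicit false
set_option linter.unusedSectionVars false
set_option linter.style.haveILetI false

namespace Cfsg.Agent.Lib.Helper8.TIVal

open scoped BigOperators

/-- There is a valuation subring of `ℂ` in which the prime `p` is a non-unit. -/
theorem exists_valuationSubring (p : ℕ) (hp : p.Prime) :
    ∃ O : ValuationSubring ℂ, (p : ℂ) ∈ O.nonunits := by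
  classical
  let A : Subring ℂ := (Int.castRingHom ℂ).range
  have hpA : (p : ℂ) ∈ A := ⟨(p : ℤ), by simp⟩
  let I : Ideal A := Ideal.span {(⟨(p : ℂ), hpA⟩ : A)}
  have hI : I ≠ ⊤ := by
    intro h
    have h1 : (1 : A) ∈ I := by rw [h]; trivial
    rw [Ideal.mem_span_singleton'] at h1
    obtain ⟨a, ha⟩ := h1
    obtain ⟨m, hm⟩ := a.2
    have h2 : ((a : A) : ℂ) * (p : ℂ) = 1 := by
      have := congrArg (fun z : A => (z : ℂ)) ha
      simpa using this
    rw [← hm] at h2
    have h3 : ((m * (p : ℤ) : ℤ) : ℂ) = ((1 : ℤ) : ℂ) := by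
      push_cast
      simpa using h2
    have h4 : m * (p : ℤ) = 1 := by exact_mod_cast h3
    have h5 : ((p : ℤ)) ∣ 1 := ⟨m, by linarith [h4, mul_comm m (p : ℤ)]⟩
    have h6 : (p : ℤ) = 1 ∨ (p : ℤ) = -1 := Int.isUnit_iff.mp (isUnit_of_dvd_one h5)
    have hp2 := hp.two_le
    rcases h6 with h6 | h6 <;> omega
  obtain ⟨B, -, hB⟩ := Ideal.image_subset_nonunits_valuationSubring I hI
  refine ⟨B, hB ⟨⟨(p : ℂ), hpA⟩, ?_, rfl⟩⟩
  exact Ideal.subset_span rfl


section fixed

variable {P : Type*} [Group P] [Fintype P] {p : ℕ} [hpf : Fact p.Prime]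
variable {k : Type*} [Field k] [CharP k p]

/-- the translate of a function on `P` -/
def tr (z : P) (u : P → k) : P → k := fun x => u (z⁻¹ * x)

theorem tr_apply (z : P) (u : P → k) (x : P) : tr z u x = u (z⁻¹ * x) := rfl

theorem tr_one (u : P → k) : tr (1 : P) u = u := by
  funext x; simp [tr]

theorem tr_mul (z z' : P) (u : P → k) : tr (z * z') u = tr z (tr z' u) := by
  funext x; simp [tr, mul_assoc]

/-- the `𝔽_p`-linear combinations of the translates of `w` -/
noncomputable def comb (w : P → k) : (P → ZMod p) →+ (P → k) where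
  toFun c := fun x => ∑ z : P, (ZMod.castHom (dvd_refl p) k (c z)) * w (z⁻¹ * x)
  map_zero' := by funext x; simp
  map_add' c c' := by
    funext x
    simp only [Pi.add_apply, map_add, add_mul, Finset.sum_add_distrib]

theorem comb_apply (w : P → k) (c : P → ZMod p) (x : P) :
    comb w c x = ∑ z : P, (ZMod.castHom (dvd_refl p) k (c z)) * w (z⁻¹ * x) := rfl

theorem tr_comb (w : P → k) (c : P → ZMod p) (z : P) :
    tr z (comb w c) = comb w (fun z' => c (z⁻¹ * z')) := by
  funext x
  rw [tr_apply, comb_apply, comb_apply]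
  refine Fintype.sum_equiv (Equiv.mulLeft z) _ _ ?_
  intro z'
  simp [mul_assoc]

theorem comb_single (w : P → k) [DecidableEq P] : comb w (Pi.single 1 1) = w := by
  funext x
  rw [comb_apply, Finset.sum_eq_single (1 : P)]
  · simp
  · intro z _ hz
    simp [Pi.single_eq_of_ne hz]
  · intro h; exact absurd (Finset.mem_univ _) h

/-- A nonzero translation-invariant subspace of the functions on a `p`-group, over a field of
characteristic `p`, contains a nonzero constant function. -/
theorem exists_const_mem (hP : IsPGroup p P) (W : Submodule k (P → k))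
    (hW : ∀ c ∈ W, ∀ z : P, tr z c ∈ W) (hne : W ≠ ⊥) :
    ∃ a : k, a ≠ 0 ∧ (fun _ : P => a) ∈ W := by
  classical
  obtain ⟨w, hwW, hw0⟩ := (Submodule.ne_bot_iff W).1 hne
  let S : AddSubgroup (P → k) := (comb (p := p) w).range
  have hSW : ∀ u ∈ S, u ∈ W := by
    rintro u ⟨c, rfl⟩
    have : comb (p := p) w c = ∑ z : P, (ZMod.castHom (dvd_refl p) k (c z)) • tr z w := by
      funext x
      rw [comb_apply, Finset.sum_apply]
      simp [tr_apply]
    rw [this]
    exact Submodule.sum_mem _ (fun z _ => Submodule.smul_mem _ _ (hW w hwW z))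
  have hSfin : Finite S := by
    have : (S : Set (P → k)) = Set.range (comb (p := p) w) := AddMonoidHom.coe_range _
    have hfin : (Set.range (comb (p := p) w)).Finite := Set.finite_range _
    rw [← this] at hfin
    exact hfin.to_subtype
  letI : MulAction P S :=
    { smul := fun z u => ⟨tr z u.1, by
        obtain ⟨c, hc⟩ := u.2
        rw [← hc, tr_comb]
        exact ⟨_, rfl⟩⟩
      one_smul := fun u => Subtype.ext (tr_one u.1)
      mul_smul := fun z z' u => Subtype.ext (tr_mul z z' u.1) }
  have hsmul : ∀ (z : P) (u : S), ((z • u : S) : P → k) = tr z u.1 := fun _ _ => rfl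
  have hcard : ∃ m : ℕ, Nat.card S = p ^ m := by
    have h1 : Nat.card S ∣ Nat.card (P → ZMod p) := AddSubgroup.card_range_dvd (comb (p := p) w)
    have h2 : Nat.card (P → ZMod p) = p ^ Fintype.card P := by
      rw [Nat.card_eq_fintype_card, Fintype.card_fun, ZMod.card]
    rw [h2] at h1
    obtain ⟨m, -, hm⟩ := (Nat.dvd_prime_pow hpf.out).1 h1
    exact ⟨m, hm⟩
  obtain ⟨m, hm⟩ := hcard
  have hwS : w ∈ S := ⟨Pi.single 1 1, comb_single w⟩
  have hm1 : m ≠ 0 := by
    intro h0
    rw [h0, pow_zero] at hm
    have hsub : Subsingleton S := (Nat.card_eq_one_iff_unique.1 hm).1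
    have : (⟨w, hwS⟩ : S) = 0 := Subsingleton.elim _ _
    exact hw0 (congrArg Subtype.val this)
  have hdvd : p ∣ Nat.card S := by
    rw [hm]
    exact dvd_pow_self p hm1
  have h0 : (0 : S) ∈ MulAction.fixedPoints P S := by
    intro z
    apply Subtype.ext
    rw [hsmul]
    funext x
    simp [tr]
  obtain ⟨b, hb, hb0⟩ := hP.exists_fixed_point_of_prime_dvd_card_of_fixed_point S hdvd h0
  have hbfix : ∀ z x : P, b.1 (z⁻¹ * x) = b.1 x := by
    intro z x
    have := congrArg Subtype.val (hb z)
    rw [hsmul] at this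
    exact congrFun this x
  have hbconst : ∀ x : P, b.1 x = b.1 1 := by
    intro x
    have := hbfix x x
    rw [inv_mul_cancel] at this
    exact this.symm
  refine ⟨b.1 1, ?_, ?_⟩
  · intro h
    apply hb0
    apply Subtype.ext
    funext x
    rw [hbconst x, h]
    rfl
  · have : (fun _ : P => b.1 1) = b.1 := by
      funext x
      exact (hbconst x).symm
    rw [this]
    exact hSW b.1 b.2

end fixed

end Cfsg.Agent.Lib.Helper8.TIVal
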