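import Mathlib
import Cfsg.Agent.Lib.Helper8.TIVal1

/-!
# Translates of a sum-zero function with a unit coordinate at a fixed point are independent
(helper8)
-/

set_option autoImplicit false
set_option linter.unusedSectionVars false
set_option linter.style.haveILetI false

namespace Cfsg.Agent.Lib.Helper8.TIVal

open scoped BigOperators

section charp

variable {P : Type*} [Group P] [Fintype P] {p : ℕ} [hpf : Fact p.Prime]
variable {Ω : Type*} [Fintype Ω] [DecidableEq Ω] [MulAction P Ω]
variable {k : Type*} [Field k]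

/-- sums over the free part of a `P`-set vanish if all orbit sums do -/
theorem sum_free_eq_zero (ω₀ : Ω) (hfix : ∀ x : P, x • ω₀ = ω₀)
    (hfree : ∀ ω : Ω, ω ≠ ω₀ → ∀ x : P, x • ω = ω → x = 1) (f : Ω → k)
    (hf : ∀ ω : Ω, ω ≠ ω₀ → ∑ x : P, f (x • ω) = 0) :
    ∑ ω : Ω, (if ω = ω₀ then 0 else f ω) = 0 := by
  classical
  set g : Ω → k := fun ω => if ω = ω₀ then 0 else f ω with hg
  let Q := Quotient (MulAction.orbitRel P Ω)
  haveI : Fintype Q := Fintype.ofFinite Q
  have h1 : ∑ ω : Ω, g ω = ∑ q : Q, ∑ ω ∈ Finset.univ.filter (fun ω : Ω => (Quotient.mk'' ω : Q) = q), g ω :=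
    (Finset.sum_fiberwise (Finset.univ : Finset Ω) (fun ω : Ω => (Quotient.mk'' ω : Q)) g).symm
  rw [h1]
  apply Finset.sum_eq_zero
  intro q _
  obtain ⟨r, rfl⟩ := Quotient.exists_rep q
  by_cases hr : r = ω₀
  · apply Finset.sum_eq_zero
    intro ω hω
    rw [Finset.mem_filter] at hω
    have h2 : ω ∈ MulAction.orbit P r := MulAction.orbitRel_apply.1 (Quotient.exact hω.2)
    obtain ⟨x, hx⟩ := h2
    have : ω = ω₀ := by
      rw [← hx, hr]
      exact hfix x
    simp [hg, this]
  · have h3 : ∑ x : P, g (x • r) = 0 := by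
      rw [← hf r hr]
      apply Finset.sum_congr rfl
      intro x _
      have : x • r ≠ ω₀ := by
        intro h
        apply hr
        have h4 : r = x⁻¹ • ω₀ := by rw [← h, inv_smul_smul]
        rw [h4]
        exact hfix _
      simp [hg, this]
    rw [← h3]
    symm
    apply Finset.sum_bij (fun (x : P) _ => x • r)
    · intro x _
      rw [Finset.mem_filter]
      refine ⟨Finset.mem_univ _, ?_⟩
      apply Quotient.sound
      exact MulAction.orbitRel_apply.2 ⟨x, rfl⟩
    · intro x _ y _ hxy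
      have h5 : (y⁻¹ * x) • r = r := by
        rw [mul_smul, hxy, inv_smul_smul]
      have := hfree r hr _ h5
      exact (inv_mul_eq_one.1 this).symm
    · intro ω hω
      rw [Finset.mem_filter] at hω
      have h2 : ω ∈ MulAction.orbit P r := MulAction.orbitRel_apply.1 (Quotient.exact hω.2)
      obtain ⟨x, hx⟩ := h2
      exact ⟨x, Finset.mem_univ _, hx⟩
    · intro x _
      rfl

variable [CharP k p]

/-- Independence over a field of characteristic `p`. -/
theorem eq_zero_of_relation_charp (hP : IsPGroup p P) (ω₀ : Ω) (hfix : ∀ x : P, x • ω₀ = ω₀)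
    (hfree : ∀ ω : Ω, ω ≠ ω₀ → ∀ x : P, x • ω = ω → x = 1) (f : Ω → k)
    (hsum : ∑ ω : Ω, f ω = 0) (hf0 : f ω₀ ≠ 0) (c : P → k)
    (hc : ∀ ω : Ω, ∑ x : P, c x * f (x⁻¹ • ω) = 0) : c = 0 := by
  classical
  let W : Submodule k (P → k) :=
    { carrier := {c | ∀ ω : Ω, ∑ x : P, c x * f (x⁻¹ • ω) = 0}
      add_mem' := by
        intro a b ha hb ω
        simp only [Pi.add_apply, add_mul, Finset.sum_add_distrib]
        rw [ha ω, hb ω, add_zero]
      zero_mem' := by
        intro ω
        simp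
      smul_mem' := by
        intro t a ha ω
        simp only [Pi.smul_apply, smul_eq_mul, mul_assoc]
        rw [← Finset.mul_sum, ha ω, mul_zero] }
  have hWmem : ∀ c : P → k, c ∈ W ↔ ∀ ω : Ω, ∑ x : P, c x * f (x⁻¹ • ω) = 0 := fun _ => Iff.rfl
  have hWtr : ∀ c ∈ W, ∀ z : P, tr z c ∈ W := by
    intro c hc z
    rw [hWmem] at hc ⊢
    intro ω
    rw [← hc (z⁻¹ • ω)]
    refine Fintype.sum_equiv (Equiv.mulLeft z⁻¹) _ _ ?_
    intro x
    simp only [tr_apply, Equiv.coe_mulLeft]
    rw [mul_inv_rev, inv_inv, mul_smul, smul_inv_smul]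
  by_contra hne
  have hWne : W ≠ ⊥ := by
    intro h
    have : c ∈ W := (hWmem c).2 hc
    rw [h, Submodule.mem_bot] at this
    exact hne this
  obtain ⟨a, ha0, haW⟩ := exists_const_mem hP W hWtr hWne
  rw [hWmem] at haW
  have horb : ∀ ω : Ω, ω ≠ ω₀ → ∑ x : P, f (x • ω) = 0 := by
    intro ω _
    have h1 := haW ω
    rw [← Finset.mul_sum] at h1
    have h2 : ∑ x : P, f (x⁻¹ • ω) = 0 := by
      rcases mul_eq_zero.1 h1 with h | h
      · exact absurd h ha0
      · exact h
    rw [← h2]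
    exact Fintype.sum_equiv (Equiv.inv P) _ _ (fun x => by simp)
  have h3 := sum_free_eq_zero ω₀ hfix hfree f horb
  have h4 : ∑ ω : Ω, f ω = f ω₀ + ∑ ω : Ω, (if ω = ω₀ then 0 else f ω) := by
    have : ∀ ω : Ω, f ω = (if ω = ω₀ then f ω₀ else 0) + (if ω = ω₀ then 0 else f ω) := by
      intro ω
      by_cases h : ω = ω₀
      · simp [h]
      · simp [h]
    rw [Finset.sum_congr rfl (fun ω _ => this ω), Finset.sum_add_distrib]
    simp
  rw [h3, add_zero, hsum] at h4
  exact hf0 h4.symm

end charp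

end Cfsg.Agent.Lib.Helper8.TIVal
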