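import Mathlib
import Cfsg.Agent.Lib.Helper8.TIVal2

/-!
# Invariant sum-zero subspaces of a permutation module have dimension at least `|P|` (helper8)
-/

set_option autoImplicit false
set_option linter.unusedSectionVars false
set_option linter.style.haveILetI false

namespace Cfsg.Agent.Lib.Helper8.TIVal

open scoped BigOperators

section lift

variable {P : Type*} [Group P] [Fintype P] {p : ℕ} [hpf : Fact p.Prime]
variable {Ω : Type*} [Fintype Ω] [DecidableEq Ω] [MulAction P Ω]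

/-- Independence over `ℂ`, through a valuation subring in which `p` is not a unit. -/
theorem eq_zero_of_relation (hP : IsPGroup p P) (O : ValuationSubring ℂ)
    (hpO : (p : ℂ) ∈ O.nonunits) (ω₀ : Ω) (hfix : ∀ x : P, x • ω₀ = ω₀)
    (hfree : ∀ ω : Ω, ω ≠ ω₀ → ∀ x : P, x • ω = ω → x = 1) (F : Ω → ℂ)
    (hFO : ∀ ω, F ω ∈ O) (hF0 : F ω₀ = 1) (hsum : ∑ ω : Ω, F ω = 0) (c : P → ℂ)
    (hc : ∀ ω : Ω, ∑ x : P, c x * F (x⁻¹ • ω) = 0) : c = 0 := by
  classical
  by_contra hne
  obtain ⟨x₀, hx₀⟩ : ∃ x₀, c x₀ ≠ 0 := by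
    by_contra h
    push Not at h
    exact hne (funext h)
  obtain ⟨x₁, -, hx₁⟩ := Finset.exists_max_image Finset.univ (fun x : P => O.valuation (c x))
    ⟨x₀, Finset.mem_univ _⟩
  have hcx₁ : c x₁ ≠ 0 := by
    intro h
    have h1 := hx₁ x₀ (Finset.mem_univ _)
    simp only [h, map_zero] at h1
    have h2 : O.valuation (c x₀) = 0 := le_antisymm h1 zero_le'
    exact hx₀ ((O.valuation.zero_iff).1 h2)
  have hvpos : 0 < O.valuation (c x₁) := by
    rw [zero_lt_iff]
    exact (O.valuation.ne_zero_iff).2 hcx₁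
  have hc'O : ∀ x : P, c x / c x₁ ∈ O := by
    intro x
    rw [← O.valuation_le_one_iff, map_div₀]
    exact (div_le_one₀ hvpos).2 (hx₁ x (Finset.mem_univ _))
  -- the residue field
  let k := IsLocalRing.ResidueField O
  let res : O →+* k := IsLocalRing.residue O
  have hpk : ((p : ℕ) : k) = 0 := by
    have h1 : ((p : O) : ℂ) ∈ O.nonunits := by
      have : ((p : O) : ℂ) = (p : ℂ) := by simp
      rw [this]; exact hpO
    have h2 : (p : O) ∈ IsLocalRing.maximalIdeal O := O.coe_mem_nonunits_iff.1 h1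
    have h3 : res (p : O) = 0 := (IsLocalRing.residue_eq_zero_iff _).2 h2
    rw [map_natCast] at h3
    exact h3
  haveI : CharP k p := (CharP.charP_iff_prime_eq_zero hpf.out).2 hpk
  let fb : Ω → k := fun ω => res ⟨F ω, hFO ω⟩
  let cb : P → k := fun x => res ⟨c x / c x₁, hc'O x⟩
  have hinj : Function.Injective (O.subtype) := Subtype.val_injective
  have hsumb : ∑ ω : Ω, fb ω = 0 := by
    have h1 : (∑ ω : Ω, (⟨F ω, hFO ω⟩ : O)) = 0 := by
      apply hinj
      rw [map_sum, map_zero]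
      simpa using hsum
    show ∑ ω : Ω, res ⟨F ω, hFO ω⟩ = 0
    rw [← map_sum, h1, map_zero]
  have hf0b : fb ω₀ ≠ 0 := by
    have h1 : (⟨F ω₀, hFO ω₀⟩ : O) = 1 := by
      apply hinj
      simpa using hF0
    show res ⟨F ω₀, hFO ω₀⟩ ≠ 0
    rw [h1, map_one]
    exact one_ne_zero
  have hrel : ∀ ω : Ω, ∑ x : P, cb x * fb (x⁻¹ • ω) = 0 := by
    intro ω
    have h1 : (∑ x : P, (⟨c x / c x₁, hc'O x⟩ : O) * ⟨F (x⁻¹ • ω), hFO _⟩) = 0 := by
      apply hinj
      rw [map_sum, map_zero]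
      simp only [map_mul, ValuationSubring.subtype_apply]
      have h2 : ∑ x : P, c x / c x₁ * F (x⁻¹ • ω) = (∑ x : P, c x * F (x⁻¹ • ω)) / c x₁ := by
        rw [Finset.sum_div]
        apply Finset.sum_congr rfl
        intro x _
        ring
      rw [h2, hc ω, zero_div]
    show ∑ x : P, res ⟨c x / c x₁, hc'O x⟩ * res ⟨F (x⁻¹ • ω), hFO _⟩ = 0
    simp only [← map_mul]
    rw [← map_sum, h1, map_zero]
  have hcb := eq_zero_of_relation_charp hP ω₀ hfix hfree fb hsumb hf0b cb hrel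
  have h1 : cb x₁ = 1 := by
    have h2 : (⟨c x₁ / c x₁, hc'O x₁⟩ : O) = 1 := by
      apply hinj
      simp [div_self hcx₁]
    show res ⟨c x₁ / c x₁, hc'O x₁⟩ = 1
    rw [h2, map_one]
  rw [hcb] at h1
  exact zero_ne_one h1

end lift

end Cfsg.Agent.Lib.Helper8.TIVal
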