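import Mathlib
import Cfsg.Agent.Lib.Helper8.TIVal1
import Cfsg.Agent.Lib.Helper8.TIVal3

/-!
# Invariant sum-zero subspaces of a transitive permutation module (helper8)

If a `p`-subgroup `P` of `G` fixes a point `ω₀` of a transitive `G`-set `Ω` and acts freely on the
other points, then every nonzero `G`-invariant subspace of the sum-zero functions on `Ω` has
dimension at least `|P|`.
-/

set_option autoImplicit false
set_option linter.unusedSectionVars false
set_option linter.style.haveILetI false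

namespace Cfsg.Agent.Lib.Helper8.TIVal

open scoped BigOperators

theorem card_le_finrank {G : Type*} [Group G] {p : ℕ} [hpf : Fact p.Prime]
    {Ω : Type*} [Fintype Ω] [DecidableEq Ω] [MulAction G Ω] [MulAction.IsPretransitive G Ω]
    (P : Subgroup G) [Fintype P] (hP : IsPGroup p P) (ω₀ : Ω)
    (hfix : ∀ x ∈ P, x • ω₀ = ω₀)
    (hfree : ∀ ω : Ω, ω ≠ ω₀ → ∀ x ∈ P, x • ω = ω → x = 1)
    (U : Submodule ℂ (Ω → ℂ))
    (hU : ∀ F ∈ U, ∀ h : G, (fun ω => F (h⁻¹ • ω)) ∈ U)
    (hsum : ∀ F ∈ U, ∑ ω : Ω, F ω = 0) (hne : U ≠ ⊥) :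
    Fintype.card P ≤ Module.finrank ℂ U := by
  classical
  obtain ⟨O, hpO⟩ := exists_valuationSubring p hpf.out
  obtain ⟨F, hFU, hF0⟩ := Submodule.exists_mem_ne_zero_of_ne_bot hne
  obtain ⟨ωa, hωa⟩ : ∃ ω, F ω ≠ 0 := by
    by_contra h
    push Not at h
    exact hF0 (funext h)
  obtain ⟨ω₁, -, hω₁⟩ := Finset.exists_max_image Finset.univ (fun ω : Ω => O.valuation (F ω))
    ⟨ωa, Finset.mem_univ _⟩
  have hF1 : F ω₁ ≠ 0 := by
    intro h
    have h1 := hω₁ ωa (Finset.mem_univ _)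
    simp only [h, map_zero] at h1
    have h2 : O.valuation (F ωa) = 0 := le_antisymm h1 zero_le'
    exact hωa ((O.valuation.zero_iff).1 h2)
  have hvpos : 0 < O.valuation (F ω₁) := by
    rw [zero_lt_iff]
    exact (O.valuation.ne_zero_iff).2 hF1
  obtain ⟨h, hh⟩ := MulAction.exists_smul_eq G ω₀ ω₁
  have hF'U : (fun ω => F (h • ω)) ∈ U := by
    have := hU F hFU h⁻¹
    simpa using this
  set F' : Ω → ℂ := (F ω₁)⁻¹ • (fun ω => F (h • ω)) with hF'def
  have hF' : F' ∈ U := U.smul_mem _ hF'U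
  have hF'apply : ∀ ω, F' ω = (F ω₁)⁻¹ * F (h • ω) := fun ω => rfl
  have hF'0 : F' ω₀ = 1 := by
    rw [hF'apply, hh, inv_mul_cancel₀ hF1]
  have hF'O : ∀ ω, F' ω ∈ O := by
    intro ω
    rw [hF'apply, ← O.valuation_le_one_iff, map_mul, map_inv₀, inv_mul_eq_div]
    exact (div_le_one₀ hvpos).2 (hω₁ _ (Finset.mem_univ _))
  have hF'sum : ∑ ω : Ω, F' ω = 0 := hsum F' hF'
  -- the translates by `P`
  let v : P → U := fun x => ⟨fun ω => F' ((x : G)⁻¹ • ω), hU F' hF' x⟩
  have hli : LinearIndependent ℂ v := by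
    rw [Fintype.linearIndependent_iff]
    intro c hc
    have hc' : ∀ ω : Ω, ∑ x : P, c x * F' ((x : G)⁻¹ • ω) = 0 := by
      intro ω
      have h1 := congrArg (fun u : U => (u : Ω → ℂ) ω) hc
      simp only [Submodule.coe_sum, Submodule.coe_smul, Finset.sum_apply, Pi.smul_apply,
        smul_eq_mul, Submodule.coe_zero, Pi.zero_apply] at h1
      exact h1
    have hfix' : ∀ x : P, x • ω₀ = ω₀ := fun x => hfix x x.2
    have hfree' : ∀ ω : Ω, ω ≠ ω₀ → ∀ x : P, x • ω = ω → x = 1 := by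
      intro ω hω x hx
      exact Subtype.ext (hfree ω hω x x.2 hx)
    have hP' : IsPGroup p P := hP
    have hrel : ∀ ω : Ω, ∑ x : P, c x * F' (x⁻¹ • ω) = 0 := by
      intro ω
      have := hc' ω
      simpa [Subgroup.smul_def] using this
    have hc0 := eq_zero_of_relation hP' O hpO ω₀ hfix' hfree' F' hF'O hF'0 hF'sum c hrel
    intro x
    rw [hc0]; rfl
  exact hli.fintype_card_le_finrank

end Cfsg.Agent.Lib.Helper8.TIVal
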