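import Mathlib

/-!
# A TI Sylow subgroup acts semiregularly on the nontrivial cosets of its normaliser (helper8)
-/

set_option autoImplicit false
set_option linter.unusedSectionVars false
set_option linter.style.haveILetI false

namespace Cfsg.Agent.Lib.Helper8.TIVal

open scoped Pointwise

variable {G : Type*} [Group G] {p : ℕ} [Fact p.Prime]

theorem ti_fix (P : Sylow p G) (x : G) (hx : x ∈ (P : Subgroup G)) :
    x • ((1 : G) : G ⧸ Subgroup.normalizer ((P : Subgroup G) : Set G)) =
      ((1 : G) : G ⧸ Subgroup.normalizer ((P : Subgroup G) : Set G)) := by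
  rw [MulAction.Quotient.smul_coe, QuotientGroup.eq]
  have h1 : x ∈ Subgroup.normalizer ((P : Subgroup G) : Set G) := Subgroup.le_normalizer hx
  simpa using h1

theorem ti_free (P : Sylow p G)
    (hTI : ∀ g : G, g ∉ Subgroup.normalizer ((P : Subgroup G) : Set G) →
      (P : Subgroup G) ⊓ (MulAut.conj g • (P : Subgroup G)) = ⊥)
    (ω : G ⧸ Subgroup.normalizer ((P : Subgroup G) : Set G))
    (hω : ω ≠ ((1 : G) : G ⧸ Subgroup.normalizer ((P : Subgroup G) : Set G)))
    (x : G) (hx : x ∈ (P : Subgroup G)) (hxω : x • ω = ω) : x = 1 := by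
  obtain ⟨g, rfl⟩ := QuotientGroup.mk_surjective ω
  have hg : g ∉ Subgroup.normalizer ((P : Subgroup G) : Set G) := by
    intro hg
    apply hω
    rw [QuotientGroup.eq]
    simpa using hg
  rw [MulAction.Quotient.smul_coe, QuotientGroup.eq] at hxω
  -- `y = g⁻¹ x g` lies in the normaliser
  have hy : g⁻¹ * x * g ∈ Subgroup.normalizer ((P : Subgroup G) : Set G) := by
    have h1 := Subgroup.inv_mem _ hxω
    have h2 : ((x • g)⁻¹ * g)⁻¹ = g⁻¹ * x * g := by
      simp [smul_eq_mul, mul_assoc]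
    rwa [h2] at h1
  -- and in the conjugate Sylow subgroup
  have hyQ : g⁻¹ * x * g ∈ ((MulAut.conj g⁻¹ • P : Sylow p G) : Subgroup G) := by
    rw [Sylow.pointwise_smul_def, Subgroup.mem_pointwise_smul_iff_inv_smul_mem]
    simp only [MulAut.smul_def, map_inv, inv_inv, MulAut.conj_apply]
    have : g * (g⁻¹ * x * g) * g⁻¹ = x := by group
    rw [this]; exact hx
  have h3 := IsPGroup.inf_normalizer_sylow (MulAut.conj g⁻¹ • P : Sylow p G).2 P
  have hyP : g⁻¹ * x * g ∈ (P : Subgroup G) := by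
    exact (h3.le ⟨hyQ, hy⟩).2
  have hxQ : x ∈ MulAut.conj g • (P : Subgroup G) := by
    rw [Subgroup.mem_pointwise_smul_iff_inv_smul_mem]
    simp only [MulAut.smul_def, MulAut.conj_inv_apply]
    exact hyP
  have h5 : x ∈ (P : Subgroup G) ⊓ (MulAut.conj g • (P : Subgroup G)) := ⟨hx, hxQ⟩
  rw [hTI g hg] at h5
  exact Subgroup.mem_bot.1 h5

end Cfsg.Agent.Lib.Helper8.TIVal
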