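import Mathlib
import Cfsg.Agent.Lib.Helper8.TIVal4

/-!
# Vectors fixed by `N` in a small module are fixed by `G` (helper8)

Let `P ≤ G` be a `p`-subgroup fixing the trivial coset of `N` and acting freely on the other cosets
of `N`.  If `W` is a `G`-module of dimension at most `|P|` carrying a nonzero `G`-invariant linear
functional, then every vector of `W` fixed by `N` is fixed by `G`.
-/

set_option autoImplicit false
set_option linter.unusedSectionVars false
set_option linter.style.haveILetI false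

namespace Cfsg.Agent.Lib.Helper8.TIVal

open scoped BigOperators

section general

variable {G : Type*} [Group G] [Finite G] {p : ℕ} [hpf : Fact p.Prime]
variable {W : Type*} [AddCommGroup W] [Module ℂ W] [FiniteDimensional ℂ W]

theorem fixed_of_fixed (N P : Subgroup G) (hP : IsPGroup p P)
    (hfix : ∀ x ∈ P, x • ((1 : G) : G ⧸ N) = ((1 : G) : G ⧸ N))
    (hfree : ∀ ω : G ⧸ N, ω ≠ ((1 : G) : G ⧸ N) → ∀ x ∈ P, x • ω = ω → x = 1)
    (σ : Representation ℂ G W) (τ : Module.Dual ℂ W) (hτ0 : τ ≠ 0)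
    (hτ : ∀ (g : G) (v : W), τ (σ g v) = τ v)
    (hdim : Module.finrank ℂ W ≤ Nat.card P)
    (w : W) (hw : ∀ h ∈ N, σ h w = w) (g : G) : σ g w = w := by
  classical
  haveI : Fintype G := Fintype.ofFinite G
  haveI : Fintype (G ⧸ N) := Fintype.ofFinite _
  haveI : Fintype P := Fintype.ofFinite _
  -- the orbit map
  let A : G ⧸ N → W := fun ω => Quotient.liftOn' ω (fun a => σ a w) (by
    intro a b hab
    have hab' : a⁻¹ * b ∈ N := QuotientGroup.leftRel_apply.1 hab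
    have h1 : b = a * (a⁻¹ * b) := by group
    show σ a w = σ b w
    rw [h1, map_mul, Module.End.mul_apply, hw _ hab'])
  have hA : ∀ a : G, A (a : G ⧸ N) = σ a w := fun a => rfl
  have hAsmul : ∀ (h : G) (ω : G ⧸ N), A (h • ω) = σ h (A ω) := by
    intro h ω
    obtain ⟨a, rfl⟩ := QuotientGroup.mk_surjective ω
    rw [MulAction.Quotient.smul_coe, hA, hA, smul_eq_mul, map_mul, Module.End.mul_apply]
  have hcard : ((Fintype.card (G ⧸ N) : ℕ) : ℂ) ≠ 0 := by
    have : Fintype.card (G ⧸ N) ≠ 0 := Fintype.card_ne_zero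
    exact_mod_cast this
  set avg : W := ((Fintype.card (G ⧸ N) : ℕ) : ℂ)⁻¹ • ∑ ω : G ⧸ N, A ω with havg
  have havgfix : ∀ h : G, σ h avg = avg := by
    intro h
    rw [havg, map_smul, map_sum]
    congr 1
    rw [← Equiv.sum_comp (MulAction.toPerm h : Equiv.Perm (G ⧸ N)) A]
    apply Finset.sum_congr rfl
    intro ω _
    rw [MulAction.toPerm_apply, hAsmul]
  let D : G ⧸ N → W := fun ω => A ω - avg
  have hDsmul : ∀ (h : G) (ω : G ⧸ N), D (h • ω) = σ h (D ω) := by
    intro h ω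
    show A (h • ω) - avg = σ h (A ω - avg)
    rw [map_sub, havgfix, hAsmul]
  have hDsum : ∑ ω : G ⧸ N, D ω = 0 := by
    show ∑ ω : G ⧸ N, (A ω - avg) = 0
    rw [Finset.sum_sub_distrib, Finset.sum_const, Finset.card_univ, havg, ← Nat.cast_smul_eq_nsmul ℂ,
      smul_smul, mul_inv_cancel₀ hcard, one_smul, sub_self]
  have hτD : ∀ ω : G ⧸ N, τ (D ω) = 0 := by
    have hτA : ∀ ω : G ⧸ N, τ (A ω) = τ w := by
      intro ω
      obtain ⟨a, rfl⟩ := QuotientGroup.mk_surjective ω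
      rw [hA, hτ]
    intro ω
    show τ (A ω - avg) = 0
    rw [map_sub, hτA, havg, map_smul, map_sum, Finset.sum_congr rfl (fun ω _ => hτA ω),
      Finset.sum_const, Finset.card_univ, smul_eq_mul, ← Nat.cast_smul_eq_nsmul ℂ, smul_eq_mul,
      ← mul_assoc, inv_mul_cancel₀ hcard, one_mul, sub_self]
  -- the evaluation map
  let Φ : Module.Dual ℂ W →ₗ[ℂ] (G ⧸ N → ℂ) :=
    { toFun := fun ℓ ω => ℓ (D ω)
      map_add' := fun ℓ ℓ' => by ext ω; simp
      map_smul' := fun c ℓ => by ext ω; simp }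
  have hΦ : ∀ (ℓ : Module.Dual ℂ W) (ω : G ⧸ N), Φ ℓ ω = ℓ (D ω) := fun _ _ => rfl
  set U : Submodule ℂ (G ⧸ N → ℂ) := LinearMap.range Φ with hUdef
  have hUinv : ∀ F ∈ U, ∀ h : G, (fun ω => F (h⁻¹ • ω)) ∈ U := by
    rintro F ⟨ℓ, rfl⟩ h
    refine ⟨ℓ ∘ₗ σ h⁻¹, ?_⟩
    ext ω
    rw [hΦ, hΦ, hDsmul]
    rfl
  have hUsum : ∀ F ∈ U, ∑ ω : G ⧸ N, F ω = 0 := by
    rintro F ⟨ℓ, rfl⟩
    simp only [hΦ]
    rw [← map_sum, hDsum, map_zero]
  have hUbot : U = ⊥ := by
    by_contra hne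
    have h1 := card_le_finrank (p := p) P hP ((1 : G) : G ⧸ N) hfix hfree U hUinv hUsum hne
    have h2 : Module.finrank ℂ U + Module.finrank ℂ (LinearMap.ker Φ) =
        Module.finrank ℂ (Module.Dual ℂ W) := LinearMap.finrank_range_add_finrank_ker Φ
    rw [Subspace.dual_finrank_eq] at h2
    have h3 : 1 ≤ Module.finrank ℂ (LinearMap.ker Φ) := by
      rw [Submodule.one_le_finrank_iff]
      intro hbot
      have h4 : τ ∈ LinearMap.ker Φ := by
        rw [LinearMap.mem_ker]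
        ext ω
        rw [hΦ, hτD]; rfl
      rw [hbot] at h4
      exact hτ0 ((Submodule.mem_bot ℂ).1 h4)
    rw [Nat.card_eq_fintype_card] at hdim
    omega
  have hD0 : ∀ ω : G ⧸ N, D ω = 0 := by
    intro ω
    rw [← Module.forall_dual_apply_eq_zero_iff ℂ]
    intro ℓ
    have h1 : Φ ℓ ∈ U := ⟨ℓ, rfl⟩
    rw [hUbot, Submodule.mem_bot] at h1
    rw [← hΦ, h1]; rfl
  have h1 : A ((g : G) : G ⧸ N) = avg := sub_eq_zero.1 (hD0 _)
  have h2 : A ((1 : G) : G ⧸ N) = avg := sub_eq_zero.1 (hD0 _)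
  rw [hA] at h1 h2
  rw [h1, ← h2, map_one, Module.End.one_apply]

end general

end Cfsg.Agent.Lib.Helper8.TIVal
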