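import Mathlib
import Cfsg.Prelude.Def_Characters
import Cfsg.Agent.Lib.helper3.CharBasic
import Cfsg.Agent.Lib.Helper8.TIVal5
import Cfsg.Agent.Lib.Helper8.TIVal6

/-!
# The commutant of the normaliser of a TI Sylow subgroup in a small representation (helper8)
-/

set_option autoImplicit false
set_option linter.unusedSectionVars false
set_option linter.style.haveILetI false

namespace Cfsg.Agent.Lib.Helper8.TIVal

open scoped BigOperators Pointwise ComplexConjugate
open Cfsg Module

section inner

variable {K : Type*} [Group K] [Fintype K]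
variable {V : Type*} [AddCommGroup V] [Module ℂ V] [FiniteDimensional ℂ V]

/-- The dimension of the commutant is the norm of the character. -/
theorem finrank_invariants_eq_classInner (σ : Representation ℂ K V) :
    (finrank ℂ (Representation.linHom σ σ).invariants : ℂ) =
      classInner σ.character σ.character := by
  classical
  haveI : Invertible (Nat.card K : ℂ) := invertibleOfNonzero (by
    have : Nat.card K ≠ 0 := Nat.card_pos.ne'
    exact_mod_cast this)
  rw [← Representation.card_inv_mul_sum_char_eq_finrank]
  show _ = (Nat.card K : ℂ)⁻¹ * ∑ g : K, σ.character g * conj (σ.character g)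
  congr 1
  apply Finset.sum_congr rfl
  intro g _
  rw [Representation.char_linHom, Cfsg.Agent.Lib.helper3.CharBasic.character_inv]
  ring

end inner

section main

variable {G : Type*} [Group G] [Finite G] {p : ℕ} [Fact p.Prime]
variable {V : Type*} [AddCommGroup V] [Module ℂ V] [FiniteDimensional ℂ V]

/-- An operator commuting with the normaliser of a TI Sylow `p`-subgroup `P` commutes with the whole
group, as soon as `(dim V)² ≤ |P|`. -/
theorem conj_fixed (P : Sylow p G)
    (hTI : ∀ g : G, g ∉ Subgroup.normalizer ((P : Subgroup G) : Set G) →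
      (P : Subgroup G) ⊓ (MulAut.conj g • (P : Subgroup G)) = ⊥)
    (ρ : Representation ℂ G V) (hdeg : finrank ℂ V ^ 2 ≤ Nat.card (P : Subgroup G))
    (T : V →ₗ[ℂ] V)
    (hT : ∀ n ∈ Subgroup.normalizer ((P : Subgroup G) : Set G), ρ n ∘ₗ T ∘ₗ ρ n⁻¹ = T) (g : G) :
    ρ g ∘ₗ T ∘ₗ ρ g⁻¹ = T := by
  classical
  by_cases h0 : finrank ℂ V = 0
  · haveI : Subsingleton V := Module.finrank_zero_iff.1 h0
    apply LinearMap.ext
    intro v
    exact Subsingleton.elim _ _
  · have hτ0 : LinearMap.trace ℂ V ≠ 0 := by
      intro h
      have h1 : LinearMap.trace ℂ V (1 : V →ₗ[ℂ] V) = 0 := by rw [h]; rfl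
      rw [LinearMap.trace_one] at h1
      exact h0 (by exact_mod_cast h1)
    have hτ : ∀ (a : G) (f : V →ₗ[ℂ] V),
        LinearMap.trace ℂ V ((Representation.linHom ρ ρ) a f) = LinearMap.trace ℂ V f := by
      intro a f
      rw [Representation.linHom_apply]
      have h1 : ρ a ∘ₗ f ∘ₗ ρ a⁻¹ = ρ a * (f * ρ a⁻¹) := rfl
      rw [h1, LinearMap.trace_mul_comm, mul_assoc, ← map_mul, inv_mul_cancel, map_one, mul_one]
    have hdim : finrank ℂ (V →ₗ[ℂ] V) ≤ Nat.card (P : Subgroup G) := by
      rw [Module.finrank_linearMap, ← pow_two]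
      exact hdeg
    have h := fixed_of_fixed (p := p) (Subgroup.normalizer ((P : Subgroup G) : Set G))
      (P : Subgroup G) P.2 (ti_fix P) (ti_free P hTI) (Representation.linHom ρ ρ)
      (LinearMap.trace ℂ V) hτ0 hτ hdim T
      (fun n hn => by rw [Representation.linHom_apply]; exact hT n hn) g
    rw [Representation.linHom_apply] at h
    exact h

end main

end Cfsg.Agent.Lib.Helper8.TIVal
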