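import Mathlib
import Cfsg.Prelude.Def_SporadicCombinatorics

/-!
The length-12 ternary code of `Def_SporadicCombinatorics` made explicit (author: helper8):
a decidable membership test, a systematic generator matrix, and the parametrisation of the
729 words by `(ZMod 3)^6`.
-/

set_option autoImplicit false

namespace Cfsg.Agent.Lib.Helper8.TernaryGolay

open Cfsg

abbrev Z3 := ZMod 3
abbrev Word := ArrayPt → Z3

/-- decidable form of `IsTernaryGolayWord` -/
def IsWord (x : Word) : Prop :=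
  ∃ s : Z3, (∀ i : Fin 4, ∑ r : Z3, x (i, r) = -s) ∧
    ∀ a b : Z3, ∑ i : Fin 4, x (i, (a • (![0, 1, 1, 1] : Fin 4 → Z3) + b • (![1, 0, 1, 2] : Fin 4 → Z3)) i) = s

instance decIsWord (x : Word) : Decidable (IsWord x) := by
  unfold IsWord; infer_instance

theorem isWord_iff (x : Word) : x ∈ ternaryGolayCode ↔ IsWord x := by
  show IsTernaryGolayWord x ↔ IsWord x
  unfold IsTernaryGolayWord IsWord tetracode
  constructor
  · rintro ⟨s, h1, h2⟩
    refine ⟨s, h1, fun a b => h2 _ ?_⟩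
    rw [Submodule.mem_span_pair]
    exact ⟨a, b, rfl⟩
  · rintro ⟨s, h1, h2⟩
    refine ⟨s, h1, fun t ht => ?_⟩
    rw [Submodule.mem_span_pair] at ht
    obtain ⟨a, b, rfl⟩ := ht
    exact h2 a b

/-- A word given by its twelve entries (column-major). -/
def ofVals (v : Fin 4 → Fin 3 → Z3) : Word := fun p => v p.1 p.2

/-- the systematic generator matrix -/
def gb : Fin 6 → Word := ![
  ofVals ![![1, 0, 0], ![0, 0, 1], ![0, 0, 1], ![1, 1, 2]],
  ofVals ![![0, 1, 0], ![0, 0, 1], ![0, 2, 2], ![2, 0, 2]],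
  ofVals ![![0, 0, 1], ![0, 0, 1], ![0, 1, 0], ![2, 1, 1]],
  ofVals ![![0, 0, 0], ![1, 0, 2], ![0, 2, 1], ![2, 1, 0]],
  ofVals ![![0, 0, 0], ![0, 1, 2], ![0, 1, 2], ![0, 1, 2]],
  ofVals ![![0, 0, 0], ![0, 0, 0], ![1, 1, 1], ![2, 2, 2]]]

theorem gb_isWord : ∀ i, IsWord (gb i) := by decide +kernel

/-- the parametrisation of the code by `(ZMod 3)^6` -/
def g (c : Fin 6 → Z3) : Word := fun p => ∑ i, c i * gb i p

theorem g_mem (c : Fin 6 → Z3) : g c ∈ ternaryGolayCode := by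
  have h : g c = ∑ i, c i • gb i := by
    funext p
    simp [g, Finset.sum_apply]
  rw [h]
  exact Submodule.sum_mem _ (fun i _ => Submodule.smul_mem _ _ ((isWord_iff _).2 (gb_isWord i)))

/-- the information positions -/
def ip : Fin 6 → ArrayPt := ![(0, 0), (0, 1), (0, 2), (1, 0), (1, 1), (2, 0)]

theorem gb_ip : ∀ i j, gb j (ip i) = if j = i then 1 else 0 := by decide +kernel

theorem g_ip (c : Fin 6 → Z3) (i : Fin 6) : g c (ip i) = c i := by
  simp only [g, gb_ip, mul_ite, mul_one, mul_zero, Finset.sum_ite_eq', Finset.mem_univ, if_true]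

theorem g_injective : Function.Injective g := by
  intro c c' h
  funext i
  rw [← g_ip c i, ← g_ip c' i, h]

theorem aux_zero : ∀ v5 v7 v8 v9 v10 v11 : Z3,
    IsWord (ofVals ![![0, 0, 0], ![0, 0, v5], ![0, v7, v8], ![v9, v10, v11]]) →
      v5 = 0 ∧ v7 = 0 ∧ v8 = 0 ∧ v9 = 0 ∧ v10 = 0 ∧ v11 = 0 := by decide +kernel

theorem eq_zero_of_ip (y : Word) (hy : IsWord y) (h0 : ∀ i, y (ip i) = 0) : y = 0 := by
  have e : y = ofVals ![![0, 0, 0], ![0, 0, y (1, 2)], ![0, y (2, 1), y (2, 2)],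
      ![y (3, 0), y (3, 1), y (3, 2)]] := by
    have h00 := h0 0
    have h01 := h0 1
    have h02 := h0 2
    have h10 := h0 3
    have h11 := h0 4
    have h20 := h0 5
    funext ⟨i, r⟩
    fin_cases i <;> fin_cases r <;>
      first | rfl | exact h00 | exact h01 | exact h02 | exact h10 | exact h11 | exact h20
  rw [e] at hy
  obtain ⟨h5, h7, h8, h9, h10, h11⟩ := aux_zero _ _ _ _ _ _ hy
  rw [e, h5, h7, h8, h9, h10, h11]
  funext ⟨i, r⟩
  fin_cases i <;> fin_cases r <;> rfl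

theorem mem_iff (x : Word) : x ∈ ternaryGolayCode ↔ ∃ c, g c = x := by
  constructor
  · intro hx
    refine ⟨fun i => x (ip i), ?_⟩
    have hy : x - g (fun i => x (ip i)) ∈ ternaryGolayCode := Submodule.sub_mem _ hx (g_mem _)
    have h0 := eq_zero_of_ip _ ((isWord_iff _).1 hy) (fun i => by
      rw [Pi.sub_apply, g_ip, sub_self])
    exact (sub_eq_zero.1 h0).symm
  · rintro ⟨c, rfl⟩
    exact g_mem c

end Cfsg.Agent.Lib.Helper8.TernaryGolay
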