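import Mathlib
import Cfsg.Agent.Lib.Helper8.TernaryGolay

/-!
Bitmask encoding of subsets of the 12 array points, and the 132 hexads of the length-12 ternary
code as bitmasks (author: helper8).
-/

set_option autoImplicit false

namespace Cfsg.Agent.Lib.Helper8.TernaryGolay

open Cfsg

/-- position number of an array point -/
def idx (p : ArrayPt) : ℕ := 3 * p.1.val + p.2.val

/-- the set of points encoded by a bitmask -/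
def setOf (m : ℕ) : Finset ArrayPt := Finset.univ.filter (fun p => m.testBit (idx p) = true)

theorem mem_setOf (m : ℕ) (p : ArrayPt) : p ∈ setOf m ↔ m.testBit (idx p) = true := by
  simp [setOf]

theorem idx_lt : ∀ p : ArrayPt, idx p < 12 := by decide

theorem idx_inj : ∀ p q : ArrayPt, idx p = idx q → p = q := by decide

theorem idx_surj : ∀ i : ℕ, i < 12 → ∃ p : ArrayPt, idx p = i := by decide

theorem setOf_subset_iff (m h : ℕ) (hm : m < 4096) : setOf m ⊆ setOf h ↔ m &&& h = m := by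
  constructor
  · intro hs
    apply Nat.eq_of_testBit_eq
    intro i
    rw [Nat.testBit_and]
    by_cases hi : m.testBit i = true
    · have hi12 : i < 12 := by
        by_contra hge
        have h1 : m < 2 ^ i := lt_of_lt_of_le hm (by
          calc 4096 = 2 ^ 12 := by norm_num
            _ ≤ 2 ^ i := Nat.pow_le_pow_right (by norm_num) (by omega))
        rw [Nat.testBit_lt_two_pow h1] at hi
        exact Bool.false_ne_true hi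
      obtain ⟨p, rfl⟩ := idx_surj i hi12
      have h2 : p ∈ setOf h := hs ((mem_setOf m p).2 hi)
      rw [mem_setOf] at h2
      rw [hi, h2]; rfl
    · rw [Bool.not_eq_true] at hi
      rw [hi]; rfl
  · intro hand p hp
    rw [mem_setOf] at hp ⊢
    rw [← hand, Nat.testBit_and, Bool.and_eq_true] at hp
    exact hp.2

theorem setOf_injOn (m m' : ℕ) (hm : m < 4096) (hm' : m' < 4096) (h : setOf m = setOf m') :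
    m = m' := by
  have h1 := (setOf_subset_iff m m' hm).1 (h ▸ subset_rfl)
  have h2 := (setOf_subset_iff m' m hm').1 (h ▸ subset_rfl)
  rw [← h1, Nat.land_comm, h2]

theorem exists_mask (s : Finset ArrayPt) : ∃ m < 4096, setOf m = s := by
  induction s using Finset.induction_on with
  | empty =>
    refine ⟨0, by norm_num, ?_⟩
    ext p
    simp [mem_setOf]
  | insert p s _ ih =>
    obtain ⟨m, hm, rfl⟩ := ih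
    refine ⟨m ||| 2 ^ idx p, ?_, ?_⟩
    · have h1 : m < 2 ^ 12 := by norm_num; exact hm
      have h2 : 2 ^ idx p < 2 ^ 12 := Nat.pow_lt_pow_right (by norm_num) (idx_lt p)
      have := Nat.or_lt_two_pow h1 h2
      norm_num at this ⊢
      exact this
    · ext q
      rw [Finset.mem_insert, mem_setOf, mem_setOf, Nat.testBit_or, Bool.or_eq_true,
        Nat.testBit_two_pow, decide_eq_true_eq]
      constructor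
      · rintro (h | h)
        · right; exact h
        · left; exact (idx_inj _ _ h).symm
      · rintro (h | h)
        · right; rw [h]
        · left; exact h

/-- the bitmask of the support of a word -/
def maskW (x : Word) : ℕ := ∑ p, if x p ≠ 0 then 2 ^ idx p else 0

def HM : List ℕ := [
  4032, 3504, 2800, 1904, 1960, 2920, 3304, 3640, 504, 2968, 1752, 3416, 3748, 996, 3428, 1940, 3668, 2516, 2868, 1268, 3852, 1484, 2764, 700, 2172, 2476, 1644, 1340, 3228, 860, 2978, 3682, 1506, 3858, 978, 3282, 1714, 2418, 3722, 2506, 1866, 1146, 826, 3370, 746, 2234, 1434, 2650, 1830, 2278, 630, 2710, 1366, 1198, 2334, 910, 3150, 3462, 1734, 2886, 438, 3126, 2606, 222, 366, 1566, 3873, 2529, 1761, 3729, 1489, 2897, 945, 3185, 3465, 3657, 969, 2361, 1209, 2729, 1385, 633, 1817, 2265, 1445, 2661, 2229, 3349, 725, 813, 1117,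 1677, 2381, 2949, 1861, 3269, 1589, 373, 237, 2589, 3117, 413, 3235, 867, 1331, 2451, 1619, 2155, 667, 2827, 1227, 3591, 455, 63, 679, 2135, 1295, 1923, 2755, 3395, 243, 2611, 1579, 347, 427, 3099, 1127, 791, 2191, 2343, 1175, 591]

def HC : List (Fin 6 → Z3) := [
  ![0, 0, 0, 0, 0, 1],
  ![0, 0, 0, 0, 1, 0],
  ![0, 0, 0, 0, 1, 1],
  ![0, 0, 0, 0, 1, 2],
  ![0, 0, 0, 1, 0, 0],
  ![0, 0, 0, 1, 0, 1],
  ![0, 0, 0, 1, 0, 2],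
  ![0, 0, 0, 1, 1, 0],
  ![0, 0, 0, 1, 1, 2],
  ![0, 0, 0, 1, 2, 0],
  ![0, 0, 0, 1, 2, 1],
  ![0, 0, 0, 1, 2, 2],
  ![0, 0, 1, 0, 0, 0],
  ![0, 0, 1, 0, 0, 1],
  ![0, 0, 1, 0, 0, 2],
  ![0, 0, 1, 0, 1, 0],
  ![0, 0, 1, 0, 1, 1],
  ![0, 0, 1, 0, 1, 2],
  ![0, 0, 1, 0, 2, 0],
  ![0, 0, 1, 0, 2, 2],
  ![0, 0, 1, 1, 0, 0],
  ![0, 0, 1, 1, 0, 1],
  ![0, 0, 1, 1, 0, 2],
  ![0, 0, 1, 1, 1, 0],
  ![0, 0, 1, 1, 2, 1],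
  ![0, 0, 1, 2, 0, 0],
  ![0, 0, 1, 2, 0, 1],
  ![0, 0, 1, 2, 1, 0],
  ![0, 0, 1, 2, 2, 0],
  ![0, 0, 1, 2, 2, 2],
  ![0, 1, 0, 0, 0, 0],
  ![0, 1, 0, 0, 0, 1],
  ![0, 1, 0, 0, 0, 2],
  ![0, 1, 0, 0, 1, 0],
  ![0, 1, 0, 0, 1, 1],
  ![0, 1, 0, 0, 1, 2],
  ![0, 1, 0, 0, 2, 0],
  ![0, 1, 0, 0, 2, 2],
  ![0, 1, 0, 1, 0, 0],
  ![0, 1, 0, 1, 0, 1],
  ![0, 1, 0, 1, 0, 2],
  ![0, 1, 0, 1, 1, 1],
  ![0, 1, 0, 1, 2, 0],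
  ![0, 1, 0, 2, 0, 0],
  ![0, 1, 0, 2, 0, 2],
  ![0, 1, 0, 2, 1, 0],
  ![0, 1, 0, 2, 2, 0],
  ![0, 1, 0, 2, 2, 1],
  ![0, 1, 1, 0, 0, 0],
  ![0, 1, 1, 0, 0, 1],
  ![0, 1, 1, 0, 1, 2],
  ![0, 1, 1, 0, 2, 0],
  ![0, 1, 1, 0, 2, 1],
  ![0, 1, 1, 1, 0, 0],
  ![0, 1, 1, 1, 1, 0],
  ![0, 1, 1, 2, 0, 0],
  ![0, 1, 1, 2, 0, 2],
  ![0, 1, 2, 0, 0, 0],
  ![0, 1, 2, 0, 0, 1],
  ![0, 1, 2, 0, 0, 2],
  ![0, 1, 2, 0, 1, 0],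
  ![0, 1, 2, 0, 2, 0],
  ![0, 1, 2, 1, 0, 0],
  ![0, 1, 2, 1, 2, 2],
  ![0, 1, 2, 2, 0, 1],
  ![0, 1, 2, 2, 1, 0],
  ![1, 0, 0, 0, 0, 0],
  ![1, 0, 0, 0, 0, 1],
  ![1, 0, 0, 0, 0, 2],
  ![1, 0, 0, 0, 1, 0],
  ![1, 0, 0, 0, 1, 1],
  ![1, 0, 0, 0, 1, 2],
  ![1, 0, 0, 0, 2, 0],
  ![1, 0, 0, 0, 2, 1],
  ![1, 0, 0, 1, 0, 0],
  ![1, 0, 0, 1, 0, 1],
  ![1, 0, 0, 1, 0, 2],
  ![1, 0, 0, 1, 1, 0],
  ![1, 0, 0, 1, 2, 0],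
  ![1, 0, 0, 2, 0, 0],
  ![1, 0, 0, 2, 0, 2],
  ![1, 0, 0, 2, 1, 1],
  ![1, 0, 0, 2, 2, 0],
  ![1, 0, 0, 2, 2, 2],
  ![1, 0, 1, 0, 0, 0],
  ![1, 0, 1, 0, 0, 2],
  ![1, 0, 1, 0, 1, 0],
  ![1, 0, 1, 0, 2, 0],
  ![1, 0, 1, 0, 2, 1],
  ![1, 0, 1, 1, 0, 0],
  ![1, 0, 1, 1, 1, 2],
  ![1, 0, 1, 2, 0, 0],
  ![1, 0, 1, 2, 0, 1],
  ![1, 0, 2, 0, 0, 0],
  ![1, 0, 2, 0, 0, 1],
  ![1, 0, 2, 0, 0, 2],
  ![1, 0, 2, 0, 1, 0],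
  ![1, 0, 2, 0, 2, 2],
  ![1, 0, 2, 1, 0, 1],
  ![1, 0, 2, 1, 2, 0],
  ![1, 0, 2, 2, 0, 0],
  ![1, 0, 2, 2, 1, 0],
  ![1, 1, 0, 0, 0, 0],
  ![1, 1, 0, 0, 0, 1],
  ![1, 1, 0, 0, 1, 0],
  ![1, 1, 0, 0, 2, 0],
  ![1, 1, 0, 0, 2, 2],
  ![1, 1, 0, 1, 0, 2],
  ![1, 1, 0, 1, 1, 0],
  ![1, 1, 0, 2, 0, 0],
  ![1, 1, 0, 2, 0, 1],
  ![1, 1, 1, 0, 0, 0],
  ![1, 1, 1, 0, 0, 2],
  ![1, 1, 1, 2, 2, 0],
  ![1, 1, 2, 0, 0, 0],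
  ![1, 1, 2, 0, 1, 1],
  ![1, 1, 2, 1, 0, 0],
  ![1, 2, 0, 0, 0, 0],
  ![1, 2, 0, 0, 0, 1],
  ![1, 2, 0, 0, 0, 2],
  ![1, 2, 0, 0, 1, 2],
  ![1, 2, 0, 0, 2, 0],
  ![1, 2, 0, 1, 0, 0],
  ![1, 2, 0, 1, 2, 1],
  ![1, 2, 0, 2, 0, 0],
  ![1, 2, 0, 2, 1, 0],
  ![1, 2, 1, 0, 0, 1],
  ![1, 2, 1, 0, 1, 0],
  ![1, 2, 1, 1, 0, 0],
  ![1, 2, 2, 0, 0, 0],
  ![1, 2, 2, 0, 2, 0],
  ![1, 2, 2, 2, 0, 2]]

end Cfsg.Agent.Lib.Helper8.TernaryGolay
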