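import Mathlib
import Cfsg.Agent.Lib.Helper8.TernaryGolayMask

/-!
The hexads of the length-12 ternary code: kernel-checked facts about the explicit list `HM`
of bitmasks and the Steiner property (author: helper8).
-/

set_option autoImplicit false

namespace Cfsg.Agent.Lib.Helper8.TernaryGolay

open Cfsg

set_option maxRecDepth 100000 in
theorem D1 : ∀ c : Fin 6 → Z3, ternarySupport (g c) = setOf (maskW (g c)) ∧
    ((ternarySupport (g c)).card = 6 → maskW (g c) ∈ HM) := by
  decide +kernel

set_option maxRecDepth 100000 in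
theorem D2a : HC.map (fun c => maskW (g c)) = HM := by
  decide +kernel

set_option maxRecDepth 100000 in
theorem D2b : ∀ c ∈ HC, (ternarySupport (g c)).card = 6 := by
  decide +kernel

set_option maxRecDepth 100000 in
theorem D3 : ∀ m < 4096, (setOf m).card = 5 → (HM.filter (fun h => m &&& h = m)).length = 1 := by
  decide +kernel

set_option maxRecDepth 100000 in
theorem D4a : HM.Nodup := by
  decide +kernel

set_option maxRecDepth 100000 in
theorem D4b : ∀ h ∈ HM, h < 4096 := by
  decide +kernel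

theorem HM_length : HM.length = 132 := by decide +kernel

/-- the hexad system of the code -/
def hexads : Set (Finset ArrayPt) :=
  {h : Finset ArrayPt | ∃ x ∈ ternaryGolayCode, ternarySupport x = h ∧ h.card = 6}

theorem mem_hexads_iff (h : Finset ArrayPt) : h ∈ hexads ↔ ∃ m ∈ HM, setOf m = h := by
  constructor
  · rintro ⟨x, hx, rfl, h6⟩
    obtain ⟨c, rfl⟩ := (mem_iff x).1 hx
    obtain ⟨h1, h2⟩ := D1 c
    exact ⟨maskW (g c), h2 h6, h1.symm⟩
  · rintro ⟨m, hm, rfl⟩
    rw [← D2a, List.mem_map] at hm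
    obtain ⟨c, hc, rfl⟩ := hm
    refine ⟨g c, g_mem c, (D1 c).1, ?_⟩
    rw [← (D1 c).1]
    exact D2b c hc

theorem hexads_eq : hexads = (fun m => setOf m) '' (↑HM.toFinset : Set ℕ) := by
  ext h
  rw [mem_hexads_iff]
  simp only [Set.mem_image, Finset.mem_coe, List.mem_toFinset]

theorem hexads_ncard : hexads.ncard = 132 := by
  rw [hexads_eq, Set.InjOn.ncard_image, Set.ncard_coe_finset, List.toFinset_card_of_nodup D4a,
    HM_length]
  intro m hm m' hm' h
  simp only [Finset.mem_coe, List.mem_toFinset] at hm hm'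
  exact setOf_injOn m m' (D4b m hm) (D4b m' hm') h

theorem hexads_card (h : Finset ArrayPt) (hh : h ∈ hexads) : h.card = 6 := by
  obtain ⟨x, _, _, h6⟩ := hh
  exact h6

theorem hexads_steiner (s : Finset ArrayPt) (hs : s.card = 5) : ∃! b, b ∈ hexads ∧ s ⊆ b := by
  obtain ⟨m, hm, rfl⟩ := exists_mask s
  have h1 := D3 m hm hs
  rw [List.length_eq_one_iff] at h1
  obtain ⟨h0, hh0⟩ := h1
  have hmem : h0 ∈ HM.filter (fun h => m &&& h = m) := by rw [hh0]; exact List.mem_singleton_self _
  rw [List.mem_filter, decide_eq_true_eq] at hmem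
  refine ⟨setOf h0, ⟨(mem_hexads_iff _).2 ⟨h0, hmem.1, rfl⟩,
    (setOf_subset_iff m h0 hm).2 hmem.2⟩, ?_⟩
  rintro b ⟨hb, hsb⟩
  obtain ⟨h, hh, rfl⟩ := (mem_hexads_iff b).1 hb
  have h2 : h ∈ HM.filter (fun h => m &&& h = m) := by
    rw [List.mem_filter, decide_eq_true_eq]
    exact ⟨hh, (setOf_subset_iff m h hm).1 hsb⟩
  rw [hh0, List.mem_singleton] at h2
  rw [h2]

end Cfsg.Agent.Lib.Helper8.TernaryGolay
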