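import Mathlib
import Cfsg.Agent.Lib.Helper8.TernaryGolayHex
import Cfsg.Agent.Lib.Helper8.MonomialAut

/-!
Explicit automorphisms of the length-12 ternary code (author: helper8): a transversal table `TD`
witnessing sharp 5-transitivity of the permutation parts, and a witness table `WT` used to show
that a hexad automorphism fixing five points of a hexad is trivial.
-/

set_option autoImplicit false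

namespace Cfsg.Agent.Lib.Helper8.TernaryGolay

open Cfsg

/-- the point with index `k` -/
def pt (k : ℕ) : ArrayPt := (⟨(k / 3) % 4, Nat.mod_lt _ (by norm_num)⟩, ((k % 3 : ℕ) : ZMod 3))

theorem pt_idx : ∀ p : ArrayPt, pt (idx p) = p := by decide

theorem idx_pt : ∀ k < 12, idx (pt k) = k := by decide

/-- a self-map of the array from a list of indices -/
def mkFun (l : List ℕ) : ArrayPt → ArrayPt := fun p => pt (l.getD (idx p) 0)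

/-- validity of a table entry: the two index lists are mutually inverse -/
def Valid (e : List ℕ × List ℕ × List ℕ) : Prop :=
  (∀ p, mkFun e.2.1 (mkFun e.1 p) = p) ∧ (∀ p, mkFun e.1 (mkFun e.2.1 p) = p)

instance decValid (e : List ℕ × List ℕ × List ℕ) : Decidable (Valid e) := by
  unfold Valid; infer_instance

/-- the permutation of a table entry -/
noncomputable def permOf (e : List ℕ × List ℕ × List ℕ) : Equiv.Perm ArrayPt :=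
  if h : Valid e then ⟨mkFun e.1, mkFun e.2.1, h.1, h.2⟩ else 1

theorem permOf_apply (e : List ℕ × List ℕ × List ℕ) (h : Valid e) (p : ArrayPt) :
    permOf e p = mkFun e.1 p := by
  unfold permOf; rw [dif_pos h]; rfl

theorem permOf_symm_apply (e : List ℕ × List ℕ × List ℕ) (h : Valid e) (p : ArrayPt) :
    (permOf e).symm p = mkFun e.2.1 p := by
  unfold permOf; rw [dif_pos h]; rfl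

/-- the sign vector of a table entry -/
def sgnOf (e : List ℕ × List ℕ × List ℕ) : ArrayPt → (ZMod 3)ˣ :=
  fun p => if e.2.2.getD (idx p) 0 = 1 then 1 else -1

/-- the monomial map of a table entry, in computable form -/
def mmE (e : List ℕ × List ℕ × List ℕ) (x : Word) : Word :=
  fun p => (if e.2.2.getD (idx p) 0 = 1 then 1 else -1) * x (mkFun e.2.1 p)

theorem mmE_eq (e : List ℕ × List ℕ × List ℕ) (h : Valid e) (x : Word) :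
    monomialMap (permOf e) (sgnOf e) x = mmE e x := by
  funext p
  simp only [MonomialAut.mm_apply, mmE, sgnOf, permOf_symm_apply e h]
  split_ifs <;> simp

def TD : List (List ℕ × List ℕ × List ℕ) := [
  ([9, 8, 7, 3, 2, 1, 0, 4, 5, 6, 10, 11], [6, 5, 4, 3, 7, 8, 9, 2, 1, 0, 10, 11], [1, 2, 2, 1, 2, 2, 2, 1, 1, 2, 1, 1]),
  ([11, 5, 10, 9, 4, 3, 1, 7, 0, 6, 8, 2], [8, 6, 11, 5, 4, 1, 9, 7, 10, 3, 2, 0], [2, 2, 1, 1, 1, 2, 2, 1, 2, 2, 1, 1]),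
  ([7, 5, 0, 11, 6, 8, 2, 9, 1, 4, 10, 3], [2, 8, 6, 11, 9, 1, 4, 0, 5, 7, 10, 3], [2, 1, 2, 1, 2, 2, 1, 2, 2, 1, 1, 1]),
  ([1, 5, 10, 0, 6, 2, 3, 8, 11, 9, 7, 4], [3, 0, 5, 6, 11, 1, 4, 10, 7, 9, 2, 8], [1, 1, 1, 1, 1, 2, 1, 2, 2, 1, 2, 1]),
  ([7, 8, 5, 9, 2, 6, 4, 11, 10, 0, 3, 1], [9, 11, 4, 10, 6, 2, 5, 0, 1, 3, 8, 7], [1, 2, 1, 2, 2, 2, 1, 1, 2, 1, 2, 1]),
  ([3, 8, 10, 4, 6, 11, 5, 9, 7, 2, 1, 0], [11, 10, 9, 0, 3, 6, 4, 8, 1, 7, 2, 5], [2, 2, 1, 1, 1, 1, 1, 1, 1, 1, 1, 1]),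
  ([0, 1, 2, 3, 4, 5, 6, 7, 8, 9, 10, 11], [0, 1, 2, 3, 4, 5, 6, 7, 8, 9, 10, 11], [1, 1, 1, 1, 1, 1, 1, 1, 1, 1, 1, 1]),
  ([2, 1, 8, 0, 4, 9, 7, 11, 10, 6, 3, 5], [3, 1, 0, 10, 4, 11, 9, 6, 2, 5, 8, 7], [2, 2, 1, 2, 2, 1, 1, 1, 1, 2, 2, 1]),
  ([11, 9, 2, 5, 7, 10, 8, 6, 1, 4, 3, 0], [11, 8, 2, 10, 9, 3, 7, 4, 6, 1, 5, 0], [1, 1, 1, 1, 2, 2, 2, 2, 1, 2, 2, 1]),
  ([0, 5, 1, 7, 6, 4, 9, 3, 10, 2, 11, 8], [0, 2, 9, 7, 5, 1, 4, 3, 11, 6, 8, 10], [1, 2, 1, 2, 2, 2, 1, 2, 1, 2, 1, 1]),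
  ([7, 3, 11, 2, 1, 0, 10, 6, 5, 4, 8, 9], [5, 4, 3, 1, 9, 8, 7, 0, 10, 11, 6, 2], [2, 1, 2, 1, 1, 1, 1, 1, 1, 1, 1, 1]),
  ([8, 1, 10, 2, 4, 6, 11, 5, 3, 7, 0, 9], [10, 1, 3, 8, 4, 7, 5, 9, 0, 11, 2, 6], [1, 1, 2, 1, 1, 1, 2, 1, 1, 2, 2, 1]),
  ([2, 9, 1, 11, 7, 4, 6, 0, 3, 8, 5, 10], [7, 2, 0, 8, 5, 10, 6, 4, 9, 1, 11, 3], [2, 2, 2, 1, 2, 2, 1, 2, 2, 2, 1, 1]),
  ([11, 8, 9, 4, 7, 3, 6, 1, 2, 0, 5, 10], [9, 7, 8, 5, 3, 10, 6, 4, 1, 2, 11, 0], [1, 1, 2, 2, 1, 1, 2, 2, 2, 2, 1, 1]),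
  ([3, 10, 11, 0, 7, 8, 6, 2, 1, 9, 4, 5], [3, 8, 7, 0, 10, 11, 6, 4, 5, 9, 1, 2], [1, 2, 2, 2, 1, 1, 1, 2, 2, 2, 1, 1]),
  ([9, 1, 8, 4, 0, 2, 6, 3, 10, 7, 11, 5], [4, 1, 5, 7, 3, 11, 6, 9, 2, 0, 8, 10], [1, 1, 1, 2, 1, 2, 1, 1, 2, 2, 1, 1]),
  ([7, 11, 3, 9, 1, 10, 6, 4, 0, 2, 5, 8], [8, 4, 9, 2, 7, 10, 6, 0, 11, 3, 5, 1], [2, 1, 2, 2, 1, 1, 1, 2, 1, 1, 1, 1]),
  ([10, 2, 3, 11, 4, 7, 6, 5, 9, 1, 8, 0], [11, 9, 1, 2, 4, 7, 6, 5, 10, 8, 0, 3], [1, 1, 1, 2, 1, 1, 2, 2, 1, 1, 2, 1]),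
  ([0, 1, 2, 3, 4, 5, 6, 7, 8, 9, 10, 11], [0, 1, 2, 3, 4, 5, 6, 7, 8, 9, 10, 11], [1, 1, 1, 1, 1, 1, 1, 1, 1, 1, 1, 1]),
  ([0, 1, 2, 3, 4, 5, 6, 7, 8, 9, 10, 11], [0, 1, 2, 3, 4, 5, 6, 7, 8, 9, 10, 11], [1, 1, 1, 1, 1, 1, 1, 1, 1, 1, 1, 1]),
  ([3, 10, 4, 2, 1, 9, 6, 8, 11, 0, 7, 5], [9, 4, 3, 0, 2, 11, 6, 10, 7, 5, 1, 8], [2, 1, 2, 1, 2, 2, 1, 2, 2, 1, 1, 1]),
  ([11, 3, 5, 7, 1, 4, 6, 9, 8, 10, 2, 0], [11, 4, 10, 1, 5, 2, 6, 3, 8, 7, 9, 0], [2, 2, 1, 2, 2, 1, 1, 2, 2, 1, 1, 1]),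
  ([2, 11, 7, 1, 4, 9, 6, 10, 0, 5, 3, 8], [8, 3, 0, 10, 4, 9, 6, 2, 11, 5, 7, 1], [1, 2, 1, 1, 1, 1, 2, 2, 1, 2, 1, 1]),
  ([8, 0, 7, 9, 1, 10, 6, 11, 5, 3, 4, 2], [1, 4, 11, 9, 10, 8, 6, 2, 0, 3, 5, 7], [2, 2, 2, 2, 1, 1, 1, 2, 1, 2, 1, 1]),
  ([11, 4, 3, 1, 2, 8, 6, 7, 0, 9, 10, 5], [8, 3, 4, 2, 1, 11, 6, 7, 5, 9, 10, 0], [2, 1, 1, 2, 2, 1, 1, 1, 2, 2, 2, 1]),
  ([10, 2, 9, 11, 3, 8, 6, 7, 1, 4, 0, 5], [10, 8, 1, 4, 9, 11, 6, 7, 5, 2, 0, 3], [2, 2, 2, 1, 2, 1, 2, 1, 1, 2, 1, 1]),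
  ([1, 10, 9, 5, 0, 3, 6, 7, 2, 11, 8, 4], [4, 0, 8, 5, 11, 3, 6, 7, 10, 2, 1, 9], [2, 2, 2, 2, 1, 1, 1, 2, 1, 1, 2, 1]),
  ([0, 4, 11, 9, 5, 1, 6, 7, 3, 8, 2, 10], [0, 5, 10, 8, 1, 4, 6, 7, 9, 3, 11, 2], [1, 1, 2, 1, 2, 2, 1, 1, 1, 1, 2, 1]),
  ([10, 3, 9, 5, 1, 0, 6, 7, 4, 2, 11, 8], [5, 4, 9, 1, 8, 3, 6, 7, 11, 2, 0, 10], [1, 2, 1, 2, 2, 2, 1, 2, 1, 2, 1, 1]),
  ([2, 3, 0, 4, 11, 9, 6, 7, 5, 10, 1, 8], [2, 10, 0, 1, 3, 8, 6, 7, 11, 5, 9, 4], [1, 2, 2, 1, 1, 1, 2, 1, 2, 2, 2, 1]),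
  ([0, 1, 2, 3, 4, 5, 6, 7, 8, 9, 10, 11], [0, 1, 2, 3, 4, 5, 6, 7, 8, 9, 10, 11], [1, 1, 1, 1, 1, 1, 1, 1, 1, 1, 1, 1]),
  ([0, 1, 2, 3, 4, 5, 6, 7, 8, 9, 10, 11], [0, 1, 2, 3, 4, 5, 6, 7, 8, 9, 10, 11], [1, 1, 1, 1, 1, 1, 1, 1, 1, 1, 1, 1]),
  ([0, 1, 2, 3, 4, 5, 6, 7, 8, 9, 10, 11], [0, 1, 2, 3, 4, 5, 6, 7, 8, 9, 10, 11], [1, 1, 1, 1, 1, 1, 1, 1, 1, 1, 1, 1]),
  ([4, 8, 1, 5, 10, 0, 6, 7, 9, 11, 3, 2], [5, 2, 11, 10, 0, 3, 6, 7, 1, 8, 4, 9], [2, 1, 2, 2, 1, 2, 2, 2, 2, 2, 1, 1]),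
  ([5, 3, 11, 2, 9, 1, 6, 7, 10, 4, 0, 8], [10, 5, 3, 1, 9, 0, 6, 7, 11, 4, 8, 2], [2, 2, 1, 1, 2, 2, 1, 2, 2, 1, 1, 1]),
  ([9, 10, 8, 5, 1, 2, 6, 7, 11, 4, 0, 3], [10, 4, 5, 11, 9, 3, 6, 7, 2, 0, 1, 8], [2, 1, 1, 1, 1, 2, 2, 2, 1, 2, 2, 1]),
  ([3, 5, 4, 9, 11, 10, 6, 7, 8, 0, 1, 2], [9, 10, 11, 0, 2, 1, 6, 7, 8, 3, 5, 4], [1, 1, 1, 1, 1, 1, 1, 1, 1, 1, 1, 1]),
  ([5, 4, 3, 10, 9, 11, 6, 7, 8, 1, 2, 0], [11, 9, 10, 2, 1, 0, 6, 7, 8, 4, 3, 5], [1, 1, 1, 1, 1, 1, 1, 1, 1, 1, 1, 1]),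
  ([9, 1, 4, 5, 0, 11, 6, 7, 8, 2, 3, 10], [4, 1, 9, 10, 2, 3, 6, 7, 8, 0, 11, 5], [1, 1, 1, 1, 1, 1, 2, 2, 1, 1, 1, 1]),
  ([1, 4, 9, 11, 5, 0, 6, 7, 8, 3, 10, 2], [5, 0, 11, 9, 1, 4, 6, 7, 8, 2, 10, 3], [1, 1, 1, 1, 1, 1, 2, 2, 1, 1, 1, 1]),
  ([2, 1, 0, 11, 9, 10, 6, 7, 8, 4, 5, 3], [2, 1, 0, 11, 9, 10, 6, 7, 8, 4, 5, 3], [1, 1, 1, 1, 1, 1, 1, 1, 1, 1, 1, 1]),
  ([11, 1, 3, 0, 10, 4, 6, 7, 8, 5, 9, 2], [3, 1, 11, 2, 5, 9, 6, 7, 8, 10, 4, 0], [1, 1, 1, 1, 1, 1, 2, 1, 2, 1, 1, 1]),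
  ([0, 1, 2, 3, 4, 5, 6, 7, 8, 9, 10, 11], [0, 1, 2, 3, 4, 5, 6, 7, 8, 9, 10, 11], [1, 1, 1, 1, 1, 1, 1, 1, 1, 1, 1, 1]),
  ([0, 1, 2, 3, 4, 5, 6, 7, 8, 9, 10, 11], [0, 1, 2, 3, 4, 5, 6, 7, 8, 9, 10, 11], [1, 1, 1, 1, 1, 1, 1, 1, 1, 1, 1, 1]),
  ([0, 1, 2, 3, 4, 5, 6, 7, 8, 9, 10, 11], [0, 1, 2, 3, 4, 5, 6, 7, 8, 9, 10, 11], [1, 1, 1, 1, 1, 1, 1, 1, 1, 1, 1, 1]),
  ([0, 1, 2, 3, 4, 5, 6, 7, 8, 9, 10, 11], [0, 1, 2, 3, 4, 5, 6, 7, 8, 9, 10, 11], [1, 1, 1, 1, 1, 1, 1, 1, 1, 1, 1, 1]),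
  ([9, 0, 3, 11, 4, 2, 6, 7, 8, 10, 1, 5], [1, 10, 5, 2, 4, 11, 6, 7, 8, 0, 9, 3], [1, 1, 1, 1, 1, 1, 1, 2, 2, 1, 1, 1]),
  ([5, 2, 9, 0, 4, 10, 6, 7, 8, 11, 3, 1], [3, 11, 1, 10, 4, 0, 6, 7, 8, 2, 5, 9], [1, 1, 1, 1, 1, 1, 2, 1, 2, 1, 1, 1]),
  ([11, 2, 4, 10, 5, 1, 6, 7, 8, 9, 0, 3], [10, 5, 1, 11, 2, 4, 6, 7, 8, 9, 3, 0], [1, 1, 1, 1, 1, 1, 1, 2, 2, 1, 1, 1]),
  ([5, 11, 0, 2, 10, 3, 6, 7, 8, 9, 1, 4], [2, 10, 3, 5, 11, 0, 6, 7, 8, 9, 4, 1], [1, 1, 1, 1, 1, 1, 2, 2, 1, 1, 1, 1]),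
  ([1, 3, 11, 4, 0, 10, 6, 7, 8, 9, 2, 5], [4, 0, 10, 1, 3, 11, 6, 7, 8, 9, 5, 2], [1, 1, 1, 1, 1, 1, 2, 1, 2, 1, 1, 1]),
  ([10, 5, 1, 11, 2, 4, 6, 7, 8, 9, 3, 0], [11, 2, 4, 10, 5, 1, 6, 7, 8, 9, 0, 3], [1, 1, 1, 1, 1, 1, 1, 2, 2, 1, 1, 1]),
  ([2, 10, 3, 5, 11, 0, 6, 7, 8, 9, 4, 1], [5, 11, 0, 2, 10, 3, 6, 7, 8, 9, 1, 4], [1, 1, 1, 1, 1, 1, 2, 2, 1, 1, 1, 1]),
  ([4, 0, 10, 1, 3, 11, 6, 7, 8, 9, 5, 2], [1, 3, 11, 4, 0, 10, 6, 7, 8, 9, 2, 5], [1, 1, 1, 1, 1, 1, 2, 1, 2, 1, 1, 1]),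
  ([0, 1, 2, 3, 4, 5, 6, 7, 8, 9, 10, 11], [0, 1, 2, 3, 4, 5, 6, 7, 8, 9, 10, 11], [1, 1, 1, 1, 1, 1, 1, 1, 1, 1, 1, 1]),
  ([0, 1, 2, 3, 4, 5, 6, 7, 8, 9, 10, 11], [0, 1, 2, 3, 4, 5, 6, 7, 8, 9, 10, 11], [1, 1, 1, 1, 1, 1, 1, 1, 1, 1, 1, 1]),
  ([0, 1, 2, 3, 4, 5, 6, 7, 8, 9, 10, 11], [0, 1, 2, 3, 4, 5, 6, 7, 8, 9, 10, 11], [1, 1, 1, 1, 1, 1, 1, 1, 1, 1, 1, 1]),
  ([0, 1, 2, 3, 4, 5, 6, 7, 8, 9, 10, 11], [0, 1, 2, 3, 4, 5, 6, 7, 8, 9, 10, 11], [1, 1, 1, 1, 1, 1, 1, 1, 1, 1, 1, 1]),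
  ([0, 1, 2, 3, 4, 5, 6, 7, 8, 9, 10, 11], [0, 1, 2, 3, 4, 5, 6, 7, 8, 9, 10, 11], [1, 1, 1, 1, 1, 1, 1, 1, 1, 1, 1, 1]),
  ([3, 4, 5, 0, 1, 2, 6, 7, 8, 9, 11, 10], [3, 4, 5, 0, 1, 2, 6, 7, 8, 9, 11, 10], [1, 1, 1, 1, 1, 1, 1, 1, 1, 1, 1, 1])]


def WT : List (ArrayPt × ℕ × ℕ × ℕ × ℕ) := [
  (((0 : Fin 4), (0 : ZMod 3)), 0, 0, 0, 0),
  (((0 : Fin 4), (2 : ZMod 3)), 3269, 1861, 3282, 1866),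
  (((0 : Fin 4), (1 : ZMod 3)), 2755, 3395, 2764, 3428),
  (((0 : Fin 4), (1 : ZMod 3)), 2755, 3395, 2764, 3416),
  (((0 : Fin 4), (1 : ZMod 3)), 2755, 3395, 2800, 3416),
  (((0 : Fin 4), (1 : ZMod 3)), 2755, 3395, 2800, 3428),
  (((0 : Fin 4), (2 : ZMod 3)), 1734, 2886, 1761, 2897),
  (((0 : Fin 4), (0 : ZMod 3)), 0, 0, 0, 0),
  (((0 : Fin 4), (0 : ZMod 3)), 2755, 3395, 2764, 3428),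
  (((0 : Fin 4), (0 : ZMod 3)), 2755, 3395, 2764, 3416),
  (((0 : Fin 4), (0 : ZMod 3)), 2755, 3395, 2800, 3416),
  (((0 : Fin 4), (0 : ZMod 3)), 2755, 3395, 2800, 3428),
  (((0 : Fin 4), (1 : ZMod 3)), 1734, 2886, 1761, 2897),
  (((0 : Fin 4), (0 : ZMod 3)), 3269, 1861, 3282, 1866),
  (((0 : Fin 4), (0 : ZMod 3)), 0, 0, 0, 0),
  (((0 : Fin 4), (0 : ZMod 3)), 3269, 1861, 3304, 1866),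
  (((0 : Fin 4), (0 : ZMod 3)), 3269, 1861, 3282, 1904),
  (((0 : Fin 4), (0 : ZMod 3)), 3269, 1861, 3304, 1904),
  (((0 : Fin 4), (1 : ZMod 3)), 3722, 1866, 3729, 1861),
  (((0 : Fin 4), (0 : ZMod 3)), 3657, 3465, 3682, 3462),
  (((0 : Fin 4), (0 : ZMod 3)), 3657, 3465, 3668, 3462),
  (((0 : Fin 4), (0 : ZMod 3)), 0, 0, 0, 0),
  (((0 : Fin 4), (0 : ZMod 3)), 3657, 3465, 3668, 3504),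
  (((0 : Fin 4), (0 : ZMod 3)), 3657, 3465, 3682, 3504),
  (((0 : Fin 4), (1 : ZMod 3)), 3282, 3858, 3269, 3873),
  (((0 : Fin 4), (0 : ZMod 3)), 3729, 2897, 3722, 2886),
  (((0 : Fin 4), (0 : ZMod 3)), 3729, 2897, 3748, 2886),
  (((0 : Fin 4), (0 : ZMod 3)), 3729, 2897, 3722, 2920),
  (((0 : Fin 4), (0 : ZMod 3)), 0, 0, 0, 0),
  (((0 : Fin 4), (0 : ZMod 3)), 3729, 2897, 3748, 2920),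
  (((0 : Fin 4), (1 : ZMod 3)), 3682, 2978, 3657, 2949),
  (((0 : Fin 4), (0 : ZMod 3)), 1761, 3873, 1734, 3858),
  (((0 : Fin 4), (0 : ZMod 3)), 1761, 3873, 1734, 3852),
  (((0 : Fin 4), (0 : ZMod 3)), 1761, 3873, 1752, 3852),
  (((0 : Fin 4), (0 : ZMod 3)), 1761, 3873, 1752, 3858),
  (((0 : Fin 4), (0 : ZMod 3)), 0, 0, 0, 0)]

set_option maxRecDepth 100000 in
theorem D6 : ∀ e ∈ TD, Valid e := by decide +kernel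

set_option maxRecDepth 100000 in
theorem D7 : ∀ e ∈ TD, ∀ i, IsWord (mmE e (gb i)) := by decide +kernel

/-- the base points -/
def bp (i : ℕ) : ArrayPt := pt (6 + i)

/-- the transversal property of the table at level `k` and target `y` -/
def TProp (k : ℕ) (y : ArrayPt) : Prop :=
  TD.getD (12 * k + idx y) ([], [], []) ∈ TD ∧
    (∀ i < k, mkFun (TD.getD (12 * k + idx y) ([], [], [])).1 (bp i) = bp i) ∧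
    mkFun (TD.getD (12 * k + idx y) ([], [], [])).1 (bp k) = y

instance decTProp (k : ℕ) (y : ArrayPt) : Decidable (TProp k y) := by
  unfold TProp; infer_instance

set_option maxRecDepth 100000 in
theorem D8 : ∀ k < 5, ∀ y : ArrayPt, (∀ i < k, y ≠ bp i) → TProp k y := by decide +kernel

/-- one step of the rigidity argument -/
def Step (y : ArrayPt) (mA mB : ℕ) : Prop :=
  (insert y ((setOf mA).filter (fun p => 6 ≤ idx p))).card = 5 ∧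
    insert y ((setOf mA).filter (fun p => 6 ≤ idx p)) ⊆ setOf mB

instance decStep (y : ArrayPt) (mA mB : ℕ) : Decidable (Step y mA mB) := by
  unfold Step; infer_instance

/-- the property of a witness for the pair `(x, y)` -/
def GoodW (x y : ArrayPt) (w : ArrayPt × ℕ × ℕ × ℕ × ℕ) : Prop :=
  idx w.1 < 6 ∧ w.1 ≠ x ∧ w.2.1 ∈ HM ∧ w.2.2.1 ∈ HM ∧ w.2.2.2.1 ∈ HM ∧ w.2.2.2.2 ∈ HM ∧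
  x ∈ setOf w.2.1 ∧ w.1 ∈ setOf w.2.1 ∧ x ∈ setOf w.2.2.1 ∧ w.1 ∈ setOf w.2.2.1 ∧
  (∀ p ∈ setOf w.2.2.2.1, idx p < 6 → p ∈ setOf w.2.2.2.2 → p = y) ∧
  Step y w.2.1 w.2.2.2.1 ∧ Step y w.2.2.1 w.2.2.2.2

instance decGoodW (x y : ArrayPt) (w : ArrayPt × ℕ × ℕ × ℕ × ℕ) : Decidable (GoodW x y w) := by
  unfold GoodW; infer_instance

set_option maxRecDepth 100000 in
theorem D9 : ∀ x y : ArrayPt, idx x < 6 → idx y < 6 → x ≠ y →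
    GoodW x y (WT.getD (6 * idx x + idx y) ((0, 0), 0, 0, 0, 0)) := by decide +kernel

end Cfsg.Agent.Lib.Helper8.TernaryGolay
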