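import Mathlib
import Cfsg.Agent.Lib.Helper8.ThreeInvA

/-!
# Elementary lemmas on Sylow 2-subgroups
-/

set_option autoImplicit false

namespace Cfsg.Agent.Lib.Helper8.ThreeInv

section

variable {G : Type*} [Group G] [Finite G]

omit [Finite G] in
theorem isPGroup_zpowers_of_orderOf_two {x : G} (hx : orderOf x = 2) :
    IsPGroup 2 ↥(Subgroup.zpowers x) := by
  have : Fact (Nat.Prime 2) := ⟨Nat.prime_two⟩
  apply IsPGroup.of_card (n := 1)
  rw [Nat.card_zpowers, hx, pow_one]

omit [Finite G] in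
/-- a 2-element normalizing a Sylow 2-subgroup lies in it -/
theorem mem_sylow_of_normalizes (S : Sylow 2 G) (m : G) (hm : IsPGroup 2 ↥(Subgroup.zpowers m))
    (hn : m ∈ Subgroup.normalizer ((S : Subgroup G) : Set G)) : m ∈ (S : Subgroup G) := by
  have : Fact (Nat.Prime 2) := ⟨Nat.prime_two⟩
  have h : IsPGroup 2 ↥(Subgroup.zpowers m ⊔ (S : Subgroup G)) :=
    IsPGroup.to_sup_of_normal_right' hm S.2 ((Subgroup.zpowers_le).mpr hn)
  have h2 := S.is_maximal' h le_sup_right
  have h3 : m ∈ Subgroup.zpowers m ⊔ (S : Subgroup G) :=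
    (le_sup_left : Subgroup.zpowers m ≤ _) (Subgroup.mem_zpowers m)
  rw [h2] at h3
  exact h3

omit [Finite G] in
/-- an involution centralizing a Sylow 2-subgroup lies in it -/
theorem mem_sylow_of_central (S : Sylow 2 G) (x : G) (hx : orderOf x = 2)
    (hc : ∀ s ∈ (S : Subgroup G), s * x = x * s) : x ∈ (S : Subgroup G) := by
  apply mem_sylow_of_normalizes S x (isPGroup_zpowers_of_orderOf_two hx)
  rw [Subgroup.mem_normalizer_iff]
  intro h
  constructor
  · intro hh
    have := hc h hh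
    have e : x * h * x⁻¹ = h := by rw [← this, mul_inv_cancel_right]
    rw [e]
    exact hh
  · intro hh
    have := hc _ hh
    have e : x * h * x⁻¹ = h := by
      have h1 : x * h * x⁻¹ * x = x * (x * h * x⁻¹) := this
      rw [inv_mul_cancel_right] at h1
      have h2 : h = x * h * x⁻¹ := mul_left_cancel h1
      exact h2.symm
    rw [← e]
    exact hh

/-- every 2-subgroup is conjugate into a given Sylow 2-subgroup -/
theorem exists_conj_le_sylow (S : Sylow 2 G) (H : Subgroup G) (hH : IsPGroup 2 ↥H) :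
    ∃ g : G, ∀ h ∈ H, g * h * g⁻¹ ∈ (S : Subgroup G) := by
  have : Fact (Nat.Prime 2) := ⟨Nat.prime_two⟩
  obtain ⟨Q, hQ⟩ := hH.exists_le_sylow
  obtain ⟨g, hg⟩ := MulAction.exists_smul_eq G Q S
  refine ⟨g, fun h hh => ?_⟩
  rw [← hg, Sylow.smul_def, Sylow.pointwise_smul_def, Subgroup.mem_smul_pointwise_iff_exists]
  exact ⟨h, hQ hh, rfl⟩

/-- every involution is conjugate into a given Sylow 2-subgroup -/
theorem exists_conj_mem_sylow (S : Sylow 2 G) (u : G) (hu : orderOf u = 2) :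
    ∃ g : G, g * u * g⁻¹ ∈ (S : Subgroup G) := by
  obtain ⟨g, hg⟩ := exists_conj_le_sylow S (Subgroup.zpowers u)
    (isPGroup_zpowers_of_orderOf_two hu)
  exact ⟨g, hg u (Subgroup.mem_zpowers u)⟩

/-- a nontrivial Sylow 2-subgroup has a central involution -/
theorem exists_central_involution (S : Sylow 2 G) (hS : (S : Subgroup G) ≠ ⊥) :
    ∃ z ∈ (S : Subgroup G), orderOf z = 2 ∧ ∀ s ∈ (S : Subgroup G), s * z = z * s := by
  have : Fact (Nat.Prime 2) := ⟨Nat.prime_two⟩
  have hnt : Nontrivial ↥(S : Subgroup G) := (Subgroup.nontrivial_iff_ne_bot _).mpr hS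
  have hP : IsPGroup 2 ↥(S : Subgroup G) := S.2
  have hcn : Nontrivial ↥(Subgroup.center ↥(S : Subgroup G)) := hP.center_nontrivial
  have hPc : IsPGroup 2 ↥(Subgroup.center ↥(S : Subgroup G)) := hP.to_subgroup _
  have hdvd : 2 ∣ Nat.card ↥(Subgroup.center ↥(S : Subgroup G)) := by
    rcases hPc.card_eq_or_dvd with h | h
    · exfalso
      have := Finite.one_lt_card (α := ↥(Subgroup.center ↥(S : Subgroup G)))
      omega
    · exact h
  obtain ⟨z, hz⟩ := exists_prime_orderOf_dvd_card' 2 hdvd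
  refine ⟨((z : ↥(S : Subgroup G)) : G), (z : ↥(S : Subgroup G)).2, ?_, ?_⟩
  · rw [Subgroup.orderOf_coe, Subgroup.orderOf_coe]
    exact hz
  · intro s hs
    have h := Subgroup.mem_center_iff.mp z.2 ⟨s, hs⟩
    exact congrArg Subtype.val h

/-- in a 2-group a proper subgroup is normalized by an element outside it -/
theorem exists_normalizing (S : Sylow 2 G) (H : Subgroup G) (hle : H ≤ (S : Subgroup G))
    (hne : H ≠ (S : Subgroup G)) :
    ∃ n ∈ (S : Subgroup G), n ∉ H ∧ ∀ h ∈ H, n * h * n⁻¹ ∈ H := by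
  have : Fact (Nat.Prime 2) := ⟨Nat.prime_two⟩
  have hP : IsPGroup 2 ↥(S : Subgroup G) := S.2
  have : Group.IsNilpotent ↥(S : Subgroup G) := hP.isNilpotent
  have hlt : H.subgroupOf (S : Subgroup G) < ⊤ := by
    rw [lt_top_iff_ne_top]
    intro h
    apply hne
    apply le_antisymm hle
    rw [Subgroup.subgroupOf_eq_top] at h
    exact h
  have h1 := Group.normalizerCondition_of_isNilpotent (G := ↥(S : Subgroup G))
    (H.subgroupOf (S : Subgroup G)) hlt
  obtain ⟨n, hn, hnH⟩ := SetLike.exists_of_lt h1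
  refine ⟨n, n.2, ?_, ?_⟩
  · intro h
    exact hnH (Subgroup.mem_subgroupOf.mpr h)
  · intro h hh
    have h2 := (Subgroup.mem_normalizer_iff.mp hn ⟨h, hle hh⟩).mp (Subgroup.mem_subgroupOf.mpr hh)
    exact Subgroup.mem_subgroupOf.mp h2

end

end Cfsg.Agent.Lib.Helper8.ThreeInv
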