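import Mathlib
import Cfsg.Agent.Lib.Helper8.ThreeInvB

/-!
# Simple groups with an involution centralizing at most three involutions: the centralizer
contains a Sylow 2-subgroup
-/

set_option autoImplicit false

namespace Cfsg.Agent.Lib.Helper8.ThreeInv

section

variable {G : Type*} [Group G] [Finite G]

omit [Finite G] in
theorem mul_comm_of_conj_eq {n x : G} (h : n * x * n⁻¹ = x) : n * x = x * n := by
  calc n * x = n * x * n⁻¹ * n := by group
    _ = x * n := by rw [h]

omit [Finite G] in
theorem conj_eq_of_mul_comm {n x : G} (h : n * x = x * n) : n * x * n⁻¹ = x := by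
  rw [h, mul_inv_cancel_right]

omit [Finite G] in
theorem conj_injective {n a b : G} (h : n * a * n⁻¹ = n * b * n⁻¹) : a = b :=
  mul_left_cancel (mul_right_cancel h)

/-- if `y ≠ x` is an involution commuting with the involution `x` and at most three involutions
commute with `x`, these are `x`, `y`, `x * y` -/
theorem inv_trichotomy (x : G) (hx : orderOf x = 2)
    (h3 : Nat.card {u : ↥(Subgroup.centralizer ({x} : Set G)) // orderOf u = 2} ≤ 3)
    (y : G) (hy : orderOf y = 2) (hyx : y * x = x * y) (hne : y ≠ x)
    (u : G) (hu : orderOf u = 2) (hux : u * x = x * u) : u = x ∨ u = y ∨ u = x * y := by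
  by_contra hcon
  push Not at hcon
  obtain ⟨h1, h2, h3'⟩ := hcon
  have hx1 := orderOf_two_iff.mp hx
  have hy1 := orderOf_two_iff.mp hy
  have hxy2 : orderOf (x * y) = 2 := by
    rw [orderOf_two_iff]
    refine ⟨?_, ?_⟩
    · calc x * y * (x * y) = x * (y * x) * y := by group
        _ = x * (x * y) * y := by rw [hyx]
        _ = (x * x) * (y * y) := by group
        _ = 1 := by rw [hx1.1, hy1.1, one_mul]
    · intro h
      apply hne
      have : y = x⁻¹ := eq_inv_of_mul_eq_one_right h
      rw [this, inv_eq_self_of_orderOf_two hx]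
  have hxyx : x * y * x = x * (x * y) := by rw [mul_assoc, hyx]
  have memC : ∀ v : G, v * x = x * v → v ∈ Subgroup.centralizer ({x} : Set G) :=
    fun v hv => Subgroup.mem_centralizer_singleton_iff.mpr hv
  have mk : ∀ (v : G) (hv : v * x = x * v) (_ : orderOf v = 2),
      ∃ w : {u : ↥(Subgroup.centralizer ({x} : Set G)) // orderOf u = 2},
        ((w : ↥(Subgroup.centralizer ({x} : Set G))) : G) = v := by
    intro v hv ho
    refine ⟨⟨⟨v, memC v hv⟩, ?_⟩, rfl⟩
    rw [Subgroup.orderOf_mk]
    exact ho
  obtain ⟨wx, hwx⟩ := mk x rfl hx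
  obtain ⟨wy, hwy⟩ := mk y hyx hy
  obtain ⟨wxy, hwxy⟩ := mk (x * y) hxyx hxy2
  obtain ⟨wu, hwu⟩ := mk u hux hu
  have hd : ∀ (a b : {u : ↥(Subgroup.centralizer ({x} : Set G)) // orderOf u = 2}),
      ((a : ↥(Subgroup.centralizer ({x} : Set G))) : G) ≠
        ((b : ↥(Subgroup.centralizer ({x} : Set G))) : G) → a ≠ b := by
    intro a b hab h
    exact hab (by rw [h])
  have := four_le_card wx wy wxy wu (hd _ _ (by rw [hwx, hwy]; exact hne.symm))
    (hd _ _ (by
      rw [hwx, hwxy]
      intro h
      apply hy1.2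
      have : x * 1 = x * y := by rw [mul_one]; exact h
      exact (mul_left_cancel this).symm))
    (hd _ _ (by rw [hwx, hwu]; exact h1.symm))
    (hd _ _ (by
      rw [hwy, hwxy]
      intro h
      apply hx1.2
      have : 1 * y = x * y := by rw [one_mul]; exact h
      exact (mul_right_cancel this).symm))
    (hd _ _ (by rw [hwy, hwu]; exact h2.symm))
    (hd _ _ (by rw [hwxy, hwu]; exact h3'.symm))
  omega

/-- the centralizer of `x` contains a Sylow 2-subgroup -/
theorem exists_sylow_le [IsSimpleGroup G] (x : G) (hx : orderOf x = 2)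
    (h3 : Nat.card {u : ↥(Subgroup.centralizer ({x} : Set G)) // orderOf u = 2} ≤ 3) :
    ∃ S : Sylow 2 G, (S : Subgroup G) ≤ Subgroup.centralizer ({x} : Set G) := by
  have : Fact (Nat.Prime 2) := ⟨Nat.prime_two⟩
  by_contra hno
  push Not at hno
  obtain ⟨S, hxS⟩ := (isPGroup_zpowers_of_orderOf_two hx).exists_le_sylow
  have hxS' : x ∈ (S : Subgroup G) := hxS (Subgroup.mem_zpowers x)
  have hSC := hno S
  have hx1 := orderOf_two_iff.mp hx
  have hSne : (S : Subgroup G) ≠ ⊥ := by
    intro h
    rw [h, Subgroup.mem_bot] at hxS'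
    exact hx1.2 hxS'
  obtain ⟨z, hzS, hz2, hzc⟩ := exists_central_involution S hSne
  have hz1 := orderOf_two_iff.mp hz2
  have hzx : z * x = x * z := (hzc x hxS').symm
  have hzne : z ≠ x := by
    rintro rfl
    apply hSC
    intro s hs
    exact Subgroup.mem_centralizer_singleton_iff.mpr (hzc s hs)
  have tri := inv_trichotomy x hx h3 z hz2 hzx hzne
  have hHne : (S : Subgroup G) ⊓ Subgroup.centralizer ({x} : Set G) ≠ S := by
    intro h
    apply hSC
    rw [← h]
    exact inf_le_right
  obtain ⟨n, hnS, hnH, hnorm⟩ := exists_normalizing S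
    ((S : Subgroup G) ⊓ Subgroup.centralizer ({x} : Set G)) inf_le_left hHne
  have hnC : ¬ (n * x = x * n) :=
    fun h => hnH ⟨hnS, Subgroup.mem_centralizer_singleton_iff.mpr h⟩
  have hxH : x ∈ (S : Subgroup G) ⊓ Subgroup.centralizer ({x} : Set G) :=
    ⟨hxS', Subgroup.mem_centralizer_singleton_iff.mpr rfl⟩
  have hnx := hnorm x hxH
  have hnx2 : orderOf (n * x * n⁻¹) = 2 := orderOf_conj_two hx n
  have hnxx : (n * x * n⁻¹) * x = x * (n * x * n⁻¹) :=
    Subgroup.mem_centralizer_singleton_iff.mp hnx.2
  have hnz : n * z * n⁻¹ = z := conj_eq_of_mul_comm (hzc n hnS)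
  have hnxz : n * x * n⁻¹ = x * z := by
    rcases tri _ hnx2 hnxx with h | h | h
    · exact absurd (mul_comm_of_conj_eq h) hnC
    · exfalso
      apply hzne
      exact (conj_injective (h.trans hnz.symm)).symm
    · exact h
  -- `x` is not conjugate to `z`
  have hxz : ¬ IsConj z x := by
    intro hc
    obtain ⟨g, hg⟩ := isConj_iff.mp hc
    apply hno (g • S)
    intro s hs
    rw [Sylow.smul_def, Sylow.pointwise_smul_def, Subgroup.mem_smul_pointwise_iff_exists] at hs
    obtain ⟨s0, hs0, rfl⟩ := hs
    rw [Subgroup.mem_centralizer_singleton_iff]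
    change g * s0 * g⁻¹ * x = x * (g * s0 * g⁻¹)
    rw [← hg]
    have := hzc s0 hs0
    calc g * s0 * g⁻¹ * (g * z * g⁻¹) = g * (s0 * z) * g⁻¹ := by group
      _ = g * (z * s0) * g⁻¹ := by rw [this]
      _ = g * z * g⁻¹ * (g * s0 * g⁻¹) := by group
  have hxzz : ¬ IsConj z (x * z) := by
    intro hc
    apply hxz
    have : IsConj (x * z) x := isConj_iff.mpr ⟨n⁻¹, by rw [← hnxz]; group⟩
    exact hc.trans this
  -- every conjugate of `z` commutes with `z`
  have hcomm : ∀ g : G, (g * z * g⁻¹) * z = z * (g * z * g⁻¹) := by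
    intro g
    have hz'2 : orderOf (g * z * g⁻¹) = 2 := orderOf_conj_two hz2 g
    have hcz' : IsConj z (g * z * g⁻¹) := isConj_iff.mpr ⟨g, rfl⟩
    generalize g * z * g⁻¹ = z' at hz'2 hcz' ⊢
    have hz'1 := (orderOf_two_iff.mp hz'2)
    rcases Nat.even_or_odd (orderOf (x * z')) with he | ho
    · obtain ⟨k, hk⟩ := he
      have hk' : orderOf (x * z') = 2 * k := by rw [hk, two_mul]
      have hk0 : 0 < k := by
        rcases Nat.eq_zero_or_pos k with h | h
        · exfalso
          rw [h, mul_zero] at hk'
          exact (orderOf_pos (x * z')).ne' hk'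
        · exact h
      obtain ⟨hw2, hwx, hwz'⟩ := dihedral_center hx1.1 hz'1.1 k hk' hk0
      rcases tri _ hw2 hwx with h | h | h
      · exfalso
        rw [h] at hwz'
        have hsq : (x * z') ^ 2 = 1 := by
          rw [pow_two]
          calc x * z' * (x * z') = x * (z' * x) * z' := by group
            _ = x * (x * z') * z' := by rw [← hwz']
            _ = (x * x) * (z' * z') := by group
            _ = 1 := by rw [hx1.1, hz'1.1, one_mul]
        have hdvd := orderOf_dvd_of_pow_eq_one hsq
        rw [hk'] at hdvd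
        have hk1 : k = 1 := by
          have := Nat.le_of_dvd (by norm_num) hdvd
          omega
        rw [hk1, pow_one] at h
        have : x * z' = x * 1 := by rw [mul_one]; exact h
        exact hz'1.2 (mul_left_cancel this)
      · rw [h] at hwz'
        exact hwz'.symm
      · rw [h] at hwz'
        have hx' : x = n⁻¹ * (x * z) * n := by rw [← hnxz]; group
        have hz''2 : orderOf (n⁻¹ * z' * n) = 2 := by
          have := orderOf_conj_two hz'2 n⁻¹
          rwa [inv_inv] at this
        have hz''x : (n⁻¹ * z' * n) * x = x * (n⁻¹ * z' * n) := by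
          calc (n⁻¹ * z' * n) * x = n⁻¹ * z' * n * (n⁻¹ * (x * z) * n) := by rw [← hx']
            _ = n⁻¹ * (z' * (x * z)) * n := by group
            _ = n⁻¹ * (x * z * z') * n := by rw [hwz']
            _ = n⁻¹ * (x * z) * n * (n⁻¹ * z' * n) := by group
            _ = x * (n⁻¹ * z' * n) := by rw [← hx']
        have hcz : IsConj z (n⁻¹ * z' * n) :=
          hcz'.trans (isConj_iff.mpr ⟨n⁻¹, by rw [inv_inv]⟩)
        rcases tri _ hz''2 hz''x with h' | h' | h'
        · exfalso
          rw [h'] at hcz
          exact hxz hcz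
        · have e : z' = n * (n⁻¹ * z' * n) * n⁻¹ := by group
          rw [e, h', hnz]
        · exfalso
          rw [h'] at hcz
          exact hxzz hcz
    · exfalso
      have hc := isConj_of_odd hx1.1 hz'1.1 ho
      exact hxz (hcz'.trans hc.symm)
  -- `z` is central
  have hzcen : z ∈ Subgroup.center G := by
    have hN : Subgroup.normalClosure ({z} : Set G) = ⊤ := by
      rcases (Subgroup.normalClosure_normal (s := ({z} : Set G))).eq_bot_or_eq_top with h | h
      · exfalso
        have hz' : z ∈ Subgroup.normalClosure ({z} : Set G) :=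
          Subgroup.subset_normalClosure rfl
        rw [h, Subgroup.mem_bot] at hz'
        exact hz1.2 hz'
      · exact h
    have hle : Subgroup.normalClosure ({z} : Set G) ≤ Subgroup.centralizer ({z} : Set G) := by
      rw [Subgroup.normalClosure, Subgroup.closure_le]
      intro w hw
      rw [Group.mem_conjugatesOfSet_iff] at hw
      obtain ⟨a, ha, hc⟩ := hw
      rw [Set.mem_singleton_iff] at ha
      subst ha
      obtain ⟨g, rfl⟩ := isConj_iff.mp hc
      exact Subgroup.mem_centralizer_singleton_iff.mpr (hcomm g)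
    rw [hN] at hle
    rw [Subgroup.mem_center_iff]
    intro g
    have := hle (Subgroup.mem_top g)
    rw [Subgroup.mem_centralizer_singleton_iff] at this
    exact this
  have hcen : Subgroup.center G = ⊤ := by
    rcases (inferInstance : (Subgroup.center G).Normal).eq_bot_or_eq_top with h | h
    · exfalso
      rw [h, Subgroup.mem_bot] at hzcen
      exact hz1.2 hzcen
    · exact h
  apply hSC
  intro s _
  rw [Subgroup.mem_centralizer_singleton_iff]
  have hxc : x ∈ Subgroup.center G := by rw [hcen]; trivial
  exact Subgroup.mem_center_iff.mp hxc s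

end

end Cfsg.Agent.Lib.Helper8.ThreeInv
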