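import Mathlib
import Cfsg.Agent.Lib.Helper8.ThreeInvC
import Cfsg.Agent.S0215

/-!
# Simple groups with an involution centralizing at most three involutions: all involutions are
conjugate
-/

set_option autoImplicit false

namespace Cfsg.Agent.Lib.Helper8.ThreeInv

section

variable {G : Type*} [Group G] [Finite G]

omit [Finite G] in
/-- if `m` swaps `x` and `y` by conjugation, odd powers of `m` conjugate `x` to `y` -/
theorem odd_pow_conj {m x y : G} (h1 : m * x * m⁻¹ = y) (h2 : m * y * m⁻¹ = x) (i : ℕ) :
    m ^ (2 * i + 1) * x * (m ^ (2 * i + 1))⁻¹ = y := by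
  have hy : (m * m) * y = y * (m * m) := by
    apply mul_comm_of_conj_eq
    calc m * m * y * (m * m)⁻¹ = m * (m * y * m⁻¹) * m⁻¹ := by group
      _ = y := by rw [h2, h1]
  have hyi : (m * m) ^ i * y = y * (m * m) ^ i := by
    have : SemiconjBy (m * m) y y := hy
    exact (Commute.pow_left this i)
  have e : m ^ (2 * i + 1) = (m * m) ^ i * m := by
    rw [pow_succ, pow_mul, pow_two]
  rw [e]
  calc (m * m) ^ i * m * x * ((m * m) ^ i * m)⁻¹
      = (m * m) ^ i * (m * x * m⁻¹) * ((m * m) ^ i)⁻¹ := by group
    _ = (m * m) ^ i * y * ((m * m) ^ i)⁻¹ := by rw [h1]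
    _ = y := conj_eq_of_mul_comm hyi

/-- all involutions are conjugate -/
theorem all_conj [IsSimpleGroup G] (x : G) (hx : orderOf x = 2)
    (h3 : Nat.card {u : ↥(Subgroup.centralizer ({x} : Set G)) // orderOf u = 2} ≤ 3)
    (S : Sylow 2 G) (hSC : (S : Subgroup G) ≤ Subgroup.centralizer ({x} : Set G)) :
    ∀ u v : G, orderOf u = 2 → orderOf v = 2 → IsConj u v := by
  have : Fact (Nat.Prime 2) := ⟨Nat.prime_two⟩
  have hx1 := orderOf_two_iff.mp hx
  have hcs : ∀ s ∈ (S : Subgroup G), s * x = x * s :=
    fun s hs => Subgroup.mem_centralizer_singleton_iff.mp (hSC hs)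
  have hxS : x ∈ (S : Subgroup G) := mem_sylow_of_central S x hx hcs
  have key : ∀ u ∈ (S : Subgroup G), orderOf u = 2 → IsConj x u := by
    by_cases hy : ∃ y ∈ (S : Subgroup G), orderOf y = 2 ∧ y ≠ x
    swap
    · intro u huS hu2
      push Not at hy
      rw [hy u huS hu2]
    obtain ⟨y0, hy0S, hy02, hy0x⟩ := hy
    -- `x` is not isolated
    have hniso : ∃ g : G, g * x * g⁻¹ ∈ (S : Subgroup G) ∧ g * x * g⁻¹ ≠ x := by
      by_contra hiso
      push Not at hiso
      obtain ⟨N, hNn, hNodd, hNc⟩ := Cfsg.Agent.S0215.result S x hx hxS hiso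
      rcases hNn.eq_bot_or_eq_top with h | h
      · -- `x` is central, so `G` has order two
        have hxc : ∀ g : G, g * x = x * g := by
          intro g
          have hg := hNc g
          rw [h, Subgroup.mem_bot] at hg
          have : x * g * x⁻¹ = g := by
            calc x * g * x⁻¹ = x * g * x⁻¹ * g⁻¹ * g := by group
              _ = g := by rw [hg, one_mul]
          exact (mul_comm_of_conj_eq this).symm
        have hzn : (Subgroup.zpowers x).Normal := by
          refine ⟨fun a ha g => ?_⟩
          have hax : a * x = x * a := by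
            rw [Subgroup.mem_zpowers_iff] at ha
            obtain ⟨k, rfl⟩ := ha
            exact (Commute.zpow_left (Commute.refl x) k)
          have hga : g * a = a * g := by
            rw [Subgroup.mem_zpowers_iff] at ha
            obtain ⟨k, rfl⟩ := ha
            have hc : Commute g x := hxc g
            exact hc.zpow_right k
          rw [hga, mul_inv_cancel_right]
          exact ha
        rcases hzn.eq_bot_or_eq_top with h' | h'
        · have hxm : x ∈ Subgroup.zpowers x := Subgroup.mem_zpowers x
          rw [h', Subgroup.mem_bot] at hxm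
          exact hx1.2 hxm
        · have hcard : Nat.card G = 2 := by
            rw [← Subgroup.card_top (G := G), ← h', Nat.card_zpowers, hx]
          have hy1 := orderOf_two_iff.mp hy02
          have h4 := four_le_card (1 : G) x y0 (x * y0) (Ne.symm hx1.2) (Ne.symm hy1.2)
            (by
              intro h1
              apply hy0x
              have : y0 = x⁻¹ := eq_inv_of_mul_eq_one_right h1.symm
              rw [this, inv_eq_self_of_orderOf_two hx])
            (Ne.symm hy0x)
            (by
              intro h1
              apply hy1.2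
              have : x * 1 = x * y0 := by rw [mul_one]; exact h1
              exact (mul_left_cancel this).symm)
            (by
              intro h1
              apply hx1.2
              have : 1 * y0 = x * y0 := by rw [one_mul]; exact h1
              exact (mul_right_cancel this).symm)
          omega
      · -- `G` would have odd order
        rw [h, Subgroup.card_top] at hNodd
        have hdvd : 2 ∣ Nat.card G := by
          rw [← hx]
          exact orderOf_dvd_natCard x
        rcases hNodd with ⟨k, hk⟩
        omega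
    obtain ⟨g, hgS, hgne⟩ := hniso
    have hy2 : orderOf (g * x * g⁻¹) = 2 := orderOf_conj_two hx g
    have hxy : IsConj x (g * x * g⁻¹) := isConj_iff.mpr ⟨g, rfl⟩
    have hgdef : ∀ w : G, w = g * x * g⁻¹ → (g⁻¹)⁻¹ * x * g⁻¹ = w := by
      intro w hw
      rw [hw, inv_inv]
    generalize g * x * g⁻¹ = y at hgS hgne hy2 hxy hgdef
    have hyx : y * x = x * y := hcs y hgS
    have tri := inv_trichotomy x hx h3 y hy2 hyx hgne
    have hxxy : IsConj x (x * y) := by
      by_cases hyZ : ∀ s ∈ (S : Subgroup G), s * y = y * s
      · have hxc : x ∈ Subgroup.centralizer ((S : Subgroup G) : Set G) := by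
          rw [Subgroup.mem_centralizer_iff]
          intro s hs
          exact hcs s hs
        have hyc : (g⁻¹)⁻¹ * x * g⁻¹ ∈ Subgroup.centralizer ((S : Subgroup G) : Set G) := by
          rw [hgdef y rfl, Subgroup.mem_centralizer_iff]
          intro s hs
          exact hyZ s hs
        obtain ⟨n, hn, hnx⟩ := Sylow.conj_eq_normalizer_conj_of_mem_centralizer S x g⁻¹ hxc hyc
        rw [hgdef y rfl] at hnx
        have hm : n⁻¹ ∈ Subgroup.normalizer ((S : Subgroup G) : Set G) := inv_mem hn
        have hmx : n⁻¹ * x * (n⁻¹)⁻¹ = y := by rw [inv_inv]; exact hnx.symm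
        generalize n⁻¹ = m at hm hmx
        have hmy_mem : m * y * m⁻¹ ∈ (S : Subgroup G) :=
          (Subgroup.mem_normalizer_iff.mp hm y).mp hgS
        rcases tri (m * y * m⁻¹) (orderOf_conj_two hy2 m) (hcs _ hmy_mem) with h | h | h
        · exfalso
          -- `m` swaps `x` and `y`; its odd part lies in `S`, which centralizes `x`
          have hk0 : orderOf m ≠ 0 := (orderOf_pos m).ne'
          obtain ⟨a, b, hb, hab⟩ := Nat.exists_eq_two_pow_mul_odd hk0
          obtain ⟨i, hi⟩ := hb
          have hpow : (m ^ b) ^ (2 ^ a) = 1 := by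
            rw [← pow_mul, mul_comm, ← hab]
            exact pow_orderOf_eq_one m
          have hP : IsPGroup 2 ↥(Subgroup.zpowers (m ^ b)) := by
            obtain ⟨c, _, hc⟩ := (Nat.dvd_prime_pow Nat.prime_two).mp
              (orderOf_dvd_of_pow_eq_one hpow)
            apply IsPGroup.of_card (n := c)
            rw [Nat.card_zpowers, hc]
          have hmbS : m ^ b ∈ (S : Subgroup G) :=
            mem_sylow_of_normalizes S (m ^ b) hP (pow_mem hm b)
          have h1 := odd_pow_conj hmx h i
          rw [← hi] at h1
          have h2 := conj_eq_of_mul_comm (hcs _ hmbS)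
          exact hgne (h1.symm.trans h2)
        · exfalso
          apply hgne
          exact (conj_injective (hmx.trans h.symm)).symm
        · exact hxy.trans (isConj_iff.mpr ⟨m, h⟩)
      · push Not at hyZ
        obtain ⟨s, hsS, hsy⟩ := hyZ
        have hmem : s * y * s⁻¹ ∈ (S : Subgroup G) :=
          mul_mem (mul_mem hsS hgS) (inv_mem hsS)
        rcases tri (s * y * s⁻¹) (orderOf_conj_two hy2 s) (hcs _ hmem) with h | h | h
        · exfalso
          have hsx : s * x * s⁻¹ = x := conj_eq_of_mul_comm (hcs s hsS)
          exact hgne (conj_injective (h.trans hsx.symm))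
        · exact absurd (mul_comm_of_conj_eq h) hsy
        · exact hxy.trans (isConj_iff.mpr ⟨s, h⟩)
    intro u huS hu2
    rcases tri u hu2 (hcs u huS) with h | h | h
    · rw [h]
    · rw [h]; exact hxy
    · rw [h]; exact hxxy
  intro u v hu hv
  obtain ⟨g, hg⟩ := exists_conj_mem_sylow S u hu
  obtain ⟨g', hg'⟩ := exists_conj_mem_sylow S v hv
  have h1 := key _ hg (orderOf_conj_two hu g)
  have h2 := key _ hg' (orderOf_conj_two hv g')
  have c1 : IsConj u (g * u * g⁻¹) := isConj_iff.mpr ⟨g, rfl⟩
  have c2 : IsConj v (g' * v * g'⁻¹) := isConj_iff.mpr ⟨g', rfl⟩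
  exact c1.trans (h1.symm.trans (h2.trans c2.symm))

end

end Cfsg.Agent.Lib.Helper8.ThreeInv
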