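import Cfsg.Agent.Lib.Helper8.Tits2TChk

/-!
# The Tits group on 1600 points: subgroups of orders 27 and 25 and an element of order 13

In the group `P` of permutations of 1600 points generated by the four involutions of the presentation of the Tits
group: a subgroup of order 27 all of whose elements other than the identity are conjugate to one element `y`, a
subgroup of order 25 all of whose elements other than the identity are conjugate to one element, and an element `x`
of order 13 with `y x y⁻¹ = x ^ 3`.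
-/

set_option autoImplicit false

namespace Cfsg.Agent.Lib.Helper8.Tits2T

open Cfsg.Agent.PL Cfsg.Agent.Lib.Helper7.TitsB Cfsg.Agent.Lib.Helper6.TitsSub
open Cfsg.Agent.PG (allB allB_iff fixer fixer_nil runM)

theorem hn : (1600 : ℕ) ≤ 4096 := by norm_num

theorem chk_code : ∀ x, codeOK 1600 (cg x) (cg x) = true
  | 0 => chk_code0
  | 1 => chk_code1
  | 2 => chk_code2
  | _ + 3 => chk_code3

theorem enc_pmB {x : ℕ} (hx : x < 4) : enc 1600 (pmB x) = cg x := by
  have hc := isCode_of_codeOK hn (chk_code x)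
  have h1 : pmB x = dec 1600 (cg x) := by
    apply Equiv.ext
    intro p
    apply Fin.ext
    rw [pmB_val, dec_apply hn hc]
    exact (Nat.eq_of_beq_eq_true (allB_iff.1 (allB_iff.1 chk_lk x hx) p.1 p.2)).symm
  rw [h1, enc_dec hc]

theorem enc_mul {g h : Equiv.Perm (Fin 1600)} {c d e : ℕ} (hg : enc 1600 g = c) (hh : enc 1600 h = d)
    (he : pmul 1600 c d = e) : enc 1600 (g * h) = e := by
  rw [← pmul_enc hn, hg, hh, he]

theorem ne_of_beq_false {a b : ℕ} (h : Nat.beq a b = false) : a ≠ b := by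
  intro e
  rw [e, Nat.beq_refl] at h
  exact absurd h (by simp)

/-- the permutation group on the 1600 points -/
noncomputable def P : Subgroup (Equiv.Perm (Fin 1600)) := φB.range

/-- the presented group is isomorphic to the permutation group -/
noncomputable def isoP : P4 ≃* ↥P := MonoidHom.ofInjective φB_injective

theorem card_P : Nat.card ↥P = 17971200 := by
  rw [← card_P4]
  exact (Nat.card_congr isoP.toEquiv).symm

theorem pmB_mem {x : ℕ} (hx : x < 4) : pmB x ∈ P := MonoidHom.mem_range.2 ⟨pgen x, φB_pgen hx⟩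

/-- the registers of the generators -/
noncomputable def regs : List ↥P :=
  [⟨pmB 0, pmB_mem (by norm_num)⟩, ⟨pmB 1, pmB_mem (by norm_num)⟩, ⟨pmB 2, pmB_mem (by norm_num)⟩,
    ⟨pmB 3, pmB_mem (by norm_num)⟩]

theorem regs_ok : RegsOK P regs cgs :=
  List.Forall₂.cons (enc_pmB (by norm_num)) (List.Forall₂.cons (enc_pmB (by norm_num))
    (List.Forall₂.cons (enc_pmB (by norm_num)) (List.Forall₂.cons (enc_pmB (by norm_num)) List.Forall₂.nil)))

theorem hcodes : ∀ c ∈ outs, ∃ g ∈ P, enc 1600 g = c :=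
  exists_of_run hn regs_ok prog idxOut _ chk_run

/-- the element of `P` with the code `c` -/
noncomputable def el (c : ℕ) (h : c ∈ outs) : ↥P := ⟨dec 1600 c, (mem_of_code hn (hcodes c h)).1⟩

theorem enc_el (c : ℕ) (h : c ∈ outs) : enc 1600 (el c h).1 = c := (mem_of_code hn (hcodes c h)).2

theorem mem_outs_of_head {c : ℕ} (h : c ∈ [cx, cy, ca3, cb3, cx5, ca5]) : c ∈ outs :=
  List.mem_append_left _ (List.mem_append_left _ h)

theorem mem_outs_of_pairs3 {p : ℕ × ℕ} (h : p ∈ pairs3) : p.2 ∈ outs :=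
  List.mem_append_left _ (List.mem_append_right _ (List.mem_map_of_mem h))

theorem mem_outs_of_pairs5 {p : ℕ × ℕ} (h : p ∈ pairs5) : p.2 ∈ outs :=
  List.mem_append_right _ (List.mem_map_of_mem h)

/-- the element `x` of order 13 -/
noncomputable def xP : ↥P := el cx (mem_outs_of_head (by simp))
/-- the element `y` of order three -/
noncomputable def yP : ↥P := el cy (mem_outs_of_head (by simp))
/-- the first generator of the subgroup of order 27 -/
noncomputable def a3P : ↥P := el ca3 (mem_outs_of_head (by simp))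
/-- the second generator of the subgroup of order 27 -/
noncomputable def b3P : ↥P := el cb3 (mem_outs_of_head (by simp))
/-- the element of order five -/
noncomputable def x5P : ↥P := el cx5 (mem_outs_of_head (by simp))
/-- the second generator of the subgroup of order 25 -/
noncomputable def a5P : ↥P := el ca5 (mem_outs_of_head (by simp))

theorem enc_x : enc 1600 xP.1 = cx := enc_el _ _
theorem enc_y : enc 1600 yP.1 = cy := enc_el _ _
theorem enc_a3 : enc 1600 a3P.1 = ca3 := enc_el _ _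
theorem enc_b3 : enc 1600 b3P.1 = cb3 := enc_el _ _
theorem enc_x5 : enc 1600 x5P.1 = cx5 := enc_el _ _
theorem enc_a5 : enc 1600 a5P.1 = ca5 := enc_el _ _

theorem enc_a3i : enc 1600 a3P.1⁻¹ = ca3i := by rw [← pinv_enc hn, enc_a3, chk_a3i]
theorem enc_b3i : enc 1600 b3P.1⁻¹ = cb3i := by rw [← pinv_enc hn, enc_b3, chk_b3i]
theorem enc_x5i : enc 1600 x5P.1⁻¹ = cx5i := by rw [← pinv_enc hn, enc_x5, chk_x5i]
theorem enc_a5i : enc 1600 a5P.1⁻¹ = ca5i := by rw [← pinv_enc hn, enc_a5, chk_a5i]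

/-! ### a general bound for a group generated by two elements -/

/-- a group generated by two permutations, all of whose products stay in a list of codes -/
theorem enc_mem_of_closed (u v : Equiv.Perm (Fin 1600)) (D : List ℕ) (cu cv cui cvi : ℕ)
    (hu : enc 1600 u = cu) (hv : enc 1600 v = cv) (hui : enc 1600 u⁻¹ = cui) (hvi : enc 1600 v⁻¹ = cvi)
    (h1 : D.contains (pone 1600) = true)
    (hD : (D.all fun d => D.contains (pmul 1600 cu d) && (D.contains (pmul 1600 cv d) &&
      (D.contains (pmul 1600 cui d) && D.contains (pmul 1600 cvi d)))) = true) :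
    ∀ g ∈ Subgroup.closure ({u, v} : Set (Equiv.Perm (Fin 1600))), enc 1600 g ∈ D := by
  have hcl : ∀ d ∈ D, pmul 1600 cu d ∈ D ∧ pmul 1600 cv d ∈ D ∧ pmul 1600 cui d ∈ D ∧ pmul 1600 cvi d ∈ D := by
    intro d hd
    have h := List.all_eq_true.1 hD d hd
    simp only [Bool.and_eq_true] at h
    exact ⟨List.contains_iff_mem.1 h.1, List.contains_iff_mem.1 h.2.1, List.contains_iff_mem.1 h.2.2.1,
      List.contains_iff_mem.1 h.2.2.2⟩
  intro g hg
  induction hg using Subgroup.closure_induction_left with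
  | one =>
    rw [← pone_eq]
    exact List.contains_iff_mem.1 h1
  | mul_left x hx y _ ih =>
    rcases hx with rfl | rfl
    · rw [enc_mul hu rfl rfl]
      exact (hcl _ ih).1
    · rw [enc_mul hv rfl rfl]
      exact (hcl _ ih).2.1
  | inv_mul_cancel x hx y _ ih =>
    rcases hx with rfl | rfl
    · rw [enc_mul hui rfl rfl]
      exact (hcl _ ih).2.2.1
    · rw [enc_mul hvi rfl rfl]
      exact (hcl _ ih).2.2.2

theorem card_le_of_enc_mem (Q : Subgroup (Equiv.Perm (Fin 1600))) (D : List ℕ)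
    (h : ∀ g ∈ Q, enc 1600 g ∈ D) : Nat.card ↥Q ≤ D.length := by
  have h1 : (Q : Set (Equiv.Perm (Fin 1600))).ncard ≤ ((D.toFinset : Finset ℕ) : Set ℕ).ncard :=
    Set.ncard_le_ncard_of_injOn (enc 1600) (fun g hg => by
      rw [Finset.mem_coe, List.mem_toFinset]
      exact h g hg) (fun g _ h _ e => enc_injective hn e) (Finset.finite_toSet _)
  rw [Set.ncard_coe_finset] at h1
  exact le_trans h1 (List.toFinset_card_le D)

/-! ### the subgroup of order 27 -/

/-- the subgroup of order 27, as a group of permutations -/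
noncomputable def Q3' : Subgroup (Equiv.Perm (Fin 1600)) := Subgroup.closure {a3P.1, b3P.1}

theorem Q3'_le : Q3' ≤ P := by
  rw [Q3', Subgroup.closure_le]
  rintro g (rfl | rfl)
  · exact a3P.2
  · exact b3P.2

theorem enc_mem_D3 : ∀ g ∈ Q3', enc 1600 g ∈ D3 :=
  enc_mem_of_closed a3P.1 b3P.1 D3 ca3 cb3 ca3i cb3i enc_a3 enc_b3 enc_a3i enc_b3i chk_D3_one chk_D3_closed

theorem card_Q3'_le : Nat.card ↥Q3' ≤ 27 := by
  have := card_le_of_enc_mem Q3' D3 enc_mem_D3
  rwa [chk_D3_len] at this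

theorem card_Q3'_ge : 27 ≤ Nat.card ↥Q3' := by
  have hc : ∀ L ∈ [LQ3], ∀ c ∈ L.2.1, ∃ g ∈ Q3', enc 1600 g = c := by
    intro L hL c hc
    rw [List.mem_singleton] at hL
    subst hL
    simp only [LQ3, List.mem_cons, List.not_mem_nil, or_false] at hc
    rcases hc with rfl | rfl
    · exact ⟨a3P.1, Subgroup.subset_closure (by simp), enc_a3⟩
    · exact ⟨b3P.1, Subgroup.subset_closure (by simp), enc_b3⟩
  have := tree_sound hn Q3' fuel [LQ3] [] chk_Q3tree hc
  rw [fixer_nil, chk_Q3count] at this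
  exact this

/-- the subgroup of order 27 -/
noncomputable def Q3 : Subgroup ↥P := Q3'.subgroupOf P

theorem card_Q3 : Nat.card ↥Q3 = 27 := by
  rw [Q3, Nat.card_congr (Subgroup.subgroupOfEquivOfLe Q3'_le).toEquiv]
  exact le_antisymm card_Q3'_le card_Q3'_ge

/-- an element of `P` whose code is in a list of pairs, where the partner conjugates `s` to it -/
theorem conj_of_pairs (s : ↥P) (cs : ℕ) (hs : enc 1600 s.1 = cs) (pairs : List (ℕ × ℕ))
    (hp : ∀ p ∈ pairs, p.2 ∈ outs)
    (hchk : (pairs.all fun p => Nat.beq p.1 (pone 1600) ||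
      Nat.beq (pmul 1600 p.2 cs) (pmul 1600 p.1 p.2)) = true)
    (g : ↥P) (hg : enc 1600 g.1 ∈ pairs.map Prod.fst) (hg1 : g ≠ 1) : ∃ c : ↥P, c * s * c⁻¹ = g := by
  obtain ⟨p, hp1, hp2⟩ := List.mem_map.1 hg
  have h := List.all_eq_true.1 hchk p hp1
  rw [Bool.or_eq_true] at h
  rcases h with h | h
  · exfalso
    apply hg1
    apply Subtype.ext
    apply enc_injective hn
    rw [← hp2, Nat.eq_of_beq_eq_true h, pone_eq]
    rfl
  · refine ⟨el p.2 (hp p hp1), ?_⟩
    have h2 : (el p.2 (hp p hp1)).1 * s.1 = g.1 * (el p.2 (hp p hp1)).1 := by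
      apply enc_injective hn
      rw [enc_mul (enc_el _ _) hs rfl, enc_mul rfl (enc_el _ _) rfl, ← hp2]
      exact Nat.eq_of_beq_eq_true h
    have h3 : el p.2 (hp p hp1) * s = g * el p.2 (hp p hp1) := Subtype.ext h2
    rw [h3, mul_inv_cancel_right]

theorem conj_Q3 : ∀ g ∈ Q3, g ≠ 1 → ∃ c : ↥P, c * yP * c⁻¹ = g := by
  intro g hg hg1
  exact conj_of_pairs yP cy enc_y pairs3 (fun _ h => mem_outs_of_pairs3 h) chk_conj3 g
    (enc_mem_D3 g.1 (Subgroup.mem_subgroupOf.1 hg)) hg1

/-! ### the subgroup of order 25 -/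

/-- the subgroup of order 25, as a group of permutations -/
noncomputable def Q5' : Subgroup (Equiv.Perm (Fin 1600)) := Subgroup.closure {x5P.1, a5P.1}

theorem Q5'_le : Q5' ≤ P := by
  rw [Q5', Subgroup.closure_le]
  rintro g (rfl | rfl)
  · exact x5P.2
  · exact a5P.2

theorem enc_mem_D5 : ∀ g ∈ Q5', enc 1600 g ∈ D5 :=
  enc_mem_of_closed x5P.1 a5P.1 D5 cx5 ca5 cx5i ca5i enc_x5 enc_a5 enc_x5i enc_a5i chk_D5_one chk_D5_closed

theorem card_Q5'_le : Nat.card ↥Q5' ≤ 25 := by
  have := card_le_of_enc_mem Q5' D5 enc_mem_D5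
  rwa [chk_D5_len] at this

theorem card_Q5'_ge : 25 ≤ Nat.card ↥Q5' := by
  have hc : ∀ L ∈ [LQ5], ∀ c ∈ L.2.1, ∃ g ∈ Q5', enc 1600 g = c := by
    intro L hL c hc
    rw [List.mem_singleton] at hL
    subst hL
    simp only [LQ5, List.mem_cons, List.not_mem_nil, or_false] at hc
    rcases hc with rfl | rfl
    · exact ⟨x5P.1, Subgroup.subset_closure (by simp), enc_x5⟩
    · exact ⟨a5P.1, Subgroup.subset_closure (by simp), enc_a5⟩
  have := tree_sound hn Q5' fuel [LQ5] [] chk_Q5tree hc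
  rw [fixer_nil, chk_Q5count] at this
  exact this

/-- the subgroup of order 25 -/
noncomputable def Q5 : Subgroup ↥P := Q5'.subgroupOf P

theorem card_Q5 : Nat.card ↥Q5 = 25 := by
  rw [Q5, Nat.card_congr (Subgroup.subgroupOfEquivOfLe Q5'_le).toEquiv]
  exact le_antisymm card_Q5'_le card_Q5'_ge

theorem conj_Q5 : ∀ g ∈ Q5, g ≠ 1 → ∃ c : ↥P, c * x5P * c⁻¹ = g := by
  intro g hg hg1
  exact conj_of_pairs x5P cx5 enc_x5 pairs5 (fun _ h => mem_outs_of_pairs5 h) chk_conj5 g
    (enc_mem_D5 g.1 (Subgroup.mem_subgroupOf.1 hg)) hg1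

/-! ### the element of order 13 -/

theorem enc_x2 : enc 1600 (xP.1 ^ 2) = cx2 := by rw [pow_succ, pow_one]; exact enc_mul enc_x enc_x chk_pow2
theorem enc_x3 : enc 1600 (xP.1 ^ 3) = cx3 := by rw [pow_succ]; exact enc_mul enc_x2 enc_x chk_pow3
theorem enc_x6 : enc 1600 (xP.1 ^ 6) = cx6 := by
  rw [show (6 : ℕ) = 3 + 3 from rfl, pow_add]; exact enc_mul enc_x3 enc_x3 chk_pow6
theorem enc_x12 : enc 1600 (xP.1 ^ 12) = cx12 := by
  rw [show (12 : ℕ) = 6 + 6 from rfl, pow_add]; exact enc_mul enc_x6 enc_x6 chk_pow12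

theorem x_pow_13 : xP.1 ^ 13 = 1 := by
  apply enc_injective hn
  rw [pow_succ, enc_mul enc_x12 enc_x chk_pow13, pone_eq]

theorem x_ne_one : xP.1 ≠ 1 :=
  (Acts.of_enc hn enc_x).ne_one (q := 1) (by norm_num) (ne_of_beq_false chk_x_ne)

theorem orderOf_x : orderOf xP = 13 := by
  have : Fact (Nat.Prime 13) := ⟨by norm_num⟩
  rw [← Subgroup.orderOf_coe]
  exact orderOf_eq_prime x_pow_13 x_ne_one

theorem yx : yP * xP * yP⁻¹ = xP ^ 3 := by
  have h : yP * xP = xP ^ 3 * yP := by
    apply Subtype.ext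
    rw [Subgroup.coe_mul, Subgroup.coe_mul, Subgroup.coe_pow]
    apply enc_injective hn
    rw [enc_mul enc_y enc_x rfl, enc_mul enc_x3 enc_y rfl]
    exact chk_yx
  rw [h, mul_inv_cancel_right]

/-- **The facts on the Tits group that exclude a faithful doubly transitive action.** -/
theorem tits_facts : ∃ (P3 P5 : Subgroup ↥P) (y0 x5 x y : ↥P), Nat.card P3 = 27 ∧
    (∀ g ∈ P3, g ≠ 1 → ∃ c : ↥P, c * y0 * c⁻¹ = g) ∧ Nat.card P5 = 25 ∧
    (∀ g ∈ P5, g ≠ 1 → ∃ c : ↥P, c * x5 * c⁻¹ = g) ∧ orderOf x = 13 ∧ (∃ c : ↥P, c * y0 * c⁻¹ = y) ∧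
    y * x * y⁻¹ = x ^ 3 :=
  ⟨Q3, Q5, yP, x5P, xP, yP, card_Q3, conj_Q3, card_Q5, conj_Q5, orderOf_x, ⟨1, by rw [one_mul, inv_one, mul_one]⟩, yx⟩

end Cfsg.Agent.Lib.Helper8.Tits2T
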