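import Cfsg.Agent.Lib.Helper8.Tits2TData
import Cfsg.Agent.Lib.Helper7.TitsBase

/-!
# The Tits group on 1600 points: the kernel checks
-/

set_option autoImplicit false
set_option maxRecDepth 100000

namespace Cfsg.Agent.Lib.Helper8.Tits2T

open Cfsg.Agent.PL Cfsg.Agent.Lib.Helper7.TitsB
open Cfsg.Agent.PG (allB)

/-- the code of the generator `x` -/
def cg : ℕ → ℕ
  | 0 => c0
  | 1 => c1
  | 2 => c2
  | _ => c3

theorem chk_code0 : codeOK 1600 c0 c0 = true := by decide +kernel
theorem chk_code1 : codeOK 1600 c1 c1 = true := by decide +kernel
theorem chk_code2 : codeOK 1600 c2 c2 = true := by decide +kernel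
theorem chk_code3 : codeOK 1600 c3 c3 = true := by decide +kernel

/-- the codes are the codes of the four involutions of the model -/
theorem chk_lk : (allB 4 fun x => allB 1600 fun p => Nat.beq (lk (cg x) p) (lkB x p)) = true := by decide +kernel

/-- the codes of the outputs of the straight line program -/
def outs : List ℕ := [cx, cy, ca3, cb3, cx5, ca5] ++ pairs3.map Prod.snd ++ pairs5.map Prod.snd

theorem chk_run : runK 1600 prog cgs (fun r => idxOut.map fun i => r.getD i (pone 1600)) = outs := by
  decide +kernel

theorem chk_pow2 : pmul 1600 cx cx = cx2 := by decide +kernel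
theorem chk_pow3 : pmul 1600 cx2 cx = cx3 := by decide +kernel
theorem chk_pow6 : pmul 1600 cx3 cx3 = cx6 := by decide +kernel
theorem chk_pow12 : pmul 1600 cx6 cx6 = cx12 := by decide +kernel
theorem chk_pow13 : pmul 1600 cx12 cx = pone 1600 := by decide +kernel
theorem chk_x_ne : Nat.beq (lk cx 1) 1 = false := by decide +kernel

theorem chk_yx : pmul 1600 cy cx = pmul 1600 cx3 cy := by decide +kernel

theorem chk_a3i : pinv 1600 ca3 = ca3i := by decide +kernel
theorem chk_b3i : pinv 1600 cb3 = cb3i := by decide +kernel
theorem chk_x5i : pinv 1600 cx5 = cx5i := by decide +kernel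
theorem chk_a5i : pinv 1600 ca5 = ca5i := by decide +kernel

/-- the codes of the elements of the subgroup of order 27 -/
def D3 : List ℕ := pairs3.map Prod.fst

/-- the codes of the elements of the subgroup of order 25 -/
def D5 : List ℕ := pairs5.map Prod.fst

theorem chk_D3_len : D3.length = 27 := by decide +kernel
theorem chk_D3_one : D3.contains (pone 1600) = true := by decide +kernel
theorem chk_D3_closed : (D3.all fun d => D3.contains (pmul 1600 ca3 d) && (D3.contains (pmul 1600 cb3 d) &&
    (D3.contains (pmul 1600 ca3i d) && D3.contains (pmul 1600 cb3i d)))) = true := by decide +kernel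

theorem chk_D5_len : D5.length = 25 := by decide +kernel
theorem chk_D5_one : D5.contains (pone 1600) = true := by decide +kernel
theorem chk_D5_closed : (D5.all fun d => D5.contains (pmul 1600 cx5 d) && (D5.contains (pmul 1600 ca5 d) &&
    (D5.contains (pmul 1600 cx5i d) && D5.contains (pmul 1600 ca5i d)))) = true := by decide +kernel

/-- every element of the list other than the identity is the conjugate of `y` by its partner -/
theorem chk_conj3 : (pairs3.all fun p => Nat.beq p.1 (pone 1600) ||
    Nat.beq (pmul 1600 p.2 cy) (pmul 1600 p.1 p.2)) = true := by decide +kernel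

/-- every element of the list other than the identity is the conjugate of the element of order five by its partner -/
theorem chk_conj5 : (pairs5.all fun p => Nat.beq p.1 (pone 1600) ||
    Nat.beq (pmul 1600 p.2 cx5) (pmul 1600 p.1 p.2)) = true := by decide +kernel

theorem chk_Q3tree : treeOK 1600 [] [LQ3] = true := by decide +kernel
theorem chk_Q3count : treeCounts 1600 fuel [LQ3] = [27] := by decide +kernel
theorem chk_Q5tree : treeOK 1600 [] [LQ5] = true := by decide +kernel
theorem chk_Q5count : treeCounts 1600 fuel [LQ5] = [25] := by decide +kernel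

end Cfsg.Agent.Lib.Helper8.Tits2T
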