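import Mathlib

/-!
# The centralizer of a transvection in `SL_{n+2}(2)`: basic matrices

Index set `Fin (n+2)`, field `ZMod 2`. `e0` is the first basis vector, `ph` the second
coordinate functional, `E01 = e0 ⊗ ph`, and `Nm b c = e0 ⊗ bet b + gam c ⊗ ph`.
-/

set_option autoImplicit false

namespace Cfsg.Agent.Lib.Helper8.TvCent

open Matrix

variable {n : ℕ}

/-- first basis vector -/
def e0 (n : ℕ) : Fin (n + 2) → ZMod 2 := Pi.single 0 1

/-- second coordinate functional -/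
def ph (n : ℕ) : Fin (n + 2) → ZMod 2 := Pi.single 1 1

/-- the elementary matrix `E₀₁` -/
def E01 (n : ℕ) : Matrix (Fin (n + 2)) (Fin (n + 2)) (ZMod 2) := vecMulVec (e0 n) (ph n)

/-- a row vector vanishing at `0` -/
def bet (b : Fin (n + 1) → ZMod 2) : Fin (n + 2) → ZMod 2 := vecCons 0 b

/-- a column vector vanishing at `0` and `1` -/
def gam (c : Fin n → ZMod 2) : Fin (n + 2) → ZMod 2 := vecCons 0 (vecCons 0 c)

/-- the pairing -/
def pr (b : Fin (n + 1) → ZMod 2) (c : Fin n → ZMod 2) : ZMod 2 := ∑ k, b (Fin.succ k) * c k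

/-- the vector `s` with `bet s = ph` -/
def sv (n : ℕ) : Fin (n + 1) → ZMod 2 := Pi.single 0 1

theorem two_cases (a : ZMod 2) : a = 0 ∨ a = 1 := by
  revert a; decide

theorem add_self_fun {ι : Type*} (v : ι → ZMod 2) : v + v = 0 := by
  ext i; exact CharTwo.add_self_eq_zero (v i)

theorem add_self_mat {ι κ : Type*} (M : Matrix ι κ (ZMod 2)) : M + M = 0 := by
  ext i j; exact CharTwo.add_self_eq_zero (M i j)

@[simp] theorem bet_zero : bet (0 : Fin (n + 1) → ZMod 2) = 0 := by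
  ext i; refine Fin.cases ?_ (fun j => ?_) i <;> simp [bet]

@[simp] theorem gam_zero : gam (0 : Fin n → ZMod 2) = 0 := by
  ext i
  refine Fin.cases ?_ (fun j => ?_) i
  · simp [gam]
  · refine Fin.cases ?_ (fun k => ?_) j <;> simp [gam]

theorem bet_add (b b' : Fin (n + 1) → ZMod 2) : bet (b + b') = bet b + bet b' := by
  ext i; refine Fin.cases ?_ (fun j => ?_) i <;> simp [bet]

theorem gam_add (c c' : Fin n → ZMod 2) : gam (c + c') = gam c + gam c' := by
  ext i
  refine Fin.cases ?_ (fun j => ?_) i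
  · simp [gam]
  · refine Fin.cases ?_ (fun k => ?_) j <;> simp [gam]

theorem bet_smul (t : ZMod 2) (b : Fin (n + 1) → ZMod 2) : bet (t • b) = t • bet b := by
  ext i; refine Fin.cases ?_ (fun j => ?_) i <;> simp [bet]

@[simp] theorem bet_app_zero (b : Fin (n + 1) → ZMod 2) : bet b 0 = 0 := by simp [bet]

@[simp] theorem bet_app_succ (b : Fin (n + 1) → ZMod 2) (j : Fin (n + 1)) :
    bet b (Fin.succ j) = b j := by simp [bet]

@[simp] theorem bet_app_one (b : Fin (n + 1) → ZMod 2) : bet b 1 = b 0 := by simp [bet]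

@[simp] theorem gam_app_zero (c : Fin n → ZMod 2) : gam c 0 = 0 := by simp [gam]

@[simp] theorem gam_app_one (c : Fin n → ZMod 2) : gam c 1 = 0 := by simp [gam]

@[simp] theorem gam_app_succ (c : Fin n → ZMod 2) (k : Fin n) :
    gam c (Fin.succ (Fin.succ k)) = c k := by simp [gam]

theorem bet_sv : bet (sv n) = ph n := by
  ext i
  refine Fin.cases ?_ (fun j => ?_) i
  · simp [ph]
  · rw [bet_app_succ]
    refine Fin.cases ?_ (fun k => ?_) j
    · simp [sv, ph]
    · simp [sv, ph, Fin.ext_iff]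

@[simp] theorem e0_app_zero : e0 n 0 = 1 := by simp [e0]

@[simp] theorem e0_app_succ (j : Fin (n + 1)) : e0 n (Fin.succ j) = 0 := by
  simp [e0, Fin.succ_ne_zero]

@[simp] theorem e0_app_one : e0 n 1 = 0 := by
  simp [e0]

@[simp] theorem ph_app_zero : ph n 0 = 0 := by
  simp [ph]

@[simp] theorem ph_app_one : ph n 1 = 1 := by simp [ph]

@[simp] theorem ph_app_succ (k : Fin n) : ph n (Fin.succ (Fin.succ k)) = 0 := by
  simp [ph, Fin.ext_iff]

theorem bet_dot_e0 (b : Fin (n + 1) → ZMod 2) : bet b ⬝ᵥ e0 n = 0 := by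
  simp [e0]

theorem ph_dot_e0 : ph n ⬝ᵥ e0 n = 0 := by
  simp [e0]

theorem ph_dot_gam (c : Fin n → ZMod 2) : ph n ⬝ᵥ gam c = 0 := by
  simp [ph]

theorem bet_dot_gam (b : Fin (n + 1) → ZMod 2) (c : Fin n → ZMod 2) :
    bet b ⬝ᵥ gam c = pr b c := by
  rw [dotProduct, Fin.sum_univ_succ, Fin.sum_univ_succ]
  simp [pr]

theorem pr_sv (c : Fin n → ZMod 2) : pr (sv n) c = 0 := by
  rw [← bet_dot_gam, bet_sv, ph_dot_gam]

theorem pr_add_left (b b' : Fin (n + 1) → ZMod 2) (c : Fin n → ZMod 2) :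
    pr (b + b') c = pr b c + pr b' c := by
  simp [pr, add_mul, Finset.sum_add_distrib]

theorem pr_add_right (b : Fin (n + 1) → ZMod 2) (c c' : Fin n → ZMod 2) :
    pr b (c + c') = pr b c + pr b c' := by
  simp [pr, mul_add, Finset.sum_add_distrib]

theorem pr_smul_left (t : ZMod 2) (b : Fin (n + 1) → ZMod 2) (c : Fin n → ZMod 2) :
    pr (t • b) c = t * pr b c := by
  simp [pr, Finset.mul_sum, mul_assoc]

@[simp] theorem pr_zero_left (c : Fin n → ZMod 2) : pr 0 c = 0 := by simp [pr]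

@[simp] theorem pr_zero_right (b : Fin (n + 1) → ZMod 2) : pr b (0 : Fin n → ZMod 2) = 0 := by
  simp [pr]

/-- the nilpotent part -/
def Nm (b : Fin (n + 1) → ZMod 2) (c : Fin n → ZMod 2) :
    Matrix (Fin (n + 2)) (Fin (n + 2)) (ZMod 2) :=
  vecMulVec (e0 n) (bet b) + vecMulVec (gam c) (ph n)

theorem Nm_add (b b' : Fin (n + 1) → ZMod 2) (c c' : Fin n → ZMod 2) :
    Nm (b + b') (c + c') = Nm b c + Nm b' c' := by
  rw [Nm, Nm, Nm, bet_add, gam_add, vecMulVec_add, add_vecMulVec]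
  abel

@[simp] theorem Nm_zero : Nm (0 : Fin (n + 1) → ZMod 2) (0 : Fin n → ZMod 2) = 0 := by
  simp [Nm]

theorem Nm_smul_sv (t : ZMod 2) : Nm (t • sv n) (0 : Fin n → ZMod 2) = t • E01 n := by
  rw [Nm, bet_smul, bet_sv, gam_zero, zero_vecMulVec, add_zero, E01, vecMulVec_smul]

theorem Nm_mul (b b' : Fin (n + 1) → ZMod 2) (c c' : Fin n → ZMod 2) :
    Nm b c * Nm b' c' = pr b c' • E01 n := by
  rw [Nm, Nm, Matrix.add_mul, Matrix.mul_add, Matrix.mul_add, vecMulVec_mul_vecMulVec,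
    vecMulVec_mul_vecMulVec, vecMulVec_mul_vecMulVec, vecMulVec_mul_vecMulVec, bet_dot_e0,
    ph_dot_e0, ph_dot_gam, bet_dot_gam]
  simp [E01, vecMulVec_smul]

theorem one_add_Nm_mul (b b' : Fin (n + 1) → ZMod 2) (c c' : Fin n → ZMod 2) :
    (1 + Nm b c) * (1 + Nm b' c') = 1 + Nm (b + b' + pr b c' • sv n) (c + c') := by
  have h : Nm (b + b' + pr b c' • sv n) (c + c') = Nm b c + Nm b' c' + pr b c' • E01 n := by
    have := Nm_add (b + b') (pr b c' • sv n) (c + c') 0
    rw [add_zero] at this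
    rw [this, Nm_add, Nm_smul_sv]
  rw [h, Matrix.add_mul, Matrix.mul_add, Matrix.mul_add, Nm_mul]
  simp only [Matrix.one_mul, Matrix.mul_one]
  abel

/-- entries of `Nm` -/
theorem Nm_zero_succ (b : Fin (n + 1) → ZMod 2) (c : Fin n → ZMod 2) (j : Fin (n + 1)) :
    Nm b c 0 (Fin.succ j) = b j := by
  simp [Nm, vecMulVec_apply]

theorem Nm_app_zero (b : Fin (n + 1) → ZMod 2) (c : Fin n → ZMod 2) (i : Fin (n + 2)) :
    Nm b c i 0 = 0 := by
  simp [Nm, vecMulVec_apply]

theorem Nm_one_app (b : Fin (n + 1) → ZMod 2) (c : Fin n → ZMod 2) (j : Fin (n + 2)) :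
    Nm b c 1 j = 0 := by
  simp [Nm, vecMulVec_apply]

theorem Nm_succ_one (b : Fin (n + 1) → ZMod 2) (c : Fin n → ZMod 2) (k : Fin n) :
    Nm b c (Fin.succ (Fin.succ k)) 1 = c k := by
  simp [Nm, vecMulVec_apply]

theorem Nm_succ_succ (b : Fin (n + 1) → ZMod 2) (c : Fin n → ZMod 2) (k l : Fin n) :
    Nm b c (Fin.succ (Fin.succ k)) (Fin.succ (Fin.succ l)) = 0 := by
  simp [Nm, vecMulVec_apply]

theorem det_eq_one_of_mul {ι : Type*} [Fintype ι] [DecidableEq ι] (M N : Matrix ι ι (ZMod 2))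
    (h : M * N = 1) : M.det = 1 := by
  have h1 : M.det * N.det = 1 := by rw [← det_mul, h, det_one]
  rcases two_cases M.det with h0 | h0
  · rw [h0, zero_mul] at h1; exact absurd h1 (by decide)
  · exact h0

/-- the elements of `Q` -/
def q (b : Fin (n + 1) → ZMod 2) (c : Fin n → ZMod 2) :
    Matrix.SpecialLinearGroup (Fin (n + 2)) (ZMod 2) :=
  ⟨1 + Nm b c, det_eq_one_of_mul _ (1 + Nm (b + pr b c • sv n) c) (by
    rw [one_add_Nm_mul]
    have h1 : b + (b + pr b c • sv n) + pr b c • sv n = 0 := by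
      have := add_self_fun b
      have h2 := add_self_fun (pr b c • sv n)
      calc b + (b + pr b c • sv n) + pr b c • sv n
          = (b + b) + (pr b c • sv n + pr b c • sv n) := by abel
        _ = 0 := by rw [this, h2, add_zero]
    rw [h1, add_self_fun c, Nm_zero, add_zero])⟩

@[simp] theorem coe_q (b : Fin (n + 1) → ZMod 2) (c : Fin n → ZMod 2) :
    ((q b c : Matrix.SpecialLinearGroup (Fin (n + 2)) (ZMod 2)) :
      Matrix (Fin (n + 2)) (Fin (n + 2)) (ZMod 2)) = 1 + Nm b c := rfl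

theorem q_mul (b b' : Fin (n + 1) → ZMod 2) (c c' : Fin n → ZMod 2) :
    q b c * q b' c' = q (b + b' + pr b c' • sv n) (c + c') := by
  apply Subtype.ext
  rw [Matrix.SpecialLinearGroup.coe_mul, coe_q, coe_q, coe_q, one_add_Nm_mul]

theorem q_zero : q (0 : Fin (n + 1) → ZMod 2) (0 : Fin n → ZMod 2) = 1 := by
  apply Subtype.ext
  rw [coe_q, Nm_zero, add_zero, Matrix.SpecialLinearGroup.coe_one]

theorem q_injective : Function.Injective
    (fun p : (Fin (n + 1) → ZMod 2) × (Fin n → ZMod 2) => q p.1 p.2) := by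
  rintro ⟨b, c⟩ ⟨b', c'⟩ h
  have h1 : (1 : Matrix (Fin (n + 2)) (Fin (n + 2)) (ZMod 2)) + Nm b c = 1 + Nm b' c' := by
    have := congrArg Subtype.val h
    simpa using this
  have h2 : Nm b c = Nm b' c' := add_left_cancel h1
  have hb : b = b' := by
    ext j
    have := congrFun (congrFun h2 0) (Fin.succ j)
    rwa [Nm_zero_succ, Nm_zero_succ] at this
  have hc : c = c' := by
    ext k
    have := congrFun (congrFun h2 (Fin.succ (Fin.succ k))) 1
    rwa [Nm_succ_one, Nm_succ_one] at this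
  rw [hb, hc]

/-- the transvection -/
def zS (n : ℕ) : Matrix.SpecialLinearGroup (Fin (n + 2)) (ZMod 2) := q (sv n) 0

theorem coe_zS : ((zS n : Matrix.SpecialLinearGroup (Fin (n + 2)) (ZMod 2)) :
    Matrix (Fin (n + 2)) (Fin (n + 2)) (ZMod 2)) = Matrix.transvection 0 1 1 := by
  rw [zS, coe_q]
  have := Nm_smul_sv (n := n) 1
  rw [one_smul, one_smul] at this
  rw [this, Matrix.transvection, E01, e0, ph, ← single_eq_single_vecMulVec_single]

theorem coe_zS' : ((zS n : Matrix.SpecialLinearGroup (Fin (n + 2)) (ZMod 2)) :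
    Matrix (Fin (n + 2)) (Fin (n + 2)) (ZMod 2)) = 1 + E01 n := by
  rw [zS, coe_q]
  have := Nm_smul_sv (n := n) 1
  rw [one_smul, one_smul] at this
  rw [this]

theorem zS_mul_q (b : Fin (n + 1) → ZMod 2) (c : Fin n → ZMod 2) :
    zS n * q b c = q (sv n + b) c := by
  rw [zS, q_mul, pr_sv, zero_smul, add_zero, zero_add]

theorem q_mul_zS (b : Fin (n + 1) → ZMod 2) (c : Fin n → ZMod 2) :
    q b c * zS n = q (sv n + b) c := by
  rw [zS, q_mul, pr_zero_right, zero_smul, add_zero, add_zero, add_comm b (sv n)]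

theorem zS_ne_one : zS n ≠ 1 := by
  intro h
  rw [zS, ← q_zero] at h
  have := q_injective (n := n) (a₁ := (sv n, 0)) (a₂ := (0, 0)) h
  have h1 := congrFun (congrArg Prod.fst this) 0
  simp [sv] at h1

theorem zS_mul_self : zS n * zS n = 1 := by
  have h := zS_mul_q (n := n) (sv n) 0
  rw [add_self_fun, q_zero] at h
  exact h

end Cfsg.Agent.Lib.Helper8.TvCent
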