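import Cfsg.Agent.Lib.Helper8.TvCentA

/-!
# The centralizer of a transvection in `SL_{n+2}(2)`: the subgroup `Q`
-/

set_option autoImplicit false

namespace Cfsg.Agent.Lib.Helper8.TvCent

open Matrix

variable {n : ℕ}

local notation "SLn" n => Matrix.SpecialLinearGroup (Fin (n + 2)) (ZMod 2)

theorem inv_mulVec_mulVec (g : SLn n) (v : Fin (n + 2) → ZMod 2) :
    ((g⁻¹ : SLn n) : Matrix (Fin (n + 2)) (Fin (n + 2)) (ZMod 2)) *ᵥ
      ((g : Matrix (Fin (n + 2)) (Fin (n + 2)) (ZMod 2)) *ᵥ v) = v := by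
  rw [Matrix.mulVec_mulVec, ← Matrix.SpecialLinearGroup.coe_mul, inv_mul_cancel,
    Matrix.SpecialLinearGroup.coe_one, Matrix.one_mulVec]

theorem vecMul_vecMul_inv (g : SLn n) (v : Fin (n + 2) → ZMod 2) :
    (v ᵥ* (g : Matrix (Fin (n + 2)) (Fin (n + 2)) (ZMod 2))) ᵥ*
      ((g⁻¹ : SLn n) : Matrix (Fin (n + 2)) (Fin (n + 2)) (ZMod 2)) = v := by
  rw [Matrix.vecMul_vecMul, ← Matrix.SpecialLinearGroup.coe_mul, mul_inv_cancel,
    Matrix.SpecialLinearGroup.coe_one, Matrix.vecMul_one]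

theorem mulVec_ne_zero (g : SLn n) {v : Fin (n + 2) → ZMod 2} (hv : v ≠ 0) :
    (g : Matrix (Fin (n + 2)) (Fin (n + 2)) (ZMod 2)) *ᵥ v ≠ 0 := by
  intro h
  apply hv
  rw [← inv_mulVec_mulVec g v, h, Matrix.mulVec_zero]

theorem vecMul_ne_zero (g : SLn n) {v : Fin (n + 2) → ZMod 2} (hv : v ≠ 0) :
    v ᵥ* (g : Matrix (Fin (n + 2)) (Fin (n + 2)) (ZMod 2)) ≠ 0 := by
  intro h
  apply hv
  rw [← vecMul_vecMul_inv g v, h, Matrix.zero_vecMul]

theorem e0_ne_zero : e0 n ≠ 0 := by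
  intro h
  have := congrFun h 0
  simp at this

theorem ph_ne_zero : ph n ≠ 0 := by
  intro h
  have := congrFun h 1
  simp at this

/-- equality of rank one matrices, first version -/
theorem vecMulVec_eq_left {ι κ : Type*} {u u' : ι → ZMod 2} {v v' : κ → ZMod 2}
    (h : vecMulVec u v = vecMulVec u' v') {j : κ} (hj : v j = 1) : u = v' j • u' := by
  ext i
  have := congrFun (congrFun h i) j
  rw [vecMulVec_apply, vecMulVec_apply, hj, mul_one] at this
  rw [this, Pi.smul_apply, smul_eq_mul, mul_comm]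

theorem vecMulVec_eq_right {ι κ : Type*} {u u' : ι → ZMod 2} {v v' : κ → ZMod 2}
    (h : vecMulVec u v = vecMulVec u' v') {i : ι} (hi : u' i = 1) : v' = u i • v := by
  ext j
  have := congrFun (congrFun h i) j
  rw [vecMulVec_apply, vecMulVec_apply, hi, one_mul] at this
  rw [← this, Pi.smul_apply, smul_eq_mul]

theorem exists_eq_one_of_ne_zero {ι : Type*} {v : ι → ZMod 2} (hv : v ≠ 0) : ∃ i, v i = 1 := by
  by_contra hcon
  apply hv
  ext i
  rcases two_cases (v i) with h | h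
  · exact h
  · exact absurd ⟨i, h⟩ hcon

/-- commuting with `1 + u ⊗ v` -/
theorem comm_one_add_iff (g : SLn n) (M : Matrix (Fin (n + 2)) (Fin (n + 2)) (ZMod 2))
    (x : SLn n) (hx : (x : Matrix (Fin (n + 2)) (Fin (n + 2)) (ZMod 2)) = 1 + M) :
    g * x = x * g ↔ (g : Matrix (Fin (n + 2)) (Fin (n + 2)) (ZMod 2)) * M =
      M * (g : Matrix (Fin (n + 2)) (Fin (n + 2)) (ZMod 2)) := by
  constructor
  · intro h
    have h1 := congrArg Subtype.val h
    change ((g * x : SLn n) : Matrix (Fin (n + 2)) (Fin (n + 2)) (ZMod 2)) =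
      ((x * g : SLn n) : Matrix (Fin (n + 2)) (Fin (n + 2)) (ZMod 2)) at h1
    rw [Matrix.SpecialLinearGroup.coe_mul, Matrix.SpecialLinearGroup.coe_mul, hx, Matrix.mul_add,
      Matrix.add_mul, Matrix.mul_one, Matrix.one_mul] at h1
    exact add_left_cancel h1
  · intro h
    apply Subtype.ext
    change ((g * x : SLn n) : Matrix (Fin (n + 2)) (Fin (n + 2)) (ZMod 2)) =
      ((x * g : SLn n) : Matrix (Fin (n + 2)) (Fin (n + 2)) (ZMod 2))
    rw [Matrix.SpecialLinearGroup.coe_mul, Matrix.SpecialLinearGroup.coe_mul, hx, Matrix.mul_add,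
      Matrix.add_mul, Matrix.mul_one, Matrix.one_mul, h]

theorem Nm_left (b : Fin (n + 1) → ZMod 2) :
    Nm b (0 : Fin n → ZMod 2) = vecMulVec (e0 n) (bet b) := by
  rw [Nm, gam_zero, zero_vecMulVec, add_zero]

theorem Nm_right (a : ZMod 2) (c : Fin n → ZMod 2) :
    Nm (a • sv n) c = vecMulVec (a • e0 n + gam c) (ph n) := by
  rw [Nm, bet_smul, bet_sv, add_vecMulVec, vecMulVec_smul, smul_vecMulVec]

/-- centralizers of elements of the first elementary abelian subgroup fix `e0` -/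
theorem cent_E1 {b : Fin (n + 1) → ZMod 2} (hb : b ≠ 0) (g : SLn n)
    (h : g * q b 0 = q b 0 * g) :
    (g : Matrix (Fin (n + 2)) (Fin (n + 2)) (ZMod 2)) *ᵥ e0 n = e0 n := by
  rw [comm_one_add_iff g (Nm b 0) (q b 0) (coe_q b 0), Nm_left, mul_vecMulVec, vecMulVec_mul] at h
  obtain ⟨j, hj⟩ := exists_eq_one_of_ne_zero hb
  have hj' : bet b (Fin.succ j) = 1 := by rw [bet_app_succ, hj]
  have h1 := vecMulVec_eq_left h hj'
  rcases two_cases ((bet b ᵥ* (g : Matrix (Fin (n + 2)) (Fin (n + 2)) (ZMod 2))) (Fin.succ j))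
    with h0 | h0
  · rw [h0, zero_smul] at h1
    exact absurd h1 (mulVec_ne_zero g e0_ne_zero)
  · rw [h0, one_smul] at h1
    exact h1

/-- centralizers of elements of the second elementary abelian subgroup fix `ph` -/
theorem cent_E2 {a : ZMod 2} {c : Fin n → ZMod 2} (hac : a ≠ 0 ∨ c ≠ 0) (g : SLn n)
    (h : g * q (a • sv n) c = q (a • sv n) c * g) :
    ph n ᵥ* (g : Matrix (Fin (n + 2)) (Fin (n + 2)) (ZMod 2)) = ph n := by
  rw [comm_one_add_iff g (Nm (a • sv n) c) (q (a • sv n) c) (coe_q _ c), Nm_right, mul_vecMulVec,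
    vecMulVec_mul] at h
  have hne : a • e0 n + gam c ≠ 0 := by
    intro h0
    rcases hac with ha | hc
    · apply ha
      have := congrFun h0 0
      simpa using this
    · apply hc
      ext k
      have := congrFun h0 (Fin.succ (Fin.succ k))
      have h2 : e0 n (Fin.succ (Fin.succ k)) = 0 := e0_app_succ _
      simpa [h2] using this
  obtain ⟨i, hi⟩ := exists_eq_one_of_ne_zero hne
  have h1 := vecMulVec_eq_right h hi
  rcases two_cases (((g : Matrix (Fin (n + 2)) (Fin (n + 2)) (ZMod 2)) *ᵥ (a • e0 n + gam c)) i)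
    with h0 | h0
  · rw [h0, zero_smul] at h1
    exact absurd h1 (vecMul_ne_zero g ph_ne_zero)
  · rw [h0, one_smul] at h1
    exact h1

/-- membership in the centralizer of the transvection -/
theorem comm_zS_iff (g : SLn n) : g * zS n = zS n * g ↔
    (g : Matrix (Fin (n + 2)) (Fin (n + 2)) (ZMod 2)) *ᵥ e0 n = e0 n ∧
      ph n ᵥ* (g : Matrix (Fin (n + 2)) (Fin (n + 2)) (ZMod 2)) = ph n := by
  constructor
  · intro h
    refine ⟨cent_E1 (b := sv n) ?_ g h, ?_⟩
    · intro h0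
      have := congrFun h0 0
      simp [sv] at this
    · have h1 : g * q ((1 : ZMod 2) • sv n) 0 = q ((1 : ZMod 2) • sv n) 0 * g := by
        rw [one_smul]; exact h
      exact cent_E2 (Or.inl one_ne_zero) g h1
  · rintro ⟨h1, h2⟩
    rw [comm_one_add_iff g (E01 n) (zS n) coe_zS', E01, mul_vecMulVec, vecMulVec_mul, h1, h2]

/-- the subgroup `Q` -/
def Q0S (n : ℕ) : Subgroup (SLn n) where
  carrier := Set.range (fun p : (Fin (n + 1) → ZMod 2) × (Fin n → ZMod 2) => q p.1 p.2)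
  mul_mem' := by
    rintro _ _ ⟨⟨b, c⟩, rfl⟩ ⟨⟨b', c'⟩, rfl⟩
    exact ⟨(b + b' + pr b c' • sv n, c + c'), (q_mul b b' c c').symm⟩
  one_mem' := ⟨(0, 0), q_zero⟩
  inv_mem' := by
    rintro _ ⟨⟨b, c⟩, rfl⟩
    refine ⟨(b + pr b c • sv n, c), ?_⟩
    symm
    apply inv_eq_of_mul_eq_one_right
    change q b c * q (b + pr b c • sv n) c = 1
    rw [q_mul]
    have h1 : b + (b + pr b c • sv n) + pr b c • sv n = 0 := by
      calc b + (b + pr b c • sv n) + pr b c • sv n
          = (b + b) + (pr b c • sv n + pr b c • sv n) := by abel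
        _ = 0 := by rw [add_self_fun, add_self_fun, add_zero]
    rw [h1, add_self_fun, q_zero]

theorem mem_Q0S {g : SLn n} : g ∈ Q0S n ↔ ∃ b c, q b c = g := by
  constructor
  · rintro ⟨⟨b, c⟩, h⟩; exact ⟨b, c, h⟩
  · rintro ⟨b, c, h⟩; exact ⟨(b, c), h⟩

theorem q_mem (b : Fin (n + 1) → ZMod 2) (c : Fin n → ZMod 2) : q b c ∈ Q0S n :=
  mem_Q0S.mpr ⟨b, c, rfl⟩

theorem zS_mem : zS n ∈ Q0S n := q_mem _ _

theorem card_Q0S : Nat.card (Q0S n) = 2 ^ (2 * n + 1) := by
  have h1 : Nat.card (Q0S n) =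
      Nat.card (Set.range (fun p : (Fin (n + 1) → ZMod 2) × (Fin n → ZMod 2) => q p.1 p.2)) := rfl
  rw [h1, Nat.card_range_of_injective q_injective, Nat.card_prod, Nat.card_fun, Nat.card_fun,
    Nat.card_zmod, Nat.card_fin, Nat.card_fin, ← pow_add]
  congr 1
  omega

theorem q_comm_or (b b' : Fin (n + 1) → ZMod 2) (c c' : Fin n → ZMod 2) :
    q b c * q b' c' = q b' c' * q b c ∨ q b c * q b' c' = zS n * (q b' c' * q b c) := by
  rw [q_mul, q_mul, zS_mul_q]
  rcases two_cases (pr b c') with h1 | h1 <;> rcases two_cases (pr b' c) with h2 | h2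
  · left; rw [h1, h2, add_comm b b', add_comm c c']
  · right
    rw [h1, h2, add_comm b b', add_comm c c', zero_smul, one_smul, add_zero]
    congr 1
    calc b' + b = b' + b + (sv n + sv n) := by rw [add_self_fun, add_zero]
      _ = sv n + (b' + b + sv n) := by abel
  · right
    rw [h1, h2, add_comm b b', add_comm c c', zero_smul, one_smul, add_zero]
    congr 1
    abel
  · left; rw [h1, h2, add_comm b b', add_comm c c']

theorem q_sq (b : Fin (n + 1) → ZMod 2) (c : Fin n → ZMod 2) :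
    q b c * q b c = 1 ∨ q b c * q b c = zS n := by
  rw [q_mul, add_self_fun, add_self_fun, zero_add]
  rcases two_cases (pr b c) with h | h
  · left; rw [h, zero_smul, q_zero]
  · right; rw [h, one_smul, zS]

theorem zS_comm_q (b : Fin (n + 1) → ZMod 2) (c : Fin n → ZMod 2) :
    q b c * zS n = zS n * q b c := by
  rw [zS_mul_q, q_mul_zS]

theorem Q0S_comm {x y : SLn n} (hx : x ∈ Q0S n) (hy : y ∈ Q0S n) :
    x * y * x⁻¹ * y⁻¹ = 1 ∨ x * y * x⁻¹ * y⁻¹ = zS n := by
  obtain ⟨b, c, rfl⟩ := mem_Q0S.mp hx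
  obtain ⟨b', c', rfl⟩ := mem_Q0S.mp hy
  rcases q_comm_or b b' c c' with h | h
  · left; rw [h]; group
  · right; rw [h]; group

theorem Q0S_sq {x : SLn n} (hx : x ∈ Q0S n) : x * x = 1 ∨ x * x = zS n := by
  obtain ⟨b, c, rfl⟩ := mem_Q0S.mp hx
  exact q_sq b c

theorem Q0S_zc {x : SLn n} (hx : x ∈ Q0S n) : x * zS n = zS n * x := by
  obtain ⟨b, c, rfl⟩ := mem_Q0S.mp hx
  exact zS_comm_q b c

end Cfsg.Agent.Lib.Helper8.TvCent
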