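import Cfsg.Agent.Lib.Helper8.TvCentB

/-!
# The centralizer of a transvection in `SL_{n+2}(2)`: `C(Q) = Z(Q)`, the elementary abelian
subgroups `E1`, `E2`
-/

set_option autoImplicit false

namespace Cfsg.Agent.Lib.Helper8.TvCent

open Matrix

variable {n : ℕ}

local notation "SLn" n => Matrix.SpecialLinearGroup (Fin (n + 2)) (ZMod 2)
local notation "Mn" n => Matrix (Fin (n + 2)) (Fin (n + 2)) (ZMod 2)

theorem bet_single (j : Fin (n + 1)) :
    bet (Pi.single j (1 : ZMod 2)) = Pi.single (Fin.succ j) 1 := by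
  ext i
  refine Fin.cases ?_ (fun i' => ?_) i
  · rw [bet_app_zero, Pi.single_apply, if_neg (Fin.succ_ne_zero j).symm]
  · rw [bet_app_succ, Pi.single_apply, Pi.single_apply]
    simp only [Fin.succ_inj]

theorem gam_single (k : Fin n) :
    gam (Pi.single k (1 : ZMod 2)) = Pi.single (Fin.succ (Fin.succ k)) 1 := by
  ext i
  refine Fin.cases ?_ (fun i' => ?_) i
  · rw [gam_app_zero, Pi.single_apply, if_neg (Fin.succ_ne_zero _).symm]
  · refine Fin.cases ?_ (fun i'' => ?_) i'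
    · have h1 : gam (Pi.single k (1 : ZMod 2)) (Fin.succ 0) = 0 := gam_app_one _
      rw [h1, Pi.single_apply, if_neg]
      intro h
      exact (Fin.succ_ne_zero k).symm (Fin.succ_injective _ h)
    · rw [gam_app_succ, Pi.single_apply, Pi.single_apply]
      simp only [Fin.succ_inj]

/-- rows `≠ 0` of an element centralizing `Q` -/
theorem cent_row (g : SLn n) (h : ∀ x ∈ Q0S n, x * g = g * x) (j : Fin (n + 1))
    (k : Fin (n + 2)) : (g : Mn n) (Fin.succ j) k = (1 : Mn n) (Fin.succ j) k := by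
  have hz := (comm_zS_iff g).mp (h _ zS_mem).symm
  have h1 := (h _ (q_mem (Pi.single j 1) 0)).symm
  rw [comm_one_add_iff g (Nm (Pi.single j 1) 0) (q (Pi.single j 1) 0) (coe_q _ 0), Nm_left,
    mul_vecMulVec, vecMulVec_mul, hz.1] at h1
  have h2 := vecMulVec_eq_right h1 (e0_app_zero (n := n))
  rw [e0_app_zero, one_smul, bet_single] at h2
  have h3 := congrFun h2 k
  rw [Matrix.single_one_vecMul] at h3
  change (g : Mn n) (Fin.succ j) k = _ at h3
  rw [h3, Matrix.one_apply, Pi.single_apply]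
  by_cases hk : k = Fin.succ j
  · rw [if_pos hk, if_pos hk.symm]
  · rw [if_neg hk, if_neg (fun h => hk h.symm)]

/-- columns `≥ 2` of an element centralizing `Q` -/
theorem cent_col (g : SLn n) (h : ∀ x ∈ Q0S n, x * g = g * x) (i : Fin (n + 2))
    (k : Fin n) : (g : Mn n) i (Fin.succ (Fin.succ k)) = (1 : Mn n) i (Fin.succ (Fin.succ k)) := by
  have hz := (comm_zS_iff g).mp (h _ zS_mem).symm
  have h1 := (h _ (q_mem ((0 : ZMod 2) • sv n) (Pi.single k 1))).symm
  rw [comm_one_add_iff g (Nm ((0 : ZMod 2) • sv n) (Pi.single k 1)) (q _ (Pi.single k 1))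
    (coe_q _ _), Nm_right, mul_vecMulVec, vecMulVec_mul, hz.2, zero_smul, zero_add] at h1
  have h2 := vecMulVec_eq_left h1 (ph_app_one (n := n))
  rw [ph_app_one, one_smul, gam_single] at h2
  have h3 := congrFun h2 i
  rw [Matrix.mulVec_single_one] at h3
  change (g : Mn n) i (Fin.succ (Fin.succ k)) = _ at h3
  rw [h3, Matrix.one_apply, Pi.single_apply]

/-- column `0` of an element centralizing the transvection -/
theorem col_zero_of_comm (g : SLn n) (h : (g : Mn n) *ᵥ e0 n = e0 n) (i : Fin (n + 2)) :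
    (g : Mn n) i 0 = e0 n i := by
  have h3 := congrFun h i
  rw [e0, Matrix.mulVec_single_one] at h3
  rw [e0]
  exact h3

/-- row `1` of an element centralizing the transvection -/
theorem row_one_of_comm (g : SLn n) (h : ph n ᵥ* (g : Mn n) = ph n) (j : Fin (n + 2)) :
    (g : Mn n) 1 j = ph n j := by
  have h3 := congrFun h j
  rw [ph, Matrix.single_one_vecMul] at h3
  rw [ph]
  exact h3

/-- `C_G(Q) ⊆ {1, z}` -/
theorem cent_Q0S (g : SLn n) (h : ∀ x ∈ Q0S n, x * g = g * x) : g = 1 ∨ g = zS n := by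
  have hz := (comm_zS_iff g).mp (h _ zS_mem).symm
  have hg : g = q ((g : Mn n) 0 1 • sv n) 0 := by
    apply Subtype.ext
    rw [coe_q]
    ext i j
    rw [Matrix.add_apply]
    refine Fin.cases ?_ (fun i' => ?_) i
    · refine Fin.cases ?_ (fun j' => ?_) j
      · rw [Nm_app_zero, add_zero, col_zero_of_comm g hz.1, e0_app_zero, Matrix.one_apply_eq]
      · rw [Nm_zero_succ]
        refine Fin.cases ?_ (fun j'' => ?_) j'
        · rw [Matrix.one_apply_ne (Fin.succ_ne_zero _).symm, zero_add, Pi.smul_apply, sv,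
            Pi.single_eq_same, smul_eq_mul, mul_one]
          rfl
        · rw [cent_col g h, Pi.smul_apply, sv, Pi.single_apply, if_neg (Fin.succ_ne_zero _),
            smul_zero, add_zero]
    · rw [cent_row g h, Nm_left, vecMulVec_apply, e0_app_succ, zero_mul, add_zero]
  rcases two_cases ((g : Mn n) 0 1) with h0 | h0
  · left; rw [hg, h0, zero_smul, q_zero]
  · right; rw [hg, h0, one_smul, zS]

theorem pr_single_single (m : ℕ) :
    pr (Pi.single (Fin.succ (0 : Fin (m + 1))) (1 : ZMod 2) : Fin (m + 1 + 1) → ZMod 2)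
      (Pi.single (0 : Fin (m + 1)) (1 : ZMod 2) : Fin (m + 1) → ZMod 2) = 1 := by
  rw [pr, Finset.sum_eq_single (0 : Fin (m + 1))]
  · rw [Pi.single_eq_same, Pi.single_eq_same, mul_one]
  · intro k _ hk
    rw [Pi.single_apply (0 : Fin (m + 1)), if_neg hk, mul_zero]
  · intro h0; exact absurd (Finset.mem_univ _) h0

theorem Q0S_nonab_succ (m : ℕ) : ∃ x ∈ Q0S (m + 1), ∃ y ∈ Q0S (m + 1), x * y ≠ y * x := by
  refine ⟨q (Pi.single (Fin.succ (0 : Fin (m + 1))) (1 : ZMod 2) : Fin (m + 1 + 1) → ZMod 2) 0,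
    q_mem _ _, q 0 (Pi.single (0 : Fin (m + 1)) (1 : ZMod 2) : Fin (m + 1) → ZMod 2),
    q_mem _ _, ?_⟩
  intro h
  rw [q_mul, q_mul, pr_single_single, pr_zero_left, zero_smul, one_smul, add_zero, zero_add,
    add_zero, add_zero, zero_add] at h
  have h1 : (Pi.single (Fin.succ (0 : Fin (m + 1))) (1 : ZMod 2) : Fin (m + 1 + 1) → ZMod 2) +
      sv (m + 1) = Pi.single (Fin.succ (0 : Fin (m + 1))) (1 : ZMod 2) :=
    congrArg Prod.fst (q_injective
      (a₁ := ((Pi.single (Fin.succ (0 : Fin (m + 1))) (1 : ZMod 2) : Fin (m + 1 + 1) → ZMod 2) +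
        sv (m + 1), (Pi.single (0 : Fin (m + 1)) (1 : ZMod 2) : Fin (m + 1) → ZMod 2)))
      (a₂ := ((Pi.single (Fin.succ (0 : Fin (m + 1))) (1 : ZMod 2) : Fin (m + 1 + 1) → ZMod 2),
        (Pi.single (0 : Fin (m + 1)) (1 : ZMod 2) : Fin (m + 1) → ZMod 2))) h)
  have h3 := congrFun h1 0
  rw [Pi.add_apply, Pi.single_apply, if_neg (Fin.succ_ne_zero _).symm, sv, Pi.single_eq_same,
    zero_add] at h3
  exact one_ne_zero h3

/-- `Q` is not abelian when `n ≥ 1` -/
theorem Q0S_nonab (hn : 1 ≤ n) : ∃ x ∈ Q0S n, ∃ y ∈ Q0S n, x * y ≠ y * x := by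
  obtain ⟨m, rfl⟩ : ∃ m, n = m + 1 := ⟨n - 1, by omega⟩
  exact Q0S_nonab_succ m

/-- the first elementary abelian subgroup: transvections with centre `e0` -/
def E1S (n : ℕ) : Subgroup (SLn n) where
  carrier := {g | ∃ b : Fin (n + 1) → ZMod 2, q b 0 = g}
  mul_mem' := by
    rintro _ _ ⟨b, rfl⟩ ⟨b', rfl⟩
    refine ⟨b + b', ?_⟩
    rw [q_mul, pr_zero_right, zero_smul, add_zero, add_zero]
  one_mem' := ⟨0, q_zero⟩
  inv_mem' := by
    rintro _ ⟨b, rfl⟩
    refine ⟨b, ?_⟩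
    symm
    apply inv_eq_of_mul_eq_one_right
    rw [q_mul, pr_zero_right, zero_smul, add_zero, add_zero, add_self_fun, q_zero]

/-- the second elementary abelian subgroup: transvections with axis `ker ph` -/
def E2S (n : ℕ) : Subgroup (SLn n) where
  carrier := {g | ∃ (a : ZMod 2) (c : Fin n → ZMod 2), q (a • sv n) c = g}
  mul_mem' := by
    rintro _ _ ⟨a, c, rfl⟩ ⟨a', c', rfl⟩
    refine ⟨a + a', c + c', ?_⟩
    rw [q_mul, pr_smul_left, pr_sv, mul_zero, zero_smul, add_zero, add_smul]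
  one_mem' := ⟨0, 0, by rw [zero_smul, q_zero]⟩
  inv_mem' := by
    rintro _ ⟨a, c, rfl⟩
    refine ⟨a, c, ?_⟩
    symm
    apply inv_eq_of_mul_eq_one_right
    rw [q_mul, pr_smul_left, pr_sv, mul_zero, zero_smul, add_zero, add_self_fun, add_self_fun,
      q_zero]

theorem E1S_le : E1S n ≤ Q0S n := by
  rintro _ ⟨b, rfl⟩; exact q_mem _ _

theorem E2S_le : E2S n ≤ Q0S n := by
  rintro _ ⟨a, c, rfl⟩; exact q_mem _ _

theorem E1S_comm {x y : SLn n} (hx : x ∈ E1S n) (hy : y ∈ E1S n) : x * y = y * x := by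
  obtain ⟨b, rfl⟩ := hx
  obtain ⟨b', rfl⟩ := hy
  rw [q_mul, q_mul, pr_zero_right, pr_zero_right, add_comm b b']

theorem E1S_sq {x : SLn n} (hx : x ∈ E1S n) : x * x = 1 := by
  obtain ⟨b, rfl⟩ := hx
  rw [q_mul, pr_zero_right, zero_smul, add_zero, add_zero, add_self_fun, q_zero]

theorem E2S_comm {x y : SLn n} (hx : x ∈ E2S n) (hy : y ∈ E2S n) : x * y = y * x := by
  obtain ⟨a, c, rfl⟩ := hx
  obtain ⟨a', c', rfl⟩ := hy
  rw [q_mul, q_mul, pr_smul_left, pr_smul_left, pr_sv, pr_sv, mul_zero, mul_zero,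
    add_comm (a • sv n), add_comm c]

theorem E2S_sq {x : SLn n} (hx : x ∈ E2S n) : x * x = 1 := by
  obtain ⟨a, c, rfl⟩ := hx
  rw [q_mul, pr_smul_left, pr_sv, mul_zero, zero_smul, add_zero, add_self_fun, add_self_fun,
    q_zero]

theorem card_E1S : Nat.card (E1S n) = 2 ^ (n + 1) := by
  have hinj : Function.Injective (fun b : Fin (n + 1) → ZMod 2 => q b (0 : Fin n → ZMod 2)) := by
    intro b b' h
    exact congrArg Prod.fst (q_injective (a₁ := (b, 0)) (a₂ := (b', 0)) h)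
  have h1 : Nat.card (E1S n) =
      Nat.card (Set.range (fun b : Fin (n + 1) → ZMod 2 => q b (0 : Fin n → ZMod 2))) := rfl
  rw [h1, Nat.card_range_of_injective hinj, Nat.card_fun, Nat.card_zmod, Nat.card_fin]

theorem card_E2S : Nat.card (E2S n) = 2 ^ (n + 1) := by
  have hinj : Function.Injective
      (fun p : ZMod 2 × (Fin n → ZMod 2) => q (p.1 • sv n) p.2) := by
    rintro ⟨a, c⟩ ⟨a', c'⟩ h
    have h1 := q_injective (a₁ := (a • sv n, c)) (a₂ := (a' • sv n, c')) h
    have h2 := congrFun (congrArg Prod.fst h1) 0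
    have h3 := congrArg Prod.snd h1
    simp only [Pi.smul_apply, sv, Pi.single_eq_same, smul_eq_mul, mul_one] at h2
    simp only at h3
    rw [h2, h3]
  have h1 : (E2S n : Set (SLn n)) =
      Set.range (fun p : ZMod 2 × (Fin n → ZMod 2) => q (p.1 • sv n) p.2) := by
    ext g
    constructor
    · rintro ⟨a, c, h⟩; exact ⟨(a, c), h⟩
    · rintro ⟨⟨a, c⟩, h⟩; exact ⟨a, c, h⟩
  have h2 : Nat.card (E2S n) = Nat.card ((E2S n : Set (SLn n))) := rfl
  rw [h2, h1, Nat.card_range_of_injective hinj, Nat.card_prod, Nat.card_fun, Nat.card_zmod,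
    Nat.card_fin, pow_succ, mul_comm]

/-- centralizers of nontrivial elements of `E1` fix `e0` -/
theorem cent_E1S {x : SLn n} (hx : x ∈ E1S n) (hx1 : x ≠ 1) (g : SLn n) (h : g * x = x * g) :
    (g : Mn n) *ᵥ e0 n = e0 n := by
  obtain ⟨b, rfl⟩ := hx
  refine cent_E1 ?_ g h
  rintro rfl
  exact hx1 q_zero

/-- centralizers of nontrivial elements of `E2` fix `ph` -/
theorem cent_E2S {x : SLn n} (hx : x ∈ E2S n) (hx1 : x ≠ 1) (g : SLn n) (h : g * x = x * g) :
    ph n ᵥ* (g : Mn n) = ph n := by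
  obtain ⟨a, c, rfl⟩ := hx
  refine cent_E2 ?_ g h
  by_contra hcon
  push Not at hcon
  apply hx1
  rw [hcon.1, hcon.2, zero_smul, q_zero]

end Cfsg.Agent.Lib.Helper8.TvCent
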