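import Cfsg.Agent.Lib.Helper8.TvCentC

/-!
# The centralizer of a transvection in `SL_{n+2}(2)`: the Levi complement
-/

set_option autoImplicit false

namespace Cfsg.Agent.Lib.Helper8.TvCent

open Matrix

variable {n : ℕ}

local notation "SLn" n => Matrix.SpecialLinearGroup (Fin (n + 2)) (ZMod 2)
local notation "Mn" n => Matrix (Fin (n + 2)) (Fin (n + 2)) (ZMod 2)

/-- the centralizer of the transvection -/
def CS (n : ℕ) : Subgroup (SLn n) := Subgroup.centralizer {zS n}

theorem mem_CS {g : SLn n} : g ∈ CS n ↔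
    (g : Mn n) *ᵥ e0 n = e0 n ∧ ph n ᵥ* (g : Mn n) = ph n := by
  rw [CS, Subgroup.mem_centralizer_iff, ← comm_zS_iff]
  constructor
  · intro h; exact (h _ rfl).symm
  · intro h x hx; rw [Set.mem_singleton_iff.mp hx]; exact h.symm

theorem Q0S_le_CS : Q0S n ≤ CS n := by
  intro x hx
  rw [CS, Subgroup.mem_centralizer_iff]
  intro y hy
  rw [Set.mem_singleton_iff.mp hy]
  exact (Q0S_zc hx).symm

/-- the lower right block -/
def sub (M : Mn n) : Matrix (Fin n) (Fin n) (ZMod 2) :=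
  fun i j => M (Fin.succ (Fin.succ i)) (Fin.succ (Fin.succ j))

theorem sub_one : sub (1 : Mn n) = 1 := by
  ext i j
  rw [sub, Matrix.one_apply, Matrix.one_apply]
  simp only [Fin.succ_inj]

theorem sub_mul (g h : SLn n) (hg : (g : Mn n) *ᵥ e0 n = e0 n)
    (hh : ph n ᵥ* (h : Mn n) = ph n) :
    sub ((g : Mn n) * (h : Mn n)) = sub (g : Mn n) * sub (h : Mn n) := by
  ext i j
  rw [sub, Matrix.mul_apply, Matrix.mul_apply, Fin.sum_univ_succ, Fin.sum_univ_succ,
    col_zero_of_comm g hg, e0_app_succ, zero_mul, zero_add]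
  have h1 : (h : Mn n) (Fin.succ 0) (Fin.succ (Fin.succ j)) = 0 := by
    have := row_one_of_comm h hh (Fin.succ (Fin.succ j))
    rw [ph_app_succ] at this
    exact this
  rw [h1, mul_zero, zero_add]
  rfl

/-- the block projection as a monoid homomorphism to matrices -/
def pi0 (n : ℕ) : ↥(CS n) →* Matrix (Fin n) (Fin n) (ZMod 2) where
  toFun g := sub ((g : SLn n) : Mn n)
  map_one' := by
    change sub (((1 : SLn n)) : Mn n) = 1
    rw [Matrix.SpecialLinearGroup.coe_one, sub_one]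
  map_mul' := by
    intro g h
    change sub (((g : SLn n) * (h : SLn n) : SLn n) : Mn n) = _
    rw [Matrix.SpecialLinearGroup.coe_mul]
    exact sub_mul _ _ (mem_CS.mp g.2).1 (mem_CS.mp h.2).2

/-- the block projection -/
def piS (n : ℕ) : ↥(CS n) →* GL (Fin n) (ZMod 2) := (pi0 n).toHomUnits

theorem coe_piS (g : ↥(CS n)) :
    ((piS n g : GL (Fin n) (ZMod 2)) : Matrix (Fin n) (Fin n) (ZMod 2)) =
      sub ((g : SLn n) : Mn n) := rfl

theorem sub_q (b : Fin (n + 1) → ZMod 2) (c : Fin n → ZMod 2) :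
    sub ((q b c : SLn n) : Mn n) = 1 := by
  ext i j
  rw [sub, coe_q, Matrix.add_apply, Nm_succ_succ, add_zero, Matrix.one_apply, Matrix.one_apply]
  simp only [Fin.succ_inj]

theorem mem_Q0S_of_sub {g : SLn n} (hg : g ∈ CS n) (h : sub (g : Mn n) = 1) : g ∈ Q0S n := by
  obtain ⟨h1, h2⟩ := mem_CS.mp hg
  refine mem_Q0S.mpr ⟨fun j => (g : Mn n) 0 (Fin.succ j),
    fun k => (g : Mn n) (Fin.succ (Fin.succ k)) 1, ?_⟩
  apply Subtype.ext
  rw [coe_q]
  ext i j
  rw [Matrix.add_apply]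
  refine Fin.cases ?_ (fun i' => ?_) i
  · refine Fin.cases ?_ (fun j' => ?_) j
    · rw [Nm_app_zero, add_zero, col_zero_of_comm g h1, e0_app_zero, Matrix.one_apply_eq]
    · rw [Nm_zero_succ, Matrix.one_apply_ne (Fin.succ_ne_zero _).symm, zero_add]
  · refine Fin.cases ?_ (fun i'' => ?_) i'
    · have e1 : (Fin.succ (0 : Fin (n + 1)) : Fin (n + 2)) = 1 := rfl
      rw [e1, Nm_one_app, add_zero, row_one_of_comm g h2, ph, Matrix.one_apply, Pi.single_apply]
      by_cases hj : j = 1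
      · rw [if_pos hj, if_pos hj.symm]
      · rw [if_neg hj, if_neg (fun h => hj h.symm)]
    · refine Fin.cases ?_ (fun j' => ?_) j
      · rw [Nm_app_zero, add_zero, col_zero_of_comm g h1, e0_app_succ,
          Matrix.one_apply_ne (Fin.succ_ne_zero _)]
      · refine Fin.cases ?_ (fun j'' => ?_) j'
        · have e1 : (Fin.succ (0 : Fin (n + 1)) : Fin (n + 2)) = 1 := rfl
          rw [e1, Nm_succ_one, Matrix.one_apply_ne, zero_add]
          intro h0
          exact (Fin.succ_ne_zero i'') (Fin.succ_injective _ h0)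
        · rw [Nm_succ_succ, add_zero]
          have := congrFun (congrFun h i'') j''
          rw [sub] at this
          rw [this, Matrix.one_apply, Matrix.one_apply]
          simp only [Fin.succ_inj]

theorem piS_eq_one_iff (g : ↥(CS n)) : piS n g = 1 ↔ (g : SLn n) ∈ Q0S n := by
  constructor
  · intro h
    apply mem_Q0S_of_sub g.2
    have := congrArg (fun u : GL (Fin n) (ZMod 2) => (u : Matrix (Fin n) (Fin n) (ZMod 2))) h
    simpa [coe_piS] using this
  · intro h
    obtain ⟨b, c, hbc⟩ := mem_Q0S.mp h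
    apply Units.ext
    rw [coe_piS, ← hbc, sub_q]
    rfl

/-- `Q` is normalized by the centralizer -/
theorem Q0S_norm {c a : SLn n} (hc : c ∈ CS n) (ha : a ∈ Q0S n) : c * a * c⁻¹ ∈ Q0S n := by
  have h1 : piS n ⟨a, Q0S_le_CS ha⟩ = 1 := (piS_eq_one_iff _).mpr ha
  have h2 : piS n (⟨c, hc⟩ * ⟨a, Q0S_le_CS ha⟩ * ⟨c, hc⟩⁻¹) = 1 := by
    rw [map_mul, map_mul, h1, mul_one, map_inv, mul_inv_cancel]
  exact (piS_eq_one_iff _).mp h2

/-- the block diagonal matrix -/
def blk (A : Matrix (Fin n) (Fin n) (ZMod 2)) : Mn n :=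
  fun i j => Fin.cases (motive := fun _ => ZMod 2) (e0 n j)
    (fun i' => Fin.cases (motive := fun _ => ZMod 2) (ph n j)
      (fun i'' => Fin.cases (motive := fun _ => ZMod 2) 0
        (fun j' => Fin.cases (motive := fun _ => ZMod 2) 0 (fun j'' => A i'' j'') j') j) i') i

theorem blk_zero (A : Matrix (Fin n) (Fin n) (ZMod 2)) (j : Fin (n + 2)) :
    blk A 0 j = e0 n j := rfl

theorem blk_one_row (A : Matrix (Fin n) (Fin n) (ZMod 2)) (j : Fin (n + 2)) :
    blk A 1 j = ph n j := rfl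

theorem blk_succ_zero (A : Matrix (Fin n) (Fin n) (ZMod 2)) (i : Fin n) :
    blk A (Fin.succ (Fin.succ i)) 0 = 0 := rfl

theorem blk_succ_one (A : Matrix (Fin n) (Fin n) (ZMod 2)) (i : Fin n) :
    blk A (Fin.succ (Fin.succ i)) 1 = 0 := rfl

theorem blk_succ_succ (A : Matrix (Fin n) (Fin n) (ZMod 2)) (i j : Fin n) :
    blk A (Fin.succ (Fin.succ i)) (Fin.succ (Fin.succ j)) = A i j := rfl

theorem blk_mul (A B : Matrix (Fin n) (Fin n) (ZMod 2)) : blk A * blk B = blk (A * B) := by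
  ext i j
  rw [Matrix.mul_apply, Fin.sum_univ_succ, Fin.sum_univ_succ]
  have e1 : (Fin.succ (0 : Fin (n + 1)) : Fin (n + 2)) = 1 := rfl
  refine Fin.cases ?_ (fun i' => ?_) i
  · simp only [blk_zero, e1, e0_app_zero, e0_app_succ, e0_app_one, zero_mul, one_mul,
      add_zero, Finset.sum_const_zero]
  · refine Fin.cases ?_ (fun i'' => ?_) i'
    · simp only [blk_one_row, e1, ph_app_zero, ph_app_one, ph_app_succ, zero_mul, one_mul,
        zero_add, add_zero, Finset.sum_const_zero]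
    · refine Fin.cases ?_ (fun j' => ?_) j
      · simp only [blk_succ_zero, e1, blk_succ_one, zero_mul, mul_zero, zero_add,
          Finset.sum_const_zero]
      · refine Fin.cases ?_ (fun j'' => ?_) j'
        · simp only [blk_succ_zero, e1, blk_succ_one, zero_mul, mul_zero, zero_add,
            Finset.sum_const_zero]
        · simp only [blk_succ_zero, e1, blk_succ_one, blk_succ_succ, zero_mul, zero_add,
            Matrix.mul_apply]

theorem blk_one : blk (1 : Matrix (Fin n) (Fin n) (ZMod 2)) = 1 := by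
  ext i j
  have e1 : (Fin.succ (0 : Fin (n + 1)) : Fin (n + 2)) = 1 := rfl
  refine Fin.cases ?_ (fun i' => ?_) i
  · rw [blk_zero, e0, Matrix.one_apply, Pi.single_apply]
    by_cases hj : j = 0
    · rw [if_pos hj, if_pos hj.symm]
    · rw [if_neg hj, if_neg (fun h => hj h.symm)]
  · refine Fin.cases ?_ (fun i'' => ?_) i'
    · rw [e1, blk_one_row, ph, Matrix.one_apply, Pi.single_apply]
      by_cases hj : j = 1
      · rw [if_pos hj, if_pos hj.symm]
      · rw [if_neg hj, if_neg (fun h => hj h.symm)]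
    · refine Fin.cases ?_ (fun j' => ?_) j
      · rw [blk_succ_zero, Matrix.one_apply_ne (Fin.succ_ne_zero _)]
      · refine Fin.cases ?_ (fun j'' => ?_) j'
        · rw [e1, blk_succ_one, Matrix.one_apply_ne]
          intro h0
          exact (Fin.succ_ne_zero i'') (Fin.succ_injective _ h0)
        · rw [blk_succ_succ, Matrix.one_apply, Matrix.one_apply]
          simp only [Fin.succ_inj]

theorem sub_blk (A : Matrix (Fin n) (Fin n) (ZMod 2)) : sub (blk A) = A := rfl

theorem blk_mulVec_e0 (A : Matrix (Fin n) (Fin n) (ZMod 2)) : blk A *ᵥ e0 n = e0 n := by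
  ext i
  have e1 : (Fin.succ (0 : Fin (n + 1)) : Fin (n + 2)) = 1 := rfl
  have h : (blk A *ᵥ e0 n) i = blk A i 0 := by
    rw [e0, Matrix.mulVec_single_one]; rfl
  rw [h]
  refine Fin.cases ?_ (fun i' => ?_) i
  · rw [blk_zero]
  · refine Fin.cases ?_ (fun i'' => ?_) i'
    · rw [e1, blk_one_row, ph_app_zero, e0_app_one]
    · rw [blk_succ_zero, e0_app_succ]

theorem ph_vecMul_blk (A : Matrix (Fin n) (Fin n) (ZMod 2)) : ph n ᵥ* blk A = ph n := by
  ext j
  have h : (ph n ᵥ* blk A) j = blk A 1 j := by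
    rw [ph, Matrix.single_one_vecMul]; rfl
  rw [h, blk_one_row]

/-- the Levi complement as a homomorphism -/
def sigS (n : ℕ) : GL (Fin n) (ZMod 2) →* SLn n where
  toFun A := ⟨blk (A : Matrix (Fin n) (Fin n) (ZMod 2)),
    det_eq_one_of_mul _ (blk ((A⁻¹ : GL (Fin n) (ZMod 2)) : Matrix (Fin n) (Fin n) (ZMod 2))) (by
      rw [blk_mul, ← Units.val_mul, mul_inv_cancel, Units.val_one, blk_one])⟩
  map_one' := by
    apply Subtype.ext
    change blk ((1 : GL (Fin n) (ZMod 2)) : Matrix (Fin n) (Fin n) (ZMod 2)) = _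
    rw [Units.val_one, blk_one, Matrix.SpecialLinearGroup.coe_one]
  map_mul' := by
    intro A B
    have h : blk ((A * B : GL (Fin n) (ZMod 2)) : Matrix (Fin n) (Fin n) (ZMod 2)) =
        blk (A : Matrix (Fin n) (Fin n) (ZMod 2)) * blk (B : Matrix (Fin n) (Fin n) (ZMod 2)) := by
      rw [Units.val_mul, blk_mul]
    exact Subtype.ext h

theorem coe_sigS (A : GL (Fin n) (ZMod 2)) :
    ((sigS n A : SLn n) : Mn n) = blk (A : Matrix (Fin n) (Fin n) (ZMod 2)) := rfl

theorem sigS_mem_CS (A : GL (Fin n) (ZMod 2)) : sigS n A ∈ CS n := by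
  rw [mem_CS, coe_sigS]
  exact ⟨blk_mulVec_e0 _, ph_vecMul_blk _⟩

theorem piS_sigS (A : GL (Fin n) (ZMod 2)) : piS n ⟨sigS n A, sigS_mem_CS A⟩ = A := by
  apply Units.ext
  rw [coe_piS]
  rfl

theorem sigS_injective : Function.Injective (sigS n) := by
  intro A B h
  have h1 : piS n ⟨sigS n A, sigS_mem_CS A⟩ = piS n ⟨sigS n B, sigS_mem_CS B⟩ := by
    congr 1
    exact Subtype.ext h
  rwa [piS_sigS, piS_sigS] at h1

/-- the Levi complement -/
def K0S (n : ℕ) : Subgroup (SLn n) := (sigS n).range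

theorem K0S_le_CS : K0S n ≤ CS n := by
  rintro _ ⟨A, rfl⟩
  exact sigS_mem_CS A

theorem Q0S_inf_K0S : Q0S n ⊓ K0S n = ⊥ := by
  rw [eq_bot_iff]
  rintro x ⟨hx1, ⟨A, rfl⟩⟩
  have h1 := (piS_eq_one_iff ⟨sigS n A, sigS_mem_CS A⟩).mpr hx1
  rw [piS_sigS] at h1
  rw [h1, map_one]
  exact Subgroup.mem_bot.mpr rfl

theorem CS_eq_mul {c : SLn n} (hc : c ∈ CS n) : ∃ a ∈ Q0S n, ∃ k ∈ K0S n, c = a * k := by
  refine ⟨c * (sigS n (piS n ⟨c, hc⟩))⁻¹, ?_, sigS n (piS n ⟨c, hc⟩), ⟨_, rfl⟩, by group⟩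
  have h1 : piS n (⟨c, hc⟩ * ⟨sigS n (piS n ⟨c, hc⟩), sigS_mem_CS _⟩⁻¹) = 1 := by
    rw [map_mul, map_inv, piS_sigS, mul_inv_cancel]
  exact (piS_eq_one_iff _).mp h1

/-- the Levi complement is `GL_n(2)` -/
noncomputable def K0S_equiv (n : ℕ) : ↥(K0S n) ≃* GL (Fin n) (ZMod 2) :=
  (MonoidHom.ofInjective sigS_injective).symm

end Cfsg.Agent.Lib.Helper8.TvCent
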