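import Cfsg.Agent.Lib.Lead.Extraspecial2Model
import Cfsg.Agent.H9.Cores
import Cfsg.Agent.Lib.Helper7.CoprimeGen5
import Cfsg.Prelude.Def_MonsterType

/-!
# Large extraspecial subgroups from an elementwise package
-/

set_option autoImplicit false

namespace Cfsg.Agent.Lib.Helper8.TvCent

open Cfsg

universe u

/-- elementwise package: `Q0` extraspecial with centre `{1,z}`, normal in `C(z)`, complemented
by `K0 ≅ GL_n(2)`, self-centralizing, normalizing no odd order subgroup. -/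
structure Pack {G : Type u} [Group G] (z : G) (n : ℕ) (Q0 K0 E0 : Subgroup G) : Prop where
  zQ : z ∈ Q0
  z1 : z ≠ 1
  zz : z * z = 1
  QC : ∀ a ∈ Q0, a * z = z * a
  comm : ∀ a ∈ Q0, ∀ b ∈ Q0, a * b * a⁻¹ * b⁻¹ = 1 ∨ a * b * a⁻¹ * b⁻¹ = z
  sq : ∀ a ∈ Q0, a * a = 1 ∨ a * a = z
  cent : ∀ c : G, (∀ a ∈ Q0, a * c = c * a) → c = 1 ∨ c = z
  norm : ∀ c : G, c * z = z * c → ∀ a ∈ Q0, c * a * c⁻¹ ∈ Q0
  nonab : ∃ x ∈ Q0, ∃ y ∈ Q0, x * y ≠ y * x
  card : Nat.card Q0 = 2 ^ (2 * n + 1)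
  EQ : E0 ≤ Q0
  Ecomm : ∀ x ∈ E0, ∀ y ∈ E0, x * y = y * x
  Esq : ∀ x ∈ E0, x * x = 1
  Ecard : Nat.card E0 = 2 ^ (n + 1)
  KC : ∀ k ∈ K0, k * z = z * k
  QK : Q0 ⊓ K0 = ⊥
  prod : ∀ c : G, c * z = z * c → ∃ a ∈ Q0, ∃ k ∈ K0, c = a * k
  iso : Nonempty (K0 ≃* GL (Fin n) (ZMod 2))
  odd : ∀ K : Subgroup G, Odd (Nat.card K) → (∀ a ∈ Q0, ∀ k ∈ K, a * k * a⁻¹ ∈ K) → K = ⊥

section comap

variable {G S : Type*} [Group G] [Group S]

theorem Pack.comap {zS : S} {n : ℕ} {Q0 K0 E0 : Subgroup S} (P : Pack zS n Q0 K0 E0)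
    (Ψ : G →* S) (hΨ : Function.Injective Ψ) {z : G} (hz : Ψ z = zS)
    (hrange : ∀ c : S, c * zS = zS * c → c ∈ Ψ.range) :
    Pack z n (Q0.comap Ψ) (K0.comap Ψ) (E0.comap Ψ) := by
  have hQr : Q0 ≤ Ψ.range := fun a ha => hrange a (P.QC a ha)
  have hKr : K0 ≤ Ψ.range := fun a ha => hrange a (P.KC a ha)
  have hEr : E0 ≤ Ψ.range := P.EQ.trans hQr
  have hcardc : ∀ H : Subgroup S, H ≤ Ψ.range → Nat.card (H.comap Ψ) = Nat.card H := by
    intro H hH
    rw [← Subgroup.card_map_of_injective (K := H.comap Ψ) hΨ, Subgroup.map_comap_eq_self hH]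
  refine ⟨?_, ?_, ?_, ?_, ?_, ?_, ?_, ?_, ?_, ?_, ?_, ?_, ?_, ?_, ?_, ?_, ?_, ?_, ?_⟩
  · rw [Subgroup.mem_comap, hz]; exact P.zQ
  · intro h; apply P.z1; rw [← hz, h, map_one]
  · apply hΨ; rw [map_mul, hz, map_one]; exact P.zz
  · intro a ha
    apply hΨ
    rw [map_mul, map_mul, hz]
    exact P.QC _ ha
  · intro a ha b hb
    rcases P.comm _ ha _ hb with h | h
    · left; apply hΨ; rw [map_mul, map_mul, map_mul, map_inv, map_inv, map_one]; exact h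
    · right; apply hΨ; rw [map_mul, map_mul, map_mul, map_inv, map_inv, hz]; exact h
  · intro a ha
    rcases P.sq _ ha with h | h
    · left; apply hΨ; rw [map_mul, map_one]; exact h
    · right; apply hΨ; rw [map_mul, hz]; exact h
  · intro c hc
    have h1 : ∀ a ∈ Q0, a * Ψ c = Ψ c * a := by
      intro a ha
      obtain ⟨a', rfl⟩ := hQr ha
      rw [← map_mul, ← map_mul, hc a' ha]
    rcases P.cent _ h1 with h | h
    · left; apply hΨ; rw [map_one]; exact h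
    · right; apply hΨ; rw [hz]; exact h
  · intro c hc a ha
    rw [Subgroup.mem_comap, map_mul, map_mul, map_inv]
    refine P.norm _ ?_ _ ha
    rw [← hz, ← map_mul, ← map_mul, hc]
  · obtain ⟨x, hx, y, hy, hxy⟩ := P.nonab
    obtain ⟨x', rfl⟩ := hQr hx
    obtain ⟨y', rfl⟩ := hQr hy
    refine ⟨x', hx, y', hy, ?_⟩
    intro h
    apply hxy
    rw [← map_mul, ← map_mul, h]
  · rw [hcardc _ hQr]; exact P.card
  · exact Subgroup.comap_mono P.EQ
  · intro x hx y hy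
    apply hΨ
    rw [map_mul, map_mul]
    exact P.Ecomm _ hx _ hy
  · intro x hx
    apply hΨ
    rw [map_mul, map_one]
    exact P.Esq _ hx
  · rw [hcardc _ hEr]; exact P.Ecard
  · intro k hk
    apply hΨ
    rw [map_mul, map_mul, hz]
    exact P.KC _ hk
  · rw [eq_bot_iff]
    rintro x ⟨hx1, hx2⟩
    have h1 : Ψ x ∈ Q0 ⊓ K0 := ⟨hx1, hx2⟩
    rw [P.QK, Subgroup.mem_bot] at h1
    rw [Subgroup.mem_bot]
    apply hΨ
    rw [h1, map_one]
  · intro c hc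
    have h1 : Ψ c * zS = zS * Ψ c := by rw [← hz, ← map_mul, ← map_mul, hc]
    obtain ⟨a, ha, k, hk, hck⟩ := P.prod _ h1
    obtain ⟨a', rfl⟩ := hQr ha
    refine ⟨a', ha, a'⁻¹ * c, ?_, by group⟩
    rw [Subgroup.mem_comap, map_mul, map_inv, hck, inv_mul_cancel_left]
    exact hk
  · obtain ⟨e⟩ := P.iso
    have e1 : ↥(K0.comap Ψ) ≃* ↥((K0.comap Ψ).map Ψ) := Subgroup.equivMapOfInjective _ Ψ hΨ
    have e2 : ↥((K0.comap Ψ).map Ψ) ≃* ↥K0 :=
      MulEquiv.subgroupCongr (Subgroup.map_comap_eq_self hKr)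
    exact ⟨(e1.trans e2).trans e⟩
  · intro K hK hQK
    have h1 : Odd (Nat.card (K.map Ψ)) := by
      rw [Subgroup.card_map_of_injective hΨ]; exact hK
    have h2 : ∀ a ∈ Q0, ∀ k ∈ K.map Ψ, a * k * a⁻¹ ∈ K.map Ψ := by
      intro a ha k hk
      obtain ⟨a', rfl⟩ := hQr ha
      obtain ⟨k', hk', rfl⟩ := hk
      refine ⟨a' * k' * a'⁻¹, hQK _ ha _ hk', ?_⟩
      rw [map_mul, map_mul, map_inv]
    have h3 := P.odd _ h1 h2
    exact (Subgroup.map_eq_bot_iff_of_injective K hΨ).mp h3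

end comap

section main

variable {G : Type u} [Group G] [Finite G]

/-- an odd order subgroup normalized by a noncyclic elementary abelian 2-group lies in any
subgroup containing the centralizers of the involutions -/
theorem odd_le_of_EA (E : Subgroup G) (hcomm : ∀ x ∈ E, ∀ y ∈ E, x * y = y * x)
    (hsq : ∀ x ∈ E, x * x = 1) (m : ℕ) (hm : 2 ≤ m) (hcard : Nat.card E = 2 ^ m)
    (P : Subgroup G) (hP : ∀ e ∈ E, e ≠ 1 → ∀ g : G, g * e = e * g → g ∈ P)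
    (K : Subgroup G) (hK : Odd (Nat.card K)) (hEK : E ≤ Subgroup.normalizer (K : Set G)) :
    K ≤ P := by
  have hAab : IsMulCommutative E :=
    ⟨⟨fun x y => Subtype.ext (hcomm x x.2 y y.2)⟩⟩
  have hcop : (Nat.card E).Coprime (Nat.card K) := by
    rw [hcard]
    exact Nat.Coprime.pow_left _ (Nat.coprime_two_left.mpr hK)
  have hgen := (Cfsg.Agent.Lib.Helper7.abelian_coprime_generation E K hAab hEK hcop).1
  rw [← hgen]
  apply iSup₂_le
  rintro B ⟨hBE, a, haE, hBa⟩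
  have hB : B ≠ ⊥ := by
    intro hB
    rw [hB, bot_sup_eq] at hBa
    have h1 : Nat.card E ≤ 2 := by
      rw [← hBa, Nat.card_zpowers]
      apply Nat.le_of_dvd (by norm_num)
      apply orderOf_dvd_of_pow_eq_one
      rw [pow_two]; exact hsq a haE
    rw [hcard] at h1
    have h2 : 2 ^ 2 ≤ 2 ^ m := Nat.pow_le_pow_right (by norm_num) hm
    omega
  obtain ⟨e, heB, he1⟩ : ∃ e ∈ B, e ≠ 1 := by
    obtain ⟨e, he⟩ := (Subgroup.ne_bot_iff_exists_ne_one (H := B)).mp hB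
    exact ⟨(e : G), e.2, fun h => he (Subtype.ext h)⟩
  intro g hg
  refine hP e (hBE heB) he1 g ?_
  exact (Subgroup.mem_centralizer_iff.mp hg.2 e heB).symm

end main

end Cfsg.Agent.Lib.Helper8.TvCent
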