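import Cfsg.Agent.Lib.Helper8.TvCentE

/-!
# Large extraspecial subgroups from an elementwise package: the conclusions
-/

set_option autoImplicit false

namespace Cfsg.Agent.Lib.Helper8.TvCent

open Cfsg
open scoped commutatorElement

universe u

variable {G : Type u} [Group G] [Finite G] {z : G} {n : ℕ} {Q0 K0 E0 : Subgroup G}

theorem Pack.extraspecial (P : Pack z n Q0 K0 E0) : IsExtraspecial 2 ↥Q0 := by
  have hctx : Cfsg.Agent.S2880.Ctx (⟨z, P.zQ⟩ : ↥Q0) :=
    { ne := fun h => P.z1 (congrArg Subtype.val h)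
      sq := Subtype.ext P.zz
      cen := fun x => Subtype.ext (P.QC x x.2)
      comm := fun x y => by
        rcases P.comm x x.2 y y.2 with h | h
        · left; apply Subtype.ext; rw [commutatorElement_def]; exact h
        · right; apply Subtype.ext; rw [commutatorElement_def]; exact h
      sqr := fun x => by
        rcases P.sq x x.2 with h | h
        · left; exact Subtype.ext h
        · right; exact Subtype.ext h }
  have hes : Cfsg.Agent.Lead.ES2.ES (⟨z, P.zQ⟩ : ↥Q0) := by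
    refine ⟨hctx, fun w hw => ?_⟩
    have h1 : ∀ a ∈ Q0, a * (w : G) = (w : G) * a := fun a ha =>
      congrArg Subtype.val (hw ⟨a, ha⟩)
    rcases P.cent _ h1 with h | h
    · left; exact Subtype.ext h
    · right; exact Subtype.ext h
  have hna : ¬ ∀ x y : ↥Q0, ⁅x, y⁆ = 1 := by
    intro h
    obtain ⟨x, hx, y, hy, hxy⟩ := P.nonab
    apply hxy
    have h1 := h ⟨x, hx⟩ ⟨y, hy⟩
    rw [commutatorElement_eq_one_iff_mul_comm] at h1
    exact congrArg Subtype.val h1
  exact Cfsg.Agent.Lead.ES2.extraspecial_of_ES hes hna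

omit [Finite G] in
theorem Pack.isPGroup (P : Pack z n Q0 K0 E0) : IsPGroup 2 ↥Q0 :=
  IsPGroup.of_card P.card

omit [Finite G] in
theorem Pack.Q_le (P : Pack z n Q0 K0 E0) : Q0 ≤ Subgroup.centralizer {z} := by
  intro a ha
  rw [Subgroup.mem_centralizer_iff]
  intro y hy
  rw [Set.mem_singleton_iff.mp hy]
  exact (P.QC a ha).symm

omit [Finite G] in
theorem Pack.K_le (P : Pack z n Q0 K0 E0) : K0 ≤ Subgroup.centralizer {z} := by
  intro a ha
  rw [Subgroup.mem_centralizer_iff]
  intro y hy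
  rw [Set.mem_singleton_iff.mp hy]
  exact (P.KC a ha).symm

omit [Finite G] in
theorem mem_cent_singleton {c : G} : c ∈ Subgroup.centralizer {z} ↔ c * z = z * c := by
  rw [Subgroup.mem_centralizer_iff]
  constructor
  · intro h; exact (h z rfl).symm
  · intro h y hy; rw [Set.mem_singleton_iff.mp hy]; exact h.symm

/-- the `2`-core of the centralizer is `Q0` -/
theorem Pack.core_eq (P : Pack z n Q0 K0 E0)
    (hO2 : ∀ N : Subgroup (GL (Fin n) (ZMod 2)), N.Normal → IsPGroup 2 N → N = ⊥) :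
    (pCore 2 ↥(Subgroup.centralizer {z})).map (Subgroup.centralizer {z}).subtype = Q0 := by
  have : Fact (Nat.Prime 2) := ⟨Nat.prime_two⟩
  set C : Subgroup G := Subgroup.centralizer {z} with hC
  apply le_antisymm
  · -- `O_2(C) ≤ Q0`
    set R : Subgroup G := (pCore 2 ↥C).map C.subtype with hR
    have hRp : IsPGroup 2 R := (Cfsg.Agent.H9.pCore_isPGroup 2 ↥C).map _
    have hRC : R ≤ C := by
      rintro _ ⟨x, _, rfl⟩; exact x.2
    have hRn : ∀ c ∈ C, ∀ r ∈ R, c * r * c⁻¹ ∈ R := by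
      rintro c hc _ ⟨x, hx, rfl⟩
      have hnorm := Cfsg.Agent.H9.pCore_normal 2 ↥C
      exact ⟨⟨c, hc⟩ * x * ⟨c, hc⟩⁻¹, hnorm.conj_mem x hx ⟨c, hc⟩, rfl⟩
    have hQn : ∀ c ∈ C, ∀ r ∈ Q0, c * r * c⁻¹ ∈ Q0 := fun c hc r hr =>
      P.norm c (mem_cent_singleton.mp hc) r hr
    have hsub : ∀ (H : Subgroup G), (∀ c ∈ C, ∀ r ∈ H, c * r * c⁻¹ ∈ H) →
        C ≤ Subgroup.normalizer (H : Set G) := by
      intro H hH c hc
      rw [Subgroup.mem_normalizer_iff]
      intro h
      constructor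
      · exact hH c hc h
      · intro hh
        have := hH c⁻¹ (inv_mem hc) _ hh
        simpa [mul_assoc] using this
    have hH2 : IsPGroup 2 ↥(Q0 ⊔ R) :=
      IsPGroup.to_sup_of_normal_right' P.isPGroup hRp (P.Q_le.trans (hsub R hRn))
    -- the intersection with `K0` is a normal 2-subgroup of `K0`
    set N : Subgroup ↥K0 := ((Q0 ⊔ R) ⊓ K0).subgroupOf K0 with hN
    have hNp : IsPGroup 2 N := by
      have h1 : IsPGroup 2 ↥((Q0 ⊔ R) ⊓ K0) := hH2.to_le inf_le_left
      exact h1.comap_subtype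
    have hNn : N.Normal := by
      constructor
      intro x hx k
      rw [hN, Subgroup.mem_subgroupOf] at hx ⊢
      refine ⟨?_, (k * x * k⁻¹).2⟩
      have hkC : (k : G) ∈ C := P.K_le k.2
      have h1 : C ≤ Subgroup.normalizer ((Q0 ⊔ R : Subgroup G) : Set G) := by
        apply hsub
        intro c hc r hr
        have h2 : (Q0 ⊔ R).map (MulAut.conj c).toMonoidHom ≤ Q0 ⊔ R := by
          rw [Subgroup.map_sup]
          apply sup_le
          · rintro _ ⟨a, ha, rfl⟩
            exact Subgroup.mem_sup_left (hQn c hc a ha)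
          · rintro _ ⟨a, ha, rfl⟩
            exact Subgroup.mem_sup_right (hRn c hc a ha)
        exact h2 ⟨r, hr, rfl⟩
      have h3 := (Subgroup.mem_normalizer_iff.mp (h1 hkC) (x : G)).mp hx.1
      simpa using h3
    obtain ⟨e⟩ := P.iso
    have hNbot : N = ⊥ := by
      have h1 := hO2 (N.map e.toMonoidHom) (hNn.map e.toMonoidHom e.surjective)
        (hNp.map e.toMonoidHom)
      exact (Subgroup.map_eq_bot_iff_of_injective N e.injective).mp h1
    intro p hp
    obtain ⟨a, ha, k, hk, hpk⟩ := P.prod p (mem_cent_singleton.mp (hRC hp))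
    have hk2 : k ∈ Q0 ⊔ R := by
      have : k = a⁻¹ * p := by rw [hpk]; group
      rw [this]
      exact mul_mem (Subgroup.mem_sup_left (inv_mem ha)) (Subgroup.mem_sup_right hp)
    have hk3 : (⟨k, hk⟩ : ↥K0) ∈ N := by
      rw [hN, Subgroup.mem_subgroupOf]
      exact ⟨hk2, hk⟩
    rw [hNbot, Subgroup.mem_bot] at hk3
    have hk1 : k = 1 := congrArg Subtype.val hk3
    rw [hpk, hk1, mul_one]
    exact ha
  · -- `Q0 ≤ O_2(C)`
    have hn : (Q0.subgroupOf C).Normal := by
      constructor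
      intro x hx c
      rw [Subgroup.mem_subgroupOf] at hx ⊢
      exact P.norm c (mem_cent_singleton.mp c.2) x hx
    have hp : IsPGroup 2 ↥(Q0.subgroupOf C) := P.isPGroup.comap_subtype
    have h1 := @Cfsg.Agent.H9.le_pCore 2 ↥C _ (Q0.subgroupOf C) hn hp
    intro a ha
    exact ⟨⟨a, P.Q_le ha⟩, h1 (Subgroup.mem_subgroupOf.mpr ha), rfl⟩

/-- all the conclusions about `Q0` -/
theorem Pack.concl (P : Pack z n Q0 K0 E0) :
    IsExtraspecial 2 ↥Q0 ∧ Nat.card ↥Q0 = 2 ^ (2 * n + 1) ∧
    (∃ E : Subgroup G, E ≤ Q0 ∧ IsElementaryAbelian 2 E ∧ Nat.card ↥E = 2 ^ (n + 1)) ∧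
    IsLargeExtraspecial Q0 ∧
    ∃ K : Subgroup G, K ≤ Subgroup.centralizer {z} ∧ Q0 ⊓ K = ⊥ ∧
      Q0 ⊔ K = Subgroup.centralizer {z} ∧ Nonempty (↥K ≃* GL (Fin n) (ZMod 2)) := by
  have hcenter : ∀ w : ↥Q0, w ∈ Subgroup.center ↥Q0 ↔ (w : G) = 1 ∨ (w : G) = z := by
    intro w
    rw [Subgroup.mem_center_iff]
    constructor
    · intro h
      apply P.cent
      intro a ha
      exact congrArg Subtype.val (h ⟨a, ha⟩)
    · rintro (h | h) g
      · have : w = 1 := Subtype.ext h
        rw [this, mul_one, one_mul]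
      · apply Subtype.ext
        change (g : G) * (w : G) = (w : G) * (g : G)
        rw [h]
        exact P.QC g g.2
  refine ⟨P.extraspecial, P.card, ⟨E0, P.EQ, ⟨⟨⟨fun x y => Subtype.ext (P.Ecomm x x.2 y y.2)⟩⟩,
    fun a ha => by rw [pow_two]; exact P.Esq a ha⟩, P.Ecard⟩, ?_, ?_⟩
  · refine ⟨P.extraspecial, ?_, ?_, ?_⟩
    · ext g
      rw [Subgroup.mem_centralizer_iff]
      constructor
      · intro h
        have h1 : g = 1 ∨ g = z := P.cent g h
        rcases h1 with h1 | h1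
        · rw [h1]; exact one_mem _
        · exact ⟨⟨z, P.zQ⟩, (hcenter _).mpr (Or.inr rfl), h1.symm⟩
      · rintro ⟨w, hw, rfl⟩ a ha
        have := Subgroup.mem_center_iff.mp hw ⟨a, ha⟩
        exact congrArg Subtype.val this
    · intro g hg
      have hgz : g * z = z * g := by
        have h1 : z ∈ (((Subgroup.center ↥Q0).map Q0.subtype : Subgroup G) : Set G) :=
          ⟨⟨z, P.zQ⟩, (hcenter _).mpr (Or.inr rfl), rfl⟩
        exact (Subgroup.mem_centralizer_iff.mp hg z h1).symm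
      have hgz' : g⁻¹ * z = z * g⁻¹ := by
        calc g⁻¹ * z = g⁻¹ * (z * g) * g⁻¹ := by group
          _ = g⁻¹ * (g * z) * g⁻¹ := by rw [hgz]
          _ = z * g⁻¹ := by group
      rw [Subgroup.mem_normalizer_iff]
      intro h
      constructor
      · exact P.norm g hgz h
      · intro hh
        have := P.norm g⁻¹ hgz' _ hh
        simpa [mul_assoc] using this
    · intro K hK hQK
      apply P.odd K hK
      intro a ha k hk
      exact (Subgroup.mem_normalizer_iff.mp (hQK ha) k).mp hk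
  · refine ⟨K0, P.K_le, P.QK, ?_, P.iso⟩
    apply le_antisymm (sup_le P.Q_le P.K_le)
    intro c hc
    obtain ⟨a, ha, k, hk, rfl⟩ := P.prod c (mem_cent_singleton.mp hc)
    exact mul_mem (Subgroup.mem_sup_left ha) (Subgroup.mem_sup_right hk)

end Cfsg.Agent.Lib.Helper8.TvCent
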