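import Cfsg.Agent.Lib.Helper8.TvCentD
import Cfsg.Agent.Lib.Helper8.TvCentF

/-!
# The package for the centralizer of a transvection in `SL_{n+2}(2)`
-/

set_option autoImplicit false

namespace Cfsg.Agent.Lib.Helper8.TvCent

open Matrix

section O2

variable {m : ℕ}

/-- the action of a subgroup of `GL_m(2)` on vectors -/
@[reducible] def actGL (N : Subgroup (GL (Fin m) (ZMod 2))) : MulAction N (Fin m → ZMod 2) where
  smul g v := ((g : GL (Fin m) (ZMod 2)) : Matrix (Fin m) (Fin m) (ZMod 2)) *ᵥ v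
  one_smul v := by
    change ((1 : GL (Fin m) (ZMod 2)) : Matrix (Fin m) (Fin m) (ZMod 2)) *ᵥ v = v
    rw [Units.val_one, Matrix.one_mulVec]
  mul_smul g h v := by
    change (((g : GL (Fin m) (ZMod 2)) * (h : GL (Fin m) (ZMod 2)) : GL (Fin m) (ZMod 2)) :
      Matrix (Fin m) (Fin m) (ZMod 2)) *ᵥ v =
      ((g : GL (Fin m) (ZMod 2)) : Matrix (Fin m) (Fin m) (ZMod 2)) *ᵥ
        (((h : GL (Fin m) (ZMod 2)) : Matrix (Fin m) (Fin m) (ZMod 2)) *ᵥ v)
    rw [Units.val_mul, Matrix.mulVec_mulVec]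

theorem tv_sq (i j : Fin m) (h : i ≠ j) :
    Matrix.transvection i j (1 : ZMod 2) * Matrix.transvection i j 1 = 1 := by
  rw [Matrix.transvection_mul_transvection_same i j h, CharTwo.add_self_eq_zero,
    Matrix.transvection_zero]

/-- a transvection as an element of `GL_m(2)` -/
def tvGL (i j : Fin m) (h : i ≠ j) : GL (Fin m) (ZMod 2) :=
  ⟨Matrix.transvection i j 1, Matrix.transvection i j 1, tv_sq i j h, tv_sq i j h⟩

theorem tvGL_mulVec (i j : Fin m) (h : i ≠ j) (v : Fin m → ZMod 2) :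
    ((tvGL i j h : GL (Fin m) (ZMod 2)) : Matrix (Fin m) (Fin m) (ZMod 2)) *ᵥ v =
      v + v j • Pi.single i 1 := by
  change Matrix.transvection i j 1 *ᵥ v = _
  rw [Matrix.transvection, Matrix.add_mulVec, Matrix.one_mulVec, Matrix.single_mulVec_eq, one_mul]

/-- `O_2(GL_m(2)) = 1` -/
theorem O2_GL (N : Subgroup (GL (Fin m) (ZMod 2))) (hN : N.Normal) (hp : IsPGroup 2 N) :
    N = ⊥ := by
  have : Fact (Nat.Prime 2) := ⟨Nat.prime_two⟩
  rcases Nat.eq_zero_or_pos m with rfl | hm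
  · rw [eq_bot_iff]
    intro g _
    rw [Subgroup.mem_bot]
    apply Units.ext
    ext i
    exact Fin.elim0 i
  let _inst := actGL N
  have hdvd : 2 ∣ Nat.card (Fin m → ZMod 2) := by
    rw [Nat.card_fun, Nat.card_zmod, Nat.card_fin]
    exact dvd_pow_self 2 hm.ne'
  have h0 : (0 : Fin m → ZMod 2) ∈ MulAction.fixedPoints N (Fin m → ZMod 2) := by
    intro g
    exact Matrix.mulVec_zero _
  obtain ⟨v, hv, hv0⟩ :=
    hp.exists_fixed_point_of_prime_dvd_card_of_fixed_point (Fin m → ZMod 2) hdvd h0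
  have hfix : ∀ g ∈ N, ((g : GL (Fin m) (ZMod 2)) : Matrix (Fin m) (Fin m) (ZMod 2)) *ᵥ v = v :=
    fun g hg => hv ⟨g, hg⟩
  -- all conjugates of `v` are fixed
  have hfix2 : ∀ g ∈ N, ∀ h : GL (Fin m) (ZMod 2),
      ((g : GL (Fin m) (ZMod 2)) : Matrix (Fin m) (Fin m) (ZMod 2)) *ᵥ
        (((h : GL (Fin m) (ZMod 2)) : Matrix (Fin m) (Fin m) (ZMod 2)) *ᵥ v) =
        ((h : GL (Fin m) (ZMod 2)) : Matrix (Fin m) (Fin m) (ZMod 2)) *ᵥ v := by
    intro g hg h
    have h1 := hfix _ (hN.conj_mem g hg h⁻¹)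
    rw [inv_inv, Units.val_mul, Units.val_mul] at h1
    have h2 : ((h : GL (Fin m) (ZMod 2)) : Matrix (Fin m) (Fin m) (ZMod 2)) *ᵥ
        ((((h⁻¹ : GL (Fin m) (ZMod 2)) : Matrix (Fin m) (Fin m) (ZMod 2)) *
          ((g : GL (Fin m) (ZMod 2)) : Matrix (Fin m) (Fin m) (ZMod 2)) *
          ((h : GL (Fin m) (ZMod 2)) : Matrix (Fin m) (Fin m) (ZMod 2))) *ᵥ v) =
        ((h : GL (Fin m) (ZMod 2)) : Matrix (Fin m) (Fin m) (ZMod 2)) *ᵥ v := by rw [h1]
    rw [Matrix.mulVec_mulVec, ← Matrix.mul_assoc, ← Matrix.mul_assoc, ← Units.val_mul,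
      mul_inv_cancel, Units.val_one, Matrix.one_mul, ← Matrix.mulVec_mulVec] at h2
    exact h2
  obtain ⟨i, hi⟩ := exists_eq_one_of_ne_zero (fun h => hv0 h.symm)
  rw [eq_bot_iff]
  intro g hg
  rw [Subgroup.mem_bot]
  -- columns `j ≠ i`
  have hcol : ∀ j, j ≠ i →
      ((g : GL (Fin m) (ZMod 2)) : Matrix (Fin m) (Fin m) (ZMod 2)) *ᵥ Pi.single j 1 =
        Pi.single j 1 := by
    intro j hj
    have h1 := hfix2 g hg (tvGL j i hj)
    rw [tvGL_mulVec, hi, one_smul, Matrix.mulVec_add, hfix g hg] at h1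
    exact add_left_cancel h1
  have hw : ∀ w : Fin m → ZMod 2, w i = 0 →
      ((g : GL (Fin m) (ZMod 2)) : Matrix (Fin m) (Fin m) (ZMod 2)) *ᵥ w = w := by
    intro w hwi
    have h1 : ((g : GL (Fin m) (ZMod 2)) : Matrix (Fin m) (Fin m) (ZMod 2)) *ᵥ w =
        (1 : Matrix (Fin m) (Fin m) (ZMod 2)) *ᵥ w := by
      ext k
      rw [Matrix.mulVec, Matrix.mulVec, dotProduct, dotProduct]
      apply Finset.sum_congr rfl
      intro j _
      by_cases hj : j = i
      · rw [hj, hwi, mul_zero, mul_zero]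
      · have := congrFun (hcol j hj) k
        rw [Matrix.mulVec_single_one] at this
        change ((g : GL (Fin m) (ZMod 2)) : Matrix (Fin m) (Fin m) (ZMod 2)) k j = _ at this
        rw [this, Matrix.one_apply, Pi.single_apply]
    rw [h1, Matrix.one_mulVec]
  have hcoli : ((g : GL (Fin m) (ZMod 2)) : Matrix (Fin m) (Fin m) (ZMod 2)) *ᵥ Pi.single i 1 =
      Pi.single i 1 := by
    have h1 := hw (v + Pi.single i 1) (by
      rw [Pi.add_apply, hi, Pi.single_eq_same]; exact CharTwo.add_self_eq_zero 1)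
    rw [Matrix.mulVec_add, hfix g hg] at h1
    exact add_left_cancel h1
  apply Units.ext
  rw [Units.val_one]
  ext k j
  have hc : ((g : GL (Fin m) (ZMod 2)) : Matrix (Fin m) (Fin m) (ZMod 2)) *ᵥ Pi.single j 1 =
      Pi.single j 1 := by
    by_cases hj : j = i
    · rw [hj]; exact hcoli
    · exact hcol j hj
  have := congrFun hc k
  rw [Matrix.mulVec_single_one] at this
  change ((g : GL (Fin m) (ZMod 2)) : Matrix (Fin m) (Fin m) (ZMod 2)) k j = _ at this
  rw [this, Matrix.one_apply, Pi.single_apply]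

end O2

variable {n : ℕ}

local notation "SLn" n => Matrix.SpecialLinearGroup (Fin (n + 2)) (ZMod 2)
local notation "Mn" n => Matrix (Fin (n + 2)) (Fin (n + 2)) (ZMod 2)

/-- the stabilizer of `e0` -/
def St1 (n : ℕ) : Subgroup (SLn n) where
  carrier := {g | (g : Mn n) *ᵥ e0 n = e0 n}
  mul_mem' := by
    intro a b ha hb
    change ((a * b : SLn n) : Mn n) *ᵥ e0 n = e0 n
    rw [Matrix.SpecialLinearGroup.coe_mul, ← Matrix.mulVec_mulVec, hb, ha]
  one_mem' := by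
    change ((1 : SLn n) : Mn n) *ᵥ e0 n = e0 n
    rw [Matrix.SpecialLinearGroup.coe_one, Matrix.one_mulVec]
  inv_mem' := by
    intro a ha
    change ((a⁻¹ : SLn n) : Mn n) *ᵥ e0 n = e0 n
    have := inv_mulVec_mulVec a (e0 n)
    rw [ha] at this
    exact this

/-- the stabilizer of `ph` -/
def St2 (n : ℕ) : Subgroup (SLn n) where
  carrier := {g | ph n ᵥ* (g : Mn n) = ph n}
  mul_mem' := by
    intro a b ha hb
    change ph n ᵥ* ((a * b : SLn n) : Mn n) = ph n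
    rw [Matrix.SpecialLinearGroup.coe_mul, ← Matrix.vecMul_vecMul, ha, hb]
  one_mem' := by
    change ph n ᵥ* ((1 : SLn n) : Mn n) = ph n
    rw [Matrix.SpecialLinearGroup.coe_one, Matrix.vecMul_one]
  inv_mem' := by
    intro a ha
    change ph n ᵥ* ((a⁻¹ : SLn n) : Mn n) = ph n
    have := vecMul_vecMul_inv a (ph n)
    rw [ha] at this
    exact this

/-- an odd order subgroup normalized by `Q` is trivial -/
theorem odd_S (hn : 1 ≤ n) (K : Subgroup (SLn n)) (hK : Odd (Nat.card K))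
    (hQK : ∀ a ∈ Q0S n, ∀ k ∈ K, a * k * a⁻¹ ∈ K) : K = ⊥ := by
  have hQN : Q0S n ≤ Subgroup.normalizer (K : Set (SLn n)) := by
    intro a ha
    rw [Subgroup.mem_normalizer_iff]
    intro k
    constructor
    · exact hQK a ha k
    · intro hk
      have := hQK a⁻¹ (inv_mem ha) _ hk
      simpa [mul_assoc] using this
  have h1 : K ≤ St1 n :=
    odd_le_of_EA (E1S n) (fun x hx y hy => E1S_comm hx hy) (fun x hx => E1S_sq hx) (n + 1)
      (by omega) card_E1S (St1 n) (fun e he he1 g hg => cent_E1S he he1 g hg) K hK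
      (E1S_le.trans hQN)
  have h2 : K ≤ St2 n :=
    odd_le_of_EA (E2S n) (fun x hx y hy => E2S_comm hx hy) (fun x hx => E2S_sq hx) (n + 1)
      (by omega) card_E2S (St2 n) (fun e he he1 g hg => cent_E2S he he1 g hg) K hK
      (E2S_le.trans hQN)
  have hKC : K ≤ CS n := fun k hk => mem_CS.mpr ⟨h1 hk, h2 hk⟩
  have hQ2 : IsPGroup 2 ↥(Q0S n) := IsPGroup.of_card card_Q0S
  rw [eq_bot_iff]
  intro k hk
  rw [Subgroup.mem_bot]
  have hcomm : ∀ a ∈ Q0S n, a * k = k * a := by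
    intro a ha
    have h3 : a * k * a⁻¹ * k⁻¹ ∈ K := mul_mem (hQK a ha k hk) (inv_mem hk)
    have h4 : a * k * a⁻¹ * k⁻¹ ∈ Q0S n := by
      have : a * k * a⁻¹ * k⁻¹ = a * (k * a⁻¹ * k⁻¹) := by group
      rw [this]
      exact mul_mem ha (Q0S_norm (hKC hk) (inv_mem ha))
    have h5 := Cfsg.Agent.H9.eq_one_of_mem_odd_of_mem_two hK hQ2 h3 h4
    calc a * k = (a * k * a⁻¹ * k⁻¹) * (k * a) := by group
      _ = k * a := by rw [h5, one_mul]
  rcases cent_Q0S k hcomm with h | h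
  · exact h
  · exfalso
    rw [h] at hk
    exact zS_ne_one (Cfsg.Agent.H9.eq_one_of_mem_odd_of_mem_two hK hQ2 hk zS_mem)

/-- the package for `SL_{n+2}(2)` -/
theorem pack_S (hn : 1 ≤ n) : Pack (zS n) n (Q0S n) (K0S n) (E1S n) where
  zQ := zS_mem
  z1 := zS_ne_one
  zz := zS_mul_self
  QC := fun _ ha => Q0S_zc ha
  comm := fun _ ha _ hb => Q0S_comm ha hb
  sq := fun _ ha => Q0S_sq ha
  cent := cent_Q0S
  norm := fun c hc _ ha => Q0S_norm (mem_CS.mpr ((comm_zS_iff c).mp hc)) ha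
  nonab := Q0S_nonab hn
  card := card_Q0S
  EQ := E1S_le
  Ecomm := fun _ hx _ hy => E1S_comm hx hy
  Esq := fun _ hx => E1S_sq hx
  Ecard := card_E1S
  KC := fun k hk => (comm_zS_iff k).mpr (mem_CS.mp (K0S_le_CS hk))
  QK := Q0S_inf_K0S
  prod := fun c hc => CS_eq_mul (mem_CS.mpr ((comm_zS_iff c).mp hc))
  iso := ⟨K0S_equiv n⟩
  odd := odd_S hn

end Cfsg.Agent.Lib.Helper8.TvCent
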