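import Cfsg.Agent.Lib.Helper8.TvCentG

/-!
# The stabilizer of `e0` in `SL_{n+2}(2)` as an affine group
-/

set_option autoImplicit false

namespace Cfsg.Agent.Lib.Helper8.TvCent

open Matrix

variable {n : ℕ}

local notation "SLn" n => Matrix.SpecialLinearGroup (Fin (n + 2)) (ZMod 2)
local notation "Mn" n => Matrix (Fin (n + 2)) (Fin (n + 2)) (ZMod 2)
local notation "M1" n => Matrix (Fin (n + 1)) (Fin (n + 1)) (ZMod 2)

/-- block diagonal matrix with blocks of sizes `1` and `n+1` -/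
def blk1 (A : M1 n) : Mn n :=
  fun i j => Fin.cases (motive := fun _ => ZMod 2) (e0 n j)
    (fun i' => Fin.cases (motive := fun _ => ZMod 2) 0 (fun j' => A i' j') j) i

theorem blk1_zero (A : M1 n) (j : Fin (n + 2)) : blk1 A 0 j = e0 n j := rfl

theorem blk1_succ_zero (A : M1 n) (i : Fin (n + 1)) : blk1 A (Fin.succ i) 0 = 0 := rfl

theorem blk1_succ_succ (A : M1 n) (i j : Fin (n + 1)) :
    blk1 A (Fin.succ i) (Fin.succ j) = A i j := rfl

theorem blk1_mul (A B : M1 n) : blk1 A * blk1 B = blk1 (A * B) := by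
  ext i j
  rw [Matrix.mul_apply, Fin.sum_univ_succ]
  refine Fin.cases ?_ (fun i' => ?_) i
  · simp only [blk1_zero, e0_app_zero, e0_app_succ, zero_mul, one_mul, add_zero,
      Finset.sum_const_zero]
  · refine Fin.cases ?_ (fun j' => ?_) j
    · simp only [blk1_succ_zero, zero_mul, mul_zero, zero_add, Finset.sum_const_zero]
    · simp only [blk1_succ_zero, blk1_succ_succ, zero_mul, zero_add, Matrix.mul_apply]

theorem blk1_one : blk1 (1 : M1 n) = 1 := by
  ext i j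
  refine Fin.cases ?_ (fun i' => ?_) i
  · rw [blk1_zero, e0, Matrix.one_apply, Pi.single_apply]
    by_cases hj : j = 0
    · rw [if_pos hj, if_pos hj.symm]
    · rw [if_neg hj, if_neg (fun h => hj h.symm)]
  · refine Fin.cases ?_ (fun j' => ?_) j
    · rw [blk1_succ_zero, Matrix.one_apply_ne (Fin.succ_ne_zero _)]
    · rw [blk1_succ_succ, Matrix.one_apply, Matrix.one_apply]
      simp only [Fin.succ_inj]

theorem blk1_mulVec_e0 (A : M1 n) : blk1 A *ᵥ e0 n = e0 n := by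
  ext i
  have h : (blk1 A *ᵥ e0 n) i = blk1 A i 0 := by
    rw [e0, Matrix.mulVec_single_one]; rfl
  rw [h]
  refine Fin.cases ?_ (fun i' => ?_) i
  · rw [blk1_zero]
  · rw [blk1_succ_zero, e0_app_succ]

theorem bet_vecMul_blk1 (b : Fin (n + 1) → ZMod 2) (A : M1 n) :
    bet b ᵥ* blk1 A = bet (b ᵥ* A) := by
  ext j
  rw [Matrix.vecMul, dotProduct, Fin.sum_univ_succ]
  refine Fin.cases ?_ (fun j' => ?_) j
  · simp only [bet_app_zero, zero_mul, zero_add, blk1_succ_zero, mul_zero,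
      Finset.sum_const_zero]
  · simp only [bet_app_zero, zero_mul, zero_add, bet_app_succ, blk1_succ_succ, Matrix.vecMul,
      dotProduct]

/-- the Levi complement of the stabilizer of `e0` -/
def sig1 (n : ℕ) : GL (Fin (n + 1)) (ZMod 2) →* SLn n where
  toFun A := ⟨blk1 (A : M1 n),
    det_eq_one_of_mul _ (blk1 ((A⁻¹ : GL (Fin (n + 1)) (ZMod 2)) : M1 n)) (by
      rw [blk1_mul, ← Units.val_mul, mul_inv_cancel, Units.val_one, blk1_one])⟩
  map_one' := by
    apply Subtype.ext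
    change blk1 ((1 : GL (Fin (n + 1)) (ZMod 2)) : M1 n) = _
    rw [Units.val_one, blk1_one, Matrix.SpecialLinearGroup.coe_one]
  map_mul' := by
    intro A B
    have h : blk1 ((A * B : GL (Fin (n + 1)) (ZMod 2)) : M1 n) =
        blk1 (A : M1 n) * blk1 (B : M1 n) := by
      rw [Units.val_mul, blk1_mul]
    exact Subtype.ext h

theorem coe_sig1 (A : GL (Fin (n + 1)) (ZMod 2)) :
    ((sig1 n A : SLn n) : Mn n) = blk1 (A : M1 n) := rfl

theorem sig1_mem_St1 (A : GL (Fin (n + 1)) (ZMod 2)) : sig1 n A ∈ St1 n := by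
  change ((sig1 n A : SLn n) : Mn n) *ᵥ e0 n = e0 n
  rw [coe_sig1, blk1_mulVec_e0]

/-- the conjugation action of the Levi complement on `E1` -/
theorem sig1_conj (A : GL (Fin (n + 1)) (ZMod 2)) (b : Fin (n + 1) → ZMod 2) :
    sig1 n A * q b 0 * (sig1 n A)⁻¹ =
      q (b ᵥ* ((A⁻¹ : GL (Fin (n + 1)) (ZMod 2)) : M1 n)) 0 := by
  rw [← map_inv]
  apply Subtype.ext
  change ((sig1 n A * q b 0 * sig1 n A⁻¹ : SLn n) : Mn n) = _
  rw [Matrix.SpecialLinearGroup.coe_mul, Matrix.SpecialLinearGroup.coe_mul, coe_q, coe_q,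
    coe_sig1, coe_sig1, Nm_left, Nm_left, Matrix.mul_add, Matrix.add_mul, Matrix.mul_one,
    blk1_mul, ← Units.val_mul, mul_inv_cancel, Units.val_one, blk1_one, mul_vecMulVec,
    vecMulVec_mul, blk1_mulVec_e0, bet_vecMul_blk1]

/-- the lower right block of size `n+1` -/
def sub1 (M : Mn n) : M1 n := fun i j => M (Fin.succ i) (Fin.succ j)

theorem sub1_one : sub1 (1 : Mn n) = 1 := by
  ext i j
  rw [sub1, Matrix.one_apply, Matrix.one_apply]
  simp only [Fin.succ_inj]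

theorem sub1_mul (g h : SLn n) (hg : (g : Mn n) *ᵥ e0 n = e0 n) :
    sub1 ((g : Mn n) * (h : Mn n)) = sub1 (g : Mn n) * sub1 (h : Mn n) := by
  ext i j
  rw [sub1, Matrix.mul_apply, Matrix.mul_apply, Fin.sum_univ_succ,
    col_zero_of_comm g hg, e0_app_succ, zero_mul, zero_add]
  rfl

/-- the projection of the stabilizer onto its Levi complement, to matrices -/
def pi10 (n : ℕ) : ↥(St1 n) →* M1 n where
  toFun g := sub1 ((g : SLn n) : Mn n)
  map_one' := by
    change sub1 (((1 : SLn n)) : Mn n) = 1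
    rw [Matrix.SpecialLinearGroup.coe_one, sub1_one]
  map_mul' := by
    intro g h
    change sub1 (((g : SLn n) * (h : SLn n) : SLn n) : Mn n) = _
    rw [Matrix.SpecialLinearGroup.coe_mul]
    exact sub1_mul _ _ g.2

/-- the projection of the stabilizer onto its Levi complement -/
def pi1 (n : ℕ) : ↥(St1 n) →* GL (Fin (n + 1)) (ZMod 2) := (pi10 n).toHomUnits

theorem coe_pi1 (g : ↥(St1 n)) :
    ((pi1 n g : GL (Fin (n + 1)) (ZMod 2)) : M1 n) = sub1 ((g : SLn n) : Mn n) := rfl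

theorem pi1_sig1 (A : GL (Fin (n + 1)) (ZMod 2)) : pi1 n ⟨sig1 n A, sig1_mem_St1 A⟩ = A := by
  apply Units.ext
  rw [coe_pi1]
  rfl

theorem sig1_injective : Function.Injective (sig1 n) := by
  intro A B h
  have h1 : pi1 n ⟨sig1 n A, sig1_mem_St1 A⟩ = pi1 n ⟨sig1 n B, sig1_mem_St1 B⟩ := by
    congr 1
    exact Subtype.ext h
  rwa [pi1_sig1, pi1_sig1] at h1

theorem q_left_mem_St1 (b : Fin (n + 1) → ZMod 2) : q b (0 : Fin n → ZMod 2) ∈ St1 n := by
  change ((q b 0 : SLn n) : Mn n) *ᵥ e0 n = e0 n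
  rw [coe_q, Nm_left, Matrix.add_mulVec, Matrix.one_mulVec, vecMulVec_mulVec, bet_dot_e0]
  simp

theorem eq_q_of_sub1 {g : SLn n} (hg : g ∈ St1 n) (h : sub1 (g : Mn n) = 1) :
    g = q (fun j => (g : Mn n) 0 (Fin.succ j)) 0 := by
  apply Subtype.ext
  rw [coe_q, Nm_left]
  ext i j
  rw [Matrix.add_apply, vecMulVec_apply]
  refine Fin.cases ?_ (fun i' => ?_) i
  · refine Fin.cases ?_ (fun j' => ?_) j
    · rw [col_zero_of_comm g hg, e0_app_zero, bet_app_zero, mul_zero, add_zero,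
        Matrix.one_apply_eq]
    · rw [e0_app_zero, one_mul, bet_app_succ, Matrix.one_apply_ne (Fin.succ_ne_zero _).symm,
        zero_add]
  · rw [e0_app_succ, zero_mul, add_zero]
    refine Fin.cases ?_ (fun j' => ?_) j
    · rw [col_zero_of_comm g hg, e0_app_succ, Matrix.one_apply_ne (Fin.succ_ne_zero _)]
    · have := congrFun (congrFun h i') j'
      rw [sub1] at this
      rw [this, Matrix.one_apply, Matrix.one_apply]
      simp only [Fin.succ_inj]

/-- decomposition of the stabilizer of `e0` -/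
theorem St1_decomp {g : SLn n} (hg : g ∈ St1 n) :
    ∃ (b : Fin (n + 1) → ZMod 2) (A : GL (Fin (n + 1)) (ZMod 2)), g = q b 0 * sig1 n A := by
  set A := pi1 n ⟨g, hg⟩ with hA
  have hmem : g * (sig1 n A)⁻¹ ∈ St1 n := mul_mem hg (inv_mem (sig1_mem_St1 A))
  have h1 : pi1 n ⟨g * (sig1 n A)⁻¹, hmem⟩ = 1 := by
    have : (⟨g * (sig1 n A)⁻¹, hmem⟩ : ↥(St1 n)) = ⟨g, hg⟩ * ⟨sig1 n A, sig1_mem_St1 A⟩⁻¹ := rfl
    rw [this, map_mul, map_inv, pi1_sig1, ← hA, mul_inv_cancel]
  have h2 : sub1 ((g * (sig1 n A)⁻¹ : SLn n) : Mn n) = 1 := by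
    have := congrArg (fun u : GL (Fin (n + 1)) (ZMod 2) => (u : M1 n)) h1
    simpa [coe_pi1] using this
  have h3 := eq_q_of_sub1 hmem h2
  refine ⟨fun j => ((g * (sig1 n A)⁻¹ : SLn n) : Mn n) 0 (Fin.succ j), A, ?_⟩
  rw [← h3]
  group

end Cfsg.Agent.Lib.Helper8.TvCent
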