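import Cfsg.Agent.Lib.Helper8.TvCentH
import Cfsg.Agent.Lib.Helper7.ElemAbGL

/-!
# Coordinatizing a split extension `U : Aut(U)` inside `SL_{n+2}(2)`
-/

set_option autoImplicit false

namespace Cfsg.Agent.Lib.Helper8.TvCent

open Matrix Cfsg

theorem exists_hom_of_complement {G S : Type*} [Group G] [Group S] (U M : Subgroup G)
    [hUn : U.Normal] (hUM : U ⊓ M = ⊥) (hUM' : U ⊔ M = ⊤) (f₁ : ↥U →* S) (f₂ : ↥M →* S)
    (h : ∀ (m : ↥M) (u : ↥U),
      f₁ ⟨(m : G) * u * (m : G)⁻¹, hUn.conj_mem u u.2 m⟩ = f₂ m * f₁ u * (f₂ m)⁻¹) :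
    ∃ Ψ : G →* S, ∀ (u : ↥U) (m : ↥M), Ψ ((u : G) * (m : G)) = f₁ u * f₂ m := by
  have hc : U.IsComplement' M := by
    apply Subgroup.isComplement'_of_disjoint_and_mul_eq_univ (disjoint_iff.mpr hUM)
    rw [← Subgroup.normal_mul, hUM']
    rfl
  let E := SemidirectProduct.mulEquivSubgroup hc
  have hcompat : ∀ m : ↥M, f₁.comp (((U.normalizerMonoidHom).comp
      (Subgroup.inclusion (U.normalizer_eq_top ▸ le_top))) m).toMonoidHom =
      (MulAut.conj (f₂ m)).toMonoidHom.comp f₁ := by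
    intro m
    ext u
    exact h m u
  let L := SemidirectProduct.lift f₁ f₂ hcompat
  refine ⟨L.comp E.symm.toMonoidHom, ?_⟩
  intro u m
  have h1 : E ⟨u, m⟩ = (u : G) * (m : G) := rfl
  rw [← h1]
  change L (E.symm (E ⟨u, m⟩)) = _
  rw [MulEquiv.symm_apply_apply]
  rfl

theorem exists_addEquiv {G : Type*} [Group G] [Finite G] (U : Subgroup G)
    (hU : IsElementaryAbelian 2 U) (k : ℕ) (hcard : Nat.card U = 2 ^ k) :
    Nonempty (Additive ↥U ≃+ (Fin k → ZMod 2)) := by
  obtain ⟨hc, he⟩ := hU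
  let _i1 : CommGroup ↥U := { (inferInstance : Group ↥U) with mul_comm := hc.is_comm.comm }
  have hW : ∀ x : Additive ↥U, 2 • x = 0 := by
    intro x
    have h1 : (Additive.toMul x) ^ 2 = 1 := Subtype.ext (he _ (Additive.toMul x).2)
    exact h1
  let _i2 : Module (ZMod 2) (Additive ↥U) := AddCommGroup.zmodModule hW
  have _i3 : Finite (Additive ↥U) := inferInstanceAs (Finite ↥U)
  have _i4 : Fact (Nat.Prime 2) := ⟨Nat.prime_two⟩
  obtain ⟨e⟩ := Cfsg.Agent.Lib.Helper7.exists_linearEquiv_of_card (W := Additive ↥U) 2 k hcard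
  exact ⟨e.toAddEquiv⟩

theorem exists_addEquiv_single {k : ℕ} (v : Fin (k + 1) → ZMod 2) (hv : v ≠ 0) :
    ∃ T : (Fin (k + 1) → ZMod 2) ≃+ (Fin (k + 1) → ZMod 2), T v = Pi.single 0 1 := by
  obtain ⟨i, hi⟩ := exists_eq_one_of_ne_zero hv
  let T1 : (Fin (k + 1) → ZMod 2) ≃+ (Fin (k + 1) → ZMod 2) :=
    { toFun := fun x => x ∘ (Equiv.swap 0 i)
      invFun := fun x => x ∘ (Equiv.swap 0 i)
      left_inv := fun x => by ext j; simp
      right_inv := fun x => by ext j; simp
      map_add' := fun x y => rfl }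
  set w : Fin (k + 1) → ZMod 2 := T1 v + Pi.single 0 1 with hw
  have hw0 : w 0 = 0 := by
    rw [hw, Pi.add_apply, Pi.single_eq_same]
    change v (Equiv.swap 0 i 0) + 1 = 0
    rw [Equiv.swap_apply_left, hi]
    decide
  let T2 : (Fin (k + 1) → ZMod 2) ≃+ (Fin (k + 1) → ZMod 2) :=
    { toFun := fun y => y + y 0 • w
      invFun := fun y => y + y 0 • w
      left_inv := fun y => by
        ext j
        simp only [Pi.add_apply, Pi.smul_apply, smul_eq_mul, hw0, mul_zero, add_zero]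
        rw [add_assoc, CharTwo.add_self_eq_zero, add_zero]
      right_inv := fun y => by
        ext j
        simp only [Pi.add_apply, Pi.smul_apply, smul_eq_mul, hw0, mul_zero, add_zero]
        rw [add_assoc, CharTwo.add_self_eq_zero, add_zero]
      map_add' := fun x y => by
        ext j
        simp only [Pi.add_apply, Pi.smul_apply, smul_eq_mul]
        ring }
  refine ⟨T1.trans T2, ?_⟩
  change T1 v + (T1 v) 0 • w = _
  have h0 : (T1 v) 0 = 1 := by
    change v (Equiv.swap 0 i 0) = 1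
    rw [Equiv.swap_apply_left, hi]
  rw [h0, one_smul, hw, ← add_assoc]
  ext j
  simp only [Pi.add_apply]
  rw [CharTwo.add_self_eq_zero, zero_add]

section coord

variable {G : Type*} [Group G] {n : ℕ} (U : Subgroup G) [hUn : U.Normal]
  (ε : Additive ↥U ≃+ (Fin (n + 1) → ZMod 2))

local notation "SLn" n => Matrix.SpecialLinearGroup (Fin (n + 2)) (ZMod 2)
local notation "M1" n => Matrix (Fin (n + 1)) (Fin (n + 1)) (ZMod 2)

/-- conjugation in coordinates -/
def cA (g : G) : (Fin (n + 1) → ZMod 2) →+ (Fin (n + 1) → ZMod 2) where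
  toFun x := ε (Additive.ofMul (MulAut.conjNormal g (Additive.toMul (ε.symm x))))
  map_zero' := by simp
  map_add' x y := by simp

theorem cA_apply (g : G) (x : Fin (n + 1) → ZMod 2) :
    cA U ε g x = ε (Additive.ofMul (MulAut.conjNormal g (Additive.toMul (ε.symm x)))) := rfl

theorem cA_eps (g : G) (u : ↥U) :
    cA U ε g (ε (Additive.ofMul u)) = ε (Additive.ofMul (MulAut.conjNormal g u)) := by
  rw [cA_apply, AddEquiv.symm_apply_apply, toMul_ofMul]

theorem cA_mul (g h : G) (x : Fin (n + 1) → ZMod 2) :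
    cA U ε (g * h) x = cA U ε g (cA U ε h x) := by
  rw [cA_apply, cA_apply, cA_apply, AddEquiv.symm_apply_apply, toMul_ofMul, map_mul,
    MulAut.mul_apply]

theorem cA_one (x : Fin (n + 1) → ZMod 2) : cA U ε 1 x = x := by
  rw [cA_apply, map_one, MulAut.one_apply, ofMul_toMul, AddEquiv.apply_symm_apply]

/-- the matrix of conjugation -/
noncomputable def Bmat (g : G) : M1 n := LinearMap.toMatrix' ((cA U ε g).toZModLinearMap 2)

theorem Bmat_mulVec (g : G) (x : Fin (n + 1) → ZMod 2) : Bmat U ε g *ᵥ x = cA U ε g x := by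
  rw [Bmat, LinearMap.toMatrix'_mulVec]
  rfl

theorem Bmat_mul (g h : G) : Bmat U ε (g * h) = Bmat U ε g * Bmat U ε h := by
  rw [Bmat, Bmat, Bmat, ← LinearMap.toMatrix'_comp]
  congr 1
  apply LinearMap.ext
  intro x
  exact cA_mul U ε g h x

theorem Bmat_one : Bmat U ε 1 = 1 := by
  rw [Bmat, ← LinearMap.toMatrix'_id]
  congr 1
  apply LinearMap.ext
  intro x
  exact cA_one U ε x

/-- the inverse transpose matrix of conjugation, as a homomorphism to matrices -/
noncomputable def Amat : G →* M1 n where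
  toFun g := (Bmat U ε g⁻¹)ᵀ
  map_one' := by rw [inv_one, Bmat_one, Matrix.transpose_one]
  map_mul' g h := by rw [_root_.mul_inv_rev, Bmat_mul, Matrix.transpose_mul]

/-- the inverse transpose matrix of conjugation -/
noncomputable def AG : G →* GL (Fin (n + 1)) (ZMod 2) := (Amat U ε).toHomUnits

theorem coe_AG (g : G) : ((AG U ε g : GL (Fin (n + 1)) (ZMod 2)) : M1 n) = (Bmat U ε g⁻¹)ᵀ := rfl

theorem vecMul_AG_inv (g : G) (x : Fin (n + 1) → ZMod 2) :
    x ᵥ* (((AG U ε g)⁻¹ : GL (Fin (n + 1)) (ZMod 2)) : M1 n) = cA U ε g x := by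
  rw [← map_inv, coe_AG, inv_inv, Matrix.vecMul_transpose, Bmat_mulVec]

/-- the embedding of `U` -/
noncomputable def f1 : ↥U →* SLn n where
  toFun u := q (ε (Additive.ofMul u)) 0
  map_one' := by rw [ofMul_one, map_zero, q_zero]
  map_mul' u v := by
    rw [ofMul_mul, map_add, q_mul, pr_zero_right, zero_smul, add_zero, add_zero]

omit hUn in
theorem f1_apply (u : ↥U) : f1 U ε u = q (ε (Additive.ofMul u)) 0 := rfl

omit hUn in
theorem f1_injective : Function.Injective (f1 U ε) := by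
  intro u v h
  rw [f1_apply, f1_apply] at h
  have h1 := congrArg Prod.fst (q_injective (a₁ := (ε (Additive.ofMul u), 0))
    (a₂ := (ε (Additive.ofMul v), 0)) h)
  exact Additive.ofMul.injective (ε.injective h1)

theorem f1_conj (g : G) (u : ↥U) :
    f1 U ε ⟨g * u * g⁻¹, hUn.conj_mem u u.2 g⟩ =
      sig1 n (AG U ε g) * f1 U ε u * (sig1 n (AG U ε g))⁻¹ := by
  rw [f1_apply, f1_apply, sig1_conj, vecMul_AG_inv, cA_eps]
  rfl

end coord

end Cfsg.Agent.Lib.Helper8.TvCent
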