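import Cfsg.Agent.Lib.Helper8.TvCentI

/-!
# The embedding of a split extension `U : Aut(U)` into `SL_{n+2}(2)`
-/

set_option autoImplicit false

namespace Cfsg.Agent.Lib.Helper8.TvCent

open Matrix Cfsg

local notation "SLn" n => Matrix.SpecialLinearGroup (Fin (n + 2)) (ZMod 2)
local notation "Mn" n => Matrix (Fin (n + 2)) (Fin (n + 2)) (ZMod 2)
local notation "M1" n => Matrix (Fin (n + 1)) (Fin (n + 1)) (ZMod 2)

theorem q_sig1_entry {n : ℕ} (b : Fin (n + 1) → ZMod 2) (A : GL (Fin (n + 1)) (ZMod 2))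
    (h : q b (0 : Fin n → ZMod 2) = sig1 n A) : b = 0 := by
  ext j
  have h1 := congrFun (congrFun (congrArg Subtype.val h) 0) (Fin.succ j)
  change ((q b 0 : SLn n) : Mn n) 0 (Fin.succ j) = ((sig1 n A : SLn n) : Mn n) 0 (Fin.succ j) at h1
  rw [coe_q, coe_sig1, Matrix.add_apply, Nm_zero_succ, blk1_zero, e0_app_succ,
    Matrix.one_apply_ne (Fin.succ_ne_zero _).symm, zero_add] at h1
  exact h1

theorem matrix_eq_of_vecMul {k : ℕ} {A B : Matrix (Fin k) (Fin k) (ZMod 2)}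
    (h : ∀ x : Fin k → ZMod 2, x ᵥ* A = x ᵥ* B) : A = B := by
  ext i j
  have h1 := congrFun (h (Pi.single i 1)) j
  rw [Matrix.single_one_vecMul, Matrix.single_one_vecMul] at h1
  exact h1

/-- right multiplication by an invertible matrix as an additive equivalence -/
def vmEquiv {k : ℕ} (A : GL (Fin k) (ZMod 2)) : (Fin k → ZMod 2) ≃+ (Fin k → ZMod 2) where
  toFun x := x ᵥ* ((A⁻¹ : GL (Fin k) (ZMod 2)) : Matrix (Fin k) (Fin k) (ZMod 2))
  invFun x := x ᵥ* (A : Matrix (Fin k) (Fin k) (ZMod 2))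
  left_inv x := by
    change (x ᵥ* ((A⁻¹ : GL (Fin k) (ZMod 2)) : Matrix (Fin k) (Fin k) (ZMod 2))) ᵥ*
      (A : Matrix (Fin k) (Fin k) (ZMod 2)) = x
    rw [Matrix.vecMul_vecMul, ← Units.val_mul, inv_mul_cancel, Units.val_one, Matrix.vecMul_one]
  right_inv x := by
    change (x ᵥ* (A : Matrix (Fin k) (Fin k) (ZMod 2))) ᵥ*
      ((A⁻¹ : GL (Fin k) (ZMod 2)) : Matrix (Fin k) (Fin k) (ZMod 2)) = x
    rw [Matrix.vecMul_vecMul, ← Units.val_mul, mul_inv_cancel, Units.val_one, Matrix.vecMul_one]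
  map_add' x y := Matrix.add_vecMul _ _ _

theorem exists_embedding {G : Type*} [Group G] [Finite G] (n : ℕ) (U M : Subgroup G)
    [hUn : U.Normal] (hU : IsElementaryAbelian 2 U) (hUcard : Nat.card ↥U = 2 ^ (n + 1))
    (hUM : U ⊓ M = ⊥) (hUM' : U ⊔ M = ⊤)
    (hfaith : ∀ m ∈ M, (∀ u ∈ U, m * u * m⁻¹ = u) → m = 1)
    (hfull : ∀ φ : ↥U ≃* ↥U, ∃ m ∈ M, ∀ u : ↥U, ((φ u : ↥U) : G) = m * u * m⁻¹)
    (z : G) (hzU : z ∈ U) (hz1 : z ≠ 1) :
    ∃ Ψ : G →* SLn n, Function.Injective Ψ ∧ Ψ z = zS n ∧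
      ∀ c : SLn n, c * zS n = zS n * c → c ∈ Ψ.range := by
  obtain ⟨ε0⟩ := exists_addEquiv U hU (n + 1) hUcard
  have hv0 : ε0 (Additive.ofMul (⟨z, hzU⟩ : ↥U)) ≠ 0 := by
    intro h
    apply hz1
    have h1 : Additive.ofMul (⟨z, hzU⟩ : ↥U) = 0 := by
      apply ε0.injective
      rw [h, map_zero]
    have h2 : (⟨z, hzU⟩ : ↥U) = 1 := h1
    exact congrArg Subtype.val h2
  obtain ⟨T, hT⟩ := exists_addEquiv_single _ hv0
  set ε : Additive ↥U ≃+ (Fin (n + 1) → ZMod 2) := ε0.trans T with hε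
  have hεz : ε (Additive.ofMul (⟨z, hzU⟩ : ↥U)) = sv n := hT
  let f₂ : ↥M →* SLn n := (sig1 n).comp ((AG U ε).comp M.subtype)
  have hf₂ : ∀ m : ↥M, f₂ m = sig1 n (AG U ε (m : G)) := fun m => rfl
  obtain ⟨Ψ, hΨ⟩ := exists_hom_of_complement U M hUM hUM' (f1 U ε) f₂
    (fun m u => f1_conj U ε m u)
  have hdec : ∀ g : G, ∃ (u : ↥U) (m : ↥M), g = (u : G) * (m : G) := by
    intro g
    have hg : g ∈ U ⊔ M := by rw [hUM']; exact Subgroup.mem_top g
    obtain ⟨u, hu, m, hm, rfl⟩ := Subgroup.mem_sup_of_normal_left.mp hg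
    exact ⟨⟨u, hu⟩, ⟨m, hm⟩, rfl⟩
  refine ⟨Ψ, ?_, ?_, ?_⟩
  · rw [injective_iff_map_eq_one]
    intro g hg
    obtain ⟨u, m, rfl⟩ := hdec g
    rw [hΨ, hf₂, f1_apply] at hg
    have h1 : q (ε (Additive.ofMul u)) (0 : Fin n → ZMod 2) = sig1 n (AG U ε (m : G))⁻¹ := by
      rw [map_inv]
      exact eq_inv_of_mul_eq_one_left hg
    have h2 := q_sig1_entry _ _ h1
    have hu1 : u = 1 := by
      have h3 : Additive.ofMul u = 0 := by
        apply ε.injective
        rw [h2, map_zero]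
      exact h3
    rw [h2, q_zero, one_mul] at hg
    have hA : AG U ε (m : G) = 1 := by
      apply sig1_injective
      rw [hg, map_one]
    have hm1 : (m : G) = 1 := by
      apply hfaith _ m.2
      intro u' hu'
      have h4 := vecMul_AG_inv U ε (m : G) (ε (Additive.ofMul (⟨u', hu'⟩ : ↥U)))
      rw [hA, inv_one, Units.val_one, Matrix.vecMul_one, cA_eps] at h4
      have h5 : MulAut.conjNormal (m : G) (⟨u', hu'⟩ : ↥U) = ⟨u', hu'⟩ :=
        Additive.ofMul.injective (ε.injective h4.symm)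
      have h6 := congrArg Subtype.val h5
      rw [MulAut.conjNormal_apply] at h6
      exact h6
    rw [hu1, hm1, Subgroup.coe_one, one_mul]
  · have h1 : z = ((⟨z, hzU⟩ : ↥U) : G) * ((1 : ↥M) : G) := by
      rw [Subgroup.coe_one, mul_one]
    rw [h1, hΨ, map_one, mul_one, f1_apply, hεz, zS]
  · intro c hc
    have hcS : c ∈ St1 n := ((comm_zS_iff c).mp hc).1
    obtain ⟨b, A, rfl⟩ := St1_decomp hcS
    -- the automorphism of `U` attached to `A`
    let ψ : Additive ↥U ≃+ Additive ↥U := ε.trans ((vmEquiv A).trans ε.symm)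
    let φA : ↥U ≃* ↥U := MulEquiv.toAdditive.symm ψ
    obtain ⟨m, hmM, hm⟩ := hfull φA
    have hAm : AG U ε m = A := by
      apply inv_injective
      apply Units.ext
      apply matrix_eq_of_vecMul
      intro x
      rw [vecMul_AG_inv, cA_apply]
      have h1 : MulAut.conjNormal m (Additive.toMul (ε.symm x)) =
          φA (Additive.toMul (ε.symm x)) := by
        apply Subtype.ext
        rw [MulAut.conjNormal_apply, hm]
      rw [h1]
      have h2 : Additive.ofMul (φA (Additive.toMul (ε.symm x))) = ψ (ε.symm x) := rfl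
      rw [h2]
      change ε (ε.symm ((vmEquiv A) (ε (ε.symm x)))) = _
      rw [AddEquiv.apply_symm_apply, AddEquiv.apply_symm_apply]
      rfl
    refine ⟨((Additive.toMul (ε.symm b) : ↥U) : G) * ((⟨m, hmM⟩ : ↥M) : G), ?_⟩
    rw [hΨ, hf₂, f1_apply, ofMul_toMul, AddEquiv.apply_symm_apply, hAm]

end Cfsg.Agent.Lib.Helper8.TvCent
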