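import Mathlib

/-!
Doubly transitive groups of degree `n ≡ 2 (mod 4)`, part A: signs of involutions and the
impossibility of a semiregular minimal normal subgroup.
-/

namespace Cfsg.Agent.Lib.Helper8.TwoModFour

open MulAction

/-- an involutory permutation: parity of the number of 2-cycles -/
theorem sign_invol {X : Type*} [Fintype X] [DecidableEq X] (σ : Equiv.Perm X) (h : σ ^ 2 = 1) :
    ∃ k, σ.support.card = 2 * k ∧ Equiv.Perm.sign σ = (-1) ^ k := by
  by_cases h1 : σ = 1
  · exact ⟨0, by simp [h1], by simp [h1]⟩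
  · have hord : orderOf σ = 2 := orderOf_eq_prime h h1
    obtain ⟨n, hn⟩ := Equiv.Perm.cycleType_prime_order (σ := σ) (by rw [hord]; exact Nat.prime_two)
    rw [hord] at hn
    refine ⟨n + 1, ?_, ?_⟩
    · rw [← Equiv.Perm.sum_cycleType, hn, Multiset.sum_replicate, smul_eq_mul, mul_comm]
    · rw [Equiv.Perm.sign_of_cycleType, hn, Multiset.sum_replicate, Multiset.card_replicate,
        smul_eq_mul]
      have : (n + 1) * 2 + (n + 1) = 2 * (n + 1) + (n + 1) := by ring
      rw [this, pow_add, pow_mul]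
      simp

/-- a fixed-point-free involutory permutation of a set of size not divisible by 4 is odd -/
theorem sign_fpf {X : Type*} [Fintype X] [DecidableEq X] (σ : Equiv.Perm X) (h : σ ^ 2 = 1)
    (hfpf : ∀ x, σ x ≠ x) (hX : ¬ 4 ∣ Fintype.card X) : Equiv.Perm.sign σ = -1 := by
  obtain ⟨k, hk, hs⟩ := sign_invol σ h
  have hsupp : σ.support = Finset.univ := by
    ext x
    simp [Equiv.Perm.mem_support, hfpf x]
  rw [hsupp, Finset.card_univ] at hk
  have hodd : Odd k := by
    rcases Nat.even_or_odd k with ⟨j, hj⟩ | ho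
    · exfalso
      apply hX
      exact ⟨j, by omega⟩
    · exact ho
  rw [hs, hodd.neg_one_pow]

section regular

/-- the sign character of a permutation action on a finite set -/
noncomputable def sgnHom (G : Type*) [Group G] (Ω : Type*) [Finite Ω] [MulAction G Ω] : G →* ℤˣ :=
  (@Equiv.Perm.sign Ω (Classical.decEq Ω) (Fintype.ofFinite Ω)).comp (MulAction.toPermHom G Ω)

theorem sgnHom_apply {G : Type*} [Group G] {Ω : Type*} [Finite Ω] [MulAction G Ω] (t : G) :
    sgnHom G Ω t =
      @Equiv.Perm.sign Ω (Classical.decEq Ω) (Fintype.ofFinite Ω) (MulAction.toPermHom G Ω t) :=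
  rfl

theorem sgnHom_eq_neg_one {G : Type*} [Group G] {Ω : Type*} [Finite Ω] [MulAction G Ω]
    (hn : ¬ 4 ∣ Nat.card Ω) (t : G) (ht : ∀ ω : Ω, t • t • ω = ω)
    (hfpf : ∀ ω : Ω, t • ω ≠ ω) : sgnHom G Ω t = -1 := by
  rw [sgnHom_apply]
  letI : DecidableEq Ω := Classical.decEq Ω
  letI : Fintype Ω := Fintype.ofFinite Ω
  have h2 : (MulAction.toPermHom G Ω t) ^ 2 = 1 := by
    ext ω
    rw [pow_two]
    exact ht ω
  rw [Nat.card_eq_fintype_card] at hn
  exact sign_fpf (MulAction.toPermHom G Ω t) h2 (fun x => hfpf x) hn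

theorem sgnHom_eq_one_of_trivial {G : Type*} [Group G] {Ω : Type*} [Finite Ω] [MulAction G Ω]
    (t : G) (ht : ∀ ω : Ω, t • ω = ω) : sgnHom G Ω t = 1 := by
  rw [sgnHom_apply]
  have : MulAction.toPermHom G Ω t = 1 := by
    ext ω
    exact ht ω
  rw [this, map_one]

variable {G : Type*} [Group G] [Finite G] {Ω : Type*} [Fintype Ω] [MulAction G Ω]

/-- **No semiregular minimal normal subgroup** in degree `n ≡ 2 (mod 4)`, `n > 2`. -/
theorem not_semiregular [FaithfulSMul G Ω] (hn : Fintype.card Ω % 4 = 2)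
    (hn2 : 2 < Fintype.card Ω) (M : Subgroup G) [hMn : M.Normal]
    (hmin : ∀ K : Subgroup G, K.Normal → K ≤ M → K = ⊥ ∨ K = M)
    (htr : ∀ a b : Ω, ∃ m ∈ M, m • a = b)
    (hsr : ∀ m ∈ M, ∀ a : Ω, m • a = a → m = 1) : False := by
  classical
  have hne : Nonempty Ω := by
    rw [← Fintype.card_pos_iff]; omega
  obtain ⟨a₀⟩ := hne
  -- |M| = n
  have hcard : Nat.card M = Fintype.card Ω := by
    rw [← Nat.card_eq_fintype_card]
    apply Nat.card_eq_of_bijective (fun m : M => (m : G) • a₀)
    constructor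
    · intro m m' h
      have h' : (m : G) • a₀ = (m' : G) • a₀ := h
      have h1 : ((m' : G)⁻¹ * (m : G)) • a₀ = a₀ := by
        rw [mul_smul, h', inv_smul_smul]
      have h2 := hsr _ (M.mul_mem (M.inv_mem m'.2) m.2) a₀ h1
      apply Subtype.ext
      have : (m : G) = (m' : G) := by
        have := congrArg (fun z => (m' : G) * z) h2
        simpa using this
      exact this
    · intro b
      obtain ⟨m, hm, hmb⟩ := htr a₀ b
      exact ⟨⟨m, hm⟩, hmb⟩
  -- an involution in M
  have h2dvd : 2 ∣ Nat.card M := by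
    rw [hcard]; omega
  have : Fact (Nat.Prime 2) := ⟨Nat.prime_two⟩
  obtain ⟨t, ht⟩ := exists_prime_orderOf_dvd_card' 2 h2dvd
  have ht1 : (t : G) ≠ 1 := by
    intro h
    have : t = 1 := Subtype.ext h
    rw [this, orderOf_one] at ht
    omega
  have ht2 : (t : G) ^ 2 = 1 := by
    have := pow_orderOf_eq_one t
    rw [ht] at this
    exact congrArg Subtype.val this
  have hfpf : ∀ ω : Ω, (t : G) • ω ≠ ω := fun ω h => ht1 (hsr _ t.2 ω h)
  have hn4 : ¬ 4 ∣ Nat.card Ω := by
    rw [Nat.card_eq_fintype_card]; omega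
  have hsgn : sgnHom G Ω (t : G) = -1 :=
    sgnHom_eq_neg_one hn4 _ (fun ω => by rw [smul_smul, ← pow_two, ht2, one_smul]) hfpf
  -- the even part of M is trivial
  have hK : M ⊓ (sgnHom G Ω).ker = ⊥ := by
    rcases hmin (M ⊓ (sgnHom G Ω).ker) inferInstance inf_le_left with h | h
    · exact h
    · exfalso
      have hle : M ≤ M ⊓ (sgnHom G Ω).ker := h.symm.le
      have h1 : sgnHom G Ω (t : G) = 1 := MonoidHom.mem_ker.mp (hle t.2).2
      rw [hsgn] at h1
      exact absurd h1 (by decide)
  -- so M has at most two elements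
  have hle : Nat.card M ≤ 2 := by
    have hinj : Function.Injective (fun m : M => sgnHom G Ω (m : G)) := by
      intro m m' h
      have h' : sgnHom G Ω (m : G) = sgnHom G Ω (m' : G) := h
      have hmem : (m' : G)⁻¹ * (m : G) ∈ M ⊓ (sgnHom G Ω).ker := by
        refine ⟨M.mul_mem (M.inv_mem m'.2) m.2, ?_⟩
        show (m' : G)⁻¹ * (m : G) ∈ (sgnHom G Ω).ker
        rw [MonoidHom.mem_ker, map_mul, map_inv, h', inv_mul_cancel]
      rw [hK, Subgroup.mem_bot] at hmem
      apply Subtype.ext
      have := congrArg (fun z => (m' : G) * z) hmem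
      simpa using this
    have := Nat.card_le_card_of_injective _ hinj
    have h2 : Nat.card ℤˣ = 2 := by
      rw [Nat.card_eq_fintype_card]; rfl
    omega
  omega

end regular

end Cfsg.Agent.Lib.Helper8.TwoModFour
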