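import Mathlib
import Cfsg.Agent.Lib.Helper7.SylowLib
import Cfsg.Agent.Lib.Helper8.TwoModFourA

/-!
Doubly transitive groups of degree `n ≡ 2 (mod 4)`, part B: a transitive normal subgroup is
doubly transitive.
-/

namespace Cfsg.Agent.Lib.Helper8.TwoModFour

open MulAction Cfsg.Agent.Lib.Helper7

section prelim

variable {G : Type*} [Group G] {Ω : Type*} [MulAction G Ω]

theorem fact_two_of_mod_four (n : ℕ) (h : n % 4 = 2) : n.factorization 2 = 1 := by
  obtain ⟨m, hm⟩ : ∃ m, n = 2 * m := ⟨n / 2, by omega⟩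
  have hm0 : m ≠ 0 := by omega
  have hmodd : ¬ 2 ∣ m := by omega
  rw [hm, Nat.factorization_mul (by norm_num) hm0]
  simp [Nat.prime_two.factorization_self, Nat.factorization_eq_zero_of_not_dvd hmodd]

theorem mem_normalizer_of_map_conj_eq {T : Subgroup G} {h : G}
    (e : T.map (MulAut.conj h).toMonoidHom = T) : h ∈ Subgroup.normalizer (T : Set G) := by
  rw [Subgroup.mem_normalizer_iff]
  intro y
  constructor
  · intro hy
    rw [← e]
    exact ⟨y, hy, rfl⟩
  · intro hy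
    rw [← e] at hy
    obtain ⟨y', hy', e'⟩ := hy
    have e'' : h * y' * h⁻¹ = h * y * h⁻¹ := e'
    have : y' = y := mul_left_cancel (mul_right_cancel e'')
    rw [← this]
    exact hy'

theorem conj_mul_toMonoidHom (k g : G) :
    (MulAut.conj (k * g)).toMonoidHom =
      (MulAut.conj k).toMonoidHom.comp (MulAut.conj g).toMonoidHom := by
  ext y
  simp [MulAut.conj_apply, mul_assoc]

/-- the stabilizer in a subgroup, as a subgroup of the ambient group -/
def stabEquiv (N : Subgroup G) (α : Ω) : ↥(stabilizer ↥N α) ≃ ↥(N ⊓ stabilizer G α) where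
  toFun m := ⟨((m : ↥N) : G), ⟨(m : ↥N).2, m.2⟩⟩
  invFun g := ⟨⟨(g : G), g.2.1⟩, g.2.2⟩
  left_inv _ := rfl
  right_inv _ := rfl

/-- orbit-stabilizer for a subgroup, in the ambient group -/
theorem card_eq_orbit_mul_stab [Finite G] (N : Subgroup G) (α : Ω) (S : Set Ω)
    (hS : ∀ ω, ω ∈ S ↔ ∃ m ∈ N, m • α = ω) :
    Nat.card N = S.ncard * Nat.card ↥(N ⊓ stabilizer G α) := by
  have h1 := Subgroup.card_mul_index (stabilizer ↥N α)
  rw [MulAction.index_stabilizer] at h1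
  have h2 : orbit ↥N α = S := by
    ext ω
    rw [hS, MulAction.mem_orbit_iff]
    constructor
    · rintro ⟨m, hm⟩
      exact ⟨(m : G), m.2, hm⟩
    · rintro ⟨m, hm, hmω⟩
      exact ⟨⟨m, hm⟩, hmω⟩
  rw [h2, Nat.card_congr (stabEquiv N α)] at h1
  rw [← h1, mul_comm]

end prelim

section fixed

variable {G : Type*} [Group G] (Ω : Type*) [MulAction G Ω]

/-- the fixed points of a subgroup `T`, as a set acted on by the normalizer of `T` -/
def FS (T : Subgroup G) : SubMulAction ↥(Subgroup.normalizer (T : Set G)) Ω where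
  carrier := {ω | ∀ t ∈ T, t • ω = ω}
  smul_mem' := by
    intro g ω hω t ht
    have hg : (g : G)⁻¹ ∈ Subgroup.normalizer (T : Set G) := Subgroup.inv_mem _ g.2
    have h1 : (g : G)⁻¹ * t * ((g : G)⁻¹)⁻¹ ∈ T := (Subgroup.mem_normalizer_iff.mp hg t).mp ht
    have h2 := hω _ h1
    show t • ((g : G) • ω) = (g : G) • ω
    have h3 : t • ((g : G) • ω) = (g : G) • (((g : G)⁻¹ * t * ((g : G)⁻¹)⁻¹) • ω) := by
      rw [smul_smul, smul_smul]
      congr 1
      group
    rw [h3, h2]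

variable {Ω}

theorem mem_FS {T : Subgroup G} {ω : Ω} : ω ∈ FS Ω T ↔ ∀ t ∈ T, t • ω = ω := Iff.rfl

theorem smul_mem_FS {T : Subgroup G} {g : G} (hg : g ∈ Subgroup.normalizer (T : Set G)) {ω : Ω}
    (hω : ω ∈ FS Ω T) : g • ω ∈ FS Ω T :=
  (FS Ω T).smul_mem ⟨g, hg⟩ hω

theorem coe_smul_FS {T : Subgroup G} (g : ↥(Subgroup.normalizer (T : Set G))) (ω : ↥(FS Ω T)) :
    (g • ω : ↥(FS Ω T)).1 = (g : G) • ω.1 := rfl

end fixed

section main

variable {G : Type*} [Group G] [Finite G] {Ω : Type*} [Fintype Ω] [MulAction G Ω]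

/-- **A transitive normal subgroup of a doubly transitive group of degree `≡ 2 (mod 4)` is doubly
transitive.** -/
theorem two_trans_of_normal (h2 : IsMultiplyPretransitive G Ω 2) (hn : Fintype.card Ω % 4 = 2)
    (M : Subgroup G) [hMn : M.Normal] (htr : ∀ a b : Ω, ∃ m ∈ M, m • a = b) (α : Ω) :
    ∀ β β' : Ω, β ≠ α → β' ≠ α → ∃ m ∈ M, m • α = α ∧ m • β = β' := by
  classical
  have h2' : ∀ {a b c d : Ω}, a ≠ b → c ≠ d → ∃ g : G, g • a = c ∧ g • b = d :=
    is_two_pretransitive_iff.mp h2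
  have hp2 : Fact (Nat.Prime 2) := ⟨Nat.prime_two⟩
  -- cards
  have hcardM : ∀ φ : Ω, Nat.card M = Fintype.card Ω * Nat.card ↥(M ⊓ stabilizer G φ) := by
    intro φ
    have := card_eq_orbit_mul_stab M φ Set.univ
      (fun ω => ⟨fun _ => htr φ ω, fun _ => Set.mem_univ ω⟩)
    rw [Set.ncard_univ, Nat.card_eq_fintype_card (α := Ω)] at this
    exact this
  have hn0 : Fintype.card Ω ≠ 0 := by omega
  have hc : ∀ φ : Ω, Nat.card ↥(M ⊓ stabilizer G φ) = Nat.card ↥(M ⊓ stabilizer G α) := by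
    intro φ
    have h1 := hcardM φ
    rw [hcardM α] at h1
    exact (Nat.eq_of_mul_eq_mul_left (Nat.pos_of_ne_zero hn0) h1).symm
  have hc0 : Nat.card ↥(M ⊓ stabilizer G α) ≠ 0 := Nat.card_pos.ne'
  have hvM : (Nat.card M).factorization 2 =
      (Nat.card ↥(M ⊓ stabilizer G α)).factorization 2 + 1 := by
    rw [hcardM α, Nat.factorization_mul hn0 hc0, Finsupp.add_apply, fact_two_of_mod_four _ hn,
      add_comm]
  -- T
  obtain ⟨T, hT, -⟩ := exists_isSylowIn_ge (p := 2) (Q := ⊥) (H := M ⊓ stabilizer G α)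
    IsPGroup.of_bot bot_le
  have hTM : T ≤ M := hT.1.trans inf_le_left
  have hTα : ∀ t ∈ T, t • α = α := fun t ht => (Subgroup.mem_inf.mp (hT.1 ht)).2
  -- 2-subgroups of point stabilizers in M are no bigger than T
  have hK1 : ∀ (φ : Ω) (Q : Subgroup G), Q ≤ M ⊓ stabilizer G φ → IsPGroup 2 Q →
      Nat.card Q ≤ Nat.card T := by
    intro φ Q hQ hQ2
    obtain ⟨j, hj⟩ := IsPGroup.iff_card.mp hQ2
    have hdvd : 2 ^ j ∣ Nat.card ↥(M ⊓ stabilizer G α) := by
      rw [← hj, ← hc φ]; exact Subgroup.card_dvd_of_le hQ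
    have hjle := (Nat.prime_two.pow_dvd_iff_le_factorization hc0).mp hdvd
    rw [hj, hT.2]
    exact Nat.pow_le_pow_right (by norm_num) hjle
  -- P and x
  obtain ⟨P, hP, hTP⟩ := exists_isSylowIn_ge (p := 2) (H := M) hT.isPGroup hTM
  have hT0 : 0 < Nat.card T := Nat.card_pos
  have hPcard : Nat.card P = 2 * Nat.card T := by
    rw [hP.2, hvM, hT.2, pow_succ, mul_comm]
  have hrel : T.relIndex P = 2 := by
    have h1 := Subgroup.card_mul_index (T.subgroupOf P)
    rw [card_subgroupOf_of_le hTP, hPcard] at h1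
    have h1' : Nat.card T * (T.subgroupOf P).index = Nat.card T * 2 := by rw [h1, mul_comm]
    exact Nat.eq_of_mul_eq_mul_left hT0 h1'
  obtain ⟨x, hxP, hx⟩ := Subgroup.relIndex_eq_two_iff.mp hrel
  have hxT : x ∉ T := by
    have := hx 1 P.one_mem
    rw [one_mul] at this
    rcases this with ⟨-, h'⟩ | ⟨-, h'⟩
    · exact absurd T.one_mem h'
    · exact h'
  have hxM : x ∈ M := hP.1 hxP
  have hPT : ∀ p ∈ P, p ∈ T ∨ p * x ∈ T := by
    intro p hp
    rcases hx p hp with ⟨h, -⟩ | ⟨h, -⟩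
    · exact Or.inr h
    · exact Or.inl h
  have hxx : x * x ∈ T := by
    rcases hPT x hxP with h | h
    · exact absurd h hxT
    · exact h
  have hconj : ∀ t ∈ T, x * t * x⁻¹ ∈ T := by
    intro t ht
    have hp : x * t * x⁻¹ ∈ P := P.mul_mem (P.mul_mem hxP (hTP ht)) (P.inv_mem hxP)
    rcases hPT _ hp with h | h
    · exact h
    · exfalso
      have h1 : x * t ∈ T := by
        have e : x * t * x⁻¹ * x = x * t := by group
        rwa [e] at h
      have h2 : x ∈ T := by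
        have := T.mul_mem h1 (T.inv_mem ht)
        have e : x * t * t⁻¹ = x := by group
        rwa [e] at this
      exact hxT h2
  have hxN : x ∈ Subgroup.normalizer (T : Set G) := by
    rw [Subgroup.mem_normalizer_iff]
    intro y
    constructor
    · exact hconj y
    · intro hy
      have h1 : (x * x)⁻¹ * (x * y * x⁻¹) * (x * x) ∈ T :=
        T.mul_mem (T.mul_mem (T.inv_mem hxx) hy) hxx
      have h2 := hconj _ h1
      have h3 : x * ((x * x)⁻¹ * (x * y * x⁻¹) * (x * x)) * x⁻¹ = y := by group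
      rwa [h3] at h2
  have hxfpf : ∀ φ : Ω, (∀ t ∈ T, t • φ = φ) → x • φ ≠ φ := by
    intro φ hφ hxφ
    have hPφ : P ≤ M ⊓ stabilizer G φ := by
      intro p hp
      refine Subgroup.mem_inf.mpr ⟨hP.1 hp, ?_⟩
      rw [MulAction.mem_stabilizer_iff]
      rcases hPT p hp with h | h
      · exact hφ p h
      · have := hφ _ h
        rw [mul_smul, hxφ] at this
        exact this
    have := hK1 φ P hPφ hP.isPGroup
    rw [hPcard] at this
    omega
  -- Witt's lemma for the stabilizer of `α`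
  have claim5 : ∀ δ δ' : Ω, (∀ t ∈ T, t • δ = δ) → (∀ t ∈ T, t • δ' = δ') → δ ≠ α → δ' ≠ α →
      ∃ h : G, h ∈ Subgroup.normalizer (T : Set G) ∧ h • α = α ∧ h • δ = δ' := by
    intro δ δ' hδ hδ' hδα hδ'α
    obtain ⟨g, hgα, hgδ⟩ := h2' (a := α) (b := δ) (c := α) (d := δ') hδα.symm hδ'α.symm
    have hginvα : g⁻¹ • α = α := by rw [inv_smul_eq_iff, hgα]
    have hginvδ : g⁻¹ • δ' = δ := by rw [inv_smul_eq_iff, hgδ]
    have hTK : T ≤ M ⊓ stabilizer G α ⊓ stabilizer G δ' := by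
      intro t ht
      exact Subgroup.mem_inf.mpr ⟨hT.1 ht, MulAction.mem_stabilizer_iff.mpr (hδ' t ht)⟩
    have hT'K : T.map (MulAut.conj g).toMonoidHom ≤ M ⊓ stabilizer G α ⊓ stabilizer G δ' := by
      rintro _ ⟨t, ht, rfl⟩
      show g * t * g⁻¹ ∈ M ⊓ stabilizer G α ⊓ stabilizer G δ'
      refine Subgroup.mem_inf.mpr ⟨Subgroup.mem_inf.mpr ⟨hMn.conj_mem t (hTM ht) g, ?_⟩, ?_⟩
      · rw [MulAction.mem_stabilizer_iff, mul_smul, mul_smul, hginvα, hTα t ht, hgα]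
      · rw [MulAction.mem_stabilizer_iff, mul_smul, mul_smul, hginvδ, hδ t ht, hgδ]
    have hKle : M ⊓ stabilizer G α ⊓ stabilizer G δ' ≤ M ⊓ stabilizer G α := inf_le_left
    have hK0 : Nat.card ↥(M ⊓ stabilizer G α ⊓ stabilizer G δ') ≠ 0 := Nat.card_pos.ne'
    have hfK : (Nat.card ↥(M ⊓ stabilizer G α ⊓ stabilizer G δ')).factorization 2 =
        (Nat.card ↥(M ⊓ stabilizer G α)).factorization 2 := by
      apply le_antisymm
      · exact (Nat.factorization_le_iff_dvd hK0 hc0).mpr (Subgroup.card_dvd_of_le hKle) 2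
      · have : 2 ^ (Nat.card ↥(M ⊓ stabilizer G α)).factorization 2 ∣
            Nat.card ↥(M ⊓ stabilizer G α ⊓ stabilizer G δ') := by
          rw [← hT.2]; exact Subgroup.card_dvd_of_le hTK
        exact (Nat.prime_two.pow_dvd_iff_le_factorization hK0).mp this
    have hS1 : IsSylowIn 2 T (M ⊓ stabilizer G α ⊓ stabilizer G δ') := ⟨hTK, by rw [hT.2, hfK]⟩
    have hS2 : IsSylowIn 2 (T.map (MulAut.conj g).toMonoidHom)
        (M ⊓ stabilizer G α ⊓ stabilizer G δ') :=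
      ⟨hT'K, by rw [Subgroup.card_map_of_injective (MulAut.conj g).injective, hT.2, hfK]⟩
    obtain ⟨k, hkK, hk⟩ := hS2.conj hS1
    refine ⟨k * g, ?_, ?_, ?_⟩
    · apply mem_normalizer_of_map_conj_eq
      rw [conj_mul_toMonoidHom, ← Subgroup.map_map, ← hk]
    · rw [mul_smul, hgα]
      exact (Subgroup.mem_inf.mp (Subgroup.mem_inf.mp hkK).1).2
    · rw [mul_smul, hgδ]
      exact (Subgroup.mem_inf.mp hkK).2
  -- the fixed point set
  have hαF : α ∈ FS Ω T := fun t ht => hTα t ht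
  have hxα : x • α ∈ FS Ω T := smul_mem_FS hxN hαF
  have hxαne : x • α ≠ α := hxfpf α hTα
  have hNtr : ∀ φ : Ω, φ ∈ FS Ω T →
      ∃ k : ↥(Subgroup.normalizer (T : Set G)), (k : G) ∈ M ∧ (k : G) • α = φ := by
    intro φ hφ
    by_cases hφα : φ = α
    · refine ⟨1, M.one_mem, ?_⟩
      rw [hφα]
      exact one_smul _ _
    · obtain ⟨h, hhN, hhα, hhx⟩ := claim5 (x • α) φ hxα hφ hxαne hφα
      refine ⟨⟨h * x * h⁻¹, ?_⟩, ?_, ?_⟩
      · exact Subgroup.mul_mem _ (Subgroup.mul_mem _ hhN hxN) (Subgroup.inv_mem _ hhN)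
      · exact hMn.conj_mem x hxM h
      · show (h * x * h⁻¹) • α = φ
        have : h⁻¹ • α = α := by rw [inv_smul_eq_iff, hhα]
        rw [mul_smul, mul_smul, this, hhx]
  have hfin : Finite ↥(FS Ω T) := Subtype.finite
  -- the size of the fixed point set is not divisible by 4
  have hF4 : ¬ 4 ∣ Nat.card ↥(FS Ω T) := by
    intro h4
    have h1 := card_eq_orbit_mul_stab (M ⊓ Subgroup.normalizer (T : Set G)) α (FS Ω T : Set Ω)
      (by
        intro ω
        constructor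
        · intro hω
          obtain ⟨k, hkM, hkα⟩ := hNtr ω hω
          exact ⟨(k : G), Subgroup.mem_inf.mpr ⟨hkM, k.2⟩, hkα⟩
        · rintro ⟨m, hm, rfl⟩
          exact smul_mem_FS (Subgroup.mem_inf.mp hm).2 hαF)
    have hTle : T ≤ (M ⊓ Subgroup.normalizer (T : Set G)) ⊓ stabilizer G α := by
      intro t ht
      exact Subgroup.mem_inf.mpr ⟨Subgroup.mem_inf.mpr ⟨hTM ht, Subgroup.le_normalizer ht⟩,
        MulAction.mem_stabilizer_iff.mpr (hTα t ht)⟩
    have h2c : Nat.card T ∣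
        Nat.card ↥((M ⊓ Subgroup.normalizer (T : Set G)) ⊓ stabilizer G α) :=
      Subgroup.card_dvd_of_le hTle
    have h3 : Nat.card ↥(M ⊓ Subgroup.normalizer (T : Set G)) ∣ Nat.card M :=
      Subgroup.card_dvd_of_le inf_le_left
    have h5 : (FS Ω T : Set Ω).ncard = Nat.card ↥(FS Ω T) := (Nat.card_coe_set_eq _).symm
    have h6 : 4 * Nat.card T ∣ Nat.card M := by
      refine dvd_trans ?_ h3
      rw [h1, h5]
      exact Nat.mul_dvd_mul h4 h2c
    rw [hT.2] at h6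
    have h7 : 2 ^ ((Nat.card ↥(M ⊓ stabilizer G α)).factorization 2 + 2) ∣ Nat.card M := by
      rw [pow_add, mul_comm]
      exact h6
    have h8 := (Nat.prime_two.pow_dvd_iff_le_factorization (Nat.card_pos.ne')).mp h7
    omega
  -- the sign character on the fixed point set
  have f3 : ∀ t : ↥(Subgroup.normalizer (T : Set G)), (t : G) ∈ T →
      sgnHom ↥(Subgroup.normalizer (T : Set G)) ↥(FS Ω T) t = 1 := by
    intro t ht
    apply sgnHom_eq_one_of_trivial
    intro ω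
    apply Subtype.ext
    rw [coe_smul_FS]
    exact ω.2 _ ht
  have f1 : sgnHom ↥(Subgroup.normalizer (T : Set G)) ↥(FS Ω T) ⟨x, hxN⟩ = -1 := by
    apply sgnHom_eq_neg_one hF4
    · intro ω
      apply Subtype.ext
      rw [coe_smul_FS, coe_smul_FS]
      show x • x • ω.1 = ω.1
      rw [smul_smul]
      exact ω.2 _ hxx
    · intro ω h
      have := congrArg Subtype.val h
      rw [coe_smul_FS] at this
      exact hxfpf ω.1 ω.2 this
  have f2 : ∀ g : ↥(Subgroup.normalizer (T : Set G)), (g : G) ∈ M → (g : G) • α = α →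
      sgnHom ↥(Subgroup.normalizer (T : Set G)) ↥(FS Ω T) g = 1 := by
    intro g hgM hgα
    obtain ⟨e, m, hm, hem⟩ := Nat.exists_eq_two_pow_mul_odd (orderOf_pos (g : G)).ne'
    have hy2 : ((g : G) ^ m) ^ (2 ^ e) = 1 := by
      rw [← pow_mul, mul_comm, ← hem, pow_orderOf_eq_one]
    have hZ2 : IsPGroup 2 (Subgroup.zpowers ((g : G) ^ m)) := by
      have hdvd : orderOf ((g : G) ^ m) ∣ 2 ^ e := orderOf_dvd_of_pow_eq_one hy2
      obtain ⟨j, -, hj⟩ := (Nat.dvd_prime_pow Nat.prime_two).mp hdvd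
      exact IsPGroup.of_card (n := j) (by rw [Nat.card_zpowers, hj])
    have hZN : Subgroup.zpowers ((g : G) ^ m) ≤ Subgroup.normalizer (T : Set G) := by
      rw [Subgroup.zpowers_le]
      exact Subgroup.pow_mem _ g.2 m
    have hQ2 : IsPGroup 2 ↥(T ⊔ Subgroup.zpowers ((g : G) ^ m)) :=
      IsPGroup.to_sup_of_normal_left' hT.isPGroup hZ2 hZN
    have hQle : T ⊔ Subgroup.zpowers ((g : G) ^ m) ≤ M ⊓ stabilizer G α := by
      apply sup_le hT.1
      rw [Subgroup.zpowers_le]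
      exact Subgroup.mem_inf.mpr ⟨M.pow_mem hgM m,
        Subgroup.pow_mem _ (MulAction.mem_stabilizer_iff.mpr hgα) m⟩
    have hcardle := hK1 α _ hQle hQ2
    have hQT : T = T ⊔ Subgroup.zpowers ((g : G) ^ m) :=
      Subgroup.eq_of_le_of_card_ge le_sup_left hcardle
    have hyT : (g : G) ^ m ∈ T := by
      have : (g : G) ^ m ∈ T ⊔ Subgroup.zpowers ((g : G) ^ m) :=
        (le_sup_right : Subgroup.zpowers ((g : G) ^ m) ≤ _) (Subgroup.mem_zpowers _)
      rwa [← hQT] at this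
    have h1 := f3 (g ^ m) hyT
    rw [map_pow] at h1
    rcases Int.units_eq_one_or (sgnHom ↥(Subgroup.normalizer (T : Set G)) ↥(FS Ω T) g) with h | h
    · exact h
    · rw [h, hm.neg_one_pow] at h1
      exact absurd h1 (by decide)
  have hconjsg : ∀ a b : ↥(Subgroup.normalizer (T : Set G)),
      sgnHom ↥(Subgroup.normalizer (T : Set G)) ↥(FS Ω T) (a * b * a⁻¹) =
        sgnHom ↥(Subgroup.normalizer (T : Set G)) ↥(FS Ω T) b := by
    intro a b
    rw [map_mul, map_mul, map_inv, mul_comm (sgnHom _ _ a), mul_assoc, mul_inv_cancel, mul_one]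
  -- elements of `N_M(T)` with trivial sign act trivially on the fixed point set
  have htriv : ∀ k : ↥(Subgroup.normalizer (T : Set G)), (k : G) ∈ M →
      sgnHom ↥(Subgroup.normalizer (T : Set G)) ↥(FS Ω T) k = 1 →
      ∀ φ : Ω, φ ∈ FS Ω T → (k : G) • φ = φ := by
    intro k hkM hk1 φ hφ
    by_contra hne
    obtain ⟨l, hlM, hlα⟩ := hNtr φ hφ
    have hk1M : ((l⁻¹ * k * l⁻¹⁻¹ : ↥(Subgroup.normalizer (T : Set G))) : G) ∈ M :=
      hMn.conj_mem (k : G) hkM ((l : G)⁻¹)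
    have hk1sg : sgnHom ↥(Subgroup.normalizer (T : Set G)) ↥(FS Ω T) (l⁻¹ * k * l⁻¹⁻¹) = 1 := by
      rw [hconjsg, hk1]
    have hk1α : ((l⁻¹ * k * l⁻¹⁻¹ : ↥(Subgroup.normalizer (T : Set G))) : G) • α ≠ α := by
      intro h
      apply hne
      have h' : ((l : G)⁻¹ * (k : G) * ((l : G)⁻¹)⁻¹) • α = α := h
      rw [inv_inv, mul_smul, mul_smul, hlα, inv_smul_eq_iff, hlα] at h'
      exact h'
    have hδF : ((l⁻¹ * k * l⁻¹⁻¹ : ↥(Subgroup.normalizer (T : Set G))) : G) • α ∈ FS Ω T :=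
      smul_mem_FS (l⁻¹ * k * l⁻¹⁻¹).2 hαF
    obtain ⟨h, hhN, hhα, hhδ⟩ := claim5 _ (x • α) hδF hxα hk1α hxαne
    have hk2M : (((⟨h, hhN⟩ : ↥(Subgroup.normalizer (T : Set G))) * (l⁻¹ * k * l⁻¹⁻¹) *
        (⟨h, hhN⟩ : ↥(Subgroup.normalizer (T : Set G)))⁻¹ :
        ↥(Subgroup.normalizer (T : Set G))) : G) ∈ M :=
      hMn.conj_mem _ hk1M h
    have hk2sg : sgnHom ↥(Subgroup.normalizer (T : Set G)) ↥(FS Ω T)
        ((⟨h, hhN⟩ : ↥(Subgroup.normalizer (T : Set G))) * (l⁻¹ * k * l⁻¹⁻¹) *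
        (⟨h, hhN⟩ : ↥(Subgroup.normalizer (T : Set G)))⁻¹) = 1 := by
      rw [hconjsg, hk1sg]
    have hk2α : (((⟨h, hhN⟩ : ↥(Subgroup.normalizer (T : Set G))) * (l⁻¹ * k * l⁻¹⁻¹) *
        (⟨h, hhN⟩ : ↥(Subgroup.normalizer (T : Set G)))⁻¹ :
        ↥(Subgroup.normalizer (T : Set G))) : G) • α = x • α := by
      show (h * ((l⁻¹ * k * l⁻¹⁻¹ : ↥(Subgroup.normalizer (T : Set G))) : G) * h⁻¹) • α = x • α
      have hinv : h⁻¹ • α = α := by rw [inv_smul_eq_iff, hhα]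
      rw [mul_smul, mul_smul, hinv, hhδ]
    have hgM : (((⟨x, hxN⟩ : ↥(Subgroup.normalizer (T : Set G)))⁻¹ *
        ((⟨h, hhN⟩ : ↥(Subgroup.normalizer (T : Set G))) * (l⁻¹ * k * l⁻¹⁻¹) *
        (⟨h, hhN⟩ : ↥(Subgroup.normalizer (T : Set G)))⁻¹) :
        ↥(Subgroup.normalizer (T : Set G))) : G) ∈ M :=
      M.mul_mem (M.inv_mem hxM) hk2M
    have hgα : (((⟨x, hxN⟩ : ↥(Subgroup.normalizer (T : Set G)))⁻¹ *
        ((⟨h, hhN⟩ : ↥(Subgroup.normalizer (T : Set G))) * (l⁻¹ * k * l⁻¹⁻¹) *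
        (⟨h, hhN⟩ : ↥(Subgroup.normalizer (T : Set G)))⁻¹) :
        ↥(Subgroup.normalizer (T : Set G))) : G) • α = α := by
      have e := hk2α
      show (x⁻¹ * (((⟨h, hhN⟩ : ↥(Subgroup.normalizer (T : Set G))) * (l⁻¹ * k * l⁻¹⁻¹) *
        (⟨h, hhN⟩ : ↥(Subgroup.normalizer (T : Set G)))⁻¹ :
        ↥(Subgroup.normalizer (T : Set G))) : G)) • α = α
      rw [mul_smul, e, inv_smul_smul]
    have := f2 _ hgM hgα
    rw [map_mul, map_inv, f1, hk2sg] at this
    exact absurd this (by decide)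
  have hF2 : ∀ φ : Ω, φ ∈ FS Ω T → φ = α ∨ φ = x • α := by
    intro φ hφ
    obtain ⟨k, hkM, hkα⟩ := hNtr φ hφ
    rcases Int.units_eq_one_or (sgnHom ↥(Subgroup.normalizer (T : Set G)) ↥(FS Ω T) k) with h | h
    · left
      rw [← hkα]
      exact htriv k hkM h α hαF
    · right
      have hsg1 : sgnHom ↥(Subgroup.normalizer (T : Set G)) ↥(FS Ω T)
          ((⟨x, hxN⟩ : ↥(Subgroup.normalizer (T : Set G)))⁻¹ * k) = 1 := by
        rw [map_mul, map_inv, f1, h]
        decide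
      have hM' : (((⟨x, hxN⟩ : ↥(Subgroup.normalizer (T : Set G)))⁻¹ * k :
          ↥(Subgroup.normalizer (T : Set G))) : G) ∈ M := M.mul_mem (M.inv_mem hxM) hkM
      have h' : (x⁻¹ * (k : G)) • α = α := htriv _ hM' hsg1 α hαF
      rw [mul_smul, hkα, inv_smul_eq_iff] at h'
      exact h'
  -- every point other than `α` is moved to `x • α` by the stabilizer of `α` in `M`
  have hstep8 : ∀ β : Ω, β ≠ α → ∃ m ∈ M, m • α = α ∧ m • β = x • α := by
    intro β hβ
    obtain ⟨g, hgα, hgβ⟩ := h2' (a := α) (b := x • α) (c := α) (d := β) hxαne.symm hβ.symm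
    have hginvα : g⁻¹ • α = α := by rw [inv_smul_eq_iff, hgα]
    have hginvβ : g⁻¹ • β = x • α := by rw [inv_smul_eq_iff, hgβ]
    have hT'le : T.map (MulAut.conj g).toMonoidHom ≤ M ⊓ stabilizer G α := by
      rintro _ ⟨t, ht, rfl⟩
      show g * t * g⁻¹ ∈ M ⊓ stabilizer G α
      refine Subgroup.mem_inf.mpr ⟨hMn.conj_mem t (hTM ht) g, ?_⟩
      rw [MulAction.mem_stabilizer_iff, mul_smul, mul_smul, hginvα, hTα t ht, hgα]
    have hS2 : IsSylowIn 2 (T.map (MulAut.conj g).toMonoidHom) (M ⊓ stabilizer G α) :=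
      ⟨hT'le, by rw [Subgroup.card_map_of_injective (MulAut.conj g).injective, hT.2]⟩
    obtain ⟨m, hm, hmT⟩ := hS2.conj hT
    have hmα : m • α = α := (Subgroup.mem_inf.mp hm).2
    have hmβF : m • β ∈ FS Ω T := by
      intro t ht
      have ht' : t ∈ (T.map (MulAut.conj g).toMonoidHom).map (MulAut.conj m).toMonoidHom := by
        rw [← hmT]; exact ht
      obtain ⟨t', ⟨t'', ht'', rfl⟩, rfl⟩ := ht'
      show (m * (g * t'' * g⁻¹) * m⁻¹) • (m • β) = m • β
      rw [mul_smul, inv_smul_smul, mul_smul, mul_smul, mul_smul, hginvβ, hxα t'' ht'', hgβ]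
    rcases hF2 _ hmβF with h | h
    · exfalso
      apply hβ
      have : m • β = m • α := by rw [h, hmα]
      exact (MulAction.injective m) this
    · exact ⟨m, (Subgroup.mem_inf.mp hm).1, hmα, h⟩
  intro β β' hβ hβ'
  obtain ⟨m1, hm1, hm1α, hm1β⟩ := hstep8 β hβ
  obtain ⟨m2, hm2, hm2α, hm2β⟩ := hstep8 β' hβ'
  refine ⟨m2⁻¹ * m1, M.mul_mem (M.inv_mem hm2) hm1, ?_, ?_⟩
  · rw [mul_smul, hm1α, inv_smul_eq_iff, hm2α]
  · rw [mul_smul, hm1β, inv_smul_eq_iff, hm2β]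

end main

end Cfsg.Agent.Lib.Helper8.TwoModFour
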