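import Mathlib
import Cfsg.Agent.Lib.Helper4.TwoTransC
import Cfsg.Agent.Lib.Helper8.TwoModFourB

/-!
Doubly transitive groups of degree `n ≡ 2 (mod 4)`, `n > 2`: the unique minimal normal subgroup is
simple, doubly transitive, and has trivial centralizer.
-/

namespace Cfsg.Agent.Lib.Helper8.TwoModFour

open MulAction

theorem main {G : Type*} [Group G] [Finite G] {Ω : Type*} [Fintype Ω] [MulAction G Ω]
    [FaithfulSMul G Ω] (h2 : IsMultiplyPretransitive G Ω 2) (hn : Fintype.card Ω % 4 = 2)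
    (hn2 : 2 < Fintype.card Ω) :
    ∃ M : Subgroup G, M.Normal ∧ M ≠ ⊥ ∧ (∀ N : Subgroup G, N.Normal → N ≠ ⊥ → M ≤ N) ∧
      IsSimpleGroup ↥M ∧ IsMultiplyPretransitive ↥M Ω 2 ∧
      Subgroup.centralizer (M : Set G) = ⊥ := by
  classical
  have h2' : ∀ {a b c d : Ω}, a ≠ b → c ≠ d → ∃ g : G, g • a = c ∧ g • b = d :=
    is_two_pretransitive_iff.mp h2
  -- G is not trivial
  have htop : (⊤ : Subgroup G) ≠ ⊥ := by
    intro h
    obtain ⟨a, b, hab⟩ := Fintype.exists_pair_of_one_lt_card (α := Ω) (by omega)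
    obtain ⟨g, hg, -⟩ := h2' hab hab.symm
    have hg1 : g ∈ (⊥ : Subgroup G) := h ▸ Subgroup.mem_top g
    rw [Subgroup.mem_bot] at hg1
    rw [hg1, one_smul] at hg
    exact hab hg
  -- a minimal normal subgroup
  obtain ⟨M, hMmin⟩ := Set.Finite.exists_minimal
    (Set.toFinite {K : Subgroup G | K.Normal ∧ K ≠ ⊥}) ⟨⊤, inferInstance, htop⟩
  have hMn : M.Normal := hMmin.1.1
  have hM1 : M ≠ ⊥ := hMmin.1.2
  have hmin : ∀ K : Subgroup G, K.Normal → K ≤ M → K = ⊥ ∨ K = M := by
    intro K hK hKM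
    by_cases hK1 : K = ⊥
    · exact Or.inl hK1
    · exact Or.inr (le_antisymm hKM (hMmin.2 ⟨hK, hK1⟩ hKM))
  -- transitivity of normal subgroups
  have htrans : ∀ N : Subgroup G, N.Normal → N ≠ ⊥ → ∀ a b : Ω, ∃ m ∈ N, m • a = b := by
    intro N hN hN1 a b
    haveI := hN
    haveI := Cfsg.Agent.Lib.Helper4.TwoTransMin.isPretransitive_of_normal N h2 hN1
    obtain ⟨m, hm⟩ := exists_smul_eq ↥N a b
    exact ⟨(m : G), m.2, hm⟩
  have htr := htrans M hMn hM1
  have hnsr : ¬ ∀ m ∈ M, ∀ a : Ω, m • a = a → m = 1 := fun h =>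
    not_semiregular hn hn2 M hmin htr h
  -- uniqueness
  have huniq : ∀ N : Subgroup G, N.Normal → N ≠ ⊥ → M ≤ N := by
    intro N hN hN1
    haveI := hN
    rcases hmin (M ⊓ N) inferInstance inf_le_left with h | h
    · exfalso
      apply hnsr
      intro u hu a hua
      have hcomm := Subgroup.commute_of_normal_of_disjoint N M hN hMn
        (disjoint_iff.mpr (by rw [inf_comm]; exact h))
      exact Cfsg.Agent.Lib.Helper4.TwoTransMin.eq_one_of_commute_transitive N M
        (fun s hs x hx => (hcomm s x hs hx).eq) (htrans N hN hN1) a u hu hua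
    · exact inf_eq_left.mp h
  refine ⟨M, hMn, hM1, huniq, ?_, ?_, ?_⟩
  · -- simple
    rcases Cfsg.Agent.Lib.Helper4.TwoTransMin.burnside M h2 hM1 hmin with h | h
    · exfalso
      apply hnsr
      intro m hm a hma
      have h1 : (⟨m, hm⟩ : ↥M) ∈ stabilizer ↥M a := hma
      rw [h.2.2 a, Subgroup.mem_bot] at h1
      exact congrArg Subtype.val h1
    · exact h.1
  · -- doubly transitive
    rw [is_two_pretransitive_iff]
    intro a b c d hab hcd
    obtain ⟨m1, hm1, hm1a⟩ := htr a c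
    have hne : m1 • b ≠ c := by
      intro h
      rw [← hm1a] at h
      exact hab ((MulAction.injective m1) h).symm
    obtain ⟨m, hm, hmc, hmb⟩ := two_trans_of_normal h2 hn M htr c (m1 • b) d hne hcd.symm
    refine ⟨⟨m * m1, M.mul_mem hm hm1⟩, ?_, ?_⟩
    · show (m * m1) • a = c
      rw [mul_smul, hm1a, hmc]
    · show (m * m1) • b = d
      rw [mul_smul, hmb]
  · -- centralizer
    by_contra hC
    have hle := huniq (Subgroup.centralizer (M : Set G)) inferInstance hC
    apply hnsr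
    intro u hu a hua
    exact Cfsg.Agent.Lib.Helper4.TwoTransMin.eq_one_of_commute_transitive M M
      (fun s hs x hx => Subgroup.mem_centralizer_iff.mp (hle hx) s hs) htr a u hu hua

end Cfsg.Agent.Lib.Helper8.TwoModFour
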