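import Mathlib

/-!
# Permutations of prime order: fixed point counts, conjugacy, existence

(helper8, for S3575.)  `fixN σ` is the number of fixed points of a permutation of a finite type.
For a prime `r`, permutations with `σ ^ r = 1` are classified up to conjugacy by `fixN`.
-/

set_option autoImplicit false

namespace Cfsg.Agent.Lib.Helper8.UPart

open Equiv Finset

section
variable {Ω : Type*} [Fintype Ω] [DecidableEq Ω]

/-- number of fixed points -/
def fixN (σ : Perm Ω) : ℕ := (univ.filter (fun x => σ x = x)).card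

theorem fixN_add_support (σ : Perm Ω) : fixN σ + σ.support.card = Fintype.card Ω := by
  unfold fixN
  have h : σ.support = univ.filter (fun x => ¬ σ x = x) := by
    ext x; simp
  rw [h, Finset.card_filter_add_card_filter_not]
  rfl

theorem fixN_le (σ : Perm Ω) : fixN σ ≤ Fintype.card Ω := by
  have := fixN_add_support σ; omega

theorem fixN_eq_sum (σ : Perm Ω) : fixN σ = ∑ x : Ω, if σ x = x then 1 else 0 := by
  unfold fixN
  rw [Finset.card_filter]

theorem cycleType_of_pow_eq_one {r : ℕ} (hr : r.Prime) (σ : Perm Ω) (hσ : σ ^ r = 1) :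
    σ.cycleType = Multiset.replicate (Multiset.card σ.cycleType) r := by
  rw [Multiset.eq_replicate]
  refine ⟨rfl, fun n hn => ?_⟩
  have h1 : n ∣ orderOf σ := by
    rw [← Equiv.Perm.lcm_cycleType]; exact Multiset.dvd_lcm hn
  have h2 : orderOf σ ∣ r := orderOf_dvd_of_pow_eq_one hσ
  have h3 : 2 ≤ n := Equiv.Perm.two_le_of_mem_cycleType hn
  rcases (Nat.dvd_prime hr).1 (h1.trans h2) with h | h
  · omega
  · exact h

theorem support_card_eq {r : ℕ} (hr : r.Prime) (σ : Perm Ω) (hσ : σ ^ r = 1) :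
    σ.support.card = Multiset.card σ.cycleType * r := by
  rw [← Equiv.Perm.sum_cycleType]
  conv_lhs => rw [cycleType_of_pow_eq_one hr σ hσ]
  rw [Multiset.sum_replicate, smul_eq_mul]

/-- number of `r`-cycles: `fixN σ + m * r = card`. -/
theorem fixN_add_mul {r : ℕ} (hr : r.Prime) (σ : Perm Ω) (hσ : σ ^ r = 1) :
    fixN σ + Multiset.card σ.cycleType * r = Fintype.card Ω := by
  rw [← support_card_eq hr σ hσ]; exact fixN_add_support σ

theorem isConj_of_fixN_eq {r : ℕ} (hr : r.Prime) (σ τ : Perm Ω) (hσ : σ ^ r = 1)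
    (hτ : τ ^ r = 1) (h : fixN σ = fixN τ) : IsConj σ τ := by
  rw [Equiv.Perm.isConj_iff_cycleType_eq, cycleType_of_pow_eq_one hr σ hσ,
    cycleType_of_pow_eq_one hr τ hτ]
  have h1 := fixN_add_mul hr σ hσ
  have h2 := fixN_add_mul hr τ hτ
  have h3 : Multiset.card σ.cycleType * r = Multiset.card τ.cycleType * r := by omega
  rw [Nat.eq_of_mul_eq_mul_right hr.pos h3]

end

section
variable {Ω X : Type*} [Fintype Ω] [DecidableEq Ω] [Fintype X] [DecidableEq X]

theorem fixN_permCongr (e : Ω ≃ X) (σ : Perm Ω) : fixN (e.permCongr σ) = fixN σ := by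
  unfold fixN
  refine (Finset.card_bij (fun x _ => e x) ?_ ?_ ?_).symm
  · intro x hx
    simp only [mem_filter, mem_univ, true_and] at hx ⊢
    simp [Equiv.permCongr_apply, hx]
  · intro x _ y _ hxy; exact e.injective hxy
  · intro y hy
    simp only [mem_filter, mem_univ, true_and] at hy
    refine ⟨e.symm y, ?_, by simp⟩
    simp only [mem_filter, mem_univ, true_and]
    rw [Equiv.permCongr_apply] at hy
    exact e.injective (by simpa using hy)

/-- two permutations (on equinumerous types) of the same prime exponent and the same number of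
fixed points are intertwined by a bijection. -/
theorem exists_equiv_of_fixN_eq {r : ℕ} (hr : r.Prime) (σ : Perm Ω) (τ : Perm X)
    (hc : Fintype.card Ω = Fintype.card X) (hσ : σ ^ r = 1) (hτ : τ ^ r = 1)
    (h : fixN σ = fixN τ) : ∃ e : Ω ≃ X, ∀ x, e (σ x) = τ (e x) := by
  obtain ⟨e₀⟩ : Nonempty (X ≃ Ω) := Fintype.card_eq.1 hc.symm
  set τ' : Perm Ω := e₀.permCongr τ with hτ'
  have h1 : τ' ^ r = 1 := by
    rw [hτ']
    have : (e₀.permCongr τ) ^ r = e₀.permCongr (τ ^ r) := by
      change (e₀.permCongrHom τ) ^ r = e₀.permCongrHom (τ ^ r)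
      rw [map_pow]
    rw [this, hτ]; ext x; simp [Equiv.permCongr_apply]
  have h2 : fixN σ = fixN τ' := by rw [hτ', fixN_permCongr]; exact h
  obtain ⟨g, hg⟩ := isConj_iff.1 (isConj_of_fixN_eq hr σ τ' hσ h1 h2)
  -- g * σ * g⁻¹ = τ'
  refine ⟨g.trans e₀.symm, fun x => ?_⟩
  have h3 : g (σ x) = τ' (g x) := by
    have : (g * σ * g⁻¹) (g x) = τ' (g x) := by rw [hg]
    simpa using this
  simp only [Equiv.trans_apply]
  rw [h3, hτ', Equiv.permCongr_apply]
  simp

end

section
variable {Ω : Type*} [Fintype Ω] [DecidableEq Ω]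

/-- existence of a permutation with `j` cycles of length `r`. -/
theorem exists_perm_fixN {r : ℕ} (hr : r.Prime) (j : ℕ) (hj : j * r ≤ Fintype.card Ω) :
    ∃ σ : Perm Ω, σ ^ r = 1 ∧ fixN σ + j * r = Fintype.card Ω ∧ (1 ≤ j → orderOf σ = r) := by
  obtain ⟨σ, hσ⟩ := (Equiv.Perm.exists_with_cycleType_iff (α := Ω)
    (m := Multiset.replicate j r)).2 ⟨by
      rw [Multiset.sum_replicate, smul_eq_mul]; exact hj, fun a ha => by
      rw [Multiset.eq_of_mem_replicate ha]; exact hr.two_le⟩
  have h1 : orderOf σ ∣ r := by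
    rw [← Equiv.Perm.lcm_cycleType, hσ]
    exact Multiset.lcm_dvd.2 (fun a ha => by rw [Multiset.eq_of_mem_replicate ha])
  have h2 : σ ^ r = 1 := orderOf_dvd_iff_pow_eq_one.1 h1
  refine ⟨σ, h2, ?_, fun h => ?_⟩
  · have := fixN_add_mul hr σ h2
    rw [hσ, Multiset.card_replicate] at this
    exact this
  · rcases (Nat.dvd_prime hr).1 h1 with h3 | h3
    · exfalso
      rw [orderOf_eq_one_iff] at h3
      rw [h3, Equiv.Perm.cycleType_one] at hσ
      have := congrArg Multiset.card hσ
      rw [Multiset.card_replicate, Multiset.card_zero] at this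
      omega
    · exact h3

/-- a permutation of prime order `r` has `j ≥ 1` cycles of length `r`. -/
theorem fixN_of_orderOf {r : ℕ} (hr : r.Prime) (σ : Perm Ω) (hσ : orderOf σ = r) :
    ∃ j, 1 ≤ j ∧ fixN σ + j * r = Fintype.card Ω := by
  have h1 : σ ^ r = 1 := by rw [← hσ]; exact pow_orderOf_eq_one σ
  refine ⟨Multiset.card σ.cycleType, ?_, fixN_add_mul hr σ h1⟩
  rw [Nat.one_le_iff_ne_zero, Ne, Multiset.card_eq_zero, Equiv.Perm.cycleType_eq_zero]
  rintro rfl
  rw [orderOf_one] at hσ
  exact hr.one_lt.ne hσ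

end

end Cfsg.Agent.Lib.Helper8.UPart
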