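import Mathlib
import Cfsg.Agent.Lib.Helper8.UPartA

/-!
# A permutation of prime exponent fixing a uniform partition: necessary condition

(helper8, for S3575.)
-/

set_option autoImplicit false

namespace Cfsg.Agent.Lib.Helper8.UPart

open Equiv Finset

variable {Ω Bk : Type*} [Fintype Ω] [DecidableEq Ω] [Fintype Bk] [DecidableEq Bk]

omit [Fintype Ω] [DecidableEq Ω] [Fintype Bk] [DecidableEq Bk] in
theorem map_pow_apply (σ : Perm Ω) (f : Ω → Bk) (π : Perm Bk)
    (hπ : ∀ x, f (σ x) = π (f x)) (m : ℕ) (x : Ω) : f ((σ ^ m) x) = (π ^ m) (f x) := by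
  induction m generalizing x with
  | zero => simp
  | succ m ih => rw [pow_succ, Perm.mul_apply, ih, hπ, pow_succ, Perm.mul_apply]

/-- fixed points of `σ` inside a `σ`-stable fibre: at least `a % r` of them. -/
theorem mod_le_card_fix_fibre {r : ℕ} (hr : r.Prime) (σ : Perm Ω) (hσ : σ ^ r = 1)
    (p : Ω → Prop) [DecidablePred p] (hp : ∀ x, p x ↔ p (σ x)) :
    (univ.filter p).card % r ≤ ((univ.filter (fun x => σ x = x)).filter p).card := by
  set τ : Perm {x // p x} := σ.subtypePerm (fun x => (hp x).symm) with hτ
  have h1 : τ ^ r = 1 := by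
    rw [hτ, Equiv.Perm.subtypePerm_pow]
    ext ⟨x, hx⟩
    simp [hσ]
  have h2 := fixN_add_mul hr τ h1
  rw [Fintype.card_subtype] at h2
  have h3 : fixN τ = ((univ.filter (fun x => σ x = x)).filter p).card := by
    unfold fixN
    refine Finset.card_bij (fun x _ => x.1) ?_ ?_ ?_
    · rintro ⟨x, hx⟩ hx'
      simp only [mem_filter, mem_univ, true_and] at hx' ⊢
      refine ⟨?_, hx⟩
      have := congrArg Subtype.val hx'
      simpa [hτ] using this
    · intro x _ y _ hxy; exact Subtype.ext hxy
    · intro y hy
      simp only [mem_filter, mem_univ, true_and] at hy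
      refine ⟨⟨y, hy.2⟩, ?_, rfl⟩
      simp only [mem_filter, mem_univ, true_and]
      apply Subtype.ext
      simp [hτ, hy.1]
  rw [← h3, ← h2, Nat.add_mul_mod_self_right]
  exact Nat.mod_le _ _

/-- **Necessity.**  If `σ` (with `σ ^ r = 1`) permutes the fibres of `f`, all of size `a ≥ 1`,
then with `π` the induced permutation of the fibres: `π` has `u` cycles of length `r`, and the
number of fixed points of `σ` lies between `(a % r) * fixN π` and `a * fixN π`. -/
theorem nec {r : ℕ} (hr : r.Prime) (a : ℕ) (ha : 0 < a) (σ : Perm Ω) (hσ : σ ^ r = 1)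
    (f : Ω → Bk) (hf : ∀ j, Fintype.card {x // f x = j} = a)
    (π : Perm Bk) (hπ : ∀ x, f (σ x) = π (f x)) :
    ∃ u, fixN π + u * r = Fintype.card Bk ∧ (a % r) * fixN π ≤ fixN σ ∧
      fixN σ ≤ a * fixN π := by
  have hf' : ∀ j, (univ.filter (fun x => f x = j)).card = a := fun j => by
    rw [← Fintype.card_subtype]; exact hf j
  have hsurj : Function.Surjective f := by
    intro j
    have h1 : (univ.filter (fun x => f x = j)).Nonempty := by
      rw [← Finset.card_pos, hf' j]; exact ha
    obtain ⟨x, hx⟩ := h1
    exact ⟨x, (mem_filter.1 hx).2⟩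
  have hπr : π ^ r = 1 := by
    ext j
    obtain ⟨x, rfl⟩ := hsurj j
    rw [← map_pow_apply σ f π hπ, hσ]; simp
  refine ⟨Multiset.card π.cycleType, fixN_add_mul hr π hπr, ?_⟩
  -- fibrewise count
  have h1 : fixN σ = ∑ j : Bk, ((univ.filter (fun x => σ x = x)).filter (fun x => f x = j)).card := by
    unfold fixN
    exact Finset.card_eq_sum_card_fiberwise (fun x _ => mem_univ _)
  have h2 : ∑ j : Bk, ((univ.filter (fun x => σ x = x)).filter (fun x => f x = j)).card
      = ∑ j ∈ univ.filter (fun j => π j = j),
        ((univ.filter (fun x => σ x = x)).filter (fun x => f x = j)).card := by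
    symm
    apply Finset.sum_filter_of_ne
    intro j _ hj
    obtain ⟨x, hx⟩ := Finset.card_pos.1 (Nat.pos_of_ne_zero hj)
    simp only [mem_filter, mem_univ, true_and] at hx
    rw [← hx.2, ← hπ, hx.1]
  rw [h1, h2]
  constructor
  · have := Finset.card_nsmul_le_sum (univ.filter (fun j => π j = j))
      (fun j => ((univ.filter (fun x => σ x = x)).filter (fun x => f x = j)).card) (a % r) ?_
    · rw [smul_eq_mul, mul_comm] at this
      exact this
    · intro j hj
      simp only [mem_filter, mem_univ, true_and] at hj
      have h3 := mod_le_card_fix_fibre hr σ hσ (fun x => f x = j) (fun x => by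
        rw [hπ]
        constructor
        · intro h; rw [h, hj]
        · intro h; exact π.injective (h.trans hj.symm))
      rw [hf' j] at h3
      exact h3
  · have := Finset.sum_le_card_nsmul (univ.filter (fun j => π j = j))
      (fun j => ((univ.filter (fun x => σ x = x)).filter (fun x => f x = j)).card) a ?_
    · rw [smul_eq_mul, mul_comm] at this
      exact this
    · intro j _
      rw [← hf' j]
      apply Finset.card_le_card
      intro x hx
      simp only [mem_filter, mem_univ, true_and] at hx ⊢
      exact hx.2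

end Cfsg.Agent.Lib.Helper8.UPart
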