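import Mathlib
import Cfsg.Agent.Lib.Helper8.UPartA

/-!
# A model permutation fixing a uniform partition, and the sufficiency criterion

(helper8, for S3575.)  Blocks `(Fin u × Fin r) ⊕ Fin c`: the first summand is `u` cycles of length
`r` of blocks, the second `c` fixed blocks; on the `i`-th fixed block the model acts by a given
permutation `ρ i` of `Fin a`.
-/

set_option autoImplicit false

namespace Cfsg.Agent.Lib.Helper8.UPart

open Equiv Finset

theorem exists_sum_eq (c A : ℕ) : ∀ S : ℕ, S ≤ c * A →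
    ∃ s : Fin c → ℕ, (∀ i, s i ≤ A) ∧ ∑ i, s i = S := by
  induction c with
  | zero =>
    intro S hS
    refine ⟨Fin.elim0, fun i => i.elim0, ?_⟩
    simp at hS ⊢
    exact hS.symm
  | succ c ih =>
    intro S hS
    have h1 : S - min S A ≤ c * A := by
      rw [Nat.succ_mul] at hS
      rcases le_total S A with h | h
      · rw [min_eq_left h]; simp
      · rw [min_eq_right h]; omega
    obtain ⟨s, hs1, hs2⟩ := ih (S - min S A) h1
    refine ⟨Fin.cons (min S A) s, ?_, ?_⟩
    · intro i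
      refine Fin.cases ?_ (fun i => ?_) i
      · simp
      · simp only [Fin.cons_succ]; exact hs1 i
    · rw [Fin.sum_univ_succ]
      simp only [Fin.cons_zero, Fin.cons_succ]
      rw [hs2]
      have : min S A ≤ S := min_le_left _ _
      omega

section model
variable (r a u c : ℕ)

/-- the model permutation of the blocks -/
def mπ : Perm ((Fin u × Fin r) ⊕ Fin c) :=
  Equiv.sumCongr (Equiv.prodCongr (Equiv.refl _) (finRotate r)) (Equiv.refl _)

variable {r a u c}

/-- the action inside the blocks -/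
def mρ (ρ : Fin c → Perm (Fin a)) : (Fin u × Fin r) ⊕ Fin c → Perm (Fin a) :=
  Sum.elim (fun _ => 1) ρ

/-- the model permutation -/
def mτ (ρ : Fin c → Perm (Fin a)) : Perm (((Fin u × Fin r) ⊕ Fin c) × Fin a) :=
  Equiv.prodShear (mπ r u c) (mρ ρ)

theorem mτ_fst (ρ : Fin c → Perm (Fin a)) (x : ((Fin u × Fin r) ⊕ Fin c) × Fin a) :
    (mτ ρ x).1 = mπ r u c x.1 := rfl

theorem mτ_inl (ρ : Fin c → Perm (Fin a)) (t : Fin u) (i : Fin r) (x : Fin a) :
    mτ ρ (Sum.inl (t, i), x) = (Sum.inl (t, finRotate r i), x) := rfl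

theorem mτ_inr (ρ : Fin c → Perm (Fin a)) (i : Fin c) (x : Fin a) :
    mτ (r := r) (u := u) ρ (Sum.inr i, x) = (Sum.inr i, ρ i x) := rfl

theorem mτ_pow_inl (ρ : Fin c → Perm (Fin a)) (m : ℕ) (t : Fin u) (i : Fin r) (x : Fin a) :
    (mτ ρ ^ m) (Sum.inl (t, i), x) = (Sum.inl (t, (finRotate r ^ m) i), x) := by
  induction m with
  | zero => simp
  | succ m ih => rw [pow_succ', Perm.mul_apply, ih, mτ_inl, pow_succ', Perm.mul_apply]

theorem mτ_pow_inr (ρ : Fin c → Perm (Fin a)) (m : ℕ) (i : Fin c) (x : Fin a) :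
    (mτ (r := r) (u := u) ρ ^ m) (Sum.inr i, x) = (Sum.inr i, (ρ i ^ m) x) := by
  induction m with
  | zero => simp
  | succ m ih => rw [pow_succ', Perm.mul_apply, ih, mτ_inr, pow_succ', Perm.mul_apply]

theorem finRotate_pow_self (hr : 2 ≤ r) : (finRotate r) ^ r = 1 := by
  have h : orderOf (finRotate r) = r := by
    rw [← Equiv.Perm.lcm_cycleType, cycleType_finRotate_of_le hr]; simp
  exact orderOf_dvd_iff_pow_eq_one.1 (dvd_of_eq h)

theorem finRotate_ne (hr : 2 ≤ r) (i : Fin r) : finRotate r i ≠ i := by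
  have h := support_finRotate_of_le hr
  have : i ∈ (finRotate r).support := by rw [h]; exact mem_univ _
  exact Equiv.Perm.mem_support.1 this

theorem mτ_pow_r (hr : 2 ≤ r) (ρ : Fin c → Perm (Fin a)) (hρ : ∀ i, ρ i ^ r = 1) :
    mτ (r := r) (u := u) ρ ^ r = 1 := by
  ext ⟨β, x⟩ : 1
  rcases β with ⟨t, i⟩ | i
  · rw [mτ_pow_inl, finRotate_pow_self hr]; rfl
  · rw [mτ_pow_inr, hρ]; rfl

theorem fixN_mτ (hr : 2 ≤ r) (ρ : Fin c → Perm (Fin a)) :
    fixN (mτ (r := r) (u := u) ρ) = ∑ i, fixN (ρ i) := by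
  rw [fixN_eq_sum, Fintype.sum_prod_type, Fintype.sum_sum_type]
  have h1 : ∀ p : Fin u × Fin r, (∑ x : Fin a,
      if mτ ρ (Sum.inl p, x) = (Sum.inl p, x) then 1 else 0) = 0 := by
    rintro ⟨t, i⟩
    apply Finset.sum_eq_zero
    intro x _
    rw [mτ_inl, if_neg]
    intro h
    have h2 := congrArg Prod.fst h
    simp only [Sum.inl.injEq, Prod.mk.injEq, true_and] at h2
    exact finRotate_ne hr i h2
  rw [Finset.sum_congr rfl (fun p _ => h1 p), Finset.sum_const_zero, zero_add]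
  refine Finset.sum_congr rfl (fun i _ => ?_)
  rw [fixN_eq_sum]
  refine Finset.sum_congr rfl (fun x _ => ?_)
  rw [mτ_inr]
  simp only [Prod.mk.injEq, true_and]

end model

/-- fibres of the first projection -/
def fibreEquiv {B F : Type*} (β₀ : B) : {y : B × F // y.1 = β₀} ≃ F where
  toFun y := y.1.2
  invFun m := ⟨(β₀, m), rfl⟩
  left_inv := by rintro ⟨⟨b, m⟩, rfl⟩; rfl
  right_inv _ := rfl

/-- **Sufficiency.**  If `σ ^ r = 1` and the number of fixed points of `σ` is
`a * c - S * r` with `S ≤ c * (a / r)`, where the number of blocks is `u * r + c`,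
then `σ` permutes the blocks of some partition into blocks of size `a`. -/
theorem suf {Ω Bk : Type*} [Fintype Ω] [DecidableEq Ω] [Fintype Bk] [DecidableEq Bk]
    {r : ℕ} (hr : r.Prime) (a : ℕ) (σ : Perm Ω) (hσ : σ ^ r = 1) (u c : ℕ)
    (hΩ : Fintype.card Ω = a * Fintype.card Bk) (hBk : Fintype.card Bk = u * r + c)
    (S : ℕ) (hS : S ≤ c * (a / r)) (hfix : fixN σ + S * r = a * c) :
    ∃ f : Ω → Bk, (∀ j, Fintype.card {x // f x = j} = a) ∧
      ∃ π : Perm Bk, ∀ x, f (σ x) = π (f x) := by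
  obtain ⟨s, hs1, hs2⟩ := exists_sum_eq c (a / r) S hS
  have hs3 : ∀ i, s i * r ≤ Fintype.card (Fin a) := fun i => by
    rw [Fintype.card_fin]
    exact (Nat.le_div_iff_mul_le hr.pos).1 (hs1 i)
  choose ρ hρ1 hρ2 _ using fun i => exists_perm_fixN (Ω := Fin a) hr (s i) (hs3 i)
  have hτ1 : mτ (r := r) (u := u) ρ ^ r = 1 := mτ_pow_r hr.two_le ρ hρ1
  have hτ2 : fixN (mτ (r := r) (u := u) ρ) + S * r = a * c := by
    rw [fixN_mτ hr.two_le, ← hs2, Finset.sum_mul, ← Finset.sum_add_distrib]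
    rw [Finset.sum_congr rfl (fun i _ => hρ2 i)]
    simp [mul_comm]
  have hc : Fintype.card Ω = Fintype.card (((Fin u × Fin r) ⊕ Fin c) × Fin a) := by
    rw [hΩ, hBk]; simp [mul_comm]
  obtain ⟨e, he⟩ := exists_equiv_of_fixN_eq hr σ (mτ (r := r) (u := u) ρ) hc hσ hτ1 (by omega)
  obtain ⟨eB⟩ : Nonempty (((Fin u × Fin r) ⊕ Fin c) ≃ Bk) := Fintype.card_eq.1 (by
    rw [hBk]; simp)
  refine ⟨fun x => eB (e x).1, fun j => ?_, eB.symm.trans ((mπ r u c).trans eB), fun x => ?_⟩
  · have e1 : {x // eB (e x).1 = j} ≃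
        {y : ((Fin u × Fin r) ⊕ Fin c) × Fin a // y.1 = eB.symm j} :=
      Equiv.subtypeEquiv e (fun x => by
        constructor
        · intro h; rw [← h]; simp
        · intro h; rw [h]; simp)
    rw [Fintype.card_congr (e1.trans (fibreEquiv _)), Fintype.card_fin]
  · simp only [Equiv.trans_apply, Equiv.symm_apply_apply]
    rw [he, mτ_fst]

end Cfsg.Agent.Lib.Helper8.UPart
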