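import Mathlib

/-!
# Arithmetic for S3575 (helper8)

With `a = A * r + ℓ`, `b = B * r + k`: the numbers `j` of `r`-cycles covered by some number `u` of
`r`-cycles of blocks.
-/

set_option autoImplicit false

namespace Cfsg.Agent.Lib.Helper8.UPart

/-- the condition, in terms of quotients and remainders -/
def Cond (r A B ℓ k : ℕ) : Prop :=
  1 ≤ A ∧ (ℓ = 0 ∨ (k * ℓ < r ∧ (B = 0 ∨ ℓ ≤ k * A + 1)))

theorem arith_suf (r A B ℓ k : ℕ) (hr : 2 ≤ r)
    (h : Cond r A B ℓ k) (j : ℕ) (hj : j * r ≤ (A * r + ℓ) * (B * r + k)) :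
    ∃ u c, B * r + k = u * r + c ∧ (A * r + ℓ) * u ≤ j ∧ j ≤ (A * r + ℓ) * u + c * A := by
  obtain ⟨hA, h⟩ := h
  have hrpos : 0 < r := by omega
  rcases h with h | ⟨h1, h2⟩
  · subst h
    refine ⟨0, B * r + k, by ring, by simp, ?_⟩
    have h3 : j * r ≤ ((B * r + k) * A) * r := by
      calc j * r ≤ (A * r + 0) * (B * r + k) := hj
        _ = _ := by ring
    have := Nat.le_of_mul_le_mul_right h3 hrpos
    simpa using this
  · have hj1 : j ≤ A * (B * r + k) + ℓ * B := by
      have h3 : j * r < (A * (B * r + k) + ℓ * B + 1) * r := by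
        calc j * r ≤ (A * r + ℓ) * (B * r + k) := hj
          _ = (A * (B * r + k) + ℓ * B) * r + k * ℓ := by ring
          _ < (A * (B * r + k) + ℓ * B) * r + r := by omega
          _ = _ := by ring
      have := Nat.lt_of_mul_lt_mul_right h3
      omega
    by_cases hj2 : j ≤ A * (B * r + k)
    · refine ⟨0, B * r + k, by ring, by simp, ?_⟩
      simp only [mul_zero, zero_add]
      rw [mul_comm]; exact hj2
    · push Not at hj2
      obtain ⟨d, hd⟩ : ∃ d, j = A * (B * r + k) + d + 1 := ⟨j - A * (B * r + k) - 1, by omega⟩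
      have hℓpos : 0 < ℓ := by
        rcases Nat.eq_zero_or_pos ℓ with h0 | h0
        · subst h0; omega
        · exact h0
      have hBpos : B ≠ 0 := by
        rintro rfl; omega
      have h3 : ℓ ≤ k * A + 1 := h2.resolve_left hBpos
      have hq1 : ℓ * (d / ℓ) + d % ℓ = d := Nat.div_add_mod _ _
      have hq2 : d % ℓ < ℓ := Nat.mod_lt _ hℓpos
      set q := d / ℓ with hq
      set m := d % ℓ with hm
      have hqB : q < B := by
        have h4 : ℓ * q < ℓ * B := by omega
        exact Nat.lt_of_mul_lt_mul_left h4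
      obtain ⟨e, he⟩ : ∃ e, B = (q + 1) + e := ⟨B - (q + 1), by omega⟩
      refine ⟨q + 1, e * r + k, by rw [he]; ring, ?_, ?_⟩
      · rw [hd, he, ← hq1]
        nlinarith [Nat.zero_le (A * r * e), Nat.zero_le m, h3]
      · rw [hd, he, ← hq1]
        nlinarith [hq2]

/-- consequences of the necessary inequalities -/
theorem arith_aux (r A ℓ b : ℕ) (hr : 0 < r) (j u c : ℕ) (h1 : c + u * r = b)
    (h2 : ℓ * c + j * r ≤ (A * r + ℓ) * b) : j ≤ A * b + ℓ * u := by
  subst h1
  have h3 : j * r ≤ (A * (c + u * r) + ℓ * u) * r := by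
    have : (A * r + ℓ) * (c + u * r) = ℓ * c + (A * (c + u * r) + ℓ * u) * r := by ring
    rw [this] at h2
    omega
  exact Nat.le_of_mul_le_mul_right h3 hr

theorem arith_aux2 (r B k : ℕ) (hk : k < r) (u c : ℕ) (h1 : c + u * r = B * r + k) :
    u ≤ B := by
  have h2 : u * r < (B + 1) * r := by
    calc u * r ≤ B * r + k := by omega
      _ < B * r + r := by omega
      _ = (B + 1) * r := by ring
  have := Nat.lt_of_mul_lt_mul_right h2
  omega

theorem arith_nec (r A B ℓ k : ℕ) (hr : 2 ≤ r) (hk : k < r)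
    (ha : 2 ≤ A * r + ℓ) (hrab : r ≤ (A * r + ℓ) * (B * r + k))
    (H : ∀ j, 1 ≤ j → j * r ≤ (A * r + ℓ) * (B * r + k) →
      ∃ u c, c + u * r = B * r + k ∧ ℓ * c + j * r ≤ (A * r + ℓ) * (B * r + k) ∧
        (A * r + ℓ) * (B * r + k) ≤ (A * r + ℓ) * c + j * r) : Cond r A B ℓ k := by
  have hrpos : 0 < r := by omega
  refine ⟨?_, ?_⟩
  · by_contra hA
    have hA0 : A = 0 := by omega
    subst hA0
    obtain ⟨u, c, h1, h2, h3⟩ := H 1 le_rfl (by simpa using hrab)
    simp only [zero_mul, zero_add, one_mul] at h1 h2 h3 ha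
    rw [← h1] at h2 h3
    have h4 : ℓ * (c + u * r) = ℓ * c + r := le_antisymm h3 h2
    have h5 : (ℓ * u) * r = 1 * r := by
      have : ℓ * (c + u * r) = ℓ * c + (ℓ * u) * r := by ring
      omega
    have h6 : ℓ * u = 1 := Nat.eq_of_mul_eq_mul_right hrpos h5
    have h7 : ℓ ∣ 1 := ⟨u, h6.symm⟩
    have := Nat.le_of_dvd one_pos h7
    omega
  · by_cases hℓ0 : ℓ = 0
    · exact Or.inl hℓ0
    right
    have hℓpos : 1 ≤ ℓ := Nat.one_le_iff_ne_zero.2 hℓ0
    have hab : (A * r + ℓ) * (B * r + k) = (A * (B * r + k) + ℓ * B) * r + k * ℓ := by ring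
    refine ⟨?_, ?_⟩
    · by_contra hkl
      push Not at hkl
      obtain ⟨u, c, h1, h2, _⟩ := H (A * (B * r + k) + ℓ * B + 1) (by omega) (by
        rw [hab]
        have : (A * (B * r + k) + ℓ * B + 1) * r = (A * (B * r + k) + ℓ * B) * r + r := by ring
        omega)
      have h4 := arith_aux r A ℓ (B * r + k) hrpos _ u c h1 h2
      have h5 := arith_aux2 r B k hk u c h1
      have h6 : ℓ * u ≤ ℓ * B := Nat.mul_le_mul_left _ h5
      omega
    · by_cases hB0 : B = 0
      · exact Or.inl hB0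
      right
      obtain ⟨B', rfl⟩ : ∃ B', B = B' + 1 := ⟨B - 1, by omega⟩
      obtain ⟨u, c, h1, h2, h3⟩ := H (A * ((B' + 1) * r + k) + ℓ * B' + 1) (by omega) (by
        rw [hab]
        have e1 : (A * ((B' + 1) * r + k) + ℓ * B' + 1) * r
          = (A * ((B' + 1) * r + k) + ℓ * B') * r + r := by ring
        have e2 : (A * ((B' + 1) * r + k) + ℓ * (B' + 1)) * r
          = (A * ((B' + 1) * r + k) + ℓ * B') * r + ℓ * r := by ring
        have e3 : r ≤ ℓ * r := Nat.le_mul_of_pos_left r hℓpos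
        omega)
      have h4 := arith_aux r A ℓ ((B' + 1) * r + k) hrpos _ u c h1 h2
      have h5 := arith_aux2 r (B' + 1) k hk u c h1
      have h6 : B' < u := by
        by_contra h7
        push Not at h7
        have : ℓ * u ≤ ℓ * B' := Nat.mul_le_mul_left _ h7
        omega
      have hu : u = B' + 1 := by omega
      subst hu
      have hc : c = k := by omega
      subst hc
      -- third inequality
      have h7 : (A * r + ℓ) * (B' + 1) * r ≤ (A * ((B' + 1) * r + c) + ℓ * B' + 1) * r := by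
        have e1 : (A * r + ℓ) * ((B' + 1) * r + c)
          = (A * r + ℓ) * c + (A * r + ℓ) * (B' + 1) * r := by ring
        omega
      have h8 := Nat.le_of_mul_le_mul_right h7 hrpos
      nlinarith [h8]

/-- translation of the condition -/
theorem cond_iff (a b r : ℕ) (hr : 2 ≤ r) (hb : 2 ≤ b) :
    Cond r (a / r) (b / r) (a % r) (b % r) ↔
      (r ≤ a ∧ (a % r = 0 ∨ (b % r = 0 ∧ a % r = 1) ∨
        (a % r ≠ 0 ∧ b % r ≠ 0 ∧ (b % r) * (a % r) < r ∧
          (b < r ∨ (b % r + r) * (a % r) ≤ (b % r) * a + r)))) := by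
  have hrpos : 0 < r := by omega
  have hA : 1 ≤ a / r ↔ r ≤ a := by
    rw [Nat.le_div_iff_mul_le hrpos, one_mul]
  have hB : b / r = 0 ↔ b < r := by
    rw [Nat.div_eq_zero_iff]; omega
  have ha' : r * (a / r) + a % r = a := Nat.div_add_mod a r
  have hb' : r * (b / r) + b % r = b := Nat.div_add_mod b r
  set A := a / r
  set B := b / r
  set ℓ := a % r
  set k := b % r
  have hE : (k + r) * ℓ ≤ k * a + r ↔ ℓ ≤ k * A + 1 := by
    have e1 : k * a + r = k * ℓ + r * (k * A + 1) := by rw [← ha']; ring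
    have e2 : (k + r) * ℓ = k * ℓ + r * ℓ := by ring
    rw [e1, e2]
    constructor
    · intro h
      have : r * ℓ ≤ r * (k * A + 1) := by omega
      exact Nat.le_of_mul_le_mul_left this hrpos
    · intro h
      have : r * ℓ ≤ r * (k * A + 1) := Nat.mul_le_mul_left _ h
      omega
  unfold Cond
  rw [hA, hB, ← hE]
  constructor
  · rintro ⟨h1, h2⟩
    refine ⟨h1, ?_⟩
    rcases h2 with h2 | ⟨h2, h3⟩
    · exact Or.inl h2
    by_cases hℓ : ℓ = 0
    · exact Or.inl hℓ
    by_cases hk0 : k = 0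
    · right; left
      refine ⟨hk0, ?_⟩
      rcases h3 with h3 | h3
      · exfalso
        rw [hk0] at hb'
        have : r * B = 0 := by
          rcases Nat.eq_zero_or_pos B with h | h
          · rw [h]; simp
          · have : r * 1 ≤ r * B := Nat.mul_le_mul_left _ h
            omega
        omega
      · rw [hk0] at h3
        simp only [zero_add, zero_mul] at h3
        have : r * ℓ ≤ r * 1 := by omega
        have := Nat.le_of_mul_le_mul_left this hrpos
        omega
    · right; right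
      exact ⟨hℓ, hk0, h2, h3⟩
  · rintro ⟨h1, h2⟩
    refine ⟨h1, ?_⟩
    rcases h2 with h2 | ⟨h2, h3⟩ | ⟨h2, h3, h4, h5⟩
    · exact Or.inl h2
    · right
      rw [h2, h3]
      refine ⟨by omega, Or.inr ?_⟩
      simp
    · right
      exact ⟨h4, h5⟩

/-- `(a!)^b * b!` divides `(a*b)!`. -/
theorem factorial_pow_mul_factorial_dvd (a : ℕ) (ha : 0 < a) :
    ∀ b : ℕ, a.factorial ^ b * b.factorial ∣ (a * b).factorial := by
  intro b
  induction b with
  | zero => simp
  | succ b ih =>
    obtain ⟨a', rfl⟩ : ∃ a', a = a' + 1 := ⟨a - 1, by omega⟩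
    -- (n+1) * choose n k = choose (n+1) (k+1) * (k+1)
    have h1 := Nat.add_one_mul_choose_eq ((a' + 1) * b + a') a'
    have h2 : (a' + 1) * b + a' + 1 = (a' + 1) * (b + 1) := by
      ring
    rw [h2] at h1
    have h3 : ((a' + 1) * (b + 1)).choose (a' + 1) = (b + 1) * ((a' + 1) * b + a').choose a' := by
      have : (a' + 1) * ((b + 1) * ((a' + 1) * b + a').choose a')
          = (a' + 1) * ((a' + 1) * (b + 1)).choose (a' + 1) := by
        calc (a' + 1) * ((b + 1) * ((a' + 1) * b + a').choose a')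
            = (a' + 1) * (b + 1) * ((a' + 1) * b + a').choose a' := by ring
          _ = ((a' + 1) * (b + 1)).choose (a' + 1) * (a' + 1) := h1
          _ = _ := by ring
      exact (Nat.eq_of_mul_eq_mul_left (Nat.succ_pos a') this).symm
    have h4 : a' + 1 ≤ (a' + 1) * (b + 1) := Nat.le_mul_of_pos_right _ (Nat.succ_pos b)
    have h5 := Nat.choose_mul_factorial_mul_factorial h4
    have h6 : (a' + 1) * (b + 1) - (a' + 1) = (a' + 1) * b := by
      rw [Nat.mul_succ]; omega
    rw [h6, h3] at h5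
    rw [← h5]
    obtain ⟨t, ht⟩ := ih
    rw [ht, pow_succ, Nat.factorial_succ b]
    exact ⟨((a' + 1) * b + a').choose a' * t, by ring⟩

end Cfsg.Agent.Lib.Helper8.UPart
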